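import Cfsg.Agent.Lib.Invol.IsolatedFactor

/-! Subgroups of odd order normalised by an element of order two. -/

set_option autoImplicit false
set_option linter.unusedSectionVars false

namespace Cfsg.Agent.Lie.RankOne

variable {M : Type*} [Group M] [Finite M]

theorem odd_of_mem {X : Subgroup M} (hodd : Odd (Nat.card X)) {x : M} (hx : x ∈ X) :
    Odd (orderOf x) :=
  hodd.of_dvd_nat (by rw [← Subgroup.orderOf_mk x hx]; exact orderOf_dvd_natCard _)

theorem exists_sqrt {X : Subgroup M} (hodd : Odd (Nat.card X)) {w : M} (hw : w ∈ X) :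
    ∃ j : ℕ, w ^ j * w ^ j = w := by
  obtain ⟨k, hk⟩ := odd_of_mem hodd hw
  refine ⟨k + 1, ?_⟩
  rw [← pow_add, show k + 1 + (k + 1) = 2 * k + 1 + 1 by ring, pow_succ, ← hk, pow_orderOf_eq_one,
    one_mul]

theorem eq_one_of_sq {X : Subgroup M} (hodd : Odd (Nat.card X)) {w : M} (hw : w ∈ X)
    (h : w * w = 1) : w = 1 :=
  Invol.eq_of_sq_eq (odd_of_mem hodd hw) (l := 1) (by simp) (by rw [h, one_mul])

/-- In a group of odd order only the identity is conjugate to its inverse. -/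
theorem eq_one_of_conj_inv {X : Subgroup M} (hodd : Odd (Nat.card X)) {c y : M} (hc : c ∈ X)
    (hy : y ∈ X) (h : c * y * c⁻¹ = y⁻¹) : y = 1 := by
  obtain ⟨j, hj⟩ := exists_sqrt hodd hc
  have h2 : (c * c) * y = y * (c * c) := by
    calc (c * c) * y = c * (c * y * c⁻¹) * c⁻¹ * (c * c) := by group
      _ = c * y⁻¹ * c⁻¹ * (c * c) := by rw [h]
      _ = (c * y * c⁻¹)⁻¹ * (c * c) := by group
      _ = y * (c * c) := by rw [h, inv_inv]
  have h3 : Commute c y := by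
    have h4 : c = (c * c) ^ j := by
      rw [← pow_two, ← pow_mul, mul_comm, pow_mul, pow_two]
      calc c = c ^ j * c ^ j := hj.symm
        _ = _ := by group
    rw [h4]
    exact Commute.pow_left h2 _
  refine eq_one_of_sq hodd hy ?_
  rw [h3.eq, mul_inv_cancel_right] at h
  exact mul_eq_one_iff_eq_inv.2 h

variable {t : M} {X : Subgroup M}

theorem split_exists (ht : t * t = 1) (hodd : Odd (Nat.card X)) (hn : ∀ x ∈ X, t * x * t ∈ X)
    {x : M} (hx : x ∈ X) :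
    ∃ y z : M, y ∈ X ∧ t * y = y * t ∧ z ∈ X ∧ t * z * t = z⁻¹ ∧ x = y * z := by
  have hti : t⁻¹ = t := inv_eq_of_mul_eq_one_right ht
  set w := (t * x * t)⁻¹ * x with hw
  have hwX : w ∈ X := mul_mem (inv_mem (hn x hx)) hx
  obtain ⟨j, hj⟩ := exists_sqrt hodd hwX
  have hwi : t * w * t = w⁻¹ := by
    calc t * w * t = t * t * (x⁻¹ * (t * x * t)) := by rw [hw, mul_inv_rev, mul_inv_rev, hti]; group
      _ = w⁻¹ := by rw [ht, hw, one_mul]; group
  have hzi : t * w ^ j * t = (w ^ j)⁻¹ := by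
    calc t * w ^ j * t = t * w ^ j * t⁻¹ := by rw [hti]
      _ = (t * w * t⁻¹) ^ j := conj_pow.symm
      _ = (w ^ j)⁻¹ := by rw [hti, hwi, inv_pow]
  refine ⟨x * (w ^ j)⁻¹, w ^ j, mul_mem hx (inv_mem (pow_mem hwX j)), ?_, pow_mem hwX j, hzi,
    by group⟩
  have e : t * (x * (w ^ j)⁻¹) * t = x * (w ^ j)⁻¹ := by
    calc t * (x * (w ^ j)⁻¹) * t = (t * x * t) * (t * w ^ j * t)⁻¹ := by
          rw [mul_inv_rev, mul_inv_rev, hti]
          calc _ = t * x * (t * t) * (w ^ j)⁻¹ * t := by rw [ht]; group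
            _ = _ := by group
      _ = x * w⁻¹ * w ^ j := by rw [hzi, inv_inv, hw]; group
      _ = x * (w ^ j * w ^ j)⁻¹ * w ^ j := by rw [hj]
      _ = _ := by group
  calc t * (x * (w ^ j)⁻¹) = t * (x * (w ^ j)⁻¹) * (t * t) := by rw [ht, mul_one]
    _ = _ := by rw [← mul_assoc, e]

theorem split_unique (ht : t * t = 1) (hodd : Odd (Nat.card X)) {y₁ y₂ z₁ z₂ : M}
    (h1 : t * y₁ = y₁ * t) (h2 : t * y₂ = y₂ * t) (hz₁ : z₁ ∈ X) (hz₂ : z₂ ∈ X)
    (hi₁ : t * z₁ * t = z₁⁻¹) (hi₂ : t * z₂ * t = z₂⁻¹) (h : y₁ * z₁ = y₂ * z₂) :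
    z₁ = z₂ ∧ y₁ = y₂ := by
  have e : ∀ {y z : M}, t * y = y * t → t * z * t = z⁻¹ →
      (t * (y * z) * t)⁻¹ * (y * z) = z * z := by
    intro y z hy hz
    rw [← mul_assoc t y z, hy, mul_assoc (y * t) z t, mul_assoc y t (z * t), ← mul_assoc t z t, hz]
    group
  have hz : z₁ = z₂ := Invol.eq_of_sq_eq (odd_of_mem hodd hz₁) (odd_of_mem hodd hz₂)
    (by rw [← e h1 hi₁, ← e h2 hi₂, h])
  subst hz
  exact ⟨rfl, mul_right_cancel h⟩

end Cfsg.Agent.Lie.RankOne
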