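import Cfsg.Agent.Lib.Grp.FrobeniusTheorem
import Cfsg.Agent.Lib.Lie.RankOneOdd
import Cfsg.Prelude.Def_LieExceptional

/-! Normal subgroups of Zassenhaus groups. -/

set_option autoImplicit false
set_option linter.unusedSectionVars false

namespace Cfsg.Agent.Lie.ZPerm

open MulAction

universe u v

variable {G : Type u} {Ω : Type v} [Group G] [MulAction G Ω] [Finite Ω]
  (hZ : Cfsg.IsZassenhausGroup G Ω)

include hZ

theorem finite_group : Finite G :=
  have := hZ.1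
  Finite.of_injective (MulAction.toPermHom G Ω) MulAction.toPerm_injective

theorem faithful_eq {g : G} (h : ∀ x : Ω, g • x = x) : g = 1 :=
  have := hZ.1
  FaithfulSMul.eq_of_smul_eq_smul fun x => by rw [h x, one_smul]

theorem eq_of_fix {g : G} (hg : g ≠ 1) {x y z : Ω} (hxy : x ≠ y) (hx : g • x = x) (hy : g • y = y)
    (hz : g • z = z) : z = x ∨ z = y := by
  by_contra h
  push Not at h
  exact hg (hZ.2.2.1 g x y z hxy h.2.symm h.1.symm hx hy hz)

theorem normal_transitive (N : Subgroup G) [N.Normal] (hN : N ≠ ⊥) :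
    IsPretransitive N Ω := by
  have := MulAction.isPreprimitive_of_is_two_pretransitive hZ.2.1
  have : IsQuasiPreprimitive G Ω := inferInstance
  refine IsQuasiPreprimitive.isPretransitive_of_normal (N := N) fun h => ?_
  obtain ⟨⟨n, hn⟩, hn1⟩ := Subgroup.ne_bot_iff_exists_ne_one.1 hN
  refine hn1 (Subtype.ext (faithful_eq hZ fun x => ?_))
  exact (h.symm ▸ Set.mem_univ x : x ∈ MulAction.fixedPoints N Ω) ⟨n, hn⟩

theorem exists_moving (N : Subgroup G) [N.Normal] (hN : N ≠ ⊥) (b c : Ω) :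
    ∃ n ∈ N, n • b = c := by
  obtain ⟨n, hn⟩ := (normal_transitive hZ N hN).exists_smul_eq b c
  exact ⟨n, n.2, hn⟩

theorem stab_ne_one (N : Subgroup G) [hNn : N.Normal] (hN : N ≠ ⊥) (a : Ω) :
    ∃ n ∈ N, n ≠ 1 ∧ n • a = a := by
  obtain ⟨b, hb⟩ := hZ.2.2.2.2 N hNn (normal_transitive hZ N hN)
  obtain ⟨⟨⟨n, hn⟩, hnb⟩, hn1⟩ := Subgroup.ne_bot_iff_exists_ne_one.1 hb
  obtain ⟨g, hg, hgb⟩ := exists_moving hZ N hN b a
  refine ⟨g * n * g⁻¹, mul_mem (mul_mem hg hn) (inv_mem hg), fun h => hn1 ?_, ?_⟩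
  · exact Subtype.ext (Subtype.ext (conj_eq_one_iff.1 h))
  · rw [mul_smul, mul_smul, inv_smul_eq_iff.2 hgb.symm]
    have : n • b = b := hnb
    rw [this, hgb]

theorem exists_two_fix (N : Subgroup G) [hNn : N.Normal] (hN : N ≠ ⊥) :
    ∃ n ∈ N, n ≠ 1 ∧ ∃ a b : Ω, a ≠ b ∧ n • a = a ∧ n • b = b := by
  by_contra hcon
  push Not at hcon
  have := finite_group hZ
  have := Fintype.ofFinite N
  have := hZ.1
  obtain ⟨-, -, a, b, hab, -, -⟩ := hZ.2.2.2.1
  obtain ⟨m, hm, hm1, hma⟩ := stab_ne_one hZ N hN a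
  obtain ⟨k, hk, hka⟩ := exists_moving hZ N hN a b
  set H : Subgroup N := stabilizer N a with hHdef
  have hH : Cfsg.IsFrobeniusComplement H := by
    refine ⟨fun h => hm1 ?_, fun h => hab ?_, fun g hg => ?_⟩
    · have : (⟨m, hm⟩ : N) ∈ H := mem_stabilizer_iff.2 hma
      rw [h, Subgroup.mem_bot] at this
      exact congrArg Subtype.val this
    · have : (⟨k, hk⟩ : N) ∈ H := h ▸ Subgroup.mem_top _
      exact (mem_stabilizer_iff.1 this).symm.trans hka
    · refine (Subgroup.eq_bot_iff_forall _).2 fun x hx => ?_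
      obtain ⟨hxa, hxg⟩ := Subgroup.mem_inf.1 hx
      rw [Frob.mem_smul_conj_iff, mem_stabilizer_iff, mul_smul, mul_smul, inv_smul_eq_iff] at hxg
      by_contra hx1
      exact hcon x x.2 (fun h => hx1 (Subtype.ext h)) a ((g : G) • a)
        (fun h => hg (mem_stabilizer_iff.2 h.symm)) (mem_stabilizer_iff.1 hxa) hxg
  obtain ⟨M, hM, hMn, hMc, -⟩ := Grp.frobenius_kernel_spec hH
  have hchar : ∀ x : N, x ∈ M ↔ (x = 1 ∨ ∀ c : Ω, (x : G) • c ≠ c) := fun x => by
    rw [← SetLike.mem_coe, hM, Frob.mem_kernel_iff]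
    refine or_congr_right ⟨fun h c hc => ?_, fun h g hg => ?_⟩
    · obtain ⟨g, hg, hgc⟩ := exists_moving hZ N hN a c
      refine h ⟨g, hg⟩ (mem_stabilizer_iff.2 ?_)
      show (g⁻¹ * (x : G) * g) • a = a
      rw [mul_smul, mul_smul, hgc, hc, ← hgc, inv_smul_smul]
    · have h1 : (g⁻¹ * x * g) • a = a := mem_stabilizer_iff.1 hg
      rw [mul_smul, mul_smul, inv_smul_eq_iff] at h1
      exact h _ h1
  set M' : Subgroup G := M.map N.subtype with hM'
  have hMn' : M'.Normal := ⟨fun x hx g => by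
    obtain ⟨y, hy, rfl⟩ := Subgroup.mem_map.1 hx
    refine Subgroup.mem_map.2 ⟨⟨g * y * g⁻¹, hNn.conj_mem y y.2 g⟩, (hchar _).2 ?_, rfl⟩
    rcases (hchar y).1 hy with rfl | h
    · exact Or.inl (Subtype.ext (by simp))
    · refine Or.inr fun c hc => h (g⁻¹ • c) ?_
      have hc' : (g * (y : G) * g⁻¹) • c = c := hc
      rw [mul_smul, mul_smul] at hc'
      exact smul_left_cancel g (by rw [hc', smul_inv_smul])⟩
  have hpre : IsPretransitive M' Ω := by
    have key : ∀ c : Ω, ∃ z ∈ M', z • a = c := fun c => by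
      obtain ⟨g, hg, hgc⟩ := exists_moving hZ N hN a c
      obtain ⟨⟨⟨x, hx⟩, ⟨y, hy⟩⟩, hxy⟩ := hMc.2 ⟨g, hg⟩
      refine ⟨(x : G), ⟨x, hx, rfl⟩, ?_⟩
      have h1 : (x : G) * (y : G) = g := congrArg Subtype.val hxy
      rw [← hgc, ← h1, mul_smul]
      exact congrArg ((x : G) • ·) (mem_stabilizer_iff.1 hy).symm
    refine ⟨fun c d => ?_⟩
    obtain ⟨z, hz, hzc⟩ := key c
    obtain ⟨w, hw, hwd⟩ := key d
    exact ⟨⟨w * z⁻¹, mul_mem hw (inv_mem hz)⟩, by
      show (w * z⁻¹) • c = d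
      rw [mul_smul, ← hzc, inv_smul_smul, hwd]⟩
  obtain ⟨c, hc⟩ := hZ.2.2.2.2 M' hMn' hpre
  refine hc ((Subgroup.eq_bot_iff_forall _).2 fun x hx => ?_)
  obtain ⟨y, hy, hyx⟩ := Subgroup.mem_map.1 x.2
  have hxc : (x : G) • c = c := mem_stabilizer_iff.1 hx
  rcases (hchar y).1 hy with rfl | h
  · exact Subtype.ext hyx.symm
  · exact absurd (show (y : G) • c = c by
      rw [show (y : G) = x from hyx, hxc]) (h c)

theorem two_fix (N : Subgroup G) [hNn : N.Normal] (hN : N ≠ ⊥) {a b : Ω} (hab : a ≠ b) :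
    ∃ n ∈ N, n ≠ 1 ∧ n • a = a ∧ n • b = b := by
  obtain ⟨n, hn, hn1, c, d, hcd, hc, hd⟩ := exists_two_fix hZ N hN
  obtain ⟨g, rfl, rfl⟩ := is_two_pretransitive_iff.1 hZ.2.1 hcd hab
  exact ⟨g * n * g⁻¹, hNn.conj_mem n hn g, fun h => hn1 (conj_eq_one_iff.1 h),
    by rw [mul_smul, mul_smul, inv_smul_smul, hc], by rw [mul_smul, mul_smul, inv_smul_smul, hd]⟩

theorem stab_transitive (N : Subgroup G) [hNn : N.Normal] (hN : N ≠ ⊥) {a b c : Ω} (hb : b ≠ a)
    (hc : c ≠ a) : ∃ n ∈ N, n • a = a ∧ n • b = c := by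
  classical
  have := finite_group hZ
  set A : Subgroup G := N ⊓ stabilizer G a with hA
  by_contra hcon
  have hco : c ∉ orbit A b := by
    rintro ⟨n, hn⟩
    exact hcon ⟨n, n.2.1, mem_stabilizer_iff.1 n.2.2, hn⟩
  have hmem : ∀ {x : Ω}, x ∈ orbit A b ∨ x ∈ orbit A c → x ≠ a := by
    rintro x (⟨n, rfl⟩ | ⟨n, rfl⟩) h
    · exact hb (smul_left_cancel (n : G) (h.trans (mem_stabilizer_iff.1 n.2.2).symm))
    · exact hc (smul_left_cancel (n : G) (h.trans (mem_stabilizer_iff.1 n.2.2).symm))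
  have key : ∀ e : Ω, e ≠ a → ∃ f : orbit A e × {m : stabilizer A e // m ≠ 1} → {n : A // n ≠ 1},
      Function.Injective f ∧ (∀ z, ((f z).1 : G) • (z.1 : Ω) = z.1) ∧
      Nat.card A ≤ 2 * Nat.card (orbit A e × {m : stabilizer A e // m ≠ 1}) := by
    intro e he
    have hg : ∀ x : orbit A e, ∃ g : A, g • e = (x : Ω) := fun x => x.2
    choose g hg using hg
    have h2 : 2 ≤ Nat.card (stabilizer A e) := by
      obtain ⟨n, hn, hn1, hna, hne⟩ := two_fix hZ N hN he.symm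
      have : Nontrivial (stabilizer A e) :=
        ⟨⟨⟨⟨n, hn, mem_stabilizer_iff.2 hna⟩, hne⟩, 1, fun h => hn1
          (congrArg (fun m : stabilizer A e => ((m : A) : G)) h)⟩⟩
      exact Finite.one_lt_card
    refine ⟨fun z => ⟨g z.1 * (z.2.1 : A) * (g z.1)⁻¹, fun h => z.2.2
      (Subtype.ext (conj_eq_one_iff.1 h))⟩, ?_, fun z => ?_, ?_⟩
    · rintro ⟨x, m⟩ ⟨y, m'⟩ h
      have h' : g x * (m.1 : A) * (g x)⁻¹ = g y * (m'.1 : A) * (g y)⁻¹ := congrArg Subtype.val h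
      have hfix : ∀ (x : orbit A e) (m : stabilizer A e), (g x * (m : A) * (g x)⁻¹) • (x : Ω) = x :=
        fun x m => by rw [← hg x, mul_smul, mul_smul, inv_smul_smul, mem_stabilizer_iff.1 m.2]
      have hxy : x = y := by
        by_contra hne
        have hne1 : ((g x * (m.1 : A) * (g x)⁻¹ : A) : G) ≠ 1 := fun h1 =>
          m.2 (Subtype.ext (conj_eq_one_iff.1 (Subtype.ext h1)))
        have hxa : (x : Ω) ≠ a := by
          obtain ⟨n, hn⟩ := x.2
          intro hx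
          exact he (smul_left_cancel (n : G) (hn.trans (hx.trans (mem_stabilizer_iff.1 n.2.2).symm)))
        have hya : (y : Ω) ≠ a := by
          obtain ⟨n, hn⟩ := y.2
          intro hx
          exact he (smul_left_cancel (n : G) (hn.trans (hx.trans (mem_stabilizer_iff.1 n.2.2).symm)))
        have hfy := hfix y m'.1
        rw [← h'] at hfy
        rcases eq_of_fix hZ hne1 hxa.symm (mem_stabilizer_iff.1 (g x * (m.1 : A) * (g x)⁻¹).2.2)
          (hfix x m.1) hfy with h1 | h1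
        · exact hya h1
        · exact hne (Subtype.ext h1.symm)
      subst hxy
      exact Prod.ext rfl (Subtype.ext (Subtype.ext (mul_left_cancel (mul_right_cancel h'))))
    · show (g z.1 * (z.2.1 : A) * (g z.1)⁻¹) • (z.1 : Ω) = z.1
      rw [← hg z.1, mul_smul, mul_smul, inv_smul_smul, mem_stabilizer_iff.1 z.2.1.2]
    · have h3 : Nat.card {m : stabilizer A e // m ≠ 1} = Nat.card (stabilizer A e) - 1 := by
        rw [← Nat.card_congr (Equiv.optionSubtypeNe (1 : stabilizer A e)), Finite.card_option,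
          Nat.add_sub_cancel]
      have h4 : Nat.card (orbit A e) * Nat.card (stabilizer A e) = Nat.card A := by
        rw [← Nat.card_prod]
        exact Nat.card_congr (MulAction.orbitProdStabilizerEquivGroup A e)
      rw [Nat.card_prod, h3, ← h4, mul_left_comm]
      exact Nat.mul_le_mul_left _ (by omega)
  obtain ⟨fb, hfb, hfb', hcb⟩ := key b hb
  obtain ⟨fc, hfc, hfc', hcc⟩ := key c hc
  have hinj : Function.Injective (Sum.elim fb fc) := by
    refine hfb.sumElim hfc fun z w h => ?_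
    have h1 := hfb' z
    have h2 := hfc' w
    rw [h] at h1
    have hne1 : ((fc w).1 : G) ≠ 1 := fun e => (fc w).2 (Subtype.ext e)
    rcases eq_of_fix hZ hne1 (hmem (Or.inl z.1.2)).symm (mem_stabilizer_iff.1 (fc w).1.2.2) h1 h2
      with h3 | h3
    · exact hmem (Or.inr w.1.2) h3
    · have h5 : (z.1 : Ω) ∈ orbit A c := h3 ▸ w.1.2
      exact hco (by rw [← orbit_eq_iff.2 z.1.2, orbit_eq_iff.2 h5]; exact mem_orbit_self c)
  have h1 := Nat.card_le_card_of_injective _ hinj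
  have h5 : Nat.card {n : A // n ≠ 1} + 1 = Nat.card A := by
    rw [← Finite.card_option]
    exact Nat.card_congr (Equiv.optionSubtypeNe (1 : A))
  rw [Nat.card_sum] at h1
  omega

theorem normal_zassenhaus (N : Subgroup G) [hNn : N.Normal] (hN : N ≠ ⊥) :
    Cfsg.IsZassenhausGroup N Ω := by
  have hfin := finite_group hZ
  have hfaith := hZ.1
  have h2 : IsMultiplyPretransitive N Ω 2 := by
    refine is_two_pretransitive_iff.2 fun {x y z w} hxy hzw => ?_
    obtain ⟨n, hn, hnx⟩ := exists_moving hZ N hN x z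
    obtain ⟨m, hm, hmz, hmw⟩ := stab_transitive hZ N hN (a := z) (b := n • y) (c := w)
      (fun h => hxy (smul_left_cancel n (hnx.trans h.symm))) hzw.symm
    refine ⟨⟨m * n, mul_mem hm hn⟩, ?_, ?_⟩
    · show (m * n) • x = z
      rw [mul_smul, hnx, hmz]
    · show (m * n) • y = w
      rw [mul_smul, hmw]
  refine ⟨⟨fun h => Subtype.ext (FaithfulSMul.eq_of_smul_eq_smul fun x => h x)⟩, h2,
    fun g a b c hab hbc hac ha hb hc => Subtype.ext (hZ.2.2.1 g a b c hab hbc hac ha hb hc), ?_,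
    fun M hMn hMt => ?_⟩
  · obtain ⟨n, hn, hn1, a, b, hab, ha, hb⟩ := exists_two_fix hZ N hN
    exact ⟨⟨n, hn⟩, fun h => hn1 (congrArg Subtype.val h), a, b, hab, ha, hb⟩
  by_contra hreg
  push Not at hreg
  obtain ⟨-, -, a, b, hab, -, -⟩ := hZ.2.2.2.1
  -- `R` is the image of `M` in `G`
  set R : Subgroup G := M.map N.subtype with hR
  have hRN : R ≤ N := Subgroup.map_subtype_le M
  have hmemR : ∀ {x : G} (hx : x ∈ R), (⟨x, hRN hx⟩ : N) ∈ M := fun {x} hx => by
    obtain ⟨y, hy, e⟩ := Subgroup.mem_map.1 hx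
    rwa [show (⟨x, hRN hx⟩ : N) = y from Subtype.ext e.symm]
  have hRconj : ∀ n ∈ N, ∀ x ∈ R, n * x * n⁻¹ ∈ R := fun n hn x hx =>
    ⟨_, hMn.conj_mem _ (hmemR hx) ⟨n, hn⟩, rfl⟩
  have hRt : ∀ c d : Ω, ∃ x ∈ R, x • c = d := fun c d => by
    obtain ⟨⟨x, hx⟩, e⟩ := hMt.exists_smul_eq c d
    exact ⟨x, ⟨x, hx, rfl⟩, e⟩
  have hRr : ∀ x ∈ R, ∀ c : Ω, x • c = c → x = 1 := fun x hx c hc => by
    have h : (⟨⟨x, hRN hx⟩, hmemR hx⟩ : M) ∈ stabilizer M c := mem_stabilizer_iff.2 hc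
    rw [hreg c, Subgroup.mem_bot] at h
    exact congrArg (fun m : M => ((m : N) : G)) h
  have hconj : ∀ x ∈ R, ∀ y ∈ R, x ≠ 1 → y ≠ 1 → ∃ n ∈ N, n * x * n⁻¹ = y := by
    intro x hx y hy hx1 hy1
    obtain ⟨n, hn, hna, hnb⟩ := stab_transitive hZ N hN (a := a) (b := x • a) (c := y • a)
      (fun h => hx1 (hRr x hx a h)) (fun h => hy1 (hRr y hy a h))
    refine ⟨n, hn, ?_⟩
    have h1 : y⁻¹ * (n * x * n⁻¹) ∈ R := mul_mem (inv_mem hy) (hRconj n hn x hx)
    refine (inv_mul_eq_one.1 (hRr _ h1 a ?_)).symm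
    rw [mul_smul, mul_smul, mul_smul, inv_smul_eq_iff.2 hna.symm, hnb, inv_smul_smul]
  have hRne : ∃ x ∈ R, x ≠ 1 := by
    obtain ⟨x, hx, hxa⟩ := hRt a b
    exact ⟨x, hx, fun h => hab (by rw [h, one_smul] at hxa; exact hxa)⟩
  have hab' : ∀ x ∈ R, ∀ y ∈ R, x * y = y * x := by
    obtain ⟨x₀, hx₀, hx₀1⟩ := hRne
    obtain ⟨p, hp, hpd⟩ := Nat.exists_prime_and_dvd fun h => hx₀1 (orderOf_eq_one_iff.1 h)
    have := Fact.mk hp
    have hz : x₀ ^ (orderOf x₀ / p) ∈ R := pow_mem hx₀ _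
    have hzo : orderOf (x₀ ^ (orderOf x₀ / p)) = p := orderOf_pow_orderOf_div (orderOf_pos x₀).ne' hpd
    have hz1 : x₀ ^ (orderOf x₀ / p) ≠ 1 := fun h => by
      rw [h, orderOf_one] at hzo; exact hp.one_lt.ne hzo
    have hR' : IsPGroup p R := fun x => by
      refine ⟨1, Subtype.ext ?_⟩
      rcases eq_or_ne (x : G) 1 with h | h
      · simp [h]
      · obtain ⟨n, -, e⟩ := hconj _ hz x x.2 hz1 h
        show (x : G) ^ p ^ 1 = 1
        rw [pow_one, ← e, conj_pow, orderOf_dvd_iff_pow_eq_one.1 hzo.dvd, mul_one, mul_inv_cancel]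
    have : Nontrivial R := ⟨⟨⟨_, hz⟩, 1, fun h => hz1 (congrArg Subtype.val h)⟩⟩
    have := hR'.center_nontrivial
    obtain ⟨⟨⟨c, hcR⟩, hc⟩, hc1⟩ := exists_ne (1 : Subgroup.center R)
    have hc1' : c ≠ 1 := fun h => hc1 (Subtype.ext (Subtype.ext h))
    intro x hx y hy
    rcases eq_or_ne x 1 with rfl | hx1
    · simp
    obtain ⟨n, hn, rfl⟩ := hconj c hcR x hx hc1' hx1
    have hy' : n⁻¹ * y * n ∈ R := by simpa using hRconj n⁻¹ (inv_mem hn) y hy
    have h := congrArg Subtype.val (Subgroup.mem_center_iff.1 hc ⟨_, hy'⟩)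
    calc n * c * n⁻¹ * y = n * (c * (n⁻¹ * y * n)) * n⁻¹ := by group
      _ = n * ((n⁻¹ * y * n) * c) * n⁻¹ := by rw [show c * (n⁻¹ * y * n) = n⁻¹ * y * n * c from h.symm]
      _ = _ := by group
  have hRnormal : R.Normal := by
    refine ⟨fun x hx g => ?_⟩
    by_cases hx1 : x = 1
    · simp [hx1]
    set y := g * x * g⁻¹ with hy
    have hyN : y ∈ N := hNn.conj_mem x (hRN hx) g
    have hy1 : y ≠ 1 := fun h => hx1 (conj_eq_one_iff.1 h)
    by_contra hyR
    -- `y` commutes with `R`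
    have hint : ∀ r ∈ R, y * r = r * y := by
      intro r hr
      by_contra hne
      have hc : y * r * y⁻¹ * r⁻¹ ∈ R := mul_mem (hRconj y hyN r hr) (inv_mem hr)
      have hc1 : y * r * y⁻¹ * r⁻¹ ≠ 1 := fun h =>
        hne (mul_inv_eq_iff_eq_mul.1 (mul_inv_eq_one.1 h))
      have hc' : g⁻¹ * (y * r * y⁻¹ * r⁻¹) * g ∈ R := by
        have e : g⁻¹ * (y * r * y⁻¹ * r⁻¹) * g =
            x * ((g⁻¹ * r * g) * x⁻¹ * (g⁻¹ * r * g)⁻¹) := by rw [hy]; group
        rw [e]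
        refine mul_mem hx (hRconj _ ?_ _ (inv_mem hx))
        simpa using hNn.conj_mem r (hRN hr) g⁻¹
      obtain ⟨n, hn, hnx⟩ := hconj _ hc' x hx
        (fun h => hc1 (by simpa [mul_assoc] using congrArg (fun z => g * z * g⁻¹) h)) hx1
      refine hyR ?_
      have e : y = (g * n * g⁻¹) * (y * r * y⁻¹ * r⁻¹) * (g * n * g⁻¹)⁻¹ := by
        calc y = g * x * g⁻¹ := hy
          _ = g * (n * (g⁻¹ * (y * r * y⁻¹ * r⁻¹) * g) * n⁻¹) * g⁻¹ := by rw [hnx]
          _ = _ := by group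
      rw [e]
      exact hRconj _ (hNn.conj_mem n hn g) _ hc
    obtain ⟨r, hr, hra⟩ := hRt a (y • a)
    refine hyR ?_
    suffices r⁻¹ * y = 1 by rwa [← inv_mul_eq_one.1 this]
    refine faithful_eq hZ fun w => ?_
    obtain ⟨s, hs, rfl⟩ := hRt a w
    rw [← mul_smul, show r⁻¹ * y * s = s * (r⁻¹ * y) by
      rw [mul_assoc, hint s hs, ← mul_assoc, hab' r⁻¹ (inv_mem hr) s hs, mul_assoc], mul_smul,
      mul_smul, ← hra, inv_smul_smul]
  obtain ⟨c, hc⟩ := hZ.2.2.2.2 R hRnormal ⟨fun c d => by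
    obtain ⟨x, hx, e⟩ := hRt c d
    exact ⟨⟨x, hx⟩, e⟩⟩
  exact hc ((Subgroup.eq_bot_iff_forall _).2 fun x hx =>
    Subtype.ext (hRr x x.2 c (mem_stabilizer_iff.1 hx)))

theorem odd_stab (hodd : Odd (Nat.card Ω)) {a b : Ω} (hab : a ≠ b) :
    Odd (Nat.card ↥(stabilizer G a ⊓ stabilizer G b)) := by
  classical
  have := finite_group hZ
  have := Fintype.ofFinite Ω
  by_contra h
  obtain ⟨⟨z, hza, hzb⟩, hzo⟩ := exists_prime_orderOf_dvd_card'
    (G := ↥(stabilizer G a ⊓ stabilizer G b)) 2 (even_iff_two_dvd.1 (Nat.not_odd_iff_even.1 h))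
  replace hzo : orderOf z = 2 := (Subgroup.orderOf_coe _).trans hzo
  have hz2 : z ^ 2 = 1 := hzo ▸ pow_orderOf_eq_one z
  set σ := MulAction.toPerm (α := G) (β := Ω) z with hσ
  have hσ2 : σ ^ 2 ^ 1 = 1 := by
    ext x
    rw [pow_one, pow_two, Equiv.Perm.mul_apply]
    show z • z • x = x
    rw [← mul_smul, ← pow_two, hz2, one_smul]
  have hcard := Equiv.Perm.card_compl_support_modEq (p := 2) hσ2
  have hsub : σ.supportᶜ ⊆ {a, b} := fun x hx => by
    rw [Finset.mem_compl, Equiv.Perm.mem_support, not_not] at hx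
    have hz1 : z ≠ 1 := fun e => by rw [e, orderOf_one] at hzo; omega
    simpa using eq_of_fix hZ hz1 hab (mem_stabilizer_iff.1 hza) (mem_stabilizer_iff.1 hzb) hx
  have hsup : ({a, b} : Finset Ω) ⊆ σ.supportᶜ := fun x hx => by
    rw [Finset.mem_compl, Equiv.Perm.mem_support, not_not]
    rcases Finset.mem_insert.1 hx with rfl | hx
    · exact hza
    · rw [Finset.mem_singleton.1 hx]; exact hzb
  rw [le_antisymm hsub hsup, Finset.card_pair hab, ← Nat.card_eq_fintype_card] at hcard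
  rw [Nat.ModEq, Nat.odd_iff.1 hodd] at hcard
  omega

theorem exists_swap (hodd : Odd (Nat.card Ω)) {a b : Ω} (hab : a ≠ b) :
    ∃ t : G, t * t = 1 ∧ t • a = b ∧ t • b = a ∧ ∃ p, t • p = p ∧ p ≠ a ∧ p ≠ b := by
  classical
  have := finite_group hZ
  have := Fintype.ofFinite Ω
  obtain ⟨g, hga, hgb⟩ := is_two_pretransitive_iff.1 hZ.2.1 hab hab.symm
  obtain ⟨k, m, hm, hkm⟩ := Nat.exists_eq_two_pow_mul_odd (orderOf_pos g).ne'
  set t := g ^ m
  have hpow : ∀ j, g ^ j • a = (if Even j then a else b) ∧ g ^ j • b = (if Even j then b else a) := by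
    intro j
    induction j with
    | zero => simp
    | succ j ih =>
      rw [pow_succ', mul_smul, mul_smul, ih.1, ih.2]
      by_cases hj : Even j
      · simp [hj, hga, hgb, Nat.even_add_one]
      · simp [hj, hga, hgb, Nat.even_add_one]
  have hta : t • a = b := by rw [(hpow m).1, if_neg (Nat.not_even_iff_odd.2 hm)]
  have htb : t • b = a := by rw [(hpow m).2, if_neg (Nat.not_even_iff_odd.2 hm)]
  have htk : t ^ 2 ^ k = 1 := by rw [← pow_mul, mul_comm, ← hkm, pow_orderOf_eq_one]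
  have ht2 : t * t = 1 := by
    have hmem : t * t ∈ stabilizer G a ⊓ stabilizer G b :=
      ⟨mem_stabilizer_iff.2 (by rw [mul_smul, hta, htb]),
        mem_stabilizer_iff.2 (by rw [mul_smul, htb, hta])⟩
    have h1 : (t * t) ^ 2 ^ k = 1 := by rw [← pow_two, ← pow_mul, mul_comm, pow_mul, htk, one_pow]
    obtain ⟨i, -, hi⟩ := (Nat.dvd_prime_pow Nat.prime_two).1 (orderOf_dvd_of_pow_eq_one h1)
    have ho := RankOne.odd_of_mem (odd_stab hZ hodd hab) hmem
    rw [hi] at ho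
    rcases Nat.eq_zero_or_pos i with rfl | hi0
    · exact orderOf_eq_one_iff.1 (by rw [hi, pow_zero])
    · exact absurd ho (Nat.not_odd_iff_even.2 (Nat.even_pow.2 ⟨even_two, hi0.ne'⟩))
  refine ⟨t, ht2, hta, htb, ?_⟩
  obtain ⟨p, hp⟩ := Equiv.Perm.exists_fixed_point_of_prime (α := Ω) (p := 2) (n := 1)
    (σ := MulAction.toPerm t)
    (by rw [← Nat.card_eq_fintype_card]; exact Nat.two_dvd_ne_zero.2 (Nat.odd_iff.1 hodd))
    (by ext x; rw [pow_one, pow_two, Equiv.Perm.mul_apply]; show t • t • x = x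
        rw [← mul_smul, ht2, one_smul])
  have hp' : t • p = p := hp
  exact ⟨p, hp', fun e => hab (by rw [e, hta] at hp'; exact hp'.symm),
    fun e => hab (by rw [e, htb] at hp'; exact hp')⟩

theorem inverted (hodd : Odd (Nat.card Ω)) {a b : Ω} (hab : a ≠ b) {t : G} (ht : t * t = 1)
    (hta : t • a = b) (htb : t • b = a) {p : Ω} (hp : t • p = p) (hpa : p ≠ a) (hpb : p ≠ b)
    {h : G} (hh : h ∈ stabilizer G a ⊓ stabilizer G b) : t * h * t = h⁻¹ := by
  classical
  have := finite_group hZ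
  have := Fintype.ofFinite Ω
  set D := stabilizer G a ⊓ stabilizer G b
  have hn : ∀ x ∈ D, t * x * t ∈ D := fun x hx =>
    ⟨mem_stabilizer_iff.2 (by rw [mul_smul, mul_smul, hta, mem_stabilizer_iff.1 hx.2, htb]),
      mem_stabilizer_iff.2 (by rw [mul_smul, mul_smul, htb, mem_stabilizer_iff.1 hx.1, hta])⟩
  have ht1 : t ≠ 1 := fun e => hab (by rw [e, one_smul] at hta; exact hta)
  obtain ⟨y, z, hy, hyt, hz, hzi, rfl⟩ := RankOne.split_exists ht (odd_stab hZ hodd hab) hn hh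
  suffices y = 1 by rw [this, one_mul]; exact hzi
  by_contra hy1
  -- `t` fixes only `p`
  have honly : ∀ w : Ω, t • w = w → w = p := fun w hw => by
    by_contra hne
    set σ := MulAction.toPerm (α := G) (β := Ω) t
    have hσ2 : σ ^ 2 ^ 1 = 1 := by
      ext x
      rw [pow_one, pow_two, Equiv.Perm.mul_apply]
      show t • t • x = x
      rw [← mul_smul, ht, one_smul]
    have hcard := Equiv.Perm.card_compl_support_modEq (p := 2) hσ2
    have he : σ.supportᶜ = {p, w} := by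
      refine Finset.ext fun x => ?_
      rw [Finset.mem_compl, Equiv.Perm.mem_support, not_not, Finset.mem_insert, Finset.mem_singleton]
      refine ⟨fun hx => eq_of_fix hZ ht1 (Ne.symm hne) hp hw hx, ?_⟩
      rintro (rfl | rfl) <;> assumption
    rw [he, Finset.card_pair (Ne.symm hne), ← Nat.card_eq_fintype_card, Nat.ModEq,
      Nat.odd_iff.1 hodd] at hcard
    omega
  have hyp : y • p = p := honly _ (by rw [← mul_smul, hyt, mul_smul, hp])
  rcases eq_of_fix hZ hy1 hab (mem_stabilizer_iff.1 hy.1) (mem_stabilizer_iff.1 hy.2) hyp with e | e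
  · exact hpa e
  · exact hpb e

theorem simple_of_odd (hodd : Odd (Nat.card Ω)) : IsSimpleGroup G := by
  obtain ⟨g₀, hg₀, a, b, hab, -, -⟩ := hZ.2.2.2.1
  have : Nontrivial G := ⟨⟨g₀, 1, hg₀⟩⟩
  refine ⟨fun N hNn => or_iff_not_imp_left.2 fun hN => ?_⟩
  have hZN := normal_zassenhaus hZ N hN
  have := finite_group hZ
  obtain ⟨⟨t, htN⟩, ht2, hta, htb, p, hp, hpa, hpb⟩ := exists_swap hZN hodd hab
  have ht2' : t * t = 1 := congrArg Subtype.val ht2
  have hta' : t • a = b := hta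
  have htb' : t • b = a := htb
  have hp' : t • p = p := hp
  refine eq_top_iff.2 fun g _ => ?_
  obtain ⟨n, hn, hna⟩ := exists_moving hZ N hN (g • a) a
  obtain ⟨m, hm, hma, hmb⟩ := stab_transitive hZ N hN (a := a) (b := n • g • b) (c := b)
    (fun h => hab (smul_left_cancel g (smul_left_cancel n (h.trans hna.symm))).symm) hab.symm
  set h := m * n * g
  have hh : h ∈ stabilizer G a ⊓ stabilizer G b :=
    ⟨mem_stabilizer_iff.2 (by rw [mul_smul, mul_smul, hna, hma]),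
      mem_stabilizer_iff.2 (by rw [mul_smul, mul_smul, hmb])⟩
  have hi := inverted hZ hodd hab ht2' hta' htb' hp' hpa hpb hh
  have hsq : h * h ∈ N := by
    have e : h * h = (t * (h⁻¹) * t) * h := by
      rw [show t * h⁻¹ * t = h by
        rw [← hi, show t * (t * h * t) * t = t * t * h * (t * t) by group, ht2', one_mul, mul_one]]
    rw [e, show t * h⁻¹ * t * h = t * (h⁻¹ * t * h) by group]
    exact mul_mem htN (by simpa using hNn.conj_mem t htN h⁻¹)
  have hhN : h ∈ N := by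
    obtain ⟨j, hj⟩ := RankOne.exists_sqrt (odd_stab hZ hodd hab) hh
    rw [← hj, ← pow_add, ← two_mul, pow_mul, pow_two]
    exact pow_mem hsq j
  rw [show g = n⁻¹ * m⁻¹ * h by simp only [h]; group]
  exact mul_mem (mul_mem (inv_mem hn) (inv_mem hm)) hhN

end Cfsg.Agent.Lie.ZPerm
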