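import Mathlib

/-! Field automorphisms as a basis of additive maps in characteristic two. -/

set_option autoImplicit false

namespace Cfsg.Agent.Lie.AutBasis

variable {F : Type*} [Field F] [Fintype F] [CharP F 2]

omit [Fintype F] [CharP F 2] in
theorem indep : LinearIndependent F (fun σ : F ≃+* F => ((σ : F →+* F) : F → F)) :=
  (linearIndependent_monoidHom F F).comp (fun σ : F ≃+* F => ((σ : F →+* F) : F →* F))
    fun σ τ h => RingEquiv.ext fun x => DFunLike.congr_fun h x

theorem span (f : F →+ F) : ∃ c : (F ≃+* F) → F,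
    ∀ x, f x = ∑ᶠ σ : F ≃+* F, c σ * σ x := by
  classical
  let _ := ZMod.algebra F 2
  have : Fintype (F ≃+* F) := Fintype.ofInjective (fun σ : F ≃+* F => (σ : F → F)) DFunLike.coe_injective
  let L : (F ≃+* F) → (F →ₗ[ZMod 2] F) := fun σ =>
    AddMonoidHom.toZModLinearMap 2 (σ : F →+* F).toAddMonoidHom
  have hL : LinearIndependent F L := by
    refine LinearIndependent.of_comp (LinearMap.ltoFun (ZMod 2) F F F) ?_
    exact indep
  have hcard : Fintype.card (F ≃+* F) ≥ Module.finrank F (F →ₗ[ZMod 2] F) := by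
    rw [Module.finrank_linearMap_self]
    have hb := FiniteField.bijective_frobeniusAlgEquivOfAlgebraic_pow (ZMod 2) F
    have hi : Function.Injective (fun e : F ≃ₐ[ZMod 2] F => (e : F ≃+* F)) :=
      fun a b h => AlgEquiv.ext fun x => RingEquiv.congr_fun h x
    have := Fintype.card_le_of_injective _ (hi.comp hb.1)
    simpa using this
  have htop : Submodule.span F (Set.range L) = ⊤ :=
    hL.span_eq_top_of_card_eq_finrank'
      (le_antisymm hL.fintype_card_le_finrank hcard)
  obtain ⟨c, hc⟩ := (Submodule.mem_span_range_iff_exists_fun F).1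
    (htop ▸ Submodule.mem_top : AddMonoidHom.toZModLinearMap 2 f ∈ Submodule.span F (Set.range L))
  refine ⟨c, fun x => ?_⟩
  rw [finsum_eq_sum_of_fintype]
  have h := LinearMap.congr_fun hc x
  simpa [L] using h.symm

omit [CharP F 2] in
theorem coeff_zero {c : (F ≃+* F) → F} (h : ∀ x : F, ∑ᶠ σ : F ≃+* F, c σ * σ x = 0) (σ : F ≃+* F) :
    c σ = 0 := by
  classical
  have : Fintype (F ≃+* F) := Fintype.ofInjective (fun σ : F ≃+* F => (σ : F → F)) DFunLike.coe_injective
  have hi := Fintype.linearIndependent_iff.1 (indep (F := F)) c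
  refine hi (funext fun x => ?_) σ
  rw [Finset.sum_apply, Pi.zero_apply]
  have hx := h x
  rw [finsum_eq_sum_of_fintype] at hx
  exact hx

theorem biadditive (B : F →+ F →+ F) : ∃ c : (F ≃+* F) → (F ≃+* F) → F,
    ∀ x y, B x y = ∑ᶠ σ : F ≃+* F, ∑ᶠ τ : F ≃+* F, c σ τ * (σ x * τ y) := by
  classical
  have : Fintype (F ≃+* F) := Fintype.ofInjective (fun σ : F ≃+* F => (σ : F → F)) DFunLike.coe_injective
  have hd : ∀ y, ∃ d : (F ≃+* F) → F, ∀ x, B x y = ∑ᶠ σ : F ≃+* F, d σ * σ x := fun y =>
    span (AddMonoidHom.mk' (fun x => B x y) fun x x' => by simp)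
  choose d hd using hd
  have hadd : ∀ σ y y', d (y + y') σ = d y σ + d y' σ := fun σ y y' => by
    rw [← sub_eq_zero]
    refine coeff_zero (c := fun σ => d (y + y') σ - (d y σ + d y' σ)) (fun x => ?_) σ
    have h1 := hd (y + y') x
    rw [map_add, hd y x, hd y' x] at h1
    simp only [finsum_eq_sum_of_fintype, sub_mul, add_mul, Finset.sum_sub_distrib,
      Finset.sum_add_distrib] at h1 ⊢
    rw [h1, sub_self]
  have hc : ∀ σ, ∃ c : (F ≃+* F) → F, ∀ y, d y σ = ∑ᶠ τ : F ≃+* F, c τ * τ y := fun σ =>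
    span (AddMonoidHom.mk' (fun y => d y σ) (hadd σ))
  choose c hc using hc
  refine ⟨c, fun x y => ?_⟩
  rw [hd y x]
  simp only [finsum_eq_sum_of_fintype, hc, Finset.sum_mul]
  exact Finset.sum_congr rfl fun σ _ => Finset.sum_congr rfl fun τ _ => by ring

omit [CharP F 2] in
theorem coeff_zero₂ {c : (F ≃+* F) → (F ≃+* F) → F}
    (h : ∀ x y : F, ∑ᶠ σ : F ≃+* F, ∑ᶠ τ : F ≃+* F, c σ τ * (σ x * τ y) = 0) (σ τ : F ≃+* F) :
    c σ τ = 0 := by
  classical
  have : Fintype (F ≃+* F) := Fintype.ofInjective (fun σ : F ≃+* F => (σ : F → F)) DFunLike.coe_injective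
  refine coeff_zero (c := c σ) (fun y => ?_) τ
  refine coeff_zero (c := fun σ => ∑ᶠ τ : F ≃+* F, c σ τ * τ y) (fun x => ?_) σ
  rw [← h x y]
  simp only [finsum_eq_sum_of_fintype, Finset.sum_mul]
  exact Finset.sum_congr rfl fun σ _ => Finset.sum_congr rfl fun τ _ => by ring

theorem quadratic (q : F → F)
    (hq : ∀ x y z : F, q (x + y + z) + q (x + y) + q (x + z) + q (y + z) + q x + q y + q z = 0) :
    ∃ c : (F ≃+* F) → (F ≃+* F) → F,
      ∀ x, q x = ∑ᶠ σ : F ≃+* F, ∑ᶠ τ : F ≃+* F, c σ τ * (σ x * τ x) := by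
  classical
  have : Fintype (F ≃+* F) := Fintype.ofInjective (fun σ : F ≃+* F => (σ : F → F)) DFunLike.coe_injective
  have h2 : ∀ u : F, u + u = 0 := CharTwo.add_self_eq_zero
  have h20 : (2 : F) = 0 := CharP.cast_eq_zero F 2
  have hq0 : q 0 = 0 := by
    have h := hq 0 0 0
    simp only [add_zero] at h
    linear_combination h - 3 * q 0 * h20
  let B : F →+ F →+ F := AddMonoidHom.mk' (fun x => AddMonoidHom.mk'
      (fun y => q (x + y) + q x + q y) fun y z => by
        have h := hq x y z
        rw [← add_assoc x y z]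
        linear_combination h - (q (x + y) + q (x + z) + q x + q y + q z) * h20)
    fun x y => AddMonoidHom.ext fun z => by
      have h := hq x y z
      show q (x + y + z) + q (x + y) + q z = q (x + z) + q x + q z + (q (y + z) + q y + q z)
      linear_combination h - (q (x + z) + q (y + z) + q x + q y + q z) * h20
  have hB : ∀ x y, B x y = q (x + y) + q x + q y := fun _ _ => rfl
  obtain ⟨c, hc⟩ := biadditive B
  have hsym : ∀ σ τ, c σ τ = c τ σ := fun σ τ => by
    rw [← sub_eq_zero]
    refine coeff_zero₂ (c := fun σ τ => c σ τ - c τ σ) (fun x y => ?_) σ τ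
    simp only [finsum_eq_sum_of_fintype, sub_mul, Finset.sum_sub_distrib] at *
    rw [sub_eq_zero, ← hc x y, Finset.sum_comm]
    refine Eq.trans ?_ (Finset.sum_congr rfl fun τ _ => Finset.sum_congr rfl fun σ _ => by ring :
      (∑ τ : F ≃+* F, ∑ σ : F ≃+* F, c τ σ * (τ y * σ x)) = _)
    rw [← hc y x, hB, hB, add_comm x y, add_right_comm]
  -- split the symmetric coefficients by a linear order
  let e := Fintype.equivFin (F ≃+* F)
  let lo : (F ≃+* F) → (F ≃+* F) → F := fun σ τ => if e σ < e τ then c σ τ else 0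
  let dg : (F ≃+* F) → F := fun σ => c σ σ
  have hsplit : ∀ σ τ, c σ τ = lo σ τ + lo τ σ + (if σ = τ then dg σ else 0) := fun σ τ => by
    rcases lt_trichotomy (e σ) (e τ) with h | h | h
    · rw [if_neg fun e' : σ = τ => h.ne (by rw [e'])]; simp [lo, h, not_lt.2 h.le]
    · obtain rfl := e.injective h
      simp [lo, dg]
    · rw [if_neg fun e' : σ = τ => h.ne' (by rw [e'])]; simp [lo, h, not_lt.2 h.le, hsym σ τ]
  have hdg : ∀ σ, dg σ = 0 := by
    intro σ
    refine coeff_zero (c := dg) (fun x => ?_) σ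
    obtain ⟨s, rfl⟩ := FiniteField.isSquare_of_char_two (ringChar.eq F 2) x
    have h := hc s s
    rw [hB, h2 s, hq0, zero_add, h2] at h
    simp only [finsum_eq_sum_of_fintype] at h ⊢
    simp only [hsplit, add_mul, Finset.sum_add_distrib, ite_mul, zero_mul] at h
    rw [Finset.sum_comm (f := fun σ τ => lo τ σ * (σ s * τ s))] at h
    simp only [Finset.sum_ite_eq, Finset.mem_univ, if_true, mul_comm (_ : F) (_ : F)] at h
    rw [h]
    simp only [map_mul]
    rw [eq_comm, ← sub_eq_zero]
    have : ∀ A B : F, A + A + B - B = 0 := fun A B => by linear_combination A * h20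
    convert this _ _ using 3 <;> exact Finset.sum_congr rfl fun σ _ => by ring_nf
  let Q : F → F := fun x => ∑ σ, ∑ τ, lo σ τ * (σ x * τ x)
  have hQ : ∀ x y, Q (x + y) + Q x + Q y = B x y := fun x y => by
    simp only [hc, finsum_eq_sum_of_fintype, hsplit, hdg, ite_self, add_zero, add_mul,
      Finset.sum_add_distrib, Q, map_add, mul_add]
    rw [Finset.sum_comm (f := fun σ τ => lo τ σ * (σ x * τ y))]
    have : ∀ u v w z w' : F, w' = z → u + z + (w + v) + u + v = w + w' := fun u v w z w' e => by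
      linear_combination (u + v) * h20 - e
    refine this _ _ _ _ _ ?_
    exact Finset.sum_congr rfl fun σ _ => Finset.sum_congr rfl fun τ _ => by ring
  obtain ⟨d, hd⟩ := span (AddMonoidHom.mk' (fun x => q x + Q x) fun x y => by
    have h := (hQ x y).trans (hB x y)
    linear_combination h + (q (x+y) - Q x - Q y) * h20 - (2 * q (x + y)) * 0)
  let f : F ≃+* F := frobeniusEquiv F 2
  refine ⟨fun σ τ => lo σ τ + (if σ = τ then d (f.trans σ) else 0), fun x => ?_⟩
  have hx := hd x
  simp only [AddMonoidHom.mk'_apply, finsum_eq_sum_of_fintype] at hx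
  simp only [finsum_eq_sum_of_fintype, add_mul, Finset.sum_add_distrib, ite_mul, zero_mul,
    Finset.sum_ite_eq, Finset.mem_univ, if_true]
  have key : ∑ σ, d (f.trans σ) * (σ x * σ x) = ∑ σ, d σ * σ x := by
    refine Fintype.sum_equiv
      { toFun := fun σ => f.trans σ
        invFun := fun σ => f.symm.trans σ
        left_inv := fun σ => RingEquiv.ext fun y => by simp
        right_inv := fun σ => RingEquiv.ext fun y => by simp } _ _ fun σ => ?_
    show _ = d (f.trans σ) * σ (f x)
    rw [frobeniusEquiv_apply, frobenius_def, map_pow, pow_two]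
  rw [key]
  linear_combination hx - (Q x) * h20

end Cfsg.Agent.Lie.AutBasis
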