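import Mathlib

/-!
Doubling of Sylow 2-subgroups: from `S ≤ Γ ≤ GL_m` to `(S × S).2 ≤ Γ' ≤ GL_{2m}`, and the normalisers of the
resulting subgroups in the special part.
-/

set_option autoImplicit false
set_option linter.unusedSectionVars false

namespace Cfsg.Agent.Lie.TwoDouble

open Matrix

variable {α F : Type*} [Fintype α] [DecidableEq α] [Field F]

/-- Being a scalar matrix. -/
def Sc (x : GL α F) : Prop := ∃ c : F, (x : Matrix α α F) = c • 1

/-- The scalar units. -/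
def scl (α : Type*) [Fintype α] [DecidableEq α] (F : Type*) [Field F] : Fˣ →* GL α F :=
  Matrix.GeneralLinearGroup.scalar α

theorem scl_val (c : Fˣ) : ((scl α F c : GL α F) : Matrix α α F) = (c : F) • 1 := by
  ext i j; simp [scl, Matrix.GeneralLinearGroup.scalar, Matrix.smul_apply, Matrix.one_apply, Matrix.diagonal_apply]

theorem scl_comm (c : Fˣ) (x : GL α F) : scl α F c * x = x * scl α F c := Units.ext (by simp [scl_val])

theorem Sc.scl (c : Fˣ) : Sc (scl α F c) := ⟨c, scl_val c⟩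

theorem Sc.comm {x : GL α F} (h : Sc x) (y : GL α F) : x * y = y * x := by
  obtain ⟨c, hc⟩ := h
  exact Units.ext (by simp [hc])

theorem Sc.exists_scl [Nonempty α] {x : GL α F} (h : Sc x) : ∃ c : Fˣ, x = TwoDouble.scl α F c := by
  obtain ⟨c, hc⟩ := h
  have : c ≠ 0 := fun h0 => x.ne_zero (by rw [hc, h0, zero_smul])
  exact ⟨Units.mk0 c this, Units.ext (by rw [scl_val, hc, Units.val_mk0])⟩

/-- Commuting up to a scalar. -/
def Cmod (a b : GL α F) : Prop := ∃ c : Fˣ, a * b = scl α F c * (b * a)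

/-- Two-power order. -/
def Two {G : Type*} [Group G] (x : G) : Prop := ∃ k : ℕ, x ^ 2 ^ k = 1

theorem split {G : Type*} [Group G] [Finite G] (x : G) : ∃ a b : G, a ∈ Subgroup.zpowers x ∧ b ∈ Subgroup.zpowers x ∧
    Two a ∧ Odd (orderOf b) ∧ x = a * b := by
  obtain ⟨k, o, ho, e⟩ := Nat.exists_eq_two_pow_mul_odd (orderOf_pos x).ne'
  have hco : Int.gcd ((2 : ℤ) ^ k) o = 1 := by
    have h1 : Nat.Coprime (2 ^ k) o := Nat.Coprime.pow_left k (Nat.coprime_two_left.2 ho)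
    simpa [Int.gcd] using h1
  have hb := Int.gcd_eq_gcd_ab ((2 : ℤ) ^ k) o
  rw [hco, Nat.cast_one] at hb
  refine ⟨x ^ ((o : ℤ) * Int.gcdB ((2 : ℤ) ^ k) o), x ^ ((2 : ℤ) ^ k * Int.gcdA ((2 : ℤ) ^ k) o),
    ⟨_, rfl⟩, ⟨_, rfl⟩, ⟨k, ?_⟩, ?_, ?_⟩
  · rw [← zpow_natCast, ← _root_.zpow_mul, mul_right_comm, ← Nat.cast_mul, mul_comm o, ← e, _root_.zpow_mul, zpow_natCast,
      pow_orderOf_eq_one, _root_.one_zpow]
  · refine ho.of_dvd_nat (orderOf_dvd_of_pow_eq_one ?_)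
    rw [← zpow_natCast, ← _root_.zpow_mul, mul_right_comm,
      show ((2 : ℤ) ^ k * (o : ℤ)) = ((orderOf x : ℕ) : ℤ) by rw [e]; push_cast; ring, _root_.zpow_mul,
      zpow_natCast, pow_orderOf_eq_one, _root_.one_zpow]
  · rw [← _root_.zpow_add, add_comm, ← hb, zpow_one]

theorem eq_one_of_two_of_odd {G : Type*} [Group G] {x : G} (h : Two x) (h' : Odd (orderOf x)) : x = 1 := by
  obtain ⟨k, hk⟩ := h
  obtain ⟨i, -, hi⟩ := (Nat.dvd_prime_pow Nat.prime_two).1 (orderOf_dvd_of_pow_eq_one hk)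
  rcases Nat.eq_zero_or_pos i with rfl | hpos
  · exact orderOf_eq_one_iff.1 (by rw [hi, pow_zero])
  · rw [hi, Nat.odd_iff, Nat.pow_mod] at h'
    simp [Nat.zero_pow hpos] at h'

/-- A Sylow 2-subgroup of `Γ` with scalar centraliser and self-normalising up to scalars. -/
structure Pre (Γ S : Subgroup (GL α F)) : Prop where
  le : S ≤ Γ
  two : ∀ x ∈ S, Two x
  scal : ∀ c : Fˣ, scl α F c ∈ Γ → Two c → scl α F c ∈ S
  cen : ∀ a, (∀ s ∈ S, a * s = s * a) → Sc a
  nrm : ∀ x ∈ Γ, (∀ s ∈ S, x * s * x⁻¹ ∈ S) → ∃ s ∈ S, ∃ c : Fˣ, x = s * scl α F c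
  big : ∃ s ∈ S, s * s ≠ 1

/-- The additional properties used for the special part. -/
structure Full (Γ S : Subgroup (GL α F)) : Prop where
  pre : Pre Γ S
  sep : ∀ a ∈ S, (∀ s ∈ S, Cmod a s) → (∀ s ∈ S, (s : Matrix α α F).det = 1 → a * s = s * a) → Sc a
  ns : ∃ s ∈ S, (s : Matrix α α F).det = 1 ∧ ¬ Sc s

/-- The block diagonal element. -/
def D : GL α F × GL α F →* GL (α ⊕ α) F where
  toFun p := ⟨fromBlocks p.1.val 0 0 p.2.val, fromBlocks (↑p.1⁻¹) 0 0 (↑p.2⁻¹),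
    by simp [fromBlocks_multiply, fromBlocks_one], by simp [fromBlocks_multiply, fromBlocks_one]⟩
  map_one' := Units.ext (by simp [fromBlocks_one])
  map_mul' p p' := Units.ext (by simp [fromBlocks_multiply])

theorem D_val (a b : GL α F) : ((D (a, b) : GL (α ⊕ α) F) : Matrix (α ⊕ α) (α ⊕ α) F) =
    fromBlocks a.val 0 0 b.val := rfl

theorem D_inj {a b a' b' : GL α F} (h : D (a, b) = D (a', b')) : a = a' ∧ b = b' := by
  have := congrArg Units.val h
  rw [D_val, D_val, fromBlocks_inj] at this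
  exact ⟨Units.ext this.1, Units.ext this.2.2.2⟩

/-- The swap of the two halves. -/
def W : GL (α ⊕ α) F := ⟨fromBlocks 0 1 1 0, fromBlocks 0 1 1 0,
  by simp [fromBlocks_multiply, fromBlocks_one], by simp [fromBlocks_multiply, fromBlocks_one]⟩

/-- The central involution. -/
def z : GL (α ⊕ α) F := D (1, -1)

theorem W_mul_W : (W : GL (α ⊕ α) F) * W = 1 :=
  Units.ext (by simp [W, fromBlocks_multiply, fromBlocks_one])

theorem W_mul_D (a b : GL α F) : W * D (a, b) = D (b, a) * W :=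
  Units.ext (by simp [W, D_val, fromBlocks_multiply])

theorem D_ne_D_mul_W [Nonempty α] (a b a' b' : GL α F) : D (a, b) ≠ D (a', b') * W := fun h => by
  have := congrArg Units.val h
  simp only [W, D_val, Units.val_mul, fromBlocks_multiply, zero_mul, mul_zero, mul_one, add_zero, zero_add,
    fromBlocks_inj] at this
  exact a.ne_zero this.1

theorem scl_eq_D (c : Fˣ) : scl (α ⊕ α) F c = D (scl α F c, scl α F c) :=
  Units.ext (by rw [scl_val, D_val, scl_val, ← fromBlocks_one, fromBlocks_smul, smul_zero])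

theorem neg_one_eq : (-1 : GL α F) = scl α F (-1) := Units.ext (by rw [scl_val]; simp)

theorem det_z : ((z : GL (α ⊕ α) F) : Matrix (α ⊕ α) (α ⊕ α) F).det = (-1) ^ Fintype.card α := by
  rw [z, D_val, det_fromBlocks_zero₂₁]
  simp [det_neg]

theorem det_W : ((W : GL (α ⊕ α) F) : Matrix (α ⊕ α) (α ⊕ α) F).det = (-1) ^ Fintype.card α := by
  have hWz : ((W : GL (α ⊕ α) F) * z : GL (α ⊕ α) F).val =
      fromBlocks (1 : Matrix α α F) 0 1 1 * fromBlocks 1 (-1) 0 1 * fromBlocks 1 0 1 1 := by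
    simp [W, z, D_val, fromBlocks_multiply]
  have h1 : (((W : GL (α ⊕ α) F) * z : GL (α ⊕ α) F).val).det = 1 := by
    rw [hWz, det_mul, det_mul, det_fromBlocks_zero₂₁, det_fromBlocks_zero₁₂]
    simp
  rw [Units.val_mul, det_mul, det_z] at h1
  calc _ = ((W : GL (α ⊕ α) F) : Matrix (α ⊕ α) (α ⊕ α) F).det * ((-1) ^ Fintype.card α * (-1) ^ Fintype.card α) := by
        rw [← mul_pow]; simp
    _ = _ := by rw [← mul_assoc, h1, one_mul]

theorem det_Wz : (((W : GL (α ⊕ α) F) * z : GL (α ⊕ α) F).val).det = 1 := by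
  rw [Units.val_mul, det_mul, det_W, det_z, ← mul_pow]; simp

theorem det_D (a b : GL α F) : ((D (a, b) : GL (α ⊕ α) F) : Matrix (α ⊕ α) (α ⊕ α) F).det =
    a.val.det * b.val.det := by
  rw [D_val, det_fromBlocks_zero₂₁]

/-- `(S × S).2`. -/
def dbl (S : Subgroup (GL α F)) : Subgroup (GL (α ⊕ α) F) where
  carrier := {x | ∃ a ∈ S, ∃ b ∈ S, x = D (a, b) ∨ x = D (a, b) * W}
  one_mem' := ⟨1, one_mem _, 1, one_mem _, Or.inl (map_one _).symm⟩
  mul_mem' := by
    rintro _ _ ⟨a, ha, b, hb, rfl | rfl⟩ ⟨c, hc, d, hd, rfl | rfl⟩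
    · exact ⟨_, mul_mem ha hc, _, mul_mem hb hd, Or.inl (by rw [← map_mul]; rfl)⟩
    · exact ⟨_, mul_mem ha hc, _, mul_mem hb hd, Or.inr (by rw [← mul_assoc, ← map_mul]; rfl)⟩
    · refine ⟨_, mul_mem ha hd, _, mul_mem hb hc, Or.inr ?_⟩
      rw [mul_assoc, W_mul_D, ← mul_assoc, ← map_mul]; rfl
    · refine ⟨_, mul_mem ha hd, _, mul_mem hb hc, Or.inl ?_⟩
      rw [mul_assoc, ← mul_assoc W, W_mul_D, mul_assoc, W_mul_W, mul_one, ← map_mul]; rfl
  inv_mem' := by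
    rintro _ ⟨a, ha, b, hb, rfl | rfl⟩
    · exact ⟨_, inv_mem ha, _, inv_mem hb, Or.inl (by rw [← map_inv]; rfl)⟩
    · refine ⟨_, inv_mem hb, _, inv_mem ha, Or.inr ?_⟩
      rw [_root_.mul_inv_rev, inv_eq_of_mul_eq_one_right W_mul_W, ← map_inv, Prod.inv_mk, W_mul_D]

variable {S : Subgroup (GL α F)}

theorem D_mem {a b : GL α F} (ha : a ∈ S) (hb : b ∈ S) : D (a, b) ∈ dbl S := ⟨a, ha, b, hb, Or.inl rfl⟩

theorem W_mem : W ∈ dbl S := ⟨1, one_mem _, 1, one_mem _, Or.inr (by rw [Prod.mk_one_one, map_one, one_mul])⟩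

theorem of_D_mem [Nonempty α] {a b : GL α F} (h : D (a, b) ∈ dbl S) : a ∈ S ∧ b ∈ S := by
  obtain ⟨a', ha, b', hb, h | h⟩ := h
  · obtain ⟨rfl, rfl⟩ := D_inj h; exact ⟨ha, hb⟩
  · exact absurd h (D_ne_D_mul_W _ _ _ _)

theorem card_dbl [Nonempty α] : Nat.card (dbl S) = 2 * Nat.card S ^ 2 := by
  let f : Bool × S × S → dbl S := fun p =>
    ⟨if p.1 then D ((p.2.1 : GL α F), (p.2.2 : GL α F)) else D ((p.2.1 : GL α F), (p.2.2 : GL α F)) * W, by
      split
      · exact D_mem p.2.1.2 p.2.2.2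
      · exact mul_mem (D_mem p.2.1.2 p.2.2.2) W_mem⟩
  have hf : Function.Bijective f := by
    constructor
    · rintro ⟨e, a, b⟩ ⟨e', a', b'⟩ h
      have h' := congrArg Subtype.val h
      cases e <;> cases e' <;> simp [f] at h'
      · obtain ⟨h1, h2⟩ := D_inj h'; rw [Subtype.ext h1, Subtype.ext h2]
      · exact absurd h'.symm (D_ne_D_mul_W _ _ _ _)
      · exact absurd h' (D_ne_D_mul_W _ _ _ _)
      · obtain ⟨h1, h2⟩ := D_inj h'; rw [Subtype.ext h1, Subtype.ext h2]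
    · rintro ⟨_, a, ha, b, hb, rfl | rfl⟩
      · exact ⟨(true, ⟨a, ha⟩, ⟨b, hb⟩), rfl⟩
      · exact ⟨(false, ⟨a, ha⟩, ⟨b, hb⟩), rfl⟩
  rw [← Nat.card_eq_of_bijective f hf, Nat.card_prod, Nat.card_prod, Nat.card_eq_fintype_card (α := Bool),
    Fintype.card_bool]
  ring

theorem z_comm_D (a b : GL α F) : z * D (a, b) = D (a, b) * z := by
  rw [z, ← map_mul, ← map_mul]
  exact congrArg D (Prod.ext (by simp) (by simp))

theorem z_mul_W : (z : GL (α ⊕ α) F) * W = scl (α ⊕ α) F (-1) * (W * z) :=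
  Units.ext (by simp [z, W, D_val, scl_val, fromBlocks_multiply, fromBlocks_neg])

theorem z_cmod {x : GL (α ⊕ α) F} (hx : x ∈ dbl S) : Cmod z x := by
  obtain ⟨a, ha, b, hb, rfl | rfl⟩ := hx
  · exact ⟨1, by rw [map_one, one_mul, z_comm_D]⟩
  · refine ⟨-1, ?_⟩
    rw [← mul_assoc, z_comm_D, mul_assoc, z_mul_W, ← mul_assoc, ← scl_comm, mul_assoc, mul_assoc]

theorem z_sq : (z : GL (α ⊕ α) F) * z = 1 := by
  rw [z, ← map_mul]
  exact (congrArg D (Prod.ext (by simp) (by simp))).trans (map_one D)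

/-- The ambient groups at the two levels. -/
structure Dbl (Γ : Subgroup (GL α F)) (Γ' : Subgroup (GL (α ⊕ α) F)) : Prop where
  mem : ∀ a b, D (a, b) ∈ Γ' ↔ a ∈ Γ ∧ b ∈ Γ
  wmem : W ∈ Γ'

theorem eq_D_of_comm_z (h2 : (2 : F) ≠ 0) {x : GL (α ⊕ α) F} (h : x * z = z * x) :
    ∃ a b, x = D (a, b) := by
  have key : ∀ y : GL (α ⊕ α) F, y * z = z * y → y.val.toBlocks₁₂ = 0 ∧ y.val.toBlocks₂₁ = 0 := by
    intro y hy
    have hy' := congrArg Units.val hy
    rw [Units.val_mul, Units.val_mul, z, D_val, ← fromBlocks_toBlocks y.val, fromBlocks_multiply,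
      fromBlocks_multiply, fromBlocks_inj] at hy'
    obtain ⟨-, e12, e21, -⟩ := hy'
    simp only [Units.val_one, Units.val_neg, mul_one, one_mul, mul_zero, zero_mul, add_zero, zero_add,
      mul_neg, neg_mul] at e12 e21
    constructor
    · ext i j
      have := congrFun (congrFun e12 i) j
      simp only [Matrix.neg_apply] at this
      have h3 : (2 : F) * y.val.toBlocks₁₂ i j = 0 := by linear_combination -this
      exact (mul_eq_zero.1 h3).resolve_left h2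
    · ext i j
      have := congrFun (congrFun e21 i) j
      simp only [Matrix.neg_apply] at this
      have h3 : (2 : F) * y.val.toBlocks₂₁ i j = 0 := by linear_combination this
      exact (mul_eq_zero.1 h3).resolve_left h2
  obtain ⟨h12, h21⟩ := key x h
  obtain ⟨g12, g21⟩ := key x⁻¹ (Commute.inv_left h : Commute x⁻¹ z)
  have hx : x.val = fromBlocks x.val.toBlocks₁₁ 0 0 x.val.toBlocks₂₂ := by
    conv_lhs => rw [← fromBlocks_toBlocks x.val, h12, h21]
  have hi : (x⁻¹).val = fromBlocks (x⁻¹).val.toBlocks₁₁ 0 0 (x⁻¹).val.toBlocks₂₂ := by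
    conv_lhs => rw [← fromBlocks_toBlocks (x⁻¹).val, g12, g21]
  have e1 := x.mul_inv
  have e2 := x.inv_mul
  rw [hi] at e1 e2
  rw [hx, fromBlocks_multiply, ← fromBlocks_one, fromBlocks_inj] at e1
  rw [hx, fromBlocks_multiply, ← fromBlocks_one, fromBlocks_inj] at e2
  refine ⟨⟨x.val.toBlocks₁₁, (x⁻¹).val.toBlocks₁₁, by simpa using e1.1, by simpa using e2.1⟩,
    ⟨x.val.toBlocks₂₂, (x⁻¹).val.toBlocks₂₂, by simpa using e1.2.2.2, by simpa using e2.2.2.2⟩, Units.ext ?_⟩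
  exact hx

/-- The elements central modulo scalars. -/
theorem classify [Nonempty α] {y : GL (α ⊕ α) F} (hy : y ∈ dbl S) {T : Set (GL (α ⊕ α) F)}
    (hT : ∀ t ∈ T, Cmod y t) (hW : W ∈ T)
    (hdiag : ∀ a ∈ S, ∀ b ∈ S, (∀ t ∈ T, Cmod (D (a, b)) t) → Sc a ∧ Sc b)
    {s : GL α F} (hs : D (s, 1) ∈ T) (hs2 : ∀ c : Fˣ, s = scl α F c → c * c ≠ 1) :
    ∃ c : Fˣ, y = scl (α ⊕ α) F c ∨ y = scl (α ⊕ α) F c * z := by
  obtain ⟨a, ha, b, hb, rfl | rfl⟩ := hy
  · obtain ⟨hA, hB⟩ := hdiag a ha b hb hT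
    obtain ⟨u, rfl⟩ := hA.exists_scl
    obtain ⟨v, rfl⟩ := hB.exists_scl
    obtain ⟨c, hc⟩ := hT W hW
    rw [W_mul_D, ← mul_assoc, scl_eq_D, ← map_mul, mul_left_inj] at hc
    obtain ⟨h1, h2⟩ := D_inj hc
    have e1 : (u : F) = c * v := by
      have := congrArg Units.val h1
      rw [← map_mul, scl_val, scl_val] at this
      have i : α := Classical.arbitrary α
      simpa [Matrix.smul_apply, Matrix.one_apply] using congrFun (congrFun this i) i
    have e2 : (v : F) = c * u := by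
      have := congrArg Units.val h2
      rw [← map_mul, scl_val, scl_val] at this
      have i : α := Classical.arbitrary α
      simpa [Matrix.smul_apply, Matrix.one_apply] using congrFun (congrFun this i) i
    have hc2 : (c : F) * c = 1 := by
      have h : (c : F) * c * v = 1 * v := by rw [one_mul, mul_assoc, ← e1, ← e2]
      exact mul_right_cancel₀ v.ne_zero h
    refine ⟨u, ?_⟩
    rcases mul_self_eq_one_iff.1 hc2 with h | h
    · left
      rw [scl_eq_D, show v = u from Units.ext (by rw [e2, h, one_mul])]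
    · right
      rw [scl_eq_D, z, ← map_mul, Prod.mk_mul_mk, mul_one, neg_one_eq, ← map_mul,
        show v = u * (-1) from Units.ext (by rw [e2, h]; simp)]
  · exfalso
    obtain ⟨c, hc⟩ := hT _ hs
    rw [mul_assoc, W_mul_D, ← mul_assoc, ← mul_assoc, ← mul_assoc, ← map_mul, scl_eq_D, ← map_mul, ← map_mul,
      mul_left_inj] at hc
    obtain ⟨h1, h2⟩ := D_inj hc
    have e1 : scl α F c * s = 1 := mul_right_cancel (b := a) (by
      simp only [Prod.fst_mul, Prod.snd_mul, mul_one] at h1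
      rw [one_mul]; exact h1.symm)
    simp only [Prod.fst_mul, Prod.snd_mul, mul_one] at h2
    have hs' : s = scl α F c⁻¹ := by rw [map_inv, eq_inv_of_mul_eq_one_right e1]
    rw [hs', ← scl_comm] at h2
    have e2 : scl α F c⁻¹ = scl α F c := mul_right_cancel h2
    have hcc : c⁻¹ = c := by
      have i : α := Classical.arbitrary α
      have := congrArg Units.val e2
      rw [scl_val, scl_val] at this
      exact Units.ext (by simpa [Matrix.smul_apply, Matrix.one_apply] using congrFun (congrFun this i) i)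
    exact hs2 c⁻¹ hs' (by rw [hcc]; nth_rw 1 [← hcc]; exact inv_mul_cancel c)

theorem sq_eq_scl [Nonempty α] {x : GL (α ⊕ α) F} {c : Fˣ} (h : x * z * x⁻¹ = scl (α ⊕ α) F c * z) :
    c = 1 ∨ c = -1 := by
  have h1 : (x * z * x⁻¹) * (x * z * x⁻¹) = 1 := by
    rw [show (x * z * x⁻¹) * (x * z * x⁻¹) = x * (z * z) * x⁻¹ by group, z_sq]; simp
  rw [h, mul_assoc, ← mul_assoc z, ← scl_comm, mul_assoc, ← mul_assoc, ← map_mul, z_sq, mul_one] at h1
  have h2 : (c : F) * c = 1 := by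
    have := congrArg Units.val h1
    rw [scl_val] at this
    have i : α := Classical.arbitrary α
    simpa [Matrix.smul_apply, Matrix.one_apply] using congrFun (congrFun this (.inl i)) (.inl i)
  rcases mul_self_eq_one_iff.1 h2 with h | h
  · exact Or.inl (Units.ext h)
  · exact Or.inr (Units.ext (by simpa using h))

variable {Γ : Subgroup (GL α F)} {Γ' : Subgroup (GL (α ⊕ α) F)}

theorem dbl_le (hd : Dbl Γ Γ') (h : S ≤ Γ) : dbl S ≤ Γ' := by
  rintro _ ⟨a, ha, b, hb, rfl | rfl⟩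
  · exact (hd.mem _ _).2 ⟨h ha, h hb⟩
  · exact mul_mem ((hd.mem _ _).2 ⟨h ha, h hb⟩) hd.wmem

theorem z_mem (hΓ : Pre Γ S) (hneg : scl α F (-1) ∈ Γ) : z ∈ dbl S :=
  D_mem (one_mem _) (by
    rw [neg_one_eq]
    exact hΓ.scal _ hneg ⟨1, Units.ext (by simp)⟩)

theorem not_Sc_z [Nonempty α] (h2 : (2 : F) ≠ 0) : ¬ Sc (z : GL (α ⊕ α) F) := by
  rintro ⟨c, hc⟩
  have i : α := Classical.arbitrary α
  have e1 := congrFun (congrFun hc (.inl i)) (.inl i)
  have e2 := congrFun (congrFun hc (.inr i)) (.inr i)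
  simp [z, D_val, Matrix.smul_apply] at e1 e2
  exact h2 (by linear_combination e1 - e2)

/-- The common part of the two normaliser computations. -/
theorem normal_form [Nonempty α] [Finite F] (hd : Dbl Γ Γ') (h : Pre Γ S) (h2 : (2 : F) ≠ 0)
    {x : GL (α ⊕ α) F} (hx : x ∈ Γ') {T : Subgroup (GL (α ⊕ α) F)}
    (hT : T ≤ dbl S) (hzT : z ∈ T) (hWT : W ∈ T) (hproj : ∀ s ∈ S, ∃ t, D (s, t) ∈ T)
    (hproj' : ∀ s ∈ S, ∃ t, D (t, s) ∈ T) (hxT : ∀ t ∈ T, x * t * x⁻¹ ∈ T)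
    (hcl : ∀ y ∈ T, (∀ t ∈ T, Cmod y t) → ∃ c : Fˣ, y = scl (α ⊕ α) F c ∨ y = scl (α ⊕ α) F c * z) :
    ∃ y ∈ dbl S, ∃ c : Fˣ, scl (α ⊕ α) F c ∈ Γ' ∧ x = y * scl (α ⊕ α) F c := by
  -- conjugation by `x` permutes the elements central modulo scalars
  have hsurj : ∀ t ∈ T, ∃ t' ∈ T, x * t' * x⁻¹ = t := by
    intro t ht
    let f : T → T := fun u => ⟨x * u.1 * x⁻¹, hxT u.1 u.2⟩
    have hf : Function.Surjective f := Finite.surjective_of_injective fun u v e => Subtype.ext (by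
      simpa [f] using congrArg Subtype.val e)
    obtain ⟨u, hu⟩ := hf ⟨t, ht⟩
    exact ⟨u, u.2, congrArg Subtype.val hu⟩
  obtain ⟨c, hc⟩ : ∃ c : Fˣ, x * z * x⁻¹ = scl (α ⊕ α) F c * z := by
    obtain ⟨c, hc | hc⟩ := hcl _ (hxT z hzT) fun t ht => by
      obtain ⟨u, hu, rfl⟩ := hsurj t ht
      obtain ⟨c, hc⟩ := z_cmod (hT hu)
      refine ⟨c, ?_⟩
      calc x * z * x⁻¹ * (x * u * x⁻¹) = x * (z * u) * x⁻¹ := by group
        _ = x * scl _ F c * (u * z) * x⁻¹ := by rw [hc]; group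
        _ = scl _ F c * (x * (u * z) * x⁻¹) := by rw [← scl_comm]; group
        _ = _ := by group
    · exfalso
      refine not_Sc_z (α := α) h2 ⟨(c : F), ?_⟩
      rw [show (z : GL (α ⊕ α) F) = x⁻¹ * (x * z * x⁻¹) * x by group, hc, mul_assoc, scl_comm,
        inv_mul_cancel_left, scl_val]
    · exact ⟨c, hc⟩
  obtain ⟨e, he, A, B, rfl⟩ : ∃ e : GL (α ⊕ α) F, (e = 1 ∨ e = W) ∧ ∃ A B, x = D (A, B) * e := by
    rcases sq_eq_scl hc with rfl | rfl
    · rw [map_one, one_mul] at hc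
      obtain ⟨A, B, rfl⟩ := eq_D_of_comm_z h2 (x := x) (mul_inv_eq_iff_eq_mul.1 hc)
      exact ⟨1, Or.inl rfl, A, B, (mul_one _).symm⟩
    · have hz : z * W = scl (α ⊕ α) F (-1) * (W * z) := z_mul_W
      have key : x * W * z = z * (x * W) := by
        rw [mul_inv_eq_iff_eq_mul] at hc
        have : W * z = scl (α ⊕ α) F (-1) * (z * W) := by
          rw [hz, ← mul_assoc, ← map_mul]; simp
        rw [mul_assoc, this, ← mul_assoc, ← scl_comm, mul_assoc, ← mul_assoc x, hc, mul_assoc, mul_assoc, ← mul_assoc,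
          ← map_mul]
        simp
      obtain ⟨A, B, hAB⟩ := eq_D_of_comm_z h2 key
      exact ⟨W, Or.inr rfl, A, B, by rw [← hAB, mul_assoc, W_mul_W, mul_one]⟩
  have heT : e ∈ T := by rcases he with rfl | rfl; exacts [one_mem T, hWT]
  have hAB : ∀ t ∈ T, D (A, B) * t * (D (A, B))⁻¹ ∈ T := fun t ht => by
    have := hxT _ (mul_mem (mul_mem (inv_mem heT) ht) heT)
    rwa [show D (A, B) * e * (e⁻¹ * t * e) * (D (A, B) * e)⁻¹ = D (A, B) * t * (D (A, B))⁻¹ by group] at this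
  have heΓ : e ∈ Γ' := by rcases he with rfl | rfl; exacts [one_mem _, hd.wmem]
  obtain ⟨hA, hB⟩ := (hd.mem A B).1 ((Γ'.mul_mem_cancel_right heΓ).1 hx)
  have hconj : ∀ s t, D (s, t) ∈ T → A * s * A⁻¹ ∈ S ∧ B * t * B⁻¹ ∈ S := fun s t hst => by
    have := hT (hAB _ hst)
    rw [← map_inv, ← map_mul, ← map_mul] at this
    exact of_D_mem this
  obtain ⟨a, ha, u, rfl⟩ := h.nrm A hA fun s hs => by
    obtain ⟨t, ht⟩ := hproj s hs; exact (hconj s t ht).1
  obtain ⟨b, hb, v, rfl⟩ := h.nrm B hB fun s hs => by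
    obtain ⟨t, ht⟩ := hproj' s hs; exact (hconj t s ht).2
  -- the swap forces the two scalars to agree
  have hquot : a * scl α F u * (b * scl α F v)⁻¹ ∈ S := by
    have h1 : D (a * scl α F u, b * scl α F v) * W * (D (a * scl α F u, b * scl α F v))⁻¹ * W⁻¹ ∈ dbl S :=
      hT (mul_mem (hAB _ hWT) (inv_mem hWT))
    rw [← map_inv, Prod.inv_mk, mul_assoc (D _) W, W_mul_D, ← mul_assoc, mul_assoc _ W, mul_inv_cancel, mul_one,
      ← map_mul] at h1
    exact (of_D_mem h1).1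
  have huv : scl α F (u * v⁻¹) ∈ S := by
    have := mul_mem (mul_mem (inv_mem ha) hquot) hb
    rwa [show a⁻¹ * (a * scl α F u * (b * scl α F v)⁻¹) * b = scl α F u * (scl α F v)⁻¹ by group,
      ← map_inv, ← map_mul] at this
  refine ⟨D (a, b * (scl α F (u * v⁻¹))⁻¹) * e, mul_mem (D_mem ha (mul_mem hb (inv_mem huv))) ?_, u, ?_, ?_⟩
  · exact hT heT
  · have : scl α F u ∈ Γ := by simpa using mul_mem (inv_mem (h.le ha)) hA
    rw [scl_eq_D]; exact (hd.mem _ _).2 ⟨this, this⟩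
  · rw [mul_assoc _ e, ← scl_comm u e, ← mul_assoc, scl_eq_D, ← map_mul]
    congr 2
    refine Prod.ext rfl ?_
    show b * scl α F v = b * (scl α F (u * v⁻¹))⁻¹ * scl α F u
    rw [mul_assoc, ← map_inv, ← map_mul]
    simp

theorem two_of_mem_dbl (h : Pre Γ S) {y : GL (α ⊕ α) F} (hy : y ∈ dbl S) : Two y := by
  have hD : ∀ a ∈ S, ∀ b ∈ S, Two (D (a, b) : GL (α ⊕ α) F) := by
    intro a ha b hb
    obtain ⟨i, hi⟩ := h.two a ha
    obtain ⟨j, hj⟩ := h.two b hb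
    refine ⟨i + j, ?_⟩
    rw [← map_pow, show (a, b) ^ 2 ^ (i + j) = (1 : GL α F × GL α F) from Prod.ext ?_ ?_, map_one]
    · show a ^ 2 ^ (i + j) = 1
      rw [pow_add, pow_mul, hi, one_pow]
    · show b ^ 2 ^ (i + j) = 1
      rw [pow_add, mul_comm, pow_mul, hj, one_pow]
  obtain ⟨a, ha, b, hb, rfl | rfl⟩ := hy
  · exact hD a ha b hb
  · obtain ⟨k, hk⟩ := hD (a * b) (mul_mem ha hb) (b * a) (mul_mem hb ha)
    refine ⟨k + 1, ?_⟩
    rw [pow_succ', pow_mul, sq, mul_assoc, ← mul_assoc W, W_mul_D, mul_assoc, W_mul_W, mul_one, ← map_mul]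
    exact hk

/-- Doubling. -/
theorem pre_dbl [Nonempty α] [Finite F] (hd : Dbl Γ Γ') (h : Pre Γ S) (h2 : (2 : F) ≠ 0)
    (hneg : scl α F (-1) ∈ Γ) : Full Γ' (dbl S) := by
  obtain ⟨s₀, hs₀, hs₀2⟩ := h.big
  have hz : z ∈ dbl S := z_mem h hneg
  have hcl : ∀ y ∈ dbl S, (∀ t ∈ dbl S, Cmod y t) →
      ∃ c : Fˣ, y = scl (α ⊕ α) F c ∨ y = scl (α ⊕ α) F c * z := fun y hy hY => by
    refine classify hy (T := (dbl S : Set _)) hY W_mem (fun a _ b _ hab => ?_) (D_mem hs₀ (one_mem _)) ?_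
    · constructor
      · refine h.cen a fun s hs => ?_
        obtain ⟨c, hc⟩ := hab _ (D_mem hs (one_mem _))
        rw [← map_mul, ← map_mul, scl_eq_D, ← map_mul] at hc
        obtain ⟨h1, h3⟩ := D_inj hc
        simp only [Prod.fst_mul, Prod.snd_mul, mul_one, one_mul] at h1 h3
        rw [show scl α F c = 1 from (right_eq_mul.1 h3), one_mul] at h1
        exact h1
      · refine h.cen b fun s hs => ?_
        obtain ⟨c, hc⟩ := hab _ (D_mem (one_mem _) hs)
        rw [← map_mul, ← map_mul, scl_eq_D, ← map_mul] at hc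
        obtain ⟨h1, h3⟩ := D_inj hc
        simp only [Prod.fst_mul, Prod.snd_mul, mul_one, one_mul] at h1 h3
        rw [show scl α F c = 1 from (right_eq_mul.1 h1), one_mul] at h3
        exact h3
    · rintro c rfl hc
      exact hs₀2 (by rw [← map_mul, hc, map_one])
  refine ⟨⟨dbl_le hd h.le, fun x hx => two_of_mem_dbl h hx, ?_, ?_, ?_, ?_⟩, ?_, ?_⟩
  · intro c hc h2c
    rw [scl_eq_D] at hc ⊢
    obtain ⟨k, hk⟩ := h2c
    exact D_mem (h.scal _ ((hd.mem _ _).1 hc).1 ⟨k, hk⟩) (h.scal _ ((hd.mem _ _).1 hc).1 ⟨k, hk⟩)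
  · intro a ha
    obtain ⟨A, B, rfl⟩ := eq_D_of_comm_z h2 (ha z hz)
    have hA : Sc A := h.cen A fun s hs => by
      have := ha _ (D_mem hs (one_mem _))
      rw [← map_mul, ← map_mul] at this
      simpa using (D_inj this).1
    have hAB := ha W W_mem
    rw [W_mul_D, mul_left_inj] at hAB
    obtain ⟨rfl, -⟩ := D_inj hAB
    obtain ⟨c, rfl⟩ := hA.exists_scl
    rw [← scl_eq_D]; exact Sc.scl c
  · intro x hx hxT
    obtain ⟨y, hy, c, -, hc⟩ := normal_form hd h h2 hx le_rfl hz W_mem (fun s hs => ⟨1, D_mem hs (one_mem _)⟩)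
      (fun s hs => ⟨1, D_mem (one_mem _) hs⟩) hxT hcl
    exact ⟨y, hy, c, hc⟩
  · refine ⟨D (s₀, 1), D_mem hs₀ (one_mem _), fun e => hs₀2 ?_⟩
    rw [← map_mul, ← map_one D] at e
    exact (D_inj e).1
  · intro a ha hA hdet
    obtain ⟨c, rfl | rfl⟩ := hcl a ha hA
    · exact Sc.scl c
    · exfalso
      have := hdet (W * z) (mul_mem W_mem hz) det_Wz
      rw [mul_assoc, ← mul_assoc z, z_mul_W, ← mul_assoc (W * z), ← scl_comm, mul_assoc (scl _ F c), mul_right_inj,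
        mul_assoc (scl _ F (-1)), mul_eq_right] at this
      have hv := congrArg Units.val this
      rw [scl_val] at hv
      have i : α := Classical.arbitrary α
      have e1 := congrFun (congrFun hv (.inl i)) (.inl i)
      simp at e1
      exact h2 (by linear_combination -e1)
  · refine ⟨W * z, mul_mem W_mem hz, det_Wz, ?_⟩
    rintro ⟨c, hc⟩
    have i : α := Classical.arbitrary α
    have e1 := congrFun (congrFun hc (.inl i)) (.inr i)
    simp [W, z, D_val, fromBlocks_multiply] at e1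

/-- The determinant as a homomorphism to the units. -/
abbrev sdet (β : Type*) [Fintype β] [DecidableEq β] (F : Type*) [Field F] : GL β F →* Fˣ :=
  Matrix.GeneralLinearGroup.det

theorem mem_sdet {β : Type*} [Fintype β] [DecidableEq β] {x : GL β F} :
    x ∈ (sdet β F).ker ↔ (x : Matrix β β F).det = 1 := by
  simp [MonoidHom.mem_ker, Units.ext_iff]

/-- The special part of a doubled subgroup is self-normalising up to scalars of odd order. -/
theorem special_normalizer [Nonempty α] [Finite F] (hd : Dbl Γ Γ') (h : Full Γ S) (h2 : (2 : F) ≠ 0)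
    (hneg : scl α F (-1) ∈ Γ) (hev : Even (Fintype.card α)) {x : GL (α ⊕ α) F} (hx : x ∈ Γ')
    (hdet : (x : Matrix (α ⊕ α) (α ⊕ α) F).det = 1)
    (hxT : ∀ t ∈ dbl S ⊓ (sdet (α ⊕ α) F).ker, x * t * x⁻¹ ∈ dbl S ⊓ (sdet (α ⊕ α) F).ker) :
    ∃ y ∈ dbl S, ∃ c : Fˣ, Odd (orderOf c) ∧ c ^ (Fintype.card α + Fintype.card α) = 1 ∧
      (y : Matrix (α ⊕ α) (α ⊕ α) F).det = 1 ∧ x = y * scl (α ⊕ α) F c := by
  obtain ⟨s₀, hs₀, hs₀d, hs₀n⟩ := h.ns
  set T := dbl S ⊓ (sdet (α ⊕ α) F).ker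
  have hz : z ∈ T := ⟨z_mem h.pre hneg, mem_sdet.2 (by rw [det_z]; exact hev.neg_one_pow)⟩
  have hW : W ∈ T := ⟨W_mem, mem_sdet.2 (by rw [det_W]; exact hev.neg_one_pow)⟩
  have hpair : ∀ s ∈ S, D (s, s⁻¹) ∈ T := fun s hs => ⟨D_mem hs (inv_mem hs),
    mem_sdet.2 (by rw [det_D, ← det_mul, ← Units.val_mul, mul_inv_cancel, Units.val_one, det_one])⟩
  have hone : ∀ s ∈ S, (s : Matrix α α F).det = 1 → D (s, 1) ∈ T := fun s hs hd1 => ⟨D_mem hs (one_mem _),
    mem_sdet.2 (by rw [det_D, hd1, Units.val_one, det_one, mul_one])⟩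
  have hone' : ∀ s ∈ S, (s : Matrix α α F).det = 1 → D (1, s) ∈ T := fun s hs hd1 => ⟨D_mem (one_mem _) hs,
    mem_sdet.2 (by rw [det_D, hd1, Units.val_one, det_one, mul_one])⟩
  have hcl : ∀ y ∈ T, (∀ t ∈ T, Cmod y t) →
      ∃ c : Fˣ, y = scl (α ⊕ α) F c ∨ y = scl (α ⊕ α) F c * z := fun y hy hY => by
    refine classify hy.1 (T := (T : Set _)) hY hW (fun a ha b hb hab => ?_) (hone s₀ hs₀ hs₀d)
      (fun c e => absurd (e ▸ Sc.scl c) hs₀n)
    have hmod : ∀ s ∈ S, Cmod a s ∧ Cmod b s := fun s hs => by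
      constructor
      · obtain ⟨c, hc⟩ := hab _ (hpair s hs)
        rw [← map_mul, ← map_mul, scl_eq_D, ← map_mul] at hc
        exact ⟨c, (D_inj hc).1⟩
      · obtain ⟨c, hc⟩ := hab _ (hpair s⁻¹ (inv_mem hs))
        rw [← map_mul, ← map_mul, scl_eq_D, ← map_mul] at hc
        exact ⟨c, by simpa using (D_inj hc).2⟩
    constructor
    · refine h.sep a ha (fun s hs => (hmod s hs).1) fun s hs hd1 => ?_
      obtain ⟨c, hc⟩ := hab _ (hone s hs hd1)
      rw [← map_mul, ← map_mul, scl_eq_D, ← map_mul] at hc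
      obtain ⟨h1, h3⟩ := D_inj hc
      simp only [Prod.fst_mul, Prod.snd_mul, mul_one, one_mul] at h1 h3
      rw [show scl α F c = 1 from (right_eq_mul.1 h3), one_mul] at h1
      exact h1
    · refine h.sep b hb (fun s hs => (hmod s hs).2) fun s hs hd1 => ?_
      obtain ⟨c, hc⟩ := hab _ (hone' s hs hd1)
      rw [← map_mul, ← map_mul, scl_eq_D, ← map_mul] at hc
      obtain ⟨h1, h3⟩ := D_inj hc
      simp only [Prod.fst_mul, Prod.snd_mul, mul_one, one_mul] at h1 h3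
      rw [show scl α F c = 1 from (right_eq_mul.1 h1), one_mul] at h3
      exact h3
  obtain ⟨y, hy, c, hcΓ, rfl⟩ := normal_form hd h.pre h2 hx inf_le_left hz hW
    (fun s hs => ⟨_, hpair s hs⟩) (fun s hs => ⟨s⁻¹, by have := hpair s⁻¹ (inv_mem hs); rwa [inv_inv] at this⟩) hxT hcl
  obtain ⟨c₂, c₁, hc₂, -, h₂, h₁, rfl⟩ := split c
  obtain ⟨i, hi⟩ := hc₂
  have hc₂Γ : scl (α ⊕ α) F c₂ ∈ dbl S := by
    have hm : scl (α ⊕ α) F c₂ ∈ Γ' := by rw [← hi]; simp only [map_zpow]; exact zpow_mem hcΓ i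
    exact (pre_dbl hd h.pre h2 hneg).pre.scal _ hm h₂
  have hy' : y * scl (α ⊕ α) F c₂ ∈ dbl S := mul_mem hy hc₂Γ
  obtain ⟨k, hk⟩ := two_of_mem_dbl h.pre hy'
  have hdet' : (y * scl (α ⊕ α) F c₂ * scl (α ⊕ α) F c₁).val.det = 1 := by rwa [mul_assoc, ← map_mul]
  rw [Units.val_mul, det_mul, scl_val c₁, det_smul, det_one, mul_one, Fintype.card_sum] at hdet'
  have hpow : ((y * scl (α ⊕ α) F c₂).val.det) ^ 2 ^ k = 1 := by
    rw [← det_pow, ← Units.val_pow_eq_pow_val, hk, Units.val_one, det_one]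
  have hc1 : c₁ ^ (Fintype.card α + Fintype.card α) = 1 := by
    refine eq_one_of_two_of_odd ⟨k, Units.ext ?_⟩ (h₁.of_dvd_nat (orderOf_pow_dvd _))
    have := congrArg (· ^ 2 ^ k) hdet'
    simp only [mul_pow, hpow, one_mul, one_pow] at this
    simpa [Units.val_pow_eq_pow_val] using this
  refine ⟨_, hy', c₁, h₁, hc1, ?_, by rw [map_mul, mul_assoc]⟩
  rwa [← Units.val_pow_eq_pow_val, hc1, Units.val_one, mul_one] at hdet'

end Cfsg.Agent.Lie.TwoDouble
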