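import Cfsg.Agent.Lib.Classical.DicksonMain
import Cfsg.Agent.Lib.Classical.DicksonCentral
import Cfsg.Agent.Lib.Classical.DicksonKlein
import Cfsg.Agent.Lib.Classical.DicksonKleinCount
import Cfsg.Agent.Lib.Transfer.PronormalSylow
import Cfsg.Agent.Lib.Lie.TwoSylowDouble

/-!
Subgroups of odd index of `PSL(2, q)`, `q` odd, are pronormal.
-/

set_option autoImplicit false
set_option linter.unusedSectionVars false
set_option maxHeartbeats 1000000

namespace Cfsg.Agent.Lie.TwoPronormalPSL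

open Matrix Cfsg.Agent.Dickson Cfsg.Agent.Transfer.PronormalSyl Cfsg.Agent.Grp.SL2 Cfsg.Agent.PSL2Spec

universe u
variable {F : Type u} [Field F] [Fintype F] (p : ℕ) [Fact p.Prime] [CharP F p]

local notation "PSL₂" => Matrix.ProjectiveSpecialLinearGroup (Fin 2) F

theorem card_psl_two (hodd : Odd (Fintype.card F)) :
    Nat.card PSL₂ * 2 = Fintype.card F * ((Fintype.card F - 1) * (Fintype.card F + 1)) := by
  have h := card_psl (F := F)
  rcases del_cases F with ⟨-, he⟩ | ⟨hd, -⟩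
  · exact absurd he (Nat.not_even_iff_odd.2 hodd)
  · rwa [hd] at h

theorem four_dvd (hodd : Odd (Fintype.card F)) : 4 ∣ Nat.card PSL₂ := by
  have h := card_psl_two (F := F) hodd
  have h8 : 8 ∣ (Fintype.card F - 1) * (Fintype.card F + 1) := by
    obtain ⟨m, hm⟩ := hodd
    obtain ⟨r, hr⟩ := (Nat.even_mul_succ_self m).two_dvd
    exact ⟨r, by rw [hm, Nat.add_sub_cancel, show 2 * m + 1 + 1 = 2 * (m + 1) by ring,
      show 2 * m * (2 * (m + 1)) = 4 * (m * (m + 1)) by ring, hr]; ring⟩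
  have : 8 ∣ Nat.card PSL₂ * 2 := h ▸ h8.mul_left _
  omega

/-- An involution without nontrivial fixed points on an odd subgroup inverts it. -/
theorem inverts {G : Type*} [Group G] [Finite G] {H₀ : Subgroup G} (hodd : Odd (Nat.card H₀)) {v : G}
    (hv : v * v = 1) (hn : ∀ a ∈ H₀, v * a * v ∈ H₀) (hfix : ∀ a ∈ H₀, Commute a v → a = 1) :
    ∀ a ∈ H₀, v * a * v = a⁻¹ := by
  let f : H₀ → H₀ := fun a => ⟨(a : G)⁻¹ * (v * a * v), mul_mem (inv_mem a.2) (hn a a.2)⟩
  have hvi : v⁻¹ = v := inv_eq_of_mul_eq_one_right hv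
  have hf : Function.Injective f := fun a b h => by
    have h' : (a : G)⁻¹ * (v * a * v) = (b : G)⁻¹ * (v * b * v) := congrArg Subtype.val h
    have e : Commute ((b : G) * (a : G)⁻¹) v := by
      have h1 : (b : G) * (a : G)⁻¹ = v * b * v * (v * a * v)⁻¹ := by
        rw [eq_mul_inv_iff_mul_eq, mul_assoc, h', mul_inv_cancel_left]
      rw [show v * b * v * (v * a * v)⁻¹ = v * (b * (a : G)⁻¹) * v⁻¹ by group] at h1
      exact (mul_inv_eq_iff_eq_mul.1 h1.symm).symm
    exact Subtype.ext (mul_inv_eq_one.1 (hfix _ (mul_mem b.2 (inv_mem a.2)) e)).symm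
  intro a ha
  obtain ⟨b, hb⟩ := Finite.surjective_of_injective hf ⟨a, ha⟩
  have e : (b : G)⁻¹ * (v * b * v) = a := congrArg Subtype.val hb
  rw [← e]
  calc v * ((b : G)⁻¹ * (v * b * v)) * v = v * (b : G)⁻¹ * v * b * (v * v) := by group
    _ = _ := by rw [hv, mul_one, _root_.mul_inv_rev, _root_.mul_inv_rev, _root_.mul_inv_rev, hvi, inv_inv]; group

include p

/-- A Klein four-group acting on an odd subgroup with two different nontrivial fixed subgroups does not exist when
`q` is `3` or `5` modulo `8`. -/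
theorem no_two_fixed (hodd : Odd (Fintype.card F)) (hm : Fintype.card F % 8 = 3 ∨ Fintype.card F % 8 = 5)
    {K V : Subgroup PSL₂} (hK : Odd (Nat.card K)) (hV : Nat.card V = 4) (hVK : V ≤ Subgroup.normalizer (K : Set PSL₂))
    {z z' a b : PSL₂} (hz : orderOf z = 2) (hz' : orderOf z' = 2) (hne : z ≠ z')
    (ha : a ∈ K) (ha1 : a ≠ 1) (haz : Commute a z) (hb : b ∈ K) (hb1 : b ≠ 1) (hbz : Commute b z') : False := by
  set D := pslData (F := F) p
  have hTor : ∀ {w c : PSL₂}, orderOf w = 2 → c ∈ K → Commute c w → c ∈ tor w := by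
    intro w c hw hc hcw
    obtain ⟨w1, wp, w2⟩ := involution_semi p hodd hw
    have hN : c ∈ Subgroup.normalizer (tor w : Set PSL₂) := by
      rw [← centralizer_involution p w1 wp w2]
      exact Subgroup.mem_centralizer_singleton_iff.2 hcw
    by_contra hct
    have h2 := (D.semi_flip w1 wp ((D.mem_normalizer_iff w1).1 hN) hct).1
    have ho : orderOf c ∣ 2 := orderOf_dvd_of_pow_eq_one ((pow_two c).trans h2)
    have hoK : Odd (orderOf c) := hK.of_dvd_nat (by
      rw [← Subgroup.orderOf_mk c hc]; exact orderOf_dvd_natCard _)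
    rcases (Nat.dvd_prime Nat.prime_two).1 ho with h | h
    · exact hct (orderOf_eq_one_iff.1 h ▸ one_mem _)
    · rw [h] at hoK; exact absurd hoK (by decide)
  rcases dickson p K with h | ⟨c, -, hc1, hcp, h⟩ | ⟨c, -, -, -, hidx, -, -⟩ | ⟨c, hc, hc1, hcp, h⟩ |
    ⟨h, -, -⟩ | ⟨h, -, -⟩ | ⟨h, -, -⟩ | h
  · exact ha1 (by simpa [h] using ha)
  · -- cyclic: the two tori coincide
    obtain ⟨w1, wp, w2⟩ := involution_semi p hodd hz
    obtain ⟨w1', wp', w2'⟩ := involution_semi p hodd hz'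
    have same : ∀ {a b : PSL₂}, a ≠ 1 → b ∈ tor a → b ≠ 1 → tor b = tor a := fun h1 h2 h3 => D.same h1 h2 h3
    have e : tor z = tor z' := by
      rw [← same w1 (hTor hz ha haz) ha1, ← same w1' (hTor hz' hb hbz) hb1, same hc1 (h ha) ha1,
        same hc1 (h hb) hb1]
    have hmem : z' ∈ tor z := e ▸ D.self z'
    haveI : IsCyclic (tor z) := D.semi_cyclic w1 wp
    classical
    haveI := Fintype.ofFinite (tor z)
    have hle := IsCyclic.card_pow_eq_one_le (α := tor z) two_pos
    have hsub : ({1, ⟨z, D.self z⟩, ⟨z', hmem⟩} : Finset (tor z)) ⊆ Finset.univ.filter fun a => a ^ 2 = 1 := by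
      intro x hx
      simp only [Finset.mem_insert, Finset.mem_singleton] at hx
      rcases hx with rfl | rfl | rfl <;> simp [Subtype.ext_iff, pow_two, w2, w2']
    have := (Finset.card_le_card hsub).trans hle
    rw [Finset.card_insert_of_notMem (by simp [Subtype.ext_iff, Ne.symm w1, Ne.symm w1']),
      Finset.card_pair (by simp [Subtype.ext_iff, hne])] at this
    omega
  · have h2 : 2 ∣ Nat.card K := by
      have := Subgroup.index_dvd_card ((tor c).subgroupOf K); rwa [hidx] at this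
    rw [Nat.odd_iff] at hK; omega
  · -- Borel: the four-group would lie in a Borel subgroup
    have hU : Nat.card (tor c) = Fintype.card F := card_tor_uni p hc1 hcp
    have hB := card_borel p hc1 hcp
    rw [(del_cases F).resolve_left (fun hh => Nat.not_even_iff_odd.2 hodd hh.2) |>.1] at hB
    have hVN : V ≤ Subgroup.normalizer (tor c : Set PSL₂) := by
      intro v hv
      refine (D.mem_normalizer_iff hc1).2 ?_
      have hcK : v * c * v⁻¹ ∈ K := (Subgroup.mem_normalizer_iff.1 (hVK hv) c).1 hc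
      set U := (tor c).subgroupOf (Subgroup.normalizer (tor c : Set PSL₂))
      haveI : U.Normal := Subgroup.normal_in_normalizer
      let y : Subgroup.normalizer (tor c : Set PSL₂) := ⟨v * c * v⁻¹, h hcK⟩
      have hy : (QuotientGroup.mk' U y) ^ p = 1 := by
        rw [← map_pow, show y ^ p = 1 from Subtype.ext (by simp [y, hcp]), map_one]
      have hq : ¬ p ∣ Nat.card (Subgroup.normalizer (tor c : Set PSL₂) ⧸ U) := by
        intro hd
        have e1 := U.card_eq_card_quotient_mul_card_subgroup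
        rw [Nat.card_congr (Subgroup.subgroupOfEquivOfLe Subgroup.le_normalizer).toEquiv, hU] at e1
        rw [e1, mul_comm _ (Fintype.card F), mul_assoc] at hB
        have e2 := Nat.eq_of_mul_eq_mul_left (Fintype.card_pos (α := F)) hB
        have hpq : p ∣ Fintype.card F := dvd_card_field p
        have h2 : p ∣ Fintype.card F - 1 := e2 ▸ dvd_mul_of_dvd_left hd 2
        have := Nat.dvd_sub hpq h2
        rw [Nat.sub_sub_self (Fintype.card_pos (α := F))] at this
        exact (Fact.out : p.Prime).one_lt.ne' (Nat.dvd_one.1 this)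
      have hone : QuotientGroup.mk' U y = 1 := by
        refine orderOf_eq_one_iff.1 ?_
        rcases (Nat.dvd_prime Fact.out).1 (orderOf_dvd_of_pow_eq_one hy) with e | e
        · exact e
        · exact absurd (e ▸ orderOf_dvd_natCard _) hq
      exact (QuotientGroup.eq_one_iff y).1 hone
    have h4 := Subgroup.card_dvd_of_le hVN
    rw [hV] at h4
    obtain ⟨r, hr⟩ := h4
    rw [hr] at hB
    obtain ⟨s, hs⟩ : ∃ s, Fintype.card F = 8 * s + 3 ∨ Fintype.card F = 8 * s + 5 :=
      ⟨Fintype.card F / 8, by omega⟩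
    rcases hs with hs | hs <;> rw [hs] at hB
    · rw [show 8 * s + 3 - 1 = 8 * s + 2 by omega, show (8 * s + 3) * (8 * s + 2) = 8 * (8 * s * s + 5 * s) + 6 by ring] at hB
      omega
    · rw [show 8 * s + 5 - 1 = 8 * s + 4 by omega, show (8 * s + 5) * (8 * s + 4) = 8 * (8 * s * s + 9 * s + 2) + 4 by ring] at hB
      omega
  · rw [h] at hK; exact absurd hK (by decide)
  · rw [h] at hK; exact absurd hK (by decide)
  · rw [h] at hK; exact absurd hK (by decide)
  · obtain ⟨k, i1, i2, m, hk3, hkm, he⟩ := h.nonempty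
    have hko : Odd (Fintype.card k) := by
      by_contra hc
      rw [Nat.not_odd_iff_even] at hc
      rcases Nat.eq_zero_or_pos m with rfl | hm0
      · have := Fintype.one_lt_card (α := F); simp at hkm; omega
      · exact Nat.not_even_iff_odd.2 hodd (hkm ▸ hc.pow_of_ne_zero hm0.ne')
    have hev : 2 ∣ Nat.card (Matrix.ProjectiveSpecialLinearGroup (Fin 2) k) :=
      (by norm_num : 2 ∣ 4).trans (four_dvd hko)
    rcases he with ⟨⟨e⟩⟩ | ⟨⟨e⟩⟩
    · rw [Nat.card_congr e.toEquiv] at hK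
      rw [Nat.odd_iff] at hK; omega
    · rw [Nat.card_congr e.toEquiv, Classical.natCard_PGL_eq_SL] at hK
      have : 2 ∣ Nat.card (Matrix.SpecialLinearGroup (Fin 2) k) := hev.trans
        (Subgroup.card_quotient_dvd_card _)
      rw [Nat.odd_iff] at hK; omega

theorem involution_unique (hodd : Odd (Fintype.card F)) {z z' : PSL₂} (hz : orderOf z = 2) (hz' : orderOf z' = 2) (hmem : z' ∈ tor z) :
    z' = z := by
  by_contra hne
  obtain ⟨w1, wp, w2⟩ := involution_semi p hodd hz
  obtain ⟨w1', -, w2'⟩ := involution_semi p hodd hz'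
  set D := pslData (F := F) p
  haveI : IsCyclic (tor z) := D.semi_cyclic w1 wp
  classical
  haveI := Fintype.ofFinite (tor z)
  have hle := IsCyclic.card_pow_eq_one_le (α := tor z) two_pos
  have hsub : ({1, ⟨z, D.self z⟩, ⟨z', hmem⟩} : Finset (tor z)) ⊆ Finset.univ.filter fun a => a ^ 2 = 1 := by
    intro x hx
    simp only [Finset.mem_insert, Finset.mem_singleton] at hx
    rcases hx with rfl | rfl | rfl <;> simp [Subtype.ext_iff, pow_two, w2, w2']
  have := (Finset.card_le_card hsub).trans hle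
  rw [Finset.card_insert_of_notMem (by simp [Subtype.ext_iff, Ne.symm w1, Ne.symm w1']),
    Finset.card_pair (by simp [Subtype.ext_iff, Ne.symm hne])] at this
  omega

theorem exists_second (hodd : Odd (Fintype.card F)) [Fact (Nat.Prime 2)] (S : Sylow 2 PSL₂) (z : PSL₂) :
    ∃ z' ∈ (S : Subgroup PSL₂), orderOf z' = 2 ∧ z' ≠ z := by
  have h2 := two_ne_zero_of_odd_card (F := F) hodd
  obtain ⟨x, y, h⟩ := exists_quat (F := F) hodd
  have hp : IsPGroup 2 h.klein := IsPGroup.of_card (n := 2) (h.card_klein h2)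
  obtain ⟨T, hT⟩ := hp.exists_le_sylow
  obtain ⟨g, hg⟩ := MulAction.exists_smul_eq PSL₂ T S
  have hm : ∀ w ∈ h.klein, g * w * g⁻¹ ∈ (S : Subgroup PSL₂) := fun w hw => by
    rw [← hg]; exact ⟨w, hT hw, rfl⟩
  have ho : ∀ w : Matrix.SpecialLinearGroup (Fin 2) F, w * w = -1 → orderOf (g * proj w * g⁻¹) = 2 := fun w hw => by
    rw [show g * proj w * g⁻¹ = MulAut.conj g (proj w) from rfl, MulEquiv.orderOf_eq]
    exact orderOf_eq_prime (by rw [pow_two, Quat.sq_proj hw]) (Quat.proj_ne_one h2 hw)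
  by_cases hx : g * proj x * g⁻¹ = z
  · refine ⟨g * proj y * g⁻¹, hm _ ?_, ho y h.yy, fun e => h.ne h2 ?_⟩
    · exact Quat.mem_klein.2 (Or.inr (Or.inr (Or.inl rfl)))
    · exact (mul_left_cancel (mul_right_cancel (hx.trans e.symm)))
  · exact ⟨g * proj x * g⁻¹, hm _ (Quat.mem_klein.2 (Or.inr (Or.inl rfl))), ho x h.xx, hx⟩

/-- Subgroups of odd index are pronormal. -/
theorem pronormal (hodd : Odd (Fintype.card F)) (H : Subgroup PSL₂) (hH : Odd H.index) : Cfsg.IsPronormal H := by
  haveI : Fact (Nat.Prime 2) := ⟨Nat.prime_two⟩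
  set D := pslData (F := F) p
  obtain ⟨S', hS'⟩ : ∃ S' : Sylow 2 H, True := ⟨default, trivial⟩
  set S₀ := (S' : Subgroup H).map H.subtype
  have hS₀p : IsPGroup 2 S₀ := S'.isPGroup'.map _
  have hS₀i : ¬ 2 ∣ S₀.index := by
    rw [Subgroup.index_map_subtype]
    exact Nat.prime_two.not_dvd_mul S'.not_dvd_index (by rw [Nat.odd_iff] at hH; omega)
  set S : Sylow 2 PSL₂ := hS₀p.toSylow hS₀i
  have hSH : (S : Subgroup PSL₂) ≤ H := Subgroup.map_subtype_le _
  have h4 : 4 ∣ Nat.card S := by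
    have h := four_dvd (F := F) hodd
    rw [← (S : Subgroup PSL₂).card_mul_index] at h
    refine (Nat.Coprime.dvd_of_dvd_mul_right ?_ h)
    rw [show (4 : ℕ) = 2 ^ 2 by norm_num]
    exact Nat.Coprime.pow_left 2 ((Nat.Prime.coprime_iff_not_dvd Nat.prime_two).2 S.not_dvd_index)
  haveI : Nontrivial S := by
    rw [← Finite.one_lt_card_iff_nontrivial]
    exact lt_of_lt_of_le (by norm_num) (Nat.le_of_dvd Nat.card_pos h4)
  haveI := S.isPGroup'.center_nontrivial
  obtain ⟨⟨⟨z, hzS⟩, hzc⟩, hz⟩ := exists_prime_orderOf_dvd_card' (G := Subgroup.center S) 2 (by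
    obtain ⟨i, hi, e⟩ := (S.isPGroup'.to_subgroup (Subgroup.center S)).nontrivial_iff_card.1 inferInstance
    rw [e]; exact dvd_pow_self 2 (by omega))
  rw [← Subgroup.orderOf_coe, ← Subgroup.orderOf_coe] at hz
  have hzcomm : ∀ s ∈ (S : Subgroup PSL₂), Commute s z := fun s hs =>
    congrArg Subtype.val (Subgroup.mem_center_iff.1 hzc ⟨s, hs⟩)
  obtain ⟨z1, zp, z2⟩ := involution_semi p hodd hz
  by_cases hcase : ∀ z' ∈ (S : Subgroup PSL₂), orderOf z' = 2 → (∀ s ∈ (S : Subgroup PSL₂), Commute s z') → z' = z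
  · -- a unique central involution: `N(S) = S`
    refine isPronormal_of_normalizer_le S hSH (le_trans ?_ hSH)
    intro x hx
    have hxm := Subgroup.mem_normalizer_iff.1 hx
    have hxz : x * z * x⁻¹ = z := by
      refine hcase _ ((hxm z).1 hzS) ?_ fun s hs => ?_
      · rw [show x * z * x⁻¹ = MulAut.conj x z from rfl, MulEquiv.orderOf_eq, hz]
      · have h1 : x⁻¹ * s * x ∈ (S : Subgroup PSL₂) := (hxm _).2 (by simpa [mul_assoc] using hs)
        have := hzcomm _ h1
        calc s * (x * z * x⁻¹) = x * ((x⁻¹ * s * x) * z) * x⁻¹ := by group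
          _ = x * (z * (x⁻¹ * s * x)) * x⁻¹ := by rw [this.eq]
          _ = _ := by group
    obtain ⟨x₂, x₁, hx₂, hx₁, ⟨k, hk⟩, h₁, hx'⟩ : ∃ a b : PSL₂, a ∈ Subgroup.zpowers x ∧ b ∈ Subgroup.zpowers x ∧
        (∃ k : ℕ, a ^ 2 ^ k = 1) ∧ Odd (orderOf b) ∧ x = a * b := Lie.TwoDouble.split x
    have hx₁N : x₁ ∈ Subgroup.normalizer ((S : Subgroup PSL₂) : Set PSL₂) :=
      (Subgroup.zpowers_le.2 hx) hx₁
    have hx₂N : x₂ ∈ Subgroup.normalizer ((S : Subgroup PSL₂) : Set PSL₂) :=
      (Subgroup.zpowers_le.2 hx) hx₂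
    have hx₂S : x₂ ∈ (S : Subgroup PSL₂) := by
      have hp : IsPGroup 2 (Subgroup.zpowers x₂) := by
        rw [IsPGroup.iff_card, Nat.card_zpowers]
        obtain ⟨i, -, hi⟩ := (Nat.dvd_prime_pow Nat.prime_two).1 (orderOf_dvd_of_pow_eq_one hk)
        exact ⟨i, hi⟩
      have h := hp.to_sup_of_normal_right' S.isPGroup' (Subgroup.zpowers_le.2 hx₂N)
      rw [← S.is_maximal' h le_sup_right]
      exact (le_sup_left : Subgroup.zpowers x₂ ≤ _) (Subgroup.mem_zpowers _)
    have hx₁z : Commute x₁ z := by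
      have : x ∈ Subgroup.centralizer ({z} : Set PSL₂) :=
        Subgroup.mem_centralizer_singleton_iff.2 (mul_inv_eq_iff_eq_mul.1 hxz)
      exact Subgroup.mem_centralizer_singleton_iff.1 ((Subgroup.zpowers_le.2 this) hx₁)
    have hcN : ∀ w, Commute w z → w ∈ Subgroup.normalizer (tor z : Set PSL₂) := fun w hw => by
      rw [← centralizer_involution p z1 zp z2]; exact Subgroup.mem_centralizer_singleton_iff.2 hw
    have hx₁t : x₁ ∈ tor z := by
      by_contra hct
      have h2 := (D.semi_flip z1 zp ((D.mem_normalizer_iff z1).1 (hcN _ hx₁z)) hct).1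
      rcases (Nat.dvd_prime Nat.prime_two).1 (orderOf_dvd_of_pow_eq_one ((pow_two x₁).trans h2)) with h | h
      · exact hct (orderOf_eq_one_iff.1 h ▸ one_mem _)
      · rw [h] at h₁; exact absurd h₁ (by decide)
    obtain ⟨s, hs, hst⟩ : ∃ s ∈ (S : Subgroup PSL₂), s ∉ tor z := by
      by_contra hc
      push Not at hc
      obtain ⟨z', hz'S, hz', hne⟩ := exists_second p hodd S z
      exact hne (involution_unique p hodd hz hz' (hc z' hz'S))
    have hflip := (D.semi_flip z1 zp ((D.mem_normalizer_iff z1).1 (hcN _ (hzcomm s hs))) hst).2 x₁ hx₁t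
    have hsq : x₁⁻¹ * x₁⁻¹ ∈ (S : Subgroup PSL₂) := by
      have h1 : x₁⁻¹ * s * x₁⁻¹⁻¹ ∈ (S : Subgroup PSL₂) := (Subgroup.mem_normalizer_iff.1 (inv_mem hx₁N) s).1 hs
      have h2 : x₁⁻¹ * s * x₁⁻¹⁻¹ * s⁻¹ = x₁⁻¹ * x₁⁻¹ := by
        rw [inv_inv, mul_assoc _ x₁, mul_assoc _ (s : PSL₂), ← mul_assoc s, hflip]
      exact h2 ▸ mul_mem h1 (inv_mem hs)
    have hx1e : x₁ = 1 := by
      obtain ⟨i, hi⟩ := S.isPGroup' ⟨_, hsq⟩
      have hi' : (x₁⁻¹ * x₁⁻¹) ^ 2 ^ i = 1 := by simpa using congrArg Subtype.val hi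
      refine inv_eq_one.1 (Lie.TwoDouble.eq_one_of_two_of_odd ⟨i + 1, ?_⟩ (by rwa [orderOf_inv]))
      rw [pow_succ', pow_mul, sq, hi']
    rw [hx', hx1e, mul_one]; exact hx₂S
  · -- the Sylow subgroup is a four-group
    push Not at hcase
    obtain ⟨z', hz'S, hz', hz'c, hne⟩ := hcase
    obtain ⟨z1', zp', z2'⟩ := involution_semi p hodd hz'
    have h2 := two_ne_zero_of_odd_card (F := F) hodd
    obtain ⟨x, y, hq, hklein⟩ := exists_quat_of_isKleinFour hodd
      (isKleinFour_fourGroup z2 z2' (hzcomm z' hz'S).eq.symm z1 z1' hne.symm)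
    have hVmem : ∀ w, w ∈ hq.klein ↔ w = 1 ∨ w = z ∨ w = z' ∨ w = z * z' := fun w => by
      rw [hklein]; exact Iff.rfl
    have hSV : (S : Subgroup PSL₂) ≤ hq.klein := fun s hs => by
      have hcom : ∀ w ∈ hq.klein, Commute s w := fun w hw => by
        rcases (hVmem w).1 hw with rfl | rfl | rfl | rfl
        exacts [Commute.one_right s, hzcomm s hs, hz'c s hs, (hzcomm s hs).mul_right (hz'c s hs)]
      exact hq.centralizer h2 (hcom _ (Quat.mem_klein.2 (Or.inr (Or.inl rfl))))
        (hcom _ (Quat.mem_klein.2 (Or.inr (Or.inr (Or.inl rfl)))))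
    have hVS : hq.klein ≤ (S : Subgroup PSL₂) := fun w hw => by
      rcases (hVmem w).1 hw with rfl | rfl | rfl | rfl
      exacts [one_mem _, hzS, hz'S, mul_mem hzS hz'S]
    have hSeq : (S : Subgroup PSL₂) = hq.klein := le_antisymm hSV hVS
    have hS4 : Nat.card (S : Subgroup PSL₂) = 4 := by rw [hSeq]; exact hq.card_klein h2
    have hm : Fintype.card F % 8 = 3 ∨ Fintype.card F % 8 = 5 := by
      by_contra hc
      have h8 : 16 ∣ (Fintype.card F - 1) * (Fintype.card F + 1) := by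
        obtain ⟨r, hr⟩ : ∃ r, Fintype.card F = 8 * r + 1 ∨ Fintype.card F = 8 * r + 7 :=
          ⟨Fintype.card F / 8, by rw [Nat.odd_iff] at hodd; omega⟩
        rcases hr with hr | hr
        · exact ⟨r * (4 * r + 1), by rw [hr, Nat.add_sub_cancel]; ring⟩
        · exact ⟨(4 * r + 3) * (r + 1), by rw [hr, show 8 * r + 7 - 1 = 8 * r + 6 by omega]; ring⟩
      have h16 : 16 ∣ Nat.card PSL₂ * 2 := (card_psl_two (F := F) hodd) ▸ h8.mul_left _
      have h := (S : Subgroup PSL₂).card_mul_index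
      have hi : ¬ 2 ∣ (S : Subgroup PSL₂).index := S.not_dvd_index
      rw [hS4] at h
      omega
    have hN12 : Nat.card (Subgroup.normalizer ((S : Subgroup PSL₂) : Set PSL₂)) = 12 := by
      rw [hSeq]; exact (card_normalizer_klein p hodd hq).2 (by omega)
    intro g₀
    -- it suffices to treat elements normalising `S`
    set L₀ := H ⊔ cj g₀ H
    have h1 : (S : Subgroup PSL₂) ≤ L₀ := hSH.trans le_sup_left
    have h2' : ((g₀ • S : Sylow 2 PSL₂) : Subgroup PSL₂) ≤ L₀ := (Subgroup.map_mono hSH).trans le_sup_right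
    obtain ⟨k, hk⟩ := MulAction.exists_smul_eq L₀ ((g₀ • S : Sylow 2 PSL₂).subtype h2') (S.subtype h1)
    have hkg : ((k : PSL₂) * g₀) • S = S := by
      rw [mul_smul]
      exact Sylow.subtype_injective ((Sylow.smul_subtype h2' k).symm.trans hk)
    refine good_of_mul (x := (k : PSL₂)⁻¹) (inv_mem k.2) ?_
    rw [inv_inv]
    have hg := Sylow.smul_eq_iff_mem_normalizer.1 hkg
    generalize (k : PSL₂) * g₀ = g at hg ⊢
    clear hkg hk h1 h2' L₀ k g₀
    by_cases hgH : g ∈ H
    · exact ⟨1, one_mem _, by rw [cj_one, cj_eq_self.2 (Subgroup.le_normalizer hgH)]⟩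
    set L := H ⊔ cj g H with hLdef
    have hSL : (S : Subgroup PSL₂) ≤ L := hSH.trans le_sup_left
    set M := Subgroup.normalizer ((S : Subgroup PSL₂) : Set PSL₂) ⊓ L with hMdef
    have hSM : (S : Subgroup PSL₂) ≤ M := le_inf Subgroup.le_normalizer hSL
    by_cases hMS : M = (S : Subgroup PSL₂)
    swap
    · have h4M : 4 ∣ Nat.card M := hS4 ▸ Subgroup.card_dvd_of_le hSM
      have hM12 : Nat.card M ∣ 12 := hN12 ▸ Subgroup.card_dvd_of_le inf_le_left
      have hne4 : Nat.card M ≠ 4 := fun e =>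
        hMS (Subgroup.eq_of_le_of_card_ge hSM (by rw [e, hS4])).symm
      obtain ⟨r, hr⟩ := h4M
      rw [hr] at hM12 hne4
      have hr3 : r ∣ 3 := Nat.dvd_of_mul_dvd_mul_left (show 0 < 4 by norm_num) hM12
      have hM : M = Subgroup.normalizer ((S : Subgroup PSL₂) : Set PSL₂) :=
        Subgroup.eq_of_le_of_card_ge inf_le_left (by
          rw [hN12, hr]
          rcases (Nat.dvd_prime Nat.prime_three).1 hr3 with rfl | rfl <;> omega)
      exact ⟨g, (hM ▸ inf_le_right : Subgroup.normalizer ((S : Subgroup PSL₂) : Set PSL₂) ≤ L) hg, rfl⟩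
    by_cases hHS : H = (S : Subgroup PSL₂)
    · exact ⟨1, one_mem _, by rw [cj_one, hHS, cj_eq_self.2 hg]⟩
    exfalso
    -- Burnside's transfer theorem inside `L`
    set P : Sylow 2 L := S.subtype hSL
    have hcomm : IsMulCommutative ((P : Subgroup L)) := ⟨⟨fun a b => Subtype.ext (Subtype.ext (by
      have ha : ((a : L) : PSL₂) ∈ hq.klein := hSV a.2
      have hb : ((b : L) : PSL₂) ∈ (S : Subgroup PSL₂) := b.2
      rcases (hVmem _).1 ha with e | e | e | e <;> simp only [Subgroup.coe_mul, e]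
      · rw [one_mul, mul_one]
      · exact (hzcomm _ hb).eq.symm
      · exact (hz'c _ hb).eq.symm
      · exact ((hzcomm _ hb).mul_right (hz'c _ hb)).eq.symm))⟩⟩
    have hNC : Subgroup.normalizer ((P : Subgroup L) : Set L) ≤ Subgroup.centralizer ((P : Subgroup L) : Set L) := by
      intro a ha
      have haM : (a : PSL₂) ∈ M := by
        refine ⟨mem_normalizer_of_forall fun s hs => ?_, a.2⟩
        exact (Subgroup.mem_normalizer_iff.1 ha ⟨s, hSL hs⟩).1 hs
      rw [hMS] at haM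
      intro b hb
      exact congrArg Subtype.val (hcomm.is_comm.comm (⟨b, hb⟩ : (P : Subgroup L)) ⟨a, haM⟩)
    have hcompl := MonoidHom.ker_transferSylow_isComplement' P hNC
    generalize MonoidHom.transferSylow P hNC = τ at hcompl
    set K := τ.ker.map L.subtype with hK
    have hKodd : Odd (Nat.card K) := by
      rw [hK, Subgroup.card_map_of_injective L.subtype_injective, Nat.odd_iff]
      have e := hcompl.card_mul
      have hi : ¬ 2 ∣ (P : Subgroup L).index := P.not_dvd_index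
      rw [← (P : Subgroup L).card_mul_index, mul_comm (Nat.card τ.ker)] at e
      rw [Nat.eq_of_mul_eq_mul_left Nat.card_pos e]
      omega
    have hKmem : ∀ a : PSL₂, a ∈ L → Odd (orderOf a) → a ∈ K := fun a ha ho => by
      refine ⟨⟨a, ha⟩, MonoidHom.mem_ker.2 ?_, rfl⟩
      obtain ⟨i, hi⟩ := P.isPGroup' (τ ⟨a, ha⟩)
      exact Lie.TwoDouble.eq_one_of_two_of_odd ⟨i, hi⟩ (ho.of_dvd_nat (by
        rw [← Subgroup.orderOf_mk a ha]; exact orderOf_map_dvd τ _))
    have hVK : (S : Subgroup PSL₂) ≤ Subgroup.normalizer (K : Set PSL₂) := by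
      intro s hs
      refine mem_normalizer_of_forall fun a ha => ?_
      obtain ⟨⟨a, haL⟩, haK, rfl⟩ := ha
      exact ⟨⟨s, hSL hs⟩ * ⟨a, haL⟩ * ⟨s, hSL hs⟩⁻¹, (inferInstance : τ.ker.Normal).conj_mem ⟨a, haL⟩ haK ⟨s, hSL hs⟩, rfl⟩
    -- an element of odd order in `H`
    obtain ⟨a₀, ha₀H, ha₀o, ha₀1⟩ : ∃ a ∈ H, Odd (orderOf a) ∧ a ≠ 1 := by
      by_contra hc
      push Not at hc
      refine hHS (le_antisymm (fun a ha => ?_) hSH)
      have hp : IsPGroup 2 H := fun b => by
        obtain ⟨b₂, b₁, -, hb₁, ⟨i, hi⟩, ho, e⟩ := Lie.TwoDouble.split (b : PSL₂)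
        rw [hc b₁ ((Subgroup.zpowers_le.2 b.2) hb₁) ho, mul_one] at e
        exact ⟨i, Subtype.ext (by simp [e, hi])⟩
      exact (S.is_maximal' hp hSH).le ha
    set H₀ := H ⊓ K
    have hH₀odd : Odd (Nat.card H₀) := hKodd.of_dvd_nat (Subgroup.card_dvd_of_le inf_le_right)
    have ha₀ : a₀ ∈ H₀ := ⟨ha₀H, hKmem _ ((le_sup_left : H ≤ L) ha₀H) ha₀o⟩
    have hconjH₀ : ∀ v ∈ (S : Subgroup PSL₂), v * v = 1 → ∀ a ∈ H₀, v * a * v ∈ H₀ := by
      intro v hv hv2 a ha
      have hvi : v⁻¹ = v := inv_eq_of_mul_eq_one_right hv2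
      refine ⟨mul_mem (mul_mem (hSH hv) ha.1) (hSH hv), ?_⟩
      have := (Subgroup.mem_normalizer_iff.1 (hVK hv) a).1 ha.2
      rwa [hvi] at this
    obtain ⟨v, hvS, hv, a, ha, ha1, hav⟩ : ∃ v ∈ (S : Subgroup PSL₂), orderOf v = 2 ∧
        ∃ a ∈ H₀, a ≠ 1 ∧ Commute a v := by
      by_contra hc
      push Not at hc
      have hfix : ∀ v ∈ (S : Subgroup PSL₂), orderOf v = 2 → ∀ a ∈ H₀, Commute a v → a = 1 :=
        fun v hv ho a ha hav => by_contra fun h1 => hc v hv ho a ha h1 hav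
      have e1 := inverts hH₀odd z2 (hconjH₀ z hzS z2) (hfix z hzS hz) a₀ ha₀
      have e2 := inverts hH₀odd z2' (hconjH₀ z' hz'S z2') (hfix z' hz'S hz') (a₀⁻¹) (inv_mem ha₀)
      rw [inv_inv, ← e1] at e2
      have hzz : orderOf (z * z') = 2 := by
        refine orderOf_eq_prime ?_ fun e => hne ?_
        · rw [(hzcomm z' hz'S).symm.mul_pow, pow_two, pow_two, z2, z2', one_mul]
        · rw [← mul_one z', ← z2, ← mul_assoc, (hzcomm z' hz'S).eq, e, one_mul]
      refine hc (z * z') (mul_mem hzS hz'S) hzz a₀ ha₀ ha₀1 ?_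
      have hzi : z'⁻¹ = z' := inv_eq_of_mul_eq_one_right z2'
      have hzz' : z' * z = z * z' := (hzcomm z' hz'S).eq
      calc a₀ * (z * z') = z' * (z * a₀ * z) * z' * (z * z') := by rw [e2]
        _ = (z' * z) * a₀ * (z * z') * (z * z') := by group
        _ = _ := by rw [hzz', mul_assoc _ (z * z') (z * z'), ← pow_two, orderOf_dvd_iff_pow_eq_one.1 hzz.dvd, mul_one]
    have hv' : g * v * g⁻¹ ∈ (S : Subgroup PSL₂) := (Subgroup.mem_normalizer_iff.1 hg v).1 hvS
    have hov : orderOf (g * v * g⁻¹) = 2 := by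
      rw [show g * v * g⁻¹ = MulAut.conj g v from rfl, MulEquiv.orderOf_eq, hv]
    by_cases hgv : g * v * g⁻¹ = v
    · -- then `g` lies in `S`
      refine hgH (hSH ?_)
      have hg2 : ∀ w ∈ hq.klein, g * g * w * (g * g)⁻¹ = w := by
        intro w hw
        have hv1 : v ≠ 1 := fun e => by rw [e, orderOf_one] at hv; omega
        have hcl : ∀ w ∈ hq.klein, g * w * g⁻¹ ∈ hq.klein := fun w hw => by
          rw [← hSeq] at hw ⊢; exact (Subgroup.mem_normalizer_iff.1 hg w).1 hw
        haveI := hq.isKleinFour h2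
        classical
        by_cases hw1 : w = 1
        · subst hw1; group
        by_cases hwv : w = v
        · subst hwv
          rw [show g * g * w * (g * g)⁻¹ = g * (g * w * g⁻¹) * g⁻¹ by group, hgv, hgv]
        have key : ∀ u ∈ hq.klein, u ≠ 1 → u ≠ v → u = w ∨ u = w * v := by
          intro u hu hu1 huv
          have hvK : v ∈ hq.klein := hSeq ▸ hvS
          by_cases huw : u = w
          · exact Or.inl huw
          refine Or.inr ?_
          exact congrArg Subtype.val (IsKleinFour.eq_mul_of_ne_all (x := (⟨w, hw⟩ : hq.klein))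
            (y := ⟨v, hvK⟩) (z := ⟨u, hu⟩) (by simpa [Subtype.ext_iff] using hw1)
            (by simpa [Subtype.ext_iff] using hv1) (by simpa [Subtype.ext_iff] using hwv)
            (by simpa [Subtype.ext_iff] using hu1) (by simpa [Subtype.ext_iff] using huw)
            (by simpa [Subtype.ext_iff] using huv))
        have hu := hcl w hw
        have hu1 : g * w * g⁻¹ ≠ 1 := fun e => hw1 (by simpa using e)
        have huv : g * w * g⁻¹ ≠ v := fun e => hwv (by
          have := e.trans hgv.symm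
          exact mul_left_cancel (mul_right_cancel this))
        rw [show g * g * w * (g * g)⁻¹ = g * (g * w * g⁻¹) * g⁻¹ by group]
        rcases key _ hu hu1 huv with e | e
        · rw [e, e]
        · rw [e, show g * (w * v) * g⁻¹ = (g * w * g⁻¹) * (g * v * g⁻¹) by group, e, hgv, mul_assoc,
            ← pow_two, orderOf_dvd_iff_pow_eq_one.1 hv.dvd, mul_one]
      have hg4 : (g * g) * (g * g) = 1 := by
        have hgg : g * g ∈ hq.klein := hq.centralizer h2
          (mul_inv_eq_iff_eq_mul.1 (hg2 _ (Quat.mem_klein.2 (Or.inr (Or.inl rfl)))))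
          (mul_inv_eq_iff_eq_mul.1 (hg2 _ (Quat.mem_klein.2 (Or.inr (Or.inr (Or.inl rfl))))))
        haveI := hq.isKleinFour h2
        exact congrArg Subtype.val (IsKleinFour.mul_self (⟨g * g, hgg⟩ : hq.klein))
      have hp : IsPGroup 2 (Subgroup.zpowers g) := by
        rw [IsPGroup.iff_card, Nat.card_zpowers]
        obtain ⟨i, -, hi⟩ := (Nat.dvd_prime_pow Nat.prime_two).1
          (orderOf_dvd_of_pow_eq_one (show g ^ 2 ^ 2 = 1 by rw [← hg4]; simp [pow_succ, mul_assoc]))
        exact ⟨i, hi⟩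
      have hsup := hp.to_sup_of_normal_right' S.isPGroup' (Subgroup.zpowers_le.2 hg)
      rw [← S.is_maximal' hsup le_sup_right]
      exact (le_sup_left : Subgroup.zpowers g ≤ _) (Subgroup.mem_zpowers _)
    -- the conjugate fixed element
    have hb : g * a * g⁻¹ ∈ K := by
      refine hKmem _ ((le_sup_right : cj g H ≤ L) ⟨a, ha.1, rfl⟩) ?_
      rw [show g * a * g⁻¹ = MulAut.conj g a from rfl, MulEquiv.orderOf_eq]
      exact hKodd.of_dvd_nat (by rw [← Subgroup.orderOf_mk a ha.2]; exact orderOf_dvd_natCard _)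
    exact no_two_fixed p hodd hm hKodd hS4 hVK hv hov (Ne.symm hgv) ha.2 ha1 hav hb
      (fun e => ha1 (by simpa using e)) (hav.conj g)

end Cfsg.Agent.Lie.TwoPronormalPSL
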