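import Cfsg.Agent.Lib.Classical.SympGen
import Cfsg.Agent.Lib.Classical.GLTwoSylow

/-!
The wreath product `SL₂(F) ≀ Sₙ` inside `Sp₂ₙ(F)`: it normalises the sign subgroup of rank `n` and, in odd
characteristic, has odd index.
-/

set_option autoImplicit false
set_option linter.unusedSectionVars false

namespace Cfsg.Agent.Lie.SympWreath

open Matrix

variable {F : Type*} [Field F] {n : ℕ}

local notation "Sp" => Matrix.symplecticGroup (Fin n) F

/-- A monomial matrix. -/
def mono (u : Fin n → F) (σ : Equiv.Perm (Fin n)) : Matrix (Fin n) (Fin n) F :=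
  Matrix.of fun i j => if i = σ j then u i else 0

theorem mono_mul (u v : Fin n → F) (σ τ : Equiv.Perm (Fin n)) :
    mono u σ * mono v τ = mono (fun i => u i * v (σ.symm i)) (σ * τ) := by
  ext i j
  simp only [mono, Matrix.mul_apply, Matrix.of_apply, Equiv.Perm.mul_apply]
  rw [Finset.sum_eq_single (σ.symm i) (fun k _ hk => by
    rw [if_neg (fun h => hk (by rw [h, Equiv.symm_apply_apply])), zero_mul]) (by simp)]
  rw [Equiv.apply_symm_apply, if_pos rfl, mul_ite, mul_zero]
  split_ifs with h1 h2 h2
  · exact (if_pos h2).symm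
  · exact absurd (Equiv.symm_apply_eq σ |>.1 h1) h2
  · exact absurd ((Equiv.symm_apply_eq σ).2 h2) h1
  · exact (if_neg h2).symm

theorem mono_transpose (u : Fin n → F) (σ : Equiv.Perm (Fin n)) :
    (mono u σ)ᵀ = mono (fun i => u (σ i)) σ⁻¹ := by
  ext i j
  simp only [mono, Matrix.transpose_apply, Matrix.of_apply, Equiv.Perm.inv_def]
  by_cases h : j = σ i
  · subst h; simp
  · rw [if_neg h, if_neg fun h' => h (by rw [h', Equiv.apply_symm_apply])]

theorem mono_add (u v : Fin n → F) (σ : Equiv.Perm (Fin n)) :
    mono u σ + mono v σ = mono (fun i => u i + v i) σ := by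
  ext i j
  simp only [mono, Matrix.add_apply, Matrix.of_apply]
  split_ifs <;> simp

theorem mono_neg (u : Fin n → F) (σ : Equiv.Perm (Fin n)) : -mono u σ = mono (fun i => -u i) σ := by
  ext i j
  simp only [mono, Matrix.neg_apply, Matrix.of_apply]
  split_ifs <;> simp

theorem mono_const_one (c : F) : mono (fun _ : Fin n => c) 1 = Matrix.diagonal fun _ => c := by
  ext i j
  by_cases h : i = j <;> simp [mono, h]

/-- The matrix of a pair. -/
def wMat (f : Fin n → SpecialLinearGroup (Fin 2) F) (σ : Equiv.Perm (Fin n)) :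
    Matrix (Fin n ⊕ Fin n) (Fin n ⊕ Fin n) F :=
  Matrix.fromBlocks (mono (fun i => (f i).1 0 0) σ) (mono (fun i => (f i).1 0 1) σ)
    (mono (fun i => (f i).1 1 0) σ) (mono (fun i => (f i).1 1 1) σ)

theorem wMat_mul (f g : Fin n → SpecialLinearGroup (Fin 2) F) (σ τ : Equiv.Perm (Fin n)) :
    wMat f σ * wMat g τ = wMat (fun i => f i * g (σ.symm i)) (σ * τ) := by
  have hm : ∀ (x y : SpecialLinearGroup (Fin 2) F) (a b : Fin 2),
      (x * y).1 a b = x.1 a 0 * y.1 0 b + x.1 a 1 * y.1 1 b := fun x y a b => by
    rw [show (x * y).1 = x.1 * y.1 from rfl, Matrix.mul_apply, Fin.sum_univ_two]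
  simp only [wMat, Matrix.fromBlocks_multiply, mono_mul, mono_add, hm]

theorem wMat_one : wMat (fun _ : Fin n => (1 : SpecialLinearGroup (Fin 2) F)) 1 = 1 := by
  simp [wMat, mono_const_one]

theorem wMat_mem (f : Fin n → SpecialLinearGroup (Fin 2) F) (σ : Equiv.Perm (Fin n)) :
    wMat f σ ∈ Matrix.symplecticGroup (Fin n) F := by
  have hd : ∀ i, (f i).1 0 0 * (f i).1 1 1 - (f i).1 0 1 * (f i).1 1 0 = 1 := fun i => by
    rw [← Matrix.det_fin_two]; exact (f i).2
  have hJ : Matrix.J (Fin n) F =
      Matrix.fromBlocks (mono (fun _ => 0) 1) (mono (fun _ => -1) 1) (mono (fun _ => 1) 1) (mono (fun _ => 0) 1) := by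
    simp [Matrix.J, mono_const_one, ← Matrix.diagonal_neg]
  refine SymplecticGroup.mem_iff.2 ?_
  rw [hJ, wMat, Matrix.fromBlocks_transpose]
  simp only [Matrix.fromBlocks_multiply, mono_transpose, mono_mul, mono_add]
  congr 1 <;> simp only [mul_one, mul_inv_cancel, Equiv.apply_symm_apply] <;> congr 1 <;> funext i
  · ring
  · linear_combination -hd i
  · linear_combination hd i
  · ring

/-- Permutations acting on tuples. -/
def permAut : Equiv.Perm (Fin n) →* MulAut (Fin n → SpecialLinearGroup (Fin 2) F) where
  toFun σ :=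
    { toFun := fun f i => f (σ.symm i)
      invFun := fun f i => f (σ i)
      left_inv := fun f => funext fun i => by simp
      right_inv := fun f => funext fun i => by simp
      map_mul' := fun f g => rfl }
  map_one' := rfl
  map_mul' σ τ := rfl

/-- The abstract wreath product. -/
abbrev W (n : ℕ) (F : Type*) [Field F] :=
  (Fin n → SpecialLinearGroup (Fin 2) F) ⋊[permAut] Equiv.Perm (Fin n)

/-- The embedding. -/
def wHom : W n F →* Sp where
  toFun x := ⟨wMat x.left x.right, wMat_mem _ _⟩
  map_one' := Subtype.ext wMat_one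
  map_mul' x y := Subtype.ext (by
    show wMat (x * y).left (x * y).right = wMat x.left x.right * wMat y.left y.right
    rw [wMat_mul]
    rfl)

theorem wHom_injective : Function.Injective (wHom (n := n) (F := F)) := by
  intro x y h
  have h' : wMat x.left x.right = wMat y.left y.right := congrArg Subtype.val h
  rw [wMat, wMat, Matrix.fromBlocks_inj] at h'
  have key : ∀ j, x.right j = y.right j := fun j => by
    by_contra hne
    have e : ∀ (a b : Fin 2), mono (fun i => (x.left i).1 a b) x.right = mono (fun i => (y.left i).1 a b) y.right := by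
      intro a b
      fin_cases a <;> fin_cases b
      exacts [h'.1, h'.2.1, h'.2.2.1, h'.2.2.2]
    have z : ∀ a b, (x.left (x.right j)).1 a b = 0 := fun a b => by
      have := congrFun₂ (e a b) (x.right j) j
      simpa [mono, hne] using this
    have := (x.left (x.right j)).2
    rw [Matrix.det_fin_two, z 0 0, z 0 1] at this
    simp at this
  have hr : x.right = y.right := Equiv.ext key
  refine SemidirectProduct.ext ?_ hr
  funext i
  refine Subtype.ext (Matrix.ext fun a b => ?_)
  obtain ⟨j, rfl⟩ := x.right.surjective i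
  fin_cases a <;> fin_cases b
  · simpa [mono, hr] using congrFun₂ h'.1 (x.right j) j
  · simpa [mono, hr] using congrFun₂ h'.2.1 (x.right j) j
  · simpa [mono, hr] using congrFun₂ h'.2.2.1 (x.right j) j
  · simpa [mono, hr] using congrFun₂ h'.2.2.2 (x.right j) j

/-- The scalar signs of the blocks. -/
def signs : (Fin n → ℤˣ) →* W n F :=
  SemidirectProduct.inl.comp
    { toFun := fun s i => if s i = 1 then 1 else -1
      map_one' := funext fun i => if_pos rfl
      map_mul' := fun s t => funext fun i => by
        rcases Int.units_eq_one_or (s i) with hs | hs <;> rcases Int.units_eq_one_or (t i) with ht | ht <;>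
          simp [hs, ht] }

theorem signs_normal : (signs (n := n) (F := F)).range.Normal := by
  constructor
  rintro _ ⟨s, rfl⟩ x
  refine ⟨fun i => s (x.right.symm i), ?_⟩
  rw [eq_mul_inv_iff_mul_eq]
  refine SemidirectProduct.ext ?_ ?_
  · funext i
    simp only [signs, MonoidHom.comp_apply, MonoidHom.coe_mk, OneHom.coe_mk, SemidirectProduct.mul_left,
      SemidirectProduct.left_inl, SemidirectProduct.right_inl, map_one, MulAut.one_apply, Pi.mul_apply]
    show _ = x.left i * if s (x.right.symm i) = 1 then 1 else -1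
    split_ifs <;> simp
  · simp [signs]

theorem signs_injective (h2 : (2 : F) ≠ 0) : Function.Injective (signs (n := n) (F := F)) := by
  intro s t h
  have hne : (1 : SpecialLinearGroup (Fin 2) F) ≠ -1 := fun e => h2 (by
    have h0 := congrFun₂ (congrArg Subtype.val e) 0 0
    simp at h0
    linear_combination h0)
  funext i
  have h' := congrFun (SemidirectProduct.inl_injective h) i
  rcases Int.units_eq_one_or (s i) with hs | hs <;> rcases Int.units_eq_one_or (t i) with ht | ht <;>
    simp [hs, ht, hne, hne.symm] at h' ⊢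

theorem natCard_SL2 [Fintype F] :
    Nat.card (SpecialLinearGroup (Fin 2) F) = Fintype.card F * (Fintype.card F ^ 2 - 1) := by
  have h := Classical.natCard_GL_eq_SL_mul (F := F) 2 (by norm_num)
  rw [Classical.GLTwoSylow.card_GL_eq, Fin.prod_univ_two] at h
  simp at h
  have hq : 1 < Fintype.card F := Fintype.one_lt_card
  refine Nat.eq_of_mul_eq_mul_right (show 0 < Fintype.card F - 1 by omega) ?_
  rw [Classical.natCard_units_field] at h
  linarith [h]

theorem card_range [Fintype F] :
    Nat.card (wHom (n := n) (F := F)).range = (Fintype.card F * (Fintype.card F ^ 2 - 1)) ^ n * n.factorial := by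
  rw [← Nat.card_congr (MonoidHom.ofInjective wHom_injective).toEquiv, SemidirectProduct.card, Nat.card_fun,
    natCard_SL2, Nat.card_perm, Nat.card_eq_fintype_card (α := Fin n), Fintype.card_fin]

theorem padicValNat_pow_sub_one {q : ℕ} (hq : Odd q) (h1 : 1 < q) (i : ℕ) :
    padicValNat 2 (q ^ (2 * (i + 1)) - 1) = padicValNat 2 (q ^ 2 - 1) + padicValNat 2 (i + 1) := by
  have h := padicValNat.pow_two_sub_one h1 (by rw [Nat.odd_iff] at hq; omega) (n := 2 * (i + 1)) (by omega)
    (even_two_mul _)
  rw [padicValNat.mul (by norm_num) (by omega), padicValNat_self] at h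
  have e : q ^ 2 - 1 = (q + 1) * (q - 1) := by
    rw [← Nat.sq_sub_sq, one_pow]
  rw [e, padicValNat.mul (by omega) (by omega)]
  omega

theorem padicValNat_card [Fintype F] (hq : Odd (Fintype.card F)) :
    ∀ n : ℕ, padicValNat 2 (Fintype.card F ^ (n ^ 2) * ∏ i ∈ Finset.range n, (Fintype.card F ^ (2 * (i + 1)) - 1)) =
      padicValNat 2 ((Fintype.card F * (Fintype.card F ^ 2 - 1)) ^ n * n.factorial) := by
  have h1 : 1 < Fintype.card F := Fintype.one_lt_card
  have hne : ∀ j, Fintype.card F ^ (2 * (j + 1)) - 1 ≠ 0 := fun j => by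
    have := Nat.one_lt_pow (n := 2 * (j + 1)) (by omega) h1
    omega
  have hp : ∀ n, ∏ i ∈ Finset.range n, (Fintype.card F ^ (2 * (i + 1)) - 1) ≠ 0 := fun n =>
    Finset.prod_ne_zero_iff.2 fun i _ => hne i
  have hv : padicValNat 2 (Fintype.card F) = 0 :=
    padicValNat.eq_zero_of_not_dvd (by rw [Nat.odd_iff] at hq; omega)
  have h2 : Fintype.card F ^ 2 - 1 ≠ 0 := by simpa using hne 0
  intro n
  induction n with
  | zero => simp
  | succ n ih =>
    rw [padicValNat.mul (pow_ne_zero _ (by omega)) (hp n), padicValNat.pow, hv, mul_zero, zero_add,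
      padicValNat.mul (pow_ne_zero _ (mul_ne_zero (by omega) h2)) (Nat.factorial_ne_zero n),
      padicValNat.pow, padicValNat.mul (by omega) h2, hv, zero_add] at ih
    rw [padicValNat.mul (pow_ne_zero _ (by omega)) (hp _), padicValNat.pow, hv, mul_zero, zero_add,
      Finset.prod_range_succ, padicValNat.mul (hp n) (hne n), ih, padicValNat_pow_sub_one hq h1,
      padicValNat.mul (pow_ne_zero _ (mul_ne_zero (by omega) h2)) (Nat.factorial_ne_zero (n + 1)),
      padicValNat.pow, padicValNat.mul (by omega) h2, hv, zero_add,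
      Nat.factorial_succ, padicValNat.mul (by omega) (Nat.factorial_ne_zero n)]
    ring

/-- The wreath product has odd index: its 2-part is that of the whole group. -/
theorem factorization_card [Fintype F] (hq : Odd (Fintype.card F)) :
    (Nat.card (wHom (n := n) (F := F)).range).factorization 2 = (Nat.card Sp).factorization 2 := by
  rw [Nat.factorization_def _ Nat.prime_two, Nat.factorization_def _ Nat.prime_two, card_range,
    Classical.natCard_symplecticGroup, Nat.card_eq_fintype_card, padicValNat_card hq]

end Cfsg.Agent.Lie.SympWreath
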