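import Cfsg.Agent.Lib.Lie.SLMult
import Cfsg.Agent.Lib.Classical.SLTwoSmall
import Cfsg.Agent.Lib.Spor.Multiplier
import Cfsg.Agent.S3963

/-! Stem extensions of `SL₂` over finite fields. -/

set_option autoImplicit false

namespace Cfsg.Agent.Lie.SLMult

open scoped commutatorElement

/-- A scalar `k` with `k ≠ 0, 1` and `k (1 - k) ≠ 1`. -/
theorem exists_good_scalar_sl {F : Type*} [Field F] (hF : ∃ s : Finset F, 4 < s.card) :
    ∃ k : F, k ≠ 0 ∧ 1 - k ≠ 0 ∧ k * (1 - k) ≠ 1 := by
  classical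
  obtain ⟨s, hs⟩ := hF
  by_contra hne
  push Not at hne
  have hbad : ∀ k ∈ (s.erase 0).erase 1, k * (1 - k) = 1 := fun k hk => by
    simp only [Finset.mem_erase] at hk
    exact hne k hk.2.1 (sub_ne_zero.2 (Ne.symm hk.1))
  have : ((s.erase 0).erase 1).card ≤ 2 := by
    by_contra h
    rw [not_le, Finset.two_lt_card] at h
    obtain ⟨a, ha, b, hb, c, hc, hab, hac, hbc⟩ := h
    have e1 : (a - b) * (1 - a - b) = 0 := by linear_combination hbad a ha - hbad b hb
    have e2 : (a - c) * (1 - a - c) = 0 := by linear_combination hbad a ha - hbad c hc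
    have f1 := (mul_eq_zero.1 e1).resolve_left (sub_ne_zero.2 hab)
    have f2 := (mul_eq_zero.1 e2).resolve_left (sub_ne_zero.2 hac)
    exact hbc (by linear_combination f2 - f1)
  have := Finset.pred_card_le_card_erase (a := (0 : F)) (s := s)
  have := Finset.pred_card_le_card_erase (a := (1 : F)) (s := s.erase 0)
  omega

/-- Two non-zero squares with sum one and product different from one. -/
theorem exists_square_pair {F : Type*} [Field F] [Fintype F] (h : 5 ≤ Fintype.card F)
    (hnp : ¬ (Fintype.card F).Prime) (h9 : Fintype.card F ≠ 9) :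
    ∃ a b : Fˣ, (a : F) ^ 2 + (b : F) ^ 2 = 1 ∧ (a : F) ^ 2 * (b : F) ^ 2 ≠ 1 := by
  classical
  obtain ⟨p, hp⟩ := CharP.exists F
  obtain ⟨n, hprime, hcard⟩ := FiniteField.card F p
  by_cases hp2 : p = 2
  · subst hp2
    haveI : ExpChar F 2 := ExpChar.prime Nat.prime_two
    obtain ⟨k, hk0, hk1, hk⟩ := exists_good_scalar_sl (F := F)
      ⟨Finset.univ, by rw [Finset.card_univ]; omega⟩
    obtain ⟨a, ha⟩ := FiniteField.isSquare_of_char_two (ringChar.eq F 2) k
    obtain ⟨b, hb⟩ := FiniteField.isSquare_of_char_two (ringChar.eq F 2) (1 - k)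
    have ha0 : a ≠ 0 := fun e => hk0 (by rw [ha, e, zero_mul])
    have hb0 : b ≠ 0 := fun e => hk1 (by rw [hb, e, zero_mul])
    refine ⟨Units.mk0 a ha0, Units.mk0 b hb0, ?_, ?_⟩
    · simp only [Units.val_mk0, sq, ← ha, ← hb]; ring
    · simp only [Units.val_mk0, sq, ← ha, ← hb]; exact hk
  have hn : 2 ≤ (n : ℕ) := by
    by_contra hn
    have : (n : ℕ) = 1 := by have := n.pos; omega
    rw [this, pow_one] at hcard
    exact hnp (hcard ▸ hprime)
  have h25 : 25 ≤ Fintype.card F := by
    rw [hcard]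
    by_cases hp3 : p = 3
    · subst hp3
      have hn3 : 3 ≤ (n : ℕ) := by
        by_contra hn3
        have : (n : ℕ) = 2 := by omega
        rw [this] at hcard
        exact h9 hcard
      calc 25 ≤ 3 ^ 3 := by norm_num
        _ ≤ _ := Nat.pow_le_pow_right (by norm_num) hn3
    · have hp5 : 5 ≤ p := by
        by_contra hp5
        interval_cases p <;> simp_all (config := { decide := true })
      calc 25 = 5 ^ 2 := by norm_num
        _ ≤ p ^ 2 := Nat.pow_le_pow_left hp5 2
        _ ≤ _ := Nat.pow_le_pow_right (by omega) hn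
  have h2 : (2 : F) ≠ 0 := by
    rw [show (2 : F) = ((2 : ℕ) : F) by norm_num, Ne, CharP.cast_eq_zero_iff F p]
    intro hd
    exact hp2 ((Nat.prime_dvd_prime_iff_eq hprime Nat.prime_two).1 hd)
  open Polynomial in
  let P : F[X] := X * (X ^ 2 - C 1) * (X ^ 2 + C 1) *
    ((C 2 * X * (C 1 - X ^ 2)) ^ 2 - (X ^ 2 + C 1) ^ 4)
  have hPdeg : P.natDegree ≤ 13 := by
    simp only [P]
    compute_degree
  have hP : P ≠ 0 := by
    have hQ : ∀ {c : F}, (Polynomial.X ^ 2 + Polynomial.C c : Polynomial F) ≠ 0 := fun {c} =>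
      Polynomial.X_pow_add_C_ne_zero (by norm_num) c
    refine mul_ne_zero (mul_ne_zero (mul_ne_zero Polynomial.X_ne_zero ?_) hQ) ?_
    · exact Polynomial.X_pow_sub_C_ne_zero (by norm_num) 1
    · intro e
      have := congrArg (Polynomial.eval 0) e
      simp at this
  obtain ⟨s, hs⟩ : ∃ s : F, P.eval s ≠ 0 := by
    by_contra hne
    push Not at hne
    have hsub : (Finset.univ : Finset F) ⊆ P.roots.toFinset := fun s _ => by
      rw [Multiset.mem_toFinset, Polynomial.mem_roots hP]
      exact hne s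
    have := (Finset.card_le_card hsub).trans (P.roots.toFinset_card_le.trans P.card_roots')
    rw [Finset.card_univ] at this
    omega
  simp only [P, Polynomial.eval_mul, Polynomial.eval_sub, Polynomial.eval_add, Polynomial.eval_pow,
    Polynomial.eval_X, Polynomial.eval_C, mul_ne_zero_iff] at hs
  obtain ⟨⟨⟨hs0, hs1⟩, hs2⟩, hs3⟩ := hs
  have ha : 2 * s / (s ^ 2 + 1) ≠ 0 := div_ne_zero (mul_ne_zero h2 hs0) hs2
  have hb : (1 - s ^ 2) / (s ^ 2 + 1) ≠ 0 :=
    div_ne_zero (sub_ne_zero.2 (Ne.symm (sub_ne_zero.1 hs1))) hs2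
  refine ⟨Units.mk0 _ ha, Units.mk0 _ hb, ?_, ?_⟩
  · simp only [Units.val_mk0]
    field_simp
    ring
  · simp only [Units.val_mk0]
    intro e
    refine hs3 ?_
    field_simp at e
    linear_combination e

section Lifting

variable {F : Type*} [Field F] {E : Type*} [Group E]
  (σ : E →* Matrix.SpecialLinearGroup (Fin 2) F) (hσ : Function.Surjective σ)
  (hc : σ.ker ≤ Subgroup.center E)
include hσ hc

/-- A root subgroup has commuting lifts. -/
theorem lc_two [Fintype F] (h4 : Fintype.card F ≠ 4) (h9 : Fintype.card F ≠ 9)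
    (h5 : 5 ≤ Fintype.card F) {i j : Fin 2} (hij : i ≠ j) {e f : E} {t u : F}
    (he : σ e = tv i j t) (hf : σ f = tv i j u) : Commute e f := by
  classical
  refine commutatorElement_eq_one_iff_commute.1 ?_
  rw [congr σ hc (e' := lift σ hσ (tv i j t)) (f' := lift σ hσ (tv i j u))
    (by rw [map_lift, he]) (by rw [map_lift, hf])]
  by_cases hprime : (Fintype.card F).Prime
  · -- a cyclic root subgroup
    haveI := Fact.mk hprime
    obtain ⟨p, hp⟩ := CharP.exists F
    obtain ⟨n, hp', hcard⟩ := FiniteField.card F p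
    have hn : (n : ℕ) = 1 := (Nat.Prime.eq_one_of_pow (hcard ▸ hprime))
    rw [hn, pow_one] at hcard
    haveI := Fact.mk hp'
    let ι : ZMod p →+* F := ZMod.castHom dvd_rfl F
    have hbij : Function.Bijective ι := by
      haveI : NeZero p := ⟨hp'.ne_zero⟩
      rw [Fintype.bijective_iff_injective_and_card, ZMod.card, hcard]
      exact ⟨ι.injective, rfl⟩
    have hgen : ∀ x : F, ∃ m : ℕ, x = m := fun x => by
      haveI : NeZero p := ⟨hp'.ne_zero⟩
      obtain ⟨z, rfl⟩ := hbij.2 x
      exact ⟨z.val, by rw [← map_natCast ι, ZMod.natCast_zmod_val]⟩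
    have hpow : ∀ m : ℕ, σ (lift σ hσ (tv i j 1) ^ m) = tv i j (m : F) := fun m => by
      induction m with
      | zero => simp [tv_zero hij]
      | succ m ih => rw [pow_succ, map_mul σ, ih, map_lift, tv_add hij, Nat.cast_succ]
    obtain ⟨m, rfl⟩ := hgen t
    obtain ⟨m', rfl⟩ := hgen u
    rw [congr σ hc (e' := lift σ hσ (tv i j 1) ^ m) (f' := lift σ hσ (tv i j 1) ^ m')
      (by rw [map_lift, hpow]) (by rw [map_lift, hpow])]
    exact commutatorElement_eq_one_iff_commute.2 (Commute.pow_pow_self _ _ _)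
  obtain ⟨a, b, hab, hab1⟩ := exists_square_pair h5 hprime h9
  let z : F → F → E := fun x y => ⁅lift σ hσ (tv i j x), lift σ hσ (tv i j y)⁆
  have hzc : ∀ x y, z x y ∈ Subgroup.center E := fun x y => hc (by
    simp only [z, MonoidHom.mem_ker, map_commutatorElement, map_lift,
      commutatorElement_eq_one_iff_commute, Commute, SemiconjBy, tv_add hij, add_comm])
  have hl : ∀ x x' y, z (x + x') y = z x y * z x' y := fun x x' y => by
    simp only [z]
    rw [congr σ hc (e' := lift σ hσ (tv i j x) * lift σ hσ (tv i j x'))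
      (f' := lift σ hσ (tv i j y)) (by rw [map_mul σ, map_lift, map_lift, map_lift, tv_add hij]) rfl,
      show ∀ p q y : E, ⁅p * q, y⁆ = p * ⁅q, y⁆ * p⁻¹ * ⁅p, y⁆ from fun p q y => by group,
      Subgroup.mem_center_iff.1 (hzc x' y), mul_inv_cancel_right,
      Subgroup.mem_center_iff.1 (hzc x' y)]
  have hswap : ∀ x y, z x y = (z y x)⁻¹ := fun x y => (commutatorElement_inv _ _).symm
  have hr : ∀ x y y', z x (y + y') = z x y * z x y' := fun x y y' => by
    rw [hswap x (y + y'), hl, _root_.mul_inv_rev, ← hswap, ← hswap,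
      Subgroup.mem_center_iff.1 (hzc x y)]
  have hinv : ∀ (c : Fˣ) x y, z ((c : F) ^ 2 * x) ((c : F) ^ 2 * y) = z x y := fun c x y => by
    have e := conjugate_commutatorElement (lift σ hσ (tv i j x)) (lift σ hσ (tv i j y))
      (lift σ hσ (dia (pairD c i j) (pairD_prod c i j)))
    rw [Subgroup.mem_center_iff.1 (hzc x y), mul_inv_cancel_right] at e
    refine Eq.trans ?_ e.symm
    have hk : ((pairD c i j i / pairD c i j j : Fˣ) : F) = (c : F) ^ 2 := by
      simp [pairD, hij, hij.symm, sq]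
    exact congr σ hc (by simp only [map_mul σ, map_inv σ, map_lift, dia_conj _ _ hij, hk])
      (by simp only [map_mul σ, map_inv σ, map_lift, dia_conj _ _ hij, hk])
  set k : F := (a : F) ^ 2
  have hk0 : k ≠ 0 := pow_ne_zero _ a.ne_zero
  have hb : (b : F) ^ 2 = 1 - k := by linear_combination hab
  have hk1 : 1 - k ≠ 0 := hb ▸ pow_ne_zero _ b.ne_zero
  have hd : 1 / (k * (1 - k)) - 1 ≠ 0 := by
    rw [sub_ne_zero, Ne, div_eq_one_iff_eq (mul_ne_zero hk0 hk1)]
    exact fun e => hab1 (by rw [hb]; exact e.symm)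
  show z t u = 1
  set v := u / (1 / (k * (1 - k)) - 1)
  have e1 : z (k * t) v = z t (k⁻¹ * v) := by
    have := hinv a t (k⁻¹ * v)
    rwa [← mul_assoc, mul_inv_cancel₀ hk0, one_mul] at this
  have e2 : z ((1 - k) * t) v = z t ((1 - k)⁻¹ * v) := by
    have := hinv b t ((1 - k)⁻¹ * v)
    rwa [hb, ← mul_assoc, mul_inv_cancel₀ hk1, one_mul] at this
  have h3 := hl (k * t) ((1 - k) * t) v
  rw [show k * t + (1 - k) * t = t by ring, e1, e2, ← hr,
    show k⁻¹ * v + (1 - k)⁻¹ * v = v + u by
      have hv : v * (1 / (k * (1 - k)) - 1) = u := div_mul_cancel₀ _ hd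
      rw [← hv]; field_simp; ring, hr, left_eq_mul] at h3
  exact h3

/-- Stem extensions of `SL₂` are trivial for fields with at least five elements other than nine. -/
theorem ker_eq_bot_two [Fintype F] (h4 : Fintype.card F ≠ 4) (h9 : Fintype.card F ≠ 9)
    (h5 : 5 ≤ Fintype.card F) (hs : σ.ker ≤ commutator E) : σ.ker = ⊥ := by
  classical
  obtain ⟨a, ha2⟩ : ∃ a : Fˣ, (a : F) * a ≠ 1 := by
    by_contra hne
    push Not at hne
    have hsub : (Finset.univ : Finset F) ⊆ {0, 1, -1} := fun x _ => by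
      simp only [Finset.mem_insert, Finset.mem_singleton]
      exact (em (x = 0)).imp id fun hx => mul_self_eq_one_iff.1 (hne (Units.mk0 x hx))
    have := (Finset.card_le_card hsub).trans Finset.card_le_three
    rw [Finset.card_univ] at this
    omega
  have hrat : ∀ {i j : Fin 2}, i ≠ j → ((pairD a i j i / pairD a i j j : Fˣ) : F) = (a : F) * a :=
    fun {i j} h => by simp [pairD, h, h.symm]
  let κ : F := (a : F) * a - 1
  have hκ : κ ≠ 0 := sub_ne_zero.2 ha2
  let Y : Fin 2 → Fin 2 → F → E := fun i j t =>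
    ⁅lift σ hσ (dia (pairD a i j) (pairD_prod a i j)), lift σ hσ (tv i j (t / κ))⁆
  have hπ : ∀ i j, i ≠ j → ∀ t, σ (Y i j t) = tv i j t := fun i j h t => by
    simp only [Y, map_commutatorElement, map_lift]
    have := tv_eq_bracket (pairD a i j) (pairD_prod a i j) h (by rw [hrat h]; exact ha2) t
    rwa [hrat h] at this
  have hadd : ∀ i j, i ≠ j → ∀ t u, Y i j t * Y i j u = Y i j (t + u) := fun i j h t u => by
    have hcm : Commute (lift σ hσ (tv i j (t / κ))) (Y i j u) :=
      lc_two σ hσ hc h4 h9 h5 h (map_lift σ hσ _) (hπ i j h u)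
    simp only [Y] at hcm ⊢
    refine (Eq.trans (congr σ hc (e' := lift σ hσ (dia (pairD a i j) (pairD_prod a i j)))
      (f' := lift σ hσ (tv i j (t / κ)) * lift σ hσ (tv i j (u / κ))) rfl
      (by rw [map_mul σ, map_lift, map_lift, map_lift, tv_add h, add_div])) ?_).symm
    rw [show ∀ m x y : E, ⁅m, x * y⁆ = ⁅m, x⁆ * (x * ⁅m, y⁆ * x⁻¹) from fun m x y => by group,
      hcm.eq, mul_inv_cancel_right]
  have hzero : ∀ i j, i ≠ j → Y i j 0 = 1 := fun i j h => by
    have := hadd i j h 0 0
    rwa [add_zero, mul_eq_left] at this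
  have hscale : ∀ (i j : Fin 2), i ≠ j → ∀ (d : Fin 2 → Fˣ) (hd : ∏ x, d x = 1) (g : E) (w : F),
      σ g = dia d hd → g * Y i j w * g⁻¹ = Y i j (((d i / d j : Fˣ) : F) * w) := by
    intro i j h d hd g w hg
    simp only [Y]
    rw [conjugate_commutatorElement]
    refine congr σ hc ?_ ?_
    · simp only [map_mul σ, map_inv σ, map_lift, hg]
      rw [(dia_comm d _ hd _).eq, mul_inv_cancel_right]
    · simp only [map_mul σ, map_inv σ, map_lift, hg, dia_conj d hd h, mul_div_assoc]
  refine ker_eq_bot_of_lifts σ le_rfl hσ hc hs Y hπ hadd (fun i j k l h1 h2 h3 h4' t u => ?_)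
    (fun i j k h1 h2 h3 => by omega) fun i j h t u ht => ?_
  · obtain rfl : k = i := by omega
    obtain rfl : l = j := by omega
    exact lc_two σ hσ hc h4 h9 h5 h1 (hπ k l h1 t) (hπ k l h1 u)
  -- the relation between the two root subgroups
  set W := Y i j t * Y j i (-t⁻¹) * Y i j t
  set d := pairD a i j
  set v := u / κ
  set g := lift σ hσ (dia d (pairD_prod a i j))
  have hW : σ W = tv i j t * tv j i (-t⁻¹) * tv i j t := by
    simp only [W, map_mul σ, hπ i j h, hπ j i h.symm]
  have hd' : ∏ x, pairD a j i x = 1 := pairD_prod a j i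
  have h1 : (tv i j t * tv j i (-t⁻¹) * tv i j t) * dia d (pairD_prod a i j) *
      (tv i j t * tv j i (-t⁻¹) * tv i j t)⁻¹ = dia (pairD a j i) hd' := by
    rw [mul_inv_eq_iff_eq_mul]
    refine Subtype.ext ?_
    simp only [Matrix.SpecialLinearGroup.coe_mul, tv_coe h, tv_coe h.symm]
    fin_cases i <;> fin_cases j <;> try exact absurd rfl h
    all_goals
      ext x y
      fin_cases x <;> fin_cases y <;>
        simp [dia, d, pairD, Matrix.mul_apply, Fin.sum_univ_two, Matrix.transvection,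
          Matrix.single_apply, Matrix.diagonal] <;> (try field_simp) <;> (try ring_nf) <;> (try simp)
  have h2 : ∀ x : F, (tv i j t * tv j i (-t⁻¹) * tv i j t) * tv i j x *
      (tv i j t * tv j i (-t⁻¹) * tv i j t)⁻¹ = tv j i (-(t⁻¹ ^ 2 * x)) := by
    intro x
    rw [mul_inv_eq_iff_eq_mul]
    refine Subtype.ext ?_
    simp only [Matrix.SpecialLinearGroup.coe_mul, tv_coe h, tv_coe h.symm]
    fin_cases i <;> fin_cases j <;> try exact absurd rfl h
    all_goals
      ext x y
      fin_cases x <;> fin_cases y <;>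
        simp [Matrix.mul_apply, Fin.sum_univ_two, Matrix.transvection, Matrix.single_apply] <;>
          (try field_simp) <;> (try ring_nf) <;> (try simp)
  have hu : Y i j u = ⁅g, Y i j v⁆ := by
    rw [commutatorElement_def, hscale i j h d _ g v (map_lift σ hσ _), hrat h,
      inv_eq_of_mul_eq_one_right (b := Y i j (-v)) (by rw [hadd i j h, add_neg_cancel, hzero i j h]),
      hadd i j h]
    refine congrArg (Y i j) ?_
    have : v * κ = u := div_mul_cancel₀ u hκ
    rw [← this]; simp only [κ]; ring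
  show W * Y i j u * W⁻¹ = _
  rw [hu, conjugate_commutatorElement,
    congr σ hc (e' := lift σ hσ (dia (pairD a j i) hd')) (f' := Y j i (-(t⁻¹ ^ 2 * v)))
      (by simp only [map_mul σ, map_inv σ, hW, g, map_lift, h1])
      (by simp only [map_mul σ, map_inv σ, hW, hπ i j h, hπ j i h.symm, h2]),
    commutatorElement_def, hscale j i h.symm _ hd' _ _ (map_lift σ hσ _), hrat h.symm,
    inv_eq_of_mul_eq_one_right (b := Y j i (-(-(t⁻¹ ^ 2 * v))))
      (by rw [hadd j i h.symm, add_neg_cancel, hzero j i h.symm]),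
    hadd j i h.symm]
  refine congrArg (Y j i) ?_
  have : v * κ = u := div_mul_cancel₀ u hκ
  rw [← this]; simp only [κ]; ring

end Lifting

/-- Stem extensions of `SL₂(2)` and `SL₂(3)` are trivial. -/
theorem ker_eq_bot_small {p : ℕ} [hp : Fact p.Prime] (h : p = 2 ∨ p = 3) {Δ : Type*} [Group Δ]
    [Finite Δ] (σ : Δ →* Matrix.SpecialLinearGroup (Fin 2) (ZMod p))
    (hσ : Cfsg.IsStemExtension σ) : σ.ker = ⊥ := by
  refine Spor.Mult.ker_eq_bot σ hσ fun r hr _ => ?_
  haveI := Fact.mk hr
  obtain ⟨Q⟩ : Nonempty (Sylow r (Matrix.SpecialLinearGroup (Fin 2) (ZMod p))) := inferInstance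
  have hcyc : ∀ (_ : IsCyclic Q.toSubgroup), ∃ Q' : Subgroup
      (Matrix.SpecialLinearGroup (Fin 2) (ZMod p)), ¬ r ∣ Q'.index ∧
      ∀ z ∈ σ.ker, orderOf z = r → z ∈ ⁅Q'.comap σ, Q'.comap σ⁆ → False := by
    intro hQ
    refine ⟨Q, Q.not_dvd_index, fun z _ hzo hz => ?_⟩
    let f : ↥(Q.toSubgroup.comap σ) →* ↥Q.toSubgroup :=
      (σ.comp (Subgroup.subtype _)).codRestrict _ fun x => x.2
    have hf : f.ker ≤ Subgroup.center _ := fun x hx => by
      rw [Subgroup.mem_center_iff]
      exact fun y => Subtype.ext (Subgroup.mem_center_iff.1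
        (hσ.2.1 (show (x : Δ) ∈ σ.ker from congrArg Subtype.val hx)) y)
    exact Spor.Mult.no_elt_of_comm _ (fun x hx y hy => congrArg Subtype.val
      (commutative_of_cyclic_center_quotient f hf ⟨x, hx⟩ ⟨y, hy⟩)) hr hzo hz
  have hQc := Q.card_eq_multiplicity
  by_cases hsmall : (Nat.card (Matrix.SpecialLinearGroup (Fin 2) (ZMod p))).factorization r ≤ 1
  · refine hcyc ?_
    rcases Nat.le_one_iff_eq_zero_or_eq_one.1 hsmall with e | e <;> rw [e] at hQc
    · haveI : Subsingleton Q.toSubgroup := (Nat.card_eq_one_iff_unique.1 (by simpa using hQc)).1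
      exact isCyclic_of_subsingleton
    · exact isCyclic_of_prime_card (p := r) (by simpa using hQc)
  rcases h with rfl | rfl
  · exfalso
    refine hsmall ?_
    rw [Nat.card_congr Classical.SLTwoSmall.two_iso.some.toEquiv, Nat.card_perm, Nat.card_fin,
      show Nat.factorial 3 = 6 by rfl]
    by_contra h1
    push Not at h1
    have hd := (Nat.Prime.pow_dvd_iff_le_factorization hr (by norm_num : (6 : ℕ) ≠ 0)).2 h1
    have hle : r ^ 2 ≤ 6 := Nat.le_of_dvd (by norm_num) hd
    obtain rfl : r = 2 := le_antisymm (by nlinarith) hr.two_le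
    norm_num at hd
  · obtain rfl : r = 2 := by
      rw [Classical.SLTwoSmall.card_three] at hsmall
      by_contra h2
      refine hsmall ?_
      by_contra h1
      push Not at h1
      have hd := (Nat.Prime.pow_dvd_iff_le_factorization hr (by norm_num : (24 : ℕ) ≠ 0)).2 h1
      have hle : r ^ 2 ≤ 24 := Nat.le_of_dvd (by norm_num) hd
      have : r ≤ 4 := by nlinarith
      interval_cases r <;> first | exact h2 rfl | (norm_num at hr; done) | (norm_num at hd; done)
    refine ⟨Classical.SLTwoSmall.quatHom.range,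
      by rw [Classical.SLTwoSmall.index_range]; norm_num, fun z hz hzo hz' => ?_⟩
    set H := Classical.SLTwoSmall.quatHom.range.comap σ
    let e := MonoidHom.ofInjective Classical.SLTwoSmall.quatHom_injective
    let f : ↥H →* ↥Classical.SLTwoSmall.quatHom.range :=
      (σ.comp H.subtype).codRestrict _ fun x => x.2
    let τ : ↥H →* QuaternionGroup 2 := e.symm.toMonoidHom.comp f
    have hτ : Function.Surjective τ := fun q => by
      obtain ⟨x, hx⟩ := hσ.1 (e q : Matrix.SpecialLinearGroup (Fin 2) (ZMod 3))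
      refine ⟨⟨x, (show σ x ∈ Classical.SLTwoSmall.quatHom.range by rw [hx]; exact (e q).2)⟩, ?_⟩
      apply e.injective
      show e (e.symm (f _)) = e q
      rw [e.apply_symm_apply]
      exact Subtype.ext hx
    have hker : ∀ x : ↥H, x ∈ τ.ker ↔ σ x = 1 := fun x => by
      rw [MonoidHom.mem_ker]
      show e.symm (f x) = 1 ↔ _
      rw [EmbeddingLike.map_eq_one_iff]
      exact ⟨fun hx => congrArg Subtype.val hx, fun hx => Subtype.ext hx⟩
    have hτc : τ.ker ≤ Subgroup.center ↥H := fun x hx => by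
      rw [Subgroup.mem_center_iff]
      exact fun y => Subtype.ext (Subgroup.mem_center_iff.1
        (hσ.2.1 (MonoidHom.mem_ker.2 ((hker x).1 hx))) y)
    have h0 := Grp.SchurM.inf_commutator_eq_bot (S3963.result 2) τ hτ hτc
    rw [← Subgroup.map_subtype_commutator] at hz'
    obtain ⟨w, hw, rfl⟩ := Subgroup.mem_map.1 hz'
    have hw1 : w = 1 := by
      rw [← Subgroup.mem_bot, ← h0]
      exact ⟨(hker w).2 hz, hw⟩
    rw [hw1, map_one, orderOf_one] at hzo
    exact absurd hzo (by norm_num)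

end Cfsg.Agent.Lie.SLMult
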