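import Cfsg.Agent.Lib.Lie.SLMult
import Cfsg.Agent.Lib.Classical.SLGroup
import Cfsg.Agent.Lib.Grp.SchurM.SylowBounds
import Cfsg.Agent.Lib.Spor.HexacodeCover
import Cfsg.Agent.S0254

/-!
The multiplier of `SL₂(9)`.
-/

set_option autoImplicit false
set_option linter.unusedSectionVars false

namespace Cfsg.Agent.Lie.SLTwoNine

open scoped commutatorElement
open Cfsg.Agent.Lie.SLMult

variable {F : Type*} [Field F] [Fintype F] (hF : Fintype.card F = 9)

local notation "SL2" => Matrix.SpecialLinearGroup (Fin 2) F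

include hF

theorem card_SL : Nat.card SL2 = 720 := by
  classical
  have h := Classical.natCard_GL_eq_SL_mul (F := F) 2 (by norm_num)
  rw [Matrix.card_GL_field, Fin.prod_univ_two, Classical.natCard_units_field, hF] at h
  generalize Nat.card (Matrix.SpecialLinearGroup (Fin 2) F) = N at h ⊢
  norm_num at h
  omega

theorem units_card : Nat.card Fˣ = 8 := by
  rw [Classical.natCard_units_field, hF]

/-- Lifts to `SL₂(9)` of commuting elements of order three of the quotient by the centre commute. -/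
theorem exists_commuting_lifts {A : Type*} [Group A] (θ : SL2 →* A) (hθ : Function.Surjective θ)
    (hker : θ.ker = Subgroup.center SL2) {x y : A} (hx : x ^ 3 = 1) (hy : y ^ 3 = 1) (hxy : Commute x y) :
    ∃ u v : SL2, θ u = x ∧ θ v = y ∧ Commute u v := by
  classical
  have hz2 : ∀ z ∈ Subgroup.center SL2, z ^ 2 = 1 := by
    intro z hz
    have hc : Nat.card (Subgroup.center SL2) = 2 := by
      rw [Classical.natCard_center_SL, units_card hF]; rfl
    have := pow_card_eq_one' (G := Subgroup.center SL2) (x := ⟨z, hz⟩)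
    rw [hc] at this
    exact congrArg Subtype.val this
  have hlift : ∀ a : A, a ^ 3 = 1 → ∃ u : SL2, θ u = a ∧ u ^ 3 = 1 := by
    intro a ha
    obtain ⟨u0, hu0⟩ := hθ a
    refine ⟨u0 ^ 4, ?_, ?_⟩
    · rw [map_pow, hu0, pow_succ a 3, ha, one_mul]
    · have hc : u0 ^ 3 ∈ Subgroup.center SL2 := by
        rw [← hker, MonoidHom.mem_ker, map_pow, hu0, ha]
      rw [← pow_mul, show 4 * 3 = 3 * 2 * 2 from rfl, pow_mul, pow_mul, hz2 _ hc, one_pow]
  obtain ⟨u, hu, hu3⟩ := hlift x hx
  obtain ⟨v, hv, hv3⟩ := hlift y hy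
  refine ⟨u, v, hu, hv, ?_⟩
  set z := v⁻¹ * (u * v * u⁻¹) with hz
  have hzc : z ∈ Subgroup.center SL2 := by
    rw [← hker, MonoidHom.mem_ker, hz, map_mul, map_mul, map_mul, map_inv, map_inv, hu, hv, hxy.eq,
      mul_inv_cancel_right, inv_mul_cancel]
  have e1 : u * v * u⁻¹ = v * z := by rw [hz, mul_inv_cancel_left]
  have e2 : z ^ 3 = 1 := by
    have e3 : (u * v * u⁻¹) ^ 3 = 1 := by rw [conj_pow, hv3, mul_one, mul_inv_cancel]
    have hcom : Commute v z := Subgroup.mem_center_iff.1 hzc v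
    rwa [e1, hcom.mul_pow, hv3, one_mul] at e3
  have hz1 : z = 1 := by
    rw [pow_succ, hz2 z hzc, one_mul] at e2
    exact e2
  rw [hz1, mul_one] at e1
  exact mul_inv_eq_iff_eq_mul.1 e1

/-- The quotient map onto `A₆`. -/
theorem exists_to_alt : ∃ θ : SL2 →* ↥(alternatingGroup (Fin 6)),
    Function.Surjective θ ∧ θ.ker = Subgroup.center SL2 := by
  obtain ⟨e⟩ := S0254.result hF
  refine ⟨e.toMonoidHom.comp (QuotientGroup.mk' (Subgroup.center SL2)), ?_, ?_⟩
  · exact e.surjective.comp (QuotientGroup.mk'_surjective _)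
  · rw [← MonoidHom.comap_ker, (MonoidHom.ker_eq_bot_iff e.toMonoidHom).2 e.injective,
      MonoidHom.comap_bot, QuotientGroup.ker_mk']

/-- The two sylow subgroups used for the primes two and three, and a bound on every stem kernel. -/
theorem stem_bound {Δ : Type*} [Group Δ] [Finite Δ] (σ : Δ →* SL2) (hσ : Cfsg.IsStemExtension σ) :
    ∃ g ∈ σ.ker, g ^ 3 = 1 ∧ σ.ker ≤ Subgroup.zpowers g := by
  classical
  obtain ⟨hsurj, hc, hder⟩ := hσ
  have hmax : ∀ (Q : Subgroup SL2) (z : Δ), z ∈ σ.ker → (orderOf z).Coprime Q.index →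
      z ∈ ⁅Q.comap σ, Q.comap σ⁆ := fun Q z hz hcop =>
    Spor.Mult.mem_derived_of_coprime _ (hc hz) (hder hz)
      (by rwa [Subgroup.index_comap_of_surjective _ hsurj])
  have hcard := card_SL hF
  -- the prime three
  obtain ⟨t, ht0, ht1, ht2⟩ : ∃ t : F, t ≠ 0 ∧ t ≠ 1 ∧ t ≠ -1 := by
    have : ({0, 1, -1} : Finset F) ≠ Finset.univ := fun h => by
      have h' := congrArg Finset.card h
      rw [Finset.card_univ, hF] at h'
      have := Finset.card_le_three (a := (0 : F)) (b := 1) (c := -1)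
      omega
    obtain ⟨t, -, ht⟩ := Finset.exists_of_ssubset
      (Finset.ssubset_iff_subset_ne.2 ⟨Finset.subset_univ _, this⟩)
    simp only [Finset.mem_insert, Finset.mem_singleton, not_or] at ht
    exact ⟨t, ht⟩
  have h01 : (0 : Fin 2) ≠ 1 := by decide
  haveI hchar : CharP F 3 := by
    obtain ⟨p, hp⟩ := CharP.exists F
    obtain ⟨n, hpp, hn⟩ := FiniteField.card F p
    have : p = 3 := by
      have hd : p ∣ 3 ^ 2 := by
        rw [show (3 : ℕ) ^ 2 = p ^ (n : ℕ) from by rw [← hn, hF]; rfl]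
        exact dvd_pow_self p n.ne_zero
      exact (Nat.prime_dvd_prime_iff_eq hpp Nat.prime_three).1 (hpp.dvd_of_dvd_pow hd)
    exact this ▸ hp
  have h3F : (3 : F) = 0 := by exact_mod_cast CharP.cast_eq_zero F 3
  have hpow3 : ∀ s : F, (tv 0 1 s : SL2) ^ 3 = 1 := fun s => by
    rw [pow_succ, sq, tv_add h01, tv_add h01, show s + s + s = 3 * s by ring, h3F, zero_mul, tv_zero h01]
  obtain ⟨x, hx⟩ := hsurj (tv 0 1 (1 : F))
  obtain ⟨y, hy⟩ := hsurj (tv 0 1 t)
  obtain ⟨e, hek, he3, hem⟩ := Grp.SchurM.derived_elementary σ hc (x := x) (y := y) (p := 3)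
    (by rw [hx, hy]; exact (tv_add h01 _ _).trans (by rw [add_comm]; exact (tv_add h01 _ _).symm))
    (by rw [hx, hpow3])
  have hinj : ∀ a b : F, (tv 0 1 a : SL2) = tv 0 1 b → a = b := fun a b h => by
    have := congrArg (fun M : SL2 => (M : Matrix (Fin 2) (Fin 2) F) 0 1) h
    simpa [tv_coe h01, Matrix.transvection] using this
  have hind3 : ¬ 3 ∣ (Subgroup.closure (σ '' {x, y})).index := by
    rw [Set.image_pair, hx, hy]
    refine Grp.SchurM.not_dvd_index_of_dvd _ (d := 9) (m := 80) ?_ (by rw [hcard]) (by norm_num) (by norm_num)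
    have ho : orderOf (tv 0 1 (1 : F) : SL2) = 3 := by
      haveI := Fact.mk Nat.prime_three
      refine orderOf_eq_prime (hpow3 1) fun h => ?_
      rw [← tv_zero (F := F) h01] at h
      exact one_ne_zero (hinj _ _ h)
    have := Grp.SchurM.mul_orderOf_dvd_card_closure (a := (tv 0 1 (1 : F) : SL2)) (b := tv 0 1 t)
      Nat.prime_three ?_ ?_ ?_
    · rwa [ho] at this
    · rw [Subgroup.mem_normalizer_iff]
      have hcm : Commute (tv 0 1 t : SL2) (tv 0 1 (1 : F)) :=
        (tv_add h01 _ _).trans (by rw [add_comm]; exact (tv_add h01 _ _).symm)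
      intro n
      constructor
      · rintro ⟨k, rfl⟩
        exact ⟨k, by simp only; rw [(hcm.zpow_right k).eq, mul_inv_cancel_right]⟩
      · rintro ⟨k, hk⟩
        refine ⟨k, ?_⟩
        simp only at hk ⊢
        have hn : n = (tv 0 1 t : SL2)⁻¹ * tv 0 1 (1 : F) ^ k * tv 0 1 t := by rw [hk]; group
        rw [hn, mul_assoc, ← (hcm.zpow_right k).eq, inv_mul_cancel_left]
    · rw [hpow3]; exact one_mem _
    · rw [← IsOfFinOrder.mem_powers_iff_mem_zpowers (isOfFinOrder_of_finite _),
        IsOfFinOrder.mem_powers_iff_mem_range_orderOf (isOfFinOrder_of_finite _)]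
      simp only [Finset.mem_image, Finset.mem_range, ho]
      rintro ⟨k, hk, hk'⟩
      interval_cases k
      · rw [pow_zero, ← tv_zero (F := F) h01] at hk'
        exact ht0 (hinj _ _ hk').symm
      · rw [pow_one] at hk'; exact ht1 (hinj _ _ hk').symm
      · rw [sq, tv_add h01] at hk'
        exact ht2 (by linear_combination -(hinj _ _ hk') + h3F)
  -- the prime two
  obtain ⟨ζ, hζ⟩ : ∃ ζ : Fˣ, orderOf ζ = 8 := by
    obtain ⟨g, hg⟩ := IsCyclic.exists_ofOrder_eq_natCard (α := Fˣ)
    exact ⟨g, hg.trans (units_card hF)⟩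
  let ai : SL2 := dia (pairD ζ 0 1) (pairD_prod ζ 0 1)
  let bi : SL2 := ⟨!![0, 1; -1, 0], by simp [Matrix.det_fin_two]⟩
  have hai : (ai : Matrix (Fin 2) (Fin 2) F) = !![(ζ : F), 0; 0, ((ζ⁻¹ : Fˣ) : F)] := by
    ext i j
    fin_cases i <;> fin_cases j <;> simp [ai, dia, pairD]
  have hapow : ∀ n : ℕ, ((ai ^ n : SL2) : Matrix (Fin 2) (Fin 2) F) =
      !![((ζ ^ n : Fˣ) : F), 0; 0, (((ζ ^ n)⁻¹ : Fˣ) : F)] := by
    intro n
    induction n with
    | zero =>
      rw [pow_zero, Matrix.SpecialLinearGroup.coe_one]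
      ext i j
      fin_cases i <;> fin_cases j <;> simp
    | succ n ih =>
      rw [pow_succ, Matrix.SpecialLinearGroup.coe_mul, ih, hai, pow_succ]
      ext i j
      fin_cases i <;> fin_cases j <;>
        simp [Matrix.mul_apply, Fin.sum_univ_two, mul_comm]
  have hao : orderOf ai = 8 := by
    rw [← hζ]
    refine orderOf_eq_orderOf_iff.2 fun n => ⟨fun h => ?_, fun h => ?_⟩
    · have h0 := congrArg (fun M : SL2 => (M : Matrix (Fin 2) (Fin 2) F) 0 0) h
      simp only [hapow, Matrix.SpecialLinearGroup.coe_one] at h0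
      exact Units.ext (by simpa using h0)
    · refine Subtype.ext ?_
      rw [hapow, h, Matrix.SpecialLinearGroup.coe_one]
      ext i j
      fin_cases i <;> fin_cases j <;> simp
  have hrel : bi * ai * bi⁻¹ = ai⁻¹ := by
    rw [mul_inv_eq_iff_eq_mul, eq_inv_mul_iff_mul_eq]
    refine Subtype.ext ?_
    rw [Matrix.SpecialLinearGroup.coe_mul, Matrix.SpecialLinearGroup.coe_mul, hai]
    simp only [bi]
    ext i j
    fin_cases i <;> fin_cases j <;> simp [Matrix.mul_apply, Fin.sum_univ_two]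
  have hb2 : bi ^ 2 = ai ^ 4 := by
    have h4 : ζ ^ 4 = -1 := by
      have h8 : (ζ ^ 4) ^ 2 = 1 := by rw [← pow_mul]; norm_num; rw [← hζ]; exact pow_orderOf_eq_one ζ
      rcases (mul_self_eq_one_iff.1 (by rw [← sq, ← Units.val_pow_eq_pow_val, h8, Units.val_one] :
        ((ζ ^ 4 : Fˣ) : F) * ((ζ ^ 4 : Fˣ) : F) = 1)) with h | h
      · exfalso
        have := orderOf_dvd_of_pow_eq_one (Units.ext h : ζ ^ 4 = 1)
        rw [hζ] at this
        norm_num at this
      · exact Units.ext (by simpa using h)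
    refine Subtype.ext ?_
    rw [hapow, h4, sq, Matrix.SpecialLinearGroup.coe_mul]
    ext i j
    fin_cases i <;> fin_cases j <;> simp [bi, Matrix.mul_apply, Fin.sum_univ_two, inv_neg]
  obtain ⟨a, ha⟩ := hsurj ai
  obtain ⟨b, hb⟩ := hsurj bi
  have h4c : Commute (a ^ 4) b := by
    have hk : (a ^ 4)⁻¹ * b ^ 2 ∈ σ.ker := by
      rw [MonoidHom.mem_ker, map_mul, map_inv, map_pow, map_pow, ha, hb, hb2, inv_mul_cancel]
    have hcz := Subgroup.mem_center_iff.1 (hc hk) b
    have : Commute b ((b ^ 2) * ((a ^ 4)⁻¹ * b ^ 2)⁻¹) :=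
      (Commute.self_pow b 2).mul_right (Commute.inv_right hcz)
    rw [mul_inv_rev, inv_inv, ← mul_assoc, mul_inv_cancel, one_mul] at this
    exact this.symm
  obtain ⟨c, hc2, hc4, hcm⟩ := Grp.SchurM.derived_dihedral σ hc (a := a) (b := b)
    (by rw [ha, hb]; exact hrel) h4c
  have hind2 : ¬ 2 ∣ (Subgroup.closure (σ '' {a, b})).index := by
    rw [Set.image_pair, ha, hb]
    refine Grp.SchurM.not_dvd_index_of_dvd _ (d := 16) (m := 45) ?_ (by rw [hcard]) (by norm_num) (by norm_num)
    have := Grp.SchurM.mul_orderOf_dvd_card_closure (a := ai) (b := bi) Nat.prime_two ?_ ?_ ?_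
    · rwa [hao] at this
    · rw [Subgroup.mem_normalizer_iff]
      intro n
      constructor
      · rintro ⟨k, rfl⟩
        refine ⟨-k, ?_⟩
        simp only
        rw [← conj_zpow, hrel, inv_zpow']
      · rintro ⟨k, hk⟩
        refine ⟨-k, ?_⟩
        simp only at hk ⊢
        have hn : n = bi⁻¹ * ai ^ k * bi := by rw [hk]; group
        have h' := conj_zpow (i := k) (a := bi⁻¹) (b := ai)
        rw [inv_inv] at h'
        have hrel' : bi⁻¹ * ai * bi = ai⁻¹ := by
          rw [← inv_inj, inv_inv, mul_inv_rev, mul_inv_rev, inv_inv, ← hrel]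
          group
        rw [hn, ← h', hrel', inv_zpow']
    · rw [hb2]; exact Subgroup.npow_mem_zpowers ai 4
    · intro h
      rw [← IsOfFinOrder.mem_powers_iff_mem_zpowers (isOfFinOrder_of_finite _)] at h
      obtain ⟨k, hk⟩ := h
      have := congrArg (fun M : SL2 => (M : Matrix (Fin 2) (Fin 2) F) 0 0) hk
      simp [hapow, bi] at this
  -- only the prime three divides the kernel
  have key : ∀ z ∈ σ.ker, ∀ r : ℕ, r.Prime → orderOf z = r → r = 3 := by
    intro z hz r hr hzo
    by_contra h3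
    haveI := Fact.mk hr
    by_cases h2 : r = 2
    · subst h2
      have hzm := hcm z (hmax _ z hz (by rw [hzo]; exact hr.coprime_iff_not_dvd.2 hind2))
      obtain ⟨k, hk⟩ := hzm
      simp only at hk
      have h1 : σ c ^ k = 1 := by rw [← map_zpow, hk]; exact hz
      have h4 : (4 : ℤ) ∣ k := by
        rw [hc2, ha, ← zpow_natCast, ← zpow_mul, ← orderOf_dvd_iff_zpow_eq_one, hao] at h1
        obtain ⟨m, hm⟩ := h1
        exact ⟨m, by push_cast at hm; omega⟩
      obtain ⟨m, rfl⟩ := h4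
      rw [zpow_mul, show (4 : ℤ) = ((4 : ℕ) : ℤ) from rfl, zpow_natCast, hc4, one_zpow] at hk
      rw [← hk, orderOf_one] at hzo
      exact absurd hzo (by norm_num)
    · obtain ⟨P⟩ : Nonempty (Sylow r SL2) := inferInstance
      have hPc : IsCyclic P.toSubgroup := by
        have hP := P.card_eq_multiplicity
        have hle : (Nat.card SL2).factorization r ≤ 1 := by
          rw [hcard]
          by_contra h1
          push Not at h1
          have hd := (Nat.Prime.pow_dvd_iff_le_factorization hr (by norm_num : (720 : ℕ) ≠ 0)).2 h1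
          have hle : r ^ 2 ≤ 720 := Nat.le_of_dvd (by norm_num) hd
          have : r ≤ 26 := by nlinarith
          interval_cases r <;> first | exact h2 rfl | exact h3 rfl | (norm_num at hr; done) |
            (norm_num at hd; done)
        rcases Nat.le_one_iff_eq_zero_or_eq_one.1 hle with e | e <;> rw [e] at hP
        · haveI : Subsingleton P.toSubgroup := (Nat.card_eq_one_iff_unique.1 (by simpa using hP)).1
          exact isCyclic_of_subsingleton
        · exact isCyclic_of_prime_card (p := r) (by simpa using hP)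
      obtain ⟨g, hg⟩ := (Subgroup.isCyclic_iff_exists_zpowers_eq_top _).1 hPc
      have hzm := hmax P.toSubgroup z hz (by rw [hzo]; exact hr.coprime_iff_not_dvd.2 P.not_dvd_index)
      rw [← hg] at hzm
      exact Spor.Mult.no_elt_of_comm _ (Grp.SchurM.comap_zpowers_comm σ hc hsurj g) hr hzo hzm
  refine ⟨e, hek, he3, fun z hz => hem z (hmax _ z hz ?_)⟩
  refine Nat.coprime_of_dvd fun r hr hr1 hr2 => hind3 ?_
  have hpow : z ^ (orderOf z / r) ∈ σ.ker := pow_mem hz _
  have : orderOf (z ^ (orderOf z / r)) = r := by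
    rw [orderOf_pow_of_dvd (Nat.div_pos (Nat.le_of_dvd (orderOf_pos z) hr1) hr.pos).ne'
      (Nat.div_dvd_of_dvd hr1), Nat.div_div_self hr1 (orderOf_pos z).ne']
  exact key _ hpow r hr this ▸ hr2

/-- The multiplier of `SL₂(9)` has order three. -/
theorem multiplier : Cfsg.HasCyclicSchurMultiplier SL2 3 := by
  obtain ⟨θ, hθ, hker⟩ := exists_to_alt hF
  obtain ⟨hx, hy⟩ := Spor.Hexa.Cover.cyc_cube
  obtain ⟨u, v, hu, hv, huv⟩ := exists_commuting_lifts hF θ hθ hker hx hy Spor.Hexa.Cover.cyc_comm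
  refine ⟨⟨↥(Spor.Hexa.Cover.pull θ), inferInstance, inferInstance, Spor.Hexa.Cover.down θ,
    Spor.Hexa.Cover.down_stem θ hu hv huv, ?_⟩, fun Δ _ _ σ hσ => ?_⟩
  · haveI : IsCyclic (Multiplicative (ZMod 3)) := inferInstance
    exact ⟨(MulEquiv.subgroupCongr (Spor.Hexa.Cover.down_ker θ)).trans
      ((MonoidHom.ofInjective (Spor.Hexa.Cover.scalP_injective θ)).symm.trans
        (mulEquivOfPrimeCardEq (p := 3) Spor.Hexa.Cover.card_units (by simp)))⟩
  · obtain ⟨g, hg, hg3, hle⟩ := stem_bound hF σ hσ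
    exact Grp.SchurM.exists_surjective_zmod σ.ker g hg hg3 hle

end Cfsg.Agent.Lie.SLTwoNine
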