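import Mathlib

/-!
Groups with few defining relations: building presentations by gluing, and changing generators.
-/

set_option autoImplicit false

namespace Cfsg.Agent.Lie.Pres

universe u v w

open Monoid (Coprod)

/-- `H` has a finite presentation with at most `r` relations. -/
def PresLe (H : Type u) [Group H] (r : ℕ) : Prop :=
  ∃ (α : Type) (_ : Finite α) (R : Finset (FreeGroup α)),
    R.card ≤ r ∧ Nonempty (PresentedGroup (R : Set (FreeGroup α)) ≃* H)

theorem PresLe.mono {H : Type u} [Group H] {r r' : ℕ} (h : PresLe H r) (hr : r ≤ r') : PresLe H r' := by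
  obtain ⟨α, hα, R, hR, e⟩ := h
  exact ⟨α, hα, R, hR.trans hr, e⟩

theorem PresLe.congr {H : Type u} [Group H] {H' : Type v} [Group H'] {r : ℕ} (h : PresLe H r)
    (e : H ≃* H') : PresLe H' r := by
  obtain ⟨α, hα, R, hR, ⟨e₀⟩⟩ := h
  exact ⟨α, hα, R, hR, ⟨e₀.trans e⟩⟩

/-- A presentation from explicit relations: it is enough that the relations hold in `T` and that
every group with these relations, mapped to `T`, is isomorphic to it. -/
theorem presLe_of_rels {T : Type u} [Group T] {α : Type} [Finite α] (v : α → T)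
    (L : List (FreeGroup α)) (hL : ∀ r ∈ L, FreeGroup.lift v r = 1)
    (h : ∀ (G : Type) [Group G] (f : FreeGroup α →* G) (π : G →* T), Function.Surjective f →
      π.comp f = FreeGroup.lift v → (∀ r ∈ L, f r = 1) → Function.Bijective π) :
    PresLe T L.length := by
  classical
  refine ⟨α, ‹_›, L.toFinset, List.toFinset_card_le _, ?_⟩
  have hv : ∀ r ∈ (L.toFinset : Set (FreeGroup α)), FreeGroup.lift v r = 1 := fun r hr =>
    hL r (List.mem_toFinset.1 (Finset.mem_coe.1 hr))
  refine ⟨MulEquiv.ofBijective (PresentedGroup.toGroup hv)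
    (h _ (PresentedGroup.mk _) _ (PresentedGroup.mk_surjective _) ?_ fun r hr => ?_)⟩
  · exact FreeGroup.ext_hom _ _ fun a => by simp; exact PresentedGroup.toGroup.of hv
  · exact PresentedGroup.one_of_mem (Finset.mem_coe.2 (List.mem_toFinset.2 hr))

/-- Gluing two groups with few relations along further equations. -/
theorem presLe_glue {A : Type u} [Group A] {B : Type v} [Group B] {T : Type w} [Group T] {r s : ℕ}
    (hA : PresLe A r) (hB : PresLe B s) (i : A →* T) (j : B →* T) (E : List (Coprod A B))
    (hE : ∀ x ∈ E, Coprod.lift i j x = 1)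
    (h : ∀ (G : Type) [Group G] (i' : A →* G) (j' : B →* G) (π : G →* T),
      i'.range ⊔ j'.range = ⊤ → π.comp i' = i → π.comp j' = j →
      (∀ x ∈ E, Coprod.lift i' j' x = 1) → Function.Bijective π) :
    PresLe T (r + s + E.length) := by
  classical
  obtain ⟨α, hα, R, hR, ⟨eA⟩⟩ := hA
  obtain ⟨β, hβ, S, hS, ⟨eB⟩⟩ := hB
  let qA : FreeGroup α →* A := eA.toMonoidHom.comp (PresentedGroup.mk _)
  let qB : FreeGroup β →* B := eB.toMonoidHom.comp (PresentedGroup.mk _)
  let φ : FreeGroup (α ⊕ β) →* Coprod A B := FreeGroup.lift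
    (Sum.elim (fun a => Coprod.inl (qA (FreeGroup.of a))) fun b => Coprod.inr (qB (FreeGroup.of b)))
  have hφl : φ.comp (FreeGroup.map Sum.inl) = Coprod.inl.comp qA :=
    FreeGroup.ext_hom _ _ fun a => by simp [φ]
  have hφr : φ.comp (FreeGroup.map Sum.inr) = Coprod.inr.comp qB :=
    FreeGroup.ext_hom _ _ fun b => by simp [φ]
  have hsA : Function.Surjective qA := eA.surjective.comp (PresentedGroup.mk_surjective _)
  have hsB : Function.Surjective qB := eB.surjective.comp (PresentedGroup.mk_surjective _)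
  have hφs : Function.Surjective φ := by
    intro x
    induction x using Monoid.Coprod.induction_on' with
    | one => exact ⟨1, map_one _⟩
    | inl_mul a x ih =>
      obtain ⟨y, rfl⟩ := ih
      obtain ⟨z, rfl⟩ := hsA a
      exact ⟨FreeGroup.map Sum.inl z * y, by rw [map_mul]; exact congrArg (· * φ y) (DFunLike.congr_fun hφl z)⟩
    | inr_mul b x ih =>
      obtain ⟨y, rfl⟩ := ih
      obtain ⟨z, rfl⟩ := hsB b
      exact ⟨FreeGroup.map Sum.inr z * y, by rw [map_mul]; exact congrArg (· * φ y) (DFunLike.congr_fun hφr z)⟩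
  choose lift hlift using hφs
  let L := (R.toList.map (FreeGroup.map Sum.inl) ++ S.toList.map (FreeGroup.map Sum.inr)) ++ E.map lift
  let v : α ⊕ β → T := fun x => Coprod.lift i j (φ (FreeGroup.of x))
  have hv : FreeGroup.lift v = (Coprod.lift i j).comp φ := FreeGroup.ext_hom _ _ fun x => by simp [v]
  refine (presLe_of_rels v L ?_ ?_).mono ?_
  · intro x hx
    rw [hv]
    simp only [L, List.mem_append, List.mem_map, Finset.mem_toList] at hx
    rcases hx with (⟨y, hy, rfl⟩ | ⟨y, hy, rfl⟩) | ⟨y, hy, rfl⟩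
    · show Coprod.lift i j (φ (FreeGroup.map Sum.inl y)) = 1
      rw [show φ (FreeGroup.map Sum.inl y) = Coprod.inl (qA y) from DFunLike.congr_fun hφl y]
      simp [qA, PresentedGroup.one_of_mem (Finset.mem_coe.2 hy)]
    · show Coprod.lift i j (φ (FreeGroup.map Sum.inr y)) = 1
      rw [show φ (FreeGroup.map Sum.inr y) = Coprod.inr (qB y) from DFunLike.congr_fun hφr y]
      simp [qB, PresentedGroup.one_of_mem (Finset.mem_coe.2 hy)]
    · show Coprod.lift i j (φ (lift y)) = 1
      rw [hlift]; exact hE y hy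
  · intro G _ f π hf hπ hL
    have hRA : ∀ x ∈ (R : Set (FreeGroup α)), FreeGroup.lift (fun a => f (FreeGroup.of (Sum.inl a))) x = 1 := by
      intro x hx
      have := hL (FreeGroup.map Sum.inl x) (by simp [L]; exact Or.inl ⟨x, Finset.mem_coe.1 hx, rfl⟩)
      rw [← this, show FreeGroup.lift (fun a => f (FreeGroup.of (Sum.inl a))) = f.comp (FreeGroup.map Sum.inl) from
        FreeGroup.ext_hom _ _ fun a => by simp]
      rfl
    have hRB : ∀ x ∈ (S : Set (FreeGroup β)), FreeGroup.lift (fun a => f (FreeGroup.of (Sum.inr a))) x = 1 := by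
      intro x hx
      have := hL (FreeGroup.map Sum.inr x) (by simp [L]; exact Or.inr (Or.inl ⟨x, Finset.mem_coe.1 hx, rfl⟩))
      rw [← this, show FreeGroup.lift (fun a => f (FreeGroup.of (Sum.inr a))) = f.comp (FreeGroup.map Sum.inr) from
        FreeGroup.ext_hom _ _ fun a => by simp]
      rfl
    let i' : A →* G := (PresentedGroup.toGroup hRA).comp eA.symm.toMonoidHom
    let j' : B →* G := (PresentedGroup.toGroup hRB).comp eB.symm.toMonoidHom
    have hf' : (Coprod.lift i' j').comp φ = f := by
      refine FreeGroup.ext_hom _ _ ?_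
      rintro (a | b)
      · simp [φ, i', qA]; exact PresentedGroup.toGroup.of hRA
      · simp [φ, j', qB]; exact PresentedGroup.toGroup.of hRB
    refine h G i' j' π ?_ ?_ ?_ ?_
    · rw [eq_top_iff, ← Monoid.Coprod.range_lift i' j']
      intro x _
      obtain ⟨y, rfl⟩ := hf x
      exact ⟨φ y, DFunLike.congr_fun hf' y⟩
    · refine MonoidHom.ext fun x => ?_
      obtain ⟨z, rfl⟩ := hsA x
      show π (i' (qA z)) = i (qA z)
      have e1 : i' (qA z) = f (FreeGroup.map Sum.inl z) := by
        have e0 := DFunLike.congr_fun hf' (FreeGroup.map Sum.inl z)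
        rw [MonoidHom.comp_apply, show φ (FreeGroup.map Sum.inl z) = Coprod.inl (qA z) from DFunLike.congr_fun hφl z,
          Coprod.lift_apply_inl] at e0
        exact e0
      rw [e1, ← MonoidHom.comp_apply π f, hπ, hv, MonoidHom.comp_apply,
        show φ (FreeGroup.map Sum.inl z) = Coprod.inl (qA z) from DFunLike.congr_fun hφl z]
      simp
    · refine MonoidHom.ext fun x => ?_
      obtain ⟨z, rfl⟩ := hsB x
      show π (j' (qB z)) = j (qB z)
      have e1 : j' (qB z) = f (FreeGroup.map Sum.inr z) := by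
        have e0 := DFunLike.congr_fun hf' (FreeGroup.map Sum.inr z)
        rw [MonoidHom.comp_apply, show φ (FreeGroup.map Sum.inr z) = Coprod.inr (qB z) from DFunLike.congr_fun hφr z,
          Coprod.lift_apply_inr] at e0
        exact e0
      rw [e1, ← MonoidHom.comp_apply π f, hπ, hv, MonoidHom.comp_apply,
        show φ (FreeGroup.map Sum.inr z) = Coprod.inr (qB z) from DFunLike.congr_fun hφr z]
      simp
    · intro x hx
      have := hL (lift x) (by simp [L]; exact Or.inr (Or.inr ⟨x, hx, rfl⟩))
      rw [← this, ← hf', MonoidHom.comp_apply, hlift]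
  · simp only [L, List.length_append, List.length_map, Finset.length_toList]
    omega

/-- Any `k` generators carry a presentation with `k` further relations. -/
theorem PresLe.gens {H : Type u} [Group H] {r k : ℕ} (h : PresLe H r) (g : Fin k → H)
    (hg : Subgroup.closure (Set.range g) = ⊤) :
    ∃ R : Finset (FreeGroup (Fin k)), R.card ≤ r + k ∧
      Nonempty (PresentedGroup (R : Set (FreeGroup (Fin k))) ≃* H) := by
  classical
  obtain ⟨α, hα, R, hR, ⟨e⟩⟩ := h
  have hs : Function.Surjective (FreeGroup.lift g) := by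
    rw [← MonoidHom.range_eq_top, FreeGroup.range_lift_eq_closure, hg]
  choose W hW using fun a : α => hs (e (PresentedGroup.of a))
  have hc : Function.Surjective (e.toMonoidHom.comp (PresentedGroup.mk (R : Set (FreeGroup α)))) :=
    e.surjective.comp (PresentedGroup.mk_surjective _)
  choose V hV using fun i : Fin k => hc (g i)
  let R' := R.image (FreeGroup.lift W) ∪
    Finset.univ.image fun i : Fin k => FreeGroup.of i * (FreeGroup.lift W (V i))⁻¹
  refine ⟨R', le_trans (Finset.card_union_le _ _) (Nat.add_le_add (Finset.card_image_le.trans hR)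
    (Finset.card_image_le.trans (by simp))), ?_⟩
  have hgW : (FreeGroup.lift g).comp (FreeGroup.lift W) =
      e.toMonoidHom.comp (PresentedGroup.mk (R : Set (FreeGroup α))) :=
    FreeGroup.ext_hom _ _ fun a => by simp [hW]; rfl
  have h1 : ∀ x ∈ (R' : Set (FreeGroup (Fin k))), FreeGroup.lift g x = 1 := by
    intro x hx
    simp only [R', Finset.coe_union, Finset.coe_image, Finset.coe_univ, Set.image_univ, Set.mem_union,
      Set.mem_image, Finset.mem_coe, Set.mem_range] at hx
    rcases hx with ⟨y, hy, rfl⟩ | ⟨i, rfl⟩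
    · rw [← MonoidHom.comp_apply, hgW, MonoidHom.comp_apply, PresentedGroup.one_of_mem (Finset.mem_coe.2 hy),
        map_one]
    · rw [map_mul, map_inv, ← MonoidHom.comp_apply (FreeGroup.lift g), hgW, hV]
      simp
  let π := PresentedGroup.toGroup h1
  have h2 : ∀ x ∈ (R : Set (FreeGroup α)),
      FreeGroup.lift (fun a => PresentedGroup.mk (R' : Set (FreeGroup (Fin k))) (W a)) x = 1 := by
    intro x hx
    have e1 : FreeGroup.lift (fun a => PresentedGroup.mk (R' : Set (FreeGroup (Fin k))) (W a)) =
        (PresentedGroup.mk _).comp (FreeGroup.lift W) := FreeGroup.ext_hom _ _ fun a => by simp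
    rw [e1]
    exact PresentedGroup.one_of_mem (by simp [R']; exact Or.inl ⟨x, Finset.mem_coe.1 hx, rfl⟩)
  let σ : H →* PresentedGroup (R' : Set (FreeGroup (Fin k))) :=
    (PresentedGroup.toGroup h2).comp e.symm.toMonoidHom
  have hσπ : σ.comp π = MonoidHom.id _ := by
    refine PresentedGroup.ext fun i => ?_
    have hrel : PresentedGroup.mk (R' : Set (FreeGroup (Fin k))) (FreeGroup.of i) =
        PresentedGroup.mk _ (FreeGroup.lift W (V i)) := by
      rw [← mul_inv_eq_one, ← map_inv, ← map_mul]
      exact PresentedGroup.one_of_mem (by simp [R'])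
    show σ (π (PresentedGroup.of i)) = PresentedGroup.mk _ (FreeGroup.of i)
    rw [hrel, show π (PresentedGroup.of i) = g i from PresentedGroup.toGroup.of h1, ← hV i]
    show PresentedGroup.toGroup h2 (e.symm (e (PresentedGroup.mk _ (V i)))) = _
    rw [e.symm_apply_apply]
    exact DFunLike.congr_fun (FreeGroup.ext_hom
      ((PresentedGroup.toGroup h2).comp (PresentedGroup.mk _))
      ((PresentedGroup.mk _).comp (FreeGroup.lift W)) fun a => by simp; exact PresentedGroup.toGroup.of h2) (V i)
  refine ⟨MulEquiv.ofBijective π ⟨fun x y hxy => ?_, ?_⟩⟩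
  · have := congrArg σ hxy
    rwa [← MonoidHom.comp_apply, ← MonoidHom.comp_apply, hσπ] at this
  · intro y
    obtain ⟨z, rfl⟩ := hs y
    exact ⟨PresentedGroup.mk _ z, rfl⟩

/-- A quotient by one more relation. -/
theorem PresLe.quot {H : Type u} [Group H] {T : Type v} [Group T] {r : ℕ} (h : PresLe H r)
    (q : H →* T) (hq : Function.Surjective q) (L : List H) (hL : ∀ x ∈ L, q x = 1)
    (hker : q.ker ≤ Subgroup.normalClosure {x | x ∈ L}) : PresLe T (r + L.length) := by
  have hone : PresLe PUnit.{1} 0 := by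
    refine (presLe_of_rels (α := Empty) (T := PUnit.{1}) Empty.elim [] (by simp) ?_)
    intro G _ f π hf _ _
    refine ⟨fun a b _ => ?_, fun y => ⟨1, Subsingleton.elim _ _⟩⟩
    obtain ⟨a, rfl⟩ := hf a
    obtain ⟨b, rfl⟩ := hf b
    rw [Subsingleton.elim a b]
  refine (presLe_glue h hone q 1 (L.map Coprod.inl) ?_ ?_).mono (by simp)
  · intro x hx
    obtain ⟨y, hy, rfl⟩ := List.mem_map.1 hx
    simp [hL y hy]
  intro G _ i' j' π hgen hπ _ hE
  have hj : j'.range = ⊥ := by
    rw [eq_bot_iff]; rintro _ ⟨x, rfl⟩; rw [Subsingleton.elim x 1, map_one]; exact one_mem _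
  rw [hj, sup_bot_eq, MonoidHom.range_eq_top] at hgen
  refine ⟨fun a b hab => ?_, fun y => ?_⟩
  · obtain ⟨a, rfl⟩ := hgen a
    obtain ⟨b, rfl⟩ := hgen b
    have hk : q.ker ≤ i'.ker := hker.trans (Subgroup.normalClosure_le_normal fun x hx => by
      have := hE (Coprod.inl x) (List.mem_map.2 ⟨x, hx, rfl⟩)
      simpa using this)
    rw [← MonoidHom.comp_apply, ← MonoidHom.comp_apply, hπ] at hab
    have := hk (q.eq_iff.1 hab)
    exact i'.eq_iff.2 this
  · obtain ⟨x, rfl⟩ := hq y
    exact ⟨i' x, DFunLike.congr_fun hπ x⟩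

end Cfsg.Agent.Lie.Pres
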