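import Cfsg.Agent.Lib.Lie.Carmichael
import Cfsg.Agent.Lib.Lie.PresBound

/-! The alternating groups have presentations with a bounded number of relations. -/

set_option autoImplicit false
set_option linter.unusedSectionVars false

namespace Cfsg.Agent.Lie.Carmichael

open Equiv
open Monoid (Coprod)

variable {I : Type*} [DecidableEq I] [Fintype I] {J : Type*} [DecidableEq J] [Fintype J]

/-- An embedding of index sets, on the points. -/
def ePt (e : I ↪ J) : Pt I ↪ Pt J := e.optionMap.optionMap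

theorem ePt_U (e : I ↪ J) : ePt e ptU = ptU := rfl
theorem ePt_V (e : I ↪ J) : ePt e ptV = ptV := rfl
theorem ePt_I (e : I ↪ J) (i : I) : ePt e (ptI i) = ptI (e i) := rfl

theorem sign_viaEmbedding {α β : Type*} [DecidableEq α] [Fintype α] [DecidableEq β] [Fintype β]
    (e : α ↪ β) (σ : Perm α) : Perm.sign (σ.viaEmbedding e) = Perm.sign σ := by
  unfold Equiv.Perm.viaEmbedding
  convert Perm.sign_extendDomain σ (Equiv.ofInjective e.1 e.2) using 3

theorem via_swap {α β : Type*} [DecidableEq α] [DecidableEq β] (e : α ↪ β) (a b : α) :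
    (swap a b).viaEmbedding e = swap (e a) (e b) := by
  ext y
  by_cases hy : y ∈ Set.range e
  · obtain ⟨x, rfl⟩ := hy
    rw [Perm.viaEmbedding_apply, e.injective.swap_apply]
  · rw [Perm.viaEmbedding_apply_of_notMem _ _ _ hy, swap_apply_of_ne_of_ne]
    · exact fun h => hy ⟨a, h.symm⟩
    · exact fun h => hy ⟨b, h.symm⟩

/-- The map of alternating groups of an embedding. -/
noncomputable def ext (e : I ↪ J) : alternatingGroup (Pt I) →* alternatingGroup (Pt J) :=
  ((Perm.viaEmbeddingHom (ePt e)).comp (alternatingGroup (Pt I)).subtype).codRestrict _ fun g => by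
    rw [Perm.mem_alternatingGroup]
    show Perm.sign (g.1.viaEmbedding (ePt e)) = 1
    rw [sign_viaEmbedding]
    exact Perm.mem_alternatingGroup.1 g.2

theorem ext_val (e : I ↪ J) (g : alternatingGroup (Pt I)) : (ext e g).1 = g.1.viaEmbedding (ePt e) := rfl

theorem ext_cyc (e : I ↪ J) (i : I) : ext e (cyc i) = cyc (e i) := by
  refine Subtype.ext ?_
  rw [ext_val]
  show (cycP i).viaEmbedding (ePt e) = cycP (e i)
  rw [cycP, ← Perm.viaEmbeddingHom_apply, map_mul, Perm.viaEmbeddingHom_apply, Perm.viaEmbeddingHom_apply,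
    via_swap, via_swap]
  rfl

theorem hom_ext {H : Type*} [Group H] {f g : alternatingGroup (Pt I) →* H}
    (h : ∀ i, f (cyc i) = g (cyc i)) : f = g :=
  MonoidHom.eq_of_eqOn_dense closure_cyc (by rintro _ ⟨i, rfl⟩; exact h i)

theorem range_eq {H : Type*} [Group H] (f : alternatingGroup (Pt I) →* H) :
    f.range = Subgroup.closure (Set.range fun i => f (cyc i)) := by
  rw [MonoidHom.range_eq_map, ← closure_cyc, MonoidHom.map_closure, ← Set.range_comp]
  rfl

/-- A permutation of the indices, on the points. -/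
def liftP : Perm I →* Perm (Pt I) where
  toFun σ := optionCongr (optionCongr σ)
  map_one' := by ext x; rcases x with _ | _ | x <;> rfl
  map_mul' σ τ := by ext x; rcases x with _ | _ | x <;> rfl

/-- The exchange of the special points, or nothing, according to a sign. -/
def tHom : ℤˣ →* Perm (Pt I) where
  toFun u := if u = 1 then 1 else swap ptU ptV
  map_one' := if_pos rfl
  map_mul' u w := by
    rcases Int.units_eq_one_or u with rfl | rfl <;> rcases Int.units_eq_one_or w with rfl | rfl <;> simp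

theorem liftP_comm_t (σ : Perm I) : Commute (liftP σ) (swap ptU ptV : Perm (Pt I)) := by
  show liftP σ * swap ptU ptV = swap ptU ptV * liftP σ
  rw [Equiv.mul_swap_eq_swap_mul]
  rfl

/-- Permutations of the indices as even permutations of the points. -/
def psi : Perm I →* alternatingGroup (Pt I) where
  toFun σ := ⟨liftP σ * tHom (Perm.sign σ), by
    have e : Perm.sign (liftP σ) = Perm.sign σ := by
      show Perm.sign (optionCongr (optionCongr σ)) = _
      rw [Equiv.optionCongr_sign, Equiv.optionCongr_sign]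
    rw [Perm.mem_alternatingGroup, map_mul, e]
    rcases Int.units_eq_one_or (Perm.sign σ) with h | h <;>
      simp [h, tHom, Perm.sign_swap (show (ptU : Pt I) ≠ ptV by simp [ptU, ptV])]⟩
  map_one' := Subtype.ext (by simp)
  map_mul' σ τ := Subtype.ext (by
    show liftP (σ * τ) * tHom (Perm.sign (σ * τ)) = _ * tHom (Perm.sign σ) * (_ * tHom (Perm.sign τ))
    have hc : Commute (liftP τ) (tHom (Perm.sign σ)) := by
      show Commute _ (ite _ _ _)
      split_ifs
      · exact Commute.one_right _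
      · exact liftP_comm_t τ
    rw [map_mul, map_mul, map_mul, mul_assoc, mul_assoc, ← mul_assoc (liftP τ), hc.eq, mul_assoc])

theorem psi_val (σ : Perm I) : (psi σ).1 = liftP σ * tHom (Perm.sign σ) := rfl

theorem psi_conj (σ : Perm I) (i : I) :
    psi σ * cyc i * (psi σ)⁻¹ = cyc (σ i) ^ ((Perm.sign σ : ℤˣ) : ℤ) := by
  have hL : ∀ j, liftP σ * cycP j = cycP (σ j) * liftP σ := fun j => by
    rw [cycP, ← mul_assoc, Equiv.mul_swap_eq_swap_mul (liftP σ) ptU (ptI j), mul_assoc, (liftP_comm_t σ).eq, ← mul_assoc]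
    rfl
  rw [mul_inv_eq_iff_eq_mul]
  refine Subtype.ext ?_
  rcases Int.units_eq_one_or (Perm.sign σ) with h | h
  · rw [h, Units.val_one, zpow_one]
    show (psi σ).1 * cycP i = cycP (σ i) * (psi σ).1
    rw [psi_val, h, map_one, mul_one, hL]
  · rw [h, Units.val_neg, Units.val_one, zpow_neg_one]
    show (psi σ).1 * cycP i = (cycP (σ i))⁻¹ * (psi σ).1
    rw [psi_val, h]
    show liftP σ * (swap ptU ptV) * cycP i = (cycP (σ i))⁻¹ * (liftP σ * swap ptU ptV)
    have e : ∀ j : I, swap ptU ptV * cycP j = (cycP j)⁻¹ * swap ptU ptV := fun j => by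
      rw [cycP, _root_.mul_inv_rev, Perm.inv_def, Perm.inv_def (swap ptU (ptI j)), symm_swap, symm_swap,
        mul_assoc]
    have e' : liftP σ * (cycP i)⁻¹ = (cycP (σ i))⁻¹ * liftP σ := by
      rw [mul_inv_eq_iff_eq_mul, mul_assoc, eq_inv_mul_iff_mul_eq]
      exact (hL i).symm
    rw [mul_assoc, e, ← mul_assoc, e', mul_assoc]

theorem psi_natural (e : I ↪ J) (σ : Perm I) : ext e (psi σ) = psi (σ.viaEmbedding e) := by
  refine Subtype.ext ?_
  rw [ext_val, psi_val, psi_val, sign_viaEmbedding, ← Perm.viaEmbeddingHom_apply, map_mul,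
    Perm.viaEmbeddingHom_apply, Perm.viaEmbeddingHom_apply]
  congr 1
  · refine Equiv.ext fun x => ?_
    rcases x with _ | _ | j
    · show (liftP σ).viaEmbedding (ePt e) (ePt e ptU) = _
      rw [Perm.viaEmbedding_apply]; rfl
    · show (liftP σ).viaEmbedding (ePt e) (ePt e ptV) = _
      rw [Perm.viaEmbedding_apply]; rfl
    · show (liftP σ).viaEmbedding (ePt e) (ptI j) = ptI (σ.viaEmbedding e j)
      by_cases hj : j ∈ Set.range e
      · obtain ⟨i, rfl⟩ := hj
        rw [← ePt_I, Perm.viaEmbedding_apply, Perm.viaEmbedding_apply]; rfl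
      · rw [Perm.viaEmbedding_apply_of_notMem _ _ _ hj, Perm.viaEmbedding_apply_of_notMem]
        rintro ⟨x, hx⟩
        rcases x with _ | _ | i
        · exact absurd hx (by simp [ePt, ptI])
        · exact absurd hx (by simp [ePt, ptI])
        · exact hj ⟨i, by simpa [ePt, ptI] using hx⟩
  · show (if Perm.sign σ = 1 then (1 : Perm (Pt I)) else swap ptU ptV).viaEmbedding (ePt e) = ite _ _ _
    split_ifs
    · rw [← Perm.viaEmbeddingHom_apply, map_one]
    · rw [via_swap]; rfl

theorem pair_symm {G : Type*} [Group G] {a b : G} (h : (a * b) ^ 2 = 1) : (b * a) ^ 2 = 1 := by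
  rw [pow_two] at h ⊢
  calc b * a * (b * a) = a⁻¹ * (a * b * (a * b)) * a := by group
    _ = 1 := by rw [h]; group

theorem pair_zpow {G : Type*} [Group G] {a b : G} (u : ℤˣ) (h : (a ^ (u : ℤ) * b ^ (u : ℤ)) ^ 2 = 1) :
    (a * b) ^ 2 = 1 := by
  rcases Int.units_eq_one_or u with rfl | rfl
  · simpa using h
  · simp only [Units.val_neg, Units.val_one, zpow_neg, zpow_one] at h
    have := pair_symm h
    rw [← _root_.mul_inv_rev, inv_pow, inv_eq_one] at this
    exact this

theorem zpow_sign_sq {G : Type*} [Group G] (a : G) (u : ℤˣ) : (a ^ (u : ℤ)) ^ (u : ℤ) = a := by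
  rcases Int.units_eq_one_or u with rfl | rfl <;> simp

theorem cyc_cube (i : I) : cyc i ^ 3 = 1 := by
  refine Subtype.ext ?_
  show cycP i ^ 3 = 1
  have h : (cycP i).IsThreeCycle := Perm.isThreeCycle_swap_mul_swap_same (by simp [ptU, ptI])
    (by simp [ptU, ptV]) (by simp [ptI, ptV])
  rw [← h.orderOf, pow_orderOf_eq_one]

theorem cyc_pair {i j : I} (h : i ≠ j) : (cyc i * cyc j) ^ 2 = 1 := by
  refine Subtype.ext ?_
  show (cycP i * cycP j) ^ 2 = 1
  have e : cycP i * cycP j = swap ptU (ptI i) * swap ptV (ptI j) := by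
    rw [cycP, cycP, swap_swap_eq (ptU : Pt I) ptV (ptI j) (by simp [ptU, ptV]) (by simp [ptU, ptI])
      (by simp [ptV, ptI]), mul_assoc, mul_assoc]
  have hd : Perm.Disjoint (swap ptU (ptI i)) (swap ptV (ptI j)) := by
    intro x
    rcases eq_or_ne x ptU with rfl | h1
    · exact Or.inr (swap_apply_of_ne_of_ne (by simp [ptU, ptV]) (by simp [ptU, ptI]))
    rcases eq_or_ne x (ptI i) with rfl | h2
    · exact Or.inr (swap_apply_of_ne_of_ne (by simp [ptI, ptV]) (by simpa [ptI] using h))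
    · exact Or.inl (swap_apply_of_ne_of_ne h1 h2)
  rw [e, hd.commute.mul_pow, pow_two, pow_two, swap_mul_self, swap_mul_self, one_mul]

/-! ### Prime degree -/

open Pres in
theorem presLe_prime (p : ℕ) [Fact p.Prime] (hp : p ≠ 2) :
    PresLe (alternatingGroup (Pt (ZMod p))) 7 := by
  classical
  obtain ⟨r, hr⟩ := IsCyclic.exists_monoid_generator (α := (ZMod p)ˣ)
  let sb : Perm (ZMod p) := Equiv.addRight 1
  let sa : Perm (ZMod p) := Equiv.mulLeft₀ (r : ZMod p) r.ne_zero
  have hsb : ∀ (n : ℕ) (x : ZMod p), (sb ^ n) x = x + (n : ZMod p) := by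
    intro n
    induction n with
    | zero => intro x; simp
    | succ n ih => intro x; rw [pow_succ', Perm.mul_apply, ih]; simp [sb, add_assoc]
  have hsbp : sb ^ p = 1 := Equiv.ext fun x => by rw [hsb]; simp
  have hsign : Perm.sign sb = 1 := by
    have h1 : Perm.sign sb ^ p = 1 := by rw [← map_pow, hsbp, map_one]
    rcases Int.units_eq_one_or (Perm.sign sb) with h | h
    · exact h
    · exfalso
      rw [h, ((Fact.out : p.Prime).odd_of_ne_two hp).neg_one_pow] at h1
      exact absurd h1 (by decide)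
  set s := ((Perm.sign sa : ℤˣ) : ℤ) with hs
  let v : Fin 3 → alternatingGroup (Pt (ZMod p)) := ![psi sb, psi sa, cyc 0]
  let B : FreeGroup (Fin 3) := FreeGroup.of 0
  let A : FreeGroup (Fin 3) := FreeGroup.of 1
  let X : FreeGroup (Fin 3) := FreeGroup.of 2
  let Xs : ZMod p → FreeGroup (Fin 3) := fun i => B ^ i.val * X * (B ^ i.val)⁻¹
  have hgen : Function.Surjective (FreeGroup.lift (cyc : ZMod p → alternatingGroup (Pt (ZMod p)))) := by
    rw [← MonoidHom.range_eq_top, FreeGroup.range_lift_eq_closure, closure_cyc]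
  obtain ⟨wa, hwa⟩ := hgen (psi sa)
  obtain ⟨wb, hwb⟩ := hgen (psi sb)
  let L : List (FreeGroup (Fin 3)) := [B ^ p, A * B * A⁻¹ * (B ^ (r : ZMod p).val)⁻¹, X ^ 3,
    A * X * A⁻¹ * (X ^ s)⁻¹, (X * (B * X * B⁻¹)) ^ 2, A⁻¹ * FreeGroup.lift Xs wa,
    B⁻¹ * FreeGroup.lift Xs wb]
  have vB : FreeGroup.lift v B = psi sb := by simp [B, v]
  have vA : FreeGroup.lift v A = psi sa := by simp [A, v]
  have vX : FreeGroup.lift v X = cyc 0 := by simp [X, v]
  have vXs : ∀ i, FreeGroup.lift v (Xs i) = cyc i := fun i => by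
    simp only [Xs, map_mul, map_inv, map_pow, vB, vX]
    rw [← map_pow psi sb, psi_conj, map_pow Perm.sign, hsign, one_pow, hsb]
    simp
  have vl : ∀ w, FreeGroup.lift v (FreeGroup.lift Xs w) = FreeGroup.lift cyc w := fun w =>
    DFunLike.congr_fun (FreeGroup.ext_hom ((FreeGroup.lift v).comp (FreeGroup.lift Xs)) _
      fun i => by simp [vXs]) w
  refine (presLe_of_rels v L ?_ ?_).mono le_rfl
  · intro x hx
    simp only [L, List.mem_cons, List.mem_singleton, List.not_mem_nil, or_false] at hx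
    rcases hx with rfl | rfl | rfl | rfl | rfl | rfl | rfl
    · rw [map_pow, vB, ← map_pow, hsbp, map_one]
    · simp only [map_mul, map_inv, map_pow, vA, vB]
      rw [← map_inv, ← map_mul, ← map_mul, ← map_pow, mul_inv_eq_one]
      congr 1
      refine Equiv.ext fun x => ?_
      rw [hsb, Perm.mul_apply, Perm.mul_apply, ZMod.natCast_zmod_val]
      show (r : ZMod p) * (sa⁻¹ x + 1) = _
      have e : (r : ZMod p) * sa⁻¹ x = x := sa.apply_symm_apply x
      rw [mul_add, e, mul_one]
    · rw [map_pow, vX]; exact cyc_cube _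
    · simp only [map_mul, map_inv, map_zpow, vA, vX]
      rw [psi_conj, mul_inv_eq_one]
      simp [sa, hs]
    · have : FreeGroup.lift v (B * X * B⁻¹) = cyc 1 := by
        have h1 := vXs 1
        simpa [Xs, ZMod.val_one] using h1
      rw [map_pow, map_mul, vX, this]; exact cyc_pair (by simp)
    · rw [map_mul, map_inv, vA, vl, hwa, inv_mul_cancel]
    · rw [map_mul, map_inv, vB, vl, hwb, inv_mul_cancel]
  intro G _ f π hf hπ hL
  have r1 := hL (B ^ p) (by simp [L])
  have r2 := hL (A * B * A⁻¹ * (B ^ (r : ZMod p).val)⁻¹) (by simp [L])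
  have r3 := hL (X ^ 3) (by simp [L])
  have r4 := hL (A * X * A⁻¹ * (X ^ s)⁻¹) (by simp [L])
  have r5 := hL ((X * (B * X * B⁻¹)) ^ 2) (by simp [L])
  have r6 := hL (A⁻¹ * FreeGroup.lift Xs wa) (by simp [L])
  have r7 := hL (B⁻¹ * FreeGroup.lift Xs wb) (by simp [L])
  set b := f B
  set a := f A
  set x := f X
  simp only [map_mul, map_inv, map_pow, map_zpow, mul_inv_eq_one, inv_mul_eq_one] at r1 r2 r3 r4 r5 r6 r7
  let y : ZMod p → G := fun i => b ^ i.val * x * (b ^ i.val)⁻¹
  have hfy : ∀ i, f (Xs i) = y i := fun i => by simp [Xs, y, b, x]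
  have hbmod : ∀ n : ℕ, b ^ n = b ^ (n : ZMod p).val := fun n => by
    conv_lhs => rw [← Nat.mod_add_div n p, pow_add, pow_mul, r1, one_pow, mul_one]
    rw [ZMod.val_natCast]
  have hy : ∀ n : ℕ, b ^ n * x * (b ^ n)⁻¹ = y (n : ZMod p) := fun n => by rw [hbmod n]
  have htr : ∀ (n : ℕ) (i : ZMod p), b ^ n * y i * (b ^ n)⁻¹ = y (i + n) := fun n i => by
    rw [show i + (n : ZMod p) = ((n + i.val : ℕ) : ZMod p) by
      rw [Nat.cast_add, ZMod.natCast_zmod_val, add_comm], ← hy, pow_add]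
    simp [y, mul_assoc]
  have hab : ∀ i : ZMod p, a * y i * a⁻¹ = y ((r : ZMod p) * i) ^ s := by
    intro i
    have e : ∀ n : ℕ, a * b ^ n * a⁻¹ = b ^ ((r : ZMod p).val * n) := fun n => by
      rw [← conj_pow, r2, ← pow_mul]
    calc a * y i * a⁻¹ = (a * b ^ i.val * a⁻¹) * (a * x * a⁻¹) * (a * b ^ i.val * a⁻¹)⁻¹ := by
          simp only [y]; group
      _ = b ^ ((r : ZMod p).val * i.val) * x ^ s * (b ^ ((r : ZMod p).val * i.val))⁻¹ := by rw [e, r4]
      _ = (b ^ ((r : ZMod p).val * i.val) * x * (b ^ ((r : ZMod p).val * i.val))⁻¹) ^ s := conj_zpow.symm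
      _ = _ := by rw [hy, Nat.cast_mul, ZMod.natCast_zmod_val, ZMod.natCast_zmod_val]
  have hy3 : ∀ i, y i ^ 3 = 1 := fun i => by rw [conj_pow, r3, mul_one, mul_inv_cancel]
  have hd : ∀ d : ZMod p, d ≠ 0 → (y 0 * y d) ^ 2 = 1 := by
    intro d hd
    obtain ⟨k, hk⟩ := hr (Units.mk0 d hd)
    have hdk : d = (r : ZMod p) ^ k := by
      rw [← Units.val_pow_eq_pow_val]
      exact (congrArg Units.val hk).symm
    clear hk
    subst hdk
    clear hd
    induction k with
    | zero => simpa [y, ZMod.val_one] using r5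
    | succ k ih =>
      have := congrArg (fun g => a * g * a⁻¹) ih
      simp only [mul_one, mul_inv_cancel, ← conj_pow] at this
      rw [show a * (y 0 * y ((r : ZMod p) ^ k)) * a⁻¹ = (a * y 0 * a⁻¹) * (a * y ((r : ZMod p) ^ k) * a⁻¹) by
        group, hab, hab, mul_zero, ← pow_succ'] at this
      exact pair_zpow (Perm.sign sa) this
  have hy2 : ∀ i j, i ≠ j → (y i * y j) ^ 2 = 1 := by
    intro i j hij
    have := congrArg (fun g => b ^ i.val * g * (b ^ i.val)⁻¹) (hd (j - i) (sub_ne_zero.2 hij.symm))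
    simp only [mul_one, mul_inv_cancel, ← conj_pow] at this
    rw [show b ^ i.val * (y 0 * y (j - i)) * (b ^ i.val)⁻¹ =
      (b ^ i.val * y 0 * (b ^ i.val)⁻¹) * (b ^ i.val * y (j - i) * (b ^ i.val)⁻¹) by group, htr, htr,
      ZMod.natCast_zmod_val, zero_add, sub_add_cancel] at this
    exact this
  refine bijective hy3 hy2 ?_ π fun i => ?_
  · have hyl : ∀ w, f (FreeGroup.lift Xs w) ∈ Subgroup.closure (Set.range y) := fun w => by
      have h1 : (f.comp (FreeGroup.lift Xs)).range ≤ Subgroup.closure (Set.range y) := by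
        rw [show f.comp (FreeGroup.lift Xs) = FreeGroup.lift y from FreeGroup.ext_hom _ _ fun i => by simp [hfy],
          FreeGroup.range_lift_eq_closure]
      exact h1 ⟨w, rfl⟩
    rw [eq_top_iff, ← MonoidHom.range_eq_top.2 hf]
    rintro _ ⟨w, rfl⟩
    induction w using FreeGroup.induction_on with
    | C1 => rw [map_one]; exact one_mem _
    | of i =>
      fin_cases i
      · show f B ∈ _
        rw [r7]; exact hyl wb
      · show f A ∈ _
        rw [r6]; exact hyl wa
      · show x ∈ _; exact Subgroup.subset_closure ⟨0, by simp [y]⟩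
    | inv_of i h => rw [map_inv]; exact inv_mem h
    | mul u w hu hw => rw [map_mul]; exact mul_mem hu hw
  · rw [← hfy, ← MonoidHom.comp_apply, hπ, vXs]

/-- A bounded presentation with two points. -/
theorem presLe_two : Pres.PresLe (alternatingGroup (Pt (Fin 2))) 3 := by
  refine (Pres.presLe_of_rels (α := Fin 2) cyc
    [FreeGroup.of 0 ^ 3, FreeGroup.of 1 ^ 3, (FreeGroup.of 0 * FreeGroup.of 1) ^ 2] ?_ ?_).mono le_rfl
  · intro x hx
    simp only [List.mem_cons, List.mem_singleton, List.not_mem_nil, or_false] at hx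
    rcases hx with rfl | rfl | rfl <;> simp only [map_pow, map_mul, FreeGroup.lift_apply_of]
    · exact cyc_cube _
    · exact cyc_cube _
    · exact cyc_pair (by decide)
  intro G _ f π hf hπ hL
  refine bijective (x := fun i => f (FreeGroup.of i)) (fun i => ?_) (fun i j hij => ?_) ?_ π fun i => ?_
  · rw [← map_pow]; fin_cases i <;> exact hL _ (by simp)
  · have h01 : (f (FreeGroup.of 0) * f (FreeGroup.of 1)) ^ 2 = 1 := by
      rw [← map_mul, ← map_pow]; exact hL _ (by simp)
    fin_cases i <;> fin_cases j <;> first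
      | exact absurd rfl hij
      | exact h01
      | exact pair_symm h01
  · rw [eq_top_iff, ← MonoidHom.range_eq_top.2 hf]
    rintro _ ⟨w, rfl⟩
    induction w using FreeGroup.induction_on with
    | C1 => rw [map_one]; exact one_mem _
    | of i => exact Subgroup.subset_closure ⟨i, rfl⟩
    | inv_of i h => rw [map_inv]; exact inv_mem h
    | mul u w hu hw => rw [map_mul]; exact mul_mem hu hw
  · rw [← MonoidHom.comp_apply, hπ, FreeGroup.lift_apply_of]

/-! ### Gluing -/

theorem rotate_pow_zero {r : ℕ} [NeZero r] (t : Fin r) : (finRotate r ^ (t : ℕ)) 0 = t := by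
  have : ∀ n : ℕ, n < r → ((finRotate r ^ n) (0 : Fin r) : ℕ) = n := by
    intro n
    induction n with
    | zero => intro _; simp
    | succ n ih =>
      intro hn
      rw [pow_succ', Perm.mul_apply, finRotate_apply, Fin.val_add, ih (by omega), Fin.val_one',
        Nat.add_mod_mod, Nat.mod_eq_of_lt hn]
  exact Fin.ext (this t t.2)

/-- Two generators of the alternating group on `k + 2` points. -/
noncomputable def altGens : (k : ℕ) → List (alternatingGroup (Pt (Fin k)))
  | 0 => []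
  | k + 1 => [cyc 0, psi (finRotate (k + 1))]

theorem hom_ext_gens {k : ℕ} {H : Type*} [Group H] {f g : alternatingGroup (Pt (Fin k)) →* H}
    (h : ∀ c ∈ altGens k, f c = g c) : f = g := by
  refine hom_ext fun i => ?_
  cases k with
  | zero => exact i.elim0
  | succ k =>
    have h0 := h (cyc 0) (by simp [altGens])
    have hr := h (psi (finRotate (k + 1))) (by simp [altGens])
    set σ := finRotate (k + 1) ^ (i : ℕ)
    have e : cyc i = (psi σ * cyc 0 * (psi σ)⁻¹) ^ ((Perm.sign σ : ℤˣ) : ℤ) := by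
      rw [psi_conj, rotate_pow_zero, zpow_sign_sq]
    rw [e]
    simp only [σ, map_pow, map_zpow, map_mul, map_inv, h0, hr]

theorem altGens_length (k : ℕ) : (altGens k).length ≤ 2 := by cases k <;> simp [altGens]

open Pres in
/-- Two alternating groups glue to a larger one. -/
theorem presLe_step {p m s : ℕ} (hpm : p < m) (hm : m ≤ 2 * p)
    (hP : PresLe (alternatingGroup (Pt (Fin p))) s) :
    PresLe (alternatingGroup (Pt (Fin m))) (s + s + 6) := by
  classical
  have hp : 0 < p := by omega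
  let e1 : Fin p ↪ Fin m := Fin.castLEEmb hpm.le
  let e2 : Fin p ↪ Fin m := ⟨fun t => ⟨m - p + t, by have := t.2; omega⟩, fun a b h => by
    simp only [Fin.mk.injEq] at h; exact Fin.ext (by omega)⟩
  set k := 2 * p - m with hk
  let d1 : Fin k ↪ Fin p := ⟨fun t => ⟨m - p + t, by have := t.2; omega⟩, fun a b h => by
    simp only [Fin.mk.injEq] at h; exact Fin.ext (by omega)⟩
  let d2 : Fin k ↪ Fin p := Fin.castLEEmb (by omega)
  haveI : NeZero (m - p) := ⟨by omega⟩
  let eL : Fin (m - p) ↪ Fin p := Fin.castLEEmb (by omega)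
  let eR : Fin (m - p) ↪ Fin p := ⟨fun t => ⟨k + t, by have := t.2; omega⟩, fun a b h => by
    simp only [Fin.mk.injEq] at h; exact Fin.ext (by omega)⟩
  set ρ := finRotate (m - p)
  set ℓ := psi (ρ.viaEmbedding eL) with hℓ
  set ℓ' := psi (ρ.viaEmbedding eR) with hℓ'
  set sg := ((Perm.sign ρ : ℤˣ) : ℤ) with hsg
  let i0 : Fin p := eL 0
  let j0 : Fin p := eR 0
  have he1 : ∀ t, (e1 t : ℕ) = t := fun _ => rfl
  have he2 : ∀ t, (e2 t : ℕ) = m - p + t := fun _ => rfl
  have hd1 : ∀ t, (d1 t : ℕ) = m - p + t := fun _ => rfl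
  have hd2 : ∀ t, (d2 t : ℕ) = t := fun _ => rfl
  have heL : ∀ t, (eL t : ℕ) = t := fun _ => rfl
  have heR : ∀ t, (eR t : ℕ) = k + t := fun _ => rfl
  let AA := alternatingGroup (Pt (Fin p))
  let inA : AA →* Coprod AA AA := Coprod.inl
  let inB : AA →* Coprod AA AA := Coprod.inr
  let E : List (Coprod AA AA) :=
    (altGens k).map (fun c => inA (ext d1 c) * (inB (ext d2 c))⁻¹) ++
      [inA ℓ * inB (cyc j0) * (inA ℓ)⁻¹ * (inB (cyc j0) ^ sg)⁻¹,
       inB ℓ' * inA (cyc i0) * (inB ℓ')⁻¹ * (inA (cyc i0) ^ sg)⁻¹,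
       inA ℓ * inB ℓ' * (inA ℓ)⁻¹ * (inB ℓ')⁻¹,
       (inA (cyc i0) * inB (cyc j0)) ^ 2]
  refine (presLe_glue hP hP (ext e1) (ext e2) E ?_ ?_).mono ?_
  · -- the relations hold
    intro x hx
    simp only [E, List.mem_append, List.mem_map, List.mem_cons, List.mem_singleton, List.not_mem_nil,
      or_false] at hx
    have hfixL : ∀ j : Fin m, m - p ≤ (j : ℕ) →
        (ρ.viaEmbedding eL).viaEmbedding e1 j = j := by
      intro j hj
      by_cases h : j ∈ Set.range e1
      · obtain ⟨t, rfl⟩ := h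
        rw [Perm.viaEmbedding_apply, Perm.viaEmbedding_apply_of_notMem]
        rintro ⟨u, rfl⟩
        have := u.2
        rw [he1, heL] at hj
        omega
      · rw [Perm.viaEmbedding_apply_of_notMem _ _ _ h]
    have hfixR : ∀ j : Fin m, (j : ℕ) < p → (ρ.viaEmbedding eR).viaEmbedding e2 j = j := by
      intro j hj
      by_cases h : j ∈ Set.range e2
      · obtain ⟨t, rfl⟩ := h
        rw [Perm.viaEmbedding_apply, Perm.viaEmbedding_apply_of_notMem]
        rintro ⟨u, rfl⟩
        rw [he2, heR] at hj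
        omega
      · rw [Perm.viaEmbedding_apply_of_notMem _ _ _ h]
    rcases hx with ⟨c, hc, rfl⟩ | rfl | rfl | rfl | rfl <;>
      simp only [inA, inB, map_mul, map_inv, map_zpow, map_pow, Coprod.lift_apply_inl, Coprod.lift_apply_inr]
    · have : (ext e1).comp (ext d1) = (ext e2).comp (ext d2) := hom_ext fun t => by
        simp only [MonoidHom.comp_apply, ext_cyc]
        congr 1
      rw [mul_inv_eq_one]
      exact DFunLike.congr_fun this c
    · rw [hℓ, psi_natural, ext_cyc, psi_conj, hfixL _ (by rw [he2]; omega), mul_inv_eq_one, sign_viaEmbedding,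
        sign_viaEmbedding]
    · rw [hℓ', psi_natural, ext_cyc, psi_conj, hfixR _ (by rw [he1]; simp only [i0, heL, Fin.val_zero]; omega), mul_inv_eq_one,
        sign_viaEmbedding, sign_viaEmbedding]
    · rw [hℓ, hℓ', psi_natural, psi_natural, ← map_mul, ← map_inv, ← map_mul, ← map_inv, ← map_mul]
      suffices h : (ρ.viaEmbedding eL).viaEmbedding e1 * (ρ.viaEmbedding eR).viaEmbedding e2 =
          (ρ.viaEmbedding eR).viaEmbedding e2 * (ρ.viaEmbedding eL).viaEmbedding e1 by
        rw [h, mul_inv_cancel_right, mul_inv_cancel, map_one]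
      refine Perm.Disjoint.commute fun j => ?_
      rcases lt_or_ge (j : ℕ) p with h | h
      · exact Or.inr (hfixR j h)
      · exact Or.inl (hfixL j (by omega))
    · rw [ext_cyc, ext_cyc]
      refine cyc_pair fun h => ?_
      have := congrArg Fin.val h
      simp only [he1, he2, i0, j0, heL, heR, Fin.val_zero] at this
      omega
  swap
  · simp only [E, List.length_append, List.length_map, List.length_cons, List.length_nil]
    have := altGens_length k
    omega
  intro G _ iA iB π hgen hπA hπB hE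
  have hagree : iA.comp (ext d1) = iB.comp (ext d2) := by
    refine hom_ext_gens fun c hc => ?_
    have := hE (inA (ext d1 c) * (inB (ext d2 c))⁻¹)
      (List.mem_append_left _ (List.mem_map.2 ⟨c, hc, rfl⟩))
    rw [map_mul, map_inv, Coprod.lift_apply_inl, Coprod.lift_apply_inr, mul_inv_eq_one] at this
    exact this
  have q1 := hE (inA ℓ * inB (cyc j0) * (inA ℓ)⁻¹ * (inB (cyc j0) ^ sg)⁻¹) (by simp [E])
  have q2 := hE (inB ℓ' * inA (cyc i0) * (inB ℓ')⁻¹ * (inA (cyc i0) ^ sg)⁻¹) (by simp [E])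
  have q3 := hE (inA ℓ * inB ℓ' * (inA ℓ)⁻¹ * (inB ℓ')⁻¹) (by simp [E])
  have q4 := hE ((inA (cyc i0) * inB (cyc j0)) ^ 2) (by simp [E])
  simp only [inA, inB, map_mul, map_inv, map_zpow, map_pow, Coprod.lift_apply_inl, Coprod.lift_apply_inr,
    mul_inv_eq_one] at q1 q2 q3 q4
  set a := iA ℓ
  set b := iB ℓ'
  have hab : Commute a b := mul_inv_eq_iff_eq_mul.1 q3
  -- orbits
  have horbA : ∀ t : Fin (m - p), (a ^ (t : ℕ)) * iA (cyc i0) * (a ^ (t : ℕ))⁻¹ =
      iA (cyc (eL t)) ^ (((Perm.sign ρ ^ (t : ℕ) : ℤˣ)) : ℤ) := by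
    intro t
    simp only [a, ← map_pow, ← map_inv, ← map_mul, ← map_zpow, hℓ]
    congr 1
    rw [map_inv psi, psi_conj, ← Perm.viaEmbeddingHom_apply, ← map_pow, Perm.viaEmbeddingHom_apply,
      sign_viaEmbedding, Perm.viaEmbedding_apply, rotate_pow_zero, map_pow]
  have horbB : ∀ t : Fin (m - p), (b ^ (t : ℕ)) * iB (cyc j0) * (b ^ (t : ℕ))⁻¹ =
      iB (cyc (eR t)) ^ (((Perm.sign ρ ^ (t : ℕ) : ℤˣ)) : ℤ) := by
    intro t
    simp only [b, ← map_pow, ← map_inv, ← map_mul, ← map_zpow, hℓ']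
    congr 1
    rw [map_inv psi, psi_conj, ← Perm.viaEmbeddingHom_apply, ← map_pow, Perm.viaEmbeddingHom_apply,
      sign_viaEmbedding, Perm.viaEmbedding_apply, rotate_pow_zero, map_pow]
  have hpw : ∀ {g z : G}, g * z * g⁻¹ = z ^ sg → ∀ n : ℕ,
      g ^ n * z * (g ^ n)⁻¹ = z ^ (((Perm.sign ρ ^ n : ℤˣ)) : ℤ) := by
    intro g z hgz n
    induction n with
    | zero => simp
    | succ n ih =>
      rw [pow_succ' g, show g * g ^ n * z * (g * g ^ n)⁻¹ = g * (g ^ n * z * (g ^ n)⁻¹) * g⁻¹ by group, ih,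
        ← conj_zpow, hgz, ← zpow_mul, pow_succ', Units.val_mul, hsg]
  have hcross : ∀ t u : Fin (m - p), (iA (cyc (eL t)) * iB (cyc (eR u))) ^ 2 = 1 := by
    intro t u
    have h1 : (iA (cyc (eL t)) * iB (cyc j0)) ^ 2 = 1 := by
      have := congrArg (fun g => a ^ (t : ℕ) * g * (a ^ (t : ℕ))⁻¹) q4
      simp only [mul_one, mul_inv_cancel, ← conj_pow] at this
      rw [show a ^ (t : ℕ) * (iA (cyc i0) * iB (cyc j0)) * (a ^ (t : ℕ))⁻¹ =
        (a ^ (t : ℕ) * iA (cyc i0) * (a ^ (t : ℕ))⁻¹) * (a ^ (t : ℕ) * iB (cyc j0) * (a ^ (t : ℕ))⁻¹) by group,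
        horbA, hpw q1] at this
      exact pair_zpow _ this
    have hfix : b ^ (u : ℕ) * iA (cyc (eL t)) * (b ^ (u : ℕ))⁻¹ =
        iA (cyc (eL t)) ^ (((Perm.sign ρ ^ (u : ℕ) : ℤˣ)) : ℤ) := by
      have e1 : iA (cyc (eL t)) = (a ^ (t : ℕ) * iA (cyc i0) * (a ^ (t : ℕ))⁻¹) ^
          (((Perm.sign ρ ^ (t : ℕ) : ℤˣ)) : ℤ) := by rw [horbA, zpow_sign_sq]
      have hc : Commute (b ^ (u : ℕ)) (a ^ (t : ℕ)) := (hab.symm.pow_pow _ _)
      rw [e1, ← conj_zpow, show b ^ (u : ℕ) * (a ^ (t : ℕ) * iA (cyc i0) * (a ^ (t : ℕ))⁻¹) * (b ^ (u : ℕ))⁻¹ =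
        (b ^ (u : ℕ) * a ^ (t : ℕ)) * iA (cyc i0) * (b ^ (u : ℕ) * a ^ (t : ℕ))⁻¹ by group, hc.eq,
        show a ^ (t : ℕ) * b ^ (u : ℕ) * iA (cyc i0) * (a ^ (t : ℕ) * b ^ (u : ℕ))⁻¹ =
          a ^ (t : ℕ) * (b ^ (u : ℕ) * iA (cyc i0) * (b ^ (u : ℕ))⁻¹) * (a ^ (t : ℕ))⁻¹ by group,
        hpw q2, ← conj_zpow, ← zpow_mul, ← zpow_mul, mul_comm]
    have := congrArg (fun g => b ^ (u : ℕ) * g * (b ^ (u : ℕ))⁻¹) h1
    simp only [mul_one, mul_inv_cancel, ← conj_pow] at this
    rw [show b ^ (u : ℕ) * (iA (cyc (eL t)) * iB (cyc j0)) * (b ^ (u : ℕ))⁻¹ =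
      (b ^ (u : ℕ) * iA (cyc (eL t)) * (b ^ (u : ℕ))⁻¹) * (b ^ (u : ℕ) * iB (cyc j0) * (b ^ (u : ℕ))⁻¹) by group,
      hfix, horbB] at this
    exact pair_zpow _ this
  -- all indices
  let y : Fin m → G := fun i => if h : (i : ℕ) < p then iA (cyc ⟨i, h⟩) else
    iB (cyc ⟨i - (m - p), by have := i.2; omega⟩)
  have hyA : ∀ (i : Fin m) (h : (i : ℕ) < p), y i = iA (cyc ⟨i, h⟩) := fun i h => dif_pos h
  have hyB : ∀ (i : Fin m) (h : m - p ≤ (i : ℕ)), y i = iB (cyc ⟨i - (m - p), by have := i.2; omega⟩) := by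
    intro i h
    by_cases hi : (i : ℕ) < p
    · rw [hyA i hi]
      have := DFunLike.congr_fun hagree (cyc ⟨i - (m - p), by omega⟩)
      simp only [MonoidHom.comp_apply, ext_cyc] at this
      convert this using 3
      · exact Fin.ext (by simp only [hd1]; omega)
      · exact Fin.ext (by simp only [hd2])
    · exact dif_neg hi
  have hy3 : ∀ i, y i ^ 3 = 1 := fun i => by
    simp only [y]; split_ifs <;> rw [← map_pow, cyc_cube, map_one]
  have hhalf : ∀ i j : Fin m, i ≠ j → (i : ℕ) < m - p → (y i * y j) ^ 2 = 1 := by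
    intro i j hij hi
    rw [hyA i (by omega)]
    by_cases hj : (j : ℕ) < p
    · rw [hyA j hj, ← map_mul, ← map_pow, cyc_pair (fun h => hij (Fin.ext (congrArg (fun x : Fin p => (x : ℕ)) h))), map_one]
    · rw [hyB j (by omega)]
      have := hcross ⟨i, hi⟩ ⟨(j : ℕ) - p, by have := j.2; omega⟩
      have e : (⟨(j : ℕ) - (m - p), by have := j.2; omega⟩ : Fin p) = eR ⟨(j : ℕ) - p, by have := j.2; omega⟩ :=
        Fin.ext (by rw [heR]; show (j : ℕ) - (m - p) = k + ((j : ℕ) - p); omega)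
      rw [e]
      exact this
  have hy2 : ∀ i j : Fin m, i ≠ j → (y i * y j) ^ 2 = 1 := by
    intro i j hij
    by_cases hi : (i : ℕ) < m - p
    · exact hhalf i j hij hi
    by_cases hj : (j : ℕ) < m - p
    · exact pair_symm (hhalf j i hij.symm hj)
    push Not at hi hj
    rw [hyB i hi, hyB j hj, ← map_mul, ← map_pow, cyc_pair, map_one]
    intro h
    simp only [Fin.mk.injEq] at h
    exact hij (Fin.ext (by omega))
  refine bijective hy3 hy2 ?_ π fun i => ?_
  · rw [eq_top_iff, ← hgen, range_eq, range_eq, sup_le_iff, Subgroup.closure_le, Subgroup.closure_le]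
    constructor
    · rintro _ ⟨t, rfl⟩
      exact Subgroup.subset_closure ⟨e1 t, by rw [hyA (e1 t) t.2]; rfl⟩
    · rintro _ ⟨t, rfl⟩
      refine Subgroup.subset_closure ⟨e2 t, ?_⟩
      rw [hyB (e2 t) (by rw [he2]; omega)]
      exact congrArg (fun z => iB (cyc z)) (Fin.ext (by simp only [he2]; omega))
  · simp only [y]
    split_ifs with h
    · rw [← MonoidHom.comp_apply, hπA, ext_cyc]; congr 1
    · rw [← MonoidHom.comp_apply, hπB, ext_cyc]
      congr 1
      exact Fin.ext (by simp only [he2]; omega)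

open Pres in
/-- Bounded presentations of the alternating groups. -/
theorem presLe_alternating (n : ℕ) (hn : 4 ≤ n) : PresLe (alternatingGroup (Fin n)) 20 := by
  obtain ⟨m, rfl⟩ : ∃ m, n = m + 2 := ⟨n - 2, by omega⟩
  suffices PresLe (alternatingGroup (Pt (Fin m))) 20 from
    this.congr (Equiv.altCongrHom (Fintype.equivFinOfCardEq (by simp [Pt])))
  rcases (show m = 2 ∨ 3 ≤ m by omega) with rfl | hm
  · exact presLe_two.mono (by norm_num)
  obtain ⟨p, hp, hp2, hpm, hmp⟩ : ∃ p, p.Prime ∧ p ≠ 2 ∧ p ≤ m ∧ m ≤ 2 * p := by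
    obtain ⟨p, hp, h1, h2⟩ := Nat.exists_prime_lt_and_le_two_mul (m / 2) (by omega)
    rcases eq_or_ne p 2 with rfl | h
    · exact ⟨3, Nat.prime_three, by norm_num, hm, by omega⟩
    · exact ⟨p, hp, h, by omega, by omega⟩
  haveI := Fact.mk hp
  have h7 : PresLe (alternatingGroup (Pt (Fin p))) 7 :=
    (presLe_prime p hp2).congr (Equiv.altCongrHom (Fintype.equivOfCardEq (by simp [Pt, ZMod.card])))
  rcases hpm.lt_or_eq with h | h
  · exact presLe_step h hmp h7
  · subst h; exact h7.mono (by norm_num)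

end Cfsg.Agent.Lie.Carmichael
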