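import Cfsg.Agent.Lib.Grp.SchurM.Basic
import Cfsg.Prelude.Def_KGroupFacts

/-! The multiplier of a quotient of a group with trivial multiplier by a central subgroup. -/

set_option autoImplicit false

universe u v

namespace Cfsg.Agent.Lie.SLMult

open scoped commutatorElement

/-- A finite universal central extension computes the multiplier. -/
theorem hasSchurMultiplier_of_lifts {G Δ : Type u} [Group G] [Group Δ] [Finite Δ] (θ : Δ →* G)
    (hθ : Function.Surjective θ) (hc : θ.ker ≤ Subgroup.center Δ) (hperf : commutator Δ = ⊤)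
    (hlift : ∀ (E : Type u) [Group E] [Finite E] (π : E →* G), Function.Surjective π →
      π.ker ≤ Subgroup.center E → ∃ τ : Δ →* E, π.comp τ = θ)
    {A : Type v} [CommGroup A] (e : A ≃* θ.ker) : Cfsg.HasSchurMultiplier G A := by
  refine ⟨⟨Δ, inferInstance, inferInstance, θ, ⟨hθ, hc, fun x _ => hperf ▸ Subgroup.mem_top x⟩,
    ⟨e.symm⟩⟩, ?_⟩
  intro Γ _ _ σ hσ
  obtain ⟨τ, hτ⟩ := hlift Γ σ hσ.1 hσ.2.1
  have hτ' : ∀ x, σ (τ x) = θ x := fun x => DFunLike.congr_fun hτ x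
  have hcomm : commutator Γ ≤ τ.range := by
    rw [commutator_def, Subgroup.commutator_le]
    intro a _ b _
    obtain ⟨x, hx⟩ := hθ (σ a)
    obtain ⟨y, hy⟩ := hθ (σ b)
    have hza : (τ x)⁻¹ * a ∈ Subgroup.center Γ := hσ.2.1 (by
      rw [MonoidHom.mem_ker, map_mul, map_inv, hτ', hx, inv_mul_cancel])
    have hzb : (τ y)⁻¹ * b ∈ Subgroup.center Γ := hσ.2.1 (by
      rw [MonoidHom.mem_ker, map_mul, map_inv, hτ', hy, inv_mul_cancel])
    rw [show a = τ x * ((τ x)⁻¹ * a) by group, show b = τ y * ((τ y)⁻¹ * b) by group]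
    set z := (τ x)⁻¹ * a
    set z' := (τ y)⁻¹ * b
    have e : ⁅τ x * z, τ y * z'⁆ = ⁅τ x, τ y⁆ := by
      rw [commutatorElement_def, commutatorElement_def]
      calc τ x * z * (τ y * z') * (τ x * z)⁻¹ * (τ y * z')⁻¹
          = τ x * (z * (τ y * z')) * z⁻¹ * (τ x)⁻¹ * z'⁻¹ * (τ y)⁻¹ := by group
        _ = τ x * τ y * (z' * (τ x)⁻¹) * z'⁻¹ * (τ y)⁻¹ := by
            rw [← Subgroup.mem_center_iff.1 hza]; group
        _ = _ := by rw [← Subgroup.mem_center_iff.1 hzb]; group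
    rw [e, ← map_commutatorElement]
    exact ⟨_, rfl⟩
  refine ⟨((τ.comp θ.ker.subtype).codRestrict σ.ker fun x => ?_).comp e.toMonoidHom, ?_⟩
  · rw [MonoidHom.mem_ker, MonoidHom.comp_apply, hτ']
    exact x.2
  rintro ⟨k, hk⟩
  obtain ⟨x, rfl⟩ := hcomm (hσ.2.2 hk)
  have hx : x ∈ θ.ker := by rw [MonoidHom.mem_ker, ← hτ']; exact hk
  obtain ⟨a, ha⟩ := e.surjective ⟨x, hx⟩
  refine ⟨a, Subtype.ext ?_⟩
  show τ (e a : Δ) = τ x
  rw [ha]

/-- A perfect central extension with trivial multiplier computes the multiplier. -/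
theorem hasSchurMultiplier_of_cover {G Δ : Type u} [Group G] [Group Δ] [Finite Δ] (θ : Δ →* G)
    (hθ : Function.Surjective θ) (hc : θ.ker ≤ Subgroup.center Δ) (hperf : commutator Δ = ⊤)
    (hM : Cfsg.HasCyclicSchurMultiplier Δ 1) {A : Type v} [CommGroup A] (e : A ≃* θ.ker) :
    Cfsg.HasSchurMultiplier G A := by
  refine hasSchurMultiplier_of_lifts θ hθ hc hperf (fun E _ _ π hπ hcπ => ?_) e
  let P : Subgroup (E × Δ) :=
    (π.comp (MonoidHom.fst _ _)).eqLocus (θ.comp (MonoidHom.snd _ _))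
  let ρ : ↥P →* Δ := (MonoidHom.snd _ _).comp P.subtype
  have hρ : Function.Surjective ρ := fun x => by
    obtain ⟨g, hg⟩ := hπ (θ x)
    exact ⟨⟨(g, x), hg⟩, rfl⟩
  have hcρ : ρ.ker ≤ Subgroup.center ↥P := by
    rintro ⟨⟨g, x⟩, hgx⟩ he
    obtain rfl : x = 1 := he
    have he' : g ∈ π.ker := by
      rw [MonoidHom.mem_ker]
      exact (show π g = θ 1 from hgx).trans (map_one θ)
    rw [Subgroup.mem_center_iff]
    rintro ⟨⟨f, y⟩, hfy⟩
    exact Subtype.ext (Prod.ext (Subgroup.mem_center_iff.1 (hcπ he') f)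
      ((mul_one y).trans (one_mul y).symm))
  have h0 := Grp.SchurM.inf_commutator_eq_bot hM ρ hρ hcρ
  let r : ↥(commutator ↥P) →* Δ := ρ.comp (commutator ↥P).subtype
  have hbij : Function.Bijective r := by
    refine ⟨(injective_iff_map_eq_one r).2 fun k hk => Subtype.ext ?_, fun x => ?_⟩
    · rw [Subgroup.coe_one, ← Subgroup.mem_bot, ← h0]
      exact ⟨hk, k.2⟩
    · have : x ∈ (commutator ↥P).map ρ := by
        rw [commutator_def, Subgroup.map_commutator, Subgroup.map_top_of_surjective ρ hρ,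
          ← commutator_def, hperf]
        trivial
      obtain ⟨k, hk, rfl⟩ := Subgroup.mem_map.1 this
      exact ⟨⟨k, hk⟩, rfl⟩
  refine ⟨((MonoidHom.fst _ _).comp P.subtype).comp
    ((commutator ↥P).subtype.comp (MulEquiv.ofBijective r hbij).symm.toMonoidHom),
    MonoidHom.ext fun x => ?_⟩
  obtain ⟨k, rfl⟩ := hbij.2 x
  simp only [MonoidHom.comp_apply, MulEquiv.coe_toMonoidHom]
  rw [show r k = MulEquiv.ofBijective r hbij k from rfl, MulEquiv.symm_apply_apply]
  exact (k : ↥P).2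

/-- A finite cyclic group of given order. -/
theorem exists_zmod_equiv_of_cyclic {A : Type u} [Group A] [IsCyclic A] {n : ℕ}
    (h : Nat.card A = n) : Nonempty (Multiplicative (ZMod n) ≃* A) := by
  subst h
  exact ⟨zmodCyclicMulEquiv inferInstance⟩

end Cfsg.Agent.Lie.SLMult
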