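import Cfsg.Agent.Lib.Lie.SU3PresField

/-!
Field facts for the short presentations of `SU_n(q)`.
-/

set_option autoImplicit false
set_option linter.unusedSectionVars false

namespace Cfsg.Agent.Lie.UnPres

open Cfsg.Agent.Classical Cfsg.Agent.Classical.PSUAut

variable {F : Type*} [Field F] [Fintype F] {q : ℕ}
variable (hF : Fintype.card F = q ^ 2)

local notation "σ" => qFrob hF

/-- A primitive element with its powers. -/
structure Prim (q : ℕ) (ω : F) : Prop where
  ne : ω ≠ 0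
  gen : ∀ x : F, x ≠ 0 → ∃ k : ℕ, x = ω ^ k
  ord : ∀ k : ℕ, ω ^ k = 1 → (q ^ 2 - 1) ∣ k

include hF

theorem exists_prim : ∃ ω : F, Prim q ω := by
  obtain ⟨ω, hgen, hord⟩ := SU3Pres.exists_gen hF
  refine ⟨ω, ω.ne_zero, fun x hx => ?_, fun k hk => ?_⟩
  · obtain ⟨k, hk⟩ := hgen (Units.mk0 x hx)
    exact ⟨k, by rw [← Units.val_pow_eq_pow_val, ← hk, Units.val_mk0]⟩
  · rw [← hord]; exact orderOf_dvd_of_pow_eq_one (Units.ext (by simpa using hk))

variable {ω : F} (P : Prim q ω)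

include P

theorem Prim.pow_N : ω ^ (q ^ 2 - 1) = 1 := by
  rw [← hF]; exact FiniteField.pow_card_sub_one_eq_one ω P.ne

theorem Prim.sigma : σ ω = ω ^ q := qFrob_apply hF ω

/-- The norm of the primitive element generates the units of the real subfield. -/
theorem Prim.norm_gen {s : F} (hs : σ s = s) (hs0 : s ≠ 0) : ∃ k : ℕ, s = (ω * σ ω) ^ k := by
  obtain ⟨c, hc⟩ := exists_norm hF hs
  have hc0 : c ≠ 0 := fun h => hs0 (by rw [← hc, h, zero_mul])
  obtain ⟨k, rfl⟩ := P.gen c hc0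
  exact ⟨k, by rw [← hc, map_pow, mul_pow]⟩

/-- The unit circle is generated by `ω ^ (q - 1)`. -/
theorem Prim.circle_gen {e : F} (he : e * σ e = 1) : ∃ k : ℕ, e = (ω ^ (q - 1)) ^ k := by
  obtain ⟨i, rfl⟩ := P.gen e (left_ne_zero_of_mul (he ▸ one_ne_zero))
  rw [qFrob_apply, ← pow_mul, ← pow_add, show i + i * q = i * (q + 1) by ring] at he
  have h2 := two_le_q hF
  have hN : q ^ 2 - 1 = (q - 1) * (q + 1) := by
    obtain ⟨r, rfl⟩ : ∃ r, q = r + 1 := ⟨q - 1, by omega⟩
    rw [Nat.add_sub_cancel]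
    refine Nat.sub_eq_of_eq_add ?_
    ring
  obtain ⟨k, hk⟩ : q - 1 ∣ i := by
    have := P.ord _ he
    rw [hN] at this
    exact Nat.dvd_of_mul_dvd_mul_right (by omega) this
  exact ⟨k, by rw [← pow_mul, hk]⟩

theorem Prim.eps_norm : ω ^ (q - 1) * σ (ω ^ (q - 1)) = 1 := by
  have h2 := two_le_q hF
  rw [qFrob_apply, ← pow_mul, ← pow_add, show q - 1 + (q - 1) * q = q ^ 2 - 1 by
    obtain ⟨r, rfl⟩ : ∃ r, q = r + 1 := ⟨q - 1, by omega⟩
    rw [Nat.add_sub_cancel]
    refine (Nat.sub_eq_of_eq_add ?_).symm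
    ring]
  exact P.pow_N hF

theorem Prim.eps_ne_one : ω ^ (q - 1) ≠ 1 := fun h => by
  have h2 := two_le_q hF
  have := Nat.le_of_dvd (by omega) (P.ord _ h)
  nlinarith [Nat.sub_add_cancel (show 1 ≤ q by omega), Nat.sub_add_cancel (show 1 ≤ q ^ 2 from Nat.one_le_pow _ _ (by omega))]

theorem Prim.not_real : σ ω ≠ ω := fun h => by
  have h2 := two_le_q hF
  have h1 : ω ^ (q - 1) = 1 := by
    refine mul_right_cancel₀ P.ne ?_
    rw [← pow_succ, Nat.sub_add_cancel (by omega), ← qFrob_apply hF, h, one_mul]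
  exact P.eps_ne_one hF h1

/-- An element of norm one of order `q + 1` generates the field. -/
theorem Prim.eps_gen (M : Subfield F) (hM : ω ^ (q - 1) ∈ M) : M = ⊤ := by
  haveI : Fintype M := Fintype.ofFinite M
  have h2 := two_le_q hF
  obtain ⟨k, hk⟩ : ∃ k, Fintype.card F = Fintype.card M ^ k :=
    ⟨_, Module.card_eq_pow_finrank (K := M) (V := F)⟩
  have hM1 : 1 < Fintype.card M := Fintype.one_lt_card
  have hne : (⟨_, hM⟩ : M) ≠ 0 := fun h0 => pow_ne_zero (q - 1) P.ne (congrArg Subtype.val h0)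
  have hp : (ω ^ (q - 1)) ^ (Fintype.card M - 1) = 1 := by
    simpa using congrArg Subtype.val (FiniteField.pow_card_sub_one_eq_one (⟨_, hM⟩ : M) hne)
  rw [← pow_mul] at hp
  have hd := P.ord _ hp
  have hle : q + 2 ≤ Fintype.card M := by
    have hN : q ^ 2 - 1 = (q - 1) * (q + 1) := by
      obtain ⟨r, rfl⟩ : ∃ r, q = r + 1 := ⟨q - 1, by omega⟩
      rw [Nat.add_sub_cancel]
      refine Nat.sub_eq_of_eq_add ?_
      ring
    rw [hN] at hd
    have := Nat.le_of_dvd (by omega) (Nat.dvd_of_mul_dvd_mul_left (by omega) hd)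
    omega
  have hk1 : k = 1 := by
    rcases k with _ | _ | k
    · rw [hF, pow_zero] at hk; nlinarith
    · rfl
    · exfalso
      have : Fintype.card M ^ 2 ≤ Fintype.card M ^ (k + 2) := Nat.pow_le_pow_right (by omega) (by omega)
      rw [← hk, hF] at this
      nlinarith
  subst hk1
  rw [pow_one] at hk
  refine SetLike.ext' (Set.eq_univ_of_forall fun x => ?_) |>.trans rfl
  obtain ⟨y, rfl⟩ := ((Fintype.bijective_iff_injective_and_card (Subtype.val : M → F)).2
    ⟨Subtype.val_injective, hk.symm⟩).2 x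
  exact y.2

/-- An additive subgroup stable under the circle and containing `1` is everything. -/
theorem Prim.mem_of_eps (S : AddSubgroup F) (h1 : (1 : F) ∈ S)
    (hS : ∀ x ∈ S, ω ^ (q - 1) * x ∈ S) (x : F) : x ∈ S :=
  RegUnip.forall_mem_of_stable S one_ne_zero h1 hS (P.eps_gen hF) x

/-- An additive subgroup stable under the square of the circle, containing `1` and the generator. -/
theorem Prim.mem_of_eps_sq (S : AddSubgroup F) (h1 : (1 : F) ∈ S) (he : ω ^ (q - 1) ∈ S)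
    (hS : ∀ x ∈ S, ω ^ (q - 1) * ω ^ (q - 1) * x ∈ S) (x : F) : x ∈ S := by
  let T : AddSubgroup F :=
    { carrier := {y | y ∈ S ∧ ω ^ (q - 1) * y ∈ S}
      add_mem' := fun {a b} ha hb => ⟨S.add_mem ha.1 hb.1, by rw [mul_add]; exact S.add_mem ha.2 hb.2⟩
      zero_mem' := ⟨S.zero_mem, by rw [mul_zero]; exact S.zero_mem⟩
      neg_mem' := fun {a} ha => ⟨S.neg_mem ha.1, by rw [mul_neg]; exact S.neg_mem ha.2⟩ }
  exact (P.mem_of_eps hF T ⟨h1, by rwa [mul_one]⟩
    (fun y hy => ⟨hy.2, by rw [← mul_assoc]; exact hS y hy.1⟩) x).1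

omit P

/-- The real elements are spanned by squares. -/
theorem real_mem (S : AddSubgroup F) (hS : ∀ a : F, σ a = a → a * a ∈ S) {s : F} (hs : σ s = s) : s ∈ S := by
  by_cases h2 : (2 : F) = 0
  · have hev : 2 ∣ q := by
      obtain ⟨p, hp⟩ := CharP.exists F
      haveI : Fact p.Prime := ⟨CharP.char_is_prime F p⟩
      have : p = 2 := (Nat.prime_dvd_prime_iff_eq Fact.out Nat.prime_two).1
        ((CharP.cast_eq_zero_iff F p 2).1 (by exact_mod_cast h2))
      obtain ⟨f, -, hf⟩ := FiniteField.card F p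
      have : p ∣ q ^ 2 := by rw [← hF, hf]; exact dvd_pow_self p f.pos.ne'
      subst p
      exact (Nat.Prime.dvd_of_dvd_pow Nat.prime_two this)
    obtain ⟨r, hr⟩ := hev
    have : s = s ^ r * s ^ r := by
      rw [← pow_add, show r + r = q by omega, ← qFrob_apply hF, hs]
    rw [this]
    exact hS _ (by rw [map_pow, hs])
  · have : s = (s + 1) / 2 * ((s + 1) / 2) - (s - 1) / 2 * ((s - 1) / 2) := by field_simp; ring
    rw [this]
    exact S.sub_mem (hS _ (by rw [map_div₀, map_add, map_one, hs, map_ofNat]))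
      (hS _ (by rw [map_div₀, map_sub, map_one, hs, map_ofNat]))

/-- Coordinates over the real subfield. -/
theorem exists_coord {w : F} (hw : σ w ≠ w) (x : F) :
    ∃ a b : F, σ a = a ∧ σ b = b ∧ x = a + b * w := by
  have hd : w - σ w ≠ 0 := sub_ne_zero.2 (Ne.symm hw)
  have hd' : σ w - w ≠ 0 := sub_ne_zero.2 hw
  refine ⟨x - (x - σ x) / (w - σ w) * w, (x - σ x) / (w - σ w), ?_, ?_, by ring⟩
  · simp only [map_sub, map_mul, map_div₀, qFrob_qFrob hF]
    field_simp
    ring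
  · simp only [map_sub, map_div₀, qFrob_qFrob hF]
    rw [div_eq_div_iff hd' hd]
    ring

end Cfsg.Agent.Lie.UnPres
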