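import Cfsg.Agent.Lib.Lie.UnitTwoGenTorus

/-!
`SU₃` in the coordinates of a frame `(e, n, f)`: the Heisenberg group, the torus, the Weyl element and
the rank-one identities.
-/

set_option autoImplicit false
set_option linter.unusedSectionVars false

namespace Cfsg.Agent.Lie.SU3Pres

open Matrix Cfsg.Agent.Classical Cfsg.Agent.Classical.PSUAut Cfsg.Agent.Fus.UnitN Cfsg.Agent.Lie.SUGen
open scoped commutatorElement

variable {F : Type*} [Field F] [Fintype F] {q : ℕ}

local notation "h" => hermForm 3 F q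

/-- The parameters of the Heisenberg group. -/
def OK (hF : Fintype.card F = q ^ 2) (α b : F) : Prop := b + qFrob hF b + α * qFrob hF α = 0

/-- The multiplier of the torus on the linear part. -/
def th (hF : Fintype.card F = q ^ 2) (l : F) : F := qFrob hF l * qFrob hF l / l

variable (hF : Fintype.card F = q ^ 2)

local notation "cj" => qFrob hF

include hF

variable {e n f : Fin 3 → F} (B : Frame3 q e n f)

/-- The basis matrix. -/
def Pm (_B : Frame3 q e n f) : Matrix (Fin 3) (Fin 3) F := Matrix.of fun i j => ![e, n, f] j i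

include B

theorem Pm_mulVec (v : Fin 3 → F) : Pm B *ᵥ v = co e n f (v 0) (v 1) (v 2) := by
  funext i
  simp [Pm, Matrix.mulVec, dotProduct, Fin.sum_univ_three, co]
  ring

theorem co_inj {x y z x' y' z' : F} (h0 : co e n f x y z = co e n f x' y' z') :
    x = x' ∧ y = y' ∧ z = z' := by
  have k0 := congrArg (fun v => h v f) h0
  have k1 := congrArg (fun v => h v n) h0
  have k2 := congrArg (fun v => h v e) h0
  simp only [co, h_add_left, h_smul_left, B.P.ee, B.P.ef, B.P.ff, B.P.fe hF, B.ne, B.nf, B.nn,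
    B.en hF, B.fn hF, mul_zero, mul_one, add_zero, zero_add] at k0 k1 k2
  exact ⟨k0, k1, k2⟩

theorem Pm_det : IsUnit (Pm B).det := by
  rw [← Matrix.isUnit_iff_isUnit_det, ← Matrix.mulVec_injective_iff_isUnit]
  intro v w hvw
  rw [Pm_mulVec hF B, Pm_mulVec hF B] at hvw
  obtain ⟨h0, h1, h2⟩ := co_inj hF B hvw
  funext i
  fin_cases i <;> assumption

theorem exists_co (v : Fin 3 → F) : ∃ x y z, v = co e n f x y z :=
  ⟨_, _, _, ((Matrix.mulVec_mulVec v (Pm B) (Pm B)⁻¹).trans
    (by rw [Matrix.mul_nonsing_inv _ (Pm_det hF B), Matrix.one_mulVec])).symm.trans (Pm_mulVec hF B _)⟩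

theorem ext_co {a b : SU 3 F q}
    (hab : ∀ x y z, suVal a *ᵥ co e n f x y z = suVal b *ᵥ co e n f x y z) : a = b :=
  suVal_ext (Matrix.ext_iff_mulVec.2 fun v => by
    obtain ⟨x, y, z, rfl⟩ := exists_co hF B v
    exact hab x y z)

/-- An element from its matrix in coordinates. -/
theorem exists_ofCoord (A : Matrix (Fin 3) (Fin 3) F) (hdet : A.det = 1)
    (hA : ∀ v v' : Fin 3 → F, (A *ᵥ v) 0 * cj ((A *ᵥ v') 2) + (A *ᵥ v) 1 * cj ((A *ᵥ v') 1) +
      (A *ᵥ v) 2 * cj ((A *ᵥ v') 0) = v 0 * cj (v' 2) + v 1 * cj (v' 1) + v 2 * cj (v' 0)) :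
    ∃ g : SU 3 F q, ∀ v : Fin 3 → F,
      suVal g *ᵥ co e n f (v 0) (v 1) (v 2) = co e n f ((A *ᵥ v) 0) ((A *ᵥ v) 1) ((A *ᵥ v) 2) := by
  set M := Pm B * A * (Pm B)⁻¹
  have hM : ∀ v, M *ᵥ co e n f (v 0) (v 1) (v 2) = co e n f ((A *ᵥ v) 0) ((A *ᵥ v) 1) ((A *ᵥ v) 2) := by
    intro v
    rw [← Pm_mulVec hF B, ← Pm_mulVec hF B, Matrix.mulVec_mulVec,
      Matrix.nonsing_inv_mul_cancel_right _ _ (Pm_det hF B), ← Matrix.mulVec_mulVec]
  have hMdet : M.det = 1 := by
    rw [Matrix.det_mul, Matrix.det_mul, Matrix.det_nonsing_inv, hdet, mul_one,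
      Ring.mul_inverse_cancel _ (Pm_det hF B)]
  refine ⟨⟨⟨M, hMdet⟩, fun x y => ?_⟩, hM⟩
  obtain ⟨x0, x1, x2, rfl⟩ := exists_co hF B x
  obtain ⟨y0, y1, y2, rfl⟩ := exists_co hF B y
  show h (M *ᵥ _) (M *ᵥ _) = _
  have e1 := hM ![x0, x1, x2]
  have e2 := hM ![y0, y1, y2]
  simp only [Matrix.cons_val_zero, Matrix.cons_val_one, Matrix.cons_val] at e1 e2
  rw [e1, e2, B.h_co hF, B.h_co hF]
  simpa using hA ![x0, x1, x2] ![y0, y1, y2]

theorem exists_W : ∃ g : SU 3 F q, ∀ x y z, suVal g *ᵥ co e n f x y z = co e n f z (-y) x := by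
  obtain ⟨g, hg⟩ := exists_ofCoord hF B !![0, 0, 1; 0, -1, 0; 1, 0, 0]
    (by simp [Matrix.det_fin_three]) (fun v v' => by
      simp [Matrix.mulVec, dotProduct, Fin.sum_univ_three, map_neg]; ring)
  exact ⟨g, fun x y z => by simpa [Matrix.mulVec, dotProduct, Fin.sum_univ_three] using hg ![x, y, z]⟩

theorem exists_T (l : F) : ∃ g : SU 3 F q, l ≠ 0 → ∀ x y z, suVal g *ᵥ co e n f x y z =
    co e n f (l * x) (cj l / l * y) ((cj l)⁻¹ * z) := by
  by_cases hl : l = 0
  · exact ⟨1, fun h0 => absurd hl h0⟩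
  have hl' : cj l ≠ 0 := (map_ne_zero (qFrob hF)).2 hl
  obtain ⟨g, hg⟩ := exists_ofCoord hF B (Matrix.diagonal ![l, cj l / l, (cj l)⁻¹])
    (by rw [Matrix.det_diagonal, Fin.prod_univ_three]; simp; field_simp) (fun v v' => by
      simp [Matrix.mulVec_diagonal, map_inv₀, cj_cj hF]; field_simp)
  exact ⟨g, fun _ x y z => by simpa [Matrix.mulVec_diagonal] using hg ![x, y, z]⟩

omit B in
theorem OK.eok (B : Frame3 q e n f) {α b : F} (hb : OK hF α b) : EOK (q := q) e (α • n) b :=
  B.eok_e hF hb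

theorem exists_U (α b : F) : ∃ g : SU 3 F q, OK hF α b → ∀ x y z,
    suVal g *ᵥ co e n f x y z = co e n f (x - cj α * y + b * z) (y + α * z) z := by
  by_cases hb : OK hF α b
  · exact ⟨eSU hF (OK.eok hF B hb), fun _ => B.act_e hF _⟩
  · exact ⟨1, fun h0 => absurd h0 hb⟩

/-- The Heisenberg element. -/
noncomputable def Um (α b : F) : SU 3 F q := (exists_U hF B α b).choose

/-- The Weyl element. -/
noncomputable def Wm : SU 3 F q := (exists_W hF B).choose

/-- The torus. -/
noncomputable def Tm (l : F) : SU 3 F q := (exists_T hF B l).choose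

theorem W_act (x y z : F) : suVal (Wm hF B) *ᵥ co e n f x y z = co e n f z (-y) x :=
  (exists_W hF B).choose_spec x y z

theorem T_act {l : F} (hl : l ≠ 0) (x y z : F) :
    suVal (Tm hF B l) *ᵥ co e n f x y z = co e n f (l * x) (cj l / l * y) ((cj l)⁻¹ * z) :=
  (exists_T hF B l).choose_spec hl x y z

theorem U_act {α b : F} (hb : OK hF α b) (x y z : F) :
    suVal (Um hF B α b) *ᵥ co e n f x y z = co e n f (x - cj α * y + b * z) (y + α * z) z := by
  exact (exists_U hF B α b).choose_spec hb x y z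

omit B in
theorem OK.zero : OK hF (0 : F) 0 := by simp [OK]

omit B in
theorem OK.skew {c : F} (hc : c + cj c = 0) : OK hF 0 c := by simp [OK, hc]

omit B in
theorem OK.mul {α b α' b' : F} (h1 : OK hF α b) (h2 : OK hF α' b') :
    OK hF (α + α') (b + b' - cj α * α') := by
  unfold OK at *
  simp only [map_add, map_sub, map_mul, cj_cj hF]
  linear_combination h1 + h2

omit B in
theorem OK.inv {α b : F} (h1 : OK hF α b) : OK hF (-α) (cj b) := by
  unfold OK at *
  simp only [map_neg, cj_cj hF]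
  linear_combination h1

omit B in
theorem OK.scale {α b : F} (h1 : OK hF α b) {l : F} (hl : l ≠ 0) :
    OK hF (th hF l * α) (l * cj l * b) := by
  have hl' : cj l ≠ 0 := (map_ne_zero (qFrob hF)).2 hl
  unfold OK th at *
  simp only [map_mul, map_div₀, cj_cj hF]
  field_simp
  linear_combination (l * cj l) * h1

omit B in
theorem OK.b_ne {α b : F} (h1 : OK hF α b) (hα : α ≠ 0) : b ≠ 0 := by
  intro h0
  subst h0
  exact mul_ne_zero hα ((map_ne_zero (qFrob hF)).2 hα) (by simpa [OK] using h1)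

omit B in
theorem OK.first {α b : F} (h1 : OK hF α b) (hb : b ≠ 0) : OK hF (-α / b) (1 / b) := by
  have hb' : cj b ≠ 0 := (map_ne_zero (qFrob hF)).2 hb
  unfold OK at *
  simp only [map_neg, map_div₀, map_one]
  field_simp
  linear_combination h1

theorem U_mul {α b α' b' : F} (h1 : OK hF α b) (h2 : OK hF α' b') :
    Um hF B α b * Um hF B α' b' = Um hF B (α + α') (b + b' - cj α * α') := by
  refine ext_co hF B fun x y z => ?_
  rw [mulVec_mul, U_act hF B h2, U_act hF B h1, U_act hF B (h1.mul hF h2), map_add]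
  congr 1 <;> ring

theorem U_zero : Um hF B 0 0 = 1 := ext_co hF B fun x y z => by
  rw [U_act hF B (OK.zero hF), suVal_one', Matrix.one_mulVec, map_zero]
  congr 1 <;> ring

theorem U_inv {α b : F} (h1 : OK hF α b) : (Um hF B α b)⁻¹ = Um hF B (-α) (cj b) := by
  refine inv_eq_of_mul_eq_one_right ?_
  rw [U_mul hF B h1 (h1.inv hF), add_neg_cancel, show b + cj b - cj α * -α = 0 by
    unfold OK at h1; linear_combination h1, U_zero hF B]

theorem U_inj {α b α' b' : F} (h1 : OK hF α b) (h2 : OK hF α' b')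
    (he : Um hF B α b = Um hF B α' b') : α = α' ∧ b = b' := by
  have := U_act hF B h1 0 0 1
  rw [he, U_act hF B h2] at this
  obtain ⟨k0, k1, -⟩ := co_inj hF B this
  exact ⟨by simpa using k1.symm, by simpa using k0.symm⟩

theorem U_eq_one {α b : F} (h1 : OK hF α b) (he : Um hF B α b = 1) : α = 0 ∧ b = 0 :=
  U_inj hF B h1 (OK.zero hF) (he.trans (U_zero hF B).symm)

theorem U_comm {α b α' b' : F} (h1 : OK hF α b) (h2 : OK hF α' b') :
    ⁅Um hF B α b, Um hF B α' b'⁆ = Um hF B 0 (α * cj α' - cj α * α') := by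
  have h0 : OK hF 0 (α * cj α' - cj α * α') := OK.skew hF (by
    simp only [map_sub, map_mul, cj_cj hF]; ring)
  rw [commutatorElement_def, mul_inv_eq_iff_eq_mul, mul_inv_eq_iff_eq_mul, mul_assoc,
    U_mul hF B h1 h2, U_mul hF B h2 h1, U_mul hF B h0 (h2.mul hF h1), map_zero]
  congr 1 <;> ring

omit B in
theorem th_mul (l l' : F) : th hF (l * l') = th hF l * th hF l' := by
  simp only [th, map_mul]
  rw [div_mul_div_comm]
  ring

omit B in
theorem th_one : th hF (1 : F) = 1 := by simp [th]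

omit B in
theorem th_real {r : F} (hr : cj r = r) (hr0 : r ≠ 0) : th hF r = r := by
  rw [th, hr]; field_simp

omit B in
theorem th_pow (l : F) (k : ℕ) : th hF (l ^ k) = th hF l ^ k := by
  induction k with
  | zero => simp [th]
  | succ k ih => rw [pow_succ, pow_succ, th_mul, ih]

omit B in
theorem th_norm {l : F} (hl : l ≠ 0) : th hF l * cj (th hF l) = l * cj l := by
  have hl' : cj l ≠ 0 := (map_ne_zero (qFrob hF)).2 hl
  simp only [th, map_div₀, map_mul, cj_cj hF]
  field_simp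

theorem T_one : Tm hF B 1 = 1 := ext_co hF B fun x y z => by
  rw [T_act hF B one_ne_zero, suVal_one', Matrix.one_mulVec, map_one]
  congr 1 <;> ring

theorem T_mul {l l' : F} (hl : l ≠ 0) (hl' : l' ≠ 0) :
    Tm hF B l * Tm hF B l' = Tm hF B (l * l') := by
  refine ext_co hF B fun x y z => ?_
  rw [mulVec_mul, T_act hF B hl', T_act hF B hl, T_act hF B (mul_ne_zero hl hl'), map_mul, mul_inv]
  congr 1
  · ring
  · field_simp
  · ring

theorem T_pow {l : F} (hl : l ≠ 0) (k : ℕ) : Tm hF B l ^ k = Tm hF B (l ^ k) := by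
  induction k with
  | zero => rw [pow_zero, pow_zero, T_one hF B]
  | succ k ih => rw [pow_succ, pow_succ, ih, T_mul hF B (pow_ne_zero _ hl) hl]

theorem T_conj {l α b : F} (hl : l ≠ 0) (h1 : OK hF α b) :
    Tm hF B l * Um hF B α b * (Tm hF B l)⁻¹ = Um hF B (th hF l * α) (l * cj l * b) := by
  have hl' : cj l ≠ 0 := (map_ne_zero (qFrob hF)).2 hl
  rw [mul_inv_eq_iff_eq_mul]
  refine ext_co hF B fun x y z => ?_
  rw [mulVec_mul, mulVec_mul, U_act hF B h1, T_act hF B hl, T_act hF B hl, U_act hF B (h1.scale hF hl)]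
  simp only [th, map_mul, map_div₀, cj_cj hF]
  congr 1 <;> field_simp

theorem W_sq : Wm hF B * Wm hF B = 1 := ext_co hF B fun x y z => by
  rw [mulVec_mul, W_act hF B, W_act hF B, suVal_one', Matrix.one_mulVec, neg_neg]

theorem W_conj {l : F} (hl : l ≠ 0) : Wm hF B * Tm hF B l * Wm hF B = Tm hF B (cj l)⁻¹ := by
  have hl' : cj l ≠ 0 := (map_ne_zero (qFrob hF)).2 hl
  refine ext_co hF B fun x y z => ?_
  rw [mulVec_mul, mulVec_mul, W_act hF B, T_act hF B hl, W_act hF B, T_act hF B (inv_ne_zero hl'),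
    map_inv₀, cj_cj hF, inv_inv]
  congr 1
  field_simp

/-- The rank-one identity. -/
theorem rank_one {α b : F} (h1 : OK hF α b) (hb : b ≠ 0) :
    Wm hF B * Um hF B α b * Wm hF B =
      Um hF B (-α / b) (1 / b) * Tm hF B (1 / cj b) * Wm hF B * Um hF B (-α / cj b) (1 / b) := by
  have hb' : cj b ≠ 0 := (map_ne_zero (qFrob hF)).2 hb
  have h2 : OK hF (-α / cj b) (1 / b) := by
    unfold OK at *
    simp only [map_neg, map_div₀, map_one, cj_cj hF]
    field_simp
    linear_combination h1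
  refine ext_co hF B fun x y z => ?_
  rw [mulVec_mul, mulVec_mul, mulVec_mul, mulVec_mul, mulVec_mul, W_act hF B, U_act hF B h1,
    W_act hF B, U_act hF B h2, W_act hF B, T_act hF B (one_div_ne_zero hb'),
    U_act hF B (h1.first hF hb)]
  unfold OK at h1
  simp only [map_neg, map_div₀, map_one, cj_cj hF]
  congr 1
  · field_simp
    linear_combination -z * h1
  · field_simp
    linear_combination y * h1
  · field_simp
    ring

/-- The first factor of the big cell decomposition is determined. -/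
theorem first_unique {α b α₁ b₁ α₂ b₂ l₁ l₂ : F} (h1 : OK hF α b) (hb : b ≠ 0) (k1 : OK hF α₁ b₁)
    (k2 : OK hF α₂ b₂) (hl₁ : l₁ ≠ 0) (hl₂ : l₂ ≠ 0)
    (he : Wm hF B * Um hF B α b * Wm hF B =
      Um hF B α₁ b₁ * Tm hF B l₁ * Wm hF B * (Um hF B α₂ b₂ * Tm hF B l₂)) :
    α₁ = -α / b ∧ b₁ = 1 / b := by
  have hl₁' : cj l₁ ≠ 0 := (map_ne_zero (qFrob hF)).2 hl₁
  have := congrArg (fun g => suVal g *ᵥ co e n f 1 0 0) he
  rw [mulVec_mul, mulVec_mul, mulVec_mul, mulVec_mul, mulVec_mul, mulVec_mul, W_act hF B,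
    U_act hF B h1, W_act hF B, T_act hF B hl₂, U_act hF B k2, W_act hF B, T_act hF B hl₁,
    U_act hF B k1] at this
  obtain ⟨r0, r1, r2⟩ := co_inj hF B this
  simp only [mul_zero, mul_one, neg_zero, zero_add, add_zero, sub_zero] at r0 r1 r2
  rw [← r2] at r0 r1
  constructor
  · field_simp; linear_combination -r1
  · field_simp; linear_combination -r0

end Cfsg.Agent.Lie.SU3Pres
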