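import Cfsg.Agent.Lib.Lie.RankOneOdd
import Cfsg.Prelude.Def_LieRecognition

/-! The rank-one set-up. -/

set_option autoImplicit false
set_option linter.unusedSectionVars false

namespace Cfsg.Agent.Lie.RankOne

open MulAction

theorem inv_conj_eq_one {H : Type*} [Group H] {x y : H} (h : x⁻¹ * y * x = 1) : y = 1 := by
  have := congrArg (fun z => x * z * x⁻¹) h
  simpa [mul_assoc] using this

variable {G Ω : Type*} [Group G] [Finite G] [MulAction G Ω] {a : Ω} {t : G} {Q : Subgroup G}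
  (hS : Cfsg.IsRankOneSetup G Ω a t Q)

include hS

theorem inv_t : t⁻¹ = t := inv_eq_of_mul_eq_one_right hS.mul_self

theorem t_smul_b : t • (t • a) = a := by rw [← mul_smul, hS.mul_self, one_smul]

theorem b_ne : t • a ≠ a := fun h => hS.not_mem (mem_stabilizer_iff.2 h)

theorem tt (x : G) : t * (t * x * t) * t = x := by
  calc t * (t * x * t) * t = t * t * x * (t * t) := by group
    _ = x := by rw [hS.mul_self, one_mul, mul_one]

theorem conj_D {d : G} (hd : d ∈ stabilizer G a ⊓ stabilizer G (t • a)) :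
    t * d * t ∈ stabilizer G a ⊓ stabilizer G (t • a) := by
  obtain ⟨h1, h2⟩ := hd
  refine ⟨mem_stabilizer_iff.2 ?_, mem_stabilizer_iff.2 ?_⟩
  · rw [mul_smul, mul_smul, mem_stabilizer_iff.1 h2, t_smul_b hS]
  · rw [mul_smul, mul_smul, t_smul_b hS, mem_stabilizer_iff.1 h1]

theorem exists_smul {b c : Ω} : ∃ g : G, g • b = c := by
  by_cases h : b = c
  · exact ⟨1, by rw [one_smul, h]⟩
  · obtain ⟨g, hg, -⟩ := is_two_pretransitive_iff.1 hS.two_transitive h (Ne.symm h)
    exact ⟨g, hg⟩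

theorem q_fix {q : G} (hq : q ∈ Q) : q • a = a := mem_stabilizer_iff.1 (hS.le hq)

theorem q_b {q : G} (hq : q ∈ Q) (h : q • (t • a) = t • a) : q = 1 :=
  Subgroup.mem_bot.1 (hS.inf_eq_bot ▸ (⟨hq, mem_stabilizer_iff.2 h⟩ :
    q ∈ Q ⊓ stabilizer G (t • a)))

theorem q_unique {q q' : G} (hq : q ∈ Q) (hq' : q' ∈ Q) (h : q • (t • a) = q' • (t • a)) :
    q = q' := by
  have := q_b hS (mul_mem (inv_mem hq') hq) (by rw [mul_smul, h, inv_smul_smul])
  rw [inv_mul_eq_one] at this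
  exact this.symm

theorem exists_qd {g : G} (hg : g ∈ stabilizer G a) :
    ∃ q ∈ Q, ∃ d ∈ stabilizer G a ⊓ stabilizer G (t • a), g = q * d := by
  let T : Subgroup G := Q ⊔ (stabilizer G a ⊓ stabilizer G (t • a))
  have hT : g ∈ T := by
    show g ∈ Q ⊔ (stabilizer G a ⊓ stabilizer G (t • a))
    rw [hS.sup_eq]; exact hg
  have hn : stabilizer G a ⊓ stabilizer G (t • a) ≤ Subgroup.normalizer (Q : Set G) := fun d hd => by
    refine Subgroup.mem_normalizer_iff.2 fun x => ⟨fun hx => hS.conj_mem d hd.1 x hx, fun hx => ?_⟩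
    have := hS.conj_mem d⁻¹ (inv_mem hd.1) _ hx
    simpa [mul_assoc] using this
  have hT' : g ∈ ((T : Subgroup G) : Set G) := hT
  rw [Subgroup.coe_mul_of_right_le_normalizer_left _ _ hn] at hT'
  obtain ⟨q, hq, d, hd, e⟩ := hT'
  exact ⟨q, hq, d, hd, e.symm⟩

theorem exists_q {c : Ω} (hc : c ≠ a) : ∃ q ∈ Q, q • (t • a) = c := by
  obtain ⟨g, h1, h2⟩ := is_two_pretransitive_iff.1 hS.two_transitive (b_ne hS).symm hc.symm
  obtain ⟨q, hq, d, hd, rfl⟩ := exists_qd hS (mem_stabilizer_iff.2 h1)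
  exact ⟨q, hq, by rw [← h2, mul_smul, mem_stabilizer_iff.1 hd.2]⟩

theorem semireg {q : G} (hq : q ∈ Q) {c : Ω} (hc : c ≠ a) (h : q • c = c) : q = 1 := by
  obtain ⟨r, hr, rfl⟩ := exists_q hS hc
  have := q_b hS (q := r⁻¹ * q * r) (mul_mem (mul_mem (inv_mem hr) hq) hr)
    (by rw [mul_smul, mul_smul, h, inv_smul_smul])
  calc q = r * (r⁻¹ * q * r) * r⁻¹ := by group
    _ = 1 := by rw [this]; group

theorem ne_of_q_smul {q : G} (hq : q ∈ Q) {c : Ω} (hc : c ≠ a) : q • c ≠ a := fun h =>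
  hc (by rw [← q_fix hS hq] at h; exact smul_left_cancel q h)

theorem regular {b c : Ω} (hb : b ≠ a) (hc : c ≠ a) : ∃! x : Q, (x : G) • b = c := by
  obtain ⟨q, hq, rfl⟩ := exists_q hS hb
  obtain ⟨r, hr, rfl⟩ := exists_q hS hc
  refine ⟨⟨r * q⁻¹, mul_mem hr (inv_mem hq)⟩, by simp [mul_smul], fun x hx => Subtype.ext ?_⟩
  have := q_unique hS (mul_mem x.2 hq) hr (by rw [mul_smul]; exact hx)
  show (x : G) = r * q⁻¹
  rw [← this, mul_inv_cancel_right]

theorem finite_omega : Finite Ω :=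
  Finite.of_surjective (fun g : G => g • a) fun _ => exists_smul hS

theorem card_omega : Nat.card Ω = Nat.card Q + 1 := by
  classical
  have := finite_omega hS
  have e : Nat.card Q = Nat.card {c : Ω // c ≠ a} := Nat.card_congr <|
    Equiv.ofBijective (fun q : Q => ⟨(q : G) • (t • a), ne_of_q_smul hS q.2 (b_ne hS)⟩)
      ⟨fun x y h => Subtype.ext (q_unique hS x.2 y.2 (congrArg Subtype.val h)), fun c => by
        obtain ⟨q, hq, e⟩ := exists_q hS c.2
        exact ⟨⟨q, hq⟩, Subtype.ext e⟩⟩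
  have h2 : Nat.card (Option {c : Ω // c ≠ a}) = Nat.card Ω := Nat.card_congr (Equiv.optionSubtypeNe a)
  rw [← h2, Finite.card_option, e]

theorem odd_omega : Odd (Nat.card Ω) := card_omega hS ▸ hS.even_card.add_one

theorem card_stab : Nat.card ↥(stabilizer G a) =
    Nat.card Q * Nat.card ↥(stabilizer G a ⊓ stabilizer G (t • a)) := by
  rw [← Nat.card_prod]
  refine (Nat.card_congr (Equiv.ofBijective
    (fun p : Q × ↥(stabilizer G a ⊓ stabilizer G (t • a)) =>
      (⟨p.1 * p.2, mul_mem (hS.le p.1.2) p.2.2.1⟩ : stabilizer G a)) ⟨?_, fun g => ?_⟩)).symm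
  · intro p p' h
    have h' : (p.1 : G) * p.2 = p'.1 * p'.2 := congrArg Subtype.val h
    have e1 : (p.1 : G) = p'.1 := by
      refine q_unique hS p.1.2 p'.1.2 ?_
      have := congrArg (fun g : G => g • (t • a)) h'
      simpa [mul_smul, mem_stabilizer_iff.1 p.2.2.2, mem_stabilizer_iff.1 p'.2.2.2] using this
    rw [e1] at h'
    exact Prod.ext (Subtype.ext e1) (Subtype.ext (mul_left_cancel h'))
  · obtain ⟨q, hq, d, hd, e⟩ := exists_qd hS g.2
    exact ⟨(⟨q, hq⟩, ⟨d, hd⟩), Subtype.ext e.symm⟩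

theorem card_group : Nat.card G =
    Nat.card Q * Nat.card ↥(stabilizer G a ⊓ stabilizer G (t • a)) * (Nat.card Q + 1) := by
  have : IsPretransitive G Ω := ⟨fun _ _ => exists_smul hS⟩
  rw [← card_stab hS, ← card_omega hS, ← Subgroup.card_mul_index (stabilizer G a),
    index_stabilizer_of_transitive G a]

theorem exists_sylow : ∃ P : Sylow 2 G, (P : Subgroup G) ≤ Q := by
  obtain ⟨P⟩ := (inferInstance : Nonempty (Sylow 2 Q))
  have hc : Nat.card ((P : Subgroup Q).map Q.subtype) = 2 ^ (Nat.card G).factorization 2 := by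
    rw [← Nat.card_congr ((P : Subgroup Q).equivMapOfInjective _ Q.subtype_injective).toEquiv,
      P.card_eq_multiplicity, card_group hS]
    have hd := hS.odd_card
    have he := hS.even_card.add_one
    rw [Nat.factorization_mul (mul_ne_zero Nat.card_pos.ne' Nat.card_pos.ne') (by omega),
      Nat.factorization_mul Nat.card_pos.ne' Nat.card_pos.ne', Finsupp.add_apply, Finsupp.add_apply,
      Nat.factorization_eq_zero_of_not_dvd (Nat.two_dvd_ne_zero.2 (Nat.odd_iff.1 hd)),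
      Nat.factorization_eq_zero_of_not_dvd (Nat.two_dvd_ne_zero.2 (Nat.odd_iff.1 he)), add_zero,
      add_zero]
  exact ⟨Sylow.ofCard _ hc, by simpa using Subgroup.map_subtype_le (P : Subgroup Q)⟩

theorem canon_exists {g : G} (hg : g ∉ stabilizer G a) :
    ∃ x ∈ stabilizer G a, ∃ y ∈ Q, g = x * t * y := by
  have hne : g⁻¹ • a ≠ a := fun h => hg (by
    rw [mem_stabilizer_iff]; nth_rewrite 1 [← h]; rw [smul_inv_smul])
  obtain ⟨r, hr, e⟩ := exists_q hS hne
  refine ⟨g * r * t, ?_, r⁻¹, inv_mem hr, ?_⟩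
  · rw [mem_stabilizer_iff, mul_smul, mul_smul, e, smul_inv_smul]
  · rw [mul_assoc (g * r) t t, hS.mul_self]; group

theorem canon_unique {x x' y y' : G} (hx : x ∈ stabilizer G a) (hx' : x' ∈ stabilizer G a)
    (hy : y ∈ Q) (hy' : y' ∈ Q) (h : x * t * y = x' * t * y') : x = x' ∧ y = y' := by
  have he : ∀ {x y : G}, x ∈ stabilizer G a → (x * t * y)⁻¹ • a = y⁻¹ • (t • a) := fun {x y} hx => by
    rw [mul_inv_rev, mul_inv_rev, inv_t hS, mul_smul, mul_smul,
      mem_stabilizer_iff.1 (inv_mem hx)]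
  have e := q_unique hS (inv_mem hy) (inv_mem hy') (by rw [← he hx, ← he hx', h])
  rw [inv_inj] at e
  subst e
  exact ⟨mul_right_cancel (mul_right_cancel h), rfl⟩

theorem form_unique {g h f g' h' f' : G} (hg : g ∈ Q) (hh : h ∈ stabilizer G a ⊓ stabilizer G (t • a))
    (hf : f ∈ Q) (hg' : g' ∈ Q) (hh' : h' ∈ stabilizer G a ⊓ stabilizer G (t • a)) (hf' : f' ∈ Q)
    (e : g * h * t * f = g' * h' * t * f') : g = g' ∧ h = h' ∧ f = f' := by
  obtain ⟨e1, e2⟩ := canon_unique hS (mul_mem (hS.le hg) hh.1) (mul_mem (hS.le hg') hh'.1) hf hf' e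
  have e3 : g = g' := by
    refine q_unique hS hg hg' ?_
    have := congrArg (fun g : G => g • (t • a)) e1
    simpa [mul_smul, mem_stabilizer_iff.1 hh.2, mem_stabilizer_iff.1 hh'.2] using this
  subst e3
  exact ⟨rfl, mul_left_cancel e1, e2⟩

theorem invol_mem_Q {s : G} (hs : s ∈ stabilizer G a) (h2 : s * s = 1) : s ∈ Q := by
  obtain ⟨q, hq, d, hd, rfl⟩ := exists_qd hS hs
  have h1 : d * d ∈ Q := by
    have e : d * d = (d * q * d⁻¹)⁻¹ * q⁻¹ * (q * d * (q * d)) := by group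
    rw [e, h2, mul_one]
    exact mul_mem (inv_mem (hS.conj_mem d hd.1 q hq)) (inv_mem hq)
  have hd2 : d * d = 1 := q_b hS h1 (mem_stabilizer_iff.1 (mul_mem hd.2 hd.2))
  rw [eq_one_of_sq hS.odd_card hd hd2, mul_one]
  exact hq

theorem fix_unique {s : G} (hs : s ∈ stabilizer G a) (h1 : s ≠ 1) (h2 : s * s = 1) {c : Ω}
    (hc : s • c = c) : c = a :=
  by_contra fun h => h1 (semireg hS (invol_mem_Q hS hs h2) h hc)

theorem exists_fixed {u : G} (h2 : u * u = 1) : ∃ p : Ω, u • p = p := by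
  classical
  have := finite_omega hS
  have := Fintype.ofFinite Ω
  have hi : Function.Involutive (MulAction.toPerm u : Equiv.Perm Ω) := fun x => by
    simp [← mul_smul, h2]
  have hfix := Equiv.Perm.exists_fixed_point_of_prime (α := Ω) (p := 2) (n := 1) (σ := MulAction.toPerm u)
    (by rw [← Nat.card_eq_fintype_card]
        exact Nat.two_dvd_ne_zero.2 (Nat.odd_iff.1 (odd_omega hS)))
    (by ext x; simpa [pow_two] using hi x)
  obtain ⟨p, hp⟩ := hfix
  exact ⟨p, by simpa using hp⟩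

theorem conj_into {u : G} (h1 : u ≠ 1) (h2 : u * u = 1) :
    ∃ g : G, g * u * g⁻¹ ∈ Cfsg.involutionsIn (stabilizer G a : Set G) := by
  obtain ⟨p, hp⟩ := exists_fixed hS h2
  obtain ⟨g, hg⟩ := exists_smul hS (b := p) (c := a)
  refine ⟨g, ?_, fun h => h1 (conj_eq_one_iff.1 h), ?_⟩
  · show (g * u * g⁻¹) • a = a
    rw [mul_smul, mul_smul, inv_smul_eq_iff.2 hg.symm, hp, hg]
  · calc g * u * g⁻¹ * (g * u * g⁻¹) = g * (u * u) * g⁻¹ := by group
      _ = 1 := by rw [h2]; group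

theorem fix_unique' {u : G} (h1 : u ≠ 1) (h2 : u * u = 1) {c d : Ω} (hc : u • c = c)
    (hd : u • d = d) : c = d := by
  obtain ⟨g, hg, hg1, hg2⟩ := conj_into hS h1 h2
  have h := fun e : Ω => fun he : u • e = e => fix_unique hS hg hg1 hg2 (c := g • e)
    (by rw [mul_smul, mul_smul, inv_smul_smul, he])
  exact smul_left_cancel g ((h c hc).trans (h d hd).symm)

theorem odd_mul {s u : G} (hs : s ∈ stabilizer G a) (hs1 : s ≠ 1) (hs2 : s * s = 1)
    (hu : u ∉ stabilizer G a) (hu2 : u * u = 1) : Odd (orderOf (s * u)) := by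
  by_contra hodd
  obtain ⟨k, hk⟩ := Nat.not_odd_iff_even.1 hodd
  have hpos := orderOf_pos (s * u)
  set z := (s * u) ^ k with hz
  have hz2 : z * z = 1 := by rw [hz, ← pow_add, ← hk, pow_orderOf_eq_one]
  have hzinv : z⁻¹ = z := inv_eq_of_mul_eq_one_right hz2
  have hz1 : z ≠ 1 := fun h => by
    have := Nat.le_of_dvd (by omega) (orderOf_dvd_of_pow_eq_one h); omega
  have hcs : Commute s z := by
    have e : s * (s * u) * s⁻¹ = (s * u)⁻¹ := by
      rw [← mul_assoc, hs2, one_mul, mul_inv_rev, inv_eq_of_mul_eq_one_right hu2]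
    have e2 : s * z * s⁻¹ = z := by rw [hz, ← conj_pow, e, inv_pow, ← hz, hzinv]
    exact mul_inv_eq_iff_eq_mul.1 e2
  have hcz : Commute (s * u) z := (Commute.refl _).pow_right k
  have hcu : Commute u z := by
    have := hcs.mul_left hcz
    rwa [← mul_assoc, hs2, one_mul] at this
  have hza : z • a = a := fix_unique hS hs hs1 hs2 (by
    rw [← mul_smul, hcs.eq, mul_smul, mem_stabilizer_iff.1 hs])
  exact hu (mem_stabilizer_iff.2 (fix_unique' hS hz1 hz2 (by
    rw [← mul_smul, ← hcu.eq, mul_smul, hza]) hza))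

theorem conj_of_outside {s u : G} (hs : s ∈ stabilizer G a) (hs1 : s ≠ 1) (hs2 : s * s = 1)
    (hu : u ∉ stabilizer G a) (hu2 : u * u = 1) : ∃ g : G, g * s * g⁻¹ = u := by
  obtain ⟨k, hk⟩ := odd_mul hS hs hs1 hs2 hu hu2
  refine ⟨(s * u) ^ k, ?_⟩
  have hsi : s⁻¹ = s := inv_eq_of_mul_eq_one_right hs2
  have e : s * (s * u) * s⁻¹ = (s * u)⁻¹ := by
    rw [← mul_assoc, hs2, one_mul, mul_inv_rev, inv_eq_of_mul_eq_one_right hu2]
  have e3 : s * ((s * u) ^ k)⁻¹ = (s * u) ^ k * s := by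
    have e2 : s * ((s * u) ^ k)⁻¹ * s⁻¹ = (s * u) ^ k := by
      rw [← conj_inv, ← conj_pow, e, inv_pow, inv_inv]
    exact mul_inv_eq_iff_eq_mul.1 e2
  have e4 : (s * u) ^ k * (s * u) ^ k * ((s * u) * u) = u := by
    rw [← mul_assoc, ← pow_add, ← pow_succ, ← two_mul, ← hk, pow_orderOf_eq_one, one_mul]
  calc (s * u) ^ k * s * ((s * u) ^ k)⁻¹ = (s * u) ^ k * (s * u) ^ k * s := by
        rw [mul_assoc, e3, mul_assoc]
    _ = u := by rwa [mul_assoc s u u, hu2, mul_one] at e4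

theorem all_conj {u v : G} (hu1 : u ≠ 1) (hu2 : u * u = 1) (hv1 : v ≠ 1) (hv2 : v * v = 1) :
    ∃ g : G, g * u * g⁻¹ = v := by
  have h : ∀ w : G, w ≠ 1 → w * w = 1 → IsConj w t := fun w h1 h2 => by
    obtain ⟨g, hs, hs1, hs2⟩ := conj_into hS h1 h2
    obtain ⟨k, hk⟩ := conj_of_outside hS hs hs1 hs2 hS.not_mem hS.mul_self
    exact (isConj_iff.2 ⟨g, rfl⟩).trans (isConj_iff.2 ⟨k, hk⟩)
  exact isConj_iff.1 ((h u hu1 hu2).trans (h v hv1 hv2).symm)

theorem invol_in_Q : ∃ s, s ∈ Cfsg.involutionsIn (stabilizer G a : Set G) := by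
  obtain ⟨g, hg⟩ := conj_into hS hS.ne_one hS.mul_self
  exact ⟨_, hg⟩

theorem normalizer_le {X : Set G} (hX : X ⊆ (Q : Set G)) (h : ∃ x ∈ X, x ≠ 1) :
    Subgroup.normalizer X ≤ stabilizer G a := by
  obtain ⟨x, hx, hx1⟩ := h
  intro g hg
  rw [mem_stabilizer_iff]
  by_contra hga
  have hmem : g * x * g⁻¹ ∈ Q := hX ((hg x).1 hx)
  have := semireg hS hmem hga (by rw [mul_smul, mul_smul, inv_smul_smul, q_fix hS (hX hx)])
  exact hx1 (conj_eq_one_iff.1 this)

theorem normalizer_Q : Subgroup.normalizer (Q : Set G) = stabilizer G a := by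
  refine le_antisymm (normalizer_le hS le_rfl ?_) fun g hg => ?_
  · obtain ⟨s, hs, hs1, hs2⟩ := invol_in_Q hS
    exact ⟨s, invol_mem_Q hS hs hs2, hs1⟩
  · refine Subgroup.mem_normalizer_iff.2 fun x => ⟨fun hx => hS.conj_mem g hg x hx, fun hx => ?_⟩
    have := hS.conj_mem g⁻¹ (inv_mem hg) _ hx
    simpa [mul_assoc] using this

theorem normalizer_stab : Subgroup.normalizer (stabilizer G a : Set G) = stabilizer G a := by
  refine le_antisymm (fun g hg => mem_stabilizer_iff.2 ?_) Subgroup.le_normalizer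
  obtain ⟨s, hs, hs1, hs2⟩ := invol_in_Q hS
  refine fix_unique hS hs hs1 hs2 ?_
  have h : g⁻¹ * s * g ∈ stabilizer G a := by
    simpa using (Subgroup.mem_normalizer_iff.1 (inv_mem hg) s).1 hs
  have := mem_stabilizer_iff.1 h
  rwa [mul_smul, mul_smul, inv_smul_eq_iff] at this

theorem form_mem {x : G} (hx : x ∈ stabilizer G (t • a)) : t * x * t ∈ stabilizer G a := by
  rw [mem_stabilizer_iff, mul_smul, mul_smul, mem_stabilizer_iff.1 hx, t_smul_b hS]

theorem distinguished : ∃! p : G × G, p.1 ∈ Cfsg.involutionsIn (stabilizer G a : Set G) ∧ p.2 ∈ Q ∧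
    t * p.1 * t = p.2⁻¹ * t * p.2 := by
  obtain ⟨p0, hp0⟩ := exists_fixed hS hS.mul_self
  have hp0a : p0 ≠ a := fun h => b_ne hS (h ▸ hp0)
  obtain ⟨r, hr, hrb⟩ := exists_q hS hp0a
  have hfix : (r⁻¹ * t * r) ∈ stabilizer G (t • a) := by
    rw [mem_stabilizer_iff, mul_smul, mul_smul, hrb, hp0, inv_smul_eq_iff, hrb]
  refine ⟨(t * (r⁻¹ * t * r) * t, r), ⟨⟨form_mem hS hfix, fun (h : t * (r⁻¹ * t * r) * t = 1) => ?_, ?_⟩, hr, tt hS _⟩, ?_⟩
  · refine hS.ne_one (inv_conj_eq_one (x := r) ?_)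
    rw [← tt hS (r⁻¹ * t * r), h, mul_one, hS.mul_self]
  · calc t * (r⁻¹ * t * r) * t * (t * (r⁻¹ * t * r) * t)
        = t * (r⁻¹ * t * r) * (t * t) * (r⁻¹ * t * r) * t := by group
      _ = t * (r⁻¹ * (t * (1 * t)) * r) * t := by rw [hS.mul_self]; group
      _ = 1 := by rw [one_mul, hS.mul_self]; simp [hS.mul_self]
  rintro ⟨s, r'⟩ ⟨⟨hs, -, -⟩, hr', e⟩
  have h1 : t • (r' • (t • a)) = r' • (t • a) := by
    have h2 : (r'⁻¹ * t * r') • (t • a) = t • a := by
      rw [← e, mul_smul, mul_smul, t_smul_b hS, mem_stabilizer_iff.1 hs]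
    rwa [mul_smul, mul_smul, inv_smul_eq_iff] at h2
  have h3 : r' = r := q_unique hS hr' hr (by rw [hrb, fix_unique' hS hS.ne_one hS.mul_self h1 hp0])
  subst h3
  exact Prod.ext (by show s = _; rw [← e, tt hS]) rfl

theorem centralizer_distinguished {s r : G}
    (hs : s ∈ Cfsg.involutionsIn (stabilizer G a : Set G)) (hr : r ∈ Q)
    (e : t * s * t = r⁻¹ * t * r) {d : G} (hd : d ∈ stabilizer G a ⊓ stabilizer G (t • a)) :
    t * d = d * t ↔ s * d = d * s := by
  have hrb : ∀ {x : G}, x = r⁻¹ * t * r → t • (r • (t • a)) = r • (t • a) := fun {x} _ => by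
    have h2 : (r⁻¹ * t * r) • (t • a) = t • a := by
      rw [← e, mul_smul, mul_smul, t_smul_b hS, mem_stabilizer_iff.1 hs.1]
    rwa [mul_smul, mul_smul, inv_smul_eq_iff] at h2
  have hp := hrb rfl
  have hs' : s = t * (r⁻¹ * t * r) * t := by rw [← e, tt hS]
  have key : ∀ {d : G}, d ∈ stabilizer G a ⊓ stabilizer G (t • a) → t * d = d * t → Commute r d := by
    intro d hd h
    have h1 : d * r * d⁻¹ = r := by
      refine q_unique hS (hS.conj_mem d hd.1 r hr) hr ?_
      rw [mul_smul, mul_smul, mem_stabilizer_iff.1 (inv_mem hd.2)]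
      refine fix_unique' hS hS.ne_one hS.mul_self ?_ hp
      rw [← mul_smul, h, mul_smul, hp]
    exact (mul_inv_eq_iff_eq_mul.1 h1).symm
  constructor
  · intro h
    have hrd := key hd h
    have htd : Commute t d := h
    rw [hs']
    exact ((htd.mul_left ((hrd.inv_left.mul_left htd).mul_left hrd)).mul_left htd).eq
  · intro h
    have hd' := conj_D hS hd
    have hti := inv_t hS
    have h1 : Commute (r⁻¹ * t * r) (t * d * t) := by
      rw [← e]
      calc t * s * t * (t * d * t) = t * (s * (t * t) * d) * t := by group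
        _ = t * (d * (t * t) * s) * t := by rw [hS.mul_self, mul_one, mul_one, h]
        _ = t * d * t * (t * s * t) := by group
    set e' := r * (t * d * t) * r⁻¹ with he'
    have he1 : t * e' = e' * t := by
      calc t * e' = r * ((r⁻¹ * t * r) * (t * d * t)) * r⁻¹ := by rw [he']; group
        _ = _ := by rw [h1.eq, he']; group
    have hea : e' ∈ stabilizer G a := mul_mem (mul_mem (hS.le hr) hd'.1) (inv_mem (hS.le hr))
    have heb : e' ∈ stabilizer G (t • a) := by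
      rw [mem_stabilizer_iff, ← mul_smul, ← he1, mul_smul, mem_stabilizer_iff.1 hea]
    have hre := key ⟨hea, heb⟩ he1
    have h2 : e' = t * d * t := by
      calc e' = r⁻¹ * (e' * r) := by rw [← hre.eq]; group
        _ = t * d * t := by rw [he']; group
    have h3 : t * (t * d * t) = t * d * t * t := h2 ▸ he1
    rw [← mul_assoc, ← mul_assoc, hS.mul_self, one_mul, mul_assoc (t * d) t t, hS.mul_self,
      mul_one] at h3
    exact h3.symm

theorem swap_mem {u : G} (h : u • a = t • a) (h' : u • (t • a) = a) :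
    t * u ∈ stabilizer G a ⊓ stabilizer G (t • a) :=
  ⟨mem_stabilizer_iff.2 (by rw [mul_smul, h, t_smul_b hS]),
    mem_stabilizer_iff.2 (by rw [mul_smul, h'])⟩

theorem card_inverted : Nat.card (Cfsg.invertedBy (stabilizer G a ⊓ stabilizer G (t • a)) t) =
    Nat.card (Cfsg.involutionsIn (stabilizer G a : Set G)) := by
  -- `k ↦ t r⁻¹ (t k) r t`, `r ∈ Q` moving `b` to the fixed point of `t k`
  have hJ : ∀ k ∈ Cfsg.invertedBy (stabilizer G a ⊓ stabilizer G (t • a)) t,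
      (t * k) * (t * k) = 1 ∧ (t * k) ≠ 1 ∧ (t * k) • a = t • a := fun k ⟨hk, hki⟩ => by
    refine ⟨?_, fun h => ?_, by rw [mul_smul, mem_stabilizer_iff.1 hk.1]⟩
    · rw [inv_t hS] at hki
      rw [← mul_assoc, hki, inv_mul_cancel]
    · exact hS.not_mem (eq_inv_of_mul_eq_one_left h ▸ inv_mem hk.1)
  have hr : ∀ k : Cfsg.invertedBy (stabilizer G a ⊓ stabilizer G (t • a)) t, ∃ r ∈ Q,
      (t * (k : G)) • (r • (t • a)) = r • (t • a) := fun k => by
    obtain ⟨h2, h1, h3⟩ := hJ k k.2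
    obtain ⟨p, hp⟩ := exists_fixed hS h2
    obtain ⟨r, hr, e⟩ := exists_q hS (c := p) fun h => b_ne hS (by rw [h] at hp; rw [← h3, hp])
    exact ⟨r, hr, by rw [e, hp]⟩
  choose r hrQ hrb using hr
  let φ : Cfsg.invertedBy (stabilizer G a ⊓ stabilizer G (t • a)) t →
      Cfsg.involutionsIn (stabilizer G a : Set G) := fun k =>
    ⟨t * ((r k)⁻¹ * (t * (k : G)) * r k) * t, form_mem hS (by
      rw [mem_stabilizer_iff, mul_smul, mul_smul, hrb, inv_smul_smul]), fun h => by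
        obtain ⟨h2, h1, h3⟩ := hJ k k.2
        refine h1 (inv_conj_eq_one (x := r k) ?_)
        rw [← tt hS ((r k)⁻¹ * (t * (k : G)) * r k), h, mul_one, hS.mul_self], by
      obtain ⟨h2, h1, h3⟩ := hJ k k.2
      calc t * ((r k)⁻¹ * (t * (k : G)) * r k) * t * (t * ((r k)⁻¹ * (t * (k : G)) * r k) * t)
          = t * ((r k)⁻¹ * (t * (k : G)) * r k) * (t * t) * ((r k)⁻¹ * (t * (k : G)) * r k) * t := by
            group
        _ = t * ((r k)⁻¹ * ((t * (k : G)) * (t * (k : G))) * r k) * t := by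
            rw [hS.mul_self]; group
        _ = 1 := by rw [h2]; simp [hS.mul_self]⟩
  refine Nat.card_congr (Equiv.ofBijective φ ⟨fun k l h => ?_, fun s => ?_⟩)
  · obtain ⟨h2, h1, h3⟩ := hJ k k.2
    obtain ⟨l2, l1, l3⟩ := hJ l l.2
    have e : (r k)⁻¹ * (t * (k : G)) * r k = (r l)⁻¹ * (t * (l : G)) * r l := by
      rw [← tt hS ((r k)⁻¹ * (t * (k : G)) * r k), ← tt hS ((r l)⁻¹ * (t * (l : G)) * r l)]
      exact congrArg (fun x => t * x * t) (congrArg Subtype.val h)
    have er : r k = r l := by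
      have hk' : ((r k)⁻¹ * (t * (k : G)) * r k) • a = (r k)⁻¹ • (t • a) := by
        rw [mul_smul, mul_smul, q_fix hS (hrQ k), h3]
      have hl' : ((r l)⁻¹ * (t * (l : G)) * r l) • a = (r l)⁻¹ • (t • a) := by
        rw [mul_smul, mul_smul, q_fix hS (hrQ l), l3]
      exact inv_injective (q_unique hS (inv_mem (hrQ k)) (inv_mem (hrQ l))
        (by rw [← hk', ← hl', e]))
    rw [er] at e
    exact Subtype.ext (mul_left_cancel (mul_left_cancel (mul_right_cancel e)))
  · obtain ⟨s, hs, hs1, hs2⟩ := s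
    set v := t * s * t with hv
    have hvb : v • (t • a) = t • a := by
      rw [hv, mul_smul, mul_smul, t_smul_b hS, mem_stabilizer_iff.1 hs]
    have hv2 : v * v = 1 := by
      calc v * v = t * s * (t * t) * s * t := by rw [hv]; group
        _ = t * (s * s) * t := by rw [hS.mul_self]; group
        _ = 1 := by rw [hs2, mul_one, hS.mul_self]
    have hva : v • a ≠ a := fun h => hs1 (semireg hS (invol_mem_Q hS hs hs2) (b_ne hS) (by
      rw [hv, mul_smul, mul_smul] at h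
      nth_rewrite 2 [← h]
      rw [← mul_smul t t, hS.mul_self, one_smul]))
    obtain ⟨q, hq, hqe⟩ := exists_q hS hva
    have hua : (q⁻¹ * v * q) • a = t • a := by
      rw [mul_smul, mul_smul, q_fix hS hq, ← hqe, inv_smul_smul]
    have hu2 : (q⁻¹ * v * q) * (q⁻¹ * v * q) = 1 := by
      calc (q⁻¹ * v * q) * (q⁻¹ * v * q) = q⁻¹ * (v * v) * q := by group
        _ = 1 := by rw [hv2]; group
    have hub : (q⁻¹ * v * q) • (t • a) = a := by rw [← hua, ← mul_smul, hu2, one_smul]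
    have hk : t * (q⁻¹ * v * q) ∈ Cfsg.invertedBy (stabilizer G a ⊓ stabilizer G (t • a)) t := by
      refine ⟨swap_mem hS hua hub, ?_⟩
      rw [mul_inv_rev, inv_t hS, inv_eq_of_mul_eq_one_right hu2, ← mul_assoc t t, hS.mul_self,
        one_mul]
    refine ⟨⟨_, hk⟩, Subtype.ext ?_⟩
    show t * ((r ⟨_, hk⟩)⁻¹ * (t * (t * (q⁻¹ * v * q))) * r ⟨_, hk⟩) * t = s
    have e := hrb ⟨_, hk⟩
    dsimp only at e
    rw [← mul_assoc t t, hS.mul_self, one_mul] at e ⊢
    have hrq : r ⟨_, hk⟩ = q⁻¹ := by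
      refine q_unique hS (hrQ _) (inv_mem hq) ?_
      refine fix_unique' hS (u := q⁻¹ * v * q) (fun h => b_ne hS ?_) hu2 e ?_
      · rw [← hua, h, one_smul]
      · rw [← mul_smul, mul_inv_cancel_right, mul_smul, hvb]
    rw [hrq, hv]
    calc t * (q⁻¹⁻¹ * (q⁻¹ * (t * s * t) * q) * q⁻¹) * t = t * (t * s * t) * t := by group
      _ = s := tt hS s

theorem inverted_conj {d : G} (hd : d ∈ stabilizer G a ⊓ stabilizer G (t • a)) :
    ∃ y z : G, y ∈ stabilizer G a ⊓ stabilizer G (t • a) ∧ t * y = y * t ∧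
      z ∈ Cfsg.invertedBy (stabilizer G a ⊓ stabilizer G (t • a)) t ∧ d = y * z := by
  obtain ⟨y, z, hy, hyt, hz, hzt, e⟩ := split_exists hS.mul_self hS.odd_card
    (fun x hx => conj_D hS hx) hd
  exact ⟨y, z, hy, hyt, ⟨hz, by rw [inv_t hS]; exact hzt⟩, e⟩

theorem distinguished_orbit {s r : G} (hs : s ∈ Cfsg.involutionsIn (stabilizer G a : Set G))
    (hr : r ∈ Q) (e : t * s * t = r⁻¹ * t * r) :
    Function.Bijective (fun z : Cfsg.invertedBy (stabilizer G a ⊓ stabilizer G (t • a)) t =>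
      (⟨(z : G)⁻¹ * s * z, by
        refine ⟨mul_mem (mul_mem (inv_mem z.2.1.1) hs.1) z.2.1.1, fun h => hs.2.1 ?_, ?_⟩
        · exact inv_conj_eq_one h
        · calc (z : G)⁻¹ * s * z * ((z : G)⁻¹ * s * z) = (z : G)⁻¹ * (s * s) * z := by group
            _ = 1 := by rw [hs.2.2]; group⟩ : Cfsg.involutionsIn (stabilizer G a : Set G))) := by
  refine (Nat.bijective_iff_injective_and_card _).2 ⟨fun z w h => ?_, card_inverted hS⟩
  have h' : (z : G)⁻¹ * s * z = (w : G)⁻¹ * s * w := congrArg Subtype.val h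
  have hy : t * ((z : G) * (w : G)⁻¹) = (z : G) * (w : G)⁻¹ * t := by
    refine (centralizer_distinguished hS hs hr e (mul_mem z.2.1 (inv_mem w.2.1))).2 ?_
    calc s * ((z : G) * (w : G)⁻¹) = (z : G) * ((z : G)⁻¹ * s * z) * (w : G)⁻¹ := by group
      _ = (z : G) * (w : G)⁻¹ * s := by rw [h']; group
  have hz := z.2.2
  have hw := w.2.2
  rw [inv_t hS] at hz hw
  exact Subtype.ext (split_unique hS.mul_self hS.odd_card (y₁ := 1)
    (y₂ := (z : G) * (w : G)⁻¹) (by simp) hy z.2.1 w.2.1 hz hw (by group)).1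

end Cfsg.Agent.Lie.RankOne
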