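import Cfsg.Agent.Lib.Classical.UnitHeisenberg
import Cfsg.Agent.Lib.Classical.UnitOrders

/-!
The element orders of `PSU(3, q)`, `q` odd: the roots of the characteristic polynomial of a unitary matrix
are permuted by `x ↦ x ^ (-q)`.
-/

set_option autoImplicit false
set_option linter.unusedSectionVars false

namespace Cfsg.Agent.Lie.PSUThreeSpectrum

open Matrix Polynomial Cfsg.Agent.Classical

variable {F : Type*} [Field F] [Fintype F] {q : ℕ}

local notation "K" => AlgebraicClosure F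
local notation "em" => algebraMap F (AlgebraicClosure F)

/-- The roots of the characteristic polynomial. -/
noncomputable def eig (M : Matrix (Fin 3) (Fin 3) F) : Multiset (AlgebraicClosure F) :=
  (M.charpoly.map (algebraMap F (AlgebraicClosure F))).roots

theorem card_eig (M : Matrix (Fin 3) (Fin 3) F) : (eig M).card = 3 := by
  rw [eig, (IsAlgClosed.splits _).natDegree_eq_card_roots.symm,
    Polynomial.natDegree_map, Matrix.charpoly_natDegree_eq_dim, Fintype.card_fin]

theorem prod_eig (M : Matrix (Fin 3) (Fin 3) F) :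
    ((eig M).map fun a => X - C a).prod = M.charpoly.map em :=
  ((IsAlgClosed.splits _).eq_prod_roots_of_monic ((Matrix.charpoly_monic M).map _)).symm

theorem eig_prod {M : Matrix (Fin 3) (Fin 3) F} (hd : M.det = 1) : (eig M).prod = 1 := by
  have h := (M.map em).det_eq_prod_roots_charpoly
  rw [Matrix.charpoly_map] at h
  rw [eig, ← h, ← RingHom.mapMatrix_apply, ← RingHom.map_det, hd, map_one]

/-- Powers are scalar if the roots agree on them. -/
theorem pow_eq_scalar {M : Matrix (Fin 3) (Fin 3) F} {k : ℕ} {c : F} (hnd : (eig M).Nodup)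
    (h : ∀ r ∈ eig M, r ^ k = em c) (hk : 0 < k) : M ^ k = Matrix.scalar (Fin 3) c := by
  have hne : (X ^ k - C (em c)) ≠ 0 := X_pow_sub_C_ne_zero hk _
  have hdvd : M.charpoly.map em ∣ (X ^ k - C c).map em := by
    rw [← prod_eig, Polynomial.map_sub, Polynomial.map_pow, map_X, map_C,
      Multiset.prod_X_sub_C_dvd_iff_le_roots hne, Multiset.le_iff_subset hnd]
    intro r hr
    rw [mem_roots hne]
    simp [h r hr]
  obtain ⟨g, hg⟩ := (map_dvd_map' em).1 hdvd
  have := congrArg (aeval M) hg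
  rw [map_mul, Matrix.aeval_self_charpoly, zero_mul, map_sub, map_pow, aeval_X, aeval_C, sub_eq_zero] at this
  exact this

/-- With multiplicities the exponent gains a factor `p`. -/
theorem pow_eq_scalar_char {p : ℕ} [Fact p.Prime] [CharP F p] (hp : p ≠ 2) {M : Matrix (Fin 3) (Fin 3) F}
    {k : ℕ} {c : F} (h : ∀ r ∈ eig M, r ^ k = em c) : M ^ (k * p) = Matrix.scalar (Fin 3) (c ^ p) := by
  have h3 : 3 ≤ p := by have := (Fact.out : p.Prime).two_le; omega
  have key : ∀ R : Multiset (AlgebraicClosure F), (∀ r ∈ R, r ^ k = em c) →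
      (R.map fun a => X - C a).prod ∣ (X ^ k - C (em c)) ^ R.card := by
    intro R
    induction R using Multiset.induction with
    | empty => simp
    | cons a R ih =>
      intro hR
      rw [Multiset.map_cons, Multiset.prod_cons, Multiset.card_cons, pow_succ']
      refine mul_dvd_mul ?_ (ih fun r hr => hR r (Multiset.mem_cons_of_mem hr))
      rw [dvd_iff_isRoot]
      simp [hR a (Multiset.mem_cons_self a R)]
  have hdvd : M.charpoly.map em ∣ ((X ^ k - C c) ^ p).map em := by
    rw [← prod_eig, Polynomial.map_pow, Polynomial.map_sub, Polynomial.map_pow, map_X, map_C]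
    exact (key _ h).trans (pow_dvd_pow _ (by rw [card_eig]; exact h3))
  obtain ⟨g, hg⟩ := (map_dvd_map' em).1 hdvd
  rw [sub_pow_char] at hg
  have := congrArg (aeval M) hg
  rw [map_mul, Matrix.aeval_self_charpoly, zero_mul, map_sub, map_pow, map_pow, aeval_X, map_pow, aeval_C,
    sub_eq_zero, ← pow_mul] at this
  rw [this, ← map_pow]
  rfl

theorem eig_inv (hF : Fintype.card F = q ^ 2) {M : Matrix (Fin 3) (Fin 3) F}
    (hM : Mᵀ * M.map (qFrob hF) = 1) (φ : AlgebraicClosure F →+* AlgebraicClosure F) (hφ : ∀ x, φ x = x ^ q)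
    {r : AlgebraicClosure F} (hr : r ∈ eig M) : (r ^ q)⁻¹ ∈ eig M ∧ r ≠ 0 := by
  classical
  set M' := M.map em
  have hM' : M'ᵀ * M'.map φ = 1 := by
    have h := congrArg (fun A : Matrix (Fin 3) (Fin 3) F => A.map em) hM
    simp only [Matrix.map_mul, Matrix.map_one _ (map_zero em) (map_one em)] at h
    rw [← h]
    congr 1
    ext i j
    simp [M', hφ, qFrob_apply]
  have hne : M.charpoly.map em ≠ 0 := ((Matrix.charpoly_monic M).map _).ne_zero
  rw [eig, mem_roots hne, IsRoot, ← Matrix.charpoly_map, Matrix.eval_charpoly] at hr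
  obtain ⟨v, hv0, hv⟩ := Matrix.exists_mulVec_eq_zero_iff.2 hr
  rw [Matrix.sub_mulVec, sub_eq_zero, Matrix.scalar_apply, ← Matrix.smul_one_eq_diagonal, Matrix.smul_mulVec,
    Matrix.one_mulVec] at hv
  have h1 : M'.map φ *ᵥ (fun i => φ (v i)) = φ r • fun i => φ (v i) := by
    funext i
    have := congrArg φ (congrFun hv i)
    rw [RingHom.map_mulVec] at this
    exact this.symm.trans (map_mul φ r (v i))
  have h2 : φ r • (M'ᵀ *ᵥ fun i => φ (v i)) = fun i => φ (v i) := by
    rw [← Matrix.mulVec_smul, ← h1, Matrix.mulVec_mulVec, hM', Matrix.one_mulVec]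
  have hv1 : (fun i => φ (v i)) ≠ 0 := fun h => hv0 (funext fun i => φ.injective (by
    simpa using congrFun h i))
  have hr0 : φ r ≠ 0 := fun h => hv1 (by rw [← h2, h, zero_smul])
  refine ⟨?_, fun h => hr0 (by rw [h, map_zero])⟩
  rw [eig, mem_roots hne, IsRoot, ← Matrix.charpoly_map, ← Matrix.charpoly_transpose, Matrix.eval_charpoly,
    ← Matrix.exists_mulVec_eq_zero_iff]
  refine ⟨_, hv1, ?_⟩
  rw [Matrix.sub_mulVec, sub_eq_zero, Matrix.scalar_apply, ← Matrix.smul_one_eq_diagonal, Matrix.smul_mulVec,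
    Matrix.one_mulVec, ← hφ]
  conv_lhs => rw [← h2, smul_smul, inv_mul_cancel₀ hr0, one_smul]

theorem eig_pow (φ : AlgebraicClosure F →+* AlgebraicClosure F) (hφ : ∀ c : F, φ (em c) = em c)
    {M : Matrix (Fin 3) (Fin 3) F} {r : AlgebraicClosure F} (hr : r ∈ eig M) : φ r ∈ eig M := by
  have hne : M.charpoly.map em ≠ 0 := ((Matrix.charpoly_monic M).map _).ne_zero
  rw [eig, mem_roots hne, IsRoot, eval_map] at hr ⊢
  have h := congrArg φ hr
  rw [hom_eval₂, map_zero, show φ.comp em = em from RingHom.ext hφ] at h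
  exact h

theorem mem_range_of_pow (hF : Fintype.card F = q ^ 2) {x : AlgebraicClosure F} (hx : x ^ q ^ 2 = x) :
    x ∈ Set.range em := by
  classical
  by_contra hn
  have hne : (X ^ q ^ 2 - X : (AlgebraicClosure F)[X]) ≠ 0 :=
    FiniteField.X_pow_card_sub_X_ne_zero _ (hF ▸ Fintype.one_lt_card)
  have hsub : insert x (Finset.univ.image em) ⊆ (X ^ q ^ 2 - X : (AlgebraicClosure F)[X]).roots.toFinset := by
    intro y hy
    rw [Multiset.mem_toFinset, mem_roots hne, IsRoot, eval_sub, eval_pow, eval_X, sub_eq_zero]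
    rcases Finset.mem_insert.1 hy with rfl | hy
    · exact hx
    · obtain ⟨c, -, rfl⟩ := Finset.mem_image.1 hy
      rw [← map_pow, ← hF, FiniteField.pow_card]
  have h := (Finset.card_le_card hsub).trans ((Multiset.toFinset_card_le _).trans (card_roots' _))
  rw [Finset.card_insert_of_notMem (by simpa using hn), Finset.card_image_of_injective _ (algebraMap F (AlgebraicClosure F)).injective,
    Finset.card_univ, hF, FiniteField.X_pow_card_sub_X_natDegree_eq _ (hF ▸ Fintype.one_lt_card)] at h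
  omega

theorem eq_cons_cons {R : Multiset (AlgebraicClosure F)} (hc : R.card = 3) {a b : AlgebraicClosure F}
    (ha : a ∈ R) (hb : b ∈ R) (hab : a ≠ b) : ∃ c, R = {a, b, c} := by
  classical
  have hb' : b ∈ R.erase a := (Multiset.mem_erase_of_ne (Ne.symm hab)).2 hb
  obtain ⟨c, hc'⟩ : ∃ c, (R.erase a).erase b = {c} := Multiset.card_eq_one.1 (by
    rw [Multiset.card_erase_of_mem hb', Multiset.card_erase_of_mem ha, hc]; rfl)
  refine ⟨c, ?_⟩
  rw [← Multiset.cons_erase ha, ← Multiset.cons_erase hb', hc']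
  rfl

theorem dvd_three_mul_div (N : ℕ) {d : ℕ} (hd : d ∣ N) (h3 : d ∣ 3) : N ∣ 3 * (N / d) := by
  obtain ⟨e, he⟩ := h3
  obtain ⟨f, rfl⟩ := hd
  rcases Nat.eq_zero_or_pos d with rfl | hdp
  · simp
  · rw [Nat.mul_div_cancel_left f hdp, he]
    exact ⟨e, by ring⟩

/-- Every element of `SU₃(q)` has a scalar power of one of the four exponents. -/
theorem exists_scalar_pow (hF : Fintype.card F = q ^ 2) {p : ℕ} [Fact p.Prime] [CharP F p] (hp : p ≠ 2)
    {M : Matrix (Fin 3) (Fin 3) F} (hM : Mᵀ * M.map (qFrob hF) = 1) (hdet : M.det = 1) :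
    ∃ k, (k = q + 1 ∨ k = p * (q + 1) / Nat.gcd 3 (q + 1) ∨ k = (q ^ 2 - 1) / Nat.gcd 3 (q + 1) ∨
      k = (q ^ 2 - q + 1) / Nat.gcd 3 (q + 1)) ∧ ∃ c : F, M ^ k = Matrix.scalar (Fin 3) c := by
  classical
  obtain ⟨a, ha⟩ : ∃ a, q = p ^ a := by
    obtain ⟨m, -, hm⟩ := FiniteField.card F p
    rw [hF] at hm
    obtain ⟨a, -, ha⟩ := (Nat.dvd_prime_pow (Fact.out : p.Prime)).1 ((dvd_pow_self q two_ne_zero).trans hm.dvd)
    exact ⟨a, ha⟩
  have hq2 := two_le_q hF
  haveI : CharP (AlgebraicClosure F) p := charP_of_injective_algebraMap (algebraMap F (AlgebraicClosure F)).injective p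
  let φ : AlgebraicClosure F →+* AlgebraicClosure F := iterateFrobenius _ p a
  have hφ : ∀ x, φ x = x ^ q := fun x => by rw [ha]; exact iterateFrobenius_def p a x
  let ψ : AlgebraicClosure F →+* AlgebraicClosure F := φ.comp φ
  have hψ : ∀ x, ψ x = x ^ q ^ 2 := fun x => by
    show φ (φ x) = _
    rw [hφ, hφ, ← pow_mul, sq]
  have hψc : ∀ c : F, ψ (em c) = em c := fun c => by rw [hψ, ← map_pow, ← hF, FiniteField.pow_card]
  have hσ : ∀ r ∈ eig M, (r ^ q)⁻¹ ∈ eig M := fun r hr => (eig_inv hF hM φ hφ hr).1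
  have h0 : ∀ r ∈ eig M, r ≠ 0 := fun r hr => (eig_inv hF hM φ hφ hr).2
  have hfix : ∀ r : AlgebraicClosure F, (r ^ q)⁻¹ = r → r ≠ 0 → r ^ (q + 1) = 1 := fun r hr hr0 => by
    have h' : (r ^ q)⁻¹ * r ^ q = r * r ^ q := by rw [hr]
    rw [inv_mul_cancel₀ (pow_ne_zero _ hr0)] at h'
    rw [pow_succ', ← h']
  have hσσ : ∀ r : AlgebraicClosure F, ((r ^ q)⁻¹ ^ q)⁻¹ = r ^ q ^ 2 := fun r => by
    rw [inv_pow, inv_inv, ← pow_mul, sq]
  have hprod := eig_prod hdet
  have hcard := card_eig M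
  set d := Nat.gcd 3 (q + 1) with hd
  have hd3 : d ∣ 3 := Nat.gcd_dvd_left _ _
  have hdq : d ∣ q + 1 := Nat.gcd_dvd_right _ _
  have hdpos : 0 < d := Nat.gcd_pos_of_pos_left _ (by norm_num)
  have hkk : q + 1 ∣ 3 * ((q + 1) / d) := dvd_three_mul_div _ hdq hd3
  have hscal : ∀ r : AlgebraicClosure F, r ^ q ^ 2 = r → ∀ k : ℕ, ∃ c : F, em c = r ^ k := by
    intro r hr k
    obtain ⟨c, rfl⟩ := mem_range_of_pow hF hr
    exact ⟨c ^ k, map_pow _ _ _⟩
  by_cases hall : ∀ r ∈ eig M, r ^ q ^ 2 = r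
  · -- all roots in the field
    by_cases hnd : (eig M).Nodup
    · by_cases hfixall : ∀ r ∈ eig M, (r ^ q)⁻¹ = r
      · refine ⟨q + 1, Or.inl rfl, 1, pow_eq_scalar hnd (fun r hr => ?_) (by omega)⟩
        rw [map_one]
        exact hfix r (hfixall r hr) (h0 r hr)
      · push Not at hfixall
        obtain ⟨r, hr, hne⟩ := hfixall
        obtain ⟨t, hR⟩ := eq_cons_cons hcard hr (hσ r hr) (Ne.symm hne)
        have hr0 := h0 r hr
        have hr1 : r ^ (q ^ 2 - 1) = 1 := by
          refine mul_left_cancel₀ hr0 ?_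
          rw [mul_one, ← pow_succ', Nat.sub_add_cancel (by nlinarith), hall r hr]
        obtain ⟨s, hs⟩ : ∃ s, q ^ 2 - 1 = (q + 1) * s := ⟨q - 1, by
          obtain ⟨e, rfl⟩ : ∃ e, q = e + 1 := ⟨q - 1, by omega⟩
          rw [Nat.add_sub_cancel, show (e + 1) ^ 2 = (e + 1 + 1) * e + 1 by ring, Nat.add_sub_cancel]⟩
        set k := (q ^ 2 - 1) / d with hk
        have hks : k = (q + 1) / d * s := by rw [hk, hs, Nat.mul_comm, Nat.mul_div_assoc _ hdq, Nat.mul_comm]
        have hk3 : q ^ 2 - 1 ∣ 3 * k := dvd_three_mul_div _ (hdq.trans ⟨s, hs⟩) hd3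
        have hkq : q ^ 2 - 1 ∣ k * (q + 1) := by
          rw [hk, Nat.mul_comm, ← Nat.mul_div_assoc _ (hdq.trans ⟨s, hs⟩), Nat.mul_comm,
            Nat.mul_div_assoc _ hdq]
          exact dvd_mul_right _ _
        obtain ⟨c, hc⟩ := hscal r (hall r hr) k
        refine ⟨k, Or.inr (Or.inr (Or.inl rfl)), c, pow_eq_scalar hnd (fun x hx => ?_)
          (Nat.div_pos (Nat.le_of_dvd (Nat.sub_pos_of_lt (Nat.one_lt_pow two_ne_zero (by omega))) (hdq.trans ⟨s, hs⟩)) hdpos)⟩
        rw [hc]
        have hone : ∀ {N : ℕ}, q ^ 2 - 1 ∣ N → r ^ N = 1 := fun {N} hN =>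
          orderOf_dvd_iff_pow_eq_one.1 ((orderOf_dvd_of_pow_eq_one hr1).trans hN)
        rw [hR] at hx
        simp only [Multiset.insert_eq_cons, Multiset.mem_cons, Multiset.mem_singleton] at hx
        rcases hx with rfl | rfl | rfl
        · rfl
        · rw [inv_pow]
          refine inv_eq_of_mul_eq_one_right ?_
          rw [← pow_mul, ← pow_add]
          exact hone (by rw [show q * k + k = k * (q + 1) by ring]; exact hkq)
        · rw [hR] at hprod
          simp only [Multiset.insert_eq_cons, Multiset.prod_cons, Multiset.prod_singleton] at hprod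
          have hxr : x * r = r ^ q := by
            field_simp at hprod
            linear_combination hprod
          have h1 : x ^ k * r ^ k = (r ^ k) ^ q := by rw [← mul_pow, hxr, ← pow_mul, ← pow_mul, mul_comm]
          refine mul_right_cancel₀ (pow_ne_zero k hr0) (h1.trans ?_)
          rw [← pow_mul, ← pow_add]
          have hdd : q ^ 2 - 1 ∣ k * (q + 1) := hkq
          calc r ^ (k * q) = r ^ (k * q) * r ^ (3 * k) := by rw [hone hk3, mul_one]
            _ = r ^ (k * (q + 1)) * r ^ (k + k) := by rw [← pow_add, ← pow_add]; ring_nf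
            _ = r ^ (k + k) := by rw [hone hdd, one_mul]
    · -- a repeated root
      obtain ⟨l, hl⟩ : ∃ l, 1 < (eig M).count l := by
        rw [Multiset.nodup_iff_count_le_one] at hnd
        push Not at hnd
        exact hnd
      have hlm : l ∈ eig M := Multiset.count_pos.1 (by omega)
      have hl' : l ∈ (eig M).erase l := Multiset.count_pos.1 (by rw [Multiset.count_erase_self]; omega)
      obtain ⟨m, hm⟩ : ∃ m, ((eig M).erase l).erase l = {m} := Multiset.card_eq_one.1 (by
        rw [Multiset.card_erase_of_mem hl', Multiset.card_erase_of_mem hlm, hcard]; rfl)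
      have hR : eig M = {l, l, m} := by
        rw [← Multiset.cons_erase hlm, ← Multiset.cons_erase hl', hm]; rfl
      rw [hR] at hprod
      simp only [Multiset.insert_eq_cons, Multiset.prod_cons, Multiset.prod_singleton] at hprod
      have hl0 := h0 l hlm
      have hσl : (l ^ q)⁻¹ = l := by
        have h := hσ l hlm
        rw [hR] at h
        simp only [Multiset.insert_eq_cons, Multiset.mem_cons, Multiset.mem_singleton, or_self_left] at h
        rcases h with h | h
        · exact h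
        · -- then `l ^ q = l ^ 2`, so `l ^ 3 = 1` and `m = l`
          have hlq : l ^ q = l ^ 2 := by
            rw [← h] at hprod
            field_simp at hprod
            linear_combination -hprod
          have h4 : l ^ 4 = l := by
            conv_rhs => rw [← hall l hlm, sq, pow_mul, hlq, ← pow_mul, mul_comm, pow_mul, hlq]
            ring
          have h3 : l ^ 3 = 1 := mul_left_cancel₀ hl0 (by rw [mul_one]; linear_combination h4)
          have : m = l := by
            refine mul_left_cancel₀ (mul_ne_zero hl0 hl0) ?_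
            linear_combination hprod - h3
          rw [h, this]
      have hlq1 : l ^ (q + 1) = 1 := hfix l hσl hl0
      obtain ⟨c, hc⟩ := hscal l (hall l hlm) ((q + 1) / d)
      refine ⟨(q + 1) / d * p, Or.inr (Or.inl ?_), c ^ p, pow_eq_scalar_char hp fun x hx => ?_⟩
      · rw [Nat.mul_div_assoc _ hdq, Nat.mul_comm]
      · rw [hc]
        rw [hR] at hx
        simp only [Multiset.insert_eq_cons, Multiset.mem_cons, Multiset.mem_singleton, or_self_left] at hx
        rcases hx with rfl | rfl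
        · rfl
        · refine mul_left_cancel₀ (pow_ne_zero ((q + 1) / d) (mul_ne_zero hl0 hl0)) ?_
          rw [← mul_pow, show l * l * x = 1 by linear_combination hprod, one_pow, ← mul_pow,
            show l * l * l = l ^ 3 by ring, ← pow_mul]
          exact (orderOf_dvd_iff_pow_eq_one.1 ((orderOf_dvd_of_pow_eq_one hlq1).trans hkk)).symm
  · -- a root outside the field
    push Not at hall
    obtain ⟨r, hr, hne⟩ := hall
    have hr0 := h0 r hr
    have hψr : ψ r ∈ eig M := eig_pow ψ hψc hr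
    have hψψ : ψ (ψ r) ∈ eig M := eig_pow ψ hψc hψr
    rw [hψ] at hψr
    rw [hψ, hψ] at hψψ
    have hinj : ∀ x y : AlgebraicClosure F, x ^ q ^ 2 = y ^ q ^ 2 → x = y := fun x y h =>
      ψ.injective (by rw [hψ, hψ, h])
    have hinjq : ∀ x y : AlgebraicClosure F, x ^ q = y ^ q → x = y := fun x y h =>
      φ.injective (by rw [hφ, hφ, h])
    have hq1 : r ^ (q + 1) ≠ 1 := fun h => hne (by
      obtain ⟨e, rfl⟩ : ∃ e, q = e + 1 := ⟨q - 1, by omega⟩
      rw [show (e + 1) ^ 2 = (e + 1 + 1) * e + 1 by ring, pow_succ, pow_mul, h, one_pow, one_mul])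
    -- the image of `r` is neither `r` nor its conjugate
    have hσ1 : (r ^ q)⁻¹ ≠ r := fun h => hq1 (hfix r h hr0)
    have hσ2 : (r ^ q)⁻¹ ≠ r ^ q ^ 2 := fun h => hq1 (by
      refine hinjq _ _ ?_
      have h' : (r ^ q)⁻¹ * r ^ q = r ^ q ^ 2 * r ^ q := by rw [h]
      rw [inv_mul_cancel₀ (pow_ne_zero _ hr0), ← pow_add] at h'
      rw [one_pow, ← pow_mul, h']
      ring_nf)
    obtain ⟨t, hR⟩ := eq_cons_cons hcard hr hψr (Ne.symm hne)
    by_cases h4 : (r ^ q ^ 2) ^ q ^ 2 = r
    · -- impossible: the third root would be in the field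
      exfalso
      have h := hσ r hr
      rw [hR] at h hprod
      simp only [Multiset.insert_eq_cons, Multiset.mem_cons, Multiset.mem_singleton] at h
      simp only [Multiset.insert_eq_cons, Multiset.prod_cons, Multiset.prod_singleton] at hprod
      have ht : t ^ q ^ 2 = t := by
        have h1 := congrArg (· ^ q ^ 2) hprod
        simp only [mul_pow, one_pow, h4] at h1
        refine mul_left_cancel₀ (mul_ne_zero hr0 (pow_ne_zero (q ^ 2) hr0)) ?_
        linear_combination h1 - hprod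
      rcases h with h | h | h
      · exact hσ1 h
      · exact hσ2 h
      · refine hne (hinjq _ _ (inv_injective ?_))
        rw [← pow_mul, mul_comm, pow_mul, ← inv_pow, h, ht]
    · have h4' : (r ^ q ^ 2) ^ q ^ 2 ≠ r ^ q ^ 2 := fun h => hne (hinj _ _ h)
      have ht : t = (r ^ q ^ 2) ^ q ^ 2 := by
        rw [hR] at hψψ
        simp only [Multiset.insert_eq_cons, Multiset.mem_cons, Multiset.mem_singleton] at hψψ
        rcases hψψ with h | h | h
        · exact absurd h h4
        · exact absurd h h4'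
        · exact h.symm
      have hnd : (eig M).Nodup := by
        rw [hR, ht]
        simp [Multiset.insert_eq_cons, Ne.symm hne, Ne.symm h4, Ne.symm h4']
      have h3 : r ^ (q ^ 3 + 1) = 1 := by
        have h := hσ r hr
        rw [hR, ht] at h
        simp only [Multiset.insert_eq_cons, Multiset.mem_cons, Multiset.mem_singleton] at h
        rcases h with h | h | h
        · exact absurd h hσ1
        · exact absurd h hσ2
        · refine hinjq _ _ ?_
          have h' : (r ^ q)⁻¹ * r ^ q = (r ^ q ^ 2) ^ q ^ 2 * r ^ q := by rw [h]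
          rw [inv_mul_cancel₀ (pow_ne_zero _ hr0), ← pow_mul, ← pow_add] at h'
          rw [one_pow, ← pow_mul, h']
          ring_nf
      have hP : r ^ (q ^ 4 + q ^ 2 + 1) = 1 := by
        rw [hR, ht] at hprod
        simp only [Multiset.insert_eq_cons, Multiset.prod_cons, Multiset.prod_singleton, ← pow_mul,
          ← pow_add, ← pow_succ'] at hprod
        rw [← hprod]
        congr 1
        ring
      obtain ⟨e, rfl⟩ : ∃ e, q = e + 1 := ⟨q - 1, by omega⟩
      set A := e * e + e + 1 with hA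
      have hAe : (e + 1) ^ 2 - (e + 1) + 1 = A := by
        rw [show (e + 1) ^ 2 = (e * e + e) + (e + 1) by ring, Nat.add_sub_cancel]
      have hrA : r ^ A = 1 := by
        refine orderOf_dvd_iff_pow_eq_one.1 ((Nat.dvd_gcd (orderOf_dvd_of_pow_eq_one h3)
          (orderOf_dvd_of_pow_eq_one hP)).trans ?_)
        rw [show (e + 1) ^ 3 + 1 = A * (e + 1 + 1) by rw [hA]; ring,
          show (e + 1) ^ 4 + (e + 1) ^ 2 + 1 = A * (1 + (e + 1) * (e + 1 + 1)) by rw [hA]; ring,
          Nat.gcd_mul_left, Nat.gcd_add_mul_right_right, Nat.gcd_one_right, mul_one]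
      have hdA : d ∣ A := by
        rcases (Nat.dvd_prime Nat.prime_three).1 hd3 with h | h
        · rw [h]; exact one_dvd _
        · rw [h] at hdq ⊢
          rw [hA, Nat.dvd_iff_mod_eq_zero, Nat.add_mod, Nat.add_mod (e * e), Nat.mul_mod,
            show e % 3 = 1 by omega]
      set k := A / d with hk
      have hk3 : (r ^ k) ^ d = 1 := by rw [← pow_mul, hk, Nat.div_mul_cancel hdA, hrA]
      have hrk : (r ^ k) ^ (e + 1) ^ 2 = r ^ k := by
        have hdd : d ∣ (e + 1) ^ 2 - 1 := hdq.trans ⟨e, by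
          rw [show (e + 1) ^ 2 = (e + 1 + 1) * e + 1 by ring, Nat.add_sub_cancel]⟩
        obtain ⟨f, hf⟩ := hdd
        rw [show (e + 1) ^ 2 = d * f + 1 by have : 1 ≤ (e + 1) ^ 2 := Nat.one_le_pow _ _ (by omega); omega,
          pow_succ, pow_mul, hk3, one_pow, one_mul]
      obtain ⟨c, hc⟩ := mem_range_of_pow hF hrk
      refine ⟨k, Or.inr (Or.inr (Or.inr (by rw [hAe]))), c, pow_eq_scalar hnd (fun x hx => ?_)
        (Nat.div_pos (Nat.le_of_dvd (by omega) hdA) hdpos)⟩
      rw [hc]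
      rw [hR, ht] at hx
      simp only [Multiset.insert_eq_cons, Multiset.mem_cons, Multiset.mem_singleton] at hx
      have hsw : (r ^ (e + 1) ^ 2) ^ k = r ^ k := by rw [← pow_mul, mul_comm, pow_mul, hrk]
      rcases hx with rfl | rfl | rfl
      · rfl
      · exact hsw
      · rw [← pow_mul, mul_comm, pow_mul, hsw, hrk]

/-- A `2 × 2` matrix and a number as a block matrix. -/
def blk : Matrix (Fin 2) (Fin 2) F × F →* Matrix (Fin 3) (Fin 3) F where
  toFun x := !![x.1 0 0, x.1 0 1, 0; x.1 1 0, x.1 1 1, 0; 0, 0, x.2]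
  map_one' := by
    ext i j; fin_cases i <;> fin_cases j <;> simp
  map_mul' x y := by
    ext i j; fin_cases i <;> fin_cases j <;> simp [Matrix.mul_apply, Fin.sum_univ_succ]

theorem blk_unitary (hF : Fintype.card F = q ^ 2) {A : Matrix (Fin 2) (Fin 2) F} {b : F}
    (hA : Aᵀ * A.map (qFrob hF) = 1) (hb : b * b ^ q = 1) :
    (blk (A, b))ᵀ * (blk (A, b)).map (qFrob hF) = 1 := by
  have h1 : (blk (A, b))ᵀ = blk (Aᵀ, b) := by
    ext i j; fin_cases i <;> fin_cases j <;> simp [blk]
  have h2 : (blk (A, b)).map (qFrob hF) = blk (A.map (qFrob hF), qFrob hF b) := by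
    ext i j; fin_cases i <;> fin_cases j <;> simp [blk]
  rw [h1, h2, ← map_mul, Prod.mk_mul_mk, hA, qFrob_apply, hb]
  exact map_one blk

theorem blk_det (A : Matrix (Fin 2) (Fin 2) F) (b : F) : (blk (A, b)).det = A.det * b := by
  simp [blk, Matrix.det_fin_three, Matrix.det_fin_two]
  ring

theorem blk_eq_scalar {A : Matrix (Fin 2) (Fin 2) F} {b c : F}
    (h : blk (A, b) = Matrix.scalar (Fin 3) c) : A = Matrix.scalar (Fin 2) c ∧ b = c := by
  have e : ∀ i j, blk (A, b) i j = Matrix.scalar (Fin 3) c i j := fun i j => by rw [h]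
  refine ⟨?_, by simpa [blk] using e 2 2⟩
  ext i j
  fin_cases i <;> fin_cases j <;> simp
  · simpa [blk] using e 0 0
  · simpa [blk] using e 0 1
  · simpa [blk] using e 1 0
  · simpa [blk] using e 1 1

theorem exists_q_add_one (hF : Fintype.card F = q ^ 2) : ∃ y : PSU 3 F q, q + 1 ∣ orderOf y := by
  classical
  obtain ⟨u, hu⟩ := IsCyclic.exists_ofOrder_eq_natCard (α := Fˣ)
  rw [Nat.card_units, Nat.card_eq_fintype_card, hF] at hu
  obtain ⟨e, rfl⟩ : ∃ e, q = e + 1 := ⟨q - 1, by have := two_le_q hF; omega⟩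
  have he : 1 ≤ e := by have := two_le_q hF; omega
  have hz : orderOf ((u : F) ^ e) = e + 1 + 1 := by
    rw [orderOf_pow' _ (by omega), orderOf_units, hu,
      show (e + 1) ^ 2 = e * (e + 1 + 1) + 1 by ring, Nat.add_sub_cancel, Nat.gcd_eq_right (dvd_mul_right _ _),
      Nat.mul_div_cancel_left _ he]
  set z := (u : F) ^ e
  have hz0 : z ≠ 0 := pow_ne_zero _ u.ne_zero
  have hz1 : z * z ^ (e + 1) = 1 := by rw [← pow_succ', ← hz, pow_orderOf_eq_one]
  let D : Fin 2 → F := ![z, z⁻¹]
  have hD : (Matrix.diagonal D)ᵀ * (Matrix.diagonal D).map (qFrob hF) = 1 :=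
    transpose_mul_diagonal hF fun l => by
      rw [pow_succ']
      fin_cases l <;> simp [D, ← mul_inv, hz1, inv_pow]
  let s : SU 3 F (e + 1) := suMk hF (blk (Matrix.diagonal D, 1))
    (by rw [blk_det, Matrix.det_diagonal]; simp [D, hz0]) (blk_unitary hF hD (by simp))
  refine ⟨suToPSU 3 F _ s, ?_⟩
  obtain ⟨c, hc⟩ := (suToPSU_pow_eq_one_iff hF s _).1 (pow_orderOf_eq_one (suToPSU 3 F _ s))
  rw [suVal_suMk, ← map_pow, Prod.pow_mk, one_pow] at hc
  obtain ⟨hA, rfl⟩ := blk_eq_scalar hc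
  rw [← hz]
  refine orderOf_dvd_of_pow_eq_one ?_
  have := congrFun₂ hA 0 0
  simpa [Matrix.diagonal_pow, D] using this

theorem exists_q_sq (hF : Fintype.card F = q ^ 2) {p a : ℕ} [Fact p.Prime] [CharP F p] (hq : q = p ^ a) :
    ∃ y : PSU 3 F q, (q ^ 2 - 1) / Nat.gcd 3 (q + 1) ∣ orderOf y := by
  classical
  obtain ⟨A, hA, hord⟩ := exists_unitary_torus hF hq (n := 2) (by norm_num)
  rw [unitaryTorus, if_pos even_two] at hord
  have hd : A.det * A.det ^ q = 1 := det_unitary hF fun u v => preserves_of_transpose_mul hF hA u v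
  have hd0 : A.det ≠ 0 := fun h => zero_ne_one (by rw [← hd, h, zero_mul])
  let s : SU 3 F q := suMk hF (blk (A, A.det⁻¹)) (by rw [blk_det, mul_inv_cancel₀ hd0])
    (blk_unitary hF hA (by rw [inv_pow, ← mul_inv, hd, inv_one]))
  refine ⟨suToPSU 3 F q s, ?_⟩
  set j := orderOf (suToPSU 3 F q s)
  obtain ⟨c, hc⟩ := (suToPSU_pow_eq_one_iff hF s j).1 (pow_orderOf_eq_one _)
  rw [suVal_suMk, ← map_pow, Prod.pow_mk] at hc
  obtain ⟨hA', hb⟩ := blk_eq_scalar hc
  have h2 : A.det ^ j = c ^ 2 := by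
    rw [← Matrix.det_pow, hA', Matrix.scalar_apply, Matrix.det_diagonal]; simp
  have hc0 : c ≠ 0 := hb ▸ pow_ne_zero _ (inv_ne_zero hd0)
  have hc3 : c ^ 3 = 1 := by
    rw [pow_succ, ← h2, ← hb, inv_pow, mul_inv_cancel₀ (pow_ne_zero _ hd0)]
  have hcq : c ^ (q + 1) = 1 := by
    rw [← hb, inv_pow, inv_pow, ← pow_mul, mul_comm, pow_mul, pow_succ', hd, one_pow, inv_one]
  have hg : c ^ Nat.gcd 3 (q + 1) = 1 := pow_gcd_eq_one.2 ⟨hc3, hcq⟩
  have h : orderOf A ∣ j * Nat.gcd 3 (q + 1) := orderOf_dvd_of_pow_eq_one (by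
    rw [pow_mul, hA', ← map_pow, hg, map_one])
  rw [hord] at h
  rwa [Nat.div_dvd_iff_dvd_mul ((Nat.gcd_dvd_right _ _).trans ⟨q - 1, ?_⟩)
    (Nat.gcd_pos_of_pos_left _ (by norm_num)), mul_comm]
  obtain ⟨e, rfl⟩ : ∃ e, q = e + 1 := ⟨q - 1, by have := two_le_q hF; omega⟩
  rw [Nat.add_sub_cancel, show (e + 1) ^ 2 = (e + 1 + 1) * e + 1 by ring, Nat.add_sub_cancel]

theorem eMat_zero_apply (hq : q ≠ 0) (v : Fin 3 → F) (t : F) (i j : Fin 3) :
    PSUAut.eMat q v 0 t i j = (1 : Matrix (Fin 3) (Fin 3) F) i j + t * (v i * v j ^ q) := by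
  simp only [PSUAut.eMat, Matrix.add_apply, Matrix.sub_apply, Matrix.smul_apply, Matrix.vecMulVec_apply,
    Pi.zero_apply, zero_pow hq, zero_mul, mul_zero, sub_zero, zero_add, smul_eq_mul]

theorem exists_p_mul (hF : Fintype.card F = q ^ 2) {p : ℕ} [Fact p.Prime] [CharP F p] {a : ℕ} (hq : q = p ^ a) :
    ∃ y : PSU 3 F q, p * (q + 1) / Nat.gcd 3 (q + 1) ∣ orderOf y := by
  classical
  obtain ⟨u, hu⟩ := IsCyclic.exists_ofOrder_eq_natCard (α := Fˣ)
  rw [Nat.card_units, Nat.card_eq_fintype_card, hF] at hu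
  have hq2 := two_le_q hF
  have hz : orderOf ((u : F) ^ (q - 1)) = q + 1 := by
    rw [orderOf_pow' _ (by omega), orderOf_units, hu]
    obtain ⟨e, rfl⟩ : ∃ e, q = e + 1 := ⟨q - 1, by omega⟩
    rw [Nat.add_sub_cancel, show (e + 1) ^ 2 = e * (e + 1 + 1) + 1 by ring, Nat.add_sub_cancel,
      Nat.gcd_eq_right (dvd_mul_right _ _), Nat.mul_div_cancel_left _ (by omega)]
  set z := (u : F) ^ (q - 1)
  have hz0 : z ≠ 0 := pow_ne_zero _ u.ne_zero
  have hz1 : z * z ^ q = 1 := by rw [← pow_succ', ← hz, pow_orderOf_eq_one]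
  obtain ⟨b, hb⟩ := PSUAut.exists_norm hF (a := (-1 : F)) (by simp)
  obtain ⟨t, ht0, ht⟩ := PSUAut.exists_trace_zero hF
  let v : Fin 3 → F := ![1, b, 0]
  have hv : hermForm 3 F q v v = 0 := by
    simp [hermForm, Fin.sum_univ_succ, v, ← qFrob_apply hF]
    linear_combination hb
  have H : PSUAut.EOK (q := q) v 0 t := PSUAut.eOK_transvection hF hv ht
  let T : SU 3 F q := PSUAut.eSU hF H
  let D : SU 3 F q := suMk hF (blk (Matrix.scalar (Fin 2) z, (z * z)⁻¹))
    (by
      rw [blk_det, Matrix.scalar_apply, Matrix.det_diagonal, Fin.prod_univ_two]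
      exact mul_inv_cancel₀ (mul_ne_zero hz0 hz0))
    (blk_unitary hF (by
        rw [Matrix.scalar_apply]
        exact transpose_mul_diagonal hF fun _ => by rw [pow_succ', hz1])
      (by rw [inv_pow, ← mul_inv, mul_pow, mul_mul_mul_comm, hz1, one_mul, inv_one]))
  have hcomm : Commute D T := suVal_ext (by
    rw [suVal_mul, suVal_mul, suVal_suMk, PSUAut.suVal_eSU]
    ext i j
    fin_cases i <;> fin_cases j <;>
      simp [blk, eMat_zero_apply (show q ≠ 0 by omega), Matrix.mul_apply, Fin.sum_univ_succ, v,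
        zero_pow (show q ≠ 0 by omega), mul_comm, Matrix.one_fin_three])
  refine ⟨suToPSU 3 F q (D * T), ?_⟩
  set j := orderOf (suToPSU 3 F q (D * T))
  obtain ⟨c, hc⟩ := (suToPSU_pow_eq_one_iff hF (D * T) j).1 (pow_orderOf_eq_one _)
  rw [← suVal_pow, hcomm.mul_pow, suVal_mul, suVal_pow, suVal_pow, suVal_suMk, ← map_pow, Prod.pow_mk,
    ← map_pow, PSUAut.suVal_eSU] at hc
  have hTj : PSUAut.eMat q v 0 t ^ j = PSUAut.eMat q v 0 ((j : F) * t) := by
    clear hc
    induction j with
    | zero => simp [PSUAut.eMat_zero hF v]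
    | succ k ih =>
      have Hk : PSUAut.EOK (q := q) v 0 ((k : F) * t) := PSUAut.eOK_transvection hF hv (by
        rw [map_mul, map_natCast]; linear_combination (k : F) * ht)
      rw [pow_succ, ih, PSUAut.eMat_mul hF Hk H, add_zero, PSUAut.h_zero_left, sub_zero, Nat.cast_succ,
        add_mul, one_mul]
  rw [hTj] at hc
  have e01 := congrFun₂ hc 0 1
  have e00 := congrFun₂ hc 0 0
  have e22 := congrFun₂ hc 2 2
  simp [blk, eMat_zero_apply (show q ≠ 0 by omega), Matrix.mul_apply, Fin.sum_univ_succ, v,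
    zero_pow (show q ≠ 0 by omega), Matrix.one_fin_three] at e01 e00 e22
  have hb0 : b ≠ 0 := fun h => by rw [h, zero_mul] at hb; exact one_ne_zero (neg_eq_zero.1 hb.symm)
  have hjp : (j : F) = 0 := by
    tauto
  have hpj : p ∣ j := (CharP.cast_eq_zero_iff F p j).1 hjp
  rw [hjp] at e00
  simp at e00
  have hz3 : z ^ (3 * j) = 1 := by
    rw [← e00] at e22
    have h3 : (z ^ j) ^ 3 = 1 := by
      rw [pow_succ]
      nth_rewrite 2 [← e22]
      rw [← pow_mul, mul_comm j 2, pow_mul, ← mul_pow]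
      refine (congrArg (· ^ j) ?_).trans (one_pow j)
      field_simp
    rw [mul_comm, pow_mul, h3]
  have hdiv : (q + 1) / Nat.gcd 3 (q + 1) ∣ j := by
    rw [Nat.div_dvd_iff_dvd_mul (Nat.gcd_dvd_right _ _) (Nat.gcd_pos_of_pos_left _ (by norm_num))]
    have h := Nat.dvd_gcd (hz ▸ orderOf_dvd_of_pow_eq_one hz3) (dvd_mul_right (q + 1) j)
    rwa [Nat.gcd_mul_right, mul_comm, Nat.mul_comm j] at h
  rw [Nat.mul_div_assoc _ (Nat.gcd_dvd_right _ _)]
  refine Nat.Coprime.mul_dvd_of_dvd_of_dvd (Nat.Coprime.coprime_dvd_right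
    (Nat.div_dvd_of_dvd (Nat.gcd_dvd_right _ _)) ?_) hpj hdiv
  refine ((Fact.out : p.Prime).coprime_iff_not_dvd).2 fun h => (Fact.out : p.Prime).not_dvd_one
    ((Nat.dvd_add_right ?_).1 h)
  rw [hq]
  exact dvd_pow_self p (fun ha => by rw [ha, pow_zero] at hq; omega)

end Cfsg.Agent.Lie.PSUThreeSpectrum
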