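import Cfsg.Agent.Lib.Lie.EightSubgroupsDegree
import Cfsg.Agent.Lib.Recog.GL42

/-!
Subgroups of `GL(4,2)` without solvable normal subgroups.
-/

set_option autoImplicit false

namespace Cfsg.Agent.Lie.EightSub

open Equiv

/-- An action on seven points in which some element of order seven moves a point. -/
theorem no_seven_action {G : Type*} [Group G] [Finite G] (h : NoSolv G) (hc : Nat.card G = 1344)
    {X : Type*} [MulAction G X] (hX : Nat.card X = 7) (g : G) (hg : g ^ 7 = 1)
    (hmove : ∃ x : X, g • x ≠ x) : False := by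
  haveI : Finite X := Nat.finite_of_card_ne_zero (by omega)
  set f := MulAction.toPermHom G X with hf
  have hr : Nat.card f.range ∣ 5040 := by
    have := f.range.card_subgroup_dvd_card
    rwa [Nat.card_perm, hX] at this
  have hmul := Subgroup.card_mul_index f.ker
  rw [Subgroup.index_ker, hc] at hmul
  have h7 : 7 ∣ Nat.card f.range := by
    obtain ⟨x, hx⟩ := hmove
    have hne : (⟨f g, g, rfl⟩ : f.range) ≠ 1 := fun e =>
      hx (DFunLike.congr_fun (congrArg Subtype.val e) x)
    haveI : Fact (Nat.Prime 7) := ⟨by norm_num⟩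
    have ho := orderOf_eq_prime (p := 7) (show (⟨f g, g, rfl⟩ : f.range) ^ 7 = 1 from Subtype.ext (by
      show (f g) ^ 7 = 1
      rw [← map_pow, hg, map_one])) hne
    exact ho ▸ orderOf_dvd_natCard _
  obtain ⟨c, hc'⟩ := h7
  rw [hc', show 1344 = 7 * 192 from rfl, mul_left_comm] at hmul
  have h192 : Nat.card f.ker * c = 192 := Nat.eq_of_mul_eq_mul_left (by norm_num) hmul
  have hd : Nat.card f.ker ∣ 192 := ⟨c, h192.symm⟩
  have hle := Nat.le_of_dvd (by norm_num) hd
  have hs : Group.IsSolvable f.ker := solvable_of_card (by omega) (fun hb => by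
    have key : ∀ c ∈ Nat.divisors 192, ¬ (60 ∣ c ∨ 168 ∣ c ∨ 360 ∣ c ∨ 504 ∣ c ∨ 660 ∣ c ∨ 1092 ∣ c) := by
      decide +kernel
    exact key _ (Nat.mem_divisors.2 ⟨hd, by norm_num⟩) hb)
  have hbot := h _ inferInstance hs
  rw [hbot, Subgroup.card_bot, one_mul] at h192
  rw [hc', h192] at hr
  norm_num at hr

abbrev V := Fin 4 → ZMod 2

/-- The cosets of a nonzero vector other than the trivial one. -/
def pairs (v : V) : Finset (Finset V) :=
  (Finset.univ.filter fun x : V => x ≠ 0 ∧ x ≠ v).image fun x => {x, x + v}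

theorem mem_pairs {v : V} {s : Finset V} :
    s ∈ pairs v ↔ ∃ x, x ≠ 0 ∧ x ≠ v ∧ s = {x, x + v} := by
  simp [pairs, and_assoc, eq_comm]

theorem card_pairs : ∀ v : V, v ≠ 0 → (pairs v).card = 7 := by decide +kernel

theorem card_vectors : Fintype.card {x : V // x ≠ 0} = 15 := by decide +kernel

theorem fixed_count : ∀ c ∈ Finset.Icc 2 16, c ∣ 16 → c % 7 = 2 → c = 2 ∨ c = 16 := by decide +kernel

theorem not_1344 (H : Subgroup (GL (Fin 4) (ZMod 2))) (h : NoSolv H) : Nat.card H ≠ 1344 := by
  classical
  intro hc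
  haveI : Fact (Nat.Prime 7) := ⟨by norm_num⟩
  obtain ⟨g, hg⟩ := exists_prime_orderOf_dvd_card' (G := H) 7 (by rw [hc]; norm_num)
  have hg7 : g ^ 7 = 1 := hg ▸ pow_orderOf_eq_one g
  set M : Matrix (Fin 4) (Fin 4) (ZMod 2) := ((g : GL (Fin 4) (ZMod 2)) : Matrix (Fin 4) (Fin 4) (ZMod 2))
  letI : MulAction H V :=
    { smul := fun k x => (((k : GL (Fin 4) (ZMod 2)) : Matrix (Fin 4) (Fin 4) (ZMod 2))).mulVec x
      one_smul := fun x => by show Matrix.mulVec _ x = x; simp
      mul_smul := fun k l x => by
        show Matrix.mulVec _ x = Matrix.mulVec _ (Matrix.mulVec _ x)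
        simp [Matrix.mulVec_mulVec] }
  have hsm : ∀ (k : H) (x : V), k • x = (((k : GL (Fin 4) (ZMod 2)) : Matrix (Fin 4) (Fin 4) (ZMod 2))).mulVec x :=
    fun _ _ => rfl
  have hadd : ∀ (k : H) (x y : V), k • (x + y) = k • x + k • y := fun k x y => by
    simp only [hsm, Matrix.mulVec_add]
  have hzero : ∀ k : H, k • (0 : V) = 0 := fun k => by simp [hsm]
  have hmove : ∃ x : V, g • x ≠ x := by
    by_contra hall
    push Not at hall
    have : g = 1 := by
      apply Subtype.ext
      apply Units.ext
      exact Matrix.toLin'.injective (LinearMap.ext fun x => by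
        rw [Matrix.toLin'_apply, Matrix.toLin'_apply]
        simpa [hsm] using hall x)
    rw [this, orderOf_one] at hg
    norm_num at hg
  -- the fixed space of g has two elements
  let F : AddSubgroup V :=
    { carrier := {x | g • x = x}
      zero_mem' := hzero g
      add_mem' := fun {x y} hx hy => by
        show g • (x + y) = x + y
        rw [hadd, hx, hy]
      neg_mem' := fun {x} hx => by
        show g • (-x) = -x
        have e : ∀ w : V, -w = w := fun w => funext fun i => ZMod.neg_eq_self_mod_two (w i)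
        rw [e]; exact hx }
  have hV : Nat.card V = 16 := by rw [Nat.card_eq_fintype_card]; rfl
  have hF16 : Nat.card F ∣ 16 := hV ▸ F.card_addSubgroup_dvd_card
  have hP : IsPGroup 7 (Subgroup.zpowers g) := IsPGroup.of_card (n := 1) (by rw [Nat.card_zpowers, hg, pow_one])
  have hmod : Nat.card F % 7 = 2 := by
    have hm := hP.card_modEq_card_fixedPoints (α := V)
    rw [hV] at hm
    have : Nat.card F = Nat.card (MulAction.fixedPoints (Subgroup.zpowers g) V) := by
      refine Nat.card_congr (Equiv.subtypeEquivRight fun x => ?_)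
      constructor
      · rintro hx ⟨k, hk⟩
        exact Subgroup.zpowers_le.2 (show g ∈ MulAction.stabilizer H x from hx) hk
      · intro hx
        exact hx ⟨g, Subgroup.mem_zpowers g⟩
    rw [this]
    exact hm.symm
  have hF2 : Nat.card F = 2 := by
    have hle := Nat.le_of_dvd (by norm_num) hF16
    refine (fixed_count _ (Finset.mem_Icc.2 ⟨?_, hle⟩) hF16 hmod).resolve_right fun e => ?_
    · omega
    · obtain ⟨x, hx⟩ := hmove
      have htop : F = ⊤ := AddSubgroup.eq_top_of_card_eq F (by rw [e, hV])
      exact hx (show x ∈ F by rw [htop]; trivial)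
  obtain ⟨v, hvF, hv0⟩ : ∃ v, v ∈ F ∧ v ≠ 0 := by
    by_contra hh
    push Not at hh
    have : F = ⊥ := (AddSubgroup.eq_bot_iff_forall F).2 hh
    rw [this, AddSubgroup.card_bot] at hF2
    omega
  have huniq : ∀ x : V, g • x = x → x = 0 ∨ x = v := by
    intro x hx
    by_contra hh
    push Not at hh
    have h3 : ({0, v, x} : Set V) ⊆ F := by
      rintro y (rfl | rfl | rfl)
      · exact F.zero_mem
      · exact hvF
      · exact hx
    have h4 := Set.ncard_le_ncard h3 (Set.toFinite _)
    rw [← Nat.card_coe_set_eq, ← Nat.card_coe_set_eq] at h4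
    have h5 : Nat.card ({0, v, x} : Set V) = 3 := by
      rw [Nat.card_coe_set_eq]
      exact Set.ncard_eq_three.2 ⟨_, _, _, hv0.symm, hh.1.symm, hh.2.symm, rfl⟩
    rw [h5] at h4
    change 3 ≤ Nat.card F at h4
    omega
  by_cases hfix : ∀ k : H, k • v = v
  · -- seven cosets of the fixed vector
    let X := {s : Finset V // s ∈ pairs v}
    have hX : Nat.card X = 7 := by
      rw [Nat.card_eq_fintype_card, Fintype.card_coe]; exact card_pairs v hv0
    letI : MulAction H X :=
      { smul := fun k s => ⟨s.1.image (k • ·), by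
          obtain ⟨x, h0, hxv, hs⟩ := mem_pairs.1 s.2
          refine mem_pairs.2 ⟨k • x, ?_, ?_, ?_⟩
          · intro e
            exact h0 (MulAction.injective k (e.trans (hzero k).symm))
          · intro e
            exact hxv (MulAction.injective k (e.trans (hfix k).symm))
          · rw [hs, Finset.image_insert, Finset.image_singleton, hadd, hfix]⟩
        one_smul := fun s => Subtype.ext (by show s.1.image _ = _; simp)
        mul_smul := fun k l s => Subtype.ext (by
          show s.1.image _ = (s.1.image _).image _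
          rw [Finset.image_image]
          congr 1
          funext x
          exact mul_smul k l x) }
    obtain ⟨x, hx⟩ := hmove
    have hx0 : x ≠ 0 := fun e => hx (e ▸ hzero g)
    have hxv : x ≠ v := fun e => hx (e ▸ hfix g)
    refine no_seven_action h hc hX g hg7 ⟨⟨{x, x + v}, mem_pairs.2 ⟨x, hx0, hxv, rfl⟩⟩, fun e => ?_⟩
    have e1 : ({x, x + v} : Finset V).image (g • ·) = {x, x + v} := congrArg Subtype.val e
    have hm : g • x ∈ ({x, x + v} : Finset V) := e1 ▸ Finset.mem_image_of_mem _ (Finset.mem_insert_self _ _)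
    rcases Finset.mem_insert.1 hm with h1 | h1
    · exact hx h1
    · -- then g would have order dividing two on x
      rw [Finset.mem_singleton] at h1
      have h2 : g • g • x = x := by
        rw [h1, hadd, hfix, h1, add_assoc]
        have : v + v = 0 := funext fun i => CharTwo.add_self_eq_zero (v i)
        rw [this, add_zero]
      have h7 : (g ^ 7) • x = g • x := by
        have h8 : (g ^ 2) • x = x := by rw [sq, mul_smul]; exact h2
        rw [show g ^ 7 = g * g ^ 2 * g ^ 2 * g ^ 2 by group, mul_smul, mul_smul, mul_smul, h8, h8, h8]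
      rw [hg7, one_smul] at h7
      exact hx h7.symm
  · -- the orbit of the fixed vector has eight points
    push Not at hfix
    obtain ⟨k₀, hk₀⟩ := hfix
    set O := MulAction.orbit H v with hO
    have hOd : O.ncard ∣ 1344 := by
      rw [← Nat.card_coe_set_eq, Nat.card_congr (MulAction.orbitEquivQuotientStabilizer H v),
        ← Subgroup.index_eq_card, ← hc]
      exact Subgroup.index_dvd_card _
    have hO2 : 2 ≤ O.ncard := (Set.one_lt_ncard (Set.toFinite _)).2
      ⟨v, MulAction.mem_orbit_self v, k₀ • v, MulAction.mem_orbit v k₀, Ne.symm hk₀⟩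
    have hOne : ∀ x ∈ O, x ≠ 0 := by
      rintro _ ⟨k, rfl⟩ e
      exact hv0 (MulAction.injective k (e.trans (hzero k).symm))
    have hmodO : O.ncard % 7 = 1 := by
      have hm := hP.card_modEq_card_fixedPoints (α := O)
      have h1 : Nat.card (MulAction.fixedPoints (Subgroup.zpowers g) O) = 1 := by
        refine Nat.card_eq_one_iff_unique.2 ⟨⟨fun a b => ?_⟩, ⟨⟨⟨v, MulAction.mem_orbit_self v⟩, ?_⟩⟩⟩
        · have e : ∀ a : MulAction.fixedPoints (Subgroup.zpowers g) O, ((a : O) : V) = v := by
            rintro ⟨⟨y, hy⟩, hfy⟩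
            refine (huniq y ?_).resolve_left (hOne y hy)
            exact congrArg Subtype.val (hfy ⟨g, Subgroup.mem_zpowers g⟩)
          exact Subtype.ext (Subtype.ext ((e a).trans (e b).symm))
        · rintro ⟨k, hk⟩
          exact Subtype.ext (Subgroup.zpowers_le.2 (show g ∈ MulAction.stabilizer H v from hvF) hk)
      rw [h1, Nat.card_coe_set_eq] at hm
      exact hm
    have hle : O.ncard ≤ 15 := by
      have hsub : O ⊆ {x : V | x ≠ 0} := hOne
      refine (Set.ncard_le_ncard hsub (Set.toFinite _)).trans ?_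
      rw [← Nat.card_coe_set_eq, Nat.card_eq_fintype_card]
      exact card_vectors.le
    have hO8 : O.ncard = 8 := by
      have key : ∀ c ∈ Finset.Icc 2 15, c ∣ 1344 → c % 7 = 1 → c = 8 := by decide +kernel
      exact key _ (Finset.mem_Icc.2 ⟨hO2, hle⟩) hOd hmodO
    let X := {x : V // x ≠ 0 ∧ x ∉ O}
    have hX : Nat.card X = 7 := by
      have h15 : ({x : V | x ≠ 0} : Set V).ncard = 15 := by
        rw [← Nat.card_coe_set_eq, Nat.card_eq_fintype_card]
        exact card_vectors
      have h1 := Set.ncard_sdiff (show O ⊆ {x : V | x ≠ 0} from hOne) (Set.toFinite _)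
      rw [h15, hO8] at h1
      rw [← show (({x : V | x ≠ 0} \ O : Set V)).ncard = 7 by rw [h1], ← Nat.card_coe_set_eq]
      rfl
    letI : MulAction H X :=
      { smul := fun k s => ⟨k • s.1, fun e => s.2.1 (MulAction.injective k (e.trans (hzero k).symm)), fun e => s.2.2 (by
          have := MulAction.mem_orbit_of_mem_orbit k⁻¹ e
          rwa [inv_smul_smul] at this)⟩
        one_smul := fun s => Subtype.ext (one_smul H s.1)
        mul_smul := fun k l s => Subtype.ext (mul_smul k l s.1) }
    obtain ⟨⟨s, hs⟩⟩ : Nonempty X := (Nat.card_pos_iff.1 (by omega : 0 < Nat.card X)).1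
    refine no_seven_action h hc hX g hg7 ⟨⟨s, hs⟩, fun e => ?_⟩
    rcases huniq s (congrArg Subtype.val e) with h1 | h1
    · exact hs.1 h1
    · exact hs.2 (h1 ▸ MulAction.mem_orbit_self v)

theorem classify (H : Subgroup (GL (Fin 4) (ZMod 2))) (hne : H ≠ ⊥) (h : NoSolv H) : Listed H := by
  let φ : GL (Fin 4) (ZMod 2) →* Perm (Fin 8) :=
    (alternatingGroup (Fin 8)).subtype.comp Cfsg.Agent.Recog.GL42.homAlt
  have hφ : Function.Injective φ :=
    (alternatingGroup (Fin 8)).subtype_injective.comp Cfsg.Agent.Recog.GL42.homAlt_injective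
  set K := H.map φ with hK
  let e : H ≃* K := H.equivMapOfInjective φ hφ
  have hKA : K ≤ alternatingGroup (Fin 8) := by
    rintro _ ⟨x, -, rfl⟩
    exact (Cfsg.Agent.Recog.GL42.homAlt x).2
  have hKne : K ≠ ⊥ := fun e' => hne ((Subgroup.map_eq_bot_iff_of_injective _ hφ).1 e')
  rcases eight K hKA hKne (h.of_equiv e.symm) with h1 | h1
  · exact h1.of_equiv e
  · exact absurd ((Nat.card_congr e.toEquiv).trans h1) (not_1344 H h)

end Cfsg.Agent.Lie.EightSub
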