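import Cfsg.Agent.Lib.Lie.BNPair

/-! Consequences of the Bruhat decomposition: lattice of parabolic subgroups and Tits' simplicity
criterion. -/

set_option autoImplicit false

namespace Cfsg.Agent.Lie

open scoped Pointwise

variable {G : Type*} [Group G] (P : Cfsg.BNPair G)

theorem cell_eq_doubleCoset (n : P.N) :
    cell P (proj P n) = DoubleCoset.doubleCoset (n : G) (P.B : Set G) P.B := by
  ext x
  rw [mem_cell_proj, DoubleCoset.mem_doubleCoset]
  rfl

theorem parabolic_injective {J K : Set G} (hJ : J ⊆ P.S) (hK : K ⊆ P.S)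
    (h : P.parabolic J = P.parabolic K) : J = K := by
  have aux : ∀ {J K : Set G}, J ⊆ P.S → K ⊆ P.S → P.parabolic J = P.parabolic K → J ⊆ K := by
    intro J K hJ hK h s hs
    have hm : s ∈ P.parabolic K := h ▸ (le_sup_right : _ ≤ P.parabolic J) (Subgroup.subset_closure hs)
    obtain ⟨w, hw, hw'⟩ := (mem_parabolic_iff P hK).1 hm
    have : w = refl P ⟨s, hJ hs⟩ := cell_unique P hw' (mem_cell_self P (sN P ⟨s, hJ hs⟩))
    exact (refl_mem_weylPara_iff P (s := ⟨s, hJ hs⟩)).1 (this ▸ hw)
  exact le_antisymm (aux hJ hK h) (aux hK hJ h.symm)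

theorem parabolic_inf {J K : Set G} (hJ : J ⊆ P.S) (hK : K ⊆ P.S) :
    P.parabolic J ⊓ P.parabolic K = P.parabolic (J ∩ K) := by
  refine le_antisymm ?_ (le_inf
    (sup_le le_sup_left (le_sup_of_le_right (Subgroup.closure_mono Set.inter_subset_left)))
    (sup_le le_sup_left (le_sup_of_le_right (Subgroup.closure_mono Set.inter_subset_right))))
  rintro g ⟨h1, h2⟩
  obtain ⟨w, hw, hg⟩ := (mem_parabolic_iff P hJ).1 h1
  obtain ⟨v, hv, hg'⟩ := (mem_parabolic_iff P hK).1 h2
  have := cell_unique P hg hg'
  subst this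
  exact (mem_parabolic_iff P (fun x hx => hJ hx.1)).2 ⟨w, weylPara_inf P hw hv, hg⟩

theorem parabolic_le_iff {J K : Set G} (hJ : J ⊆ P.S) (hK : K ⊆ P.S) :
    P.parabolic J ≤ P.parabolic K ↔ J ⊆ K := by
  refine ⟨fun h => ?_, fun h => sup_le le_sup_left (le_sup_of_le_right (Subgroup.closure_mono h))⟩
  have := parabolic_injective P (fun x hx => hJ hx.1) hJ
    ((parabolic_inf P hJ hK).symm.trans (inf_eq_left.2 h))
  exact Set.inter_eq_left.1 this

/-- If `g` conjugates `B` into `P_K` then `g ∈ P_K`. -/
theorem mem_parabolic_of_conj (K : Set G) {g : G}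
    (h : ∀ b ∈ P.B, g * b * g⁻¹ ∈ P.parabolic K) : g ∈ P.parabolic K := by
  have hB : P.B ≤ P.parabolic K := le_sup_left
  obtain ⟨w, n, -, b₁, h₁, b₂, h₂, rfl⟩ := exists_cell P g
  have hn : (n : G) ∈ P.parabolic K := by
    refine mem_of_conj_le P _ hB n fun b hb => ?_
    have h3 := mul_mem (mul_mem (inv_mem (hB h₁))
      (h (b₂⁻¹ * b * b₂) (mul_mem (mul_mem (inv_mem h₂) hb) h₂))) (hB h₁)
    simpa [mul_assoc] using h3
  exact mul_mem (mul_mem (hB h₁) hn) (hB h₂)

theorem refl_commute_iff {s r : P.S} :
    (s : G) * r * (s : G)⁻¹ * (r : G)⁻¹ ∈ P.B ↔ refl P s * refl P r = refl P r * refl P s := by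
  have e : ((sN P s * sN P r * (sN P s)⁻¹ * (sN P r)⁻¹ : P.N) : G) =
      (s : G) * r * (s : G)⁻¹ * (r : G)⁻¹ := rfl
  rw [← e, ← proj_eq_one]
  simp only [map_mul, map_inv]
  show refl P s * refl P r * (refl P s)⁻¹ * (refl P r)⁻¹ = 1 ↔ _
  rw [mul_inv_eq_one, mul_inv_eq_iff_eq_mul]

/-- For a normal subgroup `H` with `H B = P_J`, the generators in `J` commute with the others in `W`. -/
theorem commute_of_normal {H : Subgroup G} [H.Normal] {J : Set G} (hJ : J ⊆ P.S)
    (hHJ : H ⊔ P.B = P.parabolic J) {s r : P.S} (hs : (s : G) ∈ J) (hr : (r : G) ∉ J) :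
    refl P s * refl P r = refl P r * refl P s := by
  have hne : s ≠ r := fun h => hr (h ▸ hs)
  have hsH : (s : G) ∈ H ⊔ P.B :=
    hHJ ▸ (le_sup_right : _ ≤ P.parabolic J) (Subgroup.subset_closure hs)
  obtain ⟨h, hh, b, hb, hhb⟩ := Subgroup.mem_sup_of_normal_left.1 hsH
  have hcell : h ∈ cell P (refl P s) := by
    have := cell_mul_B P (inv_mem hb) (mem_cell_self P (sN P s))
    rwa [show (sN P s : G) * b⁻¹ = h by simp [sN, ← hhb]] at this
  have hrs : len P (refl P r * refl P s) = 2 := by
    have h1 := len_refl_mul_le P r (refl P s)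
    have h2 := len_refl_mul_ne P r (refl P s)
    rw [len_refl] at h1 h2
    rcases Nat.eq_zero_or_pos (len P (refl P r * refl P s)) with h | h
    · have := eq_one_of_len P _ h
      rw [mul_eq_one_iff_eq_inv, refl_inv] at this
      exact absurd (refl_inj P this).symm hne
    · omega
  -- compute where `r h r⁻¹` lies
  by_cases h3 : len P (refl P r * refl P s) ≤ len P (refl P r * refl P s * refl P r)
  · exfalso
    have h1 : (r : G) * h ∈ cell P (refl P r * refl P s) :=
      mul_cell_of_len_le P (refl P s) (s := r) (by rw [hrs, len_refl]; omega) _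
        (mem_cell_self P (sN P r)) h hcell
    have hrinv : (r : G)⁻¹ ∈ cell P (refl P r) := by
      have h := cell_inv P (mem_cell_self P (sN P r))
      rw [show (proj P (sN P r))⁻¹ = refl P r from refl_inv P r] at h
      exact h
    have h2 : (r : G) * h * (r : G)⁻¹ ∈ cell P (refl P r * refl P s * refl P r) := by
      have hle : len P (refl P r * refl P s)⁻¹ ≤ len P (refl P r * (refl P r * refl P s)⁻¹) := by
        rw [len_inv, ← len_inv P (refl P r * (refl P r * refl P s)⁻¹)]
        simpa [mul_assoc, refl_inv] using h3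
      have := cell_inv P (mul_cell_of_len_le P _ hle _
        (by simpa [refl_inv] using cell_inv P hrinv) _ (cell_inv P h1))
      simpa [mul_assoc, refl_inv] using this
    have hH : (r : G) * h * (r : G)⁻¹ ∈ H := Subgroup.Normal.conj_mem ‹_› h hh r
    obtain ⟨w, hw, hw'⟩ := (mem_parabolic_iff P hJ).1 (hHJ ▸ Subgroup.mem_sup_left hH)
    have := cell_unique P hw' h2
    subst this
    obtain ⟨l, hl, el, hlJ⟩ := reduced_word_of_mem P hw
    have hlt : len P (refl P r * (refl P r * refl P s * refl P r)) <
        len P (refl P r * refl P s * refl P r) := by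
      rw [mul_assoc, refl_cancel]
      have h4 := len_refl_mul_le P s (refl P r)
      rw [len_refl] at h4
      have h5 := len_refl_mul_ne P r (refl P s * refl P r)
      rw [hrs, mul_assoc] at h3
      omega
    rw [← el] at hl hlt
    obtain ⟨i, -, ei⟩ := exchange P l hl hlt
    have hr' : refl P r ∈ weylPara P J := by
      have : refl P r * wprod P l ∈ weylPara P J :=
        ei ▸ wprod_mem_weylPara P fun x hx => hlJ x (List.mem_of_mem_eraseIdx hx)
      simpa using mul_mem this (inv_mem (wprod_mem_weylPara P hlJ))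
    exact hr ((refl_mem_weylPara_iff P).1 hr')
  · -- exchange on the word `s r`
    have hlt : len P (refl P r * wprod P [s, r]) < len P (wprod P [s, r]) := by
      have e : refl P s * refl P r = (refl P r * refl P s)⁻¹ := by simp [refl_inv]
      simp only [wprod_cons, wprod_nil, mul_one]
      rw [← mul_assoc, e, len_inv]
      omega
    have hred : [s, r].length = len P (wprod P [s, r]) := by
      have e : refl P s * refl P r = (refl P r * refl P s)⁻¹ := by simp [refl_inv]
      simp only [wprod_cons, wprod_nil, mul_one, e, len_inv, hrs]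
      rfl
    obtain ⟨i, hi, e⟩ := exchange P [s, r] hred hlt
    simp only [List.length_cons, List.length_nil] at hi
    interval_cases i
    · simp only [wprod_cons, wprod_nil, mul_one, List.eraseIdx_cons_zero] at e
      have : refl P s * refl P r = 1 := by
        calc refl P s * refl P r = refl P r * (refl P r * (refl P s * refl P r)) := by
              rw [refl_cancel]
          _ = 1 := by rw [e, refl_mul_self]
      rw [mul_eq_one_iff_eq_inv, refl_inv] at this
      exact absurd (refl_inj P this) hne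
    · simp only [wprod_cons, wprod_nil, mul_one, List.eraseIdx_cons_succ,
        List.eraseIdx_cons_zero] at e
      calc refl P s * refl P r = refl P r * (refl P r * (refl P s * refl P r)) := by
            rw [refl_cancel]
        _ = _ := by rw [e]

/-- Tits' simplicity criterion. -/
theorem simple_of_bnPair [Nontrivial G] (hirr : P.Irreducible) (hsolv : Group.IsSolvable P.B)
    (hperf : commutator G = ⊤) (hcore : P.B.normalCore = ⊥) : IsSimpleGroup G := by
  refine ⟨fun H hH => ?_⟩
  have := hH
  let J : Set G := {s | s ∈ P.S ∧ s ∈ H ⊔ P.B}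
  have hJ : J ⊆ P.S := fun s hs => hs.1
  have hHJ : H ⊔ P.B = P.parabolic J := eq_parabolic P _ le_sup_right
  rcases Set.eq_empty_or_nonempty J with h0 | hne
  · left
    have : H ≤ P.B := by
      have h : H ⊔ P.B = P.B := by rw [hHJ, h0]; simp [Cfsg.BNPair.parabolic]
      exact h ▸ le_sup_left
    exact le_bot_iff.1 (hcore ▸ Subgroup.normal_le_normalCore.2 this)
  · rcases Set.eq_empty_or_nonempty (P.S \ J) with h1 | hne'
    · right
      have hJS : J = P.S := le_antisymm hJ (Set.sdiff_eq_empty.1 h1)
      have htop : H ⊔ P.B = ⊤ := by rw [hHJ, hJS, parabolic_S]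
      let q : P.B →* G ⧸ H := (QuotientGroup.mk' H).comp P.B.subtype
      have hq : Function.Surjective q := by
        intro y
        obtain ⟨g, rfl⟩ := QuotientGroup.mk'_surjective H y
        obtain ⟨h, hh, b, hb, rfl⟩ :=
          Subgroup.mem_sup_of_normal_left.1 (htop ▸ Subgroup.mem_top g)
        refine ⟨⟨b, hb⟩, ?_⟩
        show (b : G ⧸ H) = ((h * b : G) : G ⧸ H)
        rw [QuotientGroup.mk_mul, (QuotientGroup.eq_one_iff h).2 hh, one_mul]
      have := hsolv
      have hQ : Group.IsSolvable (G ⧸ H) := Group.isSolvable_of_surjective hq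
      obtain ⟨k, hk⟩ := (Group.isSolvable_def _).1 hQ
      have hder : ∀ k, derivedSeries G k = ⊤ := by
        intro k
        induction k with
        | zero => rfl
        | succ k ih => rw [derivedSeries_succ, ih, ← commutator_def, hperf]
      have h2 : (⊤ : Subgroup G).map (QuotientGroup.mk' H) = ⊥ := by
        rw [← hder k, map_derivedSeries_eq (QuotientGroup.mk'_surjective H), hk]
      rwa [Subgroup.map_eq_bot_iff, QuotientGroup.ker_mk', top_le_iff] at h2
    · exfalso
      obtain ⟨s, hs, r, hr, hsr⟩ := hirr J hJ hne hne'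
      exact hsr ((refl_commute_iff P (s := ⟨s, hJ hs⟩) (r := ⟨r, hr.1⟩)).2
        (commute_of_normal P hJ hHJ (s := ⟨s, hJ hs⟩) (r := ⟨r, hr.1⟩) hs hr.2))

end Cfsg.Agent.Lie
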