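import Mathlib
import Cfsg.Prelude.Def_LieExceptional

/-! Structure theory of (B,N)-pairs: Weyl group, Bruhat decomposition, exchange condition,
parabolic subgroups. -/

set_option autoImplicit false

namespace Cfsg.Agent.Lie

open scoped Pointwise

variable {G : Type*} [Group G] (P : Cfsg.BNPair G)

/-- B ∩ N inside N. -/
abbrev torus : Subgroup P.N := (P.B ⊓ P.N).subgroupOf P.N

instance torus_normal : (torus P).Normal := by
  constructor
  intro t ht n
  simp only [Subgroup.mem_subgroupOf] at ht ⊢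
  exact ⟨P.conj_mem n n.2 t ht, (n * t * n⁻¹).2⟩

theorem mem_torus {n : P.N} : n ∈ torus P ↔ (n : G) ∈ P.B := by
  simp [Subgroup.mem_subgroupOf]

/-- The Weyl group. -/
abbrev Weyl : Type _ := P.N ⧸ torus P

/-- The projection to the Weyl group. -/
abbrev proj : P.N →* Weyl P := QuotientGroup.mk' (torus P)

theorem proj_eq {m n : P.N} : proj P m = proj P n ↔ (m : G)⁻¹ * n ∈ P.B := by
  rw [show proj P m = (m : Weyl P) from rfl, show proj P n = (n : Weyl P) from rfl,
    QuotientGroup.eq, mem_torus]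
  simp

theorem proj_eq_one {n : P.N} : proj P n = 1 ↔ (n : G) ∈ P.B := by
  rw [show proj P n = (n : Weyl P) from rfl, QuotientGroup.eq_one_iff, mem_torus]

theorem proj_surj (w : Weyl P) : ∃ n : P.N, proj P n = w := QuotientGroup.mk'_surjective _ w

/-- A distinguished representative as an element of N. -/
def sN (s : P.S) : P.N := ⟨s.1, P.subset s.2⟩

/-- A simple reflection. -/
def refl (s : P.S) : Weyl P := proj P (sN P s)

theorem refl_mul_self (s : P.S) : refl P s * refl P s = 1 := by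
  rw [refl, ← map_mul, proj_eq_one]
  exact P.sq_mem s.1 s.2

theorem refl_inv (s : P.S) : (refl P s)⁻¹ = refl P s :=
  inv_eq_of_mul_eq_one_right (refl_mul_self P s)

theorem refl_cancel (s : P.S) (w : Weyl P) : refl P s * (refl P s * w) = w := by
  rw [← mul_assoc, refl_mul_self, one_mul]

theorem refl_inj {s r : P.S} (h : refl P s = refl P r) : s = r :=
  Subtype.ext (P.inj s.1 s.2 r.1 r.2 ((proj_eq P).1 h))

theorem s_notMem_B (s : P.S) : (s : G) ∉ P.B := by
  intro h
  refine P.conj_ne s.1 s.2 (Set.ext fun x => ⟨?_, fun hx => ?_⟩)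
  · rintro ⟨b, hb, rfl⟩
    exact mul_mem (mul_mem h hb) h
  · exact ⟨(s : G)⁻¹ * x * (s : G)⁻¹, mul_mem (mul_mem (inv_mem h) hx) (inv_mem h), by group⟩

theorem refl_ne_one (s : P.S) : refl P s ≠ 1 := fun h =>
  s_notMem_B P s ((proj_eq_one P).1 h)

theorem sq_inv_mem (s : P.S) : ((s : G) * s)⁻¹ ∈ P.B := inv_mem (P.sq_mem s.1 s.2)

/-! ### Words -/

/-- Product of a word in the simple reflections. -/
def wprod (l : List P.S) : Weyl P := (l.map (refl P)).prod

@[simp] theorem wprod_nil : wprod P [] = 1 := rfl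

@[simp] theorem wprod_cons (s : P.S) (l : List P.S) : wprod P (s :: l) = refl P s * wprod P l := by
  simp [wprod]

@[simp] theorem wprod_append (a b : List P.S) : wprod P (a ++ b) = wprod P a * wprod P b := by
  simp [wprod]

theorem wprod_reverse (l : List P.S) : wprod P l.reverse = (wprod P l)⁻¹ := by
  induction l with
  | nil => simp
  | cons s l ih => simp [ih, refl_inv]

theorem closure_S_le_N : Subgroup.closure P.S ≤ P.N :=
  (Subgroup.closure_le _).2 P.subset

theorem exists_word_of_mem_closure {J : Set G} (hJ : J ⊆ P.S) {n : G}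
    (hn : n ∈ Subgroup.closure J) :
    ∃ (hN : n ∈ P.N) (l : List P.S), (∀ s ∈ l, (s : G) ∈ J) ∧ proj P ⟨n, hN⟩ = wprod P l := by
  induction hn using Subgroup.closure_induction with
  | mem x hx =>
    refine ⟨P.subset (hJ hx), [⟨x, hJ hx⟩], ?_, ?_⟩
    · simpa using hx
    · simp [refl, sN]
  | one => exact ⟨one_mem _, [], by simp, (proj_eq_one P).2 (one_mem _)⟩
  | mul x y hx hy ihx ihy =>
    obtain ⟨hxN, l, hl, el⟩ := ihx
    obtain ⟨hyN, k, hk, ek⟩ := ihy
    refine ⟨mul_mem hxN hyN, l ++ k, ?_, ?_⟩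
    · intro s hs
      rcases List.mem_append.1 hs with h | h
      · exact hl s h
      · exact hk s h
    · rw [wprod_append, ← el, ← ek, ← map_mul]; rfl
  | inv x hx ih =>
    obtain ⟨hxN, l, hl, el⟩ := ih
    refine ⟨inv_mem hxN, l.reverse, by simpa using hl, ?_⟩
    rw [wprod_reverse, ← el, ← map_inv]; rfl

theorem exists_rep_of_word (l : List P.S) :
    ∃ n : P.N, (n : G) ∈ Subgroup.closure {x : G | ∃ s ∈ l, (s : G) = x} ∧ proj P n = wprod P l := by
  induction l with
  | nil => exact ⟨1, one_mem _, by simp⟩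
  | cons s l ih =>
    obtain ⟨n, hn, en⟩ := ih
    refine ⟨sN P s * n, mul_mem (Subgroup.subset_closure ⟨s, by simp, rfl⟩) ?_, ?_⟩
    · refine Subgroup.closure_mono ?_ hn
      rintro x ⟨r, hr, e⟩
      exact ⟨r, by simp [hr], e⟩
    · rw [map_mul, wprod_cons, en]; rfl

theorem torus_sup : P.N = Subgroup.closure P.S ⊔ (P.B ⊓ P.N) := P.closure_sup.symm

theorem exists_word (w : Weyl P) : ∃ l : List P.S, wprod P l = w := by
  obtain ⟨n, rfl⟩ := proj_surj P w
  have key : ∀ x : G, x ∈ Subgroup.closure P.S ⊔ (P.B ⊓ P.N) →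
      ∃ (hN : x ∈ P.N) (l : List P.S), proj P ⟨x, hN⟩ = wprod P l := by
    intro x hx
    rw [Subgroup.sup_eq_closure] at hx
    induction hx using Subgroup.closure_induction with
    | mem y hy =>
      rcases hy with hy | hy
      · obtain ⟨h, l, -, e⟩ := exists_word_of_mem_closure P subset_rfl hy
        exact ⟨h, l, e⟩
      · exact ⟨hy.2, [], (proj_eq_one P).2 hy.1⟩
    | one => exact ⟨one_mem _, [], (proj_eq_one P).2 (one_mem _)⟩
    | mul x y hx hy ihx ihy =>
      obtain ⟨hxN, l, el⟩ := ihx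
      obtain ⟨hyN, k, ek⟩ := ihy
      refine ⟨mul_mem hxN hyN, l ++ k, ?_⟩
      rw [wprod_append, ← el, ← ek, ← map_mul]; rfl
    | inv x hx ih =>
      obtain ⟨hxN, l, el⟩ := ih
      refine ⟨inv_mem hxN, l.reverse, ?_⟩
      rw [wprod_reverse, ← el, ← map_inv]; rfl
  obtain ⟨_, l, e⟩ := key n.1 (by rw [P.closure_sup]; exact n.2)
  exact ⟨l, e.symm⟩

open Classical in
/-- Length of an element of the Weyl group. -/
noncomputable def len (w : Weyl P) : ℕ :=
  Nat.find (p := fun k => ∃ l : List P.S, l.length = k ∧ wprod P l = w)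
    (let ⟨l, hl⟩ := exists_word P w; ⟨l.length, l, rfl, hl⟩)

theorem exists_reduced (w : Weyl P) : ∃ l : List P.S, l.length = len P w ∧ wprod P l = w := by
  classical
  exact Nat.find_spec (p := fun k => ∃ l : List P.S, l.length = k ∧ wprod P l = w)
    (let ⟨l, hl⟩ := exists_word P w; ⟨l.length, l, rfl, hl⟩)

theorem len_le (l : List P.S) : len P (wprod P l) ≤ l.length := by
  classical
  exact Nat.find_min' _ ⟨l, rfl, rfl⟩

theorem len_one : len P 1 = 0 := Nat.le_zero.1 (len_le P [])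

theorem eq_one_of_len (w : Weyl P) (h : len P w = 0) : w = 1 := by
  obtain ⟨l, hl, hw⟩ := exists_reduced P w
  rw [h] at hl
  rw [← hw, List.eq_nil_of_length_eq_zero hl, wprod_nil]

theorem len_refl_mul_le (s : P.S) (w : Weyl P) : len P (refl P s * w) ≤ len P w + 1 := by
  obtain ⟨l, hl, hw⟩ := exists_reduced P w
  have := len_le P (s :: l)
  simp only [wprod_cons, hw, List.length_cons] at this
  omega

theorem len_le_refl_mul (s : P.S) (w : Weyl P) : len P w ≤ len P (refl P s * w) + 1 := by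
  simpa [refl_cancel] using len_refl_mul_le P s (refl P s * w)

theorem len_inv (w : Weyl P) : len P w⁻¹ = len P w := by
  have key : ∀ v : Weyl P, len P v⁻¹ ≤ len P v := fun v => by
    obtain ⟨l, hl, hw⟩ := exists_reduced P v
    have := len_le P l.reverse
    rw [wprod_reverse, hw, List.length_reverse, hl] at this
    exact this
  have := key w⁻¹
  rw [inv_inv] at this
  exact le_antisymm (key w) this

theorem len_refl (s : P.S) : len P (refl P s) = 1 := by
  have h1 := len_le P [s]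
  simp at h1
  rcases Nat.eq_zero_or_pos (len P (refl P s)) with h | h
  · exact absurd (eq_one_of_len P _ h) (refl_ne_one P s)
  · omega

theorem exists_first (w : Weyl P) (hw : w ≠ 1) :
    ∃ s : P.S, len P (refl P s * w) + 1 = len P w := by
  obtain ⟨l, hl, e⟩ := exists_reduced P w
  cases l with
  | nil => exact absurd e.symm (by simpa using hw)
  | cons s l =>
    refine ⟨s, ?_⟩
    have h1 := len_le P l
    have h2 := len_le_refl_mul P s w
    have e2 : refl P s * w = wprod P l := by rw [← e, wprod_cons, refl_cancel]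
    rw [e2] at h2 ⊢
    simp at hl
    omega

theorem exists_last (w : Weyl P) (hw : w ≠ 1) :
    ∃ (v : Weyl P) (r : P.S), w = v * refl P r ∧ len P v + 1 = len P w := by
  obtain ⟨r, hr⟩ := exists_first P w⁻¹ (by simpa using hw)
  refine ⟨(refl P r * w⁻¹)⁻¹, r, ?_, ?_⟩
  · simp
  · rw [len_inv]; rw [len_inv P w] at hr; exact hr

/-! ### Cells -/

/-- The double coset attached to an element of the Weyl group. -/
def cell (w : Weyl P) : Set G :=
  {x | ∃ n : P.N, proj P n = w ∧ ∃ b₁ ∈ P.B, ∃ b₂ ∈ P.B, x = b₁ * n * b₂}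

theorem mem_cell_self (n : P.N) : (n : G) ∈ cell P (proj P n) :=
  ⟨n, rfl, 1, one_mem _, 1, one_mem _, by simp⟩

theorem cell_nonempty (w : Weyl P) : (cell P w).Nonempty := by
  obtain ⟨n, rfl⟩ := proj_surj P w
  exact ⟨n, mem_cell_self P n⟩

theorem mem_cell_proj {n : P.N} {x : G} :
    x ∈ cell P (proj P n) ↔ ∃ b₁ ∈ P.B, ∃ b₂ ∈ P.B, x = b₁ * n * b₂ := by
  constructor
  · rintro ⟨m, hm, b₁, h₁, b₂, h₂, rfl⟩
    refine ⟨b₁, h₁, ((n : G)⁻¹ * m) * b₂, mul_mem ((proj_eq P).1 hm.symm) h₂, ?_⟩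
    group
  · rintro ⟨b₁, h₁, b₂, h₂, rfl⟩
    exact ⟨n, rfl, b₁, h₁, b₂, h₂, rfl⟩

theorem cell_one : cell P 1 = (P.B : Set G) := by
  ext x
  rw [← map_one (proj P), mem_cell_proj]
  constructor
  · rintro ⟨b₁, h₁, b₂, h₂, rfl⟩; simpa using mul_mem h₁ h₂
  · intro hx; exact ⟨x, hx, 1, one_mem _, by simp⟩

theorem cell_B_mul {w : Weyl P} {b x : G} (hb : b ∈ P.B) (hx : x ∈ cell P w) :
    b * x ∈ cell P w := by
  obtain ⟨n, hn, b₁, h₁, b₂, h₂, rfl⟩ := hx
  exact ⟨n, hn, b * b₁, mul_mem hb h₁, b₂, h₂, by group⟩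

theorem cell_mul_B {w : Weyl P} {b x : G} (hb : b ∈ P.B) (hx : x ∈ cell P w) :
    x * b ∈ cell P w := by
  obtain ⟨n, hn, b₁, h₁, b₂, h₂, rfl⟩ := hx
  exact ⟨n, hn, b₁, h₁, b₂ * b, mul_mem h₂ hb, by group⟩

theorem cell_inv {w : Weyl P} {x : G} (hx : x ∈ cell P w) : x⁻¹ ∈ cell P w⁻¹ := by
  obtain ⟨n, hn, b₁, h₁, b₂, h₂, rfl⟩ := hx
  exact ⟨n⁻¹, by rw [map_inv, hn], b₂⁻¹, inv_mem h₂, b₁⁻¹, inv_mem h₁, by simp [mul_assoc]⟩

theorem cell_eq_of_mem {v w : Weyl P} {x : G} (hv : x ∈ cell P v) (hw : x ∈ cell P w) :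
    cell P v = cell P w := by
  obtain ⟨n, hn, b₁, h₁, b₂, h₂, e⟩ := hv
  obtain ⟨m, hm, c₁, k₁, c₂, k₂, e'⟩ := hw
  subst hn hm
  have hmn : (m : G) = c₁⁻¹ * b₁ * n * b₂ * c₂⁻¹ := by
    have : c₁ * (m : G) * c₂ = b₁ * n * b₂ := e'.symm.trans e
    calc (m : G) = c₁⁻¹ * (c₁ * (m : G) * c₂) * c₂⁻¹ := by group
      _ = _ := by rw [this]; group
  have hnm : (n : G) = b₁⁻¹ * c₁ * m * c₂ * b₂⁻¹ := by rw [hmn]; group
  ext y
  rw [mem_cell_proj, mem_cell_proj]
  constructor
  · rintro ⟨a₁, l₁, a₂, l₂, rfl⟩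
    refine ⟨a₁ * (b₁⁻¹ * c₁), mul_mem l₁ (mul_mem (inv_mem h₁) k₁),
      c₂ * b₂⁻¹ * a₂, mul_mem (mul_mem k₂ (inv_mem h₂)) l₂, ?_⟩
    rw [hnm]; group
  · rintro ⟨a₁, l₁, a₂, l₂, rfl⟩
    refine ⟨a₁ * (c₁⁻¹ * b₁), mul_mem l₁ (mul_mem (inv_mem k₁) h₁),
      b₂ * c₂⁻¹ * a₂, mul_mem (mul_mem h₂ (inv_mem k₂)) l₂, ?_⟩
    rw [hmn]; group

theorem cell_refl_mul {s : P.S} {w : Weyl P} {x y : G}
    (hx : x ∈ cell P (refl P s)) (hy : y ∈ cell P w) :
    x * y ∈ cell P (refl P s * w) ∨ x * y ∈ cell P w := by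
  obtain ⟨n, rfl⟩ := proj_surj P w
  obtain ⟨b₁, h₁, b₂, h₂, rfl⟩ := (mem_cell_proj P).1 hx
  obtain ⟨c₁, k₁, c₂, k₂, rfl⟩ := (mem_cell_proj P).1 hy
  have e : b₁ * (sN P s : G) * b₂ * (c₁ * n * c₂) = b₁ * ((s : G) * (b₂ * c₁) * n) * c₂ := by
    simp [sN, mul_assoc]
  rw [e]
  rcases P.mul_mem_union s.1 s.2 n.1 n.2 (b₂ * c₁) (mul_mem h₂ k₁) with h | h
  · obtain ⟨a₁, l₁, a₂, l₂, e'⟩ := DoubleCoset.mem_doubleCoset.1 h
    left
    rw [refl, ← map_mul, mem_cell_proj]
    exact ⟨b₁ * a₁, mul_mem h₁ l₁, a₂ * c₂, mul_mem l₂ k₂, by rw [e']; simp [sN, mul_assoc]⟩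
  · obtain ⟨a₁, l₁, a₂, l₂, e'⟩ := DoubleCoset.mem_doubleCoset.1 h
    right
    rw [mem_cell_proj]
    exact ⟨b₁ * a₁, mul_mem h₁ l₁, a₂ * c₂, mul_mem l₂ k₂, by rw [e']; simp [mul_assoc]⟩

theorem cell_mul_refl {s : P.S} {w : Weyl P} {x y : G}
    (hx : x ∈ cell P w) (hy : y ∈ cell P (refl P s)) :
    x * y ∈ cell P (w * refl P s) ∨ x * y ∈ cell P w := by
  have h := cell_refl_mul P (s := s) (w := w⁻¹) (x := y⁻¹) (y := x⁻¹)
    (by simpa [refl_inv] using cell_inv P hy) (cell_inv P hx)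
  rcases h with h | h
  · left; simpa [refl_inv] using cell_inv P h
  · right; simpa using cell_inv P h

theorem exists_mul_cell (s : P.S) (w : Weyl P) :
    ∃ x ∈ cell P (refl P s), ∃ y ∈ cell P w, x * y ∈ cell P (refl P s * w) := by
  obtain ⟨n, rfl⟩ := proj_surj P w
  exact ⟨_, mem_cell_self P (sN P s), _, mem_cell_self P n, by
    rw [refl, ← map_mul]; exact mem_cell_self P (sN P s * n)⟩

theorem cell_inj : ∀ {v w : Weyl P}, cell P v = cell P w → v = w := by
  suffices key : ∀ (k : ℕ) (v w : Weyl P), len P v = k → k ≤ len P w → cell P v = cell P w → v = w by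
    intro v w h
    rcases le_total (len P v) (len P w) with hle | hle
    · exact key _ v w rfl hle h
    · exact (key _ w v rfl hle h.symm).symm
  intro k
  induction k with
  | zero =>
    intro v w hv _ h
    rw [eq_one_of_len P v hv, cell_one] at h
    obtain ⟨n, rfl⟩ := proj_surj P w
    rw [eq_one_of_len P v hv, eq_comm, proj_eq_one]
    have := mem_cell_self P n
    rw [← h] at this
    exact this
  | succ k ih =>
    intro v w hv hw h
    obtain ⟨s, hs⟩ := exists_first P v (fun e => by simp [e, len_one] at hv)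
    have hv' : len P (refl P s * v) = k := by omega
    obtain ⟨x, hx, y, hy, hxy⟩ := exists_mul_cell P s (refl P s * v)
    rw [refl_cancel, h] at hxy
    have hy2 : y = x⁻¹ * (x * y) := by group
    have hxi : x⁻¹ ∈ cell P (refl P s) := by simpa [refl_inv] using cell_inv P hx
    rcases cell_refl_mul P hxi hxy with hm | hm
    · rw [← hy2] at hm
      have := ih _ _ hv' (by have := len_le_refl_mul P s w; omega) (cell_eq_of_mem P hy hm)
      exact mul_left_cancel this
    · rw [← hy2] at hm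
      have := ih _ _ hv' (by omega) (cell_eq_of_mem P hy hm)
      rw [this] at hv'
      omega

theorem cell_unique {v w : Weyl P} {x : G} (hv : x ∈ cell P v) (hw : x ∈ cell P w) : v = w :=
  cell_inj P (cell_eq_of_mem P hv hw)

/-- If `C(s) C(w)` meets `C(w)` and `ℓ(w r) = ℓ(w) - 1`, while `C(s) C(wr)` does not fall back,
then `s (w r) = w`. -/
theorem exchange_step {s r : P.S} {v : Weyl P}
    (hv : ∀ x ∈ cell P (refl P s), ∀ y ∈ cell P v, x * y ∈ cell P (refl P s * v))
    {x y : G} (hx : x ∈ cell P (refl P s)) (hy : y ∈ cell P (v * refl P r))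
    (hxy : x * y ∈ cell P (v * refl P r)) : refl P s * v = v * refl P r := by
  obtain ⟨n, rfl⟩ := proj_surj P v
  rw [refl, ← map_mul] at hy hxy ⊢
  obtain ⟨c₁, k₁, c₂, k₂, hy'⟩ := (mem_cell_proj P).1 hy
  obtain ⟨a₁, l₁, a₂, l₂, hxy'⟩ := (mem_cell_proj P).1 hxy
  -- x * c₁ * n = (a₁ * n) * (r * (a₂ * c₂⁻¹) * r⁻¹)
  have e : x * (c₁ * n) = (a₁ * n) * ((r : G) * (a₂ * c₂⁻¹) * (r : G)⁻¹) := by
    have : x * y = a₁ * ((n * sN P r : P.N) : G) * a₂ := hxy'
    rw [hy'] at this
    simp only [Subgroup.coe_mul, sN] at this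
    calc x * (c₁ * n) = (x * (c₁ * ((n : G) * r) * c₂)) * c₂⁻¹ * (r : G)⁻¹ := by group
      _ = _ := by rw [this]; group
  have hL : x * (c₁ * n) ∈ cell P (refl P s * proj P n) :=
    hv x hx _ (cell_B_mul P k₁ (mem_cell_self P n))
  rw [e] at hL
  have hr : (r : G) ∈ cell P (refl P r) := mem_cell_self P (sN P r)
  have hrinv : (r : G)⁻¹ ∈ cell P (refl P r) := by simpa [refl_inv] using cell_inv P hr
  have hb : a₂ * c₂⁻¹ ∈ P.B := mul_mem l₂ (inv_mem k₂)
  have han : a₁ * (n : G) ∈ cell P (proj P n) := cell_B_mul P l₁ (mem_cell_self P n)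
  have hne : refl P s * proj P n ≠ proj P n := fun h => refl_ne_one P s (by simpa using h)
  rcases cell_refl_mul P (cell_mul_B P hb hr) hrinv with h | h
  · rw [refl_mul_self, cell_one] at h
    exact absurd (cell_unique P hL (cell_mul_B P h han)) hne
  · rcases cell_mul_refl P han h with h' | h'
    · exact cell_unique P hL h'
    · exact absurd (cell_unique P hL h') hne

theorem mul_cell_of_len_le : ∀ (w : Weyl P) {s : P.S}, len P w ≤ len P (refl P s * w) →
    ∀ x ∈ cell P (refl P s), ∀ y ∈ cell P w, x * y ∈ cell P (refl P s * w) := by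
  intro w
  induction h : len P w using Nat.strong_induction_on generalizing w with
  | _ k ih =>
    subst h
    intro s hle x hx y hy
    rcases cell_refl_mul P hx hy with hr | hr
    · exact hr
    exfalso
    by_cases hw : w = 1
    · subst hw
      rw [cell_one] at hy hr
      have hxB : x ∈ P.B := by simpa using mul_mem hr (inv_mem hy)
      exact refl_ne_one P s (cell_unique P hx (by rw [cell_one]; exact hxB))
    obtain ⟨v, r, rfl, hlen⟩ := exists_last P w hw
    have h1 : len P (refl P s * (v * refl P r)) ≤ len P (refl P s * v) + 1 := by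
      have := len_refl_mul_le P r (refl P s * v)⁻¹
      rw [len_inv] at this
      rw [← len_inv]
      simpa [mul_assoc, refl_inv] using this
    have h2 := exchange_step P (ih (len P v) (by omega) v rfl (by omega)) hx hy hr
    have h3 : refl P s * (v * refl P r) = v := by rw [← h2, refl_cancel]
    rw [h3] at hle
    omega

theorem exists_stay (s : P.S) :
    ∃ x ∈ cell P (refl P s), ∃ y ∈ cell P (refl P s), x * y ∈ cell P (refl P s) := by
  by_contra hcon
  push Not at hcon
  have hs : (s : G) ∈ cell P (refl P s) := mem_cell_self P (sN P s)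
  have hsub : ∀ b ∈ P.B, (s : G) * b * s ∈ P.B := by
    intro b hb
    rcases cell_refl_mul P (cell_mul_B P hb hs) hs with h | h
    · rwa [refl_mul_self, cell_one] at h
    · exact absurd h (hcon _ (cell_mul_B P hb hs) _ hs)
  refine P.conj_ne s.1 s.2 (Set.ext fun z => ⟨?_, fun hz => ?_⟩)
  · rintro ⟨b, hb, rfl⟩; exact hsub b hb
  · refine ⟨(s : G)⁻¹ * z * (s : G)⁻¹, ?_, by group⟩
    have h1 := hsub z hz
    have e : (s : G)⁻¹ * z * (s : G)⁻¹ =
        ((s : G) * s)⁻¹ * ((s : G) * z * s) * ((s : G) * s)⁻¹ := by group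
    show _ ∈ P.B
    rw [e]
    exact mul_mem (mul_mem (sq_inv_mem P s) h1) (sq_inv_mem P s)

theorem cell_subset_mul {s : P.S} {w : Weyl P} {z : G}
    (h : len P (refl P s * w) < len P w) (hz : z ∈ cell P w) :
    ∃ x ∈ cell P (refl P s), ∃ y ∈ cell P w, z = x * y := by
  obtain ⟨n, rfl⟩ := proj_surj P w
  obtain ⟨c₁, k₁, c₂, k₂, rfl⟩ := (mem_cell_proj P).1 hz
  obtain ⟨x, hx, y, hy, hxy⟩ := exists_stay P s
  -- every element of C(s) is a product x y
  obtain ⟨p₁, q₁, p₂, q₂, exy⟩ := (mem_cell_proj P (n := sN P s)).1 hxy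
  obtain ⟨v, hv⟩ : ∃ v, v = refl P s * proj P n := ⟨_, rfl⟩
  have hv' : proj P n = refl P s * v := by rw [hv, refl_cancel]
  obtain ⟨m, hm⟩ := proj_surj P v
  have hs : (n : G) ∈ cell P (refl P s * v) := by rw [← hv']; exact mem_cell_self P n
  rw [← hm, refl, ← map_mul] at hs
  obtain ⟨d₁, e₁, d₂, e₂, en⟩ := (mem_cell_proj P).1 hs
  have hup : len P v ≤ len P (refl P s * v) := by rw [← hv']; rw [← hv] at h; omega
  refine ⟨c₁ * d₁ * p₁⁻¹ * x, cell_B_mul P (mul_mem (mul_mem k₁ e₁) (inv_mem q₁)) hx,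
    y * p₂⁻¹ * ((m : G) * d₂ * c₂), ?_, ?_⟩
  · rw [hv']
    exact mul_cell_of_len_le P v hup _ (cell_mul_B P (inv_mem q₂) hy) _
      (cell_mul_B P k₂ (cell_mul_B P e₂ (hm ▸ mem_cell_self P m)))
  · rw [en]
    have : y = x⁻¹ * (x * y) := by group
    rw [this, exy]
    simp [mul_assoc]

theorem len_refl_mul_ne (s : P.S) (w : Weyl P) : len P (refl P s * w) ≠ len P w := by
  intro h
  -- both shapes: C(s) C(w) = C(s w), but some x * y stays in C(w)
  obtain ⟨x, hx, y, hy, hxy⟩ := exists_stay P s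
  obtain ⟨z, hz⟩ := cell_nonempty P (refl P s * w)
  have hyz : y * z ∈ cell P w := by
    simpa [refl_cancel] using
      mul_cell_of_len_le P (refl P s * w) (s := s) (by simp [refl_cancel, h]) y hy z hz
  have h1 := mul_cell_of_len_le P w (s := s) h.ge x hx _ hyz
  have h2 : x * y * z ∈ cell P w := by
    simpa [refl_cancel] using
      mul_cell_of_len_le P (refl P s * w) (s := s) (by simp [refl_cancel, h]) _ hxy z hz
  rw [← mul_assoc] at h1
  exact refl_ne_one P s (by simpa using cell_unique P h1 h2)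

/-- The exchange condition. -/
theorem exchange {s : P.S} : ∀ (l : List P.S), l.length = len P (wprod P l) →
    len P (refl P s * wprod P l) < len P (wprod P l) →
    ∃ i < l.length, refl P s * wprod P l = wprod P (l.eraseIdx i) := by
  intro l
  induction l using List.reverseRecOn with
  | nil => intro _ h; simp [len_one] at h
  | append_singleton l r ih =>
    intro hred hlt
    have hl : l.length = len P (wprod P l) := by
      have h1 := len_le P l
      have h2 : len P (wprod P (l ++ [r])) ≤ len P (wprod P l) + 1 := by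
        obtain ⟨k, hk, ek⟩ := exists_reduced P (wprod P l)
        have := len_le P (k ++ [r])
        simp only [wprod_append, ek, List.length_append, List.length_singleton, hk] at this ⊢
        exact this
      simp only [List.length_append, List.length_singleton] at hred
      omega
    by_cases hc : len P (refl P s * wprod P l) < len P (wprod P l)
    · obtain ⟨i, hi, e⟩ := ih hl hc
      refine ⟨i, by simp; omega, ?_⟩
      rw [List.eraseIdx_append_of_lt_length hi, wprod_append, wprod_append, ← e, mul_assoc]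
    · refine ⟨l.length, by simp, ?_⟩
      obtain ⟨z, hz⟩ := cell_nonempty P (wprod P (l ++ [r]))
      obtain ⟨x, hx, y, hy, rfl⟩ := cell_subset_mul P hlt hz
      simp only [wprod_append, wprod_cons, wprod_nil, mul_one] at hy hz hlt ⊢
      have := exchange_step P (mul_cell_of_len_le P _ (le_of_not_gt hc)) hx hy hz
      rw [List.eraseIdx_append_of_length_le le_rfl]
      simp [← this, refl_cancel]

/-! ### Parabolic subgroups -/

/-- The subgroup of the Weyl group attached to a set of representatives. -/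
def weylPara (J : Set G) : Subgroup (Weyl P) :=
  Subgroup.closure {w | ∃ s : P.S, (s : G) ∈ J ∧ refl P s = w}

theorem refl_mem_weylPara {J : Set G} {s : P.S} (hs : (s : G) ∈ J) : refl P s ∈ weylPara P J :=
  Subgroup.subset_closure ⟨s, hs, rfl⟩

theorem wprod_mem_weylPara {J : Set G} {l : List P.S} (hl : ∀ s ∈ l, (s : G) ∈ J) :
    wprod P l ∈ weylPara P J := by
  induction l with
  | nil => exact one_mem _
  | cons s l ih =>
    rw [wprod_cons]
    exact mul_mem (refl_mem_weylPara P (hl s (by simp))) (ih fun r hr => hl r (by simp [hr]))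

/-- An element of a parabolic subgroup has a reduced word in its generators. -/
theorem reduced_word_of_mem {J : Set G} {w : Weyl P} (hw : w ∈ weylPara P J) :
    ∃ l : List P.S, l.length = len P w ∧ wprod P l = w ∧ ∀ s ∈ l, (s : G) ∈ J := by
  have base : ∃ l : List P.S, wprod P l = w ∧ ∀ s ∈ l, (s : G) ∈ J := by
    induction hw using Subgroup.closure_induction with
    | mem x hx =>
      obtain ⟨s, hs, rfl⟩ := hx
      exact ⟨[s], by simp, by simpa using hs⟩
    | one => exact ⟨[], by simp, by simp⟩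
    | mul x y _ _ ihx ihy =>
      obtain ⟨l, el, hl⟩ := ihx
      obtain ⟨k, ek, hk⟩ := ihy
      exact ⟨l ++ k, by simp [el, ek], fun s hs => (List.mem_append.1 hs).elim (hl s) (hk s)⟩
    | inv x _ ih =>
      obtain ⟨l, el, hl⟩ := ih
      exact ⟨l.reverse, by simp [wprod_reverse, el], fun s hs => hl s (List.mem_reverse.1 hs)⟩
  -- shorten
  have short : ∀ l : List P.S, len P (wprod P l) < l.length →
      ∃ k : List P.S, k.length < l.length ∧ wprod P k = wprod P l ∧ ∀ r ∈ k, r ∈ l := by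
    intro l
    induction l with
    | nil => intro h; simp at h
    | cons s l ih =>
      intro h
      by_cases hl : len P (wprod P l) < l.length
      · obtain ⟨k, hk, ek, hm⟩ := ih hl
        exact ⟨s :: k, by simpa using hk, by simp [ek],
          fun r hr => by rcases List.mem_cons.1 hr with e | e <;> simp [*]⟩
      · have hred : l.length = len P (wprod P l) := le_antisymm (le_of_not_gt hl) (len_le P l)
        simp only [wprod_cons, List.length_cons] at h
        have hlt : len P (refl P s * wprod P l) < len P (wprod P l) :=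
          lt_of_le_of_ne (by omega) (len_refl_mul_ne P s _)
        obtain ⟨i, hi, e⟩ := exchange P l hred hlt
        refine ⟨l.eraseIdx i, ?_, by rw [wprod_cons, ← e],
          fun r hr => List.mem_cons_of_mem _ (List.mem_of_mem_eraseIdx hr)⟩
        rw [List.length_eraseIdx_of_lt hi, List.length_cons]
        omega
  obtain ⟨l, el, hl⟩ := base
  induction hn : l.length using Nat.strong_induction_on generalizing l with
  | _ k ih =>
    subst hn el
    by_cases h : len P (wprod P l) < l.length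
    · obtain ⟨k, hk, ek, hm⟩ := short l h
      exact ih k.length hk k ek (fun s hs => hl s (hm s hs)) rfl
    · exact ⟨l, le_antisymm (le_of_not_gt h) (len_le P l), rfl, hl⟩

theorem refl_mem_weylPara_iff {J : Set G} {s : P.S} : refl P s ∈ weylPara P J ↔ (s : G) ∈ J := by
  refine ⟨fun h => ?_, refl_mem_weylPara P⟩
  obtain ⟨l, hl, e, hJ⟩ := reduced_word_of_mem P h
  rw [len_refl] at hl
  obtain ⟨r, rfl⟩ := List.length_eq_one_iff.1 hl
  simp only [wprod_cons, wprod_nil, mul_one] at e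
  rw [← refl_inj P e]
  exact hJ r (by simp)

theorem weylPara_inf {J K : Set G} {w : Weyl P} (hJ : w ∈ weylPara P J) (hK : w ∈ weylPara P K) :
    w ∈ weylPara P (J ∩ K) := by
  induction h : len P w using Nat.strong_induction_on generalizing w with
  | _ k ih =>
    subst h
    by_cases hw : w = 1
    · rw [hw]; exact one_mem _
    obtain ⟨l, hl, el, hlJ⟩ := reduced_word_of_mem P hJ
    cases l with
    | nil => exact absurd el.symm (by simpa using hw)
    | cons s l =>
      have hsJ : (s : G) ∈ J := hlJ s (by simp)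
      have e : refl P s * w = wprod P l := by rw [← el, wprod_cons, refl_cancel]
      have hlt : len P (refl P s * w) < len P w := by
        rw [e]; have := len_le P l; simp at hl; omega
      obtain ⟨k, hk, ek, hkK⟩ := reduced_word_of_mem P hK
      subst ek
      obtain ⟨i, -, ei⟩ := exchange P k hk hlt
      have hsw : refl P s * wprod P k ∈ weylPara P K := by
        rw [ei]; exact wprod_mem_weylPara P fun r hr => hkK r (List.mem_of_mem_eraseIdx hr)
      have hsK : refl P s ∈ weylPara P K := by simpa using mul_mem hsw (inv_mem hK)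
      have h1 := ih _ hlt (mul_mem (refl_mem_weylPara P hsJ) hJ) hsw rfl
      have h2 := mul_mem (refl_mem_weylPara P
        (J := J ∩ K) ⟨hsJ, (refl_mem_weylPara_iff P).1 hsK⟩) h1
      rwa [refl_cancel] at h2

theorem mem_parabolic_iff {J : Set G} (hJ : J ⊆ P.S) {g : G} :
    g ∈ P.parabolic J ↔ ∃ w ∈ weylPara P J, g ∈ cell P w := by
  have hB : P.B ≤ P.parabolic J := le_sup_left
  have hJ' : Subgroup.closure J ≤ P.parabolic J := le_sup_right
  constructor
  · intro hg
    let U : Set G := {x | ∃ w ∈ weylPara P J, x ∈ cell P w}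
    have hstab : ∀ s : P.S, (s : G) ∈ J → ∀ x ∈ cell P (refl P s), ∀ y ∈ U, x * y ∈ U := by
      rintro s hs x hx y ⟨w, hw, hy⟩
      rcases cell_refl_mul P hx hy with h | h
      · exact ⟨_, mul_mem (refl_mem_weylPara P hs) hw, h⟩
      · exact ⟨w, hw, h⟩
    let K : Subgroup G :=
      { carrier := {x | (∀ y ∈ U, x * y ∈ U) ∧ ∀ y ∈ U, x⁻¹ * y ∈ U}
        mul_mem' := by
          rintro a b ⟨ha, ha'⟩ ⟨hb, hb'⟩
          exact ⟨fun y hy => by rw [mul_assoc]; exact ha _ (hb y hy),
            fun y hy => by rw [mul_inv_rev, mul_assoc]; exact hb' _ (ha' y hy)⟩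
        one_mem' := by simp
        inv_mem' := by rintro a ⟨ha, ha'⟩; exact ⟨ha', by simpa using ha⟩ }
    have hle : P.parabolic J ≤ K := by
      refine sup_le ?_ ((Subgroup.closure_le _).2 ?_)
      · intro b hb
        exact ⟨fun y ⟨w, hw, hy⟩ => ⟨w, hw, cell_B_mul P hb hy⟩,
          fun y ⟨w, hw, hy⟩ => ⟨w, hw, cell_B_mul P (inv_mem hb) hy⟩⟩
      · intro x hx
        have hc : x ∈ cell P (refl P ⟨x, hJ hx⟩) := mem_cell_self P (sN P ⟨x, hJ hx⟩)
        exact ⟨hstab ⟨x, hJ hx⟩ hx x hc,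
          hstab ⟨x, hJ hx⟩ hx x⁻¹ (by simpa [refl_inv] using cell_inv P hc)⟩
    have := (hle hg).1 1 ⟨1, one_mem _, by rw [cell_one]; exact one_mem P.B⟩
    simpa [U] using this
  · rintro ⟨w, hw, n, rfl, b₁, h₁, b₂, h₂, rfl⟩
    obtain ⟨l, -, el, hlJ⟩ := reduced_word_of_mem P hw
    obtain ⟨m, hm, em⟩ := exists_rep_of_word P l
    have hm' : (m : G) ∈ P.parabolic J :=
      hJ' (Subgroup.closure_mono (by rintro x ⟨s, hs, e⟩; exact e ▸ hlJ s hs) hm)
    have hn : (n : G) ∈ P.parabolic J := by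
      have h := (proj_eq P).1 (em.trans el)
      simpa using mul_mem hm' (hB h)
    exact mul_mem (mul_mem (hB h₁) hn) (hB h₂)

theorem proj_mem_weylPara {J : Set G} (hJ : J ⊆ P.S) {n : G} (hn : n ∈ Subgroup.closure J)
    (hN : n ∈ P.N) : proj P ⟨n, hN⟩ ∈ weylPara P J := by
  obtain ⟨_, l, hl, e⟩ := exists_word_of_mem_closure P hJ hn
  rw [e]
  exact wprod_mem_weylPara P hl

theorem parabolic_S : P.parabolic P.S = ⊤ := by
  rw [eq_top_iff, ← P.sup_eq_top]
  refine sup_le le_sup_left ?_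
  conv_lhs => rw [← P.closure_sup]
  exact sup_le le_sup_right (inf_le_left.trans le_sup_left)

theorem exists_cell (g : G) : ∃ w : Weyl P, g ∈ cell P w := by
  obtain ⟨w, -, hw⟩ := (mem_parabolic_iff P subset_rfl (g := g)).1 (by simp [parabolic_S])
  exact ⟨w, hw⟩

/-- The set of distinguished representatives in a subgroup. -/
theorem eq_parabolic (M : Subgroup G) (hM : P.B ≤ M) :
    M = P.parabolic {s | s ∈ P.S ∧ s ∈ M} := by
  have hJ : {s | s ∈ P.S ∧ s ∈ M} ⊆ P.S := fun s hs => hs.1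
  refine le_antisymm (fun g hg => ?_) (sup_le hM ((Subgroup.closure_le _).2 fun s hs => hs.2))
  obtain ⟨w, hw⟩ := exists_cell P g
  refine (mem_parabolic_iff P hJ).2 ⟨w, ?_, hw⟩
  have hcell : ∀ {v : Weyl P} {x : G}, x ∈ M → x ∈ cell P v → ∀ y ∈ cell P v, y ∈ M := by
    rintro v x hx hxv y hy
    obtain ⟨n, rfl⟩ := proj_surj P v
    obtain ⟨b₁, h₁, b₂, h₂, rfl⟩ := (mem_cell_proj P).1 hxv
    obtain ⟨c₁, k₁, c₂, k₂, rfl⟩ := (mem_cell_proj P).1 hy
    have hn : (n : G) ∈ M := by
      have h : b₁⁻¹ * (b₁ * (n : G) * b₂) * b₂⁻¹ ∈ M :=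
        mul_mem (mul_mem (inv_mem (hM h₁)) hx) (inv_mem (hM h₂))
      simpa [mul_assoc] using h
    exact mul_mem (mul_mem (hM k₁) hn) (hM k₂)
  suffices key : ∀ (k : ℕ) (v : Weyl P) (x : G), x ∈ M → x ∈ cell P v → len P v = k →
      v ∈ weylPara P {s | s ∈ P.S ∧ s ∈ M} from key _ w g hg hw rfl
  intro k
  induction k using Nat.strong_induction_on with
  | _ k ih =>
    intro v x hxM hxv hk
    subst hk
    by_cases hv1 : v = 1
    · rw [hv1]; exact one_mem _
    obtain ⟨s, hs⟩ := exists_first P v hv1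
    obtain ⟨a, ha, y, hy, rfl⟩ := cell_subset_mul P (s := s) (by omega) hxv
    have hyM : y ∈ M := hcell hxM hxv y hy
    have haM : a ∈ M := by simpa using mul_mem hxM (inv_mem hyM)
    have hsM : (s : G) ∈ M := hcell haM ha _ (mem_cell_self P (sN P s))
    obtain ⟨z, hz⟩ := cell_nonempty P (refl P s * v)
    have hzy : (s : G) * z ∈ M := by
      have := mul_cell_of_len_le P (refl P s * v) (s := s) (by rw [refl_cancel]; omega) _
        (mem_cell_self P (sN P s)) z hz
      rw [refl_cancel] at this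
      exact hcell hxM hxv _ this
    have hzM : z ∈ M := by simpa using mul_mem (inv_mem hsM) hzy
    have h1 := ih _ (by omega : len P (refl P s * v) < len P v) (refl P s * v) z hzM hz rfl
    have h2 := mul_mem (refl_mem_weylPara P (J := {s | s ∈ P.S ∧ s ∈ M})
      (show (s : G) ∈ {s | s ∈ P.S ∧ s ∈ M} from ⟨s.2, hsM⟩)) h1
    rwa [refl_cancel] at h2

/-- `n` lies in the subgroup generated by `B` and `n B n⁻¹`. -/
theorem mem_of_conj_le (M : Subgroup G) (hM : P.B ≤ M) : ∀ (n : P.N),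
    (∀ b ∈ P.B, (n : G) * b * (n : G)⁻¹ ∈ M) → (n : G) ∈ M := by
  intro n
  induction h : len P (proj P n) using Nat.strong_induction_on generalizing n with
  | _ k ih =>
    subst h
    intro hn
    by_cases hw : proj P n = 1
    · exact hM ((proj_eq_one P).1 hw)
    obtain ⟨s, hs⟩ := exists_first P _ hw
    obtain ⟨x, hx, y, hy, exy⟩ := cell_subset_mul P (s := s) (by omega) (mem_cell_self P n)
    obtain ⟨b₁, h₁, b₂, h₂, rfl⟩ := (mem_cell_proj P (n := sN P s)).1 hx
    obtain ⟨c₁, k₁, c₂, k₂, rfl⟩ := (mem_cell_proj P).1 hy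
    have hsM : (s : G) ∈ M := by
      have e : (s : G) = b₁⁻¹ * ((n : G) * c₂⁻¹ * (n : G)⁻¹) * (b₂ * c₁)⁻¹ := by
        calc (s : G) = b₁⁻¹ * ((b₁ * (sN P s : G) * b₂ * (c₁ * n * c₂)) * c₂⁻¹ * (n : G)⁻¹) *
            (b₂ * c₁)⁻¹ := by simp [sN, mul_assoc]
          _ = _ := by rw [← exy]
      rw [e]
      exact mul_mem (mul_mem (inv_mem (hM h₁)) (hn _ (inv_mem k₂)))
        (inv_mem (mul_mem (hM h₂) (hM k₁)))
    have e : proj P ((sN P s)⁻¹ * n) = refl P s * proj P n := by
      rw [map_mul, map_inv, show proj P (sN P s) = refl P s from rfl, refl_inv]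
    have := ih _ (by rw [e]; omega) ((sN P s)⁻¹ * n) rfl (fun b hb => by
      simpa [sN, mul_assoc] using mul_mem (mul_mem (inv_mem hsM) (hn b hb)) hsM)
    simpa [sN] using mul_mem hsM this

end Cfsg.Agent.Lie
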