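import Cfsg.Agent.Lib.Lie.BNPair

/-! The Weyl group of a (B,N)-pair is a Coxeter group (Matsumoto's argument). -/

set_option autoImplicit false

namespace Cfsg.Agent.Lie

variable {G : Type*} [Group G] (P : Cfsg.BNPair G)

/-- The Coxeter matrix of a (B,N)-pair. -/
noncomputable def bnMatrix : CoxeterMatrix P.S where
  M := Matrix.of fun s r => orderOf (refl P s * refl P r)
  isSymm := by
    refine Matrix.IsSymm.ext fun s r => ?_
    show orderOf (refl P r * refl P s) = orderOf (refl P s * refl P r)
    rw [← orderOf_inv (refl P r * refl P s), mul_inv_rev, refl_inv, refl_inv]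
  diagonal s := by simp [refl_mul_self]
  off_diagonal s r h := by
    simp only [Matrix.of_apply, ne_eq, orderOf_eq_one_iff, mul_eq_one_iff_eq_inv, refl_inv]
    exact fun e => h (refl_inj P e)

theorem bnMatrix_liftable : (bnMatrix P).IsLiftable (refl P) :=
  fun _ _ => pow_orderOf_eq_one _

/-- The canonical map from the Coxeter group to the Weyl group. -/
noncomputable def coxHom : (bnMatrix P).Group →* Weyl P :=
  (bnMatrix P).toCoxeterSystem.lift ⟨refl P, bnMatrix_liftable P⟩

theorem coxHom_simple (s : P.S) : coxHom P ((bnMatrix P).simple s) = refl P s :=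
  (bnMatrix P).toCoxeterSystem.lift_apply_simple (bnMatrix_liftable P) s

/-- Product of a word in the Coxeter group. -/
noncomputable def gprod (l : List P.S) : (bnMatrix P).Group := (l.map (bnMatrix P).simple).prod

theorem gprod_cons (s : P.S) (l : List P.S) :
    gprod P (s :: l) = (bnMatrix P).simple s * gprod P l := by simp [gprod]

theorem coxHom_gprod (l : List P.S) : coxHom P (gprod P l) = wprod P l := by
  induction l with
  | nil => simp [gprod]
  | cons s l ih => rw [gprod_cons, map_mul, ih, coxHom_simple, wprod_cons]

/-- Alternating word beginning with `s`. -/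
def alt {α : Type*} : α → α → ℕ → List α
  | _, _, 0 => []
  | s, r, n + 1 => s :: alt r s n

theorem alt_mul {H : Type*} [Group H] {α : Type*} (f : α → H) (hf : ∀ a, f a * f a = 1) :
    ∀ (n : ℕ) (s r : α),
      ((alt s r n).map f).prod * ((alt r s n).map f).prod⁻¹ = (f s * f r) ^ n := by
  intro n
  induction n with
  | zero => intro s r; simp [alt]
  | succ n ih =>
    intro s r
    have hinv : ∀ a, (f a)⁻¹ = f a := fun a => inv_eq_of_mul_eq_one_right (hf a)
    simp only [alt, List.map_cons, List.prod_cons, mul_inv_rev, hinv]
    calc f s * ((alt r s n).map f).prod * (((alt s r n).map f).prod⁻¹ * f r)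
        = f s * (((alt r s n).map f).prod * ((alt s r n).map f).prod⁻¹) * f r := by group
      _ = f s * (f r * f s) ^ n * f r := by rw [ih r s]
      _ = (f s * f r) ^ (n + 1) := by
          rw [pow_succ', mul_assoc (f s), mul_assoc (f s)]
          congr 1
          exact ((SemiconjBy.pow_right (show SemiconjBy (f r) (f s * f r) (f r * f s) by
            simp [SemiconjBy, mul_assoc]) n).eq).symm

theorem alt_take {α : Type*} (s r : α) (k : ℕ) : (alt s r (k + 1)).take k = alt s r k := by
  induction k generalizing s r with
  | zero => simp [alt]
  | succ k ih =>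
    show s :: (alt r s (k + 1)).take k = s :: alt r s k
    rw [ih]

theorem gprod_eq_of_wprod_eq : ∀ (q : ℕ) (a b : List P.S), a.length = q → b.length = q →
    wprod P a = wprod P b → len P (wprod P a) = q → gprod P a = gprod P b := by
  intro q
  induction q with
  | zero =>
    intro a b ha hb _ _
    rw [List.eq_nil_of_length_eq_zero ha, List.eq_nil_of_length_eq_zero hb]
  | succ q ih =>
    intro a₀ b₀ ha₀ hb₀ he₀ hl₀
    by_contra hne₀
    -- a pair of words that differ
    let Bad : List P.S → List P.S → Prop := fun a b => a.length = q + 1 ∧ b.length = q + 1 ∧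
      wprod P a = wprod P b ∧ len P (wprod P a) = q + 1 ∧ gprod P a ≠ gprod P b
    have heads : ∀ (s r : P.S) (a b : List P.S), Bad (s :: a) (r :: b) → s ≠ r := by
      rintro s r a b ⟨ha, hb, he, hl, hne⟩ rfl
      simp only [List.length_cons, add_left_inj] at ha hb
      simp only [wprod_cons, mul_right_inj] at he
      simp only [wprod_cons] at hl
      have h1 := len_le P a
      have h2 := len_refl_mul_le P s (wprod P a)
      exact hne (by rw [gprod_cons, gprod_cons, ih a b ha hb he (by omega)])
    have step : ∀ (s r : P.S) (a b : List P.S), Bad (s :: a) (r :: b) →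
        Bad (r :: (s :: a).take q) (s :: a) := by
      rintro s r a b ⟨ha, hb, he, hl, hne⟩
      have hlt : len P (refl P r * wprod P (s :: a)) < len P (wprod P (s :: a)) := by
        rw [he, wprod_cons, refl_cancel]
        have h1 := len_le P b
        simp only [List.length_cons, add_left_inj] at hb
        rw [← wprod_cons, ← he, hl]
        omega
      obtain ⟨i, hi, ei⟩ := exchange P (s :: a) (by rw [ha, hl]) hlt
      have hc : wprod P (r :: (s :: a).eraseIdx i) = wprod P (s :: a) := by
        rw [wprod_cons, ← ei, refl_cancel]
      have hclen : ((s :: a).eraseIdx i).length = q := by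
        rw [List.length_eraseIdx_of_lt hi, ha]; omega
      have htail : gprod P (r :: (s :: a).eraseIdx i) = gprod P (r :: b) := by
        rw [gprod_cons, gprod_cons]
        congr 1
        simp only [List.length_cons, add_left_inj] at hb
        refine ih _ _ hclen hb ?_ ?_
        · rw [he, wprod_cons, refl_cancel] at ei
          exact ei.symm
        · rw [← ei]
          have h1 := len_le_refl_mul P r (wprod P (s :: a))
          have h2 := len_le P ((s :: a).eraseIdx i)
          rw [← ei] at h2
          omega
      by_cases hiq : i = q
      · subst hiq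
        have e : (s :: a).eraseIdx i = (s :: a).take i := by
          rw [List.eraseIdx_eq_take_drop_succ, List.drop_of_length_le (by omega), List.append_nil]
        rw [e] at hc htail hclen
        exact ⟨by simp [hclen], ha, hc, by rw [hc]; exact hl, fun h => hne (h.symm.trans htail)⟩
      · exfalso
        apply hne
        rw [← htail]
        -- common last letter
        have hane : s :: a ≠ [] := by simp
        obtain ⟨u, z, hu⟩ : ∃ u z, s :: a = u ++ [z] :=
          ⟨(s :: a).dropLast, (s :: a).getLast hane, (List.dropLast_append_getLast hane).symm⟩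
        rw [hu] at hc hl ha hclen hi ⊢
        simp only [List.length_append, List.length_singleton, add_left_inj] at ha hi
        have hi' : i < u.length := by omega
        rw [List.eraseIdx_append_of_lt_length hi'] at hc hclen ⊢
        have hlen2 : (r :: u.eraseIdx i).length = q := by
          simpa using hclen
        have hc' : wprod P (r :: u.eraseIdx i) = wprod P u := by
          have h := hc
          simp only [wprod_cons, wprod_append, ← mul_assoc, mul_left_inj] at h
          simpa using h
        have hred : len P (wprod P u) = q := by
          have h1 := len_le P u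
          obtain ⟨k, hk, ek⟩ := exists_reduced P (wprod P u)
          have h2 := len_le P (k ++ [z])
          rw [wprod_append, ek, ← wprod_append, hl, List.length_append, List.length_singleton,
            hk] at h2
          omega
        have := ih u (r :: u.eraseIdx i) ha hlen2 hc'.symm hred
        rw [gprod_cons] at this ⊢
        simp only [gprod, List.map_append, List.prod_append] at this ⊢
        rw [this, mul_assoc]
    have main : ∀ k, k ≤ q → ∃ (s r : P.S) (a b : List P.S), Bad (s :: a) (r :: b) ∧
        (s :: a).take (k + 1) = alt s r (k + 1) ∧ (r :: b).take (k + 1) = alt r s (k + 1) := by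
      intro k
      induction k with
      | zero =>
        intro _
        cases a₀ with
        | nil => simp at ha₀
        | cons s a =>
          cases b₀ with
          | nil => simp at hb₀
          | cons r b => exact ⟨s, r, a, b, ⟨ha₀, hb₀, he₀, hl₀, hne₀⟩, by simp [alt]⟩
      | succ k ihk =>
        intro hk
        obtain ⟨s, r, a, b, hbad, h1, h2⟩ := ihk (by omega)
        have hc := step s r a b hbad
        have hd := step r s _ _ hc
        -- the new pair
        refine ⟨s, r, (r :: (s :: a).take q).take q, (s :: a).take q, hd, ?_, ?_⟩
        · show _ = s :: alt r s (k + 1)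
          rw [List.take_succ_cons]
          congr 1
          rw [List.take_take, min_eq_left (by omega)]
          show _ = r :: alt s r k
          rw [List.take_succ_cons]
          congr 1
          rw [List.take_take, min_eq_left (by omega)]
          have := congrArg (List.take k) h1
          rw [List.take_take, min_eq_left (by omega)] at this
          rw [this]
          exact alt_take s r k
        · show _ = r :: alt s r (k + 1)
          rw [List.take_succ_cons]
          congr 1
          rw [List.take_take, min_eq_left (by omega)]
          exact h1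
    obtain ⟨s, r, a, b, ⟨ha, hb, he, hl, hne⟩, h1, h2⟩ := main q le_rfl
    rw [List.take_of_length_le ha.le] at h1
    rw [List.take_of_length_le hb.le] at h2
    rw [h1, h2] at he hne
    have hW : (refl P s * refl P r) ^ (q + 1) = 1 := by
      rw [← alt_mul (refl P) (refl_mul_self P) (q + 1) s r]
      exact mul_inv_eq_one.2 he
    obtain ⟨m, hm⟩ := orderOf_dvd_of_pow_eq_one hW
    apply hne
    refine mul_inv_eq_one.1 ?_
    show ((alt s r (q + 1)).map _).prod * ((alt r s (q + 1)).map _).prod⁻¹ = 1
    rw [alt_mul (bnMatrix P).simple
      (fun x => (bnMatrix P).toCoxeterSystem.simple_mul_simple_self x) (q + 1) s r]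
    have h3 : ((bnMatrix P).simple s * (bnMatrix P).simple r) ^
        orderOf (refl P s * refl P r) = 1 :=
      (bnMatrix P).toCoxeterSystem.simple_mul_simple_pow s r
    rw [hm, pow_mul, h3, one_pow]

/-- A chosen lift to the Coxeter group. -/
noncomputable def coxSection (w : Weyl P) : (bnMatrix P).Group :=
  gprod P (exists_reduced P w).choose

theorem coxSection_spec {w : Weyl P} {l : List P.S} (hl : l.length = len P w)
    (e : wprod P l = w) : coxSection P w = gprod P l := by
  obtain ⟨h1, h2⟩ := (exists_reduced P w).choose_spec
  exact gprod_eq_of_wprod_eq P _ _ _ h1 hl (h2.trans e.symm) (by rw [h2])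

theorem coxSection_refl_mul (s : P.S) (w : Weyl P) :
    coxSection P (refl P s * w) = (bnMatrix P).simple s * coxSection P w := by
  have key : ∀ v : Weyl P, len P v < len P (refl P s * v) →
      coxSection P (refl P s * v) = (bnMatrix P).simple s * coxSection P v := by
    intro v hv
    obtain ⟨l, hl, e⟩ := exists_reduced P v
    rw [coxSection_spec P hl e, ← gprod_cons]
    refine coxSection_spec P ?_ (by rw [wprod_cons, e])
    have := len_refl_mul_le P s v
    rw [List.length_cons, hl]; omega
  rcases lt_or_gt_of_ne (len_refl_mul_ne P s w) with h | h
  · have h2 := key (refl P s * w) (by rwa [refl_cancel])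
    rw [refl_cancel] at h2
    rw [h2, ← mul_assoc]
    have h3 : (bnMatrix P).simple s * (bnMatrix P).simple s = 1 :=
      (bnMatrix P).toCoxeterSystem.simple_mul_simple_self s
    rw [h3, one_mul]
  · exact key w h

theorem coxSection_coxHom (x : (bnMatrix P).Group) : coxSection P (coxHom P x) = x := by
  induction x using (bnMatrix P).toCoxeterSystem.simple_induction_left with
  | one =>
    rw [map_one, coxSection_spec P (l := []) (by simp [len_one]) (wprod_nil P)]
    rfl
  | mul_simple_left w s ih =>
    rw [map_mul]
    show coxSection P (coxHom P ((bnMatrix P).simple s) * _) = _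
    rw [coxHom_simple, coxSection_refl_mul, ih]
    rfl

theorem coxHom_bijective : Function.Bijective (coxHom P) := by
  refine ⟨Function.LeftInverse.injective (coxSection_coxHom P), fun w => ?_⟩
  obtain ⟨l, rfl⟩ := exists_word P w
  exact ⟨gprod P l, coxHom_gprod P l⟩

theorem coxeter_of_bnPair :
    ∃ (M : CoxeterMatrix P.S) (cs : CoxeterSystem M (Weyl P)), ∀ s : P.S,
      cs.simple s = refl P s :=
  ⟨bnMatrix P, ⟨(MulEquiv.ofBijective _ (coxHom_bijective P)).symm⟩, coxHom_simple P⟩

end Cfsg.Agent.Lie
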