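import Cfsg.Agent.Lib.Lie.RegUnipGen

/-! `SL₃(2)` and `SL₃(4)` are generated by two conjugate regular unipotent elements. -/

set_option autoImplicit false
set_option linter.unusedSectionVars false
set_option maxRecDepth 8000

namespace Cfsg.Agent.Lie.RegUnip

open Matrix

/-- Multiplication table of the field with four elements `0, 1, ω, ω + 1`. -/
def g4mul : Fin 4 → Fin 4 → Fin 4 := ![![0, 0, 0, 0], ![0, 1, 2, 3], ![0, 2, 3, 1], ![0, 3, 1, 2]]

/-- Addition table of the field with four elements. -/
def g4add : Fin 4 → Fin 4 → Fin 4 := ![![0, 1, 2, 3], ![1, 0, 3, 2], ![2, 3, 0, 1], ![3, 2, 1, 0]]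

/-- A table matrix. -/
abbrev G4Mat := Fin 3 → Fin 3 → Fin 4

/-- Product of table matrices. -/
def g4prod (A B : G4Mat) : G4Mat := fun i j =>
  g4add (g4add (g4mul (A i 0) (B 0 j)) (g4mul (A i 1) (B 1 j))) (g4mul (A i 2) (B 2 j))

/-- Evaluation of a word in two table matrices. -/
def g4word (u w : G4Mat) : List Bool → G4Mat
  | [] => ![![1, 0, 0], ![0, 1, 0], ![0, 0, 1]]
  | b :: l => g4prod (cond b w u) (g4word u w l)

/-- The elementary table matrix. -/
def g4tv (i j : Fin 3) (c : Fin 4) : G4Mat := fun a b =>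
  if a = b then 1 else if a = i ∧ b = j then c else 0

variable {F : Type*} [Field F]

/-- The values of the table. -/
def g4phi (ω : F) : Fin 4 → F := ![0, 1, ω, ω + 1]

/-- The matrix over `F` of a table matrix. -/
def g4mat (ω : F) (A : G4Mat) : Matrix (Fin 3) (Fin 3) F := Matrix.of fun i j => g4phi ω (A i j)

/-- `ω` behaves like the element `2` of the table on the entries `≤ k`. -/
def G4Ok (ω : F) : Prop := (2 : F) = 0 ∧ ω ^ 2 = ω + 1

theorem g4phi_add {ω : F} (h : G4Ok ω) (x y : Fin 4) :
    g4phi ω (g4add x y) = g4phi ω x + g4phi ω y := by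
  obtain ⟨h2, hw⟩ := h
  fin_cases x <;> fin_cases y <;> simp [g4phi, g4add] <;> first
    | linear_combination h2 | linear_combination -h2 | linear_combination ω * h2
    | linear_combination -ω * h2 | linear_combination (ω + 1) * h2 | linear_combination -(ω + 1) * h2
    | ring1

theorem g4phi_mul {ω : F} (h : G4Ok ω) (x y : Fin 4) :
    g4phi ω (g4mul x y) = g4phi ω x * g4phi ω y := by
  obtain ⟨h2, hw⟩ := h
  fin_cases x <;> fin_cases y <;> simp [g4phi, g4mul] <;> first
    | ring1 | linear_combination -hw | linear_combination hw | linear_combination -hw - ω * h2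
    | linear_combination hw + ω * h2 | linear_combination -hw - h2 | linear_combination -hw - (ω + 1) * h2

theorem g4mat_prod {ω : F} (h : G4Ok ω) (A B : G4Mat) :
    g4mat ω (g4prod A B) = g4mat ω A * g4mat ω B := by
  ext i j
  simp [g4mat, g4prod, Matrix.mul_apply, Fin.sum_univ_three, g4phi_add h, g4phi_mul h]

theorem g4_word_mem {ω : F} (h : G4Ok ω) {u w : SpecialLinearGroup (Fin 3) F} {U W : G4Mat}
    (hu : g4mat ω U = u.val) (hw : g4mat ω W = w.val) (l : List Bool) :
    ∃ x ∈ Subgroup.closure ({u, w} : Set (SpecialLinearGroup (Fin 3) F)), x.val = g4mat ω (g4word U W l) := by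
  induction l with
  | nil =>
    refine ⟨1, one_mem _, ?_⟩
    ext i j
    fin_cases i <;> fin_cases j <;> simp [g4word, g4mat, g4phi]
  | cons b l ih =>
    obtain ⟨x, hx, hxe⟩ := ih
    refine ⟨cond b w u * x, mul_mem ?_ hx, ?_⟩
    · cases b <;> exact Subgroup.subset_closure (by simp)
    · show (cond b w u).val * x.val = _
      rw [g4word, g4mat_prod h, hxe]
      cases b <;> simp [hu, hw]

theorem g4_det {ω : F} (h : G4Ok ω) (A : G4Mat)
    (hA : g4add (g4add (g4add (g4mul (g4mul (A 0 0) (A 1 1)) (A 2 2)) (g4mul (g4mul (A 0 0) (A 1 2)) (A 2 1)))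
      (g4add (g4mul (g4mul (A 0 1) (A 1 0)) (A 2 2)) (g4mul (g4mul (A 0 1) (A 1 2)) (A 2 0))))
      (g4add (g4mul (g4mul (A 0 2) (A 1 0)) (A 2 1)) (g4mul (g4mul (A 0 2) (A 1 1)) (A 2 0))) = 1) :
    (g4mat ω A).det = 1 := by
  have h1 := congrArg (g4phi ω) hA
  simp only [g4phi_add h, g4phi_mul h, show g4phi ω 1 = 1 from rfl] at h1
  rw [det_fin_three]
  simp only [g4mat, Matrix.of_apply]
  linear_combination h1 + (-(g4phi ω (A 0 0) * g4phi ω (A 1 2) * g4phi ω (A 2 1))
    - g4phi ω (A 0 1) * g4phi ω (A 1 0) * g4phi ω (A 2 2)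
    - g4phi ω (A 0 2) * g4phi ω (A 1 1) * g4phi ω (A 2 0)) * h.1

theorem g4_generate [Fintype F] {ω : F} (h : G4Ok ω) (k : Fin 4)
    (hall : ∀ x : F, ∃ a b : Bool, x = (cond a 1 0 : F) + cond b (g4phi ω k) 0)
    (U G W : G4Mat) (Ls : Fin 3 → Fin 3 → Bool → List Bool)
    (hU : g4add (g4add (g4add (g4mul (g4mul (U 0 0) (U 1 1)) (U 2 2)) (g4mul (g4mul (U 0 0) (U 1 2)) (U 2 1)))
      (g4add (g4mul (g4mul (U 0 1) (U 1 0)) (U 2 2)) (g4mul (g4mul (U 0 1) (U 1 2)) (U 2 0))))
      (g4add (g4mul (g4mul (U 0 2) (U 1 0)) (U 2 1)) (g4mul (g4mul (U 0 2) (U 1 1)) (U 2 0))) = 1)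
    (hG : g4add (g4add (g4add (g4mul (g4mul (G 0 0) (G 1 1)) (G 2 2)) (g4mul (g4mul (G 0 0) (G 1 2)) (G 2 1)))
      (g4add (g4mul (g4mul (G 0 1) (G 1 0)) (G 2 2)) (g4mul (g4mul (G 0 1) (G 1 2)) (G 2 0))))
      (g4add (g4mul (g4mul (G 0 2) (G 1 0)) (G 2 1)) (g4mul (g4mul (G 0 2) (G 1 1)) (G 2 0))) = 1)
    (hU1 : U = ![![1, 1, 0], ![0, 1, 1], ![0, 0, 1]]) (hGG : g4prod G U = g4prod W G)
    (hLs : ∀ i j : Fin 3, i ≠ j → ∀ b, g4word U W (Ls i j b) = g4tv i j (cond b k 1)) :
    ∃ u g : SpecialLinearGroup (Fin 3) F, IsNilpotent (u.val - 1) ∧ (u.val - 1) ^ (3 - 1) ≠ 0 ∧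
      Subgroup.closure ({u, g * u * g⁻¹} : Set (SpecialLinearGroup (Fin 3) F)) = ⊤ := by
  let u : SpecialLinearGroup (Fin 3) F := ⟨g4mat ω U, g4_det h U hU⟩
  let g : SpecialLinearGroup (Fin 3) F := ⟨g4mat ω G, g4_det h G hG⟩
  have hu : u.val - 1 = !![0, 1, 0; 0, 0, 1; 0, 0, 0] := by
    ext i j
    fin_cases i <;> fin_cases j <;> simp [u, hU1, g4mat, g4phi]
  have hW : (g4mat ω W) = (g * u * g⁻¹).val := by
    have e : g4mat ω W * g.val = (g * u).val := by
      show g4mat ω W * g4mat ω G = g4mat ω G * g4mat ω U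
      rw [← g4mat_prod h, ← g4mat_prod h, hGG]
    calc g4mat ω W = g4mat ω W * g.val * (g⁻¹).val := by
          rw [mul_assoc, show g.val * (g⁻¹).val = (g * g⁻¹).val from rfl, mul_inv_cancel, val_one', mul_one]
      _ = (g * u * g⁻¹).val := by rw [e]; rfl
  refine ⟨u, g, ⟨3, ?_⟩, fun e => ?_, ?_⟩
  · rw [hu, pow_succ, sq]
    ext i j
    fin_cases i <;> fin_cases j <;> simp [mul_apply, Fin.sum_univ_three]
  · rw [hu, sq] at e
    have := congrFun (congrFun e 0) 2
    simp [mul_apply, Fin.sum_univ_three] at this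
  set K := Subgroup.closure ({u, g * u * g⁻¹} : Set (SpecialLinearGroup (Fin 3) F))
  have htv : ∀ {i j : Fin 3} (hij : i ≠ j) (b : Bool),
      SpecialLinearGroup.transvection hij (g4phi ω (cond b k 1)) ∈ K := by
    intro i j hij b
    obtain ⟨x, hx, hxe⟩ := g4_word_mem h (u := u) (w := g * u * g⁻¹) rfl hW (Ls i j b)
    convert hx using 1
    refine Subtype.ext ?_
    rw [hxe, hLs i j hij b, SpecialLinearGroup.transvection_coe]
    ext a c
    simp only [g4mat, g4tv, Matrix.of_apply, Matrix.transvection, Matrix.add_apply, Matrix.one_apply,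
      Matrix.single_apply]
    by_cases hac : a = c
    · subst hac
      rw [if_pos rfl, if_pos rfl, if_neg (fun e => hij (e.1.trans e.2.symm))]
      simp [g4phi]
    · rw [if_neg hac, if_neg hac, zero_add]
      by_cases hc : a = i ∧ c = j
      · rw [if_pos hc, if_pos ⟨hc.1.symm, hc.2.symm⟩]
      · rw [if_neg hc, if_neg fun e => hc ⟨e.1.symm, e.2.symm⟩]
        simp [g4phi]
  rw [eq_top_iff, ← Cfsg.Agent.Classical.SL_closure_transvections, Subgroup.closure_le]
  rintro _ ⟨⟨i, j, hij, c⟩, rfl⟩
  show SpecialLinearGroup.transvection hij c ∈ K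
  obtain ⟨a, b, rfl⟩ := hall c
  have h0 : SpecialLinearGroup.transvection hij (0 : F) ∈ K := by
    convert one_mem K
    exact Subtype.ext (by rw [SpecialLinearGroup.transvection_coe]; simp [Matrix.transvection])
  have hmul : ∀ x y : F, SpecialLinearGroup.transvection hij x ∈ K →
      SpecialLinearGroup.transvection hij y ∈ K → SpecialLinearGroup.transvection hij (x + y) ∈ K := by
    intro x y hx hy
    convert mul_mem hx hy
    refine Subtype.ext ?_
    show _ = _ * _
    simp only [SpecialLinearGroup.transvection_coe]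
    simp only [mul_add, add_mul, mul_one, one_mul, Matrix.single_mul_single_of_ne _ _ _ _ hij.symm,
      add_zero, Matrix.single_add]
    abel
  refine hmul _ _ ?_ ?_
  · cases a
    · exact h0
    · exact htv hij false
  · cases b
    · exact h0
    · exact htv hij true

/-- Words for `SL₃(4)`. -/
def words4 (i j : Fin 3) : Bool → List Bool
  | false =>
    ![![[],
      [true, false, false, true, true, true, false, false, true, false, false, true, true, true, false],
      [false, false]],
    ![[false, true, false, false, true, true, true, false, false, false],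
      [],
      [true, false, false, true, true, true, false, false, true, false, false, true, true, true]],
    ![[true, false, false, false, true, false, false, true, true, true, false, true, true, true],
      [true, false, true, true, false, true, false, false, true, false, true, false, false],
      []]] i j
  | true =>
    ![![[],
      [false, false, true, true, true, false, true, false, true, false, false, false, true, true, false, false, true],
      [true, false, true, true, true, false, false, false, true, true, true, false, true]],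
    ![[true, false, true, false, false, false, true, true, false, false, false],
      [],
      [true, false, false, true, true, false, false, false, true, false, true, false, true, true, true]],
    ![[false, false, false, true, true, true, false, true, true, false, false, false, true, false],
      [true, false, true, true, false, true, true, true, false, false, false, true, true],
      []]] i j

theorem exists_two_conjugates_three_two_aux :
    ∃ u g : SpecialLinearGroup (Fin 3) (ZMod 2), IsNilpotent (u.val - 1) ∧ (u.val - 1) ^ (3 - 1) ≠ 0 ∧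
      Subgroup.closure ({u, g * u * g⁻¹} : Set (SpecialLinearGroup (Fin 3) (ZMod 2))) = ⊤ := by
  let u : SpecialLinearGroup (Fin 3) (ZMod 2) := ⟨!![1, 1, 0; 0, 1, 1; 0, 0, 1], by decide +kernel⟩
  let g : SpecialLinearGroup (Fin 3) (ZMod 2) := ⟨!![0, 0, 1; 0, 1, 1; 1, 1, 0], by decide +kernel⟩
  let w : SpecialLinearGroup (Fin 3) (ZMod 2) := ⟨!![1, 0, 0; 1, 1, 0; 0, 1, 1], by decide +kernel⟩
  have hw : g * u * g⁻¹ = w := mul_inv_eq_iff_eq_mul.2 (Subtype.ext (by decide +kernel))
  refine ⟨u, g, ⟨3, by decide +kernel⟩, by decide +kernel, ?_⟩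
  rw [hw]
  set K := Subgroup.closure ({u, w} : Set (SpecialLinearGroup (Fin 3) (ZMod 2)))
  have hu : u ∈ K := Subgroup.subset_closure (by simp)
  have hw' : w ∈ K := Subgroup.subset_closure (by simp)
  have mem_of_eq : ∀ {x : SpecialLinearGroup (Fin 3) (ZMod 2)} (y : SpecialLinearGroup (Fin 3) (ZMod 2)),
      y ∈ K → x.val = y.val → x ∈ K := fun y hy e => by rwa [Subtype.ext e]
  rw [eq_top_iff, ← Cfsg.Agent.Classical.SL_closure_transvections, Subgroup.closure_le]
  rintro _ ⟨⟨i, j, hij, c⟩, rfl⟩
  show SpecialLinearGroup.transvection hij c ∈ K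
  rcases (by decide : ∀ c : ZMod 2, c = 0 ∨ c = 1) c with rfl | rfl
  · exact mem_of_eq 1 (one_mem K) (by rw [SpecialLinearGroup.transvection_coe]; simp [Matrix.transvection])
  · fin_cases i <;> fin_cases j
    all_goals first
      | exact absurd rfl hij
      | skip
    · exact mem_of_eq (w * u * w * u * u * w) (by repeat first | exact hu | exact hw' | apply mul_mem) (by rw [SpecialLinearGroup.transvection_coe]; decide +kernel)
    · exact mem_of_eq (u * u) (by repeat first | exact hu | exact hw' | apply mul_mem) (by rw [SpecialLinearGroup.transvection_coe]; decide +kernel)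
    · exact mem_of_eq (u * w * w * u * w * u) (by repeat first | exact hu | exact hw' | apply mul_mem) (by rw [SpecialLinearGroup.transvection_coe]; decide +kernel)
    · exact mem_of_eq (w * u * u * w * u * w) (by repeat first | exact hu | exact hw' | apply mul_mem) (by rw [SpecialLinearGroup.transvection_coe]; decide +kernel)
    · exact mem_of_eq (w * w) (by repeat first | exact hu | exact hw' | apply mul_mem) (by rw [SpecialLinearGroup.transvection_coe]; decide +kernel)
    · exact mem_of_eq (u * w * u * w * w * u) (by repeat first | exact hu | exact hw' | apply mul_mem) (by rw [SpecialLinearGroup.transvection_coe]; decide +kernel)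

theorem exists_two_conjugates_three_two [Fintype F] (hF : Fintype.card F = 2) :
    ∃ u g : SpecialLinearGroup (Fin 3) F, IsNilpotent (u.val - 1) ∧ (u.val - 1) ^ (3 - 1) ≠ 0 ∧
      Subgroup.closure ({u, g * u * g⁻¹} : Set (SpecialLinearGroup (Fin 3) F)) = ⊤ := by
  classical
  haveI : CharP F 2 := charP_of_card_eq_prime hF
  let φ : ZMod 2 →+* F := ZMod.castHom dvd_rfl F
  have hφ : Function.Bijective φ := (Fintype.bijective_iff_injective_and_card _).2
    ⟨φ.injective, by rw [hF, ZMod.card]⟩
  let e : ZMod 2 ≃+* F := RingEquiv.ofBijective φ hφ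
  let M : SpecialLinearGroup (Fin 3) (ZMod 2) →* SpecialLinearGroup (Fin 3) F :=
    SpecialLinearGroup.map (e : ZMod 2 →+* F)
  have hM : Function.Surjective M := fun x =>
    ⟨SpecialLinearGroup.map (e.symm : F →+* ZMod 2) x, Subtype.ext (by
      ext i j; simp [M, SpecialLinearGroup.map_apply_coe])⟩
  obtain ⟨u, g, hn, hn2, hgen⟩ := exists_two_conjugates_three_two_aux
  have key : (M u).val - 1 = (e : ZMod 2 →+* F).mapMatrix (u.val - 1) := by
    rw [map_sub, map_one]; rfl
  refine ⟨M u, M g, key ▸ hn.map _, fun h => hn2 ?_, ?_⟩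
  · rw [key, ← map_pow] at h
    ext i j
    refine e.injective ?_
    simpa using congrFun (congrFun h i) j
  · have h1 := congrArg (Subgroup.map M) hgen
    rw [MonoidHom.map_closure, Subgroup.map_top_of_surjective M hM, Set.image_pair] at h1
    simpa using h1

theorem exists_two_conjugates_three_four [Fintype F] (hF : Fintype.card F = 4) :
    ∃ u g : SpecialLinearGroup (Fin 3) F, IsNilpotent (u.val - 1) ∧ (u.val - 1) ^ (3 - 1) ≠ 0 ∧
      Subgroup.closure ({u, g * u * g⁻¹} : Set (SpecialLinearGroup (Fin 3) F)) = ⊤ := by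
  classical
  have h2 : (2 : F) = 0 := by
    have h := FiniteField.cast_card_eq_zero F
    rw [hF] at h
    have : ((2 : F)) ^ 2 = 0 := by norm_num; exact_mod_cast h
    exact pow_eq_zero_iff two_ne_zero |>.1 this
  have hp : ∀ x : F, x ≠ 0 → x ^ 3 = 1 := fun x hx => by
    have := FiniteField.pow_card_sub_one_eq_one x hx
    rwa [hF] at this
  obtain ⟨ω, hw0, hw1⟩ : ∃ ω : F, ω ≠ 0 ∧ ω ≠ 1 := by
    by_contra h
    push Not at h
    have := Fintype.card_le_of_injective (fun x : F => decide (x = 0)) (fun x y e => by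
      simp only [decide_eq_decide] at e
      by_cases hx : x = 0
      · rw [hx, e.1 hx]
      · rw [h x hx, h y fun hy => hx (e.2 hy)])
    simp [hF] at this
  have hw : ω ^ 2 = ω + 1 := by
    have : (ω - 1) * (ω ^ 2 + ω + 1) = 0 := by linear_combination hp ω hw0
    have h3 := (mul_eq_zero.1 this).resolve_left (sub_ne_zero.2 hw1)
    linear_combination h3 - (ω + 1) * h2
  have hall : ∀ x : F, ∃ a b : Bool, x = (cond a 1 0 : F) + cond b (g4phi ω 2) 0 := by
    let f : Bool × Bool → F := fun ab => (cond ab.1 1 0 : F) + cond ab.2 ω 0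
    have hw2 : ω + 1 ≠ 0 := fun h => hw0 (by rw [← pow_eq_zero_iff two_ne_zero, hw, h])
    have hinj : Function.Injective f := by
      rintro ⟨a, b⟩ ⟨c, d⟩ h
      have hw1' : 1 + ω ≠ 0 := by rwa [add_comm]
      rcases a <;> rcases b <;> rcases c <;> rcases d <;> simp [f, hw0, hw1, hw0.symm, hw1.symm, hw1', hw1'.symm] at h ⊢
    intro x
    obtain ⟨⟨a, b⟩, rfl⟩ := ((Fintype.bijective_iff_injective_and_card f).2 ⟨hinj, by simp [hF]⟩).2 x
    exact ⟨a, b, rfl⟩
  exact g4_generate ⟨h2, hw⟩ 2 hall ![![1, 1, 0], ![0, 1, 1], ![0, 0, 1]] ![![3, 2, 0], ![1, 2, 2], ![1, 1, 1]]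
    ![![2, 0, 2], ![2, 0, 0], ![0, 2, 3]] words4
    (by decide +kernel) (by decide +kernel) rfl (by decide +kernel) (by decide +kernel)

end Cfsg.Agent.Lie.RegUnip
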