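import Cfsg.Agent.Lib.Lie.RegUnipSL3
import Cfsg.Agent.Lib.Lie.RegUnipSL3Small

/-! `SL₄(2)` is generated by two conjugate regular unipotent elements. -/

set_option autoImplicit false
set_option linter.unusedSectionVars false
set_option maxRecDepth 8000

namespace Cfsg.Agent.Lie.RegUnip

open Matrix

/-- The row vector with binary digits `r`. -/
def bitVec4 (r : Fin 16) : Fin 4 → ZMod 2 := fun j => if r.val.testBit j then 1 else 0

/-- Right multiplication by the two generators, on binary digit vectors. -/
def sl42step : Bool → Fin 16 → Fin 16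
  | false => ![0, 3, 6, 5, 12, 15, 10, 9, 8, 11, 14, 13, 4, 7, 2, 1]
  | true => ![0, 6, 4, 2, 8, 14, 12, 10, 3, 5, 7, 1, 11, 13, 15, 9]

/-- Words in the generators for the elementary transvections. -/
def sl42words (i j : Fin 4) : List Bool :=
  ![![[],
      [true, false, false, false, true, false, false, false, true, true, false],
      [true, false, false, true, true, false, true, false, true, true, true, false, true, false],
      [false, true, true, false, true, false, true, false, true, true, false, true, false, true]],
    ![[true, false, true, false, false, false, true, false, true, true, true, false, true, true, false, true],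
      [],
      [true, false, false, true, true, false, true, false, true, false, true, true, true],
      [false, true, true, false, true, false, true, true, true, false, true, false, true, false]],
    ![[false, true, false, true, true, true, false, true, false, true, true, true],
      [false, true, false, true, false, true, true, false, true, false, true, false, true, true],
      [],
      [false, false, false, true, true, false, true, false, true]],
    ![[false, true, false, true, false, true, false, false, false, true, false, false, false],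
      [false, true, false, true, true, true, false, true, false, true, false, false, true, true],
      [true, false, true, true, false, true, false, true, false, true, true, false, true, false],
      []]] i j

set_option maxHeartbeats 1000000 in
theorem exists_two_conjugates_four_two_aux :
    ∃ u g : SpecialLinearGroup (Fin 4) (ZMod 2), IsNilpotent (u.val - 1) ∧ (u.val - 1) ^ (4 - 1) ≠ 0 ∧
      Subgroup.closure ({u, g * u * g⁻¹} : Set (SpecialLinearGroup (Fin 4) (ZMod 2))) = ⊤ := by
  let u : SpecialLinearGroup (Fin 4) (ZMod 2) := ⟨!![1, 1, 0, 0; 0, 1, 1, 0; 0, 0, 1, 1; 0, 0, 0, 1], by decide +kernel⟩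
  let g : SpecialLinearGroup (Fin 4) (ZMod 2) := ⟨!![0, 1, 1, 1; 1, 0, 0, 1; 1, 1, 0, 1; 1, 0, 1, 1], by decide +kernel⟩
  let w : SpecialLinearGroup (Fin 4) (ZMod 2) := ⟨!![0, 1, 1, 0; 0, 0, 1, 0; 0, 0, 0, 1; 1, 1, 0, 0], by decide +kernel⟩
  have hgw : g.val * u.val = w.val * g.val := by decide +kernel
  have hw : g * u * g⁻¹ = w := by
    rw [mul_inv_eq_iff_eq_mul]
    apply Subtype.ext
    rw [val_mul', val_mul', hgw]
  refine ⟨u, g, ⟨4, by decide +kernel⟩, by decide +kernel, ?_⟩
  rw [hw]
  set K := Subgroup.closure ({u, w} : Set (SpecialLinearGroup (Fin 4) (ZMod 2))) with hK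
  have hsu : ∀ r, bitVec4 (sl42step false r) = bitVec4 r ᵥ* u.val := by decide +kernel
  have hsw : ∀ r, bitVec4 (sl42step true r) = bitVec4 r ᵥ* w.val := by decide +kernel
  have hword : ∀ l : List Bool, ∃ x ∈ K, ∀ r, bitVec4 (l.foldl (fun r b => sl42step b r) r) = bitVec4 r ᵥ* x.val := by
    intro l
    induction l with
    | nil => exact ⟨1, one_mem K, fun r => by rw [val_one', vecMul_one]; rfl⟩
    | cons b l ih =>
      obtain ⟨x, hx, hxe⟩ := ih
      refine ⟨cond b w u * x, mul_mem ?_ hx, fun r => ?_⟩
      · cases b <;> exact Subgroup.subset_closure (by simp)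
      · rw [List.foldl_cons, hxe, val_mul']
        cases b
        · rw [hsu, vecMul_vecMul]; rfl
        · rw [hsw, vecMul_vecMul]; rfl
  have hcheck : ∀ i j a c : Fin 4, i ≠ j →
      bitVec4 ((sl42words i j).foldl (fun r b => sl42step b r) (![1, 2, 4, 8] a)) c =
        if (i = a ∧ j = c) ∨ a = c then (1 : ZMod 2) else 0 := by decide +kernel
  have hunit : ∀ a : Fin 4, bitVec4 (![1, 2, 4, 8] a) = Pi.single a 1 := by decide +kernel
  rw [eq_top_iff, ← Cfsg.Agent.Classical.SL_closure_transvections, Subgroup.closure_le]
  rintro _ ⟨⟨i, j, hij, c⟩, rfl⟩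
  show SpecialLinearGroup.transvection hij c ∈ K
  rcases (by decide : ∀ c : ZMod 2, c = 0 ∨ c = 1) c with rfl | rfl
  · convert one_mem K
    exact Subtype.ext (by rw [SpecialLinearGroup.transvection_coe]; simp [Matrix.transvection])
  · obtain ⟨x, hx, hxe⟩ := hword (sl42words i j)
    convert hx
    refine Subtype.ext ?_
    rw [SpecialLinearGroup.transvection_coe]
    ext a c
    have h1 := hcheck i j a c hij
    rw [hxe, hunit, single_one_vecMul, Matrix.row_apply] at h1
    rw [h1]
    rcases eq_or_ne a c with rfl | hac
    · rw [if_pos (Or.inr rfl)]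
      simp [Matrix.transvection, Matrix.single_apply, hij]
      rintro rfl rfl
      exact hij rfl
    · simp [Matrix.transvection, Matrix.single_apply, Matrix.one_apply_ne hac, hac]

variable {F : Type*} [Field F]

theorem exists_two_conjugates_four_two [Fintype F] (hF : Fintype.card F = 2) :
    ∃ u g : SpecialLinearGroup (Fin 4) F, IsNilpotent (u.val - 1) ∧ (u.val - 1) ^ (4 - 1) ≠ 0 ∧
      Subgroup.closure ({u, g * u * g⁻¹} : Set (SpecialLinearGroup (Fin 4) F)) = ⊤ := by
  classical
  have : CharP F 2 := charP_of_card_eq_prime hF
  let φ : ZMod 2 →+* F := ZMod.castHom dvd_rfl F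
  have hφ : Function.Bijective φ := (Fintype.bijective_iff_injective_and_card _).2
    ⟨φ.injective, by rw [hF, ZMod.card]⟩
  let e : ZMod 2 ≃+* F := RingEquiv.ofBijective φ hφ
  let M : SpecialLinearGroup (Fin 4) (ZMod 2) →* SpecialLinearGroup (Fin 4) F :=
    SpecialLinearGroup.map (e : ZMod 2 →+* F)
  have hM : Function.Surjective M := fun x =>
    ⟨SpecialLinearGroup.map (e.symm : F →+* ZMod 2) x, Subtype.ext (by
      ext i j; simp [M, SpecialLinearGroup.map_apply_coe])⟩
  obtain ⟨u, g, hn, hn2, hgen⟩ := exists_two_conjugates_four_two_aux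
  have key : (M u).val - 1 = (e : ZMod 2 →+* F).mapMatrix (u.val - 1) := by
    rw [map_sub, map_one]; rfl
  refine ⟨M u, M g, key ▸ hn.map _, fun h => hn2 ?_, ?_⟩
  · rw [key, ← map_pow] at h
    ext i j
    refine e.injective ?_
    simpa using congrFun (congrFun h i) j
  · have h1 := congrArg (Subgroup.map M) hgen
    rw [MonoidHom.map_closure, Subgroup.map_top_of_surjective M hM, Set.image_pair] at h1
    simpa using h1

end Cfsg.Agent.Lie.RegUnip
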