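import Cfsg.Agent.Lib.Lie.RegUnipTwo
import Cfsg.Agent.Lib.Lie.RegUnipSL4Small

/-! Parameters for the two regular unipotent generators of `SL_n(F)`, `n ≥ 4`. -/

set_option autoImplicit false
set_option linter.unusedSectionVars false

namespace Cfsg.Agent.Lie.RegUnip

open Matrix

variable {F : Type*} [Field F] [Fintype F]

theorem natCard_subfield_sq_le {M : Subfield F} (hM : M ≠ ⊤) : Nat.card M ^ 2 ≤ Nat.card F := by
  classical
  have h1 : 2 ≤ Module.finrank M F := by
    by_contra h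
    have h2 : 0 < Module.finrank M F := Module.finrank_pos
    have h3 : Nat.card F = Nat.card M ^ 1 := by
      rw [Module.natCard_eq_pow_finrank (K := M), show Module.finrank M F = 1 by omega]
    apply hM
    rw [eq_top_iff]
    intro x _
    have h4 : Function.Bijective (M.subtype) :=
      (Nat.bijective_iff_injective_and_card _).2 ⟨M.subtype.injective, by rw [h3, pow_one]⟩
    obtain ⟨y, rfl⟩ := h4.2 x
    exact y.2
  rw [Module.natCard_eq_pow_finrank (K := M) (V := F)]
  exact Nat.pow_le_pow_right Nat.card_pos h1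

theorem exists_unit_generator (F : Type*) [Field F] [Fintype F] :
    ∃ ω : F, ω ≠ 0 ∧ orderOf ω = Nat.card F - 1 := by
  classical
  obtain ⟨g, hg⟩ := IsCyclic.exists_ofOrder_eq_natCard (α := Fˣ)
  exact ⟨g, g.ne_zero, by rw [orderOf_units, hg, Nat.card_units]⟩

theorem subfield_pow_natCard {M : Subfield F} {x : F} (hx : x ∈ M) : x ^ Nat.card M = x := by
  classical
  let y : M := ⟨x, hx⟩
  have h := FiniteField.pow_card y
  rw [Fintype.card_eq_nat_card] at h
  exact congrArg Subtype.val h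

theorem top_of_sq_mem {ω : F} (hω : ω ≠ 0) (ho : orderOf ω = Nat.card F - 1) {M : Subfield F}
    (h : ω ^ 2 ∈ M) : M = ⊤ := by
  by_contra hM
  have h1 := natCard_subfield_sq_le hM
  have h2 : 1 < Nat.card M := Finite.one_lt_card
  have h3 : (ω ^ 2) ^ (Nat.card M - 1) = 1 := by
    have := subfield_pow_natCard h
    rw [show Nat.card M = Nat.card M - 1 + 1 by omega, pow_succ, mul_eq_right₀ (pow_ne_zero 2 hω)] at this
    exact this
  rw [← pow_mul] at h3
  have h4 := Nat.le_of_dvd (by omega) (orderOf_dvd_of_pow_eq_one h3)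
  rw [ho] at h4
  nlinarith [Nat.sub_add_cancel (show 1 ≤ Nat.card M by omega), Nat.sub_add_cancel (show 1 ≤ Nat.card F from Nat.card_pos)]

theorem top_of_mem {ω : F} (hω : ω ≠ 0) (ho : orderOf ω = Nat.card F - 1) {M : Subfield F}
    (h : ω ∈ M) : M = ⊤ := top_of_sq_mem hω ho (pow_mem h 2)

theorem mem_subfield_of_pow {M : Subfield F} {x : F} (h : x ^ Nat.card M = x) : x ∈ M := by
  classical
  by_contra hx
  have h2 : 1 < Nat.card M := Finite.one_lt_card
  let s : Finset F := insert x ((Finset.univ : Finset M).image Subtype.val)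
  have hs : s.card = Nat.card M + 1 := by
    rw [Finset.card_insert_of_notMem (by simp [hx]), Finset.card_image_of_injective _ Subtype.val_injective,
      Finset.card_univ, Fintype.card_eq_nat_card]
  have hp : (Polynomial.X ^ Nat.card M - Polynomial.X : Polynomial F) ≠ 0 :=
    FiniteField.X_pow_card_sub_X_ne_zero F h2
  have hle : s.card ≤ (Polynomial.X ^ Nat.card M - Polynomial.X : Polynomial F).natDegree := by
    refine Polynomial.card_le_degree_of_subset_roots fun y hy => ?_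
    rw [Polynomial.mem_roots hp]
    rcases Finset.mem_insert.1 hy with rfl | hy
    · simp only [Polynomial.IsRoot, Polynomial.eval_sub, Polynomial.eval_pow, Polynomial.eval_X, h, sub_self]
    · obtain ⟨z, _, rfl⟩ := Finset.mem_image.1 hy
      simp only [Polynomial.IsRoot, Polynomial.eval_sub, Polynomial.eval_pow, Polynomial.eval_X,
        subfield_pow_natCard z.2, sub_self]
  rw [FiniteField.X_pow_card_sub_X_natDegree_eq F h2, hs] at hle
  omega

/-- The relation forced on `X` when the square of `(1 + 12 X) / (1 + 4 X)` does not generate `F`. -/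
theorem rho_relation {ω : F} (hω : ω ≠ 0) (ho : orderOf ω = Nat.card F - 1) (h2 : (2 : F) ≠ 0)
    {X : F} (hX : ∀ M : Subfield F, X ∈ M → M = ⊤) {M : Subfield F} (hM : M ≠ ⊤)
    (h : ((1 + 12 * X) / (1 + 4 * X)) ^ 2 ∈ M) :
    ∃ φ : F →+* F, ∃ k : ℕ, k ^ 2 = Nat.card F ∧ (∀ x, φ x = x ^ k) ∧
      2 + 16 * (X + φ X) + 96 * (X * φ X) = 0 := by
  classical
  have h4 : 1 + 4 * X ≠ 0 := fun e => hM (hX M (by
    have h4' : (4 : F) ≠ 0 := by rw [show (4 : F) = 2 * 2 by norm_num]; exact mul_ne_zero h2 h2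
    rw [show X = -(4 : F)⁻¹ by field_simp; linear_combination e]
    exact M.neg_mem (M.inv_mem (by exact_mod_cast natCast_mem M 4))))
  set ρ := (1 + 12 * X) / (1 + 4 * X) with hρ
  have hρX : (1 + 4 * X) * ρ = 1 + 12 * X := by rw [hρ, mul_div_cancel₀ _ h4]
  have hgen : ∀ S : Subfield F, ρ ∈ S → S = ⊤ := by
    intro S hS
    refine hX S ?_
    have h3 : 12 - 4 * ρ ≠ 0 := by
      intro e
      exact pow_ne_zero 3 h2 (by linear_combination (4 : F) * hρX + (1 + 4 * X) * e)
    rw [show X = (ρ - 1) / (12 - 4 * ρ) by rw [eq_div_iff h3]; linear_combination -hρX]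
    have hN : ∀ a : ℕ, (a : F) ∈ S := natCast_mem S
    exact S.div_mem (S.sub_mem hS S.one_mem)
      (S.sub_mem (by exact_mod_cast hN 12) (S.mul_mem (by exact_mod_cast hN 4) hS))
  have hρM : ρ ∉ M := fun e => hM (hgen M e)
  obtain ⟨p, hp⟩ := CharP.exists M
  have hpp : CharP F p := charP_of_injective_ringHom M.subtype.injective p
  letI : Fintype M := Fintype.ofFinite M
  obtain ⟨j, hj1, hj⟩ := FiniteField.card M p
  have : Fact p.Prime := ⟨hj1⟩
  set k := Nat.card M with hk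
  have hkj : k = p ^ (j : ℕ) := by rw [hk, Nat.card_eq_fintype_card, hj]
  let φ : F →+* F := iterateFrobenius F p j
  have hφ : ∀ x, φ x = x ^ k := fun x => by rw [hkj]; rfl
  have hφρ : φ ρ = -ρ := by
    rw [hφ]
    have e1 : (ρ ^ k) ^ 2 = ρ ^ 2 := by rw [← pow_mul, mul_comm, pow_mul, subfield_pow_natCard h]
    rcases sq_eq_sq_iff_eq_or_eq_neg.1 e1 with e | e
    · exact absurd (mem_subfield_of_pow e) hρM
    · exact e
  have hk2 : k ^ 2 = Nat.card F := by
    refine le_antisymm (natCard_subfield_sq_le hM) ?_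
    have hS := hgen ((φ.comp φ).eqLocusField (RingHom.id F)) (by
      show φ (φ ρ) = ρ
      rw [hφρ, map_neg, hφρ, neg_neg])
    have hωS : ω ∈ (φ.comp φ).eqLocusField (RingHom.id F) := by rw [hS]; trivial
    have e : ω ^ (k ^ 2) = ω := by
      have : φ (φ ω) = ω := hωS
      rwa [hφ, hφ, ← pow_mul, ← sq] at this
    have h1k : 1 < k := Finite.one_lt_card
    have h1k2 : 1 < k ^ 2 := Nat.one_lt_pow two_ne_zero h1k
    rw [show k ^ 2 = k ^ 2 - 1 + 1 by omega, pow_succ, mul_eq_right₀ hω] at e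
    have := Nat.le_of_dvd (by omega) (orderOf_dvd_of_pow_eq_one e)
    omega
  refine ⟨φ, k, hk2, hφ, ?_⟩
  have e := congrArg φ hρX
  simp only [map_mul, map_add, map_one, map_ofNat, hφρ] at e
  linear_combination -(1 + 4 * φ X) * hρX - (1 + 4 * X) * e

theorem exists_rho {ω : F} (hω : ω ≠ 0) (ho : orderOf ω = Nat.card F - 1) (h2 : (2 : F) ≠ 0)
    (h3 : (3 : F) ≠ 0) (hne : (⊥ : Subfield F) ≠ ⊤) :
    ∃ x : F, x ≠ 0 ∧ 1 + 4 * x ^ 2 ≠ 0 ∧ 1 + 12 * x ^ 2 ≠ 0 ∧
      ∀ M : Subfield F, ((1 + 12 * x ^ 2) / (1 + 4 * x ^ 2)) ^ 2 ∈ M → M = ⊤ := by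
  classical
  have hmem : ∀ x ∈ ({ω, 2 * ω, ω⁻¹, 2 * ω⁻¹} : Finset F), x ≠ 0 ∧ ∀ M : Subfield F, x ^ 2 ∈ M → M = ⊤ := by
    intro x hx
    simp only [Finset.mem_insert, Finset.mem_singleton] at hx
    have h22 : ∀ M : Subfield F, ((2 : F) ^ 2)⁻¹ ∈ M := fun M =>
      M.inv_mem (pow_mem (by exact_mod_cast natCast_mem M 2) 2)
    rcases hx with rfl | rfl | rfl | rfl
    · exact ⟨hω, fun M hM => top_of_sq_mem hω ho hM⟩
    · refine ⟨mul_ne_zero h2 hω, fun M hM => top_of_sq_mem hω ho ?_⟩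
      have := M.mul_mem (h22 M) hM
      rwa [mul_pow, ← mul_assoc, inv_mul_cancel₀ (pow_ne_zero 2 h2), one_mul] at this
    · refine ⟨inv_ne_zero hω, fun M hM => top_of_sq_mem hω ho ?_⟩
      have := M.inv_mem hM
      rwa [inv_pow, inv_inv] at this
    · refine ⟨mul_ne_zero h2 (inv_ne_zero hω), fun M hM => top_of_sq_mem hω ho ?_⟩
      have := M.inv_mem (M.mul_mem (h22 M) hM)
      rwa [mul_pow, ← mul_assoc, inv_mul_cancel₀ (pow_ne_zero 2 h2), one_mul, inv_pow, inv_inv] at this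
  by_contra hcon
  push Not at hcon
  have key : ∀ x ∈ ({ω, 2 * ω, ω⁻¹, 2 * ω⁻¹} : Finset F), ∃ φ : F →+* F, ∃ k : ℕ, k ^ 2 = Nat.card F ∧
      (∀ y, φ y = y ^ k) ∧ 2 + 16 * (x ^ 2 + φ (x ^ 2)) + 96 * (x ^ 2 * φ (x ^ 2)) = 0 := by
    intro x hx
    obtain ⟨hx0, hX⟩ := hmem x hx
    have hnb : ∀ a : F, a ∈ (⊥ : Subfield F) → x ^ 2 ≠ a := fun a ha e => hne (hX ⊥ (e ▸ ha))
    have hn : ∀ a : ℕ, (a : F) ∈ (⊥ : Subfield F) := natCast_mem _
    have h12 : (12 : F) ≠ 0 := by
      rw [show (12 : F) = 3 * (2 * 2) by norm_num]; exact mul_ne_zero h3 (mul_ne_zero h2 h2)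
    have h4 : (4 : F) ≠ 0 := by rw [show (4 : F) = 2 * 2 by norm_num]; exact mul_ne_zero h2 h2
    have d4 : 1 + 4 * x ^ 2 ≠ 0 := fun e => hnb (-(4 : F)⁻¹)
      ((⊥ : Subfield F).neg_mem ((⊥ : Subfield F).inv_mem (by exact_mod_cast hn 4)))
      (by field_simp; linear_combination e)
    have d12 : 1 + 12 * x ^ 2 ≠ 0 := fun e => hnb (-(12 : F)⁻¹)
      ((⊥ : Subfield F).neg_mem ((⊥ : Subfield F).inv_mem (by exact_mod_cast hn 12)))
      (by field_simp; linear_combination e)
    obtain ⟨M, hM, hMne⟩ := hcon x hx0 d4 d12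
    exact rho_relation hω ho h2 hX hMne hM
  obtain ⟨φ, k, hk, hφ, ea⟩ := key ω (by simp)
  have same : ∀ φ' : F →+* F, ∀ k' : ℕ, k' ^ 2 = Nat.card F → (∀ y, φ' y = y ^ k') → φ' = φ :=
    fun φ' k' hk' hφ' => RingHom.ext fun y => by
      rw [hφ', hφ, Nat.pow_left_injective two_ne_zero (hk'.trans hk.symm)]
  obtain ⟨φb, kb, hkb, hφb, eb⟩ := key (2 * ω) (by simp)
  obtain ⟨φc, kc, hkc, hφc, ec⟩ := key ω⁻¹ (by simp)
  obtain ⟨φd, kd, hkd, hφd, ed⟩ := key (2 * ω⁻¹) (by simp)
  rw [same φb kb hkb hφb] at eb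
  rw [same φc kc hkc hφc] at ec
  rw [same φd kd hkd hφd] at ed
  have hX0 : ω ^ 2 ≠ 0 := pow_ne_zero 2 hω
  have hY0 : φ (ω ^ 2) ≠ 0 := (map_ne_zero φ).2 hX0
  set N := ω ^ 2 * φ (ω ^ 2) with hN
  simp only [mul_pow, map_mul, map_pow, map_ofNat, inv_pow, map_inv₀] at eb ec ed
  simp only [map_pow] at ea hY0 hN
  have ha : (ω * ω⁻¹) ^ 2 = 1 := by rw [mul_inv_cancel₀ hω, one_pow]
  have hb : (φ ω * (φ ω)⁻¹) ^ 2 = 1 := by rw [mul_inv_cancel₀ ((map_ne_zero φ).2 hω), one_pow]
  have ec' : 2 * N + 16 * (ω ^ 2 + φ ω ^ 2) + 96 = 0 := by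
    rw [hN]
    linear_combination (ω ^ 2 * φ ω ^ 2) * ec - (16 * φ ω ^ 2 + 96 * (φ ω * (φ ω)⁻¹) ^ 2) * ha -
      (16 * ω ^ 2 + 96) * hb
  have ed' : 2 * N + 64 * (ω ^ 2 + φ ω ^ 2) + 1536 = 0 := by
    rw [hN]
    linear_combination (ω ^ 2 * φ ω ^ 2) * ed - (64 * φ ω ^ 2 + 1536 * (φ ω * (φ ω)⁻¹) ^ 2) * ha -
      (64 * ω ^ 2 + 1536) * hb
  have h6 : (6 : F) ≠ 0 := by rw [show (6 : F) = 3 * 2 by norm_num]; exact mul_ne_zero h3 h2
  have hN1 : N = 256 - 64 := mul_left_cancel₀ h6 (by linear_combination 4 * ec' - ed')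
  have hN2 : (192 : F) * N = 1 := mul_left_cancel₀ h6 (by
    rw [hN] at ea ⊢; linear_combination -4 * ea + eb)
  have hN4 : ω ^ (4 * (k + 1)) = 1 := by
    have : N * N = 1 := by rw [hN1] at hN2 ⊢; linear_combination hN2
    rw [hN, hφ] at this
    rw [← this]; ring
  have h192 : ((192 : F)) ^ 2 = 1 := by rw [hN1] at hN2; linear_combination hN2
  have hk5 : k ≤ 5 := by
    have hd := Nat.le_of_dvd (by omega) (orderOf_dvd_of_pow_eq_one hN4)
    rw [ho, ← hk] at hd
    by_contra h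
    have := Nat.sub_add_cancel (show 1 ≤ k ^ 2 by nlinarith)
    nlinarith
  have hqF : (Nat.card F : F) = 0 := by rw [Nat.card_eq_fintype_card, Nat.cast_card_eq_zero]
  rw [← hk] at hqF
  have hq1 : 1 < k ^ 2 := hk ▸ Finite.one_lt_card
  interval_cases k
  · omega
  · omega
  · exact h2 (pow_eq_zero_iff (n := 2) two_ne_zero |>.1 (by push_cast at hqF ⊢; linear_combination hqF))
  · exact h3 (pow_eq_zero_iff (n := 2) two_ne_zero |>.1 (by push_cast at hqF ⊢; linear_combination hqF))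
  · exact pow_ne_zero 4 h2 (by push_cast at hqF ⊢; linear_combination hqF)
  · have h5 : (5 : F) = 0 := pow_eq_zero_iff (n := 2) two_ne_zero |>.1 (by push_cast at hqF ⊢; linear_combination hqF)
    exact h3 (by linear_combination h192 - 7372 * h5)

theorem eq_of_cube_mem {M : Subfield F} (h3 : (3 : F) = 0) {x : F} (h : x ^ 3 ∈ M) : x ∈ M := by
  have inj : ∀ a b : F, a ^ 3 = b ^ 3 → a = b := fun a b e =>
    sub_eq_zero.1 (pow_eq_zero_iff three_ne_zero |>.1 (show (a - b) ^ 3 = 0 by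
      linear_combination e - (a * a * b - a * b * b) * h3))
  have hs : Function.Surjective fun y : M => y ^ 3 :=
    Finite.injective_iff_surjective.1 fun a b e => Subtype.ext (inj a b (congrArg Subtype.val e))
  obtain ⟨y, hy⟩ := hs ⟨x ^ 3, h⟩
  have e := inj (y : F) x (congrArg Subtype.val hy)
  rw [← e]; exact y.2

variable {m : ℕ}

/-- `δ (back d) + δ (back (d + 1))`. -/
def pairVec (m d : ℕ) : Fin (m + 3) → F := Pi.single (back m d) 1 + Pi.single (back m (d + 1)) 1

theorem pairVec_alt (d : ℕ) (hd : d + 1 ≤ m + 2) : (pairVec m d : Fin (m + 3) → F) ⬝ᵥ altVec m = 0 := by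
  simp only [pairVec, add_dotProduct, single_dotProduct, one_mul, altVec, back]
  rw [show m + 2 - (m + 2 - d) = d by omega, show m + 2 - (m + 2 - (d + 1)) = d + 1 by omega, pow_succ]
  ring

theorem pairVec_alt₂ (d : ℕ) (hd : d + 1 ≤ m + 2) :
    (pairVec m d : Fin (m + 3) → F) ⬝ᵥ altVec₂ m = (-1) ^ (d + 1) := by
  simp only [pairVec, add_dotProduct, single_dotProduct, one_mul, altVec₂, back]
  rw [show m + 2 - (m + 2 - d) = d by omega, show m + 2 - (m + 2 - (d + 1)) = d + 1 by omega, pow_succ]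
  push_cast
  ring

/-- The row of the second generator. -/
def pairRow (m : ℕ) (c t : F) : Fin (m + 3) → F :=
  pairVec m 1 + c • pairVec m 2 + t • pairVec m (m + 1)

theorem exists_two_conjugates_of_pair (hm : 1 ≤ m) (c t ξ β τ : F) (hβ : β = 1 - c + (-1) ^ m * t)
    (hτ : τ = ξ ^ 2 - 4 * (1 + c + t * (if m + 1 = 2 then 1 else 0) + t * (if m + 2 = 2 then 1 else 0)) * ξ +
      8 * (1 + c + t * (if m + 1 = 2 then 1 else 0) + t * (if m + 2 = 2 then 1 else 0)) ^ 2 +
      4 * (1 + c + t * (if m + 1 = 2 then 1 else 0) + t * (if m + 2 = 2 then 1 else 0)) -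
      4 * (c + t * (if m + 1 = 3 then 1 else 0) + t * (if m + 2 = 3 then 1 else 0)) + 4)
    (h0 : t + c * (if m = 1 then 1 else 0) ≠ 0) (hβ0 : β ≠ 0) (hτ0 : τ ≠ 0)
    (hgen : ∀ M : Subfield F, β ^ 2 * τ ^ 3 ∈ M → M = ⊤) :
    ∃ g : SpecialLinearGroup (Fin (m + 3)) F,
      Subgroup.closure ({regU m, g * regU m * g⁻¹} : Set (SpecialLinearGroup (Fin (m + 3)) F)) = ⊤ := by
  have hback : ∀ j, j ≤ m + 2 → pairRow m c t (back m j) =
      (if j = 1 then 1 else 0) + (if j = 2 then 1 else 0) + c * ((if j = 2 then 1 else 0) + (if j = 3 then 1 else 0)) +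
        t * ((if m + 1 = j then 1 else 0) + (if m + 2 = j then 1 else 0)) := by
    intro j hj
    have hi : ∀ a, a ≤ m + 2 → (m + 2 - j = m + 2 - a ↔ j = a) := fun a ha => by omega
    simp only [pairRow, pairVec, Pi.add_apply, Pi.smul_apply, smul_eq_mul, Pi.single_apply, back, Fin.ext_iff,
      hi 1 (by omega), hi (1 + 1) (by omega), hi 2 (by omega), hi (2 + 1) (by omega), hi (m + 1) (by omega),
      hi (m + 1 + 1) (by omega), eq_comm (a := j) (b := m + 1), eq_comm (a := j) (b := m + 1 + 1)]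
  have hp3 : pairRow m c t (back m 2) =
      1 + c + t * (if m + 1 = 2 then 1 else 0) + t * (if m + 2 = 2 then 1 else 0) := by
    rw [hback 2 (by omega), if_neg (by omega), if_pos rfl, if_neg (by omega)]; ring
  have hp4 : pairRow m c t (back m 3) =
      c + t * (if m + 1 = 3 then 1 else 0) + t * (if m + 2 = 3 then 1 else 0) := by
    rw [hback 3 (by omega), if_neg (by omega), if_neg (by omega), if_pos rfl]; ring
  have hB : pairRow m c t ⬝ᵥ altVec₂ m = β := by
    rw [pairRow, add_dotProduct, add_dotProduct, smul_dotProduct, smul_dotProduct, pairVec_alt₂ 1 (by omega),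
      pairVec_alt₂ 2 (by omega), pairVec_alt₂ (m + 1) le_rfl, hβ, smul_eq_mul, smul_eq_mul]
    ring
  refine exists_two_conjugates_of_row hm (pairRow m c t) ξ ?_ ?_ ?_ ?_ (by rwa [hB]) ?_ ?_
  · rw [show iL m = back m 0 from rfl, hback 0 (by omega)]; simp
  · rw [hback 1 (by omega), if_neg (show ¬ m + 1 = 1 by omega), if_neg (show ¬ m + 2 = 1 by omega)]; simp
  · rw [show i0 m = back m (m + 2) from Fin.ext (by simp [i0, back]), hback _ le_rfl]
    rcases eq_or_ne m 1 with rfl | h1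
    · simpa [add_comm] using h0
    · simpa [h1, show m ≠ 0 by omega, show m + 2 ≠ 2 by omega, show m + 2 ≠ 3 by omega] using h0
  · rw [pairRow, add_dotProduct, add_dotProduct, smul_dotProduct, smul_dotProduct, pairVec_alt 1 (by omega),
      pairVec_alt 2 (by omega), pairVec_alt (m + 1) le_rfl]
    simp
  · rwa [hp3, hp4, ← hτ]
  · rw [hB, hp3, hp4, ← hτ]; exact hgen

theorem exists_two_conjugates_ge_four (hm : 1 ≤ m) (hex : ¬ (Fintype.card F = 2 ∧ m = 1)) :
    ∃ g : SpecialLinearGroup (Fin (m + 3)) F,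
      Subgroup.closure ({regU m, g * regU m * g⁻¹} : Set (SpecialLinearGroup (Fin (m + 3)) F)) = ⊤ := by
  classical
  obtain ⟨ω, hω, ho⟩ := exists_unit_generator F
  have hnat := Nat.card_eq_fintype_card (α := F)
  have h1F : 1 < Nat.card F := Finite.one_lt_card
  have hσ : ((-1 : F) ^ m) * (-1) ^ m = 1 := by rw [← pow_add, ← two_mul, pow_mul]; simp
  have hσ0 : ((-1 : F) ^ m) ≠ 0 := pow_ne_zero _ (neg_ne_zero.2 one_ne_zero)
  have hω1 : Fintype.card F ≠ 2 → ω ≠ 1 := fun h e => by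
    rw [e, orderOf_one] at ho; omega
  by_cases h2 : (2 : F) = 0
  · -- characteristic two
    have h4 : (4 : F) = 0 := by linear_combination 2 * h2
    by_cases hq : Fintype.card F = 2
    · have hm2 : 2 ≤ m := by
        rcases Nat.lt_or_ge m 2 with h | h
        · exact absurd ⟨hq, by omega⟩ hex
        · exact h
      have hall : ∀ M : Subfield F, M = ⊤ := fun M => top_of_mem hω ho (by
        have : ω = 1 := by
          have := orderOf_eq_one_iff.1 (show orderOf ω = 1 by rw [ho]; omega)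
          exact this
        rw [this]; exact M.one_mem)
      refine exists_two_conjugates_of_pair hm 1 1 1 1 1 ?_ ?_ ?_ one_ne_zero one_ne_zero fun M _ => hall M
      · have e : ((-1 : F) ^ m) = 1 := by rw [show (-1 : F) = 1 by linear_combination -h2, one_pow]
        rw [e]; ring
      · set a : F := if m + 1 = 2 then 1 else 0
        set b : F := if m + 2 = 2 then 1 else 0
        set a' : F := if m + 1 = 3 then 1 else 0
        set b' : F := if m + 2 = 3 then 1 else 0
        linear_combination ((1 + 1 + a + b) - 2 * (1 + 1 + a + b) ^ 2 - (1 + 1 + a + b) + (1 + a' + b') - 1) * h4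
      · simp [show m ≠ 1 by omega]
    · refine exists_two_conjugates_of_pair hm 0 ((-1) ^ m * (ω - 1)) 1 ω 1 ?_ ?_ ?_ hω one_ne_zero
        fun M h => top_of_sq_mem hω ho (by simpa using h)
      · linear_combination -(ω - 1) * hσ
      · set t : F := (-1) ^ m * (ω - 1)
        set a : F := if m + 1 = 2 then 1 else 0
        set b : F := if m + 2 = 2 then 1 else 0
        set a' : F := if m + 1 = 3 then 1 else 0
        set b' : F := if m + 2 = 3 then 1 else 0
        linear_combination ((1 + 0 + t * a + t * b) - 2 * (1 + 0 + t * a + t * b) ^ 2 - (1 + 0 + t * a + t * b) + (0 + t * a' + t * b') - 1) * h4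
      · simpa using mul_ne_zero hσ0 (sub_ne_zero.2 (hω1 hq))
  have hq2 : Fintype.card F ≠ 2 := fun h => h2 (by
    have := Nat.cast_card_eq_zero F; rw [h] at this; exact_mod_cast this)
  have h4 : (4 : F) ≠ 0 := by rw [show (4 : F) = 2 * 2 by norm_num]; exact mul_ne_zero h2 h2
  rcases (show m = 1 ∨ m = 2 ∨ 3 ≤ m by omega) with rfl | rfl | h3m
  · -- four dimensions
    by_cases hb : (⊥ : Subfield F) = ⊤
    · refine exists_two_conjugates_of_pair hm 0 (-1) (2 * (1 + -1)) 2 8 (by ring) (by norm_num) (by simp)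
        h2 ?_ fun M _ => top_unique (hb ▸ bot_le)
      rw [show (8 : F) = 2 * 4 by norm_num]; exact mul_ne_zero h2 h4
    by_cases h3 : (3 : F) = 0
    · have hτ : ω ^ 2 - 1 ≠ 0 := fun e => hb (top_of_sq_mem hω ho (by
        rw [sub_eq_zero.1 e]; exact (⊥ : Subfield F).one_mem))
      refine exists_two_conjugates_of_pair hm 0 (-1) ω 2 (ω ^ 2 - 1) (by ring) ?_ (by simp) h2 hτ
        fun M h => ?_
      · norm_num; linear_combination -3 * h3
      · have h4M : (2 : F) ^ 2 ∈ M := pow_mem (by exact_mod_cast natCast_mem M 2) 2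
        have h5 := M.mul_mem (M.inv_mem h4M) h
        rw [← mul_assoc, inv_mul_cancel₀ (pow_ne_zero 2 h2), one_mul] at h5
        exact top_of_sq_mem hω ho (by simpa using M.add_mem (eq_of_cube_mem h3 h5) M.one_mem)
    obtain ⟨x, hx, hd, hn, hg⟩ := exists_rho hω ho h2 h3 hb
    set ρ := (1 + 12 * x ^ 2) / (1 + 4 * x ^ 2) with hρ
    have h12 : (12 : F) ≠ 0 := by
      rw [show (12 : F) = 3 * 4 by norm_num]; exact mul_ne_zero h3 h4
    obtain ⟨u, hu⟩ : ∃ u, u = (1 + 4 * x ^ 2)⁻¹ := ⟨_, rfl⟩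
    have eu : (1 + 4 * x ^ 2) * u = 1 := by rw [hu, mul_inv_cancel₀ hd]
    have hρ' : ρ = 1 + 8 * x ^ 2 * u := by
      rw [hρ, div_eq_mul_inv, ← hu]; linear_combination eu
    refine exists_two_conjugates_of_pair hm 0 (1 - ρ) (-8 * x / (1 + 4 * x ^ 2) + 2 * (1 + (1 - ρ))) ρ 12
      (by ring) ?_ ?_ (div_ne_zero hn hd) h12 fun M h => hg M ?_
    · norm_num
      rw [hρ', div_eq_mul_inv, ← hu]
      linear_combination -(64 * x ^ 2 * u) * eu
    · have e : 1 - ρ = -(4 * 2) * x ^ 2 / (1 + 4 * x ^ 2) := by rw [hρ', div_eq_mul_inv, ← hu]; ring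
      simpa [e] using div_ne_zero (mul_ne_zero (neg_ne_zero.2 (mul_ne_zero h4 h2)) (pow_ne_zero 2 hx)) hd
    · have h12M : (12 : F) ^ 3 ∈ M := pow_mem (by exact_mod_cast natCast_mem M 12) 3
      have h5 := M.mul_mem h (M.inv_mem h12M)
      rwa [mul_assoc, mul_inv_cancel₀ (pow_ne_zero 3 h12), mul_one] at h5
  · -- five dimensions
    obtain ⟨d, e, hde⟩ := FiniteField.exists_root_sum_quadratic (R := F)
      (f := Polynomial.X ^ 2) (g := Polynomial.X ^ 2 - Polynomial.C (4 * ω - 14))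
      (Polynomial.degree_X_pow 2) (Polynomial.degree_X_pow_sub_C (by omega) _) (by
        have h := FiniteField.even_card_iff_char_two (F := F)
        have h' : ringChar F ≠ 2 := fun hc => h2 (by
          have := ringChar.spec F 2; rw [hc] at this; exact_mod_cast this.2 dvd_rfl)
        rcases Nat.mod_two_eq_zero_or_one (Fintype.card F) with h0 | h0
        · exact absurd (h.2 h0) h'
        · exact h0)
    simp only [Polynomial.eval_pow, Polynomial.eval_X, Polynomial.eval_sub, Polynomial.eval_C] at hde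
    have main : ∀ d e : F, d ^ 2 + e ^ 2 = 4 * ω - 14 → e ≠ 3 - 2 * ω → ∃ g : SpecialLinearGroup (Fin (2 + 3)) F,
        Subgroup.closure ({regU 2, g * regU 2 * g⁻¹} : Set (SpecialLinearGroup (Fin (2 + 3)) F)) = ⊤ := by
      intro d e hde he
      have hP : 2 * ((1 + e) / 2) = 1 + e := mul_div_cancel₀ _ h2
      set P := (1 + e) / 2
      refine exists_two_conjugates_of_pair hm (P - 1) (ω + P - 2) (d + 2 * P) ω 1 (by ring) ?_ ?_ hω one_ne_zero
        fun M h => top_of_sq_mem hω ho (by simpa using h)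
      · norm_num
        linear_combination -hde - (2 * P + e - 1) * hP
      · simp only [show (2 : ℕ) ≠ 1 by omega, if_false, mul_zero, add_zero]
        exact fun h0 => he (by linear_combination 2 * h0 - hP)
    set a := 3 - 2 * ω with ha
    by_cases h1 : e = a
    · by_cases h1' : -e = a
      · by_cases h1'' : d = a
        · exfalso
          have e0 : a = 0 := by
            have : 2 * a = 0 := by linear_combination -h1 - h1'
            exact (mul_eq_zero.1 this).resolve_left h2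
          rw [h1, h1'', e0] at hde
          exact pow_ne_zero 3 h2 (by linear_combination hde - 2 * e0 + 2 * ha)
        · exact main e d (by linear_combination hde) h1''
      · exact main d (-e) (by linear_combination hde) h1'
    · exact main d e (by linear_combination hde) h1
  · -- six or more dimensions
    refine exists_two_conjugates_of_pair hm 0 ((-1) ^ m * (ω - 1)) 0 ω (4 * 4) ?_ ?_ ?_ hω (mul_ne_zero h4 h4)
      fun M h => top_of_sq_mem hω ho ?_
    · linear_combination -(ω - 1) * hσ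
    · simp [show m ≠ 0 by omega, show ¬ m + 1 = 2 by omega, show ¬ m + 1 = 3 by omega, show ¬ m + 2 = 3 by omega]
      ring
    · simpa using mul_ne_zero hσ0 (sub_ne_zero.2 (hω1 hq2))
    · have h16M : ((4 : F) * 4) ^ 3 ∈ M := pow_mem (M.mul_mem (by exact_mod_cast natCast_mem M 4)
        (by exact_mod_cast natCast_mem M 4)) 3
      have h5 := M.mul_mem h (M.inv_mem h16M)
      rwa [mul_assoc, mul_inv_cancel₀ (pow_ne_zero 3 (mul_ne_zero h4 h4)), mul_one] at h5

end Cfsg.Agent.Lie.RegUnip
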