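import Cfsg.Agent.Lib.Lie.CurtisTitsColumn

/-! A chain of overlapping copies of `SL₃` gives `SL_m`. -/

set_option autoImplicit false
set_option linter.unusedSectionVars false
set_option linter.unusedSimpArgs false

namespace Cfsg.Agent.Lie.CurtisTitsA

open Matrix Cfsg.Agent.Lie.Chev
open scoped MatrixGroups

variable {F : Type*} [Field F] {N : ℕ}

/-- The element moving `e_j` to `e_i`. -/
def wN (i j : Fin N) (h : i ≠ j) : Matrix.SpecialLinearGroup (Fin N) F :=
  tvN i j h 1 * tvN j i (Ne.symm h) (-1) * tvN i j h 1

theorem wN_apply {i j : Fin N} (h : i ≠ j) : (wN i j h : Matrix.SpecialLinearGroup (Fin N) F).1 *ᵥ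
    Pi.single j (1 : F) = Pi.single i 1 := by
  rw [wN, val_mulN, val_mulN, ← mulVec_mulVec, ← mulVec_mulVec, tv_mulVec, tv_mulVec, tv_mulVec]
  funext k
  by_cases hi : k = i
  · subst hi; simp [h, Ne.symm h]
  · by_cases hj : k = j
    · subst hj; simp [h, Ne.symm h]
    · simp [hi, hj]

theorem wN_fix {i j l : Fin N} (h : i ≠ j) (hli : l ≠ i) (hlj : l ≠ j) :
    (wN i j h : Matrix.SpecialLinearGroup (Fin N) F).1 *ᵥ Pi.single l (1 : F) = Pi.single l 1 := by
  have hf : ∀ (x y : Fin N) (hxy : x ≠ y) (t : F), l ≠ y →
      (tvN x y hxy t).1 *ᵥ Pi.single l (1 : F) = Pi.single l 1 := fun x y hxy t hly => by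
    rw [tv_mulVec, Pi.single_eq_of_ne (Ne.symm hly), mul_zero, Pi.single_zero, add_zero]
  rw [wN, val_mulN, val_mulN, ← mulVec_mulVec, ← mulVec_mulVec, hf i j h 1 hlj,
    hf j i (Ne.symm h) (-1) hli, hf i j h 1 hlj]

theorem wN_tau {i j : Fin N} (h : i ≠ j) :
    tauN (wN i j h : Matrix.SpecialLinearGroup (Fin N) F) = wN i j h := by
  rw [wN, map_mul, map_mul, tauN_tv, tauN_tv, neg_neg]
  apply Subtype.ext
  ext k l
  simp only [val_mulN, tvN_val, transvection]
  simp only [mul_add, add_mul, one_mul, mul_one, single_mul_single_same,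
    single_mul_single_of_ne _ _ _ _ h, single_mul_single_of_ne _ _ _ _ (Ne.symm h)]
  simp only [Matrix.add_apply, Matrix.single_apply, Matrix.one_apply]
  split_ifs <;> ring

/-- A matrix with first index `x` and second index `y` moved. -/
theorem conj_tv (g : Matrix.SpecialLinearGroup (Fin N) F) {x y x' y' : Fin N} (h : x ≠ y)
    (h' : x' ≠ y') (hx : g.1 *ᵥ Pi.single x 1 = Pi.single x' 1)
    (hy : (tauN g).1 *ᵥ Pi.single y 1 = Pi.single y' 1) (s : F) :
    g * tvN x y h s * g⁻¹ = tvN x' y' h' s := by
  apply Subtype.ext
  rw [val_mulN, val_mulN, tvN_val, tvN_val, transvection, transvection, mul_add, mul_one, add_mul,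
    ← val_mulN, mul_inv_cancel, val_oneN]
  congr 1
  have hx' : ∀ i, g.1 i x = (Pi.single x' 1 : Fin N → F) i := fun i => by
    rw [← congrFun hx i]; simp [mulVec, dotProduct, Pi.single_apply]
  have hy' : ∀ i, (g⁻¹).1 y i = (Pi.single y' 1 : Fin N → F) i := fun i => by
    rw [← congrFun hy i, tauN_val]; simp [mulVec, dotProduct, Pi.single_apply]
  ext i j
  rw [Matrix.mul_apply, Finset.sum_eq_single y]
  · rw [mul_single_apply_same, hx', hy', Matrix.single_apply]
    by_cases hi : x' = i <;> by_cases hj : y' = j <;>
      simp [hi, hj, Pi.single_apply, eq_comm (a := i), eq_comm (a := j)]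
  · intro k _ hk
    rw [mul_single_apply_of_ne (hbj := hk), zero_mul]
  · simp

section Step

variable [Finite F] {m : ℕ} {a b : Fin m} (hab : a ≠ b) {G : Type*} [Group G]
  (Φ : Matrix.SpecialLinearGroup (Fin m) F →* G) (ψ : SL(3, F) →* G)

/-- Adding one index. -/
theorem exists_step (hm : 3 ≤ m)
    (hu : ∀ t, ψ (up3 (upSL t)) = Φ (tvN a b hab t))
    (hl : ∀ t, ψ (up3 (loSL t)) = Φ (tvN b a (Ne.symm hab) t))
    (hoff : ∀ (i j : Fin m) (h : i ≠ j), i ≠ b → j ≠ b → ∀ t u,
      Commute (Φ (tvN i j h t)) (ψ (tvN 1 2 (by decide) u)) ∧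
      Commute (Φ (tvN i j h t)) (ψ (tvN 2 1 (by decide) u))) :
    ∃ Ψ : Matrix.SpecialLinearGroup (Fin (m + 1)) F →* G,
      (∀ (i j : Fin m) (h : i ≠ j) t,
        Ψ (tvN i.castSucc j.castSucc (fun e => h (Fin.castSucc_inj.1 e)) t) = Φ (tvN i j h t)) ∧
      (∀ t, Ψ (tvN b.castSucc (Fin.last m) (Fin.castSucc_ne_last b) t) = ψ (dn3 (upSL t))) ∧
      (∀ t, Ψ (tvN (Fin.last m) b.castSucc (Fin.castSucc_ne_last b).symm t) = ψ (dn3 (loSL t))) := by
  obtain ⟨c, cadd, ceq, ca, cb⟩ := exists_column hab Φ ψ hm hu hl
    (fun i j h hi hj t u => (hoff i j h hi hj t u).1)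
  obtain ⟨r', radd, req, ra, rb⟩ := exists_column hab (Φ.comp tauN) (ψ.comp tauN) hm
    (fun t => by
      show ψ (tauN (up3 (upSL t))) = Φ (tauN (tvN a b hab t))
      rw [tau_up3, tau_up, tauN_tv, hl])
    (fun t => by
      show ψ (tauN (up3 (loSL t))) = Φ (tauN (tvN b a _ t))
      rw [tau_up3, tau_lo, tauN_tv, hu])
    (fun i j h hi hj t u => by
      show Commute (Φ (tauN (tvN i j h t))) (ψ (tauN (tvN 1 2 _ u)))
      rw [tauN_tv, tauN_tv]
      exact (hoff j i (Ne.symm h) hj hi (-t) (-u)).2)
  have req' : ∀ g v, Φ g * r' v * (Φ g)⁻¹ = r' ((tauN g).1 *ᵥ v) := fun g v => by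
    have := req (tauN g) v
    simp only [MonoidHom.coe_comp, Function.comp_apply, tauN_tauN] at this
    exact this
  let r : Fin m → F → G := fun l u => r' (Pi.single l (-u))
  let cc : Fin m → F → G := fun i t => c (Pi.single i t)
  -- the mixed relation
  let R : Fin m → Fin m → Prop := fun i l => ∃ h : i ≠ l, ∀ t u,
    cc i t * r l u = Φ (tvN i l h (t * u)) * r l u * cc i t
  have hsmul : ∀ (g : Matrix.SpecialLinearGroup (Fin m) F) (i i' : Fin m),
      g.1 *ᵥ Pi.single i 1 = Pi.single i' 1 → ∀ t : F, g.1 *ᵥ Pi.single i t = Pi.single i' t := by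
    intro g i i' h t
    have e : ∀ k : Fin m, (Pi.single k t : Fin m → F) = t • Pi.single k 1 := fun k => by
      rw [← Pi.single_smul, smul_eq_mul, mul_one]
    rw [e i, e i', mulVec_smul, h]
  have hmove : ∀ (g : Matrix.SpecialLinearGroup (Fin m) F) {i l i' l' : Fin m},
      g.1 *ᵥ Pi.single i 1 = Pi.single i' 1 → (tauN g).1 *ᵥ Pi.single l 1 = Pi.single l' 1 →
      i' ≠ l' → R i l → R i' l' := by
    rintro g i l i' l' hi hl hne ⟨h, hR⟩
    refine ⟨hne, fun t u => ?_⟩
    have e1 : Φ g * cc i t * (Φ g)⁻¹ = cc i' t := by
      rw [ceq, hsmul g i i' hi]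
    have e2 : Φ g * r l u * (Φ g)⁻¹ = r l' u := by
      rw [req', hsmul (tauN g) l l' hl]
    have e3 : Φ g * Φ (tvN i l h (t * u)) * (Φ g)⁻¹ = Φ (tvN i' l' hne (t * u)) := by
      rw [← map_inv, ← map_mul, ← map_mul, conj_tv g h hne hi hl]
    have := congrArg (fun x => Φ g * x * (Φ g)⁻¹) (hR t u)
    calc cc i' t * r l' u = Φ g * (cc i t * r l u) * (Φ g)⁻¹ := by rw [← e1, ← e2]; group
      _ = Φ g * (Φ (tvN i l h (t * u)) * r l u * cc i t) * (Φ g)⁻¹ := this
      _ = _ := by rw [← e1, ← e2, ← e3]; group
  have hfst : ∀ {i i' l : Fin m}, R i l → i' ≠ l → R i' l := by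
    intro i i' l hR hne
    by_cases hii : i' = i
    · exact hii ▸ hR
    · exact hmove (wN i' i hii) (wN_apply hii)
        (by rw [wN_tau]; exact wN_fix hii (Ne.symm hne) (Ne.symm hR.1)) hne hR
  have hsnd : ∀ {i l l' : Fin m}, R i l → i ≠ l' → R i l' := by
    intro i l l' hR hne
    by_cases hll : l' = l
    · exact hll ▸ hR
    · exact hmove (wN l' l hll) (wN_fix hll hne hR.1)
        (by rw [wN_tau]; exact wN_apply hll) hne hR
  have hbase : R a b := by
    refine ⟨hab, fun t u => ?_⟩
    have e1 : r b u = ψ (tvN 2 1 (by decide) u) := by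
      show r' (Pi.single b (-u)) = _
      rw [rb]
      show ψ (tauN (tvN 1 2 _ (-u))) = _
      rw [tauN_tv, neg_neg]
    show c (Pi.single a t) * r b u = _ * r b u * c (Pi.single a t)
    rw [e1, ca, ← hu, up3_up, ← map_mul, tv_comm₁ (i := (0 : Fin 3)) (j := 2) (k := 1) (by decide)
      (by decide) (by decide), map_mul, map_mul]
  have hR : ∀ i l : Fin m, i ≠ l → R i l := by
    intro i l hil
    by_cases hi : i = b
    · obtain ⟨k, hkb, hkl⟩ : ∃ k : Fin m, k ≠ b ∧ k ≠ l := by
        by_contra hcon
        push Not at hcon
        have hsub : (Finset.univ : Finset (Fin m)) ⊆ {b, l} := fun k _ => by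
          simp only [Finset.mem_insert, Finset.mem_singleton]
          exact or_iff_not_imp_left.2 (hcon k)
        have := Finset.card_le_card hsub
        rw [Finset.card_univ, Fintype.card_fin] at this
        have := Finset.card_le_two (a := b) (b := l)
        omega
      exact hfst (hsnd (hfst hbase hkb) hkl) hil
    · exact hsnd (hfst hbase hi) hil
  have hcol : ∀ (i : Fin m) (t u : F), cc i t * cc i u = cc i (t + u) := fun i t u => by
    show c _ * c _ = c _
    rw [cadd, ← Pi.single_add]
  have hrow : ∀ (i : Fin m) (t u : F), r i t * r i u = r i (t + u) := fun i t u => by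
    show r' _ * r' _ = r' _
    rw [radd, ← Pi.single_add, neg_add]
  have hccomm : ∀ (i l : Fin m) (t u : F), Commute (cc i t) (cc l u) := fun i l t u => by
    show c _ * c _ = c _ * c _
    rw [cadd, cadd, add_comm]
  have hrcomm : ∀ (i l : Fin m) (t u : F), Commute (r i t) (r l u) := fun i l t u => by
    show r' _ * r' _ = r' _ * r' _
    rw [radd, radd, add_comm]
  -- conjugation by transvections
  have hxc : ∀ (k l : Fin m) (h : k ≠ l) (t : F) (i : Fin m) (u : F),
      Φ (tvN k l h t) * cc i u =
        c (Pi.single i u + Pi.single k (t * (Pi.single i u : Fin m → F) l)) * Φ (tvN k l h t) := by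
    intro k l h t i u
    rw [← tv_mulVec h t, ← ceq, inv_mul_cancel_right]
  have hxr : ∀ (k l : Fin m) (h : k ≠ l) (t : F) (i : Fin m) (u : F),
      Φ (tvN k l h t) * r i u =
        r' (Pi.single i (-u) + Pi.single l ((-t) * (Pi.single i (-u) : Fin m → F) k)) *
          Φ (tvN k l h t) := by
    intro k l h t i u
    rw [← tv_mulVec (Ne.symm h) (-t), ← tauN_tv h t, ← req', inv_mul_cancel_right]
  let X : Fin (m + 1) → Fin (m + 1) → F → G := fun i j t =>
    Fin.lastCases (Fin.lastCases 1 (fun l => r l t) j)
      (fun i' => Fin.lastCases (cc i' t)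
        (fun j' => if h : i' ≠ j' then Φ (tvN i' j' h t) else 1) j) i
  have Xcc : ∀ (i j : Fin m) (h : i ≠ j) t, X i.castSucc j.castSucc t = Φ (tvN i j h t) := by
    intro i j h t; simp [X, h]
  have Xcl : ∀ (i : Fin m) t, X i.castSucc (Fin.last m) t = cc i t := by intro i t; simp [X]
  have Xlc : ∀ (j : Fin m) t, X (Fin.last m) j.castSucc t = r j t := by intro i t; simp [X]
  have inj : ∀ {i j : Fin m}, i.castSucc ≠ j.castSucc → i ≠ j := fun h e => h (by rw [e])
  let A : SLSteinberg.SLPre F (m + 1) G :=
    { X := X
      add := by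
        intro i j hij t u
        induction i using Fin.lastCases with
        | last =>
          induction j using Fin.lastCases with
          | last => exact absurd rfl hij
          | cast j => rw [Xlc, Xlc, Xlc, hrow]
        | cast i =>
          induction j using Fin.lastCases with
          | last => rw [Xcl, Xcl, Xcl, hcol]
          | cast j =>
            rw [Xcc i j (inj hij), Xcc i j (inj hij), Xcc i j (inj hij), ← map_mul]
            congr 1
            exact Subtype.ext (by
              rw [val_mulN, tvN_val, tvN_val, tvN_val,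
                transvection_mul_transvection_same (h := inj hij)])
      comm₀ := by
        intro i j k l hij hkl hjk hil t u
        induction i using Fin.lastCases with
        | last =>
          induction j using Fin.lastCases with
          | last => exact absurd rfl hij
          | cast j =>
            induction l using Fin.lastCases with
            | last => exact absurd rfl hil
            | cast l =>
              induction k using Fin.lastCases with
              | last => rw [Xlc, Xlc]; exact hrcomm _ _ _ _
              | cast k =>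
                rw [Xlc, Xcc k l (inj hkl)]
                refine Commute.symm ?_
                show _ * _ = _ * _
                rw [hxr, Pi.single_eq_of_ne (inj hjk).symm, mul_zero, Pi.single_zero, add_zero]
        | cast i =>
          induction j using Fin.lastCases with
          | last =>
            induction k using Fin.lastCases with
            | last => exact absurd rfl hjk
            | cast k =>
              induction l using Fin.lastCases with
              | last => rw [Xcl, Xcl]; exact hccomm _ _ _ _
              | cast l =>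
                rw [Xcl, Xcc k l (inj hkl)]
                refine Commute.symm ?_
                show _ * _ = _ * _
                rw [hxc, Pi.single_eq_of_ne (inj hil).symm, mul_zero, Pi.single_zero, add_zero]
          | cast j =>
            rw [Xcc i j (inj hij)]
            induction k using Fin.lastCases with
            | last =>
              induction l using Fin.lastCases with
              | last => exact absurd rfl hkl
              | cast l =>
                rw [Xlc]
                show _ * _ = _ * _
                rw [hxr, Pi.single_eq_of_ne (inj hil), mul_zero, Pi.single_zero, add_zero]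
            | cast k =>
              induction l using Fin.lastCases with
              | last =>
                rw [Xcl]
                show _ * _ = _ * _
                rw [hxc, Pi.single_eq_of_ne (inj hjk), mul_zero, Pi.single_zero, add_zero]
              | cast l =>
                rw [Xcc k l (inj hkl)]
                show _ * _ = _ * _
                rw [← map_mul, tv_comm₀ _ _ (inj hjk) (inj hil), map_mul]
      comm₁ := by
        intro i j k hij hjk hik t u
        induction i using Fin.lastCases with
        | last =>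
          induction j using Fin.lastCases with
          | last => exact absurd rfl hij
          | cast j =>
            induction k using Fin.lastCases with
            | last => exact absurd rfl hik
            | cast k =>
              rw [Xlc, Xlc, Xcc j k (inj hjk), mul_assoc (r k (t * u)), hxr, Pi.single_eq_same,
                ← mul_assoc]
              show r' _ * _ = r' _ * r' _ * _
              rw [radd]
              congr 2
              funext x
              simp [Pi.single_apply]
              split_ifs <;> ring
        | cast i =>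
          induction j using Fin.lastCases with
          | last =>
            induction k using Fin.lastCases with
            | last => exact absurd rfl hjk
            | cast k =>
              obtain ⟨_, hR'⟩ := hR i k (inj hik)
              rw [Xcl, Xlc, Xcc i k (inj hik)]
              exact hR' t u
          | cast j =>
            induction k using Fin.lastCases with
            | last =>
              rw [Xcc i j (inj hij), Xcl, Xcl, hxc, Pi.single_eq_same]
              congr 1
              show c _ = c _ * c _
              rw [cadd, add_comm]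
            | cast k =>
              rw [Xcc i j (inj hij), Xcc j k (inj hjk), Xcc i k (inj hik), ← map_mul, ← map_mul,
                ← map_mul, tv_comm₁ _ _ (inj hik)] }
  obtain ⟨Ψ, hΨ⟩ := exists_hom_of_SLPre (by omega) A
  refine ⟨Ψ, fun i j h t => by rw [hΨ]; exact Xcc i j h t, fun t => ?_, fun t => ?_⟩
  · rw [hΨ]
    show X _ _ t = _
    rw [Xcl, dn3_up]
    exact cb t
  · rw [hΨ]
    show X _ _ t = _
    rw [Xlc, dn3_lo]
    show r' _ = _
    rw [rb]
    show ψ (tauN (tvN 1 2 _ (-t))) = _
    rw [tauN_tv, neg_neg]

end Step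

/-- A chain of copies of `SL₃` gives `SL_{n+1}`. -/
theorem exists_chain [Finite F] {G : Type*} [Group G] (φ : ℕ → SL(2, F) →* G) (n : ℕ) (hn : 2 ≤ n)
    (hedge : ∀ k, k + 1 < n → ∃ ψ : SL(3, F) →* G,
      (∀ g, ψ (up3 g) = φ k g) ∧ ∀ g, ψ (dn3 g) = φ (k + 1) g)
    (hfar : ∀ k l, k + 1 < l → l < n → ∀ g g', Commute (φ k g) (φ l g')) :
    ∃ Ψ : Matrix.SpecialLinearGroup (Fin (n + 1)) F →* G, ∀ i j : Fin (n + 1),
      (h : j.val = i.val + 1) →
      ∀ t, Ψ (tvN i j (fun e => by rw [e] at h; omega) t) = φ i.val (upSL t) ∧
        Ψ (tvN j i (fun e => by rw [e] at h; omega) t) = φ i.val (loSL t) := by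
  induction n, hn using Nat.le_induction with
  | base =>
    obtain ⟨ψ, hu, hd⟩ := hedge 0 (by omega)
    refine ⟨ψ, fun i j h t => ?_⟩
    obtain ⟨i, hi⟩ := i
    obtain ⟨j, hj⟩ := j
    change j = i + 1 at h
    subst h
    rcases (show i = 0 ∨ i = 1 by omega) with rfl | rfl
    · exact ⟨by rw [← hu, up3_up]; rfl, by rw [← hu, up3_lo]; rfl⟩
    · exact ⟨by rw [← hd, dn3_up]; rfl, by rw [← hd, dn3_lo]; rfl⟩
  | succ n hn ih =>
    obtain ⟨Φ, hΦ⟩ := ih (fun k hk => hedge k (by omega)) fun k l h hl => hfar k l h (by omega)
    obtain ⟨ψ, hu, hd⟩ := hedge (n - 1) (by omega)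
    let a : Fin (n + 1) := ⟨n - 1, by omega⟩
    let b : Fin (n + 1) := ⟨n, by omega⟩
    have hab : a ≠ b := fun e => by have := congrArg Fin.val e; simp [a, b] at this; omega
    have hb : b.val = a.val + 1 := by simp [a, b]; omega
    obtain ⟨Ψ, hΨ, hΨu, hΨl⟩ := exists_step hab Φ ψ (by omega)
      (fun t => by rw [(hΦ a b hb t).1, hu])
      (fun t => by rw [(hΦ a b hb t).2, hu])
      (fun i j h hi hj t u => by
        have hlt : ∀ {i : Fin (n + 1)}, i ≠ b → i.val < n := fun {i} hi => by
          have := Fin.val_ne_of_ne hi
          simp [b] at this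
          omega
        constructor
        · let H := (Subgroup.centralizer {ψ (tvN 1 2 (by decide) u)}).comap Φ
          refine Subgroup.mem_centralizer_singleton_iff.1 (tv_mem_of_adjacent H n ?_ i j h (hlt hi)
            (hlt hj) t)
          intro i j h hi hj hadj t
          refine Subgroup.mem_centralizer_singleton_iff.2 ?_
          rw [← dn3_up, hd, show n - 1 + 1 = n by omega]
          rcases hadj with e | e
          · rw [(hΦ i j e t).1]; exact hfar _ _ (by omega) (by omega) _ _
          · rw [(hΦ j i e t).2]; exact hfar _ _ (by omega) (by omega) _ _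
        · let H := (Subgroup.centralizer {ψ (tvN 2 1 (by decide) u)}).comap Φ
          refine Subgroup.mem_centralizer_singleton_iff.1 (tv_mem_of_adjacent H n ?_ i j h (hlt hi)
            (hlt hj) t)
          intro i j h hi hj hadj t
          refine Subgroup.mem_centralizer_singleton_iff.2 ?_
          rw [← dn3_lo, hd, show n - 1 + 1 = n by omega]
          rcases hadj with e | e
          · rw [(hΦ i j e t).1]; exact hfar _ _ (by omega) (by omega) _ _
          · rw [(hΦ j i e t).2]; exact hfar _ _ (by omega) (by omega) _ _)
    refine ⟨Ψ, fun i j h t => ?_⟩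
    induction i using Fin.lastCases with
    | last => simp at h; omega
    | cast i =>
      induction j using Fin.lastCases with
      | last =>
        simp at h
        have hib : i = b := Fin.ext (by simp [b]; omega)
        subst hib
        rw [hΨu, hΨl, hd, hd, show n - 1 + 1 = n by omega]
        exact ⟨rfl, rfl⟩
      | cast j =>
        have hij : i ≠ j := fun e => by rw [e] at h; simp at h
        simp only [Fin.val_castSucc] at h
        exact ⟨(hΨ i j hij t).trans (hΦ i j h t).1,
          (hΨ j i (Ne.symm hij) t).trans (hΦ i j h t).2⟩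

end Cfsg.Agent.Lie.CurtisTitsA
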