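import Cfsg.Agent.Lib.Lie.CurtisTitsBlocks

/-! A homomorphism of `SL_m` and an overlapping one of `SL₃` give one of `SL_{m+1}`. -/

set_option autoImplicit false
set_option linter.unusedSectionVars false
set_option linter.unusedSimpArgs false

namespace Cfsg.Agent.Lie.CurtisTitsA

open Matrix Cfsg.Agent.Lie.Chev
open scoped MatrixGroups

variable {F : Type*} [Field F] {N : ℕ}

theorem tv_mulVec {i j : Fin N} (h : i ≠ j) (t : F) (v : Fin N → F) :
    (tvN i j h t).1 *ᵥ v = v + Pi.single i (t * v j) := by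
  rw [tvN_val, transvection, add_mulVec, one_mulVec]
  congr 1
  funext k
  by_cases hk : k = i
  · subst hk
    rw [mulVec, dotProduct, Finset.sum_eq_single j] <;> simp +contextual [Ne.symm]
  · rw [Pi.single_eq_of_ne hk, mulVec, dotProduct]
    exact Finset.sum_eq_zero fun x _ => by simp [single_apply, Ne.symm hk]

theorem tv_inv {i j : Fin N} (h : i ≠ j) (t : F) : (tvN i j h t)⁻¹ = tvN i j h (-t) := by
  refine inv_eq_of_mul_eq_one_right (Subtype.ext ?_)
  rw [val_mulN, tvN_val, tvN_val, transvection_mul_transvection_same (h := h), add_neg_cancel,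
    transvection_zero, val_oneN]

theorem tv_comm₀ {i j k l : Fin N} (hij : i ≠ j) (hkl : k ≠ l) (hjk : j ≠ k) (hil : i ≠ l)
    (t u : F) : tvN i j hij t * tvN k l hkl u = tvN k l hkl u * tvN i j hij t :=
  Subtype.ext ((SLSteinberg.transvection_rels hij hkl hil t u).1 hjk)

theorem tv_comm₁ {i j k : Fin N} (hij : i ≠ j) (hjk : j ≠ k) (hik : i ≠ k) (t u : F) :
    tvN i j hij t * tvN j k hjk u = tvN i k hik (t * u) * tvN j k hjk u * tvN i j hij t :=
  Subtype.ext ((SLSteinberg.transvection_rels hij hjk hik t u).2 rfl)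

theorem tv_eq_commutator {i j k : Fin N} (hij : i ≠ j) (hjk : j ≠ k) (hik : i ≠ k) (t : F) :
    tvN i k hik t = tvN i j hij t * tvN j k hjk 1 * tvN i j hij (-t) * tvN j k hjk (-1) := by
  have h := tv_comm₁ hij hjk hik t 1
  rw [mul_one] at h
  rw [h, ← tv_inv, ← tv_inv]
  group

/-- Transvections between the first `b` indices lie in a subgroup containing the adjacent ones. -/
theorem tv_mem_of_adjacent (H : Subgroup (Matrix.SpecialLinearGroup (Fin N) F)) (b : ℕ)
    (hadj : ∀ i j : Fin N, (h : i ≠ j) → i.val < b → j.val < b →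
      (j.val = i.val + 1 ∨ i.val = j.val + 1) → ∀ t, tvN i j h t ∈ H) :
    ∀ (i j : Fin N) (h : i ≠ j), i.val < b → j.val < b → ∀ t, tvN i j h t ∈ H := by
  suffices key : ∀ d : ℕ, ∀ (i j : Fin N) (h : i ≠ j), i.val < b → j.val < b →
      (i.val + d + 1 = j.val ∨ j.val + d + 1 = i.val) → ∀ t, tvN i j h t ∈ H by
    intro i j h hi hj t
    have hne : i.val ≠ j.val := fun e => h (Fin.ext e)
    exact key (max i.val j.val - min i.val j.val - 1) i j h hi hj (by omega) t
  intro d
  induction d with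
  | zero => intro i j h hi hj hd t; exact hadj i j h hi hj (by omega) t
  | succ d ih =>
    intro i j h hi hj hd t
    obtain ⟨k, hk, hk1, hk2⟩ : ∃ k : Fin N, k.val < b ∧
        (k.val = i.val + 1 ∧ k.val + d + 1 = j.val ∨ i.val = k.val + 1 ∧ j.val + d + 1 = k.val) ∧
        (k ≠ i ∧ k ≠ j) := by
      rcases hd with hd | hd
      · refine ⟨⟨i.val + 1, by omega⟩, by simp; omega, Or.inl ⟨rfl, by simp; omega⟩, ?_, ?_⟩ <;>
          intro e <;> have := congrArg Fin.val e <;> simp at this <;> omega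
      · refine ⟨⟨i.val - 1, by omega⟩, by simp; omega, Or.inr ⟨by simp; omega, by simp; omega⟩,
          ?_, ?_⟩ <;> intro e <;> have := congrArg Fin.val e <;> simp at this <;> omega
    rw [tv_eq_commutator (Ne.symm hk2.1) hk2.2 h]
    refine mul_mem (mul_mem (mul_mem ?_ ?_) ?_) ?_
    · exact hadj _ _ _ hi hk (by omega) _
    · exact ih _ _ _ hk hj (by omega) _
    · exact hadj _ _ _ hi hk (by omega) _
    · exact ih _ _ _ hk hj (by omega) _

section Column

variable {m : ℕ} {a b : Fin m} (hab : a ≠ b) {G : Type*} [Group G]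
  (Φ : Matrix.SpecialLinearGroup (Fin m) F →* G) (ψ : SL(3, F) →* G)

/-- The complement block. -/
def embOff (b : Fin m) : Matrix.SpecialLinearGroup {i : Fin m // ¬ i = b} F →*
    Matrix.SpecialLinearGroup (Fin m) F where
  toFun h := ⟨reindexAlgEquiv F F (Equiv.sumCompl fun i => i = b) (fromBlocks 1 0 0 h.1), by
    rw [reindexAlgEquiv_apply, det_reindex_self, det_fromBlocks_zero₂₁, det_one, h.2, mul_one]⟩
  map_one' := Subtype.ext (by
    show reindexAlgEquiv F F _ (fromBlocks 1 0 0 1) = 1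
    rw [fromBlocks_one, map_one])
  map_mul' x y := Subtype.ext (by
    show reindexAlgEquiv F F _ (fromBlocks 1 0 0 (x.1 * y.1)) =
      reindexAlgEquiv F F _ (fromBlocks 1 0 0 x.1) * reindexAlgEquiv F F _ (fromBlocks 1 0 0 y.1)
    rw [← map_mul, fromBlocks_multiply]
    simp)

theorem embOff_apply (b : Fin m) (h : Matrix.SpecialLinearGroup {i : Fin m // ¬ i = b} F)
    (i j : Fin m) : (embOff b h).1 i j =
      if hi : i = b then (if j = b then 1 else 0) else (if hj : j = b then 0 else h.1 ⟨i, hi⟩ ⟨j, hj⟩) := by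
  show fromBlocks 1 0 0 h.1 ((Equiv.sumCompl fun i => i = b).symm i)
    ((Equiv.sumCompl fun i => i = b).symm j) = _
  by_cases hi : i = b <;> by_cases hj : j = b <;>
    simp [hi, hj, Equiv.sumCompl_symm_apply_of_pos, Equiv.sumCompl_symm_apply_of_neg, Matrix.one_apply]

/-- The stabiliser of a basis vector is generated by transvections. -/
theorem stab_mem (H : Subgroup (Matrix.SpecialLinearGroup (Fin m) F))
    (hoff : ∀ (i j : Fin m) (h : i ≠ j), i ≠ b → j ≠ b → ∀ t, tvN i j h t ∈ H)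
    (hrow : ∀ (j : Fin m) (h : b ≠ j), ∀ t, tvN b j h t ∈ H)
    {g : Matrix.SpecialLinearGroup (Fin m) F} (hg : g.1 *ᵥ Pi.single b 1 = Pi.single b 1) :
    g ∈ H := by
  classical
  have hcol : ∀ {g : Matrix.SpecialLinearGroup (Fin m) F},
      g.1 *ᵥ Pi.single b 1 = Pi.single b 1 → ∀ i, g.1 i b = (Pi.single b 1 : Fin m → F) i := by
    intro g hg i
    rw [← congrFun hg i, mulVec, dotProduct, Finset.sum_eq_single b]
    · simp
    · intro x _ hx; simp [hx]
    · simp
  have hclear : ∀ S : Finset (Fin m), b ∉ S → ∃ p ∈ H, (g * p).1 *ᵥ Pi.single b 1 = Pi.single b 1 ∧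
      ∀ j ∈ S, (g * p).1 b j = 0 := by
    intro S
    induction S using Finset.induction with
    | empty => intro _; exact ⟨1, one_mem _, by rw [mul_one]; exact hg, by simp⟩
    | @insert j S hjS ih =>
      intro hb
      rw [Finset.mem_insert, not_or] at hb
      obtain ⟨p, hp, hpg, hpS⟩ := ih hb.2
      refine ⟨p * tvN b j hb.1 (-(g * p).1 b j), mul_mem hp (hrow _ _ _), ?_, ?_⟩
      · rw [← mul_assoc, val_mulN, ← mulVec_mulVec, tv_mulVec, Pi.single_eq_of_ne (Ne.symm hb.1),
          mul_zero, Pi.single_zero, add_zero, hpg]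
      · intro k hk
        rw [← mul_assoc, val_mulN, tvN_val]
        rcases Finset.mem_insert.1 hk with rfl | hk
        · rw [mul_transvection_apply_same, hcol hpg b, Pi.single_eq_same, mul_one, add_neg_cancel]
        · rw [mul_transvection_apply_of_ne (hb := fun e : k = j => hjS (e ▸ hk))]
          exact hpS k hk
  obtain ⟨p, hp, hpg, hprow⟩ := hclear (Finset.univ.erase b) (Finset.notMem_erase _ _)
  suffices h : g * p ∈ H by simpa using mul_mem h (inv_mem hp)
  have hr : ∀ j, j ≠ b → (g * p).1 b j = 0 := fun j hj => hprow j (by simp [hj])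
  set M : Matrix {i : Fin m // ¬ i = b} {i : Fin m // ¬ i = b} F :=
    Matrix.of fun i j => (g * p).1 i.1 j.1
  have hM : reindexAlgEquiv F F (Equiv.sumCompl fun i => i = b) (fromBlocks 1 0 0 M) = (g * p).1 := by
    ext i j
    show fromBlocks 1 0 0 M ((Equiv.sumCompl fun i => i = b).symm i)
      ((Equiv.sumCompl fun i => i = b).symm j) = _
    by_cases hi : i = b <;> by_cases hj : j = b
    · subst hi; subst hj
      simp [Equiv.sumCompl_symm_apply_of_pos, hcol hpg, Matrix.one_apply]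
    · subst hi
      simp [Equiv.sumCompl_symm_apply_of_pos, Equiv.sumCompl_symm_apply_of_neg, hj, hr j hj]
    · subst hj
      simp [Equiv.sumCompl_symm_apply_of_pos, Equiv.sumCompl_symm_apply_of_neg, hi, hcol hpg]
    · simp [Equiv.sumCompl_symm_apply_of_neg, hi, hj, M]
  have hdet : M.det = 1 := by
    have h := congrArg Matrix.det hM
    rw [reindexAlgEquiv_apply, det_reindex_self, det_fromBlocks_zero₂₁, det_one, one_mul,
      (g * p).2] at h
    exact h
  have e : embOff b ⟨M, hdet⟩ = g * p := Subtype.ext hM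
  rw [← e]
  have key : (⊤ : Subgroup (Matrix.SpecialLinearGroup {i : Fin m // ¬ i = b} F)) ≤
      H.comap (embOff b) := by
    rw [← Cfsg.Agent.Classical.SL_closure_transvections, Subgroup.closure_le]
    rintro _ ⟨⟨i, j, hij, t⟩, rfl⟩
    have hij' : i.1 ≠ j.1 := fun e => hij (Subtype.ext e)
    show embOff b _ ∈ H
    convert hoff i.1 j.1 hij' i.2 j.2 t using 1
    refine Matrix.SpecialLinearGroup.ext _ _ fun k l => ?_
    rw [embOff_apply, tvN_val]
    by_cases hk : k = b <;> by_cases hl : l = b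
    · simp [hk, hl, transvection, Matrix.single_apply, Matrix.one_apply, i.2]
    · simp [hk, hl, transvection, Matrix.single_apply, Matrix.one_apply, i.2, Ne.symm hl]
    · simp [hk, hl, transvection, Matrix.single_apply, Matrix.one_apply, j.2]
    · simp [hk, hl, transvection, Matrix.single_apply, Matrix.one_apply, Subtype.ext_iff,
        SpecialLinearGroup.transvection]
  exact key (Subgroup.mem_top _)

include hab in
/-- Moving one vector into a plane fixing a basis vector. -/
theorem exists_reduce (hm : 3 ≤ m) (w : Fin m → F) :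
    ∃ g : Matrix.SpecialLinearGroup (Fin m) F, g.1 *ᵥ Pi.single b 1 = Pi.single b 1 ∧
      ∀ i, i ≠ a → i ≠ b → (g.1 *ᵥ w) i = 0 := by
  classical
  by_cases h0 : ∀ i, i ≠ a → i ≠ b → w i = 0
  · exact ⟨1, by rw [val_oneN, one_mulVec], by simpa [val_oneN] using h0⟩
  push Not at h0
  obtain ⟨k, hka, hkb, hk⟩ := h0
  obtain ⟨g₀, hg₀, hwa⟩ : ∃ g : Matrix.SpecialLinearGroup (Fin m) F,
      g.1 *ᵥ Pi.single b 1 = Pi.single b 1 ∧ (g.1 *ᵥ w) a ≠ 0 := by
    by_cases ha : w a = 0
    · refine ⟨tvN a k (Ne.symm hka) 1, ?_, ?_⟩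
      · rw [tv_mulVec, Pi.single_eq_of_ne hkb, mul_zero, Pi.single_zero, add_zero]
      · rw [tv_mulVec]; simp [ha, hk]
    · exact ⟨1, by rw [val_oneN, one_mulVec], by simpa [val_oneN] using ha⟩
  have hclear : ∀ S : Finset (Fin m), a ∉ S → ∃ g : Matrix.SpecialLinearGroup (Fin m) F,
      g.1 *ᵥ Pi.single b 1 = Pi.single b 1 ∧ (g.1 *ᵥ w) a ≠ 0 ∧ ∀ i ∈ S, (g.1 *ᵥ w) i = 0 := by
    intro S
    induction S using Finset.induction with
    | empty => intro _; exact ⟨g₀, hg₀, hwa, by simp⟩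
    | @insert i S hiS ih =>
      intro ha
      rw [Finset.mem_insert, not_or] at ha
      obtain ⟨g, hg, hga, hgS⟩ := ih ha.2
      refine ⟨tvN i a (Ne.symm ha.1) (-(g.1 *ᵥ w) i / (g.1 *ᵥ w) a) * g, ?_, ?_, ?_⟩
      · rw [val_mulN, ← mulVec_mulVec, hg, tv_mulVec, Pi.single_eq_of_ne hab, mul_zero,
          Pi.single_zero, add_zero]
      · rw [val_mulN, ← mulVec_mulVec, tv_mulVec]
        simp [Pi.single_eq_of_ne ha.1, hga]
      · intro j hj
        rw [val_mulN, ← mulVec_mulVec, tv_mulVec]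
        rcases Finset.mem_insert.1 hj with rfl | hj
        · simp [div_mul_cancel₀ _ hga]
        · have hji : j ≠ i := fun e => hiS (e ▸ hj)
          simp [Pi.single_eq_of_ne hji, hgS j hj]
  obtain ⟨g, hg, -, hgS⟩ := hclear (Finset.univ.erase a) (Finset.notMem_erase _ _)
  exact ⟨g, hg, fun i hi _ => hgS i (by simp [hi])⟩

/-- Words moving the basis vector inside the plane. -/
theorem exists_word (hu : ∀ t, ψ (up3 (upSL t)) = Φ (tvN a b hab t))
    (hl : ∀ t, ψ (up3 (loSL t)) = Φ (tvN b a (Ne.symm hab) t)) {t s : F} (h0 : t ≠ 0 ∨ s ≠ 0) :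
    ∃ (g : Matrix.SpecialLinearGroup (Fin m) F) (h : SL(2, F)),
      g.1 *ᵥ Pi.single b 1 = Pi.single a t + Pi.single b s ∧ Φ g = ψ (up3 h) ∧
      h.1 0 1 = t ∧ h.1 1 1 = s := by
  classical
  by_cases ht : t = 0
  · have hs : s ≠ 0 := h0.resolve_left (not_not.2 ht)
    refine ⟨tvN a b hab (-(1 / s)) * (tvN b a (Ne.symm hab) (s - 1) * tvN a b hab 1),
      upSL (-(1 / s)) * (loSL (s - 1) * upSL 1), ?_, ?_, ?_, ?_⟩
    · rw [val_mulN, val_mulN, ← mulVec_mulVec, ← mulVec_mulVec, tv_mulVec, tv_mulVec, tv_mulVec]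
      funext i
      by_cases hia : i = a
      · subst hia; simp [hab, Ne.symm hab, ht]; field_simp; ring
      · by_cases hib : i = b
        · subst hib; simp [hab, Ne.symm hab]
        · simp [hia, hib]
    · simp [map_mul, hu, hl]
    · simp [mul_val, upSL_val, loSL_val, ht]; field_simp; ring
    · simp [mul_val, upSL_val, loSL_val]
  · refine ⟨tvN b a (Ne.symm hab) ((s - 1) / t) * tvN a b hab t,
      loSL ((s - 1) / t) * upSL t, ?_, ?_, ?_, ?_⟩
    · rw [val_mulN, ← mulVec_mulVec, tv_mulVec, tv_mulVec]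
      funext i
      by_cases hia : i = a
      · subst hia; simp [hab, Ne.symm hab]
      · by_cases hib : i = b
        · subst hib; simp [hab, Ne.symm hab]; field_simp; ring
        · simp [hia, hib]
    · simp [map_mul, hu, hl]
    · simp [mul_val, upSL_val, loSL_val]
    · simp [mul_val, upSL_val, loSL_val]; field_simp; ring

theorem up3_conj_tv (h : SL(2, F)) :
    up3 h * tvN 1 2 (by decide) 1 =
      tvN 0 2 (by decide) (h.1 0 1) * tvN 1 2 (by decide) (h.1 1 1) * up3 h := by
  apply Subtype.ext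
  ext i j
  fin_cases i <;> fin_cases j <;>
    simp [val_mulN, up3_val, tvN_val, transvection, Matrix.mul_apply, Fin.sum_univ_three,
      Matrix.one_apply]

/-- The column group. -/
theorem exists_column (hm : 3 ≤ m)
    (hu : ∀ t, ψ (up3 (upSL t)) = Φ (tvN a b hab t))
    (hl : ∀ t, ψ (up3 (loSL t)) = Φ (tvN b a (Ne.symm hab) t))
    (hoff : ∀ (i j : Fin m) (h : i ≠ j), i ≠ b → j ≠ b → ∀ t u,
      Commute (Φ (tvN i j h t)) (ψ (tvN 1 2 (by decide) u))) :
    ∃ c : (Fin m → F) → G, (∀ v w, c v * c w = c (v + w)) ∧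
      (∀ g v, Φ g * c v * (Φ g)⁻¹ = c (g.1 *ᵥ v)) ∧
      (∀ t, c (Pi.single a t) = ψ (tvN 0 2 (by decide) t)) ∧
      (∀ t, c (Pi.single b t) = ψ (tvN 1 2 (by decide) t)) := by
  classical
  set x := ψ (tvN 1 2 (by decide) (1 : F)) with hx
  let H : Subgroup (Matrix.SpecialLinearGroup (Fin m) F) := (Subgroup.centralizer {x}).comap Φ
  have hH : ∀ g, g ∈ H ↔ Φ g * x = x * Φ g := fun g =>
    Subgroup.mem_centralizer_singleton_iff
  have hba : ∀ t, tvN b a (Ne.symm hab) t ∈ H := fun t => by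
    rw [hH, ← hl, hx, ← map_mul, ← map_mul, up3_lo, tv_comm₀ (by decide) (by decide) (by decide) (by decide)]
  have hstab : ∀ g : Matrix.SpecialLinearGroup (Fin m) F,
      g.1 *ᵥ Pi.single b 1 = Pi.single b 1 → Φ g * x = x * Φ g := by
    intro g hg
    refine (hH g).1 (stab_mem H (fun i j h hi hj t => (hH _).2 (hoff i j h hi hj t 1)) ?_ hg)
    intro j h t
    by_cases hja : j = a
    · subst hja; exact hba t
    · have haj : a ≠ j := Ne.symm hja
      rw [tv_eq_commutator (Ne.symm hab) haj h t]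
      exact mul_mem (mul_mem (mul_mem (hba _) ((hH _).2 (hoff a j haj hab (Ne.symm h) _ 1)))
        (hba _)) ((hH _).2 (hoff a j haj hab (Ne.symm h) _ 1))
  have hplane : ∀ v : Fin m → F, ∃ g : Matrix.SpecialLinearGroup (Fin m) F, ∃ t s,
      g.1 *ᵥ (Pi.single a t + Pi.single b s) = v ∧ g.1 *ᵥ Pi.single b 1 = Pi.single b 1 := by
    intro v
    obtain ⟨g, hg, hgv⟩ := exists_reduce (b := b) hab hm v
    have hg' : (g⁻¹).1 *ᵥ Pi.single b 1 = Pi.single b 1 := by
      conv_lhs => rw [← hg]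
      rw [mulVec_mulVec, ← val_mulN, inv_mul_cancel, val_oneN, one_mulVec]
    refine ⟨g⁻¹, (g.1 *ᵥ v) a, (g.1 *ᵥ v) b, ?_, hg'⟩
    have : Pi.single a ((g.1 *ᵥ v) a) + Pi.single b ((g.1 *ᵥ v) b) = g.1 *ᵥ v := by
      funext i
      by_cases hia : i = a
      · subst hia; simp [hab]
      · by_cases hib : i = b
        · subst hib; simp [Ne.symm hab]
        · simp [hia, hib, hgv i hia hib]
    rw [this, mulVec_mulVec, ← val_mulN, inv_mul_cancel, val_oneN, one_mulVec]
  have htrans : ∀ v : Fin m → F, v ≠ 0 → ∃ g : Matrix.SpecialLinearGroup (Fin m) F,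
      g.1 *ᵥ Pi.single b 1 = v := by
    intro v hv
    obtain ⟨g, t, s, hg, -⟩ := hplane v
    obtain ⟨w, -, hw, -⟩ := exists_word hab Φ ψ hu hl (t := t) (s := s) (by
      by_contra hcon
      push Not at hcon
      exact hv (by rw [← hg, hcon.1, hcon.2, Pi.single_zero, Pi.single_zero, add_zero, mulVec_zero]))
    exact ⟨g * w, by rw [val_mulN, ← mulVec_mulVec, hw, hg]⟩
  have hpair : ∀ v w : Fin m → F, ∃ (g : Matrix.SpecialLinearGroup (Fin m) F) (t s t' s' : F),
      g.1 *ᵥ (Pi.single a t + Pi.single b s) = v ∧ g.1 *ᵥ (Pi.single a t' + Pi.single b s') = w := by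
    intro v w
    by_cases hv : v = 0
    · obtain ⟨g, t, s, hg, -⟩ := hplane w
      exact ⟨g, 0, 0, t, s, by simp [hv], hg⟩
    · obtain ⟨g₀, hg₀⟩ := htrans v hv
      obtain ⟨g, t, s, hg, hgb⟩ := hplane ((g₀⁻¹).1 *ᵥ w)
      refine ⟨g₀ * g, 0, 1, t, s, ?_, ?_⟩
      · rw [Pi.single_zero, zero_add, val_mulN, ← mulVec_mulVec, hgb, hg₀]
      · rw [val_mulN, ← mulVec_mulVec, hg, mulVec_mulVec, ← val_mulN, mul_inv_cancel, val_oneN,
          one_mulVec]
  choose gv hgv using htrans
  let c : (Fin m → F) → G := fun v => if h : v = 0 then 1 else Φ (gv v h) * x * (Φ (gv v h))⁻¹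
  have hc : ∀ g : Matrix.SpecialLinearGroup (Fin m) F,
      c (g.1 *ᵥ Pi.single b 1) = Φ g * x * (Φ g)⁻¹ := by
    intro g
    have hne : g.1 *ᵥ Pi.single b (1 : F) ≠ 0 := by
      intro h
      have h' := congrArg ((g⁻¹).1 *ᵥ ·) h
      simp only [mulVec_mulVec, ← val_mulN, inv_mul_cancel, val_oneN, one_mulVec, mulVec_zero] at h'
      simpa using congrFun h' b
    set g' := gv _ hne
    have h1 : ((g⁻¹ * g') : Matrix.SpecialLinearGroup (Fin m) F).1 *ᵥ Pi.single b 1 = Pi.single b 1 := by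
      rw [val_mulN, ← mulVec_mulVec, hgv _ hne, mulVec_mulVec, ← val_mulN, inv_mul_cancel, val_oneN,
        one_mulVec]
    have h2 := hstab _ h1
    rw [map_mul, map_inv] at h2
    show (if h : _ then _ else _) = _
    rw [dif_neg hne]
    calc Φ g' * x * (Φ g')⁻¹ = Φ g * ((Φ g)⁻¹ * Φ g' * x) * (Φ g')⁻¹ := by group
      _ = _ := by rw [h2]; group
  have c0 : c 0 = 1 := dif_pos rfl
  have hequiv : ∀ g v, Φ g * c v * (Φ g)⁻¹ = c (g.1 *ᵥ v) := by
    intro g v
    by_cases hv : v = 0
    · subst hv; rw [mulVec_zero, c0, mul_one, mul_inv_cancel]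
    · rw [← hgv v hv, hc, mulVec_mulVec, ← val_mulN, hc, map_mul]
      group
  have hlin : ∀ t s, c (Pi.single a t + Pi.single b s) =
      ψ (tvN 0 2 (by decide) t * tvN 1 2 (by decide) s) := by
    intro t s
    by_cases h0 : t = 0 ∧ s = 0
    · rw [h0.1, h0.2, Pi.single_zero, Pi.single_zero, add_zero, c0]
      have e : ∀ (i : Fin 3) (h : i ≠ 2), tvN i 2 h (0 : F) = 1 := fun i h =>
        Subtype.ext (by rw [tvN_val, transvection_zero, val_oneN])
      rw [e, e, one_mul, map_one]
    · obtain ⟨g, h, hg, hgh, h01, h11⟩ := exists_word hab Φ ψ hu hl (not_and_or.1 h0)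
      rw [← hg, hc, hgh, hx, ← map_mul, ← map_inv, ← map_mul, up3_conj_tv, h01, h11,
        mul_inv_cancel_right]
  refine ⟨c, ?_, hequiv, ?_, ?_⟩
  · intro v w
    obtain ⟨g, t, s, t', s', rfl, rfl⟩ := hpair v w
    rw [← mulVec_add, ← hequiv, ← hequiv, ← hequiv,
      show (Pi.single a t + Pi.single b s + (Pi.single a t' + Pi.single b s') : Fin m → F) =
        Pi.single a (t + t') + Pi.single b (s + s') by rw [Pi.single_add, Pi.single_add]; abel,
      hlin, hlin, hlin]
    have e : (tvN 0 2 (by decide) t * tvN 1 2 (by decide) s : SL(3, F)) *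
        (tvN 0 2 (by decide) t' * tvN 1 2 (by decide) s') =
        tvN 0 2 (by decide) (t + t') * tvN 1 2 (by decide) (s + s') := by
      rw [mul_assoc, ← mul_assoc (tvN 1 2 _ s), tv_comm₀ (i := (1 : Fin 3)) (k := 0) (by decide)
        (by decide) (by decide) (by decide)]
      apply Subtype.ext
      ext i j
      fin_cases i <;> fin_cases j <;>
        simp [val_mulN, tvN_val, transvection, Matrix.mul_apply, Fin.sum_univ_three,
          Matrix.one_apply] <;> ring
    simp only [← e, map_mul]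
    group
  · intro t
    have := hlin t 0
    rw [Pi.single_zero, add_zero] at this
    rw [this]
    congr 1
    apply Subtype.ext
    rw [val_mulN, tvN_val, tvN_val, transvection_zero, mul_one]
  · intro t
    have := hlin 0 t
    rw [Pi.single_zero, zero_add] at this
    rw [this]
    congr 1
    apply Subtype.ext
    rw [val_mulN, tvN_val, tvN_val, transvection_zero, one_mul]

end Column

end Cfsg.Agent.Lie.CurtisTitsA
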