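import Cfsg.Agent.Lib.Lie.SteinbergSL
import Cfsg.Prelude.Def_KGroupFacts

/-! Stem extensions of the special linear groups over finite fields. -/

set_option autoImplicit false

namespace Cfsg.Agent.Lie.SLMult

open scoped commutatorElement

/-- A preimage. -/
noncomputable def lift {E G : Type*} [Group E] [Group G] (σ : E →* G) (hσ : Function.Surjective σ)
    (x : G) : E := Function.surjInv hσ x

theorem map_lift {E G : Type*} [Group E] [Group G] (σ : E →* G) (hσ : Function.Surjective σ)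
    (x : G) : σ (lift σ hσ x) = x := Function.surjInv_eq hσ x

/-- Commutators only depend on the images modulo a central kernel. -/
theorem congr {E G : Type*} [Group E] [Group G] (σ : E →* G) (hc : σ.ker ≤ Subgroup.center E)
    {e e' f f' : E} (h1 : σ e = σ e') (h2 : σ f = σ f') : ⁅e, f⁆ = ⁅e', f'⁆ := by
  have hz : e'⁻¹ * e ∈ Subgroup.center E := hc (by simp [MonoidHom.mem_ker, h1])
  have hy : f'⁻¹ * f ∈ Subgroup.center E := hc (by simp [MonoidHom.mem_ker, h2])
  rw [show e = e' * (e'⁻¹ * e) by group, show f = f' * (f'⁻¹ * f) by group]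
  generalize e'⁻¹ * e = z at hz
  generalize f'⁻¹ * f = y at hy
  rw [commutatorElement_def, commutatorElement_def]
  calc e' * z * (f' * y) * (e' * z)⁻¹ * (f' * y)⁻¹
      = e' * (z * (f' * y)) * z⁻¹ * e'⁻¹ * y⁻¹ * f'⁻¹ := by group
    _ = e' * f' * (y * e'⁻¹) * y⁻¹ * f'⁻¹ := by rw [← Subgroup.mem_center_iff.1 hz]; group
    _ = _ := by rw [← Subgroup.mem_center_iff.1 hy]; group

/-- Commutators in the centralizer of an element lift to commuting elements. -/
theorem commute_of_comm_pair {E G : Type*} [Group E] [Group G] (σ : E →* G)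
    (hσ : Function.Surjective σ) (hc : σ.ker ≤ Subgroup.center E) {e f : E} {a b : G}
    (ha : Commute a (σ f)) (hb : Commute b (σ f)) (h : ⁅a, b⁆ = σ e) : Commute e f := by
  refine commutatorElement_eq_one_iff_commute.1 ?_
  have key : f * ⁅lift σ hσ a, lift σ hσ b⁆ * f⁻¹ = ⁅lift σ hσ a, lift σ hσ b⁆ := by
    rw [conjugate_commutatorElement]
    refine congr σ hc ?_ ?_
    · simp only [map_mul σ, map_inv σ, map_lift]
      rw [← ha.eq, mul_inv_cancel_right]
    · simp only [map_mul σ, map_inv σ, map_lift]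
      rw [← hb.eq, mul_inv_cancel_right]
  rw [congr σ hc (e' := ⁅lift σ hσ a, lift σ hσ b⁆) (f' := f)
    (by rw [map_commutatorElement, map_lift, map_lift, h]) rfl]
  exact commutatorElement_eq_one_iff_mul_comm.2 (mul_inv_eq_iff_eq_mul.1 key).symm

section Matrices

variable {F : Type*} [Field F] {N : ℕ}

local notation "SL" => Matrix.SpecialLinearGroup (Fin N) F

/-- An elementary matrix in the group. -/
def tv (i j : Fin N) (t : F) : SL :=
  if h : i ≠ j then Matrix.SpecialLinearGroup.transvection h t else 1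

theorem tv_coe {i j : Fin N} (h : i ≠ j) (t : F) :
    (tv i j t : Matrix (Fin N) (Fin N) F) = Matrix.transvection i j t := by
  simp [tv, dif_pos h, Matrix.SpecialLinearGroup.transvection_coe, Matrix.transvection]

theorem tv_add {i j : Fin N} (h : i ≠ j) (t u : F) : tv i j t * tv i j u = tv i j (t + u) := by
  refine Subtype.ext ?_
  rw [Matrix.SpecialLinearGroup.coe_mul, tv_coe h, tv_coe h, tv_coe h,
    Matrix.transvection_mul_transvection_same i j h]

theorem tv_zero {i j : Fin N} (h : i ≠ j) : tv i j (0 : F) = 1 := by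
  have := tv_add h (0 : F) 0
  rwa [add_zero, mul_eq_left] at this

theorem tv_inv {i j : Fin N} (h : i ≠ j) (t : F) : (tv i j t)⁻¹ = tv i j (-t) := by
  rw [inv_eq_iff_mul_eq_one, tv_add h, add_neg_cancel, tv_zero h]

theorem tv_comm {i j k l : Fin N} (hij : i ≠ j) (hkl : k ≠ l) (hjk : j ≠ k) (hil : i ≠ l) (t u : F) :
    Commute (tv i j t) (tv k l u) := by
  refine Subtype.ext ?_
  rw [Matrix.SpecialLinearGroup.coe_mul, Matrix.SpecialLinearGroup.coe_mul, tv_coe hij, tv_coe hkl]
  exact (Lie.SLSteinberg.transvection_rels hij hkl hil t u).1 hjk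

theorem tv_mul {i j k : Fin N} (hij : i ≠ j) (hjk : j ≠ k) (hik : i ≠ k) (t u : F) :
    tv i j t * tv j k u = tv i k (t * u) * tv j k u * tv i j t := by
  refine Subtype.ext ?_
  simp only [Matrix.SpecialLinearGroup.coe_mul, tv_coe hij, tv_coe hjk, tv_coe hik]
  exact (Lie.SLSteinberg.transvection_rels hij hjk hik t u).2 rfl

theorem tv_commutator {i j k : Fin N} (hij : i ≠ j) (hjk : j ≠ k) (hik : i ≠ k) (t u : F) :
    ⁅tv i j t, tv j k u⁆ = tv i k (t * u) := by
  rw [commutatorElement_def, tv_mul hij hjk hik]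
  group

/-- A diagonal element. -/
def dia (d : Fin N → Fˣ) (hd : ∏ i, d i = 1) : SL :=
  ⟨Matrix.diagonal fun i => (d i : F), by
    rw [Matrix.det_diagonal, ← Units.coe_prod, hd, Units.val_one]⟩

theorem dia_comm (d d' : Fin N → Fˣ) (hd : ∏ i, d i = 1) (hd' : ∏ i, d' i = 1) :
    Commute (dia d hd : SL) (dia d' hd') := by
  refine Subtype.ext ?_
  rw [Matrix.SpecialLinearGroup.coe_mul, Matrix.SpecialLinearGroup.coe_mul]
  simp [dia, Matrix.diagonal_mul_diagonal, mul_comm]

theorem dia_conj (d : Fin N → Fˣ) (hd : ∏ i, d i = 1) {i j : Fin N} (h : i ≠ j) (t : F) :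
    (dia d hd : SL) * tv i j t * (dia d hd)⁻¹ = tv i j (((d i / d j : Fˣ) : F) * t) := by
  rw [mul_inv_eq_iff_eq_mul]
  refine Subtype.ext ?_
  rw [Matrix.SpecialLinearGroup.coe_mul, Matrix.SpecialLinearGroup.coe_mul, tv_coe h, tv_coe h]
  show Matrix.diagonal (fun a => (d a : F)) * _ = _ * Matrix.diagonal (fun a => (d a : F))
  ext a b
  rw [Matrix.diagonal_mul, Matrix.mul_diagonal, Matrix.transvection, Matrix.transvection,
    Matrix.add_apply, Matrix.add_apply, Matrix.one_apply, Matrix.single_apply, Matrix.single_apply]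
  by_cases e : i = a ∧ j = b
  · obtain ⟨rfl, rfl⟩ := e
    simp [h, Units.val_div_eq_div_val]
    field_simp
  · simp only [if_neg e, add_zero]
    by_cases e' : a = b
    · subst e'; simp
    · simp [e']

theorem dia_fix {d : Fin N → Fˣ} (hd : ∏ i, d i = 1) {i j : Fin N} (h : i ≠ j) (e : d i = d j)
    (t : F) : Commute (dia d hd : SL) (tv i j t) := by
  refine mul_inv_eq_iff_eq_mul.1 ?_
  rw [dia_conj d hd h, e, div_self', Units.val_one, one_mul]

theorem tv_eq_bracket (d : Fin N → Fˣ) (hd : ∏ i, d i = 1) {i j : Fin N} (h : i ≠ j)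
    (hk : ((d i / d j : Fˣ) : F) ≠ 1) (t : F) :
    ⁅(dia d hd : SL), tv i j (t / (((d i / d j : Fˣ) : F) - 1))⁆ = tv i j t := by
  rw [commutatorElement_def, dia_conj d hd h, tv_inv h, tv_add h]
  refine congrArg (tv i j) ?_
  have := sub_ne_zero.2 hk
  field_simp
  ring

/-- Two opposite scalars. -/
def pairD (a : Fˣ) (i l : Fin N) : Fin N → Fˣ := Pi.mulSingle i a * Pi.mulSingle l a⁻¹

theorem pairD_prod (a : Fˣ) (i l : Fin N) : ∏ x, pairD a i l x = 1 := by
  simp [pairD, Finset.prod_mul_distrib, Finset.prod_pi_mulSingle']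

/-- A scalar with one exception in dimension three. -/
def tripleD (a : Fˣ) (s : Fin N) : Fin N → Fˣ := (fun _ => a) * Pi.mulSingle s (a ^ 3)⁻¹

theorem tripleD_prod (hN : N = 3) (a : Fˣ) (s : Fin N) : ∏ x, tripleD a s x = 1 := by
  simp [tripleD, Finset.prod_mul_distrib, Finset.prod_pi_mulSingle', hN]

theorem exists_ne_two (hN : 3 ≤ N) (i j : Fin N) : ∃ m, m ≠ i ∧ m ≠ j := by
  obtain ⟨m, -, hm⟩ := Finset.exists_mem_notMem_of_card_lt_card (s := ({i, j} : Finset (Fin N)))
    (t := Finset.univ) (lt_of_le_of_lt Finset.card_le_two (by rw [Finset.card_univ, Fintype.card_fin]; omega))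
  simp only [Finset.mem_insert, Finset.mem_singleton, not_or] at hm
  exact ⟨m, hm⟩

theorem exists_ne_three (hN : 4 ≤ N) (i j k : Fin N) : ∃ m, m ≠ i ∧ m ≠ j ∧ m ≠ k := by
  obtain ⟨m, -, hm⟩ := Finset.exists_mem_notMem_of_card_lt_card (s := ({i, j, k} : Finset (Fin N)))
    (t := Finset.univ) (lt_of_le_of_lt Finset.card_le_three (by rw [Finset.card_univ, Fintype.card_fin]; omega))
  simp only [Finset.mem_insert, Finset.mem_singleton, not_or] at hm
  exact ⟨m, hm⟩

/-- A double transposition as an element of the group. -/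
theorem exists_swap {i j k l : Fin N} (hij : i ≠ j) (hik : i ≠ k) (hil : i ≠ l) (hjk : j ≠ k)
    (hjl : j ≠ l) (hkl : k ≠ l) :
    ∃ w : SL, ∀ t : F, w * tv i j t * w⁻¹ = tv k l t ∧ w * tv k l t * w⁻¹ = tv i j t := by
  set e : Equiv.Perm (Fin N) := Equiv.swap i k * Equiv.swap j l with he
  have hdet : (e.permMatrix F).det = 1 := by
    simp [Matrix.det_permutation, he, Equiv.Perm.sign_swap, hik, hjl]
  have eij : e i = k ∧ e j = l ∧ e k = i ∧ e l = j := by
    simp [he, Equiv.swap_apply_of_ne_of_ne, hij, hik, hil, hjk, hkl, hjl, Ne.symm hij,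
      Ne.symm hik, Ne.symm hil, Ne.symm hjk, Ne.symm hkl, Ne.symm hjl]
  let w : SL := ⟨e.permMatrix F, hdet⟩
  have key : ∀ {a b : Fin N}, a ≠ b → ∀ t : F, w * tv (e a) (e b) t = tv a b t * w := by
    intro a b hab t
    refine Subtype.ext ?_
    rw [Matrix.SpecialLinearGroup.coe_mul, Matrix.SpecialLinearGroup.coe_mul,
      tv_coe (e.injective.ne hab), tv_coe hab]
    show e.permMatrix F * _ = _ * e.permMatrix F
    rw [Equiv.Perm.permMatrix, PEquiv.toMatrix_toPEquiv_mul, PEquiv.mul_toMatrix_toPEquiv]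
    ext x y
    simp only [Matrix.submatrix_apply, id, Matrix.transvection, Matrix.add_apply, Matrix.one_apply,
      Matrix.single_apply, e.apply_eq_iff_eq, ← Equiv.apply_eq_iff_eq_symm_apply]
  refine ⟨w, fun t => ⟨?_, ?_⟩⟩
  · have h := key hkl t
    rw [eij.2.2.1, eij.2.2.2] at h
    rw [h, mul_inv_cancel_right]
  · have h := key hij t
    rw [eij.1, eij.2.1] at h
    rw [h, mul_inv_cancel_right]

end Matrices

section Lifting

variable {F : Type*} [Field F] {N : ℕ} {E : Type*} [Group E]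
  (σ : E →* Matrix.SpecialLinearGroup (Fin N) F) (hσ : Function.Surjective σ)
  (hc : σ.ker ≤ Subgroup.center E)

/-- The hypothesis on the field in small dimensions. -/
def Admissible (F : Type*) [Field F] (N : ℕ) : Prop :=
  5 ≤ N ∨ (N = 4 ∧ ∃ a : Fˣ, a ≠ 1) ∨ (N = 3 ∧ ∃ a : Fˣ, a ^ 3 ≠ 1)

theorem Admissible.three_le (h : Admissible F N) : 3 ≤ N := by
  rcases h with h | ⟨h, -⟩ | ⟨h, -⟩ <;> omega

include hσ hc

/-- Commuting elementary matrices have commuting lifts. -/
theorem lc (hA : Admissible F N) [Finite F] {i j k l : Fin N} (hij : i ≠ j) (hkl : k ≠ l)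
    (hjk : j ≠ k) (hil : i ≠ l) {e f : E} {t u : F} (he : σ e = tv i j t) (hf : σ f = tv k l u) :
    Commute e f := by
  by_cases hm : ∃ m, m ≠ i ∧ m ≠ j ∧ m ≠ k ∧ m ≠ l
  · obtain ⟨m, hmi, hmj, hmk, hml⟩ := hm
    refine commute_of_comm_pair σ hσ hc (a := tv i m t) (b := tv m j 1) ?_ ?_ ?_
    · rw [hf]; exact tv_comm hmi.symm hkl hmk hil t u
    · rw [hf]; exact tv_comm hmj hkl hjk hml 1 u
    · rw [tv_commutator hmi.symm hmj hij, mul_one, he]
  push Not at hm
  have hsub : (Finset.univ : Finset (Fin N)) ⊆ {i, j, k, l} := fun m _ => by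
    simp only [Finset.mem_insert, Finset.mem_singleton]
    tauto
  -- separation by a diagonal element
  have hsep : ∀ (d : Fin N → Fˣ) (hd : ∏ x, d x = 1), d k = d l →
      ((d i / d j : Fˣ) : F) ≠ 1 → Commute e f := fun d hd e1 e2 => by
    refine commute_of_comm_pair σ hσ hc (a := dia d hd)
      (b := tv i j (t / (((d i / d j : Fˣ) : F) - 1))) ?_ ?_ ?_
    · rw [hf]; exact dia_fix hd hkl e1 u
    · rw [hf]; exact tv_comm hij hkl hjk hil _ u
    · rw [tv_eq_bracket d hd hij e2, he]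
  have hcard := Finset.card_le_card hsub
  rw [Finset.card_univ, Fintype.card_fin] at hcard
  have h4 : ({i, j, k, l} : Finset (Fin N)).card ≤ 4 := Finset.card_le_four
  rcases hA with h5 | ⟨h, a, ha⟩ | ⟨h, a, ha⟩
  · omega
  · -- four distinct indices
    have hik : i ≠ k := fun e' => by
      have hss : ({i, j, k, l} : Finset (Fin N)) ⊆ {j, k, l} := fun x => by simp [e']
      have := hcard.trans ((Finset.card_le_card hss).trans Finset.card_le_three)
      omega
    have hjl : j ≠ l := fun e' => by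
      have hss : ({i, j, k, l} : Finset (Fin N)) ⊆ {i, k, l} := fun x => by
        simp only [Finset.mem_insert, Finset.mem_singleton, e']; tauto
      have := hcard.trans ((Finset.card_le_card hss).trans Finset.card_le_three)
      omega
    by_cases ha2 : ∃ b : Fˣ, b * b ≠ 1
    · obtain ⟨b, hb⟩ := ha2
      refine hsep (pairD b i j) (pairD_prod b i j) ?_ ?_
      · simp [pairD, hik.symm, hil.symm, hjk.symm, hjl.symm]
      · rw [Ne, Units.val_eq_one]
        simpa [pairD, hij, hij.symm] using hb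
    -- the field has three elements
    push Not at ha2
    have hunit : ∀ b : Fˣ, (b : F) = 1 ∨ (b : F) = -1 := fun b =>
      mul_self_eq_one_iff.1 (by rw [← Units.val_mul, ha2, Units.val_one])
    have ha' : (a : F) = -1 := (hunit a).resolve_left (by rwa [Units.val_eq_one])
    have hneg : (-1 : F) ≠ 1 := fun e' => ha (Units.ext (by rw [ha', e', Units.val_one]))
    have h3 : (3 : F) = 0 := by
      have h2 : (2 : F) ≠ 0 := fun e' => hneg (by linear_combination -e')
      have := hunit (Units.mk0 2 h2)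
      rw [Units.val_mk0] at this
      rcases this with e' | e'
      · exact absurd (by linear_combination -2 * e' : (-1 : F) = 1) hneg
      · linear_combination e'
    obtain ⟨w, hw⟩ := exists_swap (F := F) hij hik hil hjk hjl hkl
    let cz : F → F → E := fun t u => ⁅lift σ hσ (tv i j t), lift σ hσ (tv k l u)⁆
    have hcen : ∀ t u, cz t u ∈ Subgroup.center E := fun t u => hc (by
      simp only [cz, MonoidHom.mem_ker, map_commutatorElement, map_lift,
        commutatorElement_eq_one_iff_commute]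
      exact tv_comm hij hkl hjk hil t u)
    have hl : ∀ t t' u, cz (t + t') u = cz t u * cz t' u := fun t t' u => by
      simp only [cz]
      rw [congr σ hc (e' := lift σ hσ (tv i j t) * lift σ hσ (tv i j t'))
        (f' := lift σ hσ (tv k l u)) (by rw [map_mul σ, map_lift, map_lift, map_lift, tv_add hij]) rfl,
        show ∀ a b y : E, ⁅a * b, y⁆ = a * ⁅b, y⁆ * a⁻¹ * ⁅a, y⁆ from fun a b y => by group,
        Subgroup.mem_center_iff.1 (hcen t' u), mul_inv_cancel_right,
        Subgroup.mem_center_iff.1 (hcen t' u)]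
    have hr : ∀ t u u', cz t (u + u') = cz t u * cz t u' := fun t u u' => by
      simp only [cz]
      rw [congr σ hc (e' := lift σ hσ (tv i j t))
        (f' := lift σ hσ (tv k l u) * lift σ hσ (tv k l u')) rfl
        (by rw [map_mul σ, map_lift, map_lift, map_lift, tv_add hkl]),
        show ∀ a b y : E, ⁅a, b * y⁆ = ⁅a, b⁆ * (b * ⁅a, y⁆ * b⁻¹) from fun a b y => by group,
        Subgroup.mem_center_iff.1 (hcen t u'), mul_inv_cancel_right]
    have h0l : ∀ u, cz 0 u = 1 := fun u => by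
      have := hl 0 0 u; rwa [add_zero, left_eq_mul] at this
    have h0r : ∀ t, cz t 0 = 1 := fun t => by
      have := hr t 0 0; rwa [add_zero, left_eq_mul] at this
    have hswap : ∀ t u, cz t u = (cz u t)⁻¹ := fun t u => by
      have e1 := conjugate_commutatorElement (lift σ hσ (tv i j t)) (lift σ hσ (tv k l u))
        (lift σ hσ w)
      rw [Subgroup.mem_center_iff.1 (hcen t u), mul_inv_cancel_right] at e1
      refine e1.trans ?_
      simp only [cz, commutatorElement_inv]
      exact congr σ hc (by simp only [map_mul σ, map_inv σ, map_lift, (hw t).1])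
        (by simp only [map_mul σ, map_inv σ, map_lift, (hw u).2])
    have h11 : cz 1 1 = 1 := by
      have s : cz 1 1 * cz 1 1 = 1 := by nth_rw 1 [hswap]; exact inv_mul_cancel _
      have e1 := hl (1 + 1) 1 1
      rw [show (1 : F) + 1 + 1 = 3 by norm_num, h3, h0l, hl, s, one_mul] at e1
      exact e1.symm
    have hn1 : cz (-1) 1 = 1 := by
      have := hl (-1) 1 1
      rwa [neg_add_cancel, h0l, h11, mul_one, eq_comm] at this
    have hm1 : ∀ t, cz t (-1) = (cz t 1)⁻¹ := fun t => eq_inv_iff_mul_eq_one.2 (by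
      rw [← hr, neg_add_cancel, h0r])
    have hall : ∀ t u, cz t u = 1 := by
      have htri : ∀ x : F, x = 0 ∨ x = 1 ∨ x = -1 := fun x =>
        (em (x = 0)).imp id fun hx => by simpa using hunit (Units.mk0 x hx)
      intro t u
      rcases htri u with rfl | rfl | rfl
      · exact h0r t
      · rcases htri t with rfl | rfl | rfl
        exacts [h0l _, h11, hn1]
      · rw [hm1, inv_eq_one]
        rcases htri t with rfl | rfl | rfl
        exacts [h0l _, h11, hn1]
    refine commutatorElement_eq_one_iff_commute.1 ?_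
    rw [congr σ hc (e' := lift σ hσ (tv i j t)) (f' := lift σ hσ (tv k l u))
      (by rw [map_lift, he]) (by rw [map_lift, hf])]
    exact hall t u
  · -- three indices
    have hcase : k = i ∨ l = j := by
      by_contra hne
      push Not at hne
      have : ({i, j, k, l} : Finset (Fin N)).card = 4 := by
        rw [Finset.card_insert_of_notMem (by simp [hij, hne.1.symm, hil]),
          Finset.card_insert_of_notMem (by simp [hjk, hne.2.symm]), Finset.card_pair hkl]
      have := Finset.card_le_univ ({i, j, k, l} : Finset (Fin N))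
      rw [Fintype.card_fin] at this
      omega
    rcases hcase with rfl | rfl
    · refine hsep (tripleD a j) (tripleD_prod h a j) ?_ ?_
      · by_cases e1 : l = j
        · subst e1
          obtain ⟨m, hm1, hm2⟩ := exists_ne_two (by omega : 3 ≤ N) k l
          exact absurd (hm m hm1 hm2 hm1) hm2
        · simp [tripleD, e1, hkl, hjk.symm]
      · rw [Ne, Units.val_eq_one]
        simpa [tripleD, hij] using ha
    · refine hsep (tripleD a i) (tripleD_prod h a i) ?_ ?_
      · by_cases e1 : k = i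
        · subst e1
          obtain ⟨m, hm1, hm2⟩ := exists_ne_two (by omega : 3 ≤ N) k l
          exact absurd (hm m hm1 hm2 hm1) hm2
        · simp [tripleD, e1, hil.symm, hij.symm]
      · rw [Ne, Units.val_eq_one]
        simpa [tripleD, hij.symm] using ha

/-- Lifts with Steinberg's relations over a field with more than two elements. -/
theorem exists_lifts_torus [Finite F] (hA : Admissible F N) (hF : ∃ a : Fˣ, a ≠ 1) :
    ∃ Y : Fin N → Fin N → F → E, (∀ i j, i ≠ j → ∀ t, σ (Y i j t) = tv i j t) ∧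
      (∀ i j, i ≠ j → ∀ t u, Y i j t * Y i j u = Y i j (t + u)) ∧
      (∀ i j k, i ≠ j → j ≠ k → i ≠ k → ∀ t u,
        Y i j t * Y j k u = Y i k (t * u) * Y j k u * Y i j t) := by
  classical
  obtain ⟨a, ha⟩ := hF
  have hmov : ∀ p : Fin N × Fin N, ∃ d : Fin N → Fˣ, (∏ x, d x = 1) ∧
      (p.1 ≠ p.2 → ((d p.1 / d p.2 : Fˣ) : F) ≠ 1) := fun p => by
    by_cases h : p.1 = p.2
    · exact ⟨1, by simp, fun h' => absurd h h'⟩
    obtain ⟨m, hm1, hm2⟩ := exists_ne_two hA.three_le p.1 p.2
    refine ⟨pairD a p.1 m, pairD_prod a _ m, fun _ => ?_⟩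
    rw [Ne, Units.val_eq_one]
    simpa [pairD, h, Ne.symm h, hm1, hm1.symm, hm2, hm2.symm] using ha
  choose D hD1 hD2 using hmov
  let κ : Fin N × Fin N → F := fun p => ((D p p.1 / D p p.2 : Fˣ) : F) - 1
  let Y : Fin N → Fin N → F → E := fun i j t =>
    ⁅lift σ hσ (dia (D (i, j)) (hD1 _)), lift σ hσ (tv i j (t / κ (i, j)))⁆
  have hπ : ∀ i j, i ≠ j → ∀ t, σ (Y i j t) = tv i j t := fun i j h t => by
    simp only [Y, map_commutatorElement, map_lift]
    exact tv_eq_bracket _ _ h (hD2 (i, j) h) t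
  have hadd : ∀ i j, i ≠ j → ∀ t u, Y i j t * Y i j u = Y i j (t + u) := fun i j h t u => by
    have hcm : Commute (lift σ hσ (tv i j (t / κ (i, j)))) (Y i j u) :=
      lc σ hσ hc hA h h h.symm h (map_lift σ hσ _) (hπ i j h u)
    simp only [Y] at hcm ⊢
    refine (Eq.trans (congr σ hc (e' := lift σ hσ (dia (D (i, j)) (hD1 _)))
      (f' := lift σ hσ (tv i j (t / κ (i, j))) * lift σ hσ (tv i j (u / κ (i, j)))) rfl
      (by rw [map_mul σ, map_lift, map_lift, map_lift, tv_add h, add_div])) ?_).symm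
    rw [show ∀ m x y : E, ⁅m, x * y⁆ = ⁅m, x⁆ * (x * ⁅m, y⁆ * x⁻¹) from fun m x y => by group,
      hcm.eq, mul_inv_cancel_right]
  have hzero : ∀ i j, i ≠ j → Y i j 0 = 1 := fun i j h => by
    have := hadd i j h 0 0
    rwa [add_zero, mul_eq_left] at this
  -- a diagonal element scales the lifts
  have hbr : ∀ (i j : Fin N), i ≠ j → ∀ (d : Fin N → Fˣ) (hd : ∏ x, d x = 1) (g e : E) (w : F),
      σ g = dia d hd → σ e = tv i j w →
      ⁅g, e⁆ = Y i j ((((d i / d j : Fˣ) : F) - 1) * w) := by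
    intro i j h d hd g e w hg he
    rw [congr σ hc (e' := g) (f' := Y i j w) rfl (by rw [he, hπ i j h])]
    have hscale : g * Y i j w * g⁻¹ = Y i j (((d i / d j : Fˣ) : F) * w) := by
      simp only [Y]
      rw [conjugate_commutatorElement]
      refine congr σ hc ?_ ?_
      · simp only [map_mul σ, map_inv σ, map_lift, hg]
        rw [(dia_comm d _ hd _).eq, mul_inv_cancel_right]
      · simp only [map_mul σ, map_inv σ, map_lift, hg, dia_conj d hd h, mul_div_assoc]
    have hinv : (Y i j w)⁻¹ = Y i j (-w) := by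
      rw [inv_eq_iff_mul_eq_one, hadd i j h, add_neg_cancel, hzero i j h]
    rw [commutatorElement_def, hscale, hinv, hadd i j h]
    congr 1
    ring
  refine ⟨Y, hπ, hadd, fun i j k hij hjk hik t u => ?_⟩
  -- a diagonal element fixing the first root and moving the second
  obtain ⟨d, hd, e1, e2⟩ : ∃ d : Fin N → Fˣ, (∏ x, d x = 1) ∧ d i = d j ∧
      ((d j / d k : Fˣ) : F) ≠ 1 := by
    rcases hA with h5 | ⟨h4, -⟩ | ⟨h3, b, hb⟩
    rotate_left 2
    · refine ⟨tripleD b k, tripleD_prod h3 b k, ?_, ?_⟩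
      · simp [tripleD, hik, hjk]
      · rw [Ne, Units.val_eq_one]
        simpa [tripleD, hjk] using hb
    all_goals
      obtain ⟨m, hm1, hm2, hm3⟩ := exists_ne_three (by omega : 4 ≤ N) i j k
      refine ⟨pairD a k m, pairD_prod a k m, ?_, ?_⟩
      · simp [pairD, hik, hjk, hm1.symm, hm2.symm]
      · rw [Ne, Units.val_eq_one]
        simpa [pairD, hjk, hm2.symm, hm3.symm] using ha
  set κ' := ((d j / d k : Fˣ) : F) - 1
  have hκ : κ' ≠ 0 := sub_ne_zero.2 e2
  set g := lift σ hσ (dia d hd)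
  have hg : σ g = dia d hd := map_lift σ hσ _
  set v := u / κ'
  set x := Y i j t
  have hu : Y j k u = ⁅g, Y j k v⁆ := by
    rw [hbr j k hjk d hd g _ v hg (hπ j k hjk v)]
    exact congrArg (Y j k) (mul_div_cancel₀ u hκ).symm
  have key : x * Y j k u * x⁻¹ = Y i k (t * u) * Y j k u := by
    rw [hu, conjugate_commutatorElement, congr σ hc (e' := g) (f' := Y i k (t * v) * Y j k v)
      (by
        simp only [x, map_mul σ, map_inv σ, hπ i j hij, hg]
        rw [← (dia_fix hd hij e1 t).eq, mul_inv_cancel_right])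
      (by
        simp only [x, map_mul σ, map_inv σ, hπ i j hij, hπ j k hjk, hπ i k hik]
        rw [tv_mul hij hjk hik, mul_inv_cancel_right]),
      show ∀ m p q : E, ⁅m, p * q⁆ = ⁅m, p⁆ * (p * ⁅m, q⁆ * p⁻¹) from fun m p q => by group,
      ← hu, hbr i k hik d hd g _ (t * v) hg (hπ i k hik _)]
    have hcm : Commute (Y i k (t * v)) (Y j k u) :=
      lc σ hσ hc hA hik hjk (Ne.symm hjk) hik (hπ i k hik _) (hπ j k hjk u)
    rw [hcm.eq, mul_inv_cancel_right, e1, show ∀ s : F, (((d j / d k : Fˣ) : F) - 1) * (t * s) =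
      t * (κ' * s) from fun s => by simp only [κ']; ring, mul_div_cancel₀ u hκ]
  rw [← key]
  group

/-- Lifts with Steinberg's relations over the field with two elements. -/
theorem exists_lifts_two [Finite F] (hN : 5 ≤ N) (hF : ∀ x : F, x = 0 ∨ x = 1) :
    ∃ Y : Fin N → Fin N → F → E, (∀ i j, i ≠ j → ∀ t, σ (Y i j t) = tv i j t) ∧
      (∀ i j, i ≠ j → ∀ t u, Y i j t * Y i j u = Y i j (t + u)) ∧
      (∀ i j k, i ≠ j → j ≠ k → i ≠ k → ∀ t u,
        Y i j t * Y j k u = Y i k (t * u) * Y j k u * Y i j t) := by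
  classical
  have hA : Admissible F N := Or.inl hN
  choose m hm1 hm2 using fun p : Fin N × Fin N => exists_ne_two (by omega : 3 ≤ N) p.1 p.2
  let f : Fin N → Fin N → Fin N → E := fun i k j =>
    ⁅lift σ hσ (tv i k 1), lift σ hσ (tv k j 1)⁆
  have hπf : ∀ i k j, i ≠ k → k ≠ j → i ≠ j → σ (f i k j) = tv i j 1 := fun i k j h1 h2 h3 => by
    simp only [f, map_commutatorElement, map_lift]
    rw [tv_commutator h1 h2 h3, mul_one]
  have hind : ∀ i j k l, i ≠ j → i ≠ k → k ≠ j → i ≠ l → l ≠ j → f i k j = f i l j := by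
    intro i j k l hij hik hkj hil hlj
    by_cases hkl : k = l
    · rw [hkl]
    set x := lift σ hσ (tv i l (1 : F))
    set pa := lift σ hσ (tv l k (1 : F))
    set pb := lift σ hσ (tv k j (1 : F))
    have hσ' : σ ⁅pa, pb⁆ = tv l j 1 := by
      rw [map_commutatorElement, map_lift, map_lift, tv_commutator (Ne.symm hkl) hkj hlj, mul_one]
    have hφ : σ ⁅x, pa⁆ = tv i k 1 := by
      rw [map_commutatorElement, map_lift, map_lift, tv_commutator hil (Ne.symm hkl) hik, mul_one]
    show ⁅lift σ hσ (tv i k 1), pb⁆ = ⁅x, lift σ hσ (tv l j 1)⁆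
    rw [congr σ hc (e' := ⁅x, pa⁆) (f' := pb) (by rw [map_lift, hφ]) rfl,
      congr σ hc (e := x) (e' := x) (f := lift σ hσ (tv l j 1)) (f' := ⁅pa, pb⁆) rfl
        (by rw [map_lift, hσ'])]
    set τ := ⁅pa, pb⁆ with hτdef
    set φ := ⁅x, pa⁆ with hφdef
    have h1 : x * τ * x⁻¹ = ⁅φ * pa, pb⁆ := by
      rw [hτdef, conjugate_commutatorElement]
      refine congr σ hc ?_ ?_
      · rw [hφdef, commutatorElement_def]; exact congrArg σ (by group)
      · simp only [x, pb, map_mul σ, map_inv σ, map_lift]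
        rw [(tv_comm hil hkj (Ne.symm hkl) hij 1 1).eq, mul_inv_cancel_right]
    have h2 : Commute φ τ := lc σ hσ hc hA hik hlj hkl hij hφ hσ'
    have h3 : ⁅φ * pa, pb⁆ = τ * ⁅φ, pb⁆ := by
      rw [show ∀ a b d : E, ⁅a * b, d⁆ = a * ⁅b, d⁆ * a⁻¹ * ⁅a, d⁆ from fun a b d => by group,
        ← hτdef, h2.eq, mul_inv_cancel_right]
    have h4 : σ ⁅φ, pb⁆ = tv i j 1 := by
      rw [map_commutatorElement, hφ, map_lift, tv_commutator hik hkj hij, mul_one]
    have h5 : Commute ⁅φ, pb⁆ τ := lc σ hσ hc hA hij hlj (Ne.symm hlj) hij h4 hσ'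
    symm
    calc ⁅x, τ⁆ = x * τ * x⁻¹ * τ⁻¹ := commutatorElement_def _ _
      _ = τ * ⁅φ, pb⁆ * τ⁻¹ := by rw [h1, h3]
      _ = ⁅φ, pb⁆ := by rw [← h5.eq, mul_inv_cancel_right]
  let Y : Fin N → Fin N → F → E := fun i j t => if t = 0 then 1 else f i (m (i, j)) j
  have hπ : ∀ i j, i ≠ j → ∀ t, σ (Y i j t) = tv i j t := fun i j h t => by
    rcases hF t with rfl | rfl
    · simp [Y, tv_zero h]
    · simp only [Y, one_ne_zero, if_false]
      exact hπf i _ j (hm1 (i, j)).symm (hm2 (i, j)) h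
  have h2 : (1 : F) + 1 = 0 := (hF (1 + 1)).resolve_right fun e => one_ne_zero (add_eq_left.1 e)
  refine ⟨Y, hπ, fun i j h t u => ?_, fun i j k hij hjk hik t u => ?_⟩
  · rcases hF t with rfl | rfl
    · simp [Y]
    rcases hF u with rfl | rfl
    · simp [Y]
    simp only [Y, one_ne_zero, if_false, h2, if_true]
    have hk1 := (hm1 (i, j)).symm
    have hk2 := hm2 (i, j)
    set k := m (i, j)
    show ⁅lift σ hσ (tv i k 1), lift σ hσ (tv k j 1)⁆ * ⁅lift σ hσ (tv i k 1), lift σ hσ (tv k j 1)⁆ = 1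
    set pa := lift σ hσ (tv i k (1 : F))
    set pb := lift σ hσ (tv k j (1 : F))
    have hcm : Commute ⁅pa, pb⁆ pb :=
      lc σ hσ hc hA h hk2 (Ne.symm hk2) h (hπf i k j hk1 hk2 h) (map_lift σ hσ _)
    calc ⁅pa, pb⁆ * ⁅pa, pb⁆ = ⁅pa, pb⁆ * (pb * ⁅pa, pb⁆ * pb⁻¹) := by
          rw [← hcm.eq, mul_inv_cancel_right]
      _ = ⁅pa, pb * pb⁆ := by group
      _ = ⁅pa, (1 : E)⁆ := congr σ hc rfl
          (by rw [map_mul σ, map_lift, tv_add hk2, h2, tv_zero hk2, map_one])
      _ = 1 := commutatorElement_one_right _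
  · rcases hF t with rfl | rfl
    · simp [Y]
    rcases hF u with rfl | rfl
    · simp [Y]
    simp only [Y, one_ne_zero, if_false, mul_one]
    have e : ⁅f i (m (i, j)) j, f j (m (j, k)) k⁆ = f i (m (i, k)) k := by
      rw [← hind i k j (m (i, k)) hik hij hjk (hm1 (i, k)).symm (hm2 (i, k))]
      exact congr σ hc (by rw [hπf i _ j (hm1 (i, j)).symm (hm2 (i, j)) hij, map_lift])
        (by rw [hπf j _ k (hm1 (j, k)).symm (hm2 (j, k)) hjk, map_lift])
    rw [← e]
    group

omit hσ hc in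
/-- Lifts with Steinberg's relations kill the kernel of a stem extension. -/
theorem ker_eq_bot_of_lifts [Finite F] (hN : 2 ≤ N) (hσ : Function.Surjective σ)
    (hc : σ.ker ≤ Subgroup.center E) (hs : σ.ker ≤ commutator E) (Y : Fin N → Fin N → F → E)
    (hπ : ∀ i j, i ≠ j → ∀ t, σ (Y i j t) = tv i j t)
    (hadd : ∀ i j, i ≠ j → ∀ t u, Y i j t * Y i j u = Y i j (t + u))
    (hcomm₀ : ∀ i j k l, i ≠ j → k ≠ l → j ≠ k → i ≠ l → ∀ t u, Commute (Y i j t) (Y k l u))
    (hcomm₁ : ∀ i j k, i ≠ j → j ≠ k → i ≠ k → ∀ t u,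
      Y i j t * Y j k u = Y i k (t * u) * Y j k u * Y i j t)
    (hrel : ∀ i j, i ≠ j → ∀ t u, t ≠ 0 →
      Y i j t * Y j i (-t⁻¹) * Y i j t * Y i j u * (Y i j t * Y j i (-t⁻¹) * Y i j t)⁻¹ =
        Y j i (-(t⁻¹ ^ 2 * u))) :
    σ.ker = ⊥ := by
  classical
  set Γ : Subgroup E := Subgroup.closure {g | ∃ i j, i ≠ j ∧ ∃ u, g = Y i j u}
  let X : Fin N → Fin N → F → Γ := fun i j t =>
    if h : i ≠ j then ⟨Y i j t, Subgroup.subset_closure ⟨i, j, h, t, rfl⟩⟩ else 1
  have hX : ∀ {i j}, i ≠ j → ∀ t, (X i j t : E) = Y i j t := fun {i j} h t => by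
    simp only [X, dif_pos h]
  let A : Lie.SLSteinberg.SLSt F N Γ :=
    { X := X
      add := fun i j h t u => Subtype.ext (by
        simp only [Subgroup.coe_mul, hX h]; exact hadd i j h t u)
      comm₀ := fun i j k l h1 h2 h3 h4 t u => Subtype.ext (by
        simp only [Subgroup.coe_mul, hX h1, hX h2]; exact hcomm₀ i j k l h1 h2 h3 h4 t u)
      comm₁ := fun i j k h1 h2 h3 t u => Subtype.ext (by
        simp only [Subgroup.coe_mul, hX h1, hX h2, hX h3]; exact hcomm₁ i j k h1 h2 h3 t u)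
      θ := σ.comp Γ.subtype
      θX := fun i j h t => by
        show (σ (X i j t : E) : Matrix (Fin N) (Fin N) F) = _
        rw [hX h, hπ i j h, tv_coe h]
      rel := fun i j h t u ht => Subtype.ext (by
        simp only [Subgroup.coe_mul, Subgroup.coe_inv, hX h, hX h.symm]; exact hrel i j h t u ht) }
  have hgen : Subgroup.closure {g | ∃ i j, i ≠ j ∧ ∃ u, g = A.X i j u} = ⊤ := by
    refine (Subgroup.map_injective Γ.subtype_injective) ?_
    rw [MonoidHom.map_closure, ← MonoidHom.range_eq_map, Subgroup.range_subtype]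
    refine congrArg Subgroup.closure (Set.ext fun g => ?_)
    constructor
    · rintro ⟨_, ⟨i, j, h, u, rfl⟩, rfl⟩; exact ⟨i, j, h, u, hX h u⟩
    · rintro ⟨i, j, h, u, rfl⟩; exact ⟨_, ⟨i, j, h, u, rfl⟩, hX h u⟩
  obtain ⟨hinj, hsurj⟩ := Lie.SLSteinberg.bijective hN A hgen
  have hcov : ∀ e : E, ∃ g ∈ Γ, g⁻¹ * e ∈ σ.ker := fun e => by
    obtain ⟨g, hg⟩ := hsurj (σ e)
    refine ⟨g, g.2, ?_⟩
    rw [MonoidHom.mem_ker, map_mul, map_inv, show σ (g : E) = σ e from hg, inv_mul_cancel]
  have hle : commutator E ≤ Γ := by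
    rw [commutator_def, Subgroup.commutator_le]
    intro a _ b _
    obtain ⟨g, hg, hga⟩ := hcov a
    obtain ⟨g', hg', hgb⟩ := hcov b
    have e1 : σ a = σ g := by
      rw [MonoidHom.mem_ker, map_mul, map_inv, inv_mul_eq_one] at hga; exact hga.symm
    have e2 : σ b = σ g' := by
      rw [MonoidHom.mem_ker, map_mul, map_inv, inv_mul_eq_one] at hgb; exact hgb.symm
    rw [congr σ hc e1 e2, commutatorElement_def]
    exact mul_mem (mul_mem (mul_mem hg hg') (inv_mem hg)) (inv_mem hg')
  rw [eq_bot_iff]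
  intro z hz
  have : (⟨z, hle (hs hz)⟩ : Γ) = 1 := hinj (by
    show σ z = A.θ 1
    rw [map_one]; exact hz)
  exact congrArg Subtype.val this

/-- Stem extensions of `SL_N`, `N ≥ 3`, are trivial outside three exceptions. -/
theorem ker_eq_bot_of_admissible [Finite F] (hA : Admissible F N) (hs : σ.ker ≤ commutator E) :
    σ.ker = ⊥ := by
  obtain ⟨Y, hπ, hadd, hcomm₁⟩ : ∃ Y : Fin N → Fin N → F → E,
      (∀ i j, i ≠ j → ∀ t, σ (Y i j t) = tv i j t) ∧
      (∀ i j, i ≠ j → ∀ t u, Y i j t * Y i j u = Y i j (t + u)) ∧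
      (∀ i j k, i ≠ j → j ≠ k → i ≠ k → ∀ t u,
        Y i j t * Y j k u = Y i k (t * u) * Y j k u * Y i j t) := by
    by_cases hF : ∃ a : Fˣ, a ≠ 1
    · exact exists_lifts_torus σ hσ hc hA hF
    push Not at hF
    refine exists_lifts_two σ hσ hc ?_ fun x => (em (x = 0)).imp id fun hx => by
      simpa using congrArg Units.val (hF (Units.mk0 x hx))
    rcases hA with h | ⟨-, a, ha⟩ | ⟨-, a, ha⟩
    · exact h
    · exact absurd (hF a) ha
    · exact absurd (by rw [hF a, one_pow]) ha
  have hcomm₀ : ∀ i j k l, i ≠ j → k ≠ l → j ≠ k → i ≠ l → ∀ t u, Commute (Y i j t) (Y k l u) :=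
    fun i j k l h1 h2 h3 h4 t u => lc σ hσ hc hA h1 h2 h3 h4 (hπ i j h1 t) (hπ k l h2 u)
  let P : Lie.SLSteinberg.SLPre F N E := ⟨Y, hadd, hcomm₀, hcomm₁⟩
  exact ker_eq_bot_of_lifts σ (by have := hA.three_le; omega) hσ hc hs Y hπ hadd hcomm₀ hcomm₁
    fun i j h t u ht => P.rel_of_three hA.three_le i j h t u ht

end Lifting

end Cfsg.Agent.Lie.SLMult
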