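import Cfsg.Agent.Lib.Lie.UnPresOddBase
import Cfsg.Agent.Lib.Classical.UnitTwoGenEmbed

/-!
The Levi factor, one root element and one Weyl element generate the frame group.
-/

set_option autoImplicit false
set_option linter.unusedSectionVars false

namespace Cfsg.Agent.Lie.UnPres

open Matrix Cfsg.Agent.Classical Cfsg.Agent.Classical.PSUAut Cfsg.Agent.Fus.UnitN
open Cfsg.Agent.Lie.SpnPres (sval_mul sval_one exists_col sval_mul_inv sval_inv_mul inv_mulVec mulVec_inv)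
open scoped commutatorElement

variable {F : Type*} [Field F] [Fintype F] {q : ℕ} (hF : Fintype.card F = q ^ 2) {k m ε : ℕ}

local notation "σ" => qFrob hF

/-- The comparison, with the two halves of the index named. -/
theorem exists_iso_of (n m ε : ℕ) (h1 : n / 2 = m) (h2 : n % 2 = ε) :
    ∃ (P : Matrix (Fin n) (Ix m ε) F) (Q : Matrix (Ix m ε) (Fin n) F) (e : Hgrp hF m ε ≃* SU n F q),
      ct hF P * P = Gm hF m ε ∧ Q * P = 1 ∧ P * Q = 1 ∧ ∀ M, suVal (e M) = P * hval M * Q := by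
  subst h1 h2
  exact exists_iso_val hF n

include hF

/-- The matrix of a transvection of the frame. -/
def tvM (x : Ix m ε → F) (c : F) : Matrix (Ix m ε) (Ix m ε) F :=
  1 + c • vecMulVec x ((fun i => σ (x i)) ᵥ* Gm hF m ε)

theorem Gm_vecMul (g : Hgrp hF m ε) (x : Ix m ε → F) :
    (fun i => σ ((hval g *ᵥ x) i)) ᵥ* Gm hF m ε = (fun i => σ (x i)) ᵥ* Gm hF m ε ᵥ* hval g⁻¹ := by
  have h : ct hF (hval g) * Gm hF m ε = Gm hF m ε * hval g⁻¹ := by
    have e : ct hF (hval g) * Gm hF m ε * hval g = Gm hF m ε := g.2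
    calc ct hF (hval g) * Gm hF m ε = ct hF (hval g) * Gm hF m ε * (hval g * hval g⁻¹) := by
          rw [← hval_mul, mul_inv_cancel, hval_one, Matrix.mul_one]
      _ = _ := by rw [← Matrix.mul_assoc, e]
  have hv : (fun i => σ ((hval g *ᵥ x) i)) = (fun i => σ (x i)) ᵥ* ct hF (hval g) := by
    funext i
    simp [Matrix.mulVec, Matrix.vecMul, dotProduct, ct_apply, map_sum, mul_comm]
  rw [hv, Matrix.vecMul_vecMul, h, ← Matrix.vecMul_vecMul]

theorem tvM_conj (g : Hgrp hF m ε) (x : Ix m ε → F) (c : F) :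
    hval g * tvM hF x c * hval g⁻¹ = tvM hF (hval g *ᵥ x) c := by
  rw [tvM, tvM, Matrix.mul_add, Matrix.mul_one, Matrix.add_mul, ← hval_mul, mul_inv_cancel, hval_one,
    Matrix.mul_smul, Matrix.smul_mul, mul_vecMulVec, vecMulVec_mul, Gm_vecMul hF]

theorem tvM_smul (x : Ix m ε → F) (a c : F) : tvM hF (a • x) c = tvM hF x (a * σ a * c) := by
  rw [tvM, tvM, show (fun i => σ ((a • x) i)) = σ a • fun i => σ (x i) by funext i; simp,
    Matrix.smul_vecMul, vecMulVec_smul, smul_vecMulVec, smul_smul, smul_smul]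
  congr 2
  ring

/-- The basis vector of the first half. -/
def eT (i : Fin m) : Ix m ε → F := Pi.single (Sum.inl (Sum.inl i)) 1

/-- The basis vector of the second half. -/
def fT (i : Fin m) : Ix m ε → F := Pi.single (Sum.inl (Sum.inr i)) 1

theorem tvM_eT [NeZero m] {c : F} :
    tvM hF (eT (0 : Fin m) : Ix m ε → F) c = uMat hF (0 : Matrix (Fin m) (Fin ε) F) (Matrix.single 0 0 c) := by
  have h : (fun i => σ ((eT (0 : Fin m) : Ix m ε → F) i)) ᵥ* Gm hF m ε = (fT (0 : Fin m) : Ix m ε → F) := by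
    funext j
    simp only [Matrix.vecMul, dotProduct, eT, Gm, fT]
    rw [Finset.sum_eq_single (Sum.inl (Sum.inl (0 : Fin m))) (fun i _ hi => by
      rw [Pi.single_eq_of_ne hi, map_zero, zero_mul]) (by simp), Pi.single_eq_same, map_one, one_mul]
    rcases j with (j | j) | j <;> simp [Matrix.one_apply, Pi.single_apply, eq_comm]
  rw [tvM, h]
  ext ((a | a) | a) ((b | b) | b) <;>
    simp [eT, fT, uMat, vecMulVec_apply, Matrix.one_apply, Pi.single_apply, Matrix.single_apply, ct_apply,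
      eq_comm, ← ite_and]
  simp only [and_comm]

theorem exists_tct {y : Fin (k + 2) → F} (hy : y ≠ 0) :
    ∃ A : SpecialLinearGroup (Fin (k + 2)) F, ct hF (A⁻¹).1 *ᵥ Pi.single 0 1 = y := by
  obtain ⟨B, hB⟩ := exists_col (n := k) 0 hy
  refine ⟨tct hF B, ?_⟩
  rw [show ct hF ((tct hF B)⁻¹).1 = B.1 by rw [tct_inv_val, ct_ct], hB]

variable {K : Subgroup (Hgrp hF (k + 2) ε)}

theorem uH_mem_of_skew (hlev : ∀ A, lev hF ε A ∈ K) {μ : F} (hμ : μ + σ μ = 0) (hμ0 : μ ≠ 0)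
    (h0 : T₀ hF ε μ (Pi.single (0 : Fin (k + 2)) 1) ∈ K) {Z : Matrix (Fin (k + 2)) (Fin (k + 2)) F}
    (hok : UOK hF (0 : Matrix (Fin (k + 2)) (Fin ε) F) Z) : uH hF (0 : Matrix (Fin (k + 2)) (Fin ε) F) Z ∈ K := by
  classical
  let A : AddSubgroup (Matrix (Fin (k + 2)) (Fin (k + 2)) F) :=
    { carrier := {M | (∀ a b, σ (M b a) = M a b) ∧ uH hF (0 : Matrix (Fin (k + 2)) (Fin ε) F) (μ • M) ∈ K}
      zero_mem' := ⟨fun a b => by simp, by rw [smul_zero, uH_zero]; exact one_mem _⟩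
      add_mem' := by
        rintro M N ⟨hM, hM'⟩ ⟨hN, hN'⟩
        exact ⟨fun a b => by rw [Matrix.add_apply, map_add, hM, hN]; rfl,
          by rw [← uH_skew_mul hF hμ hM hN]; exact mul_mem hM' hN'⟩
      neg_mem' := by
        rintro M ⟨hM, hM'⟩
        refine ⟨fun a b => by rw [Matrix.neg_apply, map_neg, hM]; rfl, ?_⟩
        rw [show uH hF (0 : Matrix (Fin (k + 2)) (Fin ε) F) (μ • -M) = (uH hF 0 (μ • M))⁻¹ from
          eq_inv_of_mul_eq_one_left (by
            rw [uH_skew_mul hF hμ (fun a b => by rw [Matrix.neg_apply, map_neg, hM]; rfl) hM, neg_add_cancel,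
              smul_zero, uH_zero])]
        exact inv_mem hM' }
  obtain ⟨M, hM, rfl⟩ := skew_form hF hμ hμ0 hok
  refine (herm_span hF (fun _ => True) A (fun v _ => ⟨vv_herm hF v, ?_⟩) hM fun a b h => absurd ⟨trivial, trivial⟩ h).2
  show T₀ hF ε μ v ∈ K
  rw [T₀, ← Tw_skew hF hμ v]
  unfold Tw
  split_ifs
  · exact one_mem _
  · exact mul_mem (mul_mem (hlev _) h0) (inv_mem (hlev _))

theorem uH_mem_of_heis {K : Subgroup (Hgrp hF (k + 2) 1)} (hlev : ∀ A, lev hF 1 A ∈ K) {μ β k₁ : F}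
    (hμ : μ + σ μ = 0) (hμ0 : μ ≠ 0) (hβ : β + σ β = -1) (hk₁ : k₁ + σ k₁ = 1)
    (h0 : Φ₀ hF β (Pi.single (0 : Fin (k + 2)) 1) ∈ K) {v : Matrix (Fin (k + 2)) (Fin 1) F}
    {Z : Matrix (Fin (k + 2)) (Fin (k + 2)) F} (hok : UOK hF v Z) : uH hF v Z ∈ K := by
  have hΦ : ∀ v, Φ₀ hF β v ∈ K := fun v => by
    rw [Φ₀, ← Tw_heis hF hβ v]
    unfold Tw
    split_ifs
    · exact one_mem _
    · exact mul_mem (mul_mem (hlev _) h0) (inv_mem (hlev _))
  have hT : T₀ hF 1 μ (Pi.single (0 : Fin (k + 2)) 1) ∈ K := by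
    rw [T₀, ← cz_diag hF hk₁ hμ, ← Φ₀_comm hF hβ, commutatorElement_def]
    exact mul_mem (mul_mem (mul_mem (hΦ _) (hΦ _)) (inv_mem (hΦ _))) (inv_mem (hΦ _))
  obtain ⟨v, rfl⟩ : ∃ w, v = cv w := ⟨_, cv_surj v⟩
  have hsk : UOK hF (0 : Matrix (Fin (k + 2)) (Fin 1) F) (Z - β • vv hF v) := by
    have h1 := cv_ok hF hβ v
    unfold UOK at *
    rw [Matrix.zero_mul, add_zero, sub_eq_add_neg, ct_add, ct_neg]
    linear_combination (norm := abel) hok - h1
  have e : uH hF (cv v) Z = Φ₀ hF β v * uH hF 0 (Z - β • vv hF v) := by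
    rw [Φ₀, uH_mul hF (cv_ok hF hβ v) hsk, ct_zero, Matrix.mul_zero, sub_zero, add_zero, add_sub_cancel]
  rw [e]
  exact mul_mem (hΦ v) (uH_mem_of_skew hF hlev hμ hμ0 hT hsk)

/-- Isotropic vectors move to the first one or to its partner. -/
theorem exists_reach (hlev : ∀ A, lev hF ε A ∈ K)
    (hU : ∀ {v : Matrix (Fin (k + 2)) (Fin ε) F} {Z : Matrix (Fin (k + 2)) (Fin (k + 2)) F},
      UOK hF v Z → uH hF v Z ∈ K) (hε : ε ≤ 1) {x : Ix (k + 2) ε → F} (hx0 : x ≠ 0)
    (hx : ((fun i => σ (x i)) ᵥ* Gm hF (k + 2) ε) ⬝ᵥ x = 0) :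
    ∃ g ∈ K, hval g *ᵥ (eT 0 : Ix (k + 2) ε → F) = x ∨ hval g *ᵥ (fT 0 : Ix (k + 2) ε → F) = x := by
  classical
  set a : Fin (k + 2) → F := fun i => x (Sum.inl (Sum.inl i)) with ha
  set y : Fin (k + 2) → F := fun i => x (Sum.inl (Sum.inr i)) with hy
  set z : Fin ε → F := fun i => x (Sum.inr i) with hz
  have hxe : x = Sum.elim (Sum.elim a y) z := funext fun i => by rcases i with (i | i) | i <;> rfl
  have hiso : (fun i => σ (y i)) ⬝ᵥ a + (fun i => σ (a i)) ⬝ᵥ y + (fun i => σ (z i)) ⬝ᵥ z = 0 := by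
    rw [← hx]
    have hG : (fun i => σ (x i)) ᵥ* Gm hF (k + 2) ε =
        Sum.elim (Sum.elim (fun i => σ (y i)) fun i => σ (a i)) fun i => σ (z i) := by
      funext i
      rcases i with (i | i) | i <;>
        simp [Gm, Matrix.vecMul, dotProduct, Fintype.sum_sum_type, Matrix.one_apply, a, y, z]
    rw [hG, dotProduct, dotProduct, dotProduct, dotProduct, Fintype.sum_sum_type, Fintype.sum_sum_type]
    rfl
  by_cases hy0 : y = 0
  · have hz0 : z = 0 := by
      rw [hy0] at hiso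
      simp only [Pi.zero_apply, map_zero, dotProduct, zero_mul, mul_zero, Finset.sum_const_zero, zero_add] at hiso
      funext c
      have hc : ∀ c' : Fin ε, c' = c := fun c' => Fin.ext (by have := c.2; have := c'.2; omega)
      rw [Finset.sum_eq_single c (fun b _ hb => absurd (hc b) hb) (by simp)] at hiso
      rcases mul_eq_zero.1 hiso with h | h
      · exact (map_eq_zero _).1 h
      · exact h
    have ha0 : a ≠ 0 := fun h => hx0 (by rw [hxe, h, hy0, hz0]; funext i; rcases i with (i | i) | i <;> rfl)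
    obtain ⟨A, hA⟩ := exists_col (n := k) 0 ha0
    refine ⟨lev hF ε A, hlev A, Or.inl ?_⟩
    rw [lev_val, levM, eT, hxe, hy0, hz0, ← hA]
    funext i
    rcases i with (i | i) | i <;> simp
  obtain ⟨A, hA⟩ := exists_tct hF hy0
  obtain ⟨i₀, hi₀⟩ : ∃ i, y i ≠ 0 := by by_contra h; exact hy0 (funext fun i => by_contra fun hi => h ⟨i, hi⟩)
  set r : Fin (k + 2) → F := Pi.single i₀ (σ (y i₀))⁻¹ with hr
  have hry : (fun i => σ (r i)) ⬝ᵥ y = 1 := by
    rw [dotProduct, Finset.sum_eq_single i₀ (fun b _ hb => by rw [hr, Pi.single_eq_of_ne hb, map_zero, zero_mul])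
      (by simp), hr, Pi.single_eq_same, map_inv₀, qFrob_qFrob hF, inv_mul_cancel₀ hi₀]
  set v : Matrix (Fin (k + 2)) (Fin ε) F := vecMulVec r fun c => σ (z c) with hv
  have hvy : ct hF v *ᵥ y = z := by
    funext c
    rw [Matrix.mulVec, dotProduct]
    simp only [hv, ct_apply, vecMulVec_apply, map_mul, qFrob_qFrob hF]
    rw [show ∑ i, σ (r i) * z c * y i = z c * ((fun i => σ (r i)) ⬝ᵥ y) by
      rw [dotProduct, Finset.mul_sum]; exact Finset.sum_congr rfl fun i _ => by ring, hry, mul_one]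
  obtain ⟨l, hl⟩ := exists_trace_eq hF (a := (1 : F)) (map_one _)
  set Z₀ : Matrix (Fin (k + 2)) (Fin (k + 2)) F := -(l • (v * ct hF v)) with hZ₀
  have hok0 : UOK hF v Z₀ := by
    rw [UOK, hZ₀, ct_neg, ct_smul, ct_mul, ct_ct]
    linear_combination (norm := module) (-(congrArg (fun t : F => t • (v * ct hF v)) hl))
  set b : Fin (k + 2) → F := a - Z₀ *ᵥ y with hb
  have hzz : (fun i => σ (y i)) ⬝ᵥ ((v * ct hF v) *ᵥ y) = (fun i => σ (z i)) ⬝ᵥ z := by
    rw [← Matrix.mulVec_mulVec, hvy, dotProduct_mulVec]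
    congr 1
    funext c
    rw [← hvy]
    simp [Matrix.vecMul, Matrix.mulVec, dotProduct, ct_apply, map_sum, qFrob_qFrob hF, mul_comm]
  set α := (fun i => σ (b i)) ⬝ᵥ y with hα
  have hsw : ∀ s t : Fin (k + 2) → F, σ ((fun i => σ (s i)) ⬝ᵥ t) = (fun i => σ (t i)) ⬝ᵥ s := by
    intro s t
    simp [dotProduct, map_sum, qFrob_qFrob hF, mul_comm]
  have hαs : α + σ α = 0 := by
    have e1 : (fun i => σ (y i)) ⬝ᵥ b = (fun i => σ (y i)) ⬝ᵥ a + l * ((fun i => σ (z i)) ⬝ᵥ z) := by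
      rw [hb, dotProduct_sub, hZ₀, Matrix.neg_mulVec, dotProduct_neg, Matrix.smul_mulVec, dotProduct_smul,
        hzz, smul_eq_mul, sub_neg_eq_add]
    have e2 : (fun i => σ (z i)) ⬝ᵥ z = σ ((fun i => σ (z i)) ⬝ᵥ z) := by
      simp [dotProduct, map_sum, qFrob_qFrob hF, mul_comm]
    rw [show σ α = (fun i => σ (y i)) ⬝ᵥ b from hsw b y,
      show α = σ ((fun i => σ (y i)) ⬝ᵥ b) from (hsw y b).symm, e1, map_add, map_mul, hsw, ← e2]
    linear_combination hiso + ((fun i => σ (z i)) ⬝ᵥ z) * hl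
  set D : Matrix (Fin (k + 2)) (Fin (k + 2)) F :=
    vecMulVec b (fun i => σ (r i)) - vecMulVec r (fun i => σ (b i)) + α • vecMulVec r (fun i => σ (r i)) with hD
  have hDy : D *ᵥ y = b := by
    rw [hD, Matrix.add_mulVec, Matrix.sub_mulVec, Matrix.smul_mulVec, vecMulVec_mulVec, vecMulVec_mulVec,
      vecMulVec_mulVec, hry, ← hα]
    ext i
    simp [mul_comm]
  have hokZ : UOK hF v (Z₀ + D) := by
    have hDc : ct hF D = -D := by
      ext i j
      simp only [hD, ct_apply, Matrix.add_apply, Matrix.sub_apply, Matrix.smul_apply, Matrix.neg_apply,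
        vecMulVec_apply, smul_eq_mul, map_add, map_sub, map_mul, qFrob_qFrob hF]
      linear_combination (r i * σ (r j)) * hαs
    unfold UOK at *
    rw [ct_add, hDc]
    linear_combination (norm := abel) hok0
  refine ⟨uH hF v (Z₀ + D) * lev hF ε A, mul_mem (hU hokZ) (hlev A), Or.inr ?_⟩
  rw [hval_mul, ← Matrix.mulVec_mulVec]
  have e1 : hval (lev hF ε A) *ᵥ (fT 0 : Ix (k + 2) ε → F) = Sum.elim (Sum.elim (0 : Fin (k + 2) → F) y) (0 : Fin ε → F) := by
    rw [lev_val, levM, fT, ← hA]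
    funext i
    rcases i with (i | i) | i <;> simp
  rw [e1, uH_val hF hokZ, uMat, hxe, fromBlocks_mulVec, Sum.elim_comp_inl, Sum.elim_comp_inr,
    Matrix.mulVec_zero, add_zero, Matrix.one_mulVec, fromBlocks_mulVec, Sum.elim_comp_inl, Sum.elim_comp_inr,
    fromCols_mulVec, Sum.elim_comp_inl, Sum.elim_comp_inr, Matrix.one_mulVec, Matrix.one_mulVec,
    Matrix.mulVec_zero, Matrix.mulVec_zero, zero_add, zero_add, add_zero, Matrix.add_mulVec, hDy, hvy, hb,
    add_sub_cancel, zero_add]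

/-- The Levi factor, the radical and a Weyl element generate. -/
theorem hgrp_top (hε : ε ≤ 1) (h32 : 2 ≤ q) {μ z : F} (hW : WOK hF μ z ε) (hlev : ∀ A, lev hF ε A ∈ K)
    (hw : wH hF hW 0 ∈ K)
    (hU : ∀ {v : Matrix (Fin (k + 2)) (Fin ε) F} {Z : Matrix (Fin (k + 2)) (Fin (k + 2)) F},
      UOK hF v Z → uH hF v Z ∈ K) : K = ⊤ := by
  set n := 2 * (k + 2) + ε with hn
  obtain ⟨P, Q, e, hP, hQP, hPQ, he⟩ := exists_iso_of hF n (k + 2) ε (by omega) (by omega)
  suffices h : K.map e.toMonoidHom = ⊤ by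
    refine eq_top_iff.2 fun g _ => ?_
    obtain ⟨g', hg', e'⟩ := Subgroup.mem_map.1 (show e g ∈ K.map e.toMonoidHom from h ▸ Subgroup.mem_top _)
    exact e.injective e' ▸ hg'
  refine UnitTwoGen.top_of_transvections hF (by omega) (by omega) fun v c H => ?_
  refine ⟨e.symm (eSU hF H), ?_, e.apply_symm_apply _⟩
  have e1 : ct hF Q * ct hF P = 1 := by rw [← ct_mul, hPQ, ct_one]
  have hc : c + σ c = 0 := by
    have := H.cc
    rwa [← qFrob_apply hF, h_zero_right hF, add_zero] at this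
  set x : Ix (k + 2) ε → F := Q *ᵥ v with hx
  have hxG : (fun i => σ (x i)) ᵥ* Gm hF (k + 2) ε = (fun i => σ (v i)) ᵥ* P := by
    have hv : (fun i => σ (x i)) = (fun i => σ (v i)) ᵥ* ct hF Q := by
      funext i
      simp [hx, Matrix.mulVec, Matrix.vecMul, dotProduct, ct_apply, map_sum, mul_comm]
    rw [hv, Matrix.vecMul_vecMul, ← hP, ← Matrix.mul_assoc, e1, Matrix.one_mul]
  have hval' : hval (e.symm (eSU hF H)) = tvM hF x c := by
    have h := he (e.symm (eSU hF H))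
    rw [e.apply_symm_apply, suVal_eSU] at h
    calc hval (e.symm (eSU hF H)) = Q * (P * hval (e.symm (eSU hF H)) * Q) * P := by
          rw [← Matrix.mul_assoc, ← Matrix.mul_assoc, hQP, Matrix.one_mul, Matrix.mul_assoc, hQP, Matrix.mul_one]
      _ = Q * eMat q v 0 c * P := by rw [h]
      _ = _ := by
          rw [eMat, tvM, hxG, hx, ← vecMulVec_mul, ← mul_vecMulVec]
          simp only [vecMulVec_zero, Pi.zero_apply, zero_pow (show q ≠ 0 by omega)]
          rw [show vecMulVec (0 : Fin n → F) (fun i => v i ^ q) = 0 by ext i j; simp [vecMulVec_apply],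
            show vecMulVec v (fun _ : Fin n => (0 : F)) = 0 by ext i j; simp [vecMulVec_apply], sub_zero, zero_add,
            Matrix.mul_add, Matrix.mul_one, Matrix.add_mul, hQP, Matrix.mul_smul, Matrix.smul_mul]
          simp only [qFrob_apply, Matrix.mul_assoc]
  rcases eq_or_ne v 0 with rfl | hv0
  · rw [show e.symm (eSU hF H) = 1 from hext (by
      rw [hval', hx, Matrix.mulVec_zero, tvM, zero_vecMulVec, smul_zero, add_zero, hval_one])]
    exact one_mem _
  have hx0 : x ≠ 0 := fun h => hv0 (by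
    rw [← Matrix.one_mulVec v, ← hPQ, ← Matrix.mulVec_mulVec, ← hx, h, Matrix.mulVec_zero])
  have hiso : ((fun i => σ (x i)) ᵥ* Gm hF (k + 2) ε) ⬝ᵥ x = 0 := by
    rw [hxG, ← dotProduct_mulVec, hx, Matrix.mulVec_mulVec, hPQ, Matrix.one_mulVec]
    have := H.ee
    simp only [hermForm] at this
    rw [← this, dotProduct]
    exact Finset.sum_congr rfl fun i _ => by rw [qFrob_apply, mul_comm]
  have base : ∀ s : F, s + σ s = 0 → ∃ t ∈ K, hval t = tvM hF ((eT (0 : Fin (k + 2)) : Ix (k + 2) ε → F)) s := fun s hs => by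
    have hok : UOK hF (0 : Matrix (Fin (k + 2)) (Fin ε) F) (Matrix.single 0 0 s) := by
      rw [UOK, Matrix.zero_mul, add_zero]
      ext a b
      simp only [Matrix.add_apply, ct_apply, Matrix.single_apply, apply_ite (qFrob hF), map_zero,
        Matrix.zero_apply, and_comm (a := (0 : Fin (k + 2)) = b)]
      split_ifs <;> simp [hs]
    exact ⟨_, hU hok, by rw [uH_val hF hok, tvM_eT]⟩
  have via : ∀ g ∈ K, hval g *ᵥ (eT 0 : Ix (k + 2) ε → F) = x → e.symm (eSU hF H) ∈ K := fun g hg hgx => by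
    obtain ⟨t, ht, et⟩ := base c hc
    rw [show e.symm (eSU hF H) = g * t * g⁻¹ from hext (by rw [hval', hval_mul, hval_mul, et, tvM_conj, hgx])]
    exact mul_mem (mul_mem hg ht) (inv_mem hg)
  obtain ⟨g, hg, hgx | hgx⟩ := exists_reach hF hlev hU hε hx0 hiso
  · exact via g hg hgx
  -- from the partner
  have hwf : hval (wH hF hW (0 : Fin (k + 2))) *ᵥ (fT 0 : Ix (k + 2) ε → F) = (σ μ)⁻¹ • (eT 0 : Ix (k + 2) ε → F) := by
    rw [wH_val, wMat, fT, eT]
    funext i
    rcases i with (i | i) | i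
    · rcases eq_or_ne i 0 with rfl | hi <;> simp [Pd, Matrix.diagonal_apply, Pi.single_apply, *]
    · rcases eq_or_ne i 0 with rfl | hi <;>
        simp [Pd, Matrix.diagonal_apply, Pi.single_apply, Matrix.one_apply, *]
    · simp
  set s : F := σ μ * σ (σ μ) * c with hs
  obtain ⟨t, ht, et⟩ := base ((σ μ)⁻¹ * σ (σ μ)⁻¹ * c) (by
    simp only [map_mul, map_inv₀, qFrob_qFrob hF]
    linear_combination ((σ μ)⁻¹ * μ⁻¹) * hc)
  have e2 : hval (g * (wH hF hW 0)⁻¹) *ᵥ ((σ μ)⁻¹ • (eT 0 : Ix (k + 2) ε → F)) = x := by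
    rw [← hwf, Matrix.mulVec_mulVec, ← hval_mul, inv_mul_cancel_right, hgx]
  rw [show e.symm (eSU hF H) = g * (wH hF hW 0)⁻¹ * t * (g * (wH hF hW 0)⁻¹)⁻¹ from hext (by
    rw [hval', hval_mul, hval_mul _ t, et, ← tvM_smul, tvM_conj, e2])]
  exact mul_mem (mul_mem (mul_mem hg (inv_mem hw)) ht) (inv_mem (mul_mem hg (inv_mem hw)))

/-- Generation in even dimension. -/
theorem even_top {μ ω lam : F} {eps c₀ : Fˣ} (E : EPar hF μ ω lam eps c₀) :
    (lev hF 0 : SpecialLinearGroup (Fin (k + 2)) F →* Hgrp hF (k + 2) 0).range ⊔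
      Subgroup.closure {T₀ hF 0 μ (Pi.single 0 1), wH hF (EPar.wok hF E) 0} = ⊤ := by
  refine hgrp_top hF (Nat.zero_le _) (two_le_q hF) (EPar.wok hF E)
    (fun A => by exact Subgroup.mem_sup_left ⟨A, rfl⟩)
    (Subgroup.mem_sup_right (Subgroup.subset_closure (Set.mem_insert_of_mem _ rfl))) fun {v Z} hok => ?_
  obtain rfl : v = 0 := Subsingleton.elim _ _
  exact uH_mem_of_skew hF (fun A => by exact Subgroup.mem_sup_left ⟨A, rfl⟩) E.μt E.μ0
    (Subgroup.mem_sup_right (Subgroup.subset_closure (Set.mem_insert _ _))) hok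

/-- Generation in odd dimension. -/
theorem odd_top {μ ω r β k₁ : F} (O : OPar hF μ ω r β k₁) :
    (lev hF 1 : SpecialLinearGroup (Fin (k + 2)) F →* Hgrp hF (k + 2) 1).range ⊔
      Subgroup.closure {Φ₀ hF β (Pi.single 0 1), wH hF (wok_odd hF) 0} = ⊤ :=
  hgrp_top hF le_rfl (two_le_q hF) (wok_odd hF) (fun A => by exact Subgroup.mem_sup_left ⟨A, rfl⟩)
    (Subgroup.mem_sup_right (Subgroup.subset_closure (Set.mem_insert_of_mem _ rfl))) fun {v Z} hok =>
      uH_mem_of_heis hF (fun A => by exact Subgroup.mem_sup_left ⟨A, rfl⟩) O.μt O.μ0 O.hβt O.hk₁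
        (Subgroup.mem_sup_right (Subgroup.subset_closure (Set.mem_insert _ _))) hok

end Cfsg.Agent.Lie.UnPres
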