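import Cfsg.Agent.Lib.Lie.CurtisTitsCell

/-! Cells in a group built from `SL_m` and an edge of type `D`, and the centrality of the kernel. -/

set_option autoImplicit false
set_option linter.unusedSectionVars false

namespace Cfsg.Agent.Lie.CurtisTitsA

open Matrix Cfsg.Agent.Lie.Chev
open scoped MatrixGroups

variable {F : Type*} [Field F] {m : ℕ}

theorem wB_cube {i j : Fin m} (h : i ≠ j) :
    (wB i j * wB i j * wB i j : Matrix (Fin m) (Fin m) F) = -wB i j := by
  simp [wB, wedge, Matrix.sub_mul, Matrix.mul_sub, Matrix.single_vecMul, vecMulVec_mul_vecMulVec,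
    dotProduct, Pi.single_apply, h, Ne.symm h]
  abel

namespace SkewData

variable {G : Type*} [Group G] (A : SkewData F m G)

/-- The radical as a subgroup. -/
def radSub (c : Matrix (Fin m) (Fin m) F → G) : Subgroup G :=
  Subgroup.closure {g | ∃ S, IsSkew S ∧ g = c S}

variable {c : Matrix (Fin m) (Fin m) F → G} (cadd : ∀ S T, c S * c T = c (S + T))
  (cX : ∀ (i j : Fin m) (t : F), i ≠ j → c (t • wB i j) = A.X i j t)

include cadd in
theorem c_zero : c 0 = 1 := by
  have := cadd 0 0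
  rwa [add_zero, mul_eq_left] at this

include cadd in
theorem mem_radSub {g : G} (hg : g ∈ radSub c) : ∃ S, IsSkew S ∧ g = c S := by
  induction hg using Subgroup.closure_induction with
  | mem g hg => exact hg
  | one => exact ⟨0, skew_zero, (c_zero cadd).symm⟩
  | mul x y _ _ hx hy =>
    obtain ⟨S, hS, rfl⟩ := hx
    obtain ⟨T, hT, rfl⟩ := hy
    exact ⟨S + T, skew_add hS hT, cadd S T⟩
  | inv x _ hx =>
    obtain ⟨S, hS, rfl⟩ := hx
    refine ⟨-S, skew_neg hS, inv_eq_of_mul_eq_one_right ?_⟩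
    rw [cadd, add_neg_cancel, c_zero cadd]

omit cadd in
theorem c_mem {S : Matrix (Fin m) (Fin m) F} (hS : IsSkew S) : c S ∈ radSub c :=
  Subgroup.subset_closure ⟨S, hS, rfl⟩

include cadd cX in
/-- A property of skew matrices follows from the basis. -/
theorem c_induction {P : G → Prop} (h1 : P 1) (hmul : ∀ x y, x ∈ radSub c → y ∈ radSub c → P x → P y → P (x * y))
    (hX : ∀ (i j : Fin m) t, i ≠ j → P (A.X i j t)) {S : Matrix (Fin m) (Fin m) F} (hS : IsSkew S) :
    P (c S) := by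
  classical
  rw [skew_sum hS]
  generalize hP : Finset.univ.filter (fun x : Fin m × Fin m => x.1 < x.2) = P₀
  have hP' : ∀ x ∈ P₀, x.1 ≠ x.2 := fun x hx => by
    rw [← hP, Finset.mem_filter] at hx; exact hx.2.ne
  clear hP
  suffices h : P (c (∑ x ∈ P₀, S x.1 x.2 • (wB x.1 x.2 : Matrix (Fin m) (Fin m) F))) ∧
      IsSkew (∑ x ∈ P₀, S x.1 x.2 • (wB x.1 x.2 : Matrix (Fin m) (Fin m) F)) from h.1
  induction P₀ using Finset.induction_on with
  | empty => rw [Finset.sum_empty, c_zero cadd]; exact ⟨h1, skew_zero⟩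
  | @insert x P₁ hx ih =>
    obtain ⟨ih1, ih2⟩ := ih fun y hy => hP' y (Finset.mem_insert_of_mem hy)
    have hne := hP' x (Finset.mem_insert_self _ _)
    have hw : IsSkew (S x.1 x.2 • wB x.1 x.2 : Matrix (Fin m) (Fin m) F) :=
      skew_smul _ (skew_wedge _ _)
    rw [Finset.sum_insert hx, ← cadd]
    exact ⟨hmul _ _ (c_mem hw) (c_mem ih2) (by rw [cX _ _ _ hne]; exact hX _ _ _ hne) ih1,
      skew_add hw ih2⟩

include cadd cX in
theorem X_mem (i j : Fin m) (hij : i ≠ j) (t : F) : A.X i j t ∈ radSub c :=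
  cX i j t hij ▸ c_mem (skew_smul _ (skew_wedge _ _))

include cadd cX in
/-- The radical splits off the node. -/
theorem split_node (L : Subgroup G) (hR : A.Φ.range ≤ L) {S : Matrix (Fin m) (Fin m) F}
    (hS : IsSkew S) : ∃ (p : F) (y : G), c S = y * A.x p ∧ c S = A.x p * y ∧
      ∀ h, A.nd h * y * (A.nd h)⁻¹ ∈ radSub c ⊔ L := by
  have hxc : ∀ p, A.x p = c (p • A.S0) := fun p => by
    rw [S0, cX _ _ _ A.hab]; exact (A.d_x p).symm
  have hcomm : ∀ x y, x ∈ radSub c → y ∈ radSub c → x * y = y * x := fun x y hx hy => by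
    obtain ⟨S, -, rfl⟩ := mem_radSub cadd hx
    obtain ⟨T, -, rfl⟩ := mem_radSub cadd hy
    rw [cadd, cadd, add_comm]
  have hxm : ∀ p, A.x p ∈ radSub c := fun p => hxc p ▸ c_mem (skew_smul _ (skew_wedge _ _))
  suffices key : ∃ (p : F) (y : G), y ∈ radSub c ∧ c S = y * A.x p ∧
      ∀ h, A.nd h * y * (A.nd h)⁻¹ ∈ radSub c ⊔ L by
    obtain ⟨p, y, hy, e, hh⟩ := key
    exact ⟨p, y, e, e.trans (hcomm _ _ hy (hxm p)), hh⟩
  have hx0 : A.x 0 = 1 := by rw [hxc, zero_smul, c_zero cadd]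
  refine A.c_induction cadd cX (P := fun g => ∃ (p : F) (y : G), y ∈ radSub c ∧ g = y * A.x p ∧
    ∀ h, A.nd h * y * (A.nd h)⁻¹ ∈ radSub c ⊔ L) ?_ ?_ ?_ hS
  · exact ⟨0, 1, one_mem _, by rw [hx0, mul_one], fun h => by simp [one_mem]⟩
  · rintro _ _ - - ⟨p, y, hy, rfl, hh⟩ ⟨p', y', hy', rfl, hh'⟩
    refine ⟨p + p', y * y', mul_mem hy hy', ?_, fun h => ?_⟩
    · rw [show A.x (p + p') = A.x p * A.x p' by rw [hxc, hxc, hxc, cadd, add_smul]]
      calc y * A.x p * (y' * A.x p') = y * (A.x p * y') * A.x p' := by group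
        _ = _ := by rw [hcomm _ _ (hxm p) hy']; group
    · rw [show A.nd h * (y * y') * (A.nd h)⁻¹ =
        (A.nd h * y * (A.nd h)⁻¹) * (A.nd h * y' * (A.nd h)⁻¹) by group]
      exact mul_mem (hh h) (hh' h)
  intro i j t hij
  by_cases hab : (i = A.a ∧ j = A.b) ∨ (i = A.b ∧ j = A.a)
  · rcases hab with ⟨rfl, rfl⟩ | ⟨rfl, rfl⟩
    · exact ⟨t, 1, one_mem _, by rw [one_mul]; exact A.d_x t, fun h => by simp [one_mem]⟩
    · exact ⟨-t, 1, one_mem _, by rw [one_mul, A.X_swap]; exact A.d_x (-t), fun h => by simp [one_mem]⟩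
  refine ⟨0, A.X i j t, A.X_mem cadd cX i j hij t, by rw [hx0, mul_one], fun h => ?_⟩
  have main : ∀ i j t, i ≠ j → i ≠ A.a → i ≠ A.b →
      A.nd h * A.X i j t * (A.nd h)⁻¹ ∈ radSub c ⊔ L := by
    intro i j t hij hia hib
    by_cases hja : j = A.a
    · subst hja
      rw [(A.nd_mixed_b hia hib h t).2]
      exact mul_mem (Subgroup.mem_sup_right (hR ⟨_, rfl⟩))
        (Subgroup.mem_sup_left (A.X_mem cadd cX _ _ hij _))
    by_cases hjb : j = A.b
    · subst hjb
      rw [(A.nd_mixed_a hia hib h t).2]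
      exact mul_mem (Subgroup.mem_sup_right (hR ⟨_, rfl⟩))
        (Subgroup.mem_sup_left (A.X_mem cadd cX _ _ hij _))
    rw [← (A.X_rest_nd hij hia hib hja hjb t h).eq, mul_inv_cancel_right]
    exact Subgroup.mem_sup_left (A.X_mem cadd cX _ _ hij _)
  by_cases hi : i ≠ A.a ∧ i ≠ A.b
  · exact main i j t hij hi.1 hi.2
  rw [A.X_swap j i]
  have hia : i = A.a ∨ i = A.b := by
    rcases not_and_or.1 hi with h | h
    · exact Or.inl (not_not.1 h)
    · exact Or.inr (not_not.1 h)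
  refine main j i _ hij.symm ?_ ?_
  · intro e; rcases hia with h | h
    · exact hij (h.trans e.symm)
    · exact hab (Or.inr ⟨h, e⟩)
  · intro e; rcases hia with h | h
    · exact hab (Or.inl ⟨h, e⟩)
    · exact hij (h.trans e.symm)

include cadd cX in
/-- The image of the radical. -/
theorem image_c {M : Type*} [Monoid M] (θ : G →* M) (E : Matrix (Fin m) (Fin m) F → M)
    (hE0 : E 0 = 1) (hEadd : ∀ S T, E S * E T = E (S + T))
    (hconj : ∀ g S, θ (A.Φ g) * E S * θ (A.Φ g⁻¹) = E (cg g S))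
    (hx : ∀ t, θ (A.x t) = E (t • A.S0)) {S : Matrix (Fin m) (Fin m) F} (hS : IsSkew S) :
    θ (c S) = E S := by
  have hX : ∀ (i j : Fin m) (t : F), i ≠ j → θ (A.X i j t) = E (t • wB i j) := by
    intro i j t hij
    obtain ⟨k, hki, hkj⟩ := A.exists_third (i := i) (j := j)
    obtain ⟨g, -, ha, hb, -⟩ := A.exists_move3 hij hkj hki.symm
    have h1 : cg g A.S0 = wB i j := by rw [S0, cg_wB, ha, hb]; rfl
    rw [← h1, ← cg_smul, ← hconj, ← hx, ← map_mul, ← map_mul, map_inv, X, ← A.d_x, ← A.d_cg,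
      cg_smul, h1]
  have key : ∀ S, IsSkew S → θ (c S) = E S ∧ True := by
    intro S hS
    classical
    rw [skew_sum hS]
    generalize hP : Finset.univ.filter (fun x : Fin m × Fin m => x.1 < x.2) = P₀
    have hP' : ∀ x ∈ P₀, x.1 ≠ x.2 := fun x hx => by
      rw [← hP, Finset.mem_filter] at hx; exact hx.2.ne
    clear hP
    refine ⟨?_, trivial⟩
    induction P₀ using Finset.induction_on with
    | empty => rw [Finset.sum_empty, c_zero cadd, map_one, hE0]
    | @insert x P₁ hx ih =>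
      rw [Finset.sum_insert hx, ← cadd, ← hEadd, map_mul, ih fun y hy => hP' y
        (Finset.mem_insert_of_mem hy), cX _ _ _ (hP' x (Finset.mem_insert_self _ _)),
        hX _ _ _ (hP' x (Finset.mem_insert_self _ _))]
  exact (key S hS).1

end SkewData

theorem eq_of_conj_theta {G M : Type*} [Group G] [Monoid M] {θ : G →* M} {l y : G} (hl : θ l = 1) :
    θ (l * y * l⁻¹) = θ y := by
  have : θ l⁻¹ = 1 := by
    have h := θ.map_mul l l⁻¹
    rw [mul_inv_cancel, map_one, hl, one_mul] at h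
    exact h.symm
  rw [map_mul, map_mul, hl, this, one_mul, mul_one]

namespace SkewData

variable {G : Type*} [Group G] (A : SkewData F m G)

/-- The kernel of the map to the orthogonal group is central and lies in the Levi part. -/
theorem ker_levi (θ : G →* Matrix (Fin m ⊕ Fin m) (Fin m ⊕ Fin m) F)
    (hΦ : ∀ g, θ (A.Φ g) = fromBlocks g.1 0 0 (tauN g).1)
    (hx : ∀ t, θ (A.x t) = fromBlocks 1 (t • A.S0) 0 1)
    (hx' : ∀ t, θ (A.dual.x t) = fromBlocks 1 0 (t • A.S0) 1)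
    (hgen : A.Φ.range ⊔ A.nd.range = ⊤) {z : G} (hz : θ z = 1) :
    z ∈ Subgroup.center G ∧ ∃ g α, z = A.Φ g * A.nd (diag2 α) := by
  obtain ⟨c, cadd, cX, ceq⟩ := A.exists_radical
  obtain ⟨c', cadd', cX', ceq'⟩ := A.dual.exists_radical
  have hΦτ : ∀ g, A.dual.Φ g = A.Φ (tauN g) := fun g => rfl
  have hinv : ∀ g : Matrix.SpecialLinearGroup (Fin m) F, (tauN g⁻¹).1 = g.1ᵀ := fun g => by
    rw [tauN_val, inv_inv]
  have ec : ∀ S, IsSkew S → θ (c S) = fromBlocks 1 S 0 1 := fun S hS =>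
    A.image_c cadd cX θ (fun S => fromBlocks 1 S 0 1) fromBlocks_one
      (fun S T => by simp [fromBlocks_multiply, add_comm])
      (fun g S => by
        rw [hΦ, hΦ, fromBlocks_multiply, fromBlocks_multiply, hinv]
        have h2 : (tauN g).1 * g.1ᵀ = 1 := by
          rw [← hinv g, ← val_mulN, ← map_mul, mul_inv_cancel, map_one, val_oneN]
        simp only [one_mul, mul_one, zero_mul, mul_zero, add_zero, zero_add, cg,
          SpnPres.sval_mul_inv g, h2]) hx hS
  have ec' : ∀ S, IsSkew S → θ (c' S) = fromBlocks 1 0 S 1 := fun S hS =>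
    A.dual.image_c cadd' cX' θ (fun S => fromBlocks 1 0 S 1) fromBlocks_one
      (fun S T => by simp [fromBlocks_multiply])
      (fun g S => by
        rw [hΦτ, hΦτ, hΦ, hΦ, fromBlocks_multiply, fromBlocks_multiply, tauN_tauN, tauN_tauN, hinv]
        have h2 : (tauN g).1 * g.1ᵀ = 1 := by
          rw [← hinv g, ← val_mulN, ← map_mul, mul_inv_cancel, map_one, val_oneN]
        simp only [one_mul, mul_one, zero_mul, mul_zero, add_zero, zero_add, cg,
          SpnPres.sval_mul_inv g, h2]) hx' hS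
  -- the subgroups
  set U := radSub c with hU
  set V := radSub c' with hV
  let E0 : Matrix (Fin m ⊕ Fin m) (Fin m ⊕ Fin m) F := fromBlocks 1 0 0 0
  let Dg : Subgroup G :=
    { carrier := {g | Commute (θ g) E0}
      one_mem' := by show Commute (θ 1) E0; rw [map_one]; exact Commute.one_left _
      mul_mem' := fun {x y} hx hy => by
        show Commute (θ (x * y)) E0; rw [map_mul]; exact hx.mul_left hy
      inv_mem' := fun {x} hx => by
        show θ x⁻¹ * E0 = E0 * θ x⁻¹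
        calc θ x⁻¹ * E0 = θ x⁻¹ * (E0 * θ x) * θ x⁻¹ := by
              rw [mul_assoc, mul_assoc, ← map_mul, mul_inv_cancel, map_one, mul_one]
          _ = θ x⁻¹ * (θ x * E0) * θ x⁻¹ := by rw [hx.eq]
          _ = _ := by rw [← mul_assoc (θ x⁻¹), ← map_mul, inv_mul_cancel, map_one, one_mul] }
  let Tg : Subgroup G := Subgroup.closure (Set.range fun α : Fˣ => A.nd (diag2 α))
  set L : Subgroup G := (Subgroup.normalizer (U : Set G) ⊓ Subgroup.normalizer (V : Set G) ⊓
    Subgroup.normalizer (A.Φ.range : Set G) ⊓ Dg) ⊓ (A.Φ.range ⊔ Tg) with hL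
  have norm_of : ∀ (H : Subgroup G) (y : G), (∀ x ∈ H, y * x * y⁻¹ ∈ H) → (∀ x ∈ H, y⁻¹ * x * y ∈ H) →
      y ∈ Subgroup.normalizer (H : Set G) := fun H y h1 h2 =>
    Subgroup.mem_normalizer_iff.2 fun x => ⟨h1 x, fun hx => by simpa [mul_assoc] using h2 _ hx⟩
  have hRL : A.Φ.range ≤ L := by
    rintro _ ⟨g, rfl⟩
    have key : ∀ g, ∀ x ∈ U, A.Φ g * x * (A.Φ g)⁻¹ ∈ U := fun g x hx => by
      obtain ⟨S, hS, rfl⟩ := mem_radSub cadd hx
      rw [ceq g S hS]; exact c_mem (skew_cg g hS)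
    have key' : ∀ g, ∀ x ∈ V, A.Φ g * x * (A.Φ g)⁻¹ ∈ V := fun g x hx => by
      obtain ⟨S, hS, rfl⟩ := mem_radSub cadd' hx
      have := ceq' (tauN g) S hS
      rw [hΦτ, tauN_tauN] at this
      rw [this]; exact c_mem (skew_cg _ hS)
    refine ⟨⟨⟨⟨norm_of U _ (key g) fun x hx => ?_, norm_of V _ (key' g) fun x hx => ?_⟩,
      Subgroup.le_normalizer ⟨g, rfl⟩⟩, ?_⟩, Subgroup.mem_sup_left ⟨g, rfl⟩⟩
    · simpa using key g⁻¹ x hx
    · simpa using key' g⁻¹ x hx
    · show θ (A.Φ g) * E0 = E0 * θ (A.Φ g)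
      simp [hΦ, E0, fromBlocks_multiply]
  have hTL : ∀ α : Fˣ, A.nd (diag2 α) ∈ L := by
    intro α
    have key : ∀ α : Fˣ, ∀ x ∈ U, A.nd (diag2 α) * x * (A.nd (diag2 α))⁻¹ ∈ U := fun α x hx => by
      obtain ⟨S, hS, rfl⟩ := mem_radSub cadd hx
      refine A.c_induction cadd cX (P := fun g => A.nd (diag2 α) * g * (A.nd (diag2 α))⁻¹ ∈ U)
        (by simp [one_mem]) (fun x y _ _ hx hy => ?_) (fun i j t hij => ?_) hS
      · simpa [mul_assoc] using mul_mem hx hy
      · obtain ⟨s, hs⟩ := A.diag_X α hij t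
        rw [hs]; exact A.X_mem cadd cX i j hij s
    have key' : ∀ α : Fˣ, ∀ x ∈ V, A.nd (diag2 α) * x * (A.nd (diag2 α))⁻¹ ∈ V := fun α x hx => by
      have e : A.nd (diag2 α) = A.dual.nd (diag2 α⁻¹) := by
        rw [A.dual_nd]
        congr 1
        refine ext_two ?_ ?_ ?_ ?_ <;> rw [tauN_val, diag2_inv, inv_inv] <;> simp [diag2_val]
      obtain ⟨S, hS, rfl⟩ := mem_radSub cadd' hx
      rw [e]
      refine A.dual.c_induction cadd' cX' (P := fun g => A.dual.nd (diag2 α⁻¹) * g *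
        (A.dual.nd (diag2 α⁻¹))⁻¹ ∈ V) (by simp [one_mem]) (fun x y _ _ hx hy => ?_)
        (fun i j t hij => ?_) hS
      · simpa [mul_assoc] using mul_mem hx hy
      · obtain ⟨s, hs⟩ := A.dual.diag_X α⁻¹ hij t
        rw [hs]; exact A.dual.X_mem cadd' cX' i j hij s
    refine ⟨⟨⟨⟨norm_of U _ (key α) fun x hx => ?_, norm_of V _ (key' α) fun x hx => ?_⟩,
      A.diag_norm α⟩, ?_⟩, Subgroup.mem_sup_right (Subgroup.subset_closure ⟨α, rfl⟩)⟩
    · have := key α⁻¹ x hx; rwa [← diag2_inv, map_inv, inv_inv] at this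
    · have := key' α⁻¹ x hx; rwa [← diag2_inv, map_inv, inv_inv] at this
    · have e : diag2 α = (upSL (α : F) * loSL (-(↑α⁻¹ : F)) * upSL (α : F)) *
          (upSL (-1) * loSL 1 * upSL (-1) : SL(2, F)) := by
        refine ext_two ?_ ?_ ?_ ?_ <;>
          simp [mul_val, upSL_val, loSL_val, diag2_val, Matrix.mul_apply, Fin.sum_univ_two]
      have hS3 : A.S0 * A.S0 * A.S0 = -A.S0 := wB_cube A.hab
      set S := A.S0
      have hQ1 : (1 + S * S) * S = 0 := by rw [add_mul, one_mul, hS3, add_neg_cancel]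
      have hQ2 : S * (1 + S * S) = 0 := by rw [mul_add, mul_one, ← mul_assoc, hS3, add_neg_cancel]
      have hN : ∀ (s r : F), s * r = 1 → fromBlocks 1 (s • S) 0 1 * fromBlocks 1 0 (r • S) 1 *
          fromBlocks 1 (s • S) 0 1 = fromBlocks (1 + S * S) (s • S) (r • S) (1 + S * S) := by
        intro s r h
        have h' : r * s = 1 := by rw [mul_comm]; exact h
        simp only [fromBlocks_multiply, smul_mul_smul_comm, h, h', one_smul, mul_one, one_mul,
          mul_zero, zero_mul, add_zero, zero_add]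
        congr 1
        · rw [add_mul, one_mul, mul_smul_comm, hS3, smul_neg]; abel
        · rw [add_comm]
      show θ (A.nd (diag2 α)) * E0 = E0 * θ (A.nd (diag2 α))
      rw [e, map_mul A.nd, map_mul θ]
      simp only [map_mul, A.nd_up, A.nd_lo, hx, hx']
      rw [hN _ _ (by simp), hN _ _ (by norm_num), fromBlocks_multiply]
      have hz : ∀ a b : F, (1 + S * S) * (a • S) + (b • S) * (1 + S * S) = 0 := fun a b => by
        rw [mul_smul_comm, hQ1, smul_mul_assoc, hQ2]; simp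
      simp [E0, fromBlocks_multiply, hQ1, hQ2]
  -- products
  have hprod : ∀ {H : Subgroup G}, L ≤ Subgroup.normalizer (H : Set G) → ∀ x ∈ H ⊔ L,
      ∃ h ∈ H, ∃ l ∈ L, x = h * l := by
    intro H hn x hx
    rw [Subgroup.sup_eq_closure] at hx
    induction hx using Subgroup.closure_induction with
    | mem x hx =>
      rcases hx with hx | hx
      · exact ⟨x, hx, 1, one_mem _, (mul_one _).symm⟩
      · exact ⟨1, one_mem _, x, hx, (one_mul _).symm⟩
    | one => exact ⟨1, one_mem _, 1, one_mem _, (one_mul _).symm⟩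
    | mul x y _ _ hx hy =>
      obtain ⟨h, hh, l, hl, rfl⟩ := hx
      obtain ⟨h', hh', l', hl', rfl⟩ := hy
      exact ⟨h * (l * h' * l⁻¹), mul_mem hh ((Subgroup.mem_normalizer_iff.1 (hn hl) h').1 hh'),
        l * l', mul_mem hl hl', by group⟩
    | inv x _ hx =>
      obtain ⟨h, hh, l, hl, rfl⟩ := hx
      exact ⟨l⁻¹ * h⁻¹ * l, by
        simpa using (Subgroup.mem_normalizer_iff.1 (hn (inv_mem hl)) h⁻¹).1 (inv_mem hh),
        l⁻¹, inv_mem hl, by group⟩
  have hLU : L ≤ Subgroup.normalizer (U : Set G) := fun x hx => hx.1.1.1.1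
  have hLV : L ≤ Subgroup.normalizer (V : Set G) := fun x hx => hx.1.1.1.2
  have conjU : ∀ l ∈ L, ∀ x ∈ U, l * x * l⁻¹ ∈ U := fun l hl x hx =>
    (Subgroup.mem_normalizer_iff.1 (hLU hl) x).1 hx
  have conjV : ∀ l ∈ L, ∀ x ∈ V, l * x * l⁻¹ ∈ V := fun l hl x hx =>
    (Subgroup.mem_normalizer_iff.1 (hLV hl) x).1 hx
  let Cell : G → Prop := fun g => ∃ u ∈ U, ∃ v ∈ V, ∃ u' ∈ U, ∃ l ∈ L, g = u * v * u' * l
  have cellU : ∀ x ∈ U, ∀ g, Cell g → Cell (x * g) := by
    rintro x hx g ⟨u, hu, v, hv, u', hu', l, hl, rfl⟩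
    exact ⟨x * u, mul_mem hx hu, v, hv, u', hu', l, hl, by group⟩
  have cellL : ∀ x ∈ L, ∀ g, Cell g → Cell (x * g) := by
    rintro x hx g ⟨u, hu, v, hv, u', hu', l, hl, rfl⟩
    exact ⟨_, conjU x hx u hu, _, conjV x hx v hv, _, conjU x hx u' hu', x * l, mul_mem hx hl,
      by group⟩
  have cellN : ∀ h, ∀ g, Cell g → Cell (A.nd h * g) := by
    rintro h g ⟨u, hu, v, hv, u', hu', l, hl, rfl⟩
    obtain ⟨S, hS, rfl⟩ := mem_radSub cadd hu
    obtain ⟨T, hT, rfl⟩ := mem_radSub cadd' hv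
    obtain ⟨p, y, e, -, hy⟩ := A.split_node cadd cX L hRL hS
    obtain ⟨q, y', -, e', hy'⟩ := A.dual.split_node cadd' cX' L (A.dual_range.le.trans hRL) hT
    obtain ⟨z1, hz1, l1, hl1, ez⟩ := hprod hLU _ (hy h)
    obtain ⟨p1, q1, p2, α, hd⟩ := two_cell (h * upSL p * loSL (-q))
    set T₀ := A.nd (diag2 α)
    have hM : A.nd h * A.x p * A.dual.x q = A.x p1 * A.dual.x (-q1) * (A.x p2 * T₀) := by
      rw [← A.nd_up, ← A.nd_up, ← A.nd_up, ← A.nd_lo, show q = -(-q) by rw [neg_neg], ← A.nd_lo,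
        ← map_mul, ← map_mul, hd]
      simp only [map_mul, T₀]
      group
    have hw : (A.x p2 * T₀) * y' * (A.x p2 * T₀)⁻¹ ∈ V ⊔ L := by
      have := hy' (tauN (upSL p2 * diag2 α))
      rwa [A.dual_nd, tauN_tauN, map_mul, A.nd_up] at this
    obtain ⟨v2, hv2, l2, hl2, e2⟩ := hprod hLV _ hw
    have hp2 : A.x p2 ∈ U := by
      have : A.x p2 = c (p2 • A.S0) := by rw [S0, cX _ _ _ A.hab]; exact (A.d_x p2).symm
      rw [this]; exact c_mem (skew_smul _ (skew_wedge _ _))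
    have hp1 : A.x p1 ∈ U := by
      have : A.x p1 = c (p1 • A.S0) := by rw [S0, cX _ _ _ A.hab]; exact (A.d_x p1).symm
      rw [this]; exact c_mem (skew_smul _ (skew_wedge _ _))
    have hq1 : A.dual.x (-q1) ∈ V := by
      have : A.dual.x (-q1) = c' ((-q1) • A.dual.S0) := by
        rw [S0, cX' _ _ _ A.dual.hab]; exact (A.dual.d_x (-q1)).symm
      rw [this]; exact c_mem (skew_smul _ (skew_wedge _ _))
    refine ⟨_, mul_mem hz1 (conjU l1 hl1 _ hp1), _, conjV l1 hl1 _ (mul_mem hq1 hv2), _,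
      conjU l1 hl1 _ (mul_mem (conjU l2 hl2 _ hp2)
        (conjU _ (mul_mem hl2 (hTL α)) _ hu')),
      l1 * (l2 * T₀ * l), mul_mem hl1 (mul_mem (mul_mem hl2 (hTL α)) hl), ?_⟩
    calc A.nd h * (c S * c' T * u' * l)
        = (A.nd h * y * (A.nd h)⁻¹) * (A.nd h * A.x p * A.dual.x q) * y' * u' * l := by
          rw [e, e']; group
      _ = z1 * l1 * A.x p1 * A.dual.x (-q1) * ((A.x p2 * T₀) * y' * (A.x p2 * T₀)⁻¹) *
          A.x p2 * T₀ * u' * l := by rw [hM, ez]; group
      _ = _ := by rw [e2]; simp only [T₀]; group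
  have cell_all : ∀ g, Cell g := by
    intro g
    suffices h : ∀ x, x ∈ A.Φ.range ⊔ A.nd.range → ∀ g, Cell g → Cell (x * g) by
      have := h g (hgen ▸ Subgroup.mem_top g) 1
        ⟨1, one_mem _, 1, one_mem _, 1, one_mem _, 1, one_mem _, by group⟩
      rwa [mul_one] at this
    intro x hx
    rw [Subgroup.sup_eq_closure] at hx
    induction hx using Subgroup.closure_induction'' with
    | mem k hk =>
      rcases hk with hk | ⟨h, rfl⟩
      exacts [cellL k (hRL hk), cellN h]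
    | inv_mem k hk =>
      rcases hk with hk | ⟨h, rfl⟩
      exacts [cellL _ (inv_mem (hRL hk)), by rw [← map_inv]; exact cellN h⁻¹]
    | one => simp
    | mul x y _ _ hx hy => exact fun g hg => by rw [mul_assoc]; exact hx _ (hy g hg)
  obtain ⟨u, hu, v, hv, u', hu', l, hl, rfl⟩ := cell_all z
  obtain ⟨S, hS, rfl⟩ := mem_radSub cadd hu
  obtain ⟨T, hT, rfl⟩ := mem_radSub cadd' hv
  obtain ⟨S', hS', rfl⟩ := mem_radSub cadd hu'
  have hl' : ∀ x, x ∈ L → ∃ B B', θ x = fromBlocks B 0 0 B' := by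
    intro x hx
    have h : θ x * E0 = E0 * θ x := hx.1.2
    rw [← fromBlocks_toBlocks (θ x)] at h
    simp [E0, fromBlocks_multiply] at h
    exact ⟨_, _, by rw [← fromBlocks_toBlocks (θ x), h.1.symm, h.2]⟩
  obtain ⟨B, B', hB⟩ := hl' l hl
  obtain ⟨C, C', hC⟩ := hl' l⁻¹ (inv_mem hl)
  have hBC : B * C = 1 ∧ B' * C' = 1 := by
    have := congrArg θ (mul_inv_cancel l)
    rw [map_mul, map_one, hB, hC, fromBlocks_multiply, ← fromBlocks_one, fromBlocks_inj] at this
    exact ⟨by simpa using this.1, by simpa using this.2.2.2⟩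
  rw [map_mul, map_mul, map_mul, ec _ hS, ec' _ hT, ec _ hS', hB, fromBlocks_multiply,
    fromBlocks_multiply, fromBlocks_multiply, ← fromBlocks_one, fromBlocks_inj] at hz
  simp only [one_mul, mul_one, zero_mul, mul_zero, add_zero, zero_add] at hz
  have hT0 : T = 0 := by
    calc T = T * (B * C) := by rw [hBC.1, mul_one]
      _ = T * B * C := (mul_assoc _ _ _).symm
      _ = 0 := by rw [hz.2.2.1, zero_mul]
  subst hT0
  simp only [zero_mul, mul_zero, add_zero, zero_add, one_mul] at hz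
  have hSS : S + S' = 0 := by
    have h := congrArg (· * C') hz.2.1
    simp only [zero_mul, mul_assoc, hBC.2, mul_one] at h
    rw [add_comm]; exact h
  have hB1 : θ l = 1 := by rw [hB, hz.1, hz.2.2.2, fromBlocks_one]
  have hl1 : c S * c' 0 * c S' * l = l := by
    rw [c_zero cadd', mul_one, cadd, hSS, c_zero cadd, one_mul]
  rw [hl1]
  -- an element of `L` over one is central
  have fixU : ∀ (d : Matrix (Fin m) (Fin m) F → G) (H : Subgroup G), H = radSub d →
      (∀ S T, d S * d T = d (S + T)) →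
      (∀ S, IsSkew S → ∀ S', IsSkew S' → θ (d S) = θ (d S') → S = S') →
      l ∈ Subgroup.normalizer (H : Set G) → ∀ x ∈ H, l * x = x * l := by
    intro d H hH dadd dinj hn x hx
    have h1 : l * x * l⁻¹ ∈ H := (Subgroup.mem_normalizer_iff.1 hn x).1 hx
    subst hH
    obtain ⟨S, hS, rfl⟩ := mem_radSub dadd hx
    obtain ⟨S₂, hS₂, e⟩ := mem_radSub dadd h1
    have := dinj S hS S₂ hS₂ (by rw [← e, eq_of_conj_theta hB1])
    subst this
    exact mul_inv_eq_iff_eq_mul.1 e
  have hfU := fixU c U rfl cadd (fun S hS S' hS' h => by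
    rw [ec S hS, ec S' hS', fromBlocks_inj] at h; exact h.2.1) (hLU hl)
  have hfV := fixU c' V rfl cadd' (fun S hS S' hS' h => by
    rw [ec' S hS, ec' S' hS', fromBlocks_inj] at h; exact h.2.2.1) (hLV hl)
  have hfR : ∀ g, l * A.Φ g = A.Φ g * l := fun g => by
    obtain ⟨g', hg'⟩ := (Subgroup.mem_normalizer_iff.1 hl.1.1.2 (A.Φ g)).1 ⟨g, rfl⟩
    have := congrArg θ hg'
    rw [eq_of_conj_theta hB1, hΦ, hΦ, fromBlocks_inj] at this
    rw [Subtype.ext this.1] at hg'
    exact mul_inv_eq_iff_eq_mul.1 hg'.symm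
  refine ⟨?_, ?_⟩
  swap
  · -- the torus normalises the copy of `SL_m`
    have hTg : Tg ≤ Subgroup.normalizer (A.Φ.range : Set G) :=
      (Subgroup.closure_le _).2 (by rintro _ ⟨α, rfl⟩; exact A.diag_norm α)
    let τ : Fˣ →* G := A.nd.comp
      { toFun := diag2
        map_one' := ext_two (by simp [diag2_val]) (by simp [diag2_val]) (by simp [diag2_val]) (by simp [diag2_val])
        map_mul' := fun α β => by
          refine ext_two ?_ ?_ ?_ ?_ <;>
            simp [mul_val, diag2_val, Matrix.mul_apply, Fin.sum_univ_two, mul_comm] }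
    have hTg' : Tg = τ.range := by
      rw [show Tg = Subgroup.closure (τ.range : Set G) from rfl, Subgroup.closure_eq]
    have hl2 : l ∈ A.Φ.range ⊔ Tg := hl.2
    rw [← SetLike.mem_coe, Subgroup.coe_mul_of_right_le_normalizer_left _ _ hTg] at hl2
    obtain ⟨_, ⟨g, rfl⟩, t, ht, rfl⟩ := hl2
    rw [SetLike.mem_coe, hTg'] at ht
    obtain ⟨α, rfl⟩ := ht
    exact ⟨g, α, rfl⟩
  rw [Subgroup.mem_center_iff]
  intro g
  have htop : (⊤ : Subgroup G) ≤ Subgroup.centralizer {l} := by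
    rw [← hgen, sup_le_iff]
    refine ⟨?_, range_le_two _ (fun t => ?_) (fun t => ?_)⟩
    · rintro _ ⟨g, rfl⟩
      exact Subgroup.mem_centralizer_singleton_iff.2 (hfR g).symm
    · rw [A.nd_up]
      refine Subgroup.mem_centralizer_singleton_iff.2 (hfU _ ?_).symm
      have : A.x t = c (t • A.S0) := by rw [S0, cX _ _ _ A.hab]; exact (A.d_x t).symm
      rw [this]; exact c_mem (skew_smul _ (skew_wedge _ _))
    · rw [A.nd_lo]
      refine Subgroup.mem_centralizer_singleton_iff.2 (hfV _ ?_).symm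
      have : A.dual.x (-t) = c' ((-t) • A.dual.S0) := by
        rw [S0, cX' _ _ _ A.dual.hab]; exact (A.dual.d_x _).symm
      rw [this]; exact c_mem (skew_smul _ (skew_wedge _ _))
  exact Subgroup.mem_centralizer_singleton_iff.1 (htop (Subgroup.mem_top g))

/-- The kernel of the map to the orthogonal group is central. -/
theorem ker_central (θ : G →* Matrix (Fin m ⊕ Fin m) (Fin m ⊕ Fin m) F)
    (hΦ : ∀ g, θ (A.Φ g) = fromBlocks g.1 0 0 (tauN g).1)
    (hx : ∀ t, θ (A.x t) = fromBlocks 1 (t • A.S0) 0 1)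
    (hx' : ∀ t, θ (A.dual.x t) = fromBlocks 1 0 (t • A.S0) 1)
    (hgen : A.Φ.range ⊔ A.nd.range = ⊤) {z : G} (hz : θ z = 1) : z ∈ Subgroup.center G :=
  (A.ker_levi θ hΦ hx hx' hgen hz).1

end SkewData

end Cfsg.Agent.Lie.CurtisTitsA
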