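import Cfsg.Agent.Lib.Classical.OrthDickson
import Cfsg.Agent.Lib.Classical.QuadModels
import Cfsg.Agent.Lib.Classical.OrthModels

/-! Coordinate root elements of the hyperbolic orthogonal groups: they generate all long root
elements. -/

set_option autoImplicit false
set_option linter.unusedSectionVars false

namespace Cfsg.Agent.Lie.OrthGen

open Matrix Cfsg.Agent.Classical Cfsg.Agent.Classical.OrthAut

section Entries

variable {ι : Type} [Fintype ι] [DecidableEq ι] (F : Type*) [Field F]

/-- A matrix given by a list of entries. -/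
def toM (L : List (ι × ι × ℤ)) : Matrix ι ι F :=
  (L.map fun x => Matrix.single x.1 x.2.1 (x.2.2 : F)).sum

/-- An entry of the matrix of a list. -/
def coef (L : List (ι × ι × ℤ)) (i j : ι) : ℤ :=
  (L.map fun x => if x.1 = i ∧ x.2.1 = j then x.2.2 else 0).sum

/-- The product of two lists. -/
def lmul (L M : List (ι × ι × ℤ)) : List (ι × ι × ℤ) :=
  L.flatMap fun x => (M.filter fun y => decide (x.2.1 = y.1)).map fun y =>
    (x.1, y.2.1, x.2.2 * y.2.2)

/-- Scaling a list. -/
def lscale (C : ℤ) (L : List (ι × ι × ℤ)) : List (ι × ι × ℤ) :=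
  L.map fun x => (x.1, x.2.1, C * x.2.2)

/-- Equality of the matrices of two lists, tested where either is supported. -/
def sameEntries (L M : List (ι × ι × ℤ)) : Bool :=
  (L ++ M).all fun x => coef L x.1 x.2.1 == coef M x.1 x.2.1

omit [Fintype ι] in
theorem toM_nil : toM F ([] : List (ι × ι × ℤ)) = 0 := rfl

omit [Fintype ι] in
theorem toM_cons (x : ι × ι × ℤ) (L : List (ι × ι × ℤ)) :
    toM F (x :: L) = Matrix.single x.1 x.2.1 (x.2.2 : F) + toM F L := by simp [toM]

omit [Fintype ι] in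
theorem toM_append (L M : List (ι × ι × ℤ)) : toM F (L ++ M) = toM F L + toM F M := by simp [toM]

omit [Fintype ι] in
theorem toM_lscale (C : ℤ) (L : List (ι × ι × ℤ)) : toM F (lscale C L) = (C : F) • toM F L := by
  induction L with
  | nil => simp [lscale, toM]
  | cons x L ih =>
    rw [lscale, List.map_cons, toM_cons, ← lscale, ih, toM_cons, smul_add, Matrix.smul_single,
      smul_eq_mul, Int.cast_mul]

theorem toM_lmul (L M : List (ι × ι × ℤ)) : toM F (lmul L M) = toM F L * toM F M := by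
  induction L with
  | nil => simp [lmul, toM]
  | cons x L ih =>
    rw [lmul, List.flatMap_cons, ← lmul, toM_append, ih, toM_cons, Matrix.add_mul]
    congr 1
    clear ih
    induction M with
    | nil => simp [toM]
    | cons y M ih =>
      rw [toM_cons, Matrix.mul_add, ← ih]
      by_cases h : x.2.1 = y.1
      · rw [List.filter_cons_of_pos (by simpa using h), List.map_cons, toM_cons, h,
          Matrix.single_mul_single_same, Int.cast_mul]
      · rw [List.filter_cons_of_neg (by simpa using h), Matrix.single_mul_single_of_ne (h := h),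
          zero_add]

variable {F}

omit [Fintype ι] in
theorem toM_apply (L : List (ι × ι × ℤ)) (i j : ι) : toM F L i j = ((coef L i j : ℤ) : F) := by
  induction L with
  | nil => simp [toM, coef]
  | cons x L ih =>
    rw [toM_cons, Matrix.add_apply, ih, coef, coef, List.map_cons, List.sum_cons, Int.cast_add,
      Matrix.single_apply]
    split_ifs <;> simp

omit [Fintype ι] in
theorem coef_eq_zero {L : List (ι × ι × ℤ)} {i j : ι}
    (h : ∀ x ∈ L, ¬ (x.1 = i ∧ x.2.1 = j)) : coef L i j = 0 := by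
  induction L with
  | nil => rfl
  | cons x L ih =>
    rw [coef, List.map_cons, List.sum_cons, if_neg (h x (by simp)), zero_add]
    exact ih fun y hy => h y (by simp [hy])

omit [Fintype ι] in
theorem sameEntries_toM {L M : List (ι × ι × ℤ)} (h : sameEntries L M = true) :
    toM F L = toM F M := by
  refine Matrix.ext fun i j => ?_
  rw [toM_apply, toM_apply]
  congr 1
  by_cases hx : ∃ x ∈ L ++ M, x.1 = i ∧ x.2.1 = j
  · obtain ⟨x, hm, rfl, rfl⟩ := hx
    simp only [sameEntries, List.all_eq_true, beq_iff_eq] at h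
    exact h x hm
  · push Not at hx
    rw [coef_eq_zero fun x hm e => hx x (by simp [hm]) e.1 e.2,
      coef_eq_zero fun x hm e => hx x (by simp [hm]) e.1 e.2]

end Entries

variable {m : ℕ} {F : Type*} [Field F]


/-- A coordinate vector. -/
def bv (a : Fin m ⊕ Fin m) : Fin m ⊕ Fin m → F := Pi.single a 1

theorem qf_single (a : (Fin m ⊕ Fin m)) (c : F) : (qfPlus m F) (Pi.single a c) = 0 := by
  rw [qfPlus_apply, quadFormPlus]
  refine Finset.sum_eq_zero fun i _ => ?_
  rcases a with a | a <;> simp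

theorem polar_bv (a : (Fin m ⊕ Fin m)) (v : (Fin m ⊕ Fin m) → F) : QuadraticMap.polar ⇑(qfPlus m F) (bv a) v = v a.swap := by
  rw [polar_qfPlus]
  rcases a with a | a
  · rw [Finset.sum_eq_single a (fun j _ hj => by simp [bv, hj]) (by simp)]
    simp [bv]
  · rw [Finset.sum_eq_single a (fun j _ hj => by simp [bv, hj]) (by simp)]
    simp [bv]

theorem ok_coord {a b : (Fin m ⊕ Fin m)} (h : b ≠ a.swap) (s : F) : OK (qfPlus m F) (bv a) (s • bv b) := by
  refine ⟨qf_single a 1, ?_⟩
  rw [QuadraticMap.polar_smul_right, polar_bv, bv, Pi.single_eq_of_ne (Ne.symm h)]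
  simp

variable (m F) in
/-- A coordinate root element. -/
noncomputable def coordElt (a b : Fin m ⊕ Fin m) (s : F) :
    isometryGroup F ⇑(qfPlus m F) :=
  if h : b ≠ a.swap then eOG (ok_coord h s) else 1

theorem coordElt_val (a b : (Fin m ⊕ Fin m)) (h : b ≠ a.swap) (s : F) :
    ogVal (coordElt m F a b s) =
      1 + (Matrix.single b a.swap s + Matrix.single a b.swap (-s)) := by
  refine Matrix.ext_iff_mulVec.2 fun x => ?_
  rw [coordElt, dif_pos h, eOG_val, eMat_mulVec, Matrix.add_mulVec, Matrix.one_mulVec,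
    Matrix.add_mulVec, Matrix.single_mulVec_eq, Matrix.single_mulVec_eq,
    QuadraticMap.polar_smul_left, polar_bv, polar_bv, QuadraticMap.map_smul,
    show (qfPlus m F) (bv b) = 0 from qf_single b 1]
  funext k
  simp only [Pi.add_apply, Pi.sub_apply, Pi.smul_apply, smul_eq_mul, bv, Pi.single_apply]
  split_ifs <;> ring

theorem coordElt_mul (a b : (Fin m ⊕ Fin m)) (h : b ≠ a.swap) (s t : F) :
    coordElt m F a b s * coordElt m F a b t = coordElt m F a b (s + t) := by
  refine ogVal_ext ?_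
  simp only [coordElt, dif_pos h, ogVal_mul, eOG_val]
  rw [eMat_mul (ok_coord h s) (ok_coord h t), add_smul]

theorem coordElt_swap (a b : (Fin m ⊕ Fin m)) (h : b ≠ a.swap) (s : F) :
    coordElt m F b a (-s) = coordElt m F a b s := by
  refine ogVal_ext ?_
  rw [coordElt_val b a (fun e => h (by rw [e, Sum.swap_swap])), coordElt_val a b h, neg_neg,
    add_comm (Matrix.single a _ _)]

section Gen

variable {H : Subgroup (isometryGroup F ⇑(qfPlus m F))}
  (hH : ∀ a b : (Fin m ⊕ Fin m), b ≠ a → b ≠ a.swap → ∀ s : F, coordElt m F a b s ∈ H)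
include hH

/-- The Siegel transformations at a coordinate vector. -/
theorem siegel_mem {a : (Fin m ⊕ Fin m)} {w : (Fin m ⊕ Fin m) → F} (hw : OK (qfPlus m F) (bv a) w) : eOG hw ∈ H := by
  have h0 : w a.swap = 0 := by have := hw.2; rwa [polar_bv] at this
  suffices key : ∀ (t : Finset (Fin m ⊕ Fin m)), a.swap ∉ t → ∀ u, u = ∑ b ∈ t, w b • bv b →
      ∀ hok : OK (qfPlus m F) (bv a) u, eOG hok ∈ H by
    have e : w = ∑ b ∈ Finset.univ.erase a.swap, w b • bv b := by
      funext k
      simp only [Finset.sum_apply, Pi.smul_apply, smul_eq_mul, bv, Pi.single_apply, mul_ite,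
        mul_one, mul_zero, Finset.sum_ite_eq, Finset.mem_erase, Finset.mem_univ, and_true]
      split_ifs with h
      · rfl
      · rw [not_not.1 h, h0]
    exact key _ (Finset.notMem_erase _ _) w e hw
  intro t
  induction t using Finset.induction_on with
  | empty =>
    intro _ u hu hok
    subst hu
    have : eOG hok = 1 := ogVal_ext (by simp [eOG_val, eMat_zero])
    rw [this]; exact one_mem _
  | insert b t hb ih =>
    intro ht u hu hok
    subst hu
    rw [Finset.mem_insert, not_or] at ht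
    have k1 : OK (qfPlus m F) (bv a) (w b • bv b) := ok_coord (Ne.symm ht.1) _
    have k2 : OK (qfPlus m F) (bv a) (∑ x ∈ t, w x • bv x) := by
      refine ⟨qf_single a 1, ?_⟩
      rw [polar_bv, Finset.sum_apply]
      refine Finset.sum_eq_zero fun x hx => ?_
      simp [bv, Pi.single_eq_of_ne (ne_of_mem_of_not_mem hx ht.2).symm]
    have e : eOG hok = eOG k1 * eOG k2 := ogVal_ext (by
      rw [ogVal_mul, eOG_val, eOG_val, eOG_val, eMat_mul k1 k2, Finset.sum_insert hb])
    rw [e]
    refine mul_mem ?_ (ih ht.2 _ rfl k2)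
    by_cases hba : b = a
    · subst hba
      have : eOG k1 = 1 := ogVal_ext (by
        rw [eOG_val, ogVal_one, ← zero_add (w b • bv b),
          eMat_add_self (show OK (qfPlus m F) (bv b) (0 : (Fin m ⊕ Fin m) → F) from OK.zero (qf_single b 1)) (w b), eMat_zero])
      rw [this]; exact one_mem _
    · have := hH a b hba (Ne.symm ht.1) (w b)
      rwa [coordElt, dif_pos (Ne.symm ht.1)] at this

/-- Transitivity on singular vectors. -/
theorem exists_to_base (hm : 2 ≤ m) {v : (Fin m ⊕ Fin m) → F} (hv : v ≠ 0) (hq : (qfPlus m F) v = 0) :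
    ∃ g ∈ H, ogVal g *ᵥ v = bv (Sum.inl (⟨0, by omega⟩ : Fin m)) := by
  set o : Fin m := ⟨0, by omega⟩
  set o' : Fin m := ⟨1, by omega⟩
  have hoo : o ≠ o' := by simp [o, o', Fin.ext_iff]
  let T : ((Fin m ⊕ Fin m) → F) → Prop := fun v => ∃ g ∈ H, ogVal g *ᵥ v = bv (Sum.inl o)
  have step : ∀ {v : (Fin m ⊕ Fin m) → F} (a b : (Fin m ⊕ Fin m)), b ≠ a → b ≠ a.swap → ∀ s : F,
      T (ogVal (coordElt m F a b s) *ᵥ v) → T v := by
    rintro v a b h1 h2 s ⟨g, hg, e⟩
    exact ⟨g * coordElt m F a b s, mul_mem hg (hH a b h1 h2 s),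
      by rw [ogVal_mul, ← Matrix.mulVec_mulVec, e]⟩
  have act : ∀ (v : (Fin m ⊕ Fin m) → F) (a b : (Fin m ⊕ Fin m)), b ≠ a.swap → ∀ (s : F) (k : (Fin m ⊕ Fin m)),
      (ogVal (coordElt m F a b s) *ᵥ v) k = v k + (if k = b then s * v a.swap else 0) +
        (if k = a then -s * v b.swap else 0) := by
    intro v a b h s k
    rw [coordElt_val a b h, Matrix.add_mulVec, Matrix.one_mulVec, Matrix.add_mulVec,
      Matrix.single_mulVec_eq, Matrix.single_mulVec_eq]
    simp [Pi.single_apply, add_assoc]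
    split_ifs <;> simp
  -- last step
  have last : ∀ v : (Fin m ⊕ Fin m) → F, (qfPlus m F) v = 0 → v (Sum.inl o) = 1 → T v := by
    intro v hq h1
    set w : (Fin m ⊕ Fin m) → F := fun k => if k = Sum.inl o ∨ k = Sum.inr o then 0 else -v k with hw
    have hok : OK (qfPlus m F) (bv (Sum.inr o)) w := ⟨qf_single _ 1, by rw [polar_bv]; simp [w]⟩
    set v' := ogVal (eOG hok) *ᵥ v
    have hrest : ∀ k, k ≠ Sum.inr o → v' k = (bv (Sum.inl o) : (Fin m ⊕ Fin m) → F) k := by
      intro k hk
      simp only [v', eOG_val, eMat_mulVec, polar_bv, Sum.swap_inr, h1]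
      simp only [Pi.add_apply, Pi.sub_apply, Pi.smul_apply, smul_eq_mul, bv,
        Pi.single_eq_of_ne hk, mul_zero, sub_zero, one_mul]
      by_cases hk' : k = Sum.inl o
      · subst hk'; simp [w, h1]
      · simp [w, hk, hk']
    have hq' : (qfPlus m F) v' = 0 := by rw [← hq]; exact eMat_quad hok v
    have hy : v' (Sum.inr o) = 0 := by
      rw [qfPlus_apply, quadFormPlus, Finset.sum_eq_single o (fun j _ hj => by
        rw [hrest (Sum.inl j) (by simp), bv, Pi.single_eq_of_ne (by simpa using hj), zero_mul])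
        (by simp), hrest (Sum.inl o) (by simp)] at hq'
      simpa [bv] using hq'
    exact ⟨eOG hok, siegel_mem hH hok, funext fun k => by
      by_cases hk : k = Sum.inr o
      · subst hk; exact hy.trans (by simp [bv])
      · exact hrest k hk⟩
  have hqa : ∀ (v : (Fin m ⊕ Fin m) → F) (a b : (Fin m ⊕ Fin m)) (s : F), (qfPlus m F) (ogVal (coordElt m F a b s) *ᵥ v) = (qfPlus m F) v :=
    fun v a b s => ogVal_quad _ v
  -- make the first coordinate one
  have second : ∀ v : (Fin m ⊕ Fin m) → F, (qfPlus m F) v = 0 → v (Sum.inl o) ≠ 0 → T v := by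
    intro v hq h1
    have n1 : (Sum.inr o : (Fin m ⊕ Fin m)) ≠ Sum.inl o' := by simp
    have n2 : (Sum.inr o : (Fin m ⊕ Fin m)) ≠ (Sum.inl o' : (Fin m ⊕ Fin m)).swap := by simp [hoo]
    refine step (Sum.inl o') (Sum.inr o) n1 n2 ((v (Sum.inl o') - 1) / v (Sum.inl o)) ?_
    set v' := ogVal (coordElt m F (Sum.inl o') (Sum.inr o)
      ((v (Sum.inl o') - 1) / v (Sum.inl o))) *ᵥ v with hv'
    have h2 : v' (Sum.inl o') = 1 := by
      rw [hv', act _ _ _ n2]; simp; field_simp; ring
    have h3 : v' (Sum.inl o) = v (Sum.inl o) := by rw [hv', act _ _ _ n2]; simp [hoo]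
    have n1' : (Sum.inr o' : (Fin m ⊕ Fin m)) ≠ Sum.inl o := by simp
    have n2' : (Sum.inr o' : (Fin m ⊕ Fin m)) ≠ (Sum.inl o : (Fin m ⊕ Fin m)).swap := by simp [hoo.symm]
    refine step (Sum.inl o) (Sum.inr o') n1' n2' (v' (Sum.inl o) - 1) ?_
    refine last _ (by rw [hqa, hv', hqa, hq]) ?_
    rw [act _ _ _ n2']; simp [h2]
  -- make the first coordinate nonzero
  have third : ∀ v : (Fin m ⊕ Fin m) → F, (qfPlus m F) v = 0 → ∀ i, v (Sum.inl i) ≠ 0 → T v := by
    intro v hq i hi
    by_cases h1 : v (Sum.inl o) = 0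
    · have hio : i ≠ o := fun e => hi (e ▸ h1)
      have n1 : (Sum.inr i : (Fin m ⊕ Fin m)) ≠ Sum.inl o := by simp
      have n2 : (Sum.inr i : (Fin m ⊕ Fin m)) ≠ (Sum.inl o : (Fin m ⊕ Fin m)).swap := by simp [hio]
      refine step (Sum.inl o) (Sum.inr i) n1 n2 1 (second _ (by rw [hqa, hq]) ?_)
      rw [act _ _ _ n2]; simpa [h1] using hi
    · exact second v hq h1
  by_cases hx : ∀ i, v (Sum.inl i) = 0
  · obtain ⟨j, hj⟩ : ∃ j, v (Sum.inr j) ≠ 0 := by
      by_contra h
      push Not at h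
      exact hv (funext fun k => by rcases k with k | k <;> simp [hx, h])
    obtain ⟨i, hij⟩ : ∃ i : Fin m, i ≠ j := by
      by_cases hjo : j = o
      · exact ⟨o', by rw [hjo]; exact hoo.symm⟩
      · exact ⟨o, Ne.symm hjo⟩
    have n1 : (Sum.inl j : (Fin m ⊕ Fin m)) ≠ Sum.inl i := by simp [hij.symm]
    have n2 : (Sum.inl j : (Fin m ⊕ Fin m)) ≠ (Sum.inl i : (Fin m ⊕ Fin m)).swap := by simp
    refine step (Sum.inl i) (Sum.inl j) n1 n2 1 (third _ (by rw [hqa, hq]) i ?_)
    rw [act _ _ _ n2]; simp [hx, hij, hj]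
  · push Not at hx
    obtain ⟨i, hi⟩ := hx
    exact third v hq i hi

/-- The coordinate root elements generate all long root elements. -/
theorem sR_le_of_coord' (hm : 2 ≤ m) : sR (qfPlus m F) ≤ H := by
  refine (Subgroup.closure_le _).2 ?_
  rintro x ⟨a, b, h, hx⟩
  obtain rfl : x = eOG h.ok := ogVal_ext hx
  obtain ⟨g, hg, hga⟩ := exists_to_base hH hm h.left_ne h.1
  have hok : OK (qfPlus m F) (bv (Sum.inl (⟨0, by omega⟩ : Fin m))) (ogVal g *ᵥ b) := hga ▸ (h.map g).ok
  have e : g * eOG h.ok * g⁻¹ = eOG hok := ogVal_ext (by rw [conj_eOG, eOG_val, hga])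
  rw [show eOG h.ok = g⁻¹ * (g * eOG h.ok * g⁻¹) * g by group, e]
  exact mul_mem (mul_mem (inv_mem hg) (siegel_mem hH hok)) hg

end Gen

theorem sR_le_of_coord {H : Subgroup (isometryGroup F ⇑(qfPlus m F))} (hm : 2 ≤ m)
    (hH : ∀ a b : (Fin m ⊕ Fin m), b ≠ a → b ≠ a.swap → ∀ s : F, coordElt m F a b s ∈ H) : sR (qfPlus m F) ≤ H :=
  sR_le_of_coord' hH hm

end Cfsg.Agent.Lie.OrthGen
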