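import Cfsg.Agent.Lib.Classical.OrthDickson

/-! Over any field the commutator subgroup of an orthogonal group lies in the group of long root
elements. -/

set_option autoImplicit false
set_option linter.unusedSectionVars false

namespace Cfsg.Agent.Lie.OrthGen

open Matrix Cfsg.Agent.Classical Cfsg.Agent.Classical.OrthAut
open scoped commutatorElement

variable {F : Type*} [Field F] {ι : Type} [Fintype ι] [DecidableEq ι] {Q : QuadraticForm F (ι → F)}
  (hQ : (QuadraticMap.polarBilin Q).Nondegenerate) (hT : Tri Q)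
include hQ hT

/-- Reflections commute modulo the long root elements. -/
theorem refl_commute_mod {v w : ι → F} (hv : Q v ≠ 0) (hw : Q w ≠ 0) :
    Commute (QuotientGroup.mk' (sR Q) (refl hv)) (QuotientGroup.mk' (sR Q) (refl hw)) := by
  set q := QuotientGroup.mk' (sR Q)
  obtain ⟨e, f, P⟩ := exists_basePair hQ hT
  obtain ⟨u, u', hu, h1, h1'⟩ := exists_frame hQ hT P
  have hv₁ : Q (e + Q v • f) = Q v := by rw [quad_add_smul, P.1, P.2.1, P.2.2]; ring
  have hw₁ : Q (u + Q w • u') = Q w := by rw [quad_add_smul, hu.1, hu.2.1, hu.2.2]; ring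
  have hv₀ : Q (e + Q v • f) ≠ 0 := by rw [hv₁]; exact hv
  have hw₀ : Q (u + Q w • u') ≠ 0 := by rw [hw₁]; exact hw
  have horth : QuadraticMap.polar ⇑Q (e + Q v • f) (u + Q w • u') = 0 := by
    simp [QuadraticMap.polar_add_left, QuadraticMap.polar_add_right, QuadraticMap.polar_smul_left,
      QuadraticMap.polar_smul_right, h1.1, h1.2, h1'.1, h1'.2]
  have hcom : refl hv₀ * refl hw₀ = refl hw₀ * refl hv₀ := by
    refine ogVal_ext (Matrix.ext_iff_mulVec.2 fun x => ?_)
    rw [ogVal_mul, ogVal_mul, ← Matrix.mulVec_mulVec, ← Matrix.mulVec_mulVec]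
    simp only [refl_apply, QuadraticMap.polar_sub_right, QuadraticMap.polar_smul_right, horth,
      QuadraticMap.polar_comm _ (u + Q w • u') (e + Q v • f), smul_zero, sub_zero]
    module
  have same : ∀ {v w : ι → F} (hv : Q v ≠ 0) (hw : Q w ≠ 0), Q w = Q v →
      q (refl hv) = q (refl hw) := by
    intro v w hv hw h
    obtain ⟨g, hg, hgv⟩ := exists_move_value hQ hT hv h
    have hgv0 : Q (ogVal g *ᵥ v) ≠ 0 := by rw [ogVal_quad]; exact hv
    have hq : q g = 1 := (QuotientGroup.eq_one_iff g).2 hg
    rw [← (refl_congr hw hgv0 (c := (1 : F)) (by rw [one_smul, hgv])).symm, ← refl_conj g hv hgv0,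
      map_mul, map_mul, map_inv, hq, inv_one, one_mul, mul_one]
  rw [same hv hv₀ hv₁, same hw hw₀ hw₁]
  show q _ * q _ = q _ * q _
  rw [← map_mul, ← map_mul, hcom]

/-- `[O(Q), O(Q)]` consists of products of long root elements. -/
theorem omega_le_sR : Omega F ⇑Q ≤ sR Q := by
  set q := QuotientGroup.mk' (sR Q)
  have hgen : ∀ y : isometryGroup F ⇑Q, y ∈ reflGroup Q := fun y => by
    rw [reflGroup_eq_top hQ hT]; trivial
  have hstep : ∀ (y : isometryGroup F ⇑Q) {v : ι → F} (h : Q v ≠ 0),
      Commute (q (refl h)) (q y) := by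
    intro y v h
    refine Subgroup.closure_induction (p := fun y _ => Commute (q (refl h)) (q y)) ?_ ?_ ?_ ?_
      (hgen y)
    · rintro _ ⟨w, hw, rfl⟩; exact refl_commute_mod hQ hT h hw
    · rw [map_one]; exact Commute.one_right _
    · intro a b _ _ ha hb; rw [map_mul]; exact ha.mul_right hb
    · intro a _ ha; rw [map_inv]; exact ha.inv_right
  have hall : ∀ x y : isometryGroup F ⇑Q, Commute (q x) (q y) := by
    intro x y
    refine Subgroup.closure_induction (p := fun x _ => Commute (q x) (q y)) ?_ ?_ ?_ ?_ (hgen x)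
    · rintro _ ⟨w, hw, rfl⟩; exact hstep y hw
    · rw [map_one]; exact Commute.one_left _
    · intro a b _ _ ha hb; rw [map_mul]; exact ha.mul_left hb
    · intro a _ ha; rw [map_inv]; exact ha.inv_left
  show commutator _ ≤ sR Q
  rw [commutator_def, Subgroup.commutator_le]
  intro x _ y _
  rw [← QuotientGroup.eq_one_iff]
  show q ⁅x, y⁆ = 1
  rw [map_commutatorElement]
  exact commutatorElement_eq_one_iff_commute.2 (hall x y)

end Cfsg.Agent.Lie.OrthGen
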