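import Cfsg.Agent.Lib.Lie.CurtisTitsOrth
import Cfsg.Agent.Lib.Lie.CurtisTitsKer
import Cfsg.Agent.Lib.Lie.OrthGenBasic
import Cfsg.Agent.Lib.Lie.OrthOmegaGen
import Cfsg.Agent.Lib.Classical.OrthModels

/-! Recognition of `PΩ⁺₂ₘ` from `SL_m` and an edge. -/

set_option autoImplicit false
set_option linter.unusedSectionVars false
set_option maxHeartbeats 1000000

namespace Cfsg.Agent.Lie.CurtisTitsA

open Matrix Cfsg.Agent.Lie.Chev
open scoped MatrixGroups

variable {F : Type*} [Field F] {m : ℕ}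

/-- Two homomorphisms of `SL_N` agree when they agree on the adjacent transvections. -/
theorem hom_ext_adjacent {N : ℕ} {H : Type*} [Group H]
    {φ ψ : Matrix.SpecialLinearGroup (Fin N) F →* H}
    (h : ∀ i j : Fin N, (h : i ≠ j) → (j.val = i.val + 1 ∨ i.val = j.val + 1) → ∀ t,
      φ (tvN i j h t) = ψ (tvN i j h t)) : φ = ψ := by
  refine MonoidHom.eq_of_eqOn_dense Cfsg.Agent.Classical.SL_closure_transvections ?_
  rintro _ ⟨⟨i, j, hij, t⟩, rfl⟩
  exact tv_mem_of_adjacent (MonoidHom.eqLocus φ ψ) N (fun i j hij _ _ ha t => h i j hij ha t) i j hij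
    i.2 j.2 t

/-- The image of a perfect group is in the derived subgroup. -/
theorem range_le_commutator {P H : Type*} [Group P] [Group H] (hP : commutator P = ⊤) (f : P →* H) :
    f.range ≤ commutator H := by
  rw [MonoidHom.range_eq_map, ← hP, commutator_def, Subgroup.map_commutator]
  exact Subgroup.commutator_mono le_top le_top

theorem perfect_SL [Finite F] {N : ℕ} (hN : 3 ≤ N) :
    commutator (Matrix.SpecialLinearGroup (Fin N) F) = ⊤ := by
  have : Nontrivial (Fin N) := Fin.nontrivial_iff_two_le.2 (by omega)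
  exact Cfsg.Agent.Classical.SL_commutator_eq_top_of_three_le (by rw [Fintype.card_fin]; exact hN)

/-- A simple group with a copy of `SL_m` and one edge over the orthogonal group is `PΩ⁺₂ₘ`. -/
theorem iso_of_skew [Fintype F] {G : Type*} [Group G] [IsSimpleGroup G] (hc : Subgroup.center G = ⊥)
    (A : SkewData F m (G × OGp m F))
    (hΦ : ∀ g, (A.Φ g).2 = levO g)
    (hx : ∀ t, (A.x t).2 = swO A.b (levO (tvN A.a A.b A.hab t)))
    (hx' : ∀ t, (A.dual.x t).2 = swO A.b (levO (tvN A.b A.a A.hab.symm (-t))))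
    (hgen : (A.Φ.range ⊔ A.nd.range).map (MonoidHom.fst G _) = ⊤)
    (hS : IsSimpleGroup (Cfsg.POmega F (Cfsg.quadFormPlus m F))) :
    Nonempty (G ≃* Cfsg.POmega F (Cfsg.quadFormPlus m F)) := by
  obtain ⟨Γ, hΓ⟩ : ∃ Γ : Subgroup (G × OGp m F), Γ = A.Φ.range ⊔ A.nd.range := ⟨_, rfl⟩
  rw [← hΓ] at hgen
  have hΦm : ∀ g, A.Φ g ∈ Γ := fun g => hΓ ▸ Subgroup.mem_sup_left ⟨g, rfl⟩
  have hnm : ∀ h, A.nd h ∈ Γ := fun h => hΓ ▸ Subgroup.mem_sup_right ⟨h, rfl⟩
  have hψm : ∀ g, A.ψ g ∈ Γ := by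
    intro g
    suffices h : (⊤ : Subgroup (SL(3, F))) ≤ Γ.comap A.ψ from h (Subgroup.mem_top g)
    rw [← Cfsg.Agent.Classical.SL_closure_transvections, Subgroup.closure_le]
    rintro _ ⟨⟨i, j, hij, t⟩, rfl⟩
    refine tv_mem_of_adjacent (Γ.comap A.ψ) 3 (fun i j hij _ _ ha t => ?_) i j hij i.2 j.2 t
    rw [Subgroup.mem_comap]
    fin_cases i <;> fin_cases j <;> simp at ha hij <;> first
      | (show A.ψ (tvN 0 1 (by decide) t) ∈ Γ; rw [← up3_up, A.hu]; exact hΦm _)
      | (show A.ψ (tvN 1 0 (by decide) t) ∈ Γ; rw [← up3_lo, A.hl]; exact hΦm _)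
      | (show A.ψ (tvN 1 2 (by decide) t) ∈ Γ; rw [← dn3_up]; exact hnm (upSL t))
      | (show A.ψ (tvN 2 1 (by decide) t) ∈ Γ; rw [← dn3_lo]; exact hnm (loSL t))
  let B : SkewData F m Γ :=
    { a := A.a, b := A.b, cc := A.cc, hab := A.hab, hca := A.hca, hcb := A.hcb, hm := A.hm
      Φ := A.Φ.codRestrict Γ hΦm
      ψ := A.ψ.codRestrict Γ hψm
      hu := fun t => Subtype.ext (A.hu t)
      hl := fun t => Subtype.ext (A.hl t)
      hcomm := fun i j h hij t u => ⟨Subtype.ext (A.hcomm i j h hij t u).1.eq,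
        Subtype.ext (A.hcomm i j h hij t u).2.eq⟩ }
  let pr : Γ →* G := (MonoidHom.fst G _).comp Γ.subtype
  let ρ : Γ →* OGp m F := (MonoidHom.snd G _).comp Γ.subtype
  let θ : Γ →* Matrix (Fin m ⊕ Fin m) (Fin m ⊕ Fin m) F := oVal.comp ρ
  have hθΦ : ∀ g, θ (B.Φ g) = fromBlocks g.1 0 0 (tauN g).1 := fun g => by
    show oVal (A.Φ g).2 = _; rw [hΦ, oVal_levO]
  have hθx : ∀ t, θ (B.x t) = fromBlocks 1 (t • B.S0) 0 1 := fun t => by
    show oVal (A.x t).2 = _; rw [hx, oVal_sw_up A.hab]; rfl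
  have hθx' : ∀ t, θ (B.dual.x t) = fromBlocks 1 0 (t • B.S0) 1 := fun t => by
    show oVal (A.dual.x t).2 = _; rw [hx', oVal_sw_lo A.hab]; rfl
  have hgenB : B.Φ.range ⊔ B.nd.range = ⊤ := by
    apply Subgroup.map_injective Γ.subtype_injective
    rw [Subgroup.map_sup, MonoidHom.map_range, MonoidHom.map_range, ← MonoidHom.range_eq_map,
      Subgroup.range_subtype]
    exact hΓ.symm
  have hker : ∀ z : Γ, ρ z = 1 → z ∈ Subgroup.center Γ := fun z hz =>
    B.ker_central θ hθΦ hθx hθx' hgenB (show oVal (ρ z) = 1 by rw [hz, map_one])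
  -- the image is `Ω`
  have hperf : ρ.range ≤ commutator (OGp m F) := by
    rw [MonoidHom.range_eq_map, ← hgenB, Subgroup.map_sup, MonoidHom.map_range, MonoidHom.map_range,
      sup_le_iff]
    refine ⟨range_le_commutator (perfect_SL (by have := A.hm; omega)) _,
      le_trans ?_ (range_le_commutator (perfect_SL le_rfl) (ρ.comp B.ψ))⟩
    rintro _ ⟨h, rfl⟩
    exact ⟨dn3 h, rfl⟩
  have hOmega : Cfsg.Omega F (Cfsg.quadFormPlus m F) = ρ.range := by
    refine le_antisymm ?_ hperf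
    obtain ⟨c, cadd, cX, -⟩ := B.exists_radical
    obtain ⟨c', cadd', cX', -⟩ := B.dual.exists_radical
    have hinv : ∀ g : Matrix.SpecialLinearGroup (Fin m) F, (tauN g⁻¹).1 = g.1ᵀ := fun g => by
      rw [tauN_val, inv_inv]
    have hup : ∀ (i j : Fin m) (s : F), i ≠ j →
        θ (B.X i j s) = fromBlocks 1 (s • wB i j) 0 1 := fun i j s hij => by
      rw [← cX i j s hij]
      exact B.image_c cadd cX θ (fun S => fromBlocks 1 S 0 1) fromBlocks_one
        (fun S T => by simp [fromBlocks_multiply, add_comm])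
        (fun g S => by
          rw [hθΦ, hθΦ, fromBlocks_multiply, fromBlocks_multiply, hinv]
          have h2 : (tauN g).1 * g.1ᵀ = 1 := by
            rw [← hinv g, ← val_mulN, ← map_mul, mul_inv_cancel, map_one, val_oneN]
          simp only [one_mul, mul_one, zero_mul, mul_zero, add_zero, zero_add, cg,
            SpnPres.sval_mul_inv g, h2]) hθx (skew_smul _ (skew_wedge _ _))
    have hlo : ∀ (i j : Fin m) (s : F), i ≠ j →
        θ (B.dual.X i j s) = fromBlocks 1 0 (s • wB i j) 1 := fun i j s hij => by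
      rw [← cX' i j s hij]
      exact B.dual.image_c cadd' cX' θ (fun S => fromBlocks 1 0 S 1) fromBlocks_one
        (fun S T => by simp [fromBlocks_multiply])
        (fun g S => by
          show θ (B.Φ (tauN g)) * _ * θ (B.Φ (tauN g⁻¹)) = _
          rw [hθΦ, hθΦ, fromBlocks_multiply, fromBlocks_multiply, tauN_tauN, tauN_tauN, hinv]
          have h2 : (tauN g).1 * g.1ᵀ = 1 := by
            rw [← hinv g, ← val_mulN, ← map_mul, mul_inv_cancel, map_one, val_oneN]
          simp only [one_mul, mul_one, zero_mul, mul_zero, add_zero, zero_add, cg,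
            SpnPres.sval_mul_inv g, h2]) hθx' (skew_smul _ (skew_wedge _ _))
    have hm3 : 3 ≤ m := by have := A.hm; omega
    suffices h : Cfsg.Omega F ⇑(Cfsg.Agent.Classical.qfPlus m F) ≤
        (ρ.range.map ((Subgroup.subtype _))).comap (Subgroup.subtype _) by
      intro x hx
      have hcoe := Cfsg.Agent.Classical.coe_qfPlus (F := F) m
      revert h
      rw [hcoe]
      intro h
      obtain ⟨y, hy, hy'⟩ := h hx
      rwa [← (Subtype.ext hy' : y = x)]
    refine (Cfsg.Agent.Lie.OrthGen.omega_le_sR (Cfsg.Agent.Classical.nondegenerate_qfPlus (F := F) m)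
      (Cfsg.Agent.Classical.OrthAut.tri_qfPlus hm3)).trans
      (Cfsg.Agent.Lie.OrthGen.sR_le_of_coord (by omega) fun p q h1 h2 s => ?_)
    have key : ∀ z : Γ, θ z = Cfsg.Agent.Classical.OrthAut.ogVal
        (Cfsg.Agent.Lie.OrthGen.coordElt m F p q s) →
        Cfsg.Agent.Lie.OrthGen.coordElt m F p q s ∈
          (ρ.range.map ((Subgroup.subtype _))).comap (Subgroup.subtype _) := fun z hz =>
      ⟨ρ z, ⟨z, rfl⟩, Units.ext hz⟩
    rcases p with i | i <;> rcases q with j | j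
    · have hij : j ≠ i := fun e => h1 (by rw [e])
      refine key (B.X j i s) ?_
      rw [hup j i s hij, Cfsg.Agent.Lie.OrthGen.coordElt_val _ _ h2]
      ext (k | k) (l | l) <;>
        simp [Matrix.single_apply, wB_apply, Matrix.one_apply, eq_comm] <;> split_ifs <;> simp_all
    · have hij : i ≠ j := fun e => h2 (by simp [e])
      refine key (B.Φ (tvN i j hij (-s))) ?_
      rw [hθΦ, tauN_tv, tvN_val, tvN_val, Cfsg.Agent.Lie.OrthGen.coordElt_val _ _ h2]
      ext (k | k) (l | l) <;>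
        simp [transvection, Matrix.single_apply, Matrix.one_apply, eq_comm]
    · have hij : j ≠ i := fun e => h2 (by simp [e])
      refine key (B.Φ (tvN j i hij s)) ?_
      rw [hθΦ, tauN_tv, tvN_val, tvN_val, Cfsg.Agent.Lie.OrthGen.coordElt_val _ _ h2]
      ext (k | k) (l | l) <;>
        simp [transvection, Matrix.single_apply, Matrix.one_apply, eq_comm]
    · have hij : j ≠ i := fun e => h1 (by rw [e])
      refine key (B.dual.X j i s) ?_
      rw [hlo j i s hij, Cfsg.Agent.Lie.OrthGen.coordElt_val _ _ h2]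
      ext (k | k) (l | l) <;>
        simp [Matrix.single_apply, wB_apply, Matrix.one_apply, eq_comm] <;> split_ifs <;> simp_all
  -- the conclusion
  let ρ' : Γ →* ↥(Cfsg.Omega F (Cfsg.quadFormPlus m F)) :=
    ρ.codRestrict _ fun z => hOmega ▸ ⟨z, rfl⟩
  have hρ' : Function.Surjective ρ' := fun y => by
    obtain ⟨z, hz⟩ : (y : OGp m F) ∈ ρ.range := hOmega ▸ y.2
    exact ⟨z, Subtype.ext hz⟩
  have hpr : Function.Surjective pr := by
    intro g
    obtain ⟨y, hy, e⟩ : g ∈ Γ.map (MonoidHom.fst G _) := hgen ▸ Subgroup.mem_top g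
    exact ⟨⟨y, hy⟩, e⟩
  have hk : ρ'.ker ≤ pr.ker := fun z hz => by
    have hz' := hker z (congrArg Subtype.val (MonoidHom.mem_ker.1 hz))
    rw [MonoidHom.mem_ker, ← Subgroup.mem_bot, ← hc]
    refine Subgroup.mem_center_iff.2 fun g => ?_
    obtain ⟨w, rfl⟩ := hpr g
    rw [← map_mul, ← map_mul, Subgroup.mem_center_iff.1 hz' w]
  let f : ↥(Cfsg.Omega F (Cfsg.quadFormPlus m F)) →* G := ρ'.liftOfSurjective hρ' ⟨pr, hk⟩
  have hf : ∀ y, f (ρ' y) = pr y := fun y => MonoidHom.liftOfRightInverse_comp_apply _ _ _ _ _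
  have hfs : Function.Surjective f := fun g => by
    obtain ⟨y, rfl⟩ := hpr g
    exact ⟨ρ' y, hf y⟩
  have hcen : Subgroup.center ↥(Cfsg.Omega F (Cfsg.quadFormPlus m F)) ≤ f.ker := fun z hz => by
    rw [MonoidHom.mem_ker, ← Subgroup.mem_bot, ← hc]
    refine Subgroup.mem_center_iff.2 fun g => ?_
    obtain ⟨w, rfl⟩ := hfs g
    rw [← map_mul, ← map_mul, Subgroup.mem_center_iff.1 hz w]
  let π : Cfsg.POmega F (Cfsg.quadFormPlus m F) →* G := QuotientGroup.lift _ f hcen
  have hπ : Function.Surjective π := QuotientGroup.lift_surjective_of_surjective _ f hfs hcen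
  refine ⟨(MulEquiv.ofBijective π ⟨?_, hπ⟩).symm⟩
  rw [← MonoidHom.ker_eq_bot_iff]
  refine (IsSimpleGroup.eq_bot_or_eq_top_of_normal π.ker inferInstance).resolve_right fun h => ?_
  obtain ⟨g, hg⟩ := exists_ne (1 : G)
  obtain ⟨y, rfl⟩ := hπ g
  exact hg (MonoidHom.mem_ker.1 (h ▸ Subgroup.mem_top y))

end Cfsg.Agent.Lie.CurtisTitsA
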