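import Cfsg.Agent.Lib.Lie.CurtisTitsPair

/-! Compatible identifications along a tree. -/

set_option autoImplicit false
set_option linter.unusedSectionVars false

namespace Cfsg.Agent.Lie.CurtisTitsA

open Matrix Cfsg.Agent.Lie.Chev
open scoped MatrixGroups

variable {F : Type*} [Field F]

/-- The list grows a tree out of the set `S`. -/
inductive Grows {ι : Type*} (Adj : ι → ι → Prop) : List ι → List (ι × ι) → Prop
  | nil (S) : Grows Adj S []
  | cons {S p q E} : p ∈ S → q ∉ S → Adj p q → Grows Adj (q :: S) E → Grows Adj S ((p, q) :: E)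

/-- The vertices of a tree. -/
def visited {ι : Type*} : List ι → List (ι × ι) → List ι
  | S, [] => S
  | S, x :: E => visited (x.2 :: S) E

theorem mem_visited {ι : Type*} : ∀ (E : List (ι × ι)) (S : List ι) (i : ι),
    i ∈ visited S E ↔ i ∈ S ∨ i ∈ E.map Prod.snd
  | [], S, i => by simp [visited]
  | x :: E, S, i => by
    simp only [visited, mem_visited E, List.mem_cons, List.map_cons]
    tauto

/-- The hypotheses of the recognition theorems. -/
structure Amalgam (F : Type*) [Field F] {ι : Type*} (G : Type*) [Group G] (Adj : ι → ι → Prop)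
    where
  L : ι → Subgroup G
  z : ι → G
  e : ∀ i, SL(2, F) ≃* L i
  hz : ∀ i, z i ∈ L i ∧ z i ≠ 1 ∧ z i * z i = 1
  symm : ∀ i j, Adj i j → Adj j i
  ne : ∀ i j, Adj i j → i ≠ j
  pair : ∀ i j, Adj i j → Nonempty (↥(L i ⊔ L j) ≃* SL(3, F)) ∨
    Nonempty (↥(L i ⊔ L j) ≃* Matrix.ProjectiveSpecialLinearGroup (Fin 3) F)
  zcomm : ∀ i j, z i * z j = z j * z i
  index : ∀ i, ((Subgroup.closure (Set.range z) ⊓
    Subgroup.centralizer ((L i : Subgroup G) : Set G)).subgroupOf
      (Subgroup.closure (Set.range z))).index ≤ 2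

namespace Amalgam

variable {ι : Type*} {G : Type*} [Group G] {Adj : ι → ι → Prop} (A : Amalgam F G Adj)

/-- The given identification. -/
def base (i : ι) : SL(2, F) →* G := (A.L i).subtype.comp (A.e i).toMonoidHom

theorem base_injective (i : ι) : Function.Injective (A.base i) :=
  (A.L i).subtype_injective.comp (A.e i).injective

theorem base_range (i : ι) : (A.base i).range = A.L i := by
  rw [base, MonoidHom.range_comp, MonoidHom.range_eq_top.2 (A.e i).surjective,
    ← MonoidHom.range_eq_map, Subgroup.range_subtype]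

theorem z_eq (h2 : (2 : F) ≠ 0) {i : ι} {φ : SL(2, F) →* G} (hinj : Function.Injective φ)
    (hr : φ.range = A.L i) : φ negOne2 = A.z i := by
  obtain ⟨hzL, hz1, hz2⟩ := A.hz i
  rw [← hr] at hzL
  obtain ⟨g, hg⟩ := hzL
  rw [← hg, eq_negOne2_of_sq h2 (g := g) (hinj (by rw [map_mul, map_one, hg, hz2]))
    fun h => hz1 (by rw [← hg, h, map_one])]

/-- The twist by a neighbour. -/
def Good (i : ι) (φ : SL(2, F) →* G) : Prop :=
  Function.Injective φ ∧ φ.range = A.L i ∧
    ∀ j, Adj i j → ∀ x, A.z j * φ x * A.z j = φ (eps x)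

theorem conj_eq [Finite F] [Finite G] (h2 : (2 : F) ≠ 0) {i j k : ι} (hj : Adj i j) (hk : Adj i k) {y : G}
    (hy : y ∈ A.L i) : A.z j * y * A.z j = A.z k * y * A.z k := by
  have hnot : ∀ {j}, Adj i j → A.z j ∉ Subgroup.centralizer ((A.L i : Subgroup G) : Set G) := by
    intro j hj hmem
    obtain ⟨π, hker, -, e2, hr, -⟩ := exists_pair h2 (A.base i) (A.base j) (A.base_injective i)
      (A.base_injective j)
      (by rw [A.z_eq h2 (A.base_injective i) (A.base_range i),
        A.z_eq h2 (A.base_injective j) (A.base_range j)]; exact A.zcomm i j)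
      (by rw [A.base_range, A.base_range]; exact A.pair i j hj)
    rw [A.z_eq h2 (A.base_injective j) (A.base_range j)] at e2
    have hm : π (up3 (upSL 1)) ∈ A.L i := by
      rw [← A.base_range i, hr]; exact ⟨_, rfl⟩
    have h := Subgroup.mem_centralizer_iff.1 hmem _ hm
    have h' : A.z j * π (up3 (upSL 1)) * A.z j = π (up3 (upSL 1)) := by
      rw [← h, mul_assoc, (A.hz j).2.2, mul_one]
    rw [← e2, ← map_mul, ← map_mul, twist_up3, eps_up] at h'
    have := up3_comp_injective hker h'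
    have e := congrArg (fun x : SL(2, F) => x.1 0 1) this
    simp [upSL_val] at e
    exact h2 (by linear_combination -e)
  set H := Subgroup.closure (Set.range A.z)
  set C := (H ⊓ Subgroup.centralizer ((A.L i : Subgroup G) : Set G)).subgroupOf H
  have hzH : ∀ j, A.z j ∈ H := fun j => Subgroup.subset_closure ⟨j, rfl⟩
  have hjC : (⟨A.z j, hzH j⟩ : H) ∉ C := fun h => hnot hj (Subgroup.mem_inf.1 h).2
  have hkC : (⟨A.z k, hzH k⟩ : H) ∉ C := fun h => hnot hk (Subgroup.mem_inf.1 h).2
  have hne0 : C.index ≠ 0 := Subgroup.index_ne_zero_of_finite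
  have h2i : C.index = 2 := by
    have h1 : C.index ≠ 1 := fun h => hjC (Subgroup.index_eq_one.1 h ▸ Subgroup.mem_top _)
    have := A.index i
    change C.index ≤ 2 at this
    omega
  have hprod : A.z j * A.z k ∈ Subgroup.centralizer ((A.L i : Subgroup G) : Set G) :=
    (Subgroup.mem_inf.1 (show (⟨A.z j, hzH j⟩ * ⟨A.z k, hzH k⟩ : H) ∈ C from
      (Subgroup.mul_mem_iff_of_index_two h2i).2 (iff_of_false hjC hkC))).2
  have h := Subgroup.mem_centralizer_iff.1 hprod y hy
  calc A.z j * y * A.z j = A.z j * (y * (A.z j * A.z k)) * A.z k := by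
        simp only [mul_assoc, (A.hz k).2.2, mul_one]
    _ = A.z j * (A.z j * A.z k * y) * A.z k := by rw [h]
    _ = A.z k * y * A.z k := by
        simp only [← mul_assoc, (A.hz j).2.2, one_mul]

theorem good_of_one [Finite F] [Finite G] (h2 : (2 : F) ≠ 0) {i j : ι} (hij : Adj i j) {φ : SL(2, F) →* G}
    (hinj : Function.Injective φ) (hr : φ.range = A.L i)
    (h : ∀ x, A.z j * φ x * A.z j = φ (eps x)) : A.Good i φ :=
  ⟨hinj, hr, fun k hk x => by rw [A.conj_eq h2 hk hij (hr ▸ ⟨x, rfl⟩), h]⟩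

theorem exists_root [Finite F] [Finite G] (h2 : (2 : F) ≠ 0) {i j : ι} (hij : Adj i j) :
    ∃ φ, A.Good i φ := by
  obtain ⟨π, hker, -, e2, hr, -⟩ := exists_pair h2 (A.base i) (A.base j) (A.base_injective i)
    (A.base_injective j)
    (by rw [A.z_eq h2 (A.base_injective i) (A.base_range i),
      A.z_eq h2 (A.base_injective j) (A.base_range j)]; exact A.zcomm i j)
    (by rw [A.base_range, A.base_range]; exact A.pair i j hij)
  rw [A.z_eq h2 (A.base_injective j) (A.base_range j)] at e2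
  refine ⟨π.comp up3, A.good_of_one h2 hij (up3_comp_injective hker)
    (hr.symm.trans (A.base_range i)) fun x => ?_⟩
  show A.z j * π (up3 x) * A.z j = π (up3 (eps x))
  rw [← e2, ← map_mul, ← map_mul, twist_up3]

theorem extend [Finite F] [Finite G] (h2 : (2 : F) ≠ 0) {p q : ι} (hpq : Adj p q) {φ : SL(2, F) →* G}
    (hφ : A.Good p φ) :
    ∃ ψ : SL(3, F) →* G, (∀ x, ψ (up3 x) = φ x) ∧ A.Good q (ψ.comp dn3) := by
  have hz := A.z_eq h2 (A.base_injective q) (A.base_range q)
  have hzp := A.z_eq h2 hφ.1 hφ.2.1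
  obtain ⟨ψ, hψ, hinj, hr⟩ := exists_edge h2 φ (A.base q) hφ.1 (A.base_injective q)
    (by rw [hzp, hz]; exact A.zcomm p q)
    (by rw [hφ.2.1, A.base_range]; exact A.pair p q hpq)
    (fun x => by rw [hz]; exact hφ.2.2 q hpq x)
  refine ⟨ψ, hψ, A.good_of_one h2 (A.symm p q hpq) hinj (hr.trans (A.base_range q)) fun x => ?_⟩
  show A.z p * ψ (dn3 x) * A.z p = ψ (dn3 (eps x))
  rw [← hzp, ← hψ, ← map_mul, ← map_mul, twist_dn3]

theorem exists_system [Finite F] [Finite G] (h2 : (2 : F) ≠ 0) :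
    ∀ (E : List (ι × ι)) (S : List ι), Grows Adj S E → ∀ φ : ι → SL(2, F) →* G,
      (∀ i ∈ S, A.Good i (φ i)) → ∃ φ' : ι → SL(2, F) →* G, (∀ i ∈ S, φ' i = φ i) ∧
        (∀ i ∈ visited S E, A.Good i (φ' i)) ∧
        ∀ x ∈ E, ∃ ψ : SL(3, F) →* G,
          (∀ g, ψ (up3 g) = φ' x.1 g) ∧ ∀ g, ψ (dn3 g) = φ' x.2 g := by
  classical
  intro E
  induction E with
  | nil => intro S _ φ hφ; exact ⟨φ, fun _ _ => rfl, hφ, fun x hx => by simp at hx⟩
  | cons x E ih =>
    intro S hS φ hφ
    cases hS with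
    | @cons _ p q _ hp hq hpq hE =>
      obtain ⟨ψ, hψ, hgood⟩ := A.extend h2 hpq (hφ p hp)
      obtain ⟨φ', h1, h3, h4⟩ := ih (q :: S) hE (Function.update φ q (ψ.comp dn3)) (by
        intro i hi
        by_cases h : i = q
        · subst h; rw [Function.update_self]; exact hgood
        · rw [Function.update_of_ne h]
          exact hφ i ((List.mem_cons.1 hi).resolve_left h))
      have hold : ∀ i ∈ S, φ' i = φ i := fun i hi => by
        rw [h1 i (List.mem_cons_of_mem _ hi), Function.update_of_ne fun h : i = q => hq (h ▸ hi)]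
      refine ⟨φ', hold, h3, ?_⟩
      intro y hy
      rcases List.mem_cons.1 hy with rfl | hy
      · refine ⟨ψ, fun g => by rw [hψ, hold p hp], fun g => ?_⟩
        rw [h1 q List.mem_cons_self, Function.update_self]
        rfl
      · exact h4 y hy

theorem exists_tree [Finite F] [Finite G] (h2 : (2 : F) ≠ 0) {r s : ι} (hrs : Adj r s) (E : List (ι × ι))
    (hE : Grows Adj [r] E) (hall : ∀ i, i ∈ visited [r] E) :
    ∃ φ : ι → SL(2, F) →* G, (∀ i, A.Good i (φ i)) ∧
      ∀ x ∈ E, ∃ ψ : SL(3, F) →* G,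
        (∀ g, ψ (up3 g) = φ x.1 g) ∧ ∀ g, ψ (dn3 g) = φ x.2 g := by
  obtain ⟨φ₀, h₀⟩ := A.exists_root h2 hrs
  obtain ⟨φ, -, h1, h3⟩ := A.exists_system h2 E [r] hE (fun _ => φ₀) fun i hi => by
    rw [List.mem_singleton.1 hi]; exact h₀
  exact ⟨φ, fun i => h1 i (hall i), h3⟩

end Amalgam

end Cfsg.Agent.Lie.CurtisTitsA
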