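import Cfsg.Agent.Lib.Lie.CurtisTitsTypeA
import Cfsg.Agent.Lib.Lie.CurtisTitsSystem

/-! Generators and lists used by the recognition theorems. -/

set_option autoImplicit false
set_option linter.unusedSectionVars false

namespace Cfsg.Agent.Lie.CurtisTitsA

open Matrix Cfsg.Agent.Lie.Chev
open scoped MatrixGroups

variable {F : Type*} [Field F]

/-- The image of `SL₂` lies in a subgroup containing the images of the root groups. -/
theorem range_le_two {G : Type*} [Group G] {φ : SL(2, F) →* G} (H : Subgroup G)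
    (hu : ∀ t, φ (upSL t) ∈ H) (hl : ∀ t, φ (loSL t) ∈ H) : φ.range ≤ H := by
  rw [MonoidHom.range_eq_map, ← Cfsg.Agent.Classical.SL_closure_transvections,
    MonoidHom.map_closure, Subgroup.closure_le]
  rintro _ ⟨_, ⟨⟨i, j, hij, t⟩, rfl⟩, rfl⟩
  refine SetLike.mem_coe.2 ?_
  fin_cases i <;> fin_cases j
  all_goals first
    | exact absurd rfl hij
    | (convert hu t using 3; refine ext_two ?_ ?_ ?_ ?_ <;>
        simp [SpecialLinearGroup.transvection, transvection, upSL_val]; done)
    | (convert hl t using 3; refine ext_two ?_ ?_ ?_ ?_ <;>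
        simp [SpecialLinearGroup.transvection, transvection, loSL_val]; done)

theorem up_lo_not_commute : ¬ Commute (upSL (1 : F)) (loSL (1 : F)) := by
  intro h
  have e := congrArg (fun x : SL(2, F) => x.1 0 0) h.eq
  simp [mul_val, upSL_val, loSL_val, Matrix.mul_apply, Fin.sum_univ_two] at e

/-- The center of a simple group holding a copy of `SL₂` is trivial. -/
theorem center_eq_bot {G : Type*} [Group G] [IsSimpleGroup G] {φ : SL(2, F) →* G}
    (hinj : Function.Injective φ) : Subgroup.center G = ⊥ := by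
  refine (IsSimpleGroup.eq_bot_or_eq_top_of_normal (Subgroup.center G) inferInstance).resolve_right
    fun h => up_lo_not_commute (hinj ?_)
  rw [map_mul, map_mul]
  exact (Subgroup.mem_center_iff.1 (h ▸ Subgroup.mem_top _) _)

/-- A path. -/
def chainList {ι : Type*} (f : ℕ → ι) : ℕ → ℕ → List (ι × ι)
  | _, 0 => []
  | s, m + 1 => (f s, f (s + 1)) :: chainList f (s + 1) m

theorem mem_chainList {ι : Type*} (f : ℕ → ι) : ∀ (m s k : ℕ), s ≤ k → k < s + m →
    (f k, f (k + 1)) ∈ chainList f s m
  | 0, s, k, h, h' => absurd h' (by omega)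
  | m + 1, s, k, h, h' => by
    rcases Nat.eq_or_lt_of_le h with rfl | hlt
    · exact List.mem_cons_self
    · exact List.mem_cons_of_mem _ (mem_chainList f m (s + 1) k hlt (by omega))

theorem grows_chainList {ι : Type*} {Adj : ι → ι → Prop} (f : ℕ → ι) :
    ∀ (m s : ℕ) (S : List ι), f s ∈ S → (∀ k, s < k → k ≤ s + m → f k ∉ S) →
      (∀ k l, s < k → k < l → l ≤ s + m → f k ≠ f l) →
      (∀ k, s ≤ k → k < s + m → Adj (f k) (f (k + 1))) → Grows Adj S (chainList f s m)
  | 0, s, S, _, _, _, _ => Grows.nil S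
  | m + 1, s, S, h0, hS, hinj, hadj => by
    refine Grows.cons h0 (hS _ (by omega) (by omega)) (hadj s le_rfl (by omega))
      (grows_chainList f m (s + 1) _ List.mem_cons_self (fun k hk hk' => ?_)
        (fun k l hk hl hl' => hinj k l (by omega) hl (by omega))
        fun k hk hk' => hadj k (by omega) (by omega))
    simp only [List.mem_cons, not_or]
    exact ⟨fun e => hinj (s + 1) k (by omega) hk (by omega) e.symm, hS k (by omega) (by omega)⟩

end Cfsg.Agent.Lie.CurtisTitsA

namespace Cfsg.Agent.Lie.CurtisTitsA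

theorem grows_append {ι : Type*} {Adj : ι → ι → Prop} {E' : List (ι × ι)} :
    ∀ {E : List (ι × ι)} {S : List ι}, Grows Adj S E → Grows Adj (visited S E) E' →
      Grows Adj S (E ++ E')
  | _, _, .nil _, h' => h'
  | _, _, .cons h1 h2 h3 h, h' => .cons h1 h2 h3 (grows_append h h')

theorem snd_chainList {ι : Type*} (f : ℕ → ι) : ∀ (m s : ℕ) {x : ι},
    x ∈ (chainList f s m).map Prod.snd → ∃ k, s < k ∧ k ≤ s + m ∧ x = f k
  | 0, s, x, h => by simp [chainList] at h
  | m + 1, s, x, h => by
    rw [chainList, List.map_cons, List.mem_cons] at h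
    rcases h with rfl | h
    · exact ⟨s + 1, by omega, by omega, rfl⟩
    · obtain ⟨k, h1, h2, h3⟩ := snd_chainList f m (s + 1) h
      exact ⟨k, by omega, by omega, h3⟩

end Cfsg.Agent.Lie.CurtisTitsA
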