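import Cfsg.Agent.Lib.Lie.CurtisTitsColumn

/-! The pointwise stabiliser of some basis vectors is generated by transvections. -/

set_option autoImplicit false
set_option linter.unusedSectionVars false
set_option linter.unusedSimpArgs false

namespace Cfsg.Agent.Lie.CurtisTitsA

open Matrix Cfsg.Agent.Lie.Chev
open scoped MatrixGroups

variable {F : Type*} [Field F] {m : ℕ} (p : Fin m → Prop) [DecidablePred p]

/-- The block on the indices outside `p`. -/
def embOffP : Matrix.SpecialLinearGroup {i : Fin m // ¬ p i} F →*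
    Matrix.SpecialLinearGroup (Fin m) F where
  toFun h := ⟨reindexAlgEquiv F F (Equiv.sumCompl p) (fromBlocks 1 0 0 h.1), by
    rw [reindexAlgEquiv_apply, det_reindex_self, det_fromBlocks_zero₂₁, det_one, h.2, mul_one]⟩
  map_one' := Subtype.ext (by
    show reindexAlgEquiv F F _ (fromBlocks 1 0 0 1) = 1
    rw [fromBlocks_one, map_one])
  map_mul' x y := Subtype.ext (by
    show reindexAlgEquiv F F _ (fromBlocks 1 0 0 (x.1 * y.1)) =
      reindexAlgEquiv F F _ (fromBlocks 1 0 0 x.1) * reindexAlgEquiv F F _ (fromBlocks 1 0 0 y.1)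
    rw [← map_mul, fromBlocks_multiply]
    simp)

theorem embOffP_apply (h : Matrix.SpecialLinearGroup {i : Fin m // ¬ p i} F) (i j : Fin m) :
    (embOffP p h).1 i j =
      if hi : p i then (if hj : p j then (if i = j then 1 else 0) else 0)
      else (if hj : p j then 0 else h.1 ⟨i, hi⟩ ⟨j, hj⟩) := by
  show fromBlocks 1 0 0 h.1 ((Equiv.sumCompl p).symm i) ((Equiv.sumCompl p).symm j) = _
  by_cases hi : p i <;> by_cases hj : p j <;>
    simp [hi, hj, Equiv.sumCompl_symm_apply_of_pos, Equiv.sumCompl_symm_apply_of_neg, Matrix.one_apply]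

theorem col_of_fix {g : Matrix.SpecialLinearGroup (Fin m) F} {b : Fin m}
    (hg : g.1 *ᵥ Pi.single b 1 = Pi.single b 1) (i : Fin m) :
    g.1 i b = (Pi.single b 1 : Fin m → F) i := by
  rw [← congrFun hg i, mulVec, dotProduct, Finset.sum_eq_single b]
  · simp
  · intro x _ hx; simp [hx]
  · simp

/-- The pointwise stabiliser of the basis vectors in `p` is generated by transvections. -/
theorem stab_set_mem (H : Subgroup (Matrix.SpecialLinearGroup (Fin m) F))
    (hoff : ∀ (i j : Fin m) (h : i ≠ j), ¬ p i → ¬ p j → ∀ t, tvN i j h t ∈ H)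
    (hrow : ∀ (i j : Fin m) (h : i ≠ j), p i → ¬ p j → ∀ t, tvN i j h t ∈ H)
    {g : Matrix.SpecialLinearGroup (Fin m) F}
    (hg : ∀ i, p i → g.1 *ᵥ Pi.single i 1 = Pi.single i 1) : g ∈ H := by
  classical
  have hclear : ∀ S : Finset (Fin m × Fin m), (∀ x ∈ S, p x.1 ∧ ¬ p x.2) →
      ∃ q ∈ H, (∀ i, p i → (g * q).1 *ᵥ Pi.single i 1 = Pi.single i 1) ∧
        ∀ x ∈ S, (g * q).1 x.1 x.2 = 0 := by
    intro S
    induction S using Finset.induction with
    | empty => intro _; exact ⟨1, one_mem _, by rw [mul_one]; exact hg, by simp⟩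
    | @insert x S hxS ih =>
      intro hx
      obtain ⟨q, hq, hqg, hqS⟩ := ih fun y hy => hx y (Finset.mem_insert_of_mem hy)
      obtain ⟨hb, hj⟩ := hx x (Finset.mem_insert_self _ _)
      have hbj : x.1 ≠ x.2 := fun e => hj (e ▸ hb)
      refine ⟨q * tvN x.1 x.2 hbj (-(g * q).1 x.1 x.2), mul_mem hq (hrow _ _ _ hb hj _), ?_, ?_⟩
      · intro i hi
        rw [← mul_assoc, val_mulN, ← mulVec_mulVec, tv_mulVec,
          Pi.single_eq_of_ne (fun e : x.2 = i => hj (e ▸ hi)),
          mul_zero, Pi.single_zero, add_zero, hqg i hi]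
      · intro y hy
        rw [← mul_assoc, val_mulN, tvN_val]
        by_cases hj2 : y.2 = x.2
        · rw [hj2, mul_transvection_apply_same, col_of_fix (hqg x.1 hb)]
          rcases Finset.mem_insert.1 hy with rfl | hy
          · rw [Pi.single_eq_same, mul_one, add_neg_cancel]
          · have h1 : y.1 ≠ x.1 := fun e => hxS (Prod.ext e hj2 ▸ hy)
            rw [Pi.single_eq_of_ne h1, mul_zero, add_zero, ← hj2]
            exact hqS y hy
        · rw [mul_transvection_apply_of_ne (hb := hj2)]
          rcases Finset.mem_insert.1 hy with rfl | hy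
          · exact absurd rfl hj2
          · exact hqS y hy
  obtain ⟨q, hq, hqg, hqrow⟩ := hclear (Finset.univ.filter fun x => p x.1 ∧ ¬ p x.2) (by simp)
  suffices h : g * q ∈ H by simpa using mul_mem h (inv_mem hq)
  have hr : ∀ i j, p i → ¬ p j → (g * q).1 i j = 0 := fun i j hi hj =>
    hqrow (i, j) (by simp [hi, hj])
  set M : Matrix {i : Fin m // ¬ p i} {i : Fin m // ¬ p i} F :=
    Matrix.of fun i j => (g * q).1 i.1 j.1
  have hM : reindexAlgEquiv F F (Equiv.sumCompl p) (fromBlocks 1 0 0 M) = (g * q).1 := by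
    ext i j
    show fromBlocks 1 0 0 M ((Equiv.sumCompl p).symm i) ((Equiv.sumCompl p).symm j) = _
    by_cases hi : p i <;> by_cases hj : p j
    · simp [Equiv.sumCompl_symm_apply_of_pos, hi, hj, col_of_fix (hqg j hj), Matrix.one_apply,
        Pi.single_apply]
    · simp [Equiv.sumCompl_symm_apply_of_pos, Equiv.sumCompl_symm_apply_of_neg, hi, hj, hr i j hi hj]
    · simp [Equiv.sumCompl_symm_apply_of_pos, Equiv.sumCompl_symm_apply_of_neg, hi, hj,
        col_of_fix (hqg j hj), Pi.single_apply, show i ≠ j from fun e => hi (e ▸ hj)]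
    · simp [Equiv.sumCompl_symm_apply_of_neg, hi, hj, M]
  have hdet : M.det = 1 := by
    have h := congrArg Matrix.det hM
    rw [reindexAlgEquiv_apply, det_reindex_self, det_fromBlocks_zero₂₁, det_one, one_mul,
      (g * q).2] at h
    exact h
  have e : embOffP p ⟨M, hdet⟩ = g * q := Subtype.ext hM
  rw [← e]
  have key : (⊤ : Subgroup (Matrix.SpecialLinearGroup {i : Fin m // ¬ p i} F)) ≤
      H.comap (embOffP p) := by
    rw [← Cfsg.Agent.Classical.SL_closure_transvections, Subgroup.closure_le]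
    rintro _ ⟨⟨i, j, hij, t⟩, rfl⟩
    have hij' : i.1 ≠ j.1 := fun e => hij (Subtype.ext e)
    show embOffP p _ ∈ H
    convert hoff i.1 j.1 hij' i.2 j.2 t using 1
    refine Matrix.SpecialLinearGroup.ext _ _ fun k l => ?_
    rw [embOffP_apply, tvN_val]
    by_cases hk : p k <;> by_cases hl : p l
    · simp [hk, hl, transvection, Matrix.single_apply, Matrix.one_apply,
        show i.1 ≠ k from fun e => i.2 (e ▸ hk)]
    · simp [hk, hl, transvection, Matrix.single_apply, Matrix.one_apply,
        show i.1 ≠ k from fun e => i.2 (e ▸ hk), show k ≠ l from fun e => hl (e ▸ hk)]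
    · simp [hk, hl, transvection, Matrix.single_apply, Matrix.one_apply,
        show j.1 ≠ l from fun e => j.2 (e ▸ hl), show k ≠ l from fun e => hk (e ▸ hl)]
    · simp [hk, hl, transvection, Matrix.single_apply, Matrix.one_apply, Subtype.ext_iff,
        SpecialLinearGroup.transvection]
  exact key (Subgroup.mem_top _)

end Cfsg.Agent.Lie.CurtisTitsA
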