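import Cfsg.Agent.Lib.Lie.CurtisTitsWedge
import Cfsg.Agent.Lib.Lie.CurtisTitsStab
import Cfsg.Agent.Lib.Lie.CurtisTitsTypeA
import Cfsg.Agent.Lib.Lie.CurtisTitsFinish

/-! The abelian unipotent radical of type `D` built from `SL_m` and one edge. -/

set_option autoImplicit false
set_option linter.unusedSectionVars false

namespace Cfsg.Agent.Lie.CurtisTitsA

open Matrix Cfsg.Agent.Lie.Chev
open scoped MatrixGroups

variable {F : Type*} [Field F] {m : ℕ}

/-- Two indices as an embedding. -/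
def pairEmb (i j : Fin m) (h : i ≠ j) : Fin 2 ↪ Fin m :=
  ⟨![i, j], fun x y e => by fin_cases x <;> fin_cases y <;> simp_all⟩

theorem extM_tv (f : Fin 2 ↪ Fin m) (a b : Fin 2) (t : F) :
    SpnPres.extM f (transvection a b t) = transvection (f a) (f b) t := by
  have h : Matrix.single a b t = t • vecMulVec (Pi.single a 1) (Pi.single b 1) := by
    rw [← Matrix.single_eq_single_vecMulVec_single, Matrix.smul_single, smul_eq_mul, mul_one]
  rw [SpnPres.extM, Matrix.transvection, Matrix.transvection, add_sub_cancel_left, h, Matrix.mul_smul,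
    Matrix.smul_mul, mul_vecMulVec, vecMulVec_mul, vecMul_transpose, SpnPres.incM_mulVec_single,
    SpnPres.incM_mulVec_single, ← Matrix.single_eq_single_vecMulVec_single, Matrix.smul_single,
    smul_eq_mul, mul_one]

theorem pairEmb_apply {i j : Fin m} (h : i ≠ j) :
    pairEmb i j h 0 = i ∧ pairEmb i j h 1 = j := ⟨rfl, rfl⟩

/-- `SL₂` on two coordinates. -/
def ext2 (i j : Fin m) (h : i ≠ j) : SL(2, F) →* Matrix.SpecialLinearGroup (Fin m) F :=
  SpnPres.extSL (pairEmb i j h)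

theorem ext2_up {i j : Fin m} (h : i ≠ j) (t : F) : ext2 i j h (upSL t) = tvN i j h t := by
  apply Subtype.ext
  rw [ext2, SpnPres.extSL_val, tvN_val,
    show (upSL t : SL(2, F)).1 = transvection 0 1 t by
      ext x y; fin_cases x <;> fin_cases y <;> simp [upSL_val, transvection],
    extM_tv]
  rfl

theorem ext2_lo {i j : Fin m} (h : i ≠ j) (t : F) : ext2 i j h (loSL t) = tvN j i h.symm t := by
  apply Subtype.ext
  rw [ext2, SpnPres.extSL_val, tvN_val,
    show (loSL t : SL(2, F)).1 = transvection 1 0 t by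
      ext x y; fin_cases x <;> fin_cases y <;> simp [loSL_val, transvection],
    extM_tv]
  rfl

theorem incM_pair {i j : Fin m} (h : i ≠ j) (u : Fin 2 → F) :
    SpnPres.incM F (pairEmb i j h) *ᵥ u = u 0 • Pi.single i 1 + u 1 • Pi.single j 1 := by
  ext k
  simp [SpnPres.incM, Matrix.mulVec, dotProduct, Fin.sum_univ_two, pairEmb_apply h, Pi.single_apply]

theorem ext2_fst {i j : Fin m} (h : i ≠ j) (g : SL(2, F)) :
    (ext2 i j h g).1 *ᵥ Pi.single i 1 = g.1 0 0 • Pi.single i 1 + g.1 1 0 • Pi.single j 1 := by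
  show SpnPres.extM (pairEmb i j h) g.1 *ᵥ Pi.single (pairEmb i j h 0) 1 = _
  rw [SpnPres.extM_mulVec, incM_pair]
  simp [mulVec, dotProduct]

theorem ext2_snd {i j : Fin m} (h : i ≠ j) (g : SL(2, F)) :
    (ext2 i j h g).1 *ᵥ Pi.single j 1 = g.1 0 1 • Pi.single i 1 + g.1 1 1 • Pi.single j 1 := by
  show SpnPres.extM (pairEmb i j h) g.1 *ᵥ Pi.single (pairEmb i j h 1) 1 = _
  rw [SpnPres.extM_mulVec, incM_pair]
  simp [mulVec, dotProduct]

theorem ext2_out {i j k : Fin m} (h : i ≠ j) (hi : k ≠ i) (hj : k ≠ j) (g : SL(2, F)) :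
    (ext2 i j h g).1 *ᵥ Pi.single k 1 = Pi.single k 1 := by
  rw [ext2, SpnPres.extSL_val, SpnPres.extM_mulVec_out]
  intro x
  fin_cases x
  · exact Ne.symm hi
  · exact Ne.symm hj

theorem tau_ext2 {i j : Fin m} (h : i ≠ j) (g : SL(2, F)) :
    tauN (ext2 i j h g) = ext2 i j h (tauN g) :=
  (SpnPres.tinv_extSL (pairEmb i j h) g :)

/-- A copy of `SL_m` and an edge of type `D`. -/
structure SkewData (F : Type*) [Field F] (m : ℕ) (G : Type*) [Group G] where
  a : Fin m
  b : Fin m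
  cc : Fin m
  hab : a ≠ b
  hca : cc ≠ a
  hcb : cc ≠ b
  hm : 4 ≤ m
  Φ : Matrix.SpecialLinearGroup (Fin m) F →* G
  ψ : SL(3, F) →* G
  hu : ∀ t, ψ (up3 (upSL t)) = Φ (tvN cc a hca t)
  hl : ∀ t, ψ (up3 (loSL t)) = Φ (tvN a cc (Ne.symm hca) t)
  hcomm : ∀ (i j : Fin m) (h : i ≠ j),
    ((i ≠ a ∧ i ≠ b ∧ j ≠ a ∧ j ≠ b) ∨ (i = a ∧ j = b) ∨ (i = b ∧ j = a)) → ∀ t u,
      Commute (Φ (tvN i j h t)) (ψ (tvN 1 2 (by decide) u)) ∧
      Commute (Φ (tvN i j h t)) (ψ (tvN 2 1 (by decide) u))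

namespace SkewData

variable {G : Type*} [Group G] (A : SkewData F m G)

/-- The opposite data. -/
def dual : SkewData F m G where
  a := A.a
  b := A.b
  cc := A.cc
  hab := A.hab
  hca := A.hca
  hcb := A.hcb
  hm := A.hm
  Φ := A.Φ.comp tauN
  ψ := A.ψ.comp tauN
  hu t := by
    show A.ψ (tauN (up3 (upSL t))) = A.Φ (tauN (tvN A.cc A.a A.hca t))
    rw [tau_up3, tau_up, tauN_tv, A.hl]
  hl t := by
    show A.ψ (tauN (up3 (loSL t))) = A.Φ (tauN (tvN A.a A.cc _ t))
    rw [tau_up3, tau_lo, tauN_tv, A.hu]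
  hcomm i j h hij t u := by
    show Commute (A.Φ (tauN (tvN i j h t))) (A.ψ (tauN (tvN 1 2 _ u))) ∧
      Commute (A.Φ (tauN (tvN i j h t))) (A.ψ (tauN (tvN 2 1 _ u)))
    rw [tauN_tv, tauN_tv, tauN_tv]
    exact (A.hcomm j i h.symm (by tauto) (-t) (-u)).symm

/-- The element of the new node. -/
def x (t : F) : G := A.ψ (tvN 1 2 (by decide) t)

/-- The skew matrix of the new node. -/
def S0 : Matrix (Fin m) (Fin m) F := wB A.a A.b

theorem edge_hom (h : SL(2, F)) : A.Φ (ext2 A.cc A.a A.hca h) = A.ψ (up3 h) := by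
  have : A.Φ.comp (ext2 A.cc A.a A.hca) = A.ψ.comp up3 := by
    refine hom_ext2 (fun t => ?_) (fun t => ?_)
    · show A.Φ (ext2 _ _ _ (upSL t)) = A.ψ (up3 (upSL t))
      rw [ext2_up, A.hu]
    · show A.Φ (ext2 _ _ _ (loSL t)) = A.ψ (up3 (loSL t))
      rw [ext2_lo, A.hl]
  exact DFunLike.congr_fun this h

/-- The stabiliser of the skew matrix centralises the node. -/
theorem stab {g : Matrix.SpecialLinearGroup (Fin m) F} (hg : cg g A.S0 = A.S0) (u : F) :
    Commute (A.Φ g) (A.x u) := by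
  let H : Subgroup (Matrix.SpecialLinearGroup (Fin m) F) := (Subgroup.centralizer {A.x u}).comap A.Φ
  have hH : ∀ g, g ∈ H ↔ A.Φ g * A.x u = A.x u * A.Φ g := fun g =>
    Subgroup.mem_centralizer_singleton_iff
  refine (hH g).1 ?_
  set v : Fin m → F := g.1 *ᵥ Pi.single A.a 1 with hv
  set w : Fin m → F := g.1 *ᵥ Pi.single A.b 1 with hw
  rw [S0, cg_wB, ← hv, ← hw] at hg
  have he : ∀ i j, v i * w j - w i * v j = (wB A.a A.b : Matrix (Fin m) (Fin m) F) i j := fun i j => by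
    rw [← congrFun (congrFun hg i) j]; simp [wedge, vecMulVec_apply]
  have hdet := he A.a A.b
  simp [wB_apply, A.hab] at hdet
  have hvk : ∀ k, k ≠ A.a → k ≠ A.b → v k = 0 ∧ w k = 0 := by
    intro k hka hkb
    have h1 := he k A.a
    have h2 := he k A.b
    simp [wB_apply, hka, hkb, A.hab] at h1 h2
    constructor
    · linear_combination (-(v k)) * hdet - v A.b * h1 + v A.a * h2
    · linear_combination (-(w k)) * hdet - w A.b * h1 + w A.a * h2
  let h : SL(2, F) := ⟨!![v A.a, w A.a; v A.b, w A.b], by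
    rw [det_fin_two_of]; linear_combination hdet⟩
  have hh : ext2 A.a A.b A.hab h ∈ H := by
    refine range_le_two (φ := ext2 A.a A.b A.hab) H (fun t => ?_) (fun t => ?_) ⟨h, rfl⟩
    · rw [ext2_up, hH]; exact (A.hcomm _ _ A.hab (Or.inr (Or.inl ⟨rfl, rfl⟩)) t u).1
    · rw [ext2_lo, hH]; exact (A.hcomm _ _ A.hab.symm (Or.inr (Or.inr ⟨rfl, rfl⟩)) t u).1
  suffices key : (ext2 A.a A.b A.hab h)⁻¹ * g ∈ H by simpa using mul_mem hh key
  have hfa : (ext2 A.a A.b A.hab h).1 *ᵥ Pi.single A.a 1 = v := by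
    rw [ext2_fst]
    funext k
    by_cases hka : k = A.a
    · subst hka; simp [h, A.hab]
    · by_cases hkb : k = A.b
      · subst hkb; simp [h, A.hab.symm]
      · simp [hka, hkb, (hvk k hka hkb).1]
  have hfb : (ext2 A.a A.b A.hab h).1 *ᵥ Pi.single A.b 1 = w := by
    rw [ext2_snd]
    funext k
    by_cases hka : k = A.a
    · subst hka; simp [h, A.hab]
    · by_cases hkb : k = A.b
      · subst hkb; simp [h, A.hab.symm]
      · simp [hka, hkb, (hvk k hka hkb).2]
  have hcc : ∀ t, tvN A.a A.cc (Ne.symm A.hca) t ∈ H := fun t => by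
    rw [hH, ← A.hl, x, ← map_mul, ← map_mul, up3_lo,
      tv_comm₀ (by decide) (by decide) (by decide) (by decide)]
  have hoff : ∀ (i j : Fin m) (h : i ≠ j), i ≠ A.a → i ≠ A.b → j ≠ A.a → j ≠ A.b →
      ∀ t, tvN i j h t ∈ H := fun i j h h1 h2 h3 h4 t =>
    (hH _).2 (A.hcomm i j h (Or.inl ⟨h1, h2, h3, h4⟩) t u).1
  have haj : ∀ j (h : A.a ≠ j), j ≠ A.b → ∀ t, tvN A.a j h t ∈ H := by
    intro j h hjb t
    by_cases hj : j = A.cc
    · subst hj; exact hcc t
    · rw [tv_eq_commutator (Ne.symm A.hca) (Ne.symm hj) h t]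
      exact mul_mem (mul_mem (mul_mem (hcc _) (hoff _ _ _ A.hca A.hcb (Ne.symm h) hjb _)) (hcc _))
        (hoff _ _ _ A.hca A.hcb (Ne.symm h) hjb _)
  refine stab_set_mem (fun i => i = A.a ∨ i = A.b) H ?_ ?_ ?_
  · intro i j h hi hj t
    simp only [not_or] at hi hj
    exact hoff i j h hi.1 hi.2 hj.1 hj.2 t
  · intro i j h hi hj t
    simp only [not_or] at hj
    rcases hi with rfl | rfl
    · exact haj j h hj.2 t
    · rw [tv_eq_commutator A.hab.symm (Ne.symm hj.1) h t]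
      have hba : ∀ s, tvN A.b A.a A.hab.symm s ∈ H := fun s =>
        (hH _).2 (A.hcomm _ _ A.hab.symm (Or.inr (Or.inr ⟨rfl, rfl⟩)) s u).1
      exact mul_mem (mul_mem (mul_mem (hba _) (haj j _ hj.2 _)) (hba _)) (haj j _ hj.2 _)
  · intro i hi
    have hinv : ∀ (k : Matrix.SpecialLinearGroup (Fin m) F) (p q : Fin m → F),
        k.1 *ᵥ p = q → (k⁻¹).1 *ᵥ q = p := fun k p q e => by
      rw [← e, mulVec_mulVec, ← val_mulN, inv_mul_cancel, val_oneN, one_mulVec]
    rw [val_mulN, ← mulVec_mulVec]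
    rcases hi with rfl | rfl
    · exact hinv _ _ _ hfa
    · exact hinv _ _ _ hfb

open scoped _root_.Classical in
/-- The orbit map. -/
noncomputable def d (S : Matrix (Fin m) (Fin m) F) : G :=
  if h : ∃ g, cg g A.S0 = S then A.Φ h.choose * A.x 1 * (A.Φ h.choose)⁻¹ else 1

theorem d_orbit (g : Matrix.SpecialLinearGroup (Fin m) F) :
    A.d (cg g A.S0) = A.Φ g * A.x 1 * (A.Φ g)⁻¹ := by
  classical
  have h : ∃ g', cg g' A.S0 = cg g A.S0 := ⟨g, rfl⟩
  rw [d, dif_pos h]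
  set g' := h.choose
  have h1 : cg (g⁻¹ * g') A.S0 = A.S0 := by rw [cg_mul, h.choose_spec, cg_inv_cg]
  have h2 := (A.stab h1 1).eq
  rw [map_mul, map_inv] at h2
  calc A.Φ g' * A.x 1 * (A.Φ g')⁻¹ = A.Φ g * ((A.Φ g)⁻¹ * A.Φ g' * A.x 1) * (A.Φ g')⁻¹ := by group
    _ = _ := by rw [h2]; group

theorem d_cg (g : Matrix.SpecialLinearGroup (Fin m) F) (S : Matrix (Fin m) (Fin m) F) :
    A.d (cg g S) = A.Φ g * A.d S * (A.Φ g)⁻¹ := by
  classical
  by_cases h : ∃ g', cg g' A.S0 = S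
  · obtain ⟨g', rfl⟩ := h
    rw [← cg_mul, d_orbit, d_orbit, map_mul]
    group
  · have h' : ¬∃ g', cg g' A.S0 = cg g S := fun ⟨g', e⟩ =>
      h ⟨g⁻¹ * g', by rw [cg_mul, e, cg_inv_cg]⟩
    rw [d, d, dif_neg h, dif_neg h', mul_one, mul_inv_cancel]

theorem d_zero : A.d 0 = 1 := by
  classical
  refine dif_neg fun ⟨g, e⟩ => wB_ne_zero (F := F) A.hab ?_
  have := congrArg (cg g⁻¹) e
  rwa [cg_inv_cg, cg_zero] at this

/-- The plane through the edge. -/
theorem plane (t s : F) : A.d (t • wB A.cc A.b + s • A.S0) =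
    A.ψ (tvN 0 2 (by decide) t * tvN 1 2 (by decide) s) := by
  by_cases h0 : t = 0 ∧ s = 0
  · rw [h0.1, h0.2, zero_smul, zero_smul, add_zero, d_zero]
    have e : ∀ (i : Fin 3) (h : i ≠ 2), tvN i 2 h (0 : F) = 1 := fun i h =>
      Subtype.ext (by rw [tvN_val, transvection_zero, val_oneN])
    rw [e, e, one_mul, map_one]
  · obtain ⟨h, h01, h11⟩ : ∃ h : SL(2, F), h.1 0 1 = t ∧ h.1 1 1 = s := by
      by_cases hs : s = 0
      · have ht : t ≠ 0 := fun ht => h0 ⟨ht, hs⟩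
        exact ⟨⟨!![0, t; -t⁻¹, 0], by rw [det_fin_two_of]; field_simp; ring⟩, rfl, hs.symm⟩
      · exact ⟨⟨!![s⁻¹, t; 0, s], by rw [det_fin_two_of]; field_simp; ring⟩, rfl, rfl⟩
    have e : cg (ext2 A.cc A.a A.hca h) A.S0 = t • wB A.cc A.b + s • A.S0 := by
      rw [S0, cg_wB, ext2_snd, ext2_out _ (Ne.symm A.hcb) (Ne.symm A.hab), h01, h11, wedge_add_left,
        wedge_smul_left, wedge_smul_left]
      rfl
    rw [← e, d_orbit, edge_hom, x, ← map_inv, ← map_mul, ← map_mul, up3_conj_tv, h01, h11,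
      mul_inv_cancel_right]

theorem tv3_zero {i j : Fin 3} (h : i ≠ j) : tvN i j h (0 : F) = 1 :=
  Subtype.ext (by rw [tvN_val, transvection_zero, val_oneN])

theorem d_x (s : F) : A.d (s • A.S0) = A.x s := by
  have := A.plane 0 s
  rwa [zero_smul, zero_add, tv3_zero, one_mul] at this

theorem d_cb (t : F) : A.d (t • wB A.cc A.b) = A.ψ (tvN 0 2 (by decide) t) := by
  have := A.plane t 0
  rwa [zero_smul, add_zero, tv3_zero, mul_one] at this

/-- The root element of a pair. -/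
noncomputable def X (i j : Fin m) (t : F) : G := A.d (t • wB i j)

theorem X_swap (i j : Fin m) (t : F) : A.X j i t = A.X i j (-t) := by
  rw [X, X, wB_swap, smul_neg, neg_smul]

theorem X_zero (i j : Fin m) : A.X i j 0 = 1 := by rw [X, zero_smul, d_zero]

theorem exists_move3 {i j k : Fin m} (hij : i ≠ j) (hkj : k ≠ j) (hik : i ≠ k) :
    ∃ g : Matrix.SpecialLinearGroup (Fin m) F, tauN g = g ∧
      g.1 *ᵥ Pi.single A.a 1 = Pi.single i 1 ∧ g.1 *ᵥ Pi.single A.b 1 = Pi.single j 1 ∧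
      g.1 *ᵥ Pi.single A.cc 1 = Pi.single k 1 := by
  obtain ⟨g, hg, h⟩ := exists_mono (F := F) ![A.a, A.b, A.cc] ![i, j, k]
    (fun x y e => by fin_cases x <;> fin_cases y <;> simp_all [A.hab, A.hca, A.hcb, Ne.symm A.hab,
      Ne.symm A.hca, Ne.symm A.hcb])
    (fun x y e => by fin_cases x <;> fin_cases y <;> simp_all [Ne.symm hij, Ne.symm hkj, Ne.symm hik])
    (by have := A.hm; omega)
  exact ⟨g, hg, h 0, h 1, h 2⟩

include A in
theorem exists_third {i j : Fin m} : ∃ k : Fin m, k ≠ i ∧ k ≠ j := by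
  by_contra hne
  push Not at hne
  have := A.hm
  have h2 : (Finset.univ : Finset (Fin m)) ⊆ {i, j} := fun k _ => by
    simp only [Finset.mem_insert, Finset.mem_singleton]
    exact or_iff_not_imp_left.2 (hne k)
  have h3 := Finset.card_le_card h2
  rw [Finset.card_univ, Fintype.card_fin] at h3
  have := Finset.card_le_two (a := i) (b := j)
  omega

theorem X_add {i j : Fin m} (hij : i ≠ j) (t u : F) : A.X i j t * A.X i j u = A.X i j (t + u) := by
  obtain ⟨k, hki, hkj⟩ := A.exists_third (i := i) (j := j)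
  obtain ⟨g, -, ha, hb, -⟩ := A.exists_move3 hij hkj hki.symm
  have e : ∀ s : F, A.X i j s = A.Φ g * A.x s * (A.Φ g)⁻¹ := fun s => by
    rw [← A.d_x, ← A.d_cg, cg_smul, S0, cg_wB, ha, hb]; rfl
  rw [e, e, e]
  simp only [x]
  rw [show A.ψ (tvN 1 2 (by decide) (t + u)) =
      A.ψ (tvN 1 2 (by decide) t) * A.ψ (tvN 1 2 (by decide) u) by
    rw [← map_mul]
    congr 1
    exact Subtype.ext (by
      rw [val_mulN, tvN_val, tvN_val, tvN_val, transvection_mul_transvection_same (h := by decide)])]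
  group

/-- Two pairs with a common second index. -/
theorem X_plane {i j k : Fin m} (hij : i ≠ j) (hkj : k ≠ j) (hik : i ≠ k) (t u : F) :
    A.d (t • wB i j + u • wB k j) = A.X i j t * A.X k j u ∧ Commute (A.X i j t) (A.X k j u) := by
  obtain ⟨g, -, ha, hb, hc⟩ := A.exists_move3 hij hkj hik
  have h1 : cg g A.S0 = wB i j := by rw [S0, cg_wB, ha, hb]; rfl
  have h2 : cg g (wB A.cc A.b) = (wB k j : Matrix (Fin m) (Fin m) F) := by rw [cg_wB, hc, hb]; rfl
  have hc' : Commute (A.x t) (A.ψ (tvN 0 2 (by decide) u)) := by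
    rw [x]
    exact Commute.map (tv_comm₀ (i := (1 : Fin 3)) (k := 0) (by decide) (by decide) (by decide)
      (by decide) t u) A.ψ
  have e1 : A.X i j t = A.Φ g * A.x t * (A.Φ g)⁻¹ := by rw [← A.d_x, ← A.d_cg, cg_smul, h1]; rfl
  have e2 : A.X k j u = A.Φ g * A.ψ (tvN 0 2 (by decide) u) * (A.Φ g)⁻¹ := by
    rw [← A.d_cb, ← A.d_cg, cg_smul, h2]; rfl
  refine ⟨?_, by rw [e1, e2]; exact hc'.map (MulAut.conj (A.Φ g)).toMonoidHom⟩
  rw [e1, e2, ← h1, ← h2, ← cg_smul, ← cg_smul, ← cg_add, d_cg, add_comm (t • A.S0), plane,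
    map_mul, x]
  rw [x] at hc'
  rw [← hc'.eq]
  group

/-- The reflection of the new node. -/
def W : G := A.ψ (tvN 1 2 (by decide) 1 * tvN 2 1 (by decide) (-1) * tvN 1 2 (by decide) 1)

theorem dual_dual_x (u : F) : A.ψ (tvN 2 1 (by decide) u) = A.dual.x (-u) := by
  show _ = A.ψ (tauN (tvN 1 2 _ (-u)))
  rw [tauN_tv, neg_neg]

theorem stab_W {g : Matrix.SpecialLinearGroup (Fin m) F} (hg : cg g A.S0 = A.S0)
    (hg' : cg (tauN g) A.S0 = A.S0) : Commute (A.Φ g) A.W := by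
  have h1 := A.stab hg 1
  have h2 : Commute (A.Φ g) (A.ψ (tvN 2 1 (by decide) (-1))) := by
    rw [A.dual_dual_x]
    have := A.dual.stab (g := tauN g) hg' (- (-1))
    show Commute _ _
    rwa [show A.dual.Φ (tauN g) = A.Φ g from congrArg A.Φ (tauN_tauN g)] at this
  rw [W, map_mul, map_mul]
  exact (h1.mul_right h2).mul_right h1

theorem w3_tv01 (t : F) :
    (tvN 1 2 (by decide) 1 * tvN 2 1 (by decide) (-1) * tvN 1 2 (by decide) 1 : SL(3, F)) *
        tvN 0 1 (by decide) t =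
      tvN 0 2 (by decide) (-t) *
        (tvN 1 2 (by decide) 1 * tvN 2 1 (by decide) (-1) * tvN 1 2 (by decide) 1) := by
  apply Subtype.ext
  ext i j
  fin_cases i <;> fin_cases j <;>
    simp [val_mulN, tvN_val, transvection, Matrix.mul_apply, Fin.sum_univ_three, Matrix.one_apply]

/-- The reflection turns a root of `SL_m` into one of the radical. -/
theorem W_conj_a {k : Fin m} (hka : k ≠ A.a) (hkb : k ≠ A.b) (t : F) :
    A.W * A.Φ (tvN k A.a hka t) * A.W⁻¹ = A.X k A.b (-t) := by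
  obtain ⟨g, hτ, ha, hb, hc⟩ := A.exists_move3 (F := F) A.hab hkb (Ne.symm hka)
  have hS : cg g A.S0 = A.S0 := by rw [S0, cg_wB, ha, hb]; rfl
  have hW := (A.stab_W hS (by rw [hτ]; exact hS)).eq
  have e1 : A.Φ (tvN k A.a hka t) = A.Φ g * A.ψ (tvN 0 1 (by decide) t) * (A.Φ g)⁻¹ := by
    rw [← conj_tv g A.hca hka hc (by rw [hτ]; exact ha), map_mul, map_mul, map_inv, ← A.hu, up3_up]
  have e2 : A.X k A.b (-t) = A.Φ g * A.ψ (tvN 0 2 (by decide) (-t)) * (A.Φ g)⁻¹ := by
    rw [← A.d_cb, ← A.d_cg, cg_smul, cg_wB, hc, hb]; rfl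
  have e3 : A.W * A.ψ (tvN 0 1 (by decide) t) = A.ψ (tvN 0 2 (by decide) (-t)) * A.W := by
    rw [W, ← map_mul, ← map_mul, w3_tv01]
  rw [e1, e2, mul_inv_eq_iff_eq_mul]
  calc A.W * (A.Φ g * A.ψ (tvN 0 1 (by decide) t) * (A.Φ g)⁻¹)
      = A.W * A.Φ g * A.ψ (tvN 0 1 (by decide) t) * (A.Φ g)⁻¹ := by group
    _ = A.Φ g * (A.W * A.ψ (tvN 0 1 (by decide) t)) * (A.Φ g)⁻¹ := by rw [← hW]; group
    _ = A.Φ g * A.ψ (tvN 0 2 (by decide) (-t)) * (A.W * (A.Φ g)⁻¹) := by rw [e3]; group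
    _ = _ := by
        rw [show A.W * (A.Φ g)⁻¹ = (A.Φ g)⁻¹ * A.W from
          (Commute.inv_right (show Commute A.W (A.Φ g) from hW.symm)).eq]
        group

theorem W_conj_b {k : Fin m} (hka : k ≠ A.a) (hkb : k ≠ A.b) (t : F) :
    A.W * A.Φ (tvN k A.b hkb t) * A.W⁻¹ = A.X k A.a t := by
  let h : SL(2, F) := ⟨!![0, -1; 1, 0], by rw [det_fin_two_of]; ring⟩
  have hτ : tauN h = h := by
    refine ext_two ?_ ?_ ?_ ?_ <;> rw [tauN_val, inv_val] <;> simp [h, Matrix.adjugate_fin_two]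
  set g := ext2 A.a A.b A.hab h
  have hgτ : tauN g = g := by rw [tau_ext2, hτ]
  have ha : g.1 *ᵥ Pi.single A.a 1 = Pi.single A.b 1 := by rw [ext2_fst]; simp [h]
  have hb : g.1 *ᵥ Pi.single A.b 1 = -Pi.single A.a 1 := by rw [ext2_snd]; simp [h]
  have hk : g.1 *ᵥ Pi.single k 1 = Pi.single k 1 := ext2_out _ hka hkb h
  have hneg : ∀ v w : Fin m → F, wedge v (-w) = -wedge v w := fun v w => by
    rw [← neg_one_smul F w, wedge_smul_right, neg_one_smul]
  have hS : cg g A.S0 = A.S0 := by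
    rw [S0, cg_wB, ha, hb, hneg]
    exact (wB_swap A.b A.a).symm
  have hW := A.stab_W hS (by rw [hgτ]; exact hS)
  have hd : A.X k A.a t = A.Φ g * A.X k A.b (-t) * (A.Φ g)⁻¹ := by
    rw [X, X, ← A.d_cg, cg_smul, cg_wB, hk, hb, hneg, smul_neg, neg_smul, neg_neg]
    rfl
  rw [hd, ← A.W_conj_a hka hkb, ← conj_tv g hka hkb hk (by rw [hgτ]; exact ha), map_mul, map_mul,
    map_inv]
  calc A.W * (A.Φ g * A.Φ (tvN k A.a hka t) * (A.Φ g)⁻¹) * A.W⁻¹
      = (A.W * A.Φ g) * A.Φ (tvN k A.a hka t) * ((A.Φ g)⁻¹ * A.W⁻¹) := by group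
    _ = (A.Φ g * A.W) * A.Φ (tvN k A.a hka t) * (A.W⁻¹ * (A.Φ g)⁻¹) := by
        rw [hW.eq, hW.inv_inv.eq]
    _ = _ := by group

theorem X_disjoint {i j k l : Fin m} (hij : i ≠ j) (hkl : k ≠ l) (hik : i ≠ k) (hil : i ≠ l)
    (hjk : j ≠ k) (hjl : j ≠ l) (t u : F) : Commute (A.X i j t) (A.X k l u) := by
  classical
  have hm := A.hm
  obtain ⟨d, hda, hdb, hdc⟩ : ∃ d, d ≠ A.a ∧ d ≠ A.b ∧ d ≠ A.cc := by
    by_contra hne
    push Not at hne
    have h2 : (Finset.univ : Finset (Fin m)) ⊆ {A.a, A.b, A.cc} := fun k _ => by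
      simp only [Finset.mem_insert, Finset.mem_singleton]
      by_cases h1 : k = A.a
      · exact Or.inl h1
      · by_cases h2 : k = A.b
        · exact Or.inr (Or.inl h2)
        · exact Or.inr (Or.inr (hne k h1 h2))
    have h3 := Finset.card_le_card h2
    rw [Finset.card_univ, Fintype.card_fin] at h3
    have := Finset.card_le_three (a := A.a) (b := A.b) (c := A.cc)
    omega
  have base : ∀ t u, Commute (A.X A.cc A.b t) (A.X d A.a u) := fun t u => by
    have h : Commute (A.Φ (tvN A.cc A.a A.hca (-t))) (A.Φ (tvN d A.b hdb u)) :=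
      Commute.map (tv_comm₀ A.hca hdb (Ne.symm hda) A.hcb (-t) u) A.Φ
    have := h.map (MulAut.conj A.W).toMonoidHom
    simp only [MulEquiv.coe_toMonoidHom, MulAut.conj_apply] at this
    rwa [A.W_conj_a A.hca A.hcb, A.W_conj_b hda hdb, neg_neg] at this
  set f : Fin 4 → Fin m := ![A.cc, A.b, d, A.a]
  set g : Fin 4 → Fin m := ![i, j, k, l]
  have hf : Function.Injective f := fun x y e => by
    fin_cases x <;> fin_cases y <;> simp_all [f, A.hab, A.hca, A.hcb, Ne.symm A.hab,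
      Ne.symm A.hca, Ne.symm A.hcb, Ne.symm hda, Ne.symm hdb, Ne.symm hdc]
  have hg : Function.Injective g := fun x y e => by
    fin_cases x <;> fin_cases y <;> simp_all [g, Ne.symm hij, Ne.symm hkl, Ne.symm hik, Ne.symm hil,
      Ne.symm hjk, Ne.symm hjl]
  set e := (Equiv.ofInjective f hf).symm.trans (Equiv.ofInjective g hg)
  set x := (monoSL e.extendSubtype A.a : Matrix.SpecialLinearGroup (Fin m) F)
  have hx : ∀ r, ∃ ε : F, x.1 *ᵥ Pi.single (f r) 1 = ε • Pi.single (g r) 1 ∧ ε * ε = 1 := by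
    intro r
    have hr : e.extendSubtype (f r) = g r := by
      rw [Equiv.extendSubtype_apply_of_mem _ _ ⟨r, rfl⟩]
      simp [e, Equiv.ofInjective_symm_apply hf r]
    by_cases hk : f r = A.a
    · refine ⟨((Equiv.Perm.sign e.extendSubtype : ℤ) : F), ?_, ?_⟩
      · funext q
        simp [x, monoSL, monoM, hk, Pi.single_apply, ← hr]
      · rw [← Int.cast_mul, ← Units.val_mul, Int.units_mul_self]; simp
    · exact ⟨1, by rw [one_smul, monoSL_apply _ hk, hr], one_mul 1⟩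
  obtain ⟨e0, he0, hs0⟩ := hx 0
  obtain ⟨e1, he1, hs1⟩ := hx 1
  obtain ⟨e2, he2, hs2⟩ := hx 2
  obtain ⟨e3, he3, hs3⟩ := hx 3
  have h1 : ∀ t, A.Φ x * A.X A.cc A.b t * (A.Φ x)⁻¹ = A.X i j (t * e0 * e1) := fun t => by
    rw [X, X, ← A.d_cg, cg_smul, cg_wB]
    show A.d (t • wedge (x.1 *ᵥ Pi.single (f 0) 1) (x.1 *ᵥ Pi.single (f 1) 1)) = _
    rw [he0, he1, wedge_smul_left, wedge_smul_right, smul_smul, smul_smul]
    rfl
  have h2 : ∀ t, A.Φ x * A.X d A.a t * (A.Φ x)⁻¹ = A.X k l (t * e2 * e3) := fun t => by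
    rw [X, X, ← A.d_cg, cg_smul, cg_wB]
    show A.d (t • wedge (x.1 *ᵥ Pi.single (f 2) 1) (x.1 *ᵥ Pi.single (f 3) 1)) = _
    rw [he2, he3, wedge_smul_left, wedge_smul_right, smul_smul, smul_smul]
    rfl
  have := (base (t * e0 * e1) (u * e2 * e3)).map (MulAut.conj (A.Φ x)).toMonoidHom
  simp only [MulEquiv.coe_toMonoidHom, MulAut.conj_apply, h1, h2] at this
  rwa [show t * e0 * e1 * e0 * e1 = t by linear_combination t * (e1 * e1) * hs0 + t * hs1,
    show u * e2 * e3 * e2 * e3 = u by linear_combination u * (e3 * e3) * hs2 + u * hs3] at this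

theorem X_commute {i j k l : Fin m} (hij : i ≠ j) (hkl : k ≠ l) (t u : F) :
    Commute (A.X i j t) (A.X k l u) := by
  by_cases hjl : j = l
  · subst hjl
    by_cases hik : i = k
    · subst hik
      show _ = _
      rw [A.X_add hij, A.X_add hij, add_comm]
    · exact (A.X_plane hij hkl hik t u).2
  by_cases hjk : j = k
  · subst hjk
    by_cases hil : i = l
    · subst hil
      rw [A.X_swap i j u]
      show _ = _
      rw [A.X_add hij, A.X_add hij, add_comm]
    · rw [A.X_swap l j u]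
      exact (A.X_plane hij (Ne.symm hkl) hil t (-u)).2
  by_cases hil : i = l
  · subst hil
    rw [A.X_swap j i t]
    exact (A.X_plane (Ne.symm hij) hkl hjk (-t) u).2
  by_cases hik : i = k
  · subst hik
    rw [A.X_swap j i t, A.X_swap l i u]
    exact (A.X_plane (Ne.symm hij) (Ne.symm hkl) hjl (-t) (-u)).2
  exact A.X_disjoint hij hkl hik hil hjk hjl t u

/-- The radical. -/
def K : Subgroup G := Subgroup.closure {g | ∃ (i j : Fin m) (t : F), i ≠ j ∧ g = A.X i j t}

theorem K_comm {x y : G} (hx : x ∈ A.K) (hy : y ∈ A.K) : x * y = y * x := by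
  have : A.K ≤ Subgroup.centralizer (A.K : Set G) := by
    refine (Subgroup.closure_le _).2 ?_
    rintro _ ⟨i, j, t, hij, rfl⟩
    refine Subgroup.mem_centralizer_iff.2 fun y hy => ?_
    have h2 : A.K ≤ Subgroup.centralizer {A.X i j t} := by
      refine (Subgroup.closure_le _).2 ?_
      rintro _ ⟨k, l, u, hkl, rfl⟩
      exact Subgroup.mem_centralizer_singleton_iff.2 (A.X_commute hkl hij u t).eq
    exact Subgroup.mem_centralizer_singleton_iff.1 (h2 hy)
  exact (Subgroup.mem_centralizer_iff.1 (this hx) y hy).symm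

theorem exists_c : ∃ c : Matrix (Fin m) (Fin m) F → G,
    (∀ S T, c S * c T = c (S + T)) ∧
    (∀ (i j : Fin m) (t : F), i ≠ j → c (t • wB i j) = A.X i j t) ∧
    (∀ S, c S ∈ A.K) := by
  classical
  let _ : CommGroup A.K :=
    { (inferInstance : Group A.K) with mul_comm := fun x y => Subtype.ext (A.K_comm x.2 y.2) }
  let P := Finset.univ.filter fun x : Fin m × Fin m => x.1 < x.2
  let Xk : Fin m × Fin m → F → A.K := fun x t =>
    if h : x.1 ≠ x.2 then ⟨A.X x.1 x.2 t, Subgroup.subset_closure ⟨_, _, t, h, rfl⟩⟩ else 1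
  have hXk : ∀ x : Fin m × Fin m, x.1 ≠ x.2 → ∀ t, (Xk x t : G) = A.X x.1 x.2 t := fun x h t => by
    show ((if h : x.1 ≠ x.2 then (⟨A.X x.1 x.2 t, _⟩ : A.K) else 1 : A.K) : G) = _
    rw [dif_pos h]
  refine ⟨fun S => ((∏ x ∈ P, Xk x (S x.1 x.2) : A.K) : G), fun S T => ?_, fun i j t hij => ?_,
    fun S => SetLike.coe_mem _⟩
  · rw [← Subgroup.coe_mul, ← Finset.prod_mul_distrib]
    refine congrArg Subtype.val (Finset.prod_congr rfl fun x hx => Subtype.ext ?_)
    have hne : x.1 ≠ x.2 := (Finset.mem_filter.1 hx).2.ne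
    rw [Subgroup.coe_mul, hXk _ hne, hXk _ hne, hXk _ hne, A.X_add hne]
    rfl
  · rcases lt_or_gt_of_ne hij with h | h
    · show ((∏ x ∈ P, Xk x _ : A.K) : G) = _
      rw [Finset.prod_eq_single (i, j)]
      · rw [hXk _ hij]; simp [wB_apply, hij]
      · rintro ⟨p, q⟩ hx hne
        have hpq : p < q := (Finset.mem_filter.1 hx).2
        refine Subtype.ext ?_
        rw [hXk _ hpq.ne]
        have h1 : ¬(p = i ∧ q = j) := fun e => hne (by rw [e.1, e.2])
        have h2 : ¬(p = j ∧ q = i) := fun e => absurd (e.1 ▸ e.2 ▸ hpq) (not_lt.2 h.le)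
        simp [wB_apply, h1, h2, X_zero]
      · simp [P, h]
    · show ((∏ x ∈ P, Xk x _ : A.K) : G) = _
      rw [Finset.prod_eq_single (j, i)]
      · rw [hXk _ hij.symm, A.X_swap i j]; simp [wB_apply, hij.symm]
      · rintro ⟨p, q⟩ hx hne
        have hpq : p < q := (Finset.mem_filter.1 hx).2
        refine Subtype.ext ?_
        rw [hXk _ hpq.ne]
        have h1 : ¬(p = j ∧ q = i) := fun e => hne (by rw [e.1, e.2])
        have h2 : ¬(p = i ∧ q = j) := fun e => absurd (e.1 ▸ e.2 ▸ hpq) (not_lt.2 h.le)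
        simp [wB_apply, h1, h2, X_zero]
      · simp [P, h]

/-- The abelian radical as a function of skew matrices. -/
theorem exists_radical : ∃ c : Matrix (Fin m) (Fin m) F → G,
    (∀ S T, c S * c T = c (S + T)) ∧
    (∀ (i j : Fin m) (t : F), i ≠ j → c (t • wB i j) = A.X i j t) ∧
    (∀ g S, IsSkew S → A.Φ g * c S * (A.Φ g)⁻¹ = c (cg g S)) := by
  classical
  obtain ⟨c, cadd, cX, -⟩ := A.exists_c
  refine ⟨c, cadd, cX, ?_⟩
  have c0 : c 0 = 1 := by
    have := cadd 0 0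
    rwa [add_zero, mul_eq_left] at this
  have hbase : ∀ (k l : Fin m) (hkl : k ≠ l) (s : F) (i j : Fin m) (t : F), i ≠ j →
      A.d (cg (tvN k l hkl s) (t • wB i j)) = c (cg (tvN k l hkl s) (t • wB i j)) := by
    intro k l hkl s i j t hij
    have hfirst : ∀ (i j : Fin m) (t : F), i ≠ j → l ≠ j →
        A.d (cg (tvN k l hkl s) (t • wB i j)) = c (cg (tvN k l hkl s) (t • wB i j)) := by
      intro i j t hij hlj
      have e : ∀ (v : Fin m), (tvN k l hkl s).1 *ᵥ Pi.single v 1 =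
          Pi.single v 1 + (if l = v then s • Pi.single k 1 else 0) := by
        intro v
        rw [tv_mulVec]
        by_cases hlv : l = v
        · subst hlv; simp [← Pi.single_smul]
        · simp [hlv, Pi.single_eq_of_ne hlv]
      rw [cg_smul, cg_wB, e, e, if_neg hlj, add_zero]
      by_cases hli : l = i
      · subst hli
        rw [if_pos rfl, wedge_add_left, wedge_smul_left, smul_add, smul_smul]
        by_cases hkj : k = j
        · subst hkj
          rw [wedge_self, smul_zero, add_zero]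
          exact (cX l k t hij).symm
        · have h1 := (A.X_plane hij hkj (Ne.symm hkl) t (t * s)).1
          rw [← cX l j t hij, ← cX k j (t * s) hkj, cadd] at h1
          exact h1
      · rw [if_neg hli, add_zero]
        exact (cX i j t hij).symm
    by_cases hlj : l = j
    · have := hfirst j i (-t) hij.symm (hlj ▸ hij.symm)
      rwa [wB_swap, smul_neg, neg_smul, neg_neg] at this
    · exact hfirst i j t hij hlj
  let P : Subgroup (Matrix.SpecialLinearGroup (Fin m) F) :=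
    { carrier := {g | ∀ S, IsSkew S → A.Φ g * c S * (A.Φ g)⁻¹ = c (cg g S)}
      one_mem' := fun S _ => by rw [map_one, one_mul, inv_one, mul_one, cg_one]
      mul_mem' := fun {g h} hg hh S hS => by
        rw [cg_mul, ← hg _ (skew_cg h hS), ← hh S hS, map_mul]
        group
      inv_mem' := fun {g} hg S hS => by
        have := hg _ (skew_cg g⁻¹ hS)
        rw [← cg_mul, mul_inv_cancel, cg_one] at this
        rw [← this, map_inv]
        group }
  suffices h : (⊤ : Subgroup (Matrix.SpecialLinearGroup (Fin m) F)) ≤ P from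
    fun g S hS => h (Subgroup.mem_top g) S hS
  rw [← Cfsg.Agent.Classical.SL_closure_transvections, Subgroup.closure_le]
  rintro _ ⟨⟨k, l, hkl, s⟩, rfl⟩ S hS
  have eg : (TransvectionStruct.toSpecialLinearGroup ⟨k, l, hkl, s⟩ :
      Matrix.SpecialLinearGroup (Fin m) F) = tvN k l hkl s := rfl
  rw [eg, skew_sum hS]
  generalize hP : Finset.univ.filter (fun x : Fin m × Fin m => x.1 < x.2) = P₀
  have hP' : ∀ x ∈ P₀, x.1 ≠ x.2 := fun x hx => by
    rw [← hP, Finset.mem_filter] at hx; exact hx.2.ne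
  clear hP
  induction P₀ using Finset.induction_on with
  | empty => rw [Finset.sum_empty, cg_zero, c0, mul_one, mul_inv_cancel]
  | @insert x P₁ hx ih =>
    have ih' := ih fun y hy => hP' y (Finset.mem_insert_of_mem hy)
    have hne := hP' x (Finset.mem_insert_self _ _)
    rw [Finset.sum_insert hx, cg_add, ← cadd, ← cadd, ← ih', ← hbase k l hkl s _ _ _ hne, d_cg,
      cX _ _ _ hne]
    show _ = A.Φ (tvN k l hkl s) * A.X x.1 x.2 _ * _ * _
    group

end SkewData

end Cfsg.Agent.Lie.CurtisTitsA
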