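import Cfsg.Agent.Lib.Lie.Sp4Pres
import Cfsg.Agent.Lib.Classical.Transvection
import Cfsg.Agent.Lib.Classical.SLGroup

/-! Block embeddings and standard elements of `SL` and `Sp`, for the presentations of `Sp₂ₙ(F)`. -/

set_option autoImplicit false
set_option linter.unusedSectionVars false
set_option maxHeartbeats 1000000

namespace Cfsg.Agent.Lie.SpnPres

open Matrix Cfsg.Agent.Lie.Sl2Pres

variable {F : Type*} [Field F]
variable {α ι : Type} [Fintype α] [DecidableEq α] [Fintype ι] [DecidableEq ι]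

/-- The matrix of an inclusion of indices. -/
def incM (F : Type*) [Field F] (f : α ↪ ι) : Matrix ι α F := Matrix.of fun i a => if i = f a then 1 else 0

theorem incM_tmul (f : α ↪ ι) : (incM F f : Matrix ι α F)ᵀ * incM F f = (1 : Matrix α α F) := by
  ext a b
  simp [incM, Matrix.mul_apply, Matrix.one_apply, f.injective.eq_iff, eq_comm]

theorem incM_mulVec_single (f : α ↪ ι) (a : α) :
    (incM F f : Matrix ι α F) *ᵥ Pi.single a 1 = Pi.single (f a) 1 := by
  ext i
  simp [incM, Pi.single_apply]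

theorem incM_t_single (f : α ↪ ι) (a : α) :
    (incM F f : Matrix ι α F)ᵀ *ᵥ Pi.single (f a) 1 = Pi.single a 1 := by
  ext b
  simp [incM, Pi.single_apply, f.injective.eq_iff, eq_comm]

theorem incM_t_single_out (f : α ↪ ι) {i : ι} (hi : ∀ a, f a ≠ i) :
    (incM F f : Matrix ι α F)ᵀ *ᵥ Pi.single i 1 = 0 := by
  ext b
  simp [incM, fun a => Ne.symm (hi a)]

/-- A block matrix, extended by the identity. -/
def extM (f : α ↪ ι) (A : Matrix α α F) : Matrix ι ι F := 1 + incM F f * (A - 1) * (incM F f)ᵀ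

theorem extM_one (f : α ↪ ι) : extM f (1 : Matrix α α F) = 1 := by simp [extM]

theorem extM_mul (f : α ↪ ι) (A B : Matrix α α F) : extM f (A * B) = extM f A * extM f B := by
  simp only [extM]
  set P : Matrix ι α F := incM F f with hP
  have h : Pᵀ * P = 1 := incM_tmul f
  have e : P * (A - 1) * Pᵀ * (P * (B - 1) * Pᵀ) = P * ((A - 1) * (B - 1)) * Pᵀ := by
    simp only [Matrix.mul_assoc]
    rw [← Matrix.mul_assoc Pᵀ P, h, Matrix.one_mul]
  rw [add_mul, one_mul, mul_add, mul_one, e,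
    show A * B - 1 = (A - 1) + (B - 1) + (A - 1) * (B - 1) by noncomm_ring]
  simp only [Matrix.mul_add, Matrix.add_mul]
  abel

theorem extM_det (f : α ↪ ι) (A : Matrix α α F) : (extM f A).det = A.det := by
  rw [extM, Matrix.mul_assoc, Matrix.det_one_add_mul_comm, Matrix.mul_assoc, incM_tmul, Matrix.mul_one,
    add_sub_cancel]

theorem extM_transpose (f : α ↪ ι) (A : Matrix α α F) : (extM f A)ᵀ = extM f Aᵀ := by
  simp [extM, Matrix.transpose_mul, Matrix.mul_assoc, Matrix.transpose_sub]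

theorem extM_mulVec (f : α ↪ ι) (A : Matrix α α F) (a : α) :
    extM f A *ᵥ Pi.single (f a) 1 = incM F f *ᵥ (A *ᵥ Pi.single a 1) := by
  rw [extM, Matrix.add_mulVec, Matrix.one_mulVec, ← Matrix.mulVec_mulVec, incM_t_single,
    ← Matrix.mulVec_mulVec, Matrix.sub_mulVec, Matrix.one_mulVec, Matrix.mulVec_sub, incM_mulVec_single]
  abel

theorem extM_mulVec_out (f : α ↪ ι) (A : Matrix α α F) {i : ι} (hi : ∀ a, f a ≠ i) :
    extM f A *ᵥ Pi.single i 1 = Pi.single i 1 := by
  rw [extM, Matrix.add_mulVec, Matrix.one_mulVec, ← Matrix.mulVec_mulVec, incM_t_single_out f hi]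
  simp

theorem sval_mul (A B : SpecialLinearGroup ι F) : (A * B).1 = A.1 * B.1 := rfl

theorem sval_one : (1 : SpecialLinearGroup ι F).1 = 1 := rfl

theorem sval_mul_inv (A : SpecialLinearGroup ι F) : A.1 * (A⁻¹).1 = 1 := by
  rw [← sval_mul, mul_inv_cancel, sval_one]

theorem sval_inv_mul (A : SpecialLinearGroup ι F) : (A⁻¹).1 * A.1 = 1 := by
  rw [← sval_mul, inv_mul_cancel, sval_one]

/-- A block in the special linear group. -/
def extSL (f : α ↪ ι) : SpecialLinearGroup α F →* SpecialLinearGroup ι F where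
  toFun A := ⟨extM f A.1, by rw [extM_det, A.2]⟩
  map_one' := Subtype.ext (extM_one f)
  map_mul' A B := Subtype.ext (extM_mul f A.1 B.1)

theorem extSL_val (f : α ↪ ι) (A : SpecialLinearGroup α F) : (extSL f A).1 = extM f A.1 := rfl

/-- Transpose inverse. -/
def tinv : SpecialLinearGroup ι F →* SpecialLinearGroup ι F where
  toFun A := ⟨(adjugate A.1)ᵀ, by rw [det_transpose, det_adjugate, A.2, one_pow]⟩
  map_one' := Subtype.ext (by simp)
  map_mul' A B := Subtype.ext (by
    show (adjugate (A.1 * B.1))ᵀ = (adjugate A.1)ᵀ * (adjugate B.1)ᵀ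
    rw [adjugate_mul_distrib, transpose_mul])

theorem tinv_val (A : SpecialLinearGroup ι F) : (tinv A).1 = ((A⁻¹).1)ᵀ := rfl

theorem tinv_tinv (A : SpecialLinearGroup ι F) : tinv (tinv A) = A := by
  refine Subtype.ext ?_
  rw [tinv_val, ← map_inv, tinv_val, inv_inv, transpose_transpose]

theorem tinv_extSL (f : α ↪ ι) (A : SpecialLinearGroup α F) : tinv (extSL f A) = extSL f (tinv A) := by
  refine Subtype.ext ?_
  rw [tinv_val, ← map_inv, extSL_val, extM_transpose, extSL_val, tinv_val]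

theorem val_inj {a b : Matrix.symplecticGroup ι F}
    (h : (a : Matrix (ι ⊕ ι) (ι ⊕ ι) F) = b) : a = b := Subtype.ext h

/-- The Levi factor. -/
def lev : SpecialLinearGroup ι F →* Matrix.symplecticGroup ι F where
  toFun A := ⟨fromBlocks A.1 0 0 (tinv A).1, by
    have h : A.1 * ((tinv A).1)ᵀ = 1 := by
      rw [tinv_val, transpose_transpose, sval_mul_inv]
    have h' : (tinv A).1 * A.1ᵀ = 1 := by
      have := congrArg Matrix.transpose h
      rwa [transpose_mul, transpose_transpose, transpose_one] at this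
    rw [SymplecticGroup.mem_iff, Matrix.J, fromBlocks_transpose, fromBlocks_multiply, fromBlocks_multiply]
    simp [h, h']⟩
  map_one' := val_inj (by simp [fromBlocks_one])
  map_mul' A B := val_inj (by
    show fromBlocks (A.1 * B.1) 0 0 (tinv (A * B)).1 =
      fromBlocks A.1 0 0 (tinv A).1 * fromBlocks B.1 0 0 (tinv B).1
    rw [fromBlocks_multiply, map_mul, sval_mul]
    simp)

theorem lev_val (A : SpecialLinearGroup ι F) :
    ((lev A : Matrix.symplecticGroup ι F) : Matrix (ι ⊕ ι) (ι ⊕ ι) F) = fromBlocks A.1 0 0 (tinv A).1 :=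
  rfl

open scoped _root_.Classical in
/-- The upper Siegel unipotent element of a symmetric matrix. -/
noncomputable def uPs (S : Matrix ι ι F) : Matrix.symplecticGroup ι F :=
  if h : Sᵀ = S then ⟨fromBlocks 1 S 0 1, by
    rw [SymplecticGroup.mem_iff, Matrix.J, fromBlocks_transpose, fromBlocks_multiply, fromBlocks_multiply]
    simp [h]⟩ else 1

theorem uPs_val {S : Matrix ι ι F} (h : Sᵀ = S) :
    ((uPs S : Matrix.symplecticGroup ι F) : Matrix (ι ⊕ ι) (ι ⊕ ι) F) = fromBlocks 1 S 0 1 := by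
  rw [uPs, dif_pos h]

theorem uPs_add {S T : Matrix ι ι F} (hS : Sᵀ = S) (hT : Tᵀ = T) : uPs (S + T) = uPs S * uPs T :=
  val_inj (by
    rw [Submonoid.coe_mul, uPs_val hS, uPs_val hT, uPs_val (by rw [transpose_add, hS, hT]),
      fromBlocks_multiply]
    simp [add_comm])

theorem uPs_zero : uPs (0 : Matrix ι ι F) = 1 :=
  val_inj (by rw [uPs_val transpose_zero, OneMemClass.coe_one, fromBlocks_one])

theorem conj_sym {A S : Matrix ι ι F} (hS : Sᵀ = S) : (A * S * Aᵀ)ᵀ = A * S * Aᵀ := by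
  rw [transpose_mul, transpose_mul, transpose_transpose, hS, Matrix.mul_assoc]

theorem lev_uPs (A : SpecialLinearGroup ι F) {S : Matrix ι ι F} (hS : Sᵀ = S) :
    lev A * uPs S * (lev A)⁻¹ = uPs (A.1 * S * A.1ᵀ) := by
  rw [mul_inv_eq_iff_eq_mul]
  refine val_inj ?_
  have h : A.1ᵀ * (tinv A).1 = 1 := by
    rw [tinv_val, ← transpose_mul, sval_inv_mul, transpose_one]
  rw [Submonoid.coe_mul, Submonoid.coe_mul, uPs_val hS, uPs_val (conj_sym hS), lev_val,
    fromBlocks_multiply, fromBlocks_multiply]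
  simp [Matrix.mul_assoc, h]

/-- The two blocks of indices. -/
def inc2 (F : Type*) [Field F] (f : α ↪ ι) : Matrix (ι ⊕ ι) (α ⊕ α) F := fromBlocks (incM F f) 0 0 (incM F f)

theorem inc2_tmul (f : α ↪ ι) : (inc2 F f : Matrix (ι ⊕ ι) (α ⊕ α) F)ᵀ * inc2 F f = 1 := by
  simp [inc2, fromBlocks_transpose, fromBlocks_multiply, incM_tmul, fromBlocks_one]

theorem inc2_J (f : α ↪ ι) : Matrix.J ι F * inc2 F f = inc2 F f * Matrix.J α F := by
  simp [inc2, Matrix.J, fromBlocks_multiply]

theorem inc2t_J (f : α ↪ ι) :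
    (inc2 F f : Matrix (ι ⊕ ι) (α ⊕ α) F)ᵀ * Matrix.J ι F = Matrix.J α F * (inc2 F f)ᵀ := by
  simp [inc2, Matrix.J, fromBlocks_transpose, fromBlocks_multiply]

/-- A symplectic block, as a matrix. -/
def extS (f : α ↪ ι) (M : Matrix (α ⊕ α) (α ⊕ α) F) : Matrix (ι ⊕ ι) (ι ⊕ ι) F :=
  1 + inc2 F f * (M - 1) * (inc2 F f)ᵀ

theorem extS_mem (f : α ↪ ι) (M : Matrix.symplecticGroup α F) :
    extS f (M : Matrix (α ⊕ α) (α ⊕ α) F) ∈ Matrix.symplecticGroup ι F := by
  rw [SymplecticGroup.mem_iff, extS]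
  have hM := SymplecticGroup.mem_iff.1 M.2
  set P : Matrix (ι ⊕ ι) (α ⊕ α) F := inc2 F f with hP
  set a := (M : Matrix (α ⊕ α) (α ⊕ α) F) - 1 with ha
  set J' := Matrix.J α F
  have h : Pᵀ * P = 1 := inc2_tmul f
  have hPJ : Matrix.J ι F * P = P * J' := inc2_J f
  have hJP : Pᵀ * Matrix.J ι F = J' * Pᵀ := inc2t_J f
  have hz : a * J' + J' * aᵀ + a * J' * aᵀ = 0 := by
    rw [ha, transpose_sub, transpose_one]
    calc _ = (M : Matrix (α ⊕ α) (α ⊕ α) F) * J' * (M : Matrix (α ⊕ α) (α ⊕ α) F)ᵀ - J' := by noncomm_ring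
      _ = 0 := by rw [hM, sub_self]
  have e1 : P * a * Pᵀ * Matrix.J ι F = P * (a * J') * Pᵀ := by
    simp only [Matrix.mul_assoc, hJP]
  have e2 : Matrix.J ι F * (P * a * Pᵀ)ᵀ = P * (J' * aᵀ) * Pᵀ := by
    rw [transpose_mul, transpose_mul, transpose_transpose, ← Matrix.mul_assoc, hPJ]
    simp only [Matrix.mul_assoc]
  have e3 : P * (a * J') * Pᵀ * (P * a * Pᵀ)ᵀ = P * (a * J' * aᵀ) * Pᵀ := by
    rw [transpose_mul, transpose_mul, transpose_transpose, Matrix.mul_assoc _ Pᵀ, ← Matrix.mul_assoc Pᵀ P,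
      h, Matrix.one_mul]
    simp only [Matrix.mul_assoc]
  rw [transpose_add, transpose_one, add_mul, one_mul, mul_add, mul_one, add_mul, e1, e2, e3]
  calc _ = Matrix.J ι F + P * (a * J' + J' * aᵀ + a * J' * aᵀ) * Pᵀ := by
        simp only [Matrix.mul_add, Matrix.add_mul]; abel
    _ = _ := by rw [hz]; simp

/-- A symplectic block, as a homomorphism. -/
def extSp (f : α ↪ ι) : Matrix.symplecticGroup α F →* Matrix.symplecticGroup ι F where
  toFun M := ⟨extS f M.1, extS_mem f M⟩
  map_one' := val_inj (by simp [extS])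
  map_mul' A B := val_inj (by
    show extS f (A.1 * B.1) = extS f A.1 * extS f B.1
    simp only [extS]
    set P : Matrix (ι ⊕ ι) (α ⊕ α) F := inc2 F f with hP
    have h : Pᵀ * P = 1 := inc2_tmul f
    have e : P * (A.1 - 1) * Pᵀ * (P * (B.1 - 1) * Pᵀ) = P * ((A.1 - 1) * (B.1 - 1)) * Pᵀ := by
      simp only [Matrix.mul_assoc]
      rw [← Matrix.mul_assoc Pᵀ P, h, Matrix.one_mul]
    rw [add_mul, one_mul, mul_add, mul_one, e,
      show A.1 * B.1 - 1 = (A.1 - 1) + (B.1 - 1) + (A.1 - 1) * (B.1 - 1) by noncomm_ring]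
    simp only [Matrix.mul_add, Matrix.add_mul]
    abel)

theorem extSp_val (f : α ↪ ι) (M : Matrix.symplecticGroup α F) :
    ((extSp f M : Matrix.symplecticGroup ι F) : Matrix (ι ⊕ ι) (ι ⊕ ι) F) = extS f M.1 := rfl

theorem extSp_lev (f : α ↪ ι) (A : SpecialLinearGroup α F) : extSp f (lev A) = lev (extSL f A) := by
  refine val_inj ?_
  rw [extSp_val, lev_val, lev_val, tinv_extSL, extSL_val, extSL_val, extS, extM, extM, inc2,
    fromBlocks_transpose, ← fromBlocks_one, ← fromBlocks_one, sub_eq_add_neg, fromBlocks_neg,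
    fromBlocks_add, fromBlocks_multiply, fromBlocks_multiply, fromBlocks_add]
  simp [sub_eq_add_neg]

theorem extSp_uPs (f : α ↪ ι) {S : Matrix α α F} (hS : Sᵀ = S) :
    extSp f (uPs S) = uPs (incM F f * S * (incM F f)ᵀ) := by
  refine val_inj ?_
  have h' : (incM F f * S * (incM F f)ᵀ : Matrix ι ι F)ᵀ = incM F f * S * (incM F f)ᵀ := by
    rw [transpose_mul, transpose_mul, transpose_transpose, hS, Matrix.mul_assoc]
  rw [extSp_val, uPs_val hS, uPs_val h', extS, inc2,
    fromBlocks_transpose, ← fromBlocks_one, ← fromBlocks_one, sub_eq_add_neg, fromBlocks_neg,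
    fromBlocks_add, fromBlocks_multiply, fromBlocks_multiply, fromBlocks_add]
  simp

/-- Conjugation by the form matrix. -/
def cJ : Matrix.symplecticGroup ι F →* Matrix.symplecticGroup ι F :=
  (MulAut.conj (SymplecticGroup.symJ ι F)).toMonoidHom

theorem cJ_val (g : Matrix.symplecticGroup ι F) :
    ((cJ g : Matrix.symplecticGroup ι F) : Matrix (ι ⊕ ι) (ι ⊕ ι) F) =
      -(Matrix.J ι F * g.1 * Matrix.J ι F) := by
  have h : ((SymplecticGroup.symJ ι F)⁻¹ : Matrix.symplecticGroup ι F).1 = -Matrix.J ι F := by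
    rw [SymplecticGroup.coe_inv, SymplecticGroup.coe_J, J_transpose, neg_mul_neg, J_squared, neg_one_mul]
  show Matrix.J ι F * g.1 * ((SymplecticGroup.symJ ι F)⁻¹ : Matrix.symplecticGroup ι F).1 = _
  rw [h, Matrix.mul_neg]

theorem cJ_cJ (g : Matrix.symplecticGroup ι F) : cJ (cJ g) = g := by
  refine val_inj ?_
  rw [cJ_val, cJ_val]
  simp [← Matrix.mul_assoc, J_squared]
  simp [Matrix.mul_assoc, J_squared]

theorem cJ_lev (A : SpecialLinearGroup ι F) : cJ (lev A) = lev (tinv A) := by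
  refine val_inj ?_
  rw [cJ_val, lev_val, lev_val, tinv_tinv, Matrix.J, fromBlocks_multiply, fromBlocks_multiply, fromBlocks_neg]
  simp

theorem cJ_extSp (f : α ↪ ι) (M : Matrix.symplecticGroup α F) : cJ (extSp f M) = extSp f (cJ M) := by
  refine val_inj ?_
  rw [cJ_val, extSp_val, extSp_val, extS, extS, cJ_val]
  set P : Matrix (ι ⊕ ι) (α ⊕ α) F := inc2 F f with hP
  set J' := Matrix.J α F with hJ'
  have e : Matrix.J ι F * (P * (M.1 - 1) * Pᵀ) * Matrix.J ι F = P * (J' * (M.1 - 1) * J') * Pᵀ := by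
    rw [← Matrix.mul_assoc, ← Matrix.mul_assoc, inc2_J, Matrix.mul_assoc _ Pᵀ, inc2t_J]
    simp only [Matrix.mul_assoc]
    rfl
  have e' : J' * (M.1 - 1) * J' = J' * M.1 * J' + 1 := by
    rw [mul_sub, sub_mul, mul_one, hJ', J_squared, sub_neg_eq_add]
  rw [mul_add, mul_one, add_mul, e, e', J_squared,
    show -(J' * M.1 * J') - 1 = -(J' * M.1 * J' + 1) by abel, Matrix.mul_neg, Matrix.neg_mul]
  abel

/-! The index embeddings. -/

variable {k : ℕ}

/-- The plane of the first two indices, in the order of `emB`. -/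
def qE : Fin 2 ↪ Fin (k + 3) := ⟨![1, 0], fun a b => by fin_cases a <;> fin_cases b <;> simp⟩

/-- The indices other than the first. -/
def cE : Fin (k + 2) ↪ Fin (k + 3) := Fin.succEmb (k + 2)

theorem qE_zero : qE (k := k) 0 = 1 := rfl
theorem qE_one : qE (k := k) 1 = 0 := rfl
theorem cE_apply (a : Fin (k + 2)) : cE a = a.succ := rfl
theorem cE_ne (a : Fin (k + 2)) : cE a ≠ 0 := Fin.succ_ne_zero a

theorem emA_eq_lev [Fintype F] (A : SpecialLinearGroup (Fin 2) F) : Sp4Pres.emA A = lev A := by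
  refine val_inj ?_
  rw [Sp4Pres.emA_val, lev_val, Sp4Pres.matA]
  congr 1
  show _ = (adjugate A.1)ᵀ
  rw [adjugate_fin_two]
  ext i j; fin_cases i <;> fin_cases j <;> simp

theorem emB_slU [Fintype F] (t : F) :
    Sp4Pres.emB (slU t) = uPs (t • vecMulVec (Pi.single 1 1) (Pi.single 1 1) : Matrix (Fin 2) (Fin 2) F) := by
  refine val_inj ?_
  rw [uPs_val (by ext i j; fin_cases i <;> fin_cases j <;> simp [vecMulVec_apply]), Sp4Pres.emB_val,
    Sp4Pres.coe_slU, Sp4Pres.matB_lit, ← Sp4Pres.lit_zero]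
  congr 1 <;> ext i j <;> fin_cases i <;> fin_cases j <;> simp [vecMulVec_apply]

theorem cJ_emB [Fintype F] (x : SpecialLinearGroup (Fin 2) F) :
    cJ (Sp4Pres.emB x) = Sp4Pres.emB (slW * x * slW⁻¹) := by
  refine val_inj ?_
  rw [cJ_val, Sp4Pres.emB_val, Sp4Pres.emB_val, sval_mul, sval_mul,
    Sp4Pres.coe_slW_inv, Sp4Pres.coe_slW, Sp4Pres.matB, Sp4Pres.matB, Matrix.J, fromBlocks_multiply,
    fromBlocks_multiply, fromBlocks_neg]
  congr 1 <;> ext i j <;> fin_cases i <;> fin_cases j <;>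
    simp [Matrix.mul_apply, Matrix.vecMul, dotProduct, Fin.sum_univ_two]

/-! Facts on `SL`. -/

theorem exists_col {n : ℕ} (a : Fin (n + 2)) {v : Fin (n + 2) → F} (hv : v ≠ 0) :
    ∃ M : SpecialLinearGroup (Fin (n + 2)) F, M.1 *ᵥ Pi.single a 1 = v := by
  obtain ⟨j, hj⟩ := Function.ne_iff.1 hv
  obtain ⟨K, hK, hKa, -⟩ := Cfsg.Agent.Classical.exists_isUnit_det_col v a j hj
  obtain ⟨b, hb⟩ := exists_ne a
  obtain ⟨g, hg⟩ := Cfsg.Agent.Classical.exists_sl_of_det_ne_zero K hK b
  refine ⟨g, ?_⟩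
  rw [hg, ← Matrix.mulVec_mulVec, Matrix.diagonal_mulVec_single, Function.update_of_ne hb.symm, one_mul,
    hKa]

theorem inv_mulVec (M : SpecialLinearGroup ι F) (v : ι → F) : (M⁻¹).1 *ᵥ (M.1 *ᵥ v) = v := by
  rw [Matrix.mulVec_mulVec, sval_inv_mul, Matrix.one_mulVec]

theorem mulVec_inv (M : SpecialLinearGroup ι F) (v : ι → F) : M.1 *ᵥ ((M⁻¹).1 *ᵥ v) = v := by
  rw [Matrix.mulVec_mulVec, sval_mul_inv, Matrix.one_mulVec]

/-- The elements of the first row. -/
def rowU (r : Fin (k + 2) → F) : SpecialLinearGroup (Fin (k + 3)) F :=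
  ⟨1 + vecMulVec (Pi.single 0 1) (Fin.cons 0 r), by
    rw [vecMulVec_eq Unit, det_one_add_replicateCol_mul_replicateRow]
    simp⟩

theorem rowU_mulVec (r : Fin (k + 2) → F) (v : Fin (k + 3) → F) :
    (rowU r).1 *ᵥ v = v + (r ⬝ᵥ Fin.tail v) • Pi.single 0 1 := by
  show (1 + vecMulVec (Pi.single 0 1) (Fin.cons 0 r)) *ᵥ v = _
  rw [Matrix.add_mulVec, Matrix.one_mulVec, vecMulVec_mulVec, op_smul_eq_smul, dotProduct,
    Fin.sum_univ_succ]
  simp [dotProduct, Fin.tail]

theorem ext_mulVec_single {M N : Matrix ι ι F} (h : ∀ a, M *ᵥ Pi.single a 1 = N *ᵥ Pi.single a 1) :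
    M = N := by
  ext i j
  have := congrFun (h j) i
  simpa using this

/-- Decomposition of the stabiliser of the first basis vector. -/
theorem stab_decomp {M : SpecialLinearGroup (Fin (k + 3)) F}
    (hM : M.1 *ᵥ Pi.single 0 1 = Pi.single 0 1) :
    ∃ (r : Fin (k + 2) → F) (N : SpecialLinearGroup (Fin (k + 2)) F), M = rowU r * extSL cE N := by
  set A : Matrix (Fin (k + 2)) (Fin (k + 2)) F := Matrix.of fun a b => M.1 a.succ b.succ
  set s : Fin (k + 2) → F := fun b => M.1 0 b.succ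
  have hcol : ∀ i, M.1 i 0 = if i = 0 then 1 else 0 := fun i => by
    have := congrFun hM i
    simpa [Pi.single_apply] using this
  have hdet : A.det = 1 := by
    have := M.2
    rw [Matrix.det_succ_column_zero, Fin.sum_univ_succ] at this
    simp only [hcol, Fin.val_zero, pow_zero, one_mul, if_true, Fin.succ_ne_zero, if_false, mul_zero,
      zero_mul, Finset.sum_const_zero, add_zero, Fin.succAbove_zero] at this
    exact this
  let N : Matrix.SpecialLinearGroup (Fin (k + 2)) F := ⟨A, hdet⟩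
  refine ⟨s ᵥ* (N⁻¹).1, N, Subtype.ext (ext_mulVec_single fun j => ?_)⟩
  rw [sval_mul, ← Matrix.mulVec_mulVec, extSL_val]
  cases j using Fin.cases with
  | zero =>
    rw [extM_mulVec_out cE _ fun a => cE_ne a, rowU_mulVec, hM]
    simp [Fin.tail_def, dotProduct]
  | succ b =>
    rw [← cE_apply, extM_mulVec, rowU_mulVec]
    have ht : Fin.tail ((incM F cE : Matrix (Fin (k + 3)) (Fin (k + 2)) F) *ᵥ (A *ᵥ Pi.single b 1)) =
        A *ᵥ Pi.single b 1 := by
      ext a
      simp [Fin.tail, incM, Matrix.mulVec, dotProduct, cE_apply]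
    rw [ht, ← dotProduct_mulVec, show ((N⁻¹).1 *ᵥ (A *ᵥ Pi.single b 1)) = Pi.single b 1 from inv_mulVec N _]
    ext i
    cases i using Fin.cases with
    | zero =>
      simp [incM, cE_apply, Matrix.mulVec, dotProduct, s, Pi.single_apply, (Fin.succ_ne_zero _).symm]
    | succ a =>
      simp [incM, cE_apply, Matrix.mulVec, dotProduct, A, N, Pi.single_apply]

/-- Transvections at the first index and blocks away from it generate `SL`. -/
theorem symm_induction {P : Matrix ι ι F → Prop} (h0 : P 0)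
    (hadd : ∀ S T, Sᵀ = S → Tᵀ = T → P S → P T → P (S + T))
    (hd : ∀ (a : ι) (t : F), P (Matrix.single a a t))
    (ho : ∀ (a b : ι) (t : F), a ≠ b → P (Matrix.single a b t + Matrix.single b a t))
    {S : Matrix ι ι F} (hS : Sᵀ = S) : P S := by
  classical
  let e := Fintype.equivFin ι
  let f : ι → ι → Matrix ι ι F := fun a b =>
    if a = b then Matrix.single a a (S a a)
    else if e a < e b then Matrix.single a b (S a b) + Matrix.single b a (S a b) else 0
  have hsym : ∀ a b, (f a b)ᵀ = f a b := fun a b => by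
    simp only [f]
    split_ifs <;> simp [Matrix.transpose_single, Matrix.transpose_add, add_comm]
  have hf : ∀ a b, P (f a b) := fun a b => by
    simp only [f]
    split_ifs with h1 h2
    · exact hd a _
    · exact ho a b _ h1
    · exact h0
  have hS' : S = ∑ x : ι × ι, f x.1 x.2 := by
    ext i j
    have hsij : S j i = S i j := congrFun (congrFun hS i) j
    rw [Matrix.sum_apply, Fintype.sum_eq_single (if e i ≤ e j then (i, j) else (j, i))]
    · rcases lt_trichotomy (e i) (e j) with h | h | h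
      · have hij : i ≠ j := fun e' => h.ne (congrArg e e')
        simp [f, h.le, h, hij, hij.symm]
      · obtain rfl := e.injective h
        simp [f]
      · have hij : i ≠ j := fun e' => h.ne' (congrArg e e')
        simp [f, h.not_ge, h, hij, hij.symm, hsij]
    · rintro ⟨a, b⟩ hne
      simp only [f]
      split_ifs with h1 h2
      · subst h1
        rw [Matrix.single_apply_of_ne]
        rintro ⟨rfl, rfl⟩
        simp at hne
      · rw [Matrix.add_apply, Matrix.single_apply_of_ne, Matrix.single_apply_of_ne, add_zero]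
        · rintro ⟨rfl, rfl⟩
          simp [h2.not_ge] at hne
        · rintro ⟨rfl, rfl⟩
          simp [h2.le] at hne
      · rfl
  rw [hS']
  refine (Finset.sum_induction (fun x : ι × ι => f x.1 x.2) (fun T => Tᵀ = T ∧ P T)
    (fun S T hs ht => ⟨by rw [transpose_add, hs.1, ht.1], hadd S T hs.1 ht.1 hs.2 ht.2⟩)
    ⟨transpose_zero, h0⟩ fun x _ => ⟨hsym _ _, hf _ _⟩).2

theorem vv_sym (t : F) (v : ι → F) : (t • vecMulVec v v)ᵀ = t • vecMulVec v v := by
  rw [transpose_smul, transpose_vecMulVec]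

theorem single_pair_eq (a b : ι) (t : F) :
    Matrix.single a b t + Matrix.single b a t =
      t • vecMulVec (Pi.single a 1 + Pi.single b 1) (Pi.single a 1 + Pi.single b 1) +
      ((-t) • vecMulVec (Pi.single a 1) (Pi.single a 1) + (-t) • vecMulVec (Pi.single b 1) (Pi.single b 1)) := by
  simp only [add_vecMulVec, vecMulVec_add, ← Matrix.single_eq_single_vecMulVec_single, smul_add,
    Matrix.smul_single, smul_eq_mul, mul_one, ← Matrix.single_neg]
  abel

/-- Symmetric matrices are sums of scaled squares. -/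
theorem square_induction {P : Matrix ι ι F → Prop}
    (hadd : ∀ S T, Sᵀ = S → Tᵀ = T → P S → P T → P (S + T))
    (hv : ∀ (v : ι → F) (t : F), P (t • vecMulVec v v)) {S : Matrix ι ι F} (hS : Sᵀ = S) : P S := by
  refine symm_induction (P := P) ?_ hadd (fun a t => ?_) (fun a b t _ => ?_) hS
  · simpa using hv 0 0
  · have := hv (Pi.single a 1) t
    rwa [← Matrix.single_eq_single_vecMulVec_single, Matrix.smul_single, smul_eq_mul, mul_one] at this
  · rw [single_pair_eq]
    exact hadd _ _ (vv_sym _ _) (by rw [transpose_add, vv_sym, vv_sym]) (hv _ _)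
      (hadd _ _ (vv_sym _ _) (vv_sym _ _) (hv _ _) (hv _ _))

theorem conj_vecMulVec (A : Matrix ι ι F) (t : F) (v : ι → F) :
    A * (t • vecMulVec v v) * Aᵀ = t • vecMulVec (A *ᵥ v) (A *ᵥ v) := by
  rw [Matrix.mul_smul, Matrix.smul_mul, mul_vecMulVec, vecMulVec_mul, vecMul_transpose]

end Cfsg.Agent.Lie.SpnPres
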