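import Mathlib

/-!
Semisimple endomorphisms: those killed by `X ^ M - 1` with `M` invertible in the field are determined up to
similarity by their characteristic polynomial; every monic polynomial with non-zero constant term occurs.
-/

set_option autoImplicit false
set_option linter.unusedSectionVars false

namespace Cfsg.Agent.Lie.Semisimple

open Polynomial Module
open scoped Matrix

variable {F : Type*} [Field F]

theorem charpoly_mulLeft_root {f : F[X]} (hm : f.Monic) (hirr : Irreducible f)
    [Module.Finite F (AdjoinRoot f)] :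
    (LinearMap.mulLeft F (AdjoinRoot.root f)).charpoly = f := by
  haveI := Fact.mk hirr
  rw [← LinearMap.charpoly_toMatrix _ (AdjoinRoot.powerBasis hm.ne_zero).basis]
  rw [Algebra.toMatrix_lmul_eq]
  have h := charpoly_leftMulMatrix (AdjoinRoot.powerBasis hm.ne_zero)
  rw [AdjoinRoot.powerBasis_gen] at h
  rw [h, AdjoinRoot.minpoly_root hm.ne_zero, hm.leadingCoeff, inv_one, map_one, mul_one]

theorem finrank_adjoinRoot {f : F[X]} (hm : f.Monic) : finrank F (AdjoinRoot f) = f.natDegree := by
  rw [(AdjoinRoot.powerBasis hm.ne_zero).finrank, AdjoinRoot.powerBasis_dim]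

/-- An irreducible factor of the characteristic polynomial kills a non-zero vector. -/
theorem exists_killed {n : ℕ} (g : (Fin n → F) →ₗ[F] (Fin n → F)) {f : F[X]} (hm : f.Monic)
    (hirr : Irreducible f) (hdvd : f ∣ g.charpoly) : ∃ v, v ≠ 0 ∧ aeval g f v = 0 := by
  classical
  by_contra hcon
  push Not at hcon
  let A := LinearMap.toMatrix' g
  let L := AlgebraicClosure F
  obtain ⟨l, hl⟩ := IsAlgClosed.exists_aeval_eq_zero L f (degree_pos_of_irreducible hirr).ne'
  have hf : minpoly F l = f := (minpoly.eq_of_irreducible_of_monic hirr hl hm).symm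
  have hchar : g.charpoly = A.charpoly := by
    rw [← LinearMap.charpoly_toMatrix g (Pi.basisFun F (Fin n)), LinearMap.toMatrix_eq_toMatrix']
  have hroot : aeval l A.charpoly = 0 := by
    obtain ⟨r, hr⟩ := hdvd
    rw [← hchar, hr, map_mul, hl, zero_mul]
  have hdet : (Matrix.scalar (Fin n) l - A.map (algebraMap F L)).det = 0 := by
    rw [← Matrix.eval_charpoly, Matrix.charpoly_map, Polynomial.eval_map]
    exact hroot
  obtain ⟨w, hw0, hw⟩ := Matrix.exists_mulVec_eq_zero_iff.2 hdet
  have hAw : (A.map (algebraMap F L)) *ᵥ w = l • w := by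
    rw [Matrix.sub_mulVec, sub_eq_zero] at hw
    rw [← hw]
    simp [Matrix.scalar_apply, Matrix.smul_eq_diagonal_mul, funext_iff, Matrix.mulVec_diagonal]
  have hμ : aeval l (minpoly F A) = 0 := by
    have h1 : aeval (A.map (algebraMap F L)) (minpoly F A) = 0 := by
      show aeval ((Algebra.ofId F L).mapMatrix A) (minpoly F A) = 0
      rw [Polynomial.aeval_algHom_apply, minpoly.aeval, map_zero]
    have h2 : ∀ p : F[X], aeval (A.map (algebraMap F L)) p *ᵥ w = aeval l p • w := fun p => by
      induction p using Polynomial.induction_on' with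
      | add p q hp hq => rw [map_add, map_add, Matrix.add_mulVec, hp, hq, add_smul]
      | monomial k c =>
        have hk : (A.map (algebraMap F L)) ^ k *ᵥ w = l ^ k • w := by
          induction k with
          | zero => simp
          | succ k ih => rw [pow_succ, ← Matrix.mulVec_mulVec, hAw, Matrix.mulVec_smul, ih, smul_smul, pow_succ']
        rw [aeval_monomial, aeval_monomial, Algebra.algebraMap_eq_smul_one, smul_mul_assoc, one_mul,
          Matrix.smul_mulVec, hk, Algebra.algebraMap_eq_smul_one, smul_mul_assoc, one_mul, smul_assoc]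
    have h3 := h2 (minpoly F A)
    rw [h1, Matrix.zero_mulVec] at h3
    exact (smul_eq_zero.1 h3.symm).resolve_right hw0
  obtain ⟨r, hr⟩ : f ∣ minpoly F A := hf ▸ minpoly.dvd F l hμ
  have hgA : minpoly F A = minpoly F g :=
    minpoly.algEquiv_eq (LinearMap.toMatrixAlgEquiv' (R := F) (n := Fin n)) g
  rw [hgA] at hr
  have hr0 : aeval g r = 0 := LinearMap.ext fun v => by
    by_contra hv
    refine hcon _ hv ?_
    rw [← Module.End.mul_apply, ← map_mul, ← hr, minpoly.aeval, LinearMap.zero_apply]
  have hint : IsIntegral F g := IsIntegral.of_finite F g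
  have hr' := minpoly.dvd F g hr0
  have hr0' : r ≠ 0 := fun h => minpoly.ne_zero hint (by rw [hr, h, mul_zero])
  have := natDegree_le_of_dvd hr' hr0'
  rw [hr, natDegree_mul hm.ne_zero hr0'] at this
  have := hirr.natDegree_pos
  omega

/-- Splitting off one irreducible factor. -/
theorem exists_split {n M : ℕ} (g : (Fin n → F) →ₗ[F] (Fin n → F)) (hM : (M : F) ≠ 0) (hg : g ^ M = 1)
    {f : F[X]} (hm : f.Monic) (hirr : Irreducible f) (hdvd : f ∣ g.charpoly) :
    ∃ (n' : ℕ) (e : (AdjoinRoot f × (Fin n' → F)) ≃ₗ[F] (Fin n → F)) (g' : (Fin n' → F) →ₗ[F] (Fin n' → F)),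
      n = f.natDegree + n' ∧ g' ^ M = 1 ∧ g.charpoly = f * g'.charpoly ∧
      ∀ p, g (e p) = e (AdjoinRoot.root f * p.1, g' p.2) := by
  classical
  haveI := Fact.mk hirr
  haveI : Module.Finite F (AdjoinRoot f) := (AdjoinRoot.powerBasis hm.ne_zero).finite
  obtain ⟨v, hv0, hv⟩ := exists_killed g hm hirr hdvd
  let φ : AdjoinRoot f →ₗ[F] (Fin n → F) :=
    (LinearMap.applyₗ v).comp ((aeval g).toLinearMap.comp (AdjoinRoot.modByMonicHom hm))
  have hφ : ∀ x, φ x = aeval g (AdjoinRoot.modByMonicHom hm x) v := fun x => rfl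
  have hroot : ∀ x, g (φ x) = φ (AdjoinRoot.root f * x) := fun x => by
    have hmk : ∀ y, AdjoinRoot.mk f (AdjoinRoot.modByMonicHom hm y) = y := AdjoinRoot.mk_leftInverse hm
    obtain ⟨r, hr⟩ : f ∣ X * AdjoinRoot.modByMonicHom hm x - AdjoinRoot.modByMonicHom hm (AdjoinRoot.root f * x) := by
      rw [← AdjoinRoot.mk_eq_zero, map_sub, map_mul, hmk, hmk, AdjoinRoot.mk_X, sub_self]
    have h := congrArg (fun p => aeval g p v) hr
    simp only [map_sub, map_mul (aeval g), aeval_X, LinearMap.sub_apply, Module.End.mul_apply] at h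
    rw [← Module.End.mul_apply (aeval g f), ← map_mul (aeval g), mul_comm f, map_mul (aeval g), Module.End.mul_apply, hv, map_zero,
      sub_eq_zero] at h
    exact h
  have hinj : Function.Injective φ := by
    rw [injective_iff_map_eq_zero]
    intro x hx
    by_contra hx0
    have hr : AdjoinRoot.mk f (AdjoinRoot.modByMonicHom hm x) = x := AdjoinRoot.mk_leftInverse hm x
    obtain ⟨a, b, hab⟩ : IsCoprime (AdjoinRoot.modByMonicHom hm x) f :=
      ((hirr.coprime_iff_not_dvd).2 fun h => hx0 (by rw [← hr, AdjoinRoot.mk_eq_zero.2 h])).symm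
    apply hv0
    have h := congrArg (fun p => aeval g p v) hab
    simp only [map_add, map_mul, map_one, LinearMap.add_apply, Module.End.mul_apply, Module.End.one_apply] at h
    rw [← hφ, hx, hv, map_zero, map_zero, add_zero] at h
    exact h.symm
  have hinv : LinearMap.range φ ∈ Module.End.invtSubmodule g := by
    rw [Module.End.mem_invtSubmodule]
    rintro _ ⟨x, rfl⟩
    exact ⟨_, (hroot x).symm⟩
  have hsq : Squarefree (X ^ M - C 1 : F[X]) :=
    (Polynomial.separable_X_pow_sub_C 1 hM one_ne_zero).squarefree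
  have hss : Module.End.IsSemisimple g :=
    Module.End.isSemisimple_of_squarefree_aeval_eq_zero hsq (by simp [hg])
  obtain ⟨U, hU, hcompl⟩ := (Module.End.isSemisimple_iff.1 hss) _ hinv
  rw [Module.End.mem_invtSubmodule] at hU
  let eR := LinearEquiv.ofInjective φ hinj
  let bU := (Module.finBasis F U).equivFun
  let e : (AdjoinRoot f × (Fin (finrank F U) → F)) ≃ₗ[F] (Fin n → F) :=
    (eR.prodCongr bU.symm).trans (Submodule.prodEquivOfIsCompl _ _ hcompl)
  have he : ∀ p, e p = φ p.1 + (bU.symm p.2 : Fin n → F) := fun p => by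
    show Submodule.prodEquivOfIsCompl _ _ hcompl _ = _
    rw [Submodule.coe_prodEquivOfIsCompl']
    rfl
  let gU : U →ₗ[F] U := g.restrict hU
  let g' : (Fin (finrank F U) → F) →ₗ[F] (Fin (finrank F U) → F) := bU.conj gU
  have hcomm : ∀ p, g (e p) = e (AdjoinRoot.root f * p.1, g' p.2) := fun p => by
    rw [he, he, map_add, hroot]
    simp [g', gU, LinearEquiv.conj_apply]
  have hconj : g = e.conj ((LinearMap.mulLeft F (AdjoinRoot.root f)).prodMap g') := LinearMap.ext fun x => by
    obtain ⟨p, rfl⟩ := e.surjective x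
    simp [LinearEquiv.conj_apply, hcomm]
  refine ⟨_, e, g', ?_, ?_, ?_, hcomm⟩
  · have := e.finrank_eq
    rw [Module.finrank_prod, finrank_adjoinRoot hm, Module.finrank_fin_fun, Module.finrank_fin_fun] at this
    exact this.symm
  · have hk : ∀ (k : ℕ) (y : Fin (finrank F U) → F), e (0, (g' ^ k) y) = (g ^ k) (e (0, y)) := fun k => by
      induction k with
      | zero => simp
      | succ k ih =>
        intro y
        rw [pow_succ', pow_succ', Module.End.mul_apply, Module.End.mul_apply, ← ih y, hcomm, mul_zero]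
    refine LinearMap.ext fun y => ?_
    have h := hk M y
    rw [hg, Module.End.one_apply] at h
    exact congrArg Prod.snd (e.injective h)
  · conv_lhs => rw [hconj]
    rw [LinearEquiv.charpoly_conj, LinearMap.charpoly_prodMap, charpoly_mulLeft_root hm hirr]

/-- Uniqueness up to similarity. -/
theorem similar_of_charpoly_eq : ∀ (n : ℕ) (g h : (Fin n → F) →ₗ[F] (Fin n → F)) (M : ℕ), (M : F) ≠ 0 →
    g ^ M = 1 → h ^ M = 1 → g.charpoly = h.charpoly →
    ∃ e : (Fin n → F) ≃ₗ[F] (Fin n → F), ∀ v, e (g v) = h (e v) := by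
  intro n
  induction n using Nat.strong_induction_on with
  | _ n ih =>
  intro g h M hM hg hh hgh
  rcases Nat.eq_zero_or_pos n with rfl | hn
  · exact ⟨LinearEquiv.refl F _, fun v => Subsingleton.elim _ _⟩
  have hdeg : g.charpoly.natDegree = n := by rw [g.charpoly_natDegree, Module.finrank_fin_fun]
  obtain ⟨f, hm, hirr, hf⟩ := Polynomial.exists_monic_irreducible_factor g.charpoly
    (fun hu => by rw [Polynomial.natDegree_eq_zero_of_isUnit hu] at hdeg; omega)
  obtain ⟨a, e, g', hna, hg', hcg, heg⟩ := exists_split g hM hg hm hirr hf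
  obtain ⟨b, e', h', hnb, hh', hch, heh⟩ := exists_split h hM hh hm hirr (hgh ▸ hf)
  obtain rfl : a = b := by omega
  have hcc : g'.charpoly = h'.charpoly := mul_left_cancel₀ hm.ne_zero (by rw [← hcg, ← hch, hgh])
  obtain ⟨u, hu⟩ := ih a (by have := hirr.natDegree_pos; omega) g' h' M hM hg' hh' hcc
  refine ⟨e.symm.trans (((LinearEquiv.refl F (AdjoinRoot f)).prodCongr u).trans e'), fun v => ?_⟩
  obtain ⟨p, rfl⟩ := e.surjective v
  simp [heg, heh, hu]

variable [Fintype F]

/-- The centraliser of a semisimple endomorphism has every non-zero determinant. -/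
theorem exists_commute_det {n : ℕ} (hn : 1 ≤ n) (g : (Fin n → F) →ₗ[F] (Fin n → F)) {M : ℕ} (hM : (M : F) ≠ 0)
    (hg : g ^ M = 1) (c : F) (hc : c ≠ 0) :
    ∃ z : (Fin n → F) →ₗ[F] (Fin n → F), (∀ v, z (g v) = g (z v)) ∧ LinearMap.det z = c := by
  classical
  have hdeg : g.charpoly.natDegree = n := by rw [g.charpoly_natDegree, Module.finrank_fin_fun]
  obtain ⟨f, hm, hirr, hf⟩ := Polynomial.exists_monic_irreducible_factor g.charpoly
    (fun hu => by rw [Polynomial.natDegree_eq_zero_of_isUnit hu] at hdeg; omega)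
  obtain ⟨a, e, g', -, -, -, heg⟩ := exists_split g hM hg hm hirr hf
  haveI := Fact.mk hirr
  haveI : Module.Finite F (AdjoinRoot f) := (AdjoinRoot.powerBasis hm.ne_zero).finite
  haveI : Finite (AdjoinRoot f) := Module.finite_of_finite F
  obtain ⟨k, hk⟩ := FiniteField.unitsMap_norm_surjective F (AdjoinRoot f) (Units.mk0 c hc)
  have hk' : Algebra.norm F (k : AdjoinRoot f) = c := congrArg Units.val hk
  refine ⟨e.conj ((LinearMap.mulLeft F (k : AdjoinRoot f)).prodMap LinearMap.id), fun v => ?_, ?_⟩
  · obtain ⟨p, rfl⟩ := e.surjective v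
    simp [heg, LinearEquiv.conj_apply, mul_left_comm]
  · rw [LinearEquiv.conj_apply, LinearMap.comp_assoc, LinearMap.det_conj, LinearMap.det_prodMap, LinearMap.det_id,
      mul_one, ← hk', Algebra.norm_apply]
    rfl

/-- A monic polynomial with non-zero constant term is the characteristic polynomial of a semisimple map. -/
theorem exists_semisimple : ∀ (n : ℕ) (P : F[X]), P.Monic → P.natDegree = n → P.coeff 0 ≠ 0 →
    ∃ (g : (Fin n → F) →ₗ[F] (Fin n → F)) (M : ℕ), (M : F) ≠ 0 ∧ g ^ M = 1 ∧ g.charpoly = P := by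
  classical
  intro n
  induction n using Nat.strong_induction_on with
  | _ n ih =>
  intro P hP hd h0
  rcases Nat.eq_zero_or_pos n with rfl | hn
  · refine ⟨1, 1, by simp, one_pow 1, ?_⟩
    rw [(hP.natDegree_eq_zero).1 hd]
    exact (LinearMap.charpoly_monic _).natDegree_eq_zero.1
      (by rw [LinearMap.charpoly_natDegree, Module.finrank_fin_fun])
  obtain ⟨f, hm, hirr, r, hr⟩ := Polynomial.exists_monic_irreducible_factor P
    (fun hu => by rw [Polynomial.natDegree_eq_zero_of_isUnit hu] at hd; omega)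
  have hrm : r.Monic := hm.of_mul_monic_left (hr ▸ hP)
  have hnd : n = f.natDegree + r.natDegree := by rw [← hd, hr, hm.natDegree_mul hrm]
  have hr0 : r.coeff 0 ≠ 0 := fun h => h0 (by rw [hr, mul_coeff_zero, h, mul_zero])
  have hf0 : f.coeff 0 ≠ 0 := fun h => h0 (by rw [hr, mul_coeff_zero, h, zero_mul])
  obtain ⟨g', M, hM, hg', hc'⟩ := ih r.natDegree (by have := hirr.natDegree_pos; omega) r hrm rfl hr0
  haveI := Fact.mk hirr
  haveI : Module.Finite F (AdjoinRoot f) := (AdjoinRoot.powerBasis hm.ne_zero).finite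
  haveI : Finite (AdjoinRoot f) := Module.finite_of_finite F
  letI := Fintype.ofFinite (AdjoinRoot f)
  have hroot0 : AdjoinRoot.root f ≠ 0 := fun h => by
    rw [← AdjoinRoot.mk_X, AdjoinRoot.mk_eq_zero] at h
    exact hf0 (by rw [Polynomial.eq_of_monic_of_associated hm monic_X (hirr.associated_of_dvd irreducible_X h),
      coeff_X_zero])
  let e : (AdjoinRoot f × (Fin r.natDegree → F)) ≃ₗ[F] (Fin n → F) := LinearEquiv.ofFinrankEq _ _ (by
    rw [Module.finrank_prod, finrank_adjoinRoot hm, Module.finrank_fin_fun, Module.finrank_fin_fun]; omega)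
  refine ⟨e.conj ((LinearMap.mulLeft F (AdjoinRoot.root f)).prodMap g'),
    M * (Fintype.card (AdjoinRoot f) - 1), ?_, ?_, ?_⟩
  · rw [Nat.cast_mul, Nat.cast_sub Fintype.card_pos, Nat.cast_one]
    refine mul_ne_zero hM ?_
    rw [Module.card_eq_pow_finrank (K := F), finrank_adjoinRoot hm, Nat.cast_pow, FiniteField.cast_card_eq_zero,
      zero_pow hirr.natDegree_pos.ne', zero_sub]
    exact neg_ne_zero.2 one_ne_zero
  · have hk : ∀ (k : ℕ) p, ((e.conj ((LinearMap.mulLeft F (AdjoinRoot.root f)).prodMap g')) ^ k) (e p) =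
        e (AdjoinRoot.root f ^ k * p.1, (g' ^ k) p.2) := fun k => by
      induction k with
      | zero => simp
      | succ k ih' =>
        intro p
        rw [pow_succ', Module.End.mul_apply, ih', pow_succ', pow_succ']
        simp [LinearEquiv.conj_apply, mul_assoc]
    refine LinearMap.ext fun x => ?_
    obtain ⟨p, rfl⟩ := e.surjective x
    rw [hk, pow_mul g', hg', one_pow, pow_mul', FiniteField.pow_card_sub_one_eq_one _ hroot0, one_pow, one_mul,
      Module.End.one_apply, Module.End.one_apply]
  · rw [LinearEquiv.charpoly_conj, LinearMap.charpoly_prodMap, charpoly_mulLeft_root hm hirr, hc', hr]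

end Cfsg.Agent.Lie.Semisimple
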