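import Cfsg.Agent.Lib.Lie.Sl2PresOdd

/-! `SL₂(F)` and `PSL₂(F)` have bounded presentations with three generators. -/

set_option autoImplicit false
set_option linter.unusedSectionVars false

namespace Cfsg.Agent.Lie.Sl2Pres

open Matrix Polynomial Cfsg.Agent.Lie.RegUnip

variable {F : Type*} [Field F] [Fintype F]

theorem neg_one_mem_center :
    (-1 : SpecialLinearGroup (Fin 2) F) ∈ Subgroup.center (SpecialLinearGroup (Fin 2) F) :=
  Subgroup.mem_center_iff.2 fun x => Subtype.ext (by
    show x.val * (-1 : Matrix (Fin 2) (Fin 2) F) = (-1 : Matrix (Fin 2) (Fin 2) F) * x.val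
    simp)

theorem exists_presentations_aux :
    ∃ (ω : Fˣ) (rels : Finset (FreeGroup (Fin 3))) (E : Finset (FreeGroup (Fin 3))),
      Presents rels ω ∧ rels.card ≤ 8 ∧ E.card ≤ 1 ∧ ((2 : F) = 0 → rels.card ≤ 5 ∧ E = ∅) ∧
      (∀ r ∈ E, FreeGroup.lift ![slU (1 : F), slW, slH ω] r ∈
        Subgroup.center (SpecialLinearGroup (Fin 2) F)) ∧
      ∀ x ∈ Subgroup.center (SpecialLinearGroup (Fin 2) F), x = 1 ∨
        ∃ r ∈ E, x = FreeGroup.lift ![slU (1 : F), slW, slH ω] r := by
  classical
  obtain ⟨p, hpc⟩ := CharP.exists F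
  obtain ⟨kk, hp, hk⟩ := FiniteField.card F p
  haveI := Fact.mk hp
  letI : Algebra (ZMod p) F := ZMod.algebra F p
  obtain ⟨ω, hω⟩ := IsCyclic.exists_monoid_generator (α := Fˣ)
  have hgen : ∀ x : Fˣ, ∃ n : ℕ, x = ω ^ n := fun x => by
    obtain ⟨n, hn⟩ := hω x
    exact ⟨n, hn.symm⟩
  have hord : orderOf ω = Fintype.card F - 1 := by
    rw [orderOf_eq_card_of_forall_mem_zpowers (fun x => by
      obtain ⟨n, rfl⟩ := hgen x
      exact Subgroup.mem_zpowers_iff.2 ⟨n, zpow_natCast ω n⟩), Nat.card_units, Nat.card_eq_fintype_card]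
  have hordF : orderOf (ω : F) = Nat.card F - 1 := by rw [orderOf_units, hord, Nat.card_eq_fintype_card]
  have htop : ∀ M : Subfield F, (ω : F) ^ 2 ∈ M → M = ⊤ := fun M => top_of_sq_mem ω.ne_zero hordF
  have h1q := Fintype.one_lt_card (α := F)
  by_cases h2 : (2 : F) = 0
  · -- characteristic two
    have hp2 : p = 2 := by
      have h := (CharP.cast_eq_zero_iff F p 2).1 (by exact_mod_cast h2)
      exact (Nat.prime_dvd_prime_iff_eq hp Nat.prime_two).1 h
    have key : ∃ rels : Finset (FreeGroup (Fin 3)), rels.card ≤ 5 ∧ Presents rels ω := by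
      by_cases hq : Fintype.card F = 2
      · exact presents_two hp2 hq
      · have hne : 1 + (ω : F) ^ 2 ≠ 0 := by
          intro e
          have e2 : (ω : F) ^ 2 = 1 := by linear_combination e - h2
          have hle' := Nat.le_of_dvd two_pos (orderOf_dvd_of_pow_eq_one e2)
          rw [hordF, Nat.card_eq_fintype_card] at hle'
          subst hp2
          rw [hk] at hle' hq
          rcases (show (kk : ℕ) = 1 ∨ 2 ≤ (kk : ℕ) by have := kk.pos; omega) with h | h
          · rw [h] at hq; exact hq rfl
          · have := Nat.pow_le_pow_right two_pos h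
            omega
        obtain ⟨n, hn⟩ := hgen (Units.mk0 _ hne)
        have hodd : Odd (orderOf ω) := by
          rw [hord]
          have heven : Even (Fintype.card F) := by
            rw [hk, hp2]; exact (Nat.even_pow' kk.pos.ne').2 even_two
          exact Nat.Even.sub_odd Fintype.card_pos heven odd_one
        obtain ⟨j, hj⟩ : ∃ j, ω ^ (2 * j) = ω ^ n := by
          rcases Nat.even_or_odd n with ⟨j, rfl⟩ | h
          · exact ⟨j, by rw [two_mul]⟩
          · obtain ⟨j, hj⟩ := Odd.add_odd h hodd
            exact ⟨j, by rw [two_mul, ← hj, pow_add, pow_orderOf_eq_one, mul_one]⟩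
        refine presents_char_two_aux hgen hp2 (j := j) ?_ (exists_aeval_of_generates htop)
        rw [← Units.val_pow_eq_pow_val, hj, ← hn, Units.val_mk0]
    obtain ⟨rels, hc, hr⟩ := key
    refine ⟨ω, rels, ∅, hr, by omega, by simp, fun _ => ⟨hc, rfl⟩, by simp, fun x hx => Or.inl ?_⟩
    rcases center_SL2 hx with rfl | rfl
    · rfl
    · refine Subtype.ext ?_
      show -(1 : Matrix (Fin 2) (Fin 2) F) = 1
      have hneg : ∀ a : F, -a = a := fun a => by linear_combination -a * h2
      ext a b
      exact hneg _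
  -- odd characteristic
  have hodd : Odd (Fintype.card F) := by
    rw [Nat.odd_iff]
    rcases Nat.mod_two_eq_zero_or_one (Fintype.card F) with h | h
    · exfalso
      refine h2 ?_
      have := FiniteField.even_card_iff_char_two.2 h
      haveI hc : CharP F (ringChar F) := ringChar.charP F
      have e := CharP.cast_eq_zero F (ringChar F)
      rw [this] at e
      exact_mod_cast e
    · exact h
  have key : ∃ rels : Finset (FreeGroup (Fin 3)), rels.card ≤ 8 ∧ Presents rels ω := by
    by_cases hpr : (Fintype.card F).Prime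
    · refine presents_odd (p := p) hgen hodd 0 ∅ (by simp) (by simp)
        (fun G _ f _ m => by simp [cj]) (exists_aeval_of_generates fun M _ => ?_)
      by_contra hne
      have hle := natCard_subfield_sq_le hne
      have e := Module.natCard_eq_pow_finrank (K := M) (V := F)
      rw [← Nat.card_eq_fintype_card] at hpr
      rw [e] at hpr
      have h1 : Module.finrank M F = 1 := Nat.Prime.eq_one_of_pow hpr
      rw [e, h1, pow_one] at hle
      have h2M : 2 ≤ Nat.card M := Finite.one_lt_card
      nlinarith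
    by_cases h9 : Fintype.card F = 9
    · have h4 : ω ^ 4 = -1 := by
        have h8 : ((ω : F) ^ 4) * ((ω : F) ^ 4) = 1 := by
          rw [← pow_add, ← Units.val_pow_eq_pow_val, show 4 + 4 = orderOf ω by omega, pow_orderOf_eq_one,
            Units.val_one]
        refine Units.ext ?_
        rcases mul_self_eq_one_iff.1 h8 with e | e
        · exfalso
          have := Nat.le_of_dvd (by norm_num) (orderOf_dvd_of_pow_eq_one e)
          rw [hordF, Nat.card_eq_fintype_card] at this
          omega
        · rw [Units.val_pow_eq_pow_val, e]; simp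
      refine presents_odd (p := p) hgen hodd 1
        {fu * (fh * fu * fh⁻¹) * fu⁻¹ * (fh * fu * fh⁻¹)⁻¹, fh ^ 2 * fu * (fh ^ 2)⁻¹ * fu}
        Finset.card_le_two ?_ ?_ (exists_aeval_of_generates ?_)
      · intro r hr
        simp only [Finset.mem_insert, Finset.mem_singleton] at hr
        rcases hr with rfl | rfl
        · simp only [map_mul, map_inv, fu, fh, FreeGroup.lift_apply_of, Matrix.cons_val_zero,
            Matrix.cons_val_two, Matrix.tail_cons, Matrix.head_cons]
          rw [slH_conj, slU_inv, slU_inv, ← slU_add, ← slU_add, ← slU_add,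
            show (1 : F) + ((ω : F) ^ 2 * 1) + -1 + -((ω : F) ^ 2 * 1) = 0 by ring, slU_zero]
        · simp only [map_mul, map_inv, map_pow, fu, fh, FreeGroup.lift_apply_of, Matrix.cons_val_zero,
            Matrix.cons_val_two, Matrix.tail_cons, Matrix.head_cons]
          rw [slH_pow, slH_conj, ← slU_add, Units.val_pow_eq_pow_val, ← pow_mul,
            ← Units.val_pow_eq_pow_val, h4]
          simp [slU_zero]
      · intro G _ f hf m
        have e1 := hf (fu * (fh * fu * fh⁻¹) * fu⁻¹ * (fh * fu * fh⁻¹)⁻¹) (by simp)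
        have e2 := hf (fh ^ 2 * fu * (fh ^ 2)⁻¹ * fu) (by simp)
        rw [pow_one]
        refine commute_all_of_sq ?_ ?_ m
        · rw [map_mul] at e2
          rw [← eq_inv_of_mul_eq_one_left e2]
          simp
        · simp only [map_mul, map_inv, mul_inv_eq_one, mul_inv_eq_iff_eq_mul] at e1
          show _ * _ = _ * _
          simpa [cj] using e1
      · intro M hM
        exact htop M (by simpa using hM)
    obtain ⟨r, z, hr, hz, hrz, hgenr⟩ := exists_pythagorean h2 hpr h9
    obtain ⟨i, hi⟩ := hgen (Units.mk0 r hr)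
    obtain ⟨j, hj⟩ := hgen (Units.mk0 z hz)
    have hi' : ((ω ^ i : Fˣ) : F) = r := by rw [← hi, Units.val_mk0]
    have hj' : ((ω ^ j : Fˣ) : F) = z := by rw [← hj, Units.val_mk0]
    refine presents_odd (p := p) hgen hodd i
      {fu * (fh ^ i * fu * (fh ^ i)⁻¹) * fu⁻¹ * (fh ^ i * fu * (fh ^ i)⁻¹)⁻¹,
        fh ^ j * fu * (fh ^ j)⁻¹ * (fu * (fh ^ i * fu * (fh ^ i)⁻¹))⁻¹}
      Finset.card_le_two ?_ ?_ (exists_aeval_of_generates ?_)
    · intro x hx
      simp only [Finset.mem_insert, Finset.mem_singleton] at hx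
      rcases hx with rfl | rfl
      · simp only [map_mul, map_inv, map_pow, fu, fh, FreeGroup.lift_apply_of, Matrix.cons_val_zero,
          Matrix.cons_val_two, Matrix.tail_cons, Matrix.head_cons]
        rw [slH_pow, slH_conj, slU_inv, slU_inv, ← slU_add, ← slU_add, ← slU_add, hi',
          show (1 : F) + (r ^ 2 * 1) + -1 + -(r ^ 2 * 1) = 0 by ring, slU_zero]
      · simp only [map_mul, map_inv, map_pow, fu, fh, FreeGroup.lift_apply_of, Matrix.cons_val_zero,
          Matrix.cons_val_two, Matrix.tail_cons, Matrix.head_cons]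
        rw [slH_pow, slH_pow, slH_conj, slH_conj, ← slU_add, slU_inv, ← slU_add, hi', hj',
          hrz, show (1 + r ^ 2) * 1 + -(1 + r ^ 2 * 1) = (0 : F) by ring, slU_zero]
    · intro G _ f hf m
      have e1 := hf (fu * (fh ^ i * fu * (fh ^ i)⁻¹) * fu⁻¹ * (fh ^ i * fu * (fh ^ i)⁻¹)⁻¹) (by simp)
      have e2 := hf (fh ^ j * fu * (fh ^ j)⁻¹ * (fu * (fh ^ i * fu * (fh ^ i)⁻¹))⁻¹) (by simp)
      refine commute_all_of_shift (b := f fh ^ j) (Commute.pow_pow_self _ i j) ?_ ?_ m
      · rw [map_mul, map_inv, mul_inv_eq_one] at e2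
        simpa [cj] using e2
      · simp only [map_mul, map_inv, mul_inv_eq_one, mul_inv_eq_iff_eq_mul] at e1
        show _ * _ = _ * _
        simpa [cj] using e1
    · intro M hM
      exact hgenr M (by rwa [hi'] at hM)
  obtain ⟨rels, hc, hr⟩ := key
  obtain ⟨k, hk'⟩ := hodd
  refine ⟨ω, rels, {fh ^ k}, hr, hc, by simp, fun h => absurd h h2, ?_, fun x hx => ?_⟩
  all_goals
    have hneg : FreeGroup.lift ![slU (1 : F), slW, slH ω] (fh ^ k) = -1 := by
      have h1 : ((ω : F) ^ k) * ((ω : F) ^ k) = 1 := by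
        rw [← pow_add, ← Units.val_pow_eq_pow_val, show k + k = orderOf ω by omega, pow_orderOf_eq_one,
          Units.val_one]
      have h3 : (ω : F) ^ k = -1 := by
        rcases mul_self_eq_one_iff.1 h1 with e | e
        · exfalso
          have := Nat.le_of_dvd (by omega) (orderOf_dvd_of_pow_eq_one e)
          rw [hordF, Nat.card_eq_fintype_card] at this
          omega
        · exact e
      rw [map_pow, fh, FreeGroup.lift_apply_of]
      show slH ω ^ k = -1
      rw [slH_pow]
      refine Subtype.ext ?_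
      show (slH (ω ^ k)).val = -(1 : Matrix (Fin 2) (Fin 2) F)
      simp [slH, h3, Matrix.one_fin_two]
  · intro r hr
    rw [Finset.mem_singleton] at hr
    rw [hr, hneg]
    exact neg_one_mem_center
  · rcases center_SL2 hx with h | h
    · exact Or.inl h
    · exact Or.inr ⟨_, Finset.mem_singleton_self _, h.trans hneg.symm⟩

end Cfsg.Agent.Lie.Sl2Pres
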