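import Cfsg.Agent.Lib.Lie.SLnPres
import Cfsg.Agent.Lib.Lie.Sl2PresFinal
import Cfsg.Agent.Lib.Lie.RegUnipTwoExists

/-! `PSL_n(F)` has a presentation with two generators and at most 80 relations. -/

set_option autoImplicit false
set_option linter.unusedSectionVars false

namespace Cfsg.Agent.Lie.SLnPres

open Matrix Cfsg.Agent.Lie.Pres

variable {F : Type*} [Field F] [Fintype F]

theorem presLe_SL (n : ℕ) (hn : 2 ≤ n) : PresLe (SpecialLinearGroup (Fin n) F) 47 := by
  rcases (show n = 2 ∨ n = 3 ∨ 4 ≤ n by omega) with rfl | rfl | h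
  · obtain ⟨ω, rels, E, hP, hc, -⟩ := Sl2Pres.exists_presentations_aux (F := F)
    exact ⟨Fin 3, inferInstance, rels, by omega, hP.nonempty_equiv⟩
  · obtain ⟨rels, hc, he⟩ := Sl3Pres.exists_presentation (F := F)
    exact ⟨Fin 4, inferInstance, rels, by omega, he⟩
  · obtain ⟨k, rfl⟩ : ∃ k, n = 3 + k := ⟨n - 3, by omega⟩
    obtain ⟨rels, hc, he⟩ := Sl3Pres.exists_presentation (F := F)
    have h14 : PresLe (SpecialLinearGroup (Fin 3) F) 14 := ⟨Fin 4, inferInstance, rels, hc, he⟩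
    exact presLe_SL_of (by omega) h14 (Carmichael.presLe_alternating (3 + k) h)

theorem presLe_PSL (n : ℕ) (hn : 2 ≤ n) : PresLe (ProjectiveSpecialLinearGroup (Fin n) F) 48 := by
  haveI : Nonempty (Fin n) := ⟨⟨0, by omega⟩⟩
  haveI : NeZero (Fintype.card (Fin n)) := ⟨by simp; omega⟩
  let e := Matrix.SpecialLinearGroup.center_equiv_rootsOfUnity' (R := F) (⟨0, by omega⟩ : Fin n)
  haveI : IsCyclic (Subgroup.center (SpecialLinearGroup (Fin n) F)) :=
    isCyclic_of_surjective e.symm.toMonoidHom e.symm.surjective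
  obtain ⟨z, hz⟩ := IsCyclic.exists_generator (α := Subgroup.center (SpecialLinearGroup (Fin n) F))
  refine (PresLe.quot (presLe_SL n hn) (QuotientGroup.mk' _) (QuotientGroup.mk'_surjective _) [z.1] ?_ ?_).mono
    (by simp)
  · intro x hx
    rw [List.mem_singleton] at hx
    subst hx
    exact (QuotientGroup.eq_one_iff _).2 z.2
  · rw [QuotientGroup.ker_mk']
    intro x hx
    obtain ⟨m, hm⟩ := Subgroup.mem_zpowers_iff.1 (hz ⟨x, hx⟩)
    have : x = z.1 ^ m := by rw [← Subgroup.coe_zpow, hm]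
    rw [this]
    exact zpow_mem (Subgroup.subset_normalClosure (show z.1 ∈ {x | x ∈ [z.1]} from List.mem_singleton.2 rfl)) m

theorem two_generated_SL2 (h4 : 4 ≤ Fintype.card F) :
    ∃ a b : SpecialLinearGroup (Fin 2) F, Subgroup.closure {a, b} = ⊤ := by
  classical
  obtain ⟨ω, hω⟩ := IsCyclic.exists_monoid_generator (α := Fˣ)
  have hordF : orderOf (ω : F) = Nat.card F - 1 := by
    rw [orderOf_units, orderOf_eq_card_of_forall_mem_zpowers (fun x => by
      obtain ⟨n, hn⟩ := hω x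
      exact Subgroup.mem_zpowers_iff.2 ⟨n, by simpa using hn⟩), Nat.card_units]
  refine ⟨Sl2Pres.slH ω, Sl2Pres.slU 1 * Sl2Pres.slW, ?_⟩
  set h := Sl2Pres.slH ω
  set b := Sl2Pres.slU (1 : F) * Sl2Pres.slW
  set K := Subgroup.closure {h, b}
  have hh : h ∈ K := Subgroup.subset_closure (by simp)
  have hb : b ∈ K := Subgroup.subset_closure (by simp)
  have hw : (Sl2Pres.slW : SpecialLinearGroup (Fin 2) F) * h * (Sl2Pres.slW : SpecialLinearGroup (Fin 2) F)⁻¹ = h⁻¹ := by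
    rw [Sl2Pres.slH_inv, mul_inv_eq_iff_eq_mul]
    refine Subtype.ext ?_
    show Sl2Pres.slW.val * (Sl2Pres.slH ω).val = (Sl2Pres.slH ω⁻¹).val * Sl2Pres.slW.val
    simp [Sl2Pres.slW, Sl2Pres.slH]
  set d : F := 1 - ((ω : F) ^ 2)⁻¹ with hd
  have hdK : Sl2Pres.slU d ∈ K := by
    have hconj : h⁻¹ * Sl2Pres.slU (-1 : F) * h = Sl2Pres.slU (-((ω : F) ^ 2)⁻¹) := by
      have := Sl2Pres.slH_conj ω⁻¹ (-1 : F)
      rw [← Sl2Pres.slH_inv, inv_inv] at this
      rw [this]
      congr 1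
      simp
    have e : Sl2Pres.slU d = b * h * b⁻¹ * h := by
      rw [hd, sub_eq_add_neg, Sl2Pres.slU_add, ← hconj, ← Sl2Pres.slU_inv]
      calc Sl2Pres.slU (1 : F) * (h⁻¹ * (Sl2Pres.slU (1 : F))⁻¹ * h) =
            Sl2Pres.slU (1 : F) * ((Sl2Pres.slW : SpecialLinearGroup (Fin 2) F) * h *
              (Sl2Pres.slW : SpecialLinearGroup (Fin 2) F)⁻¹) * (Sl2Pres.slU (1 : F))⁻¹ * h := by
            rw [hw]; group
        _ = _ := by simp only [b]; group
    rw [e]
    exact K.mul_mem (K.mul_mem (K.mul_mem hb hh) (K.inv_mem hb)) hh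
  have hd0 : d ≠ 0 := by
    intro e
    rw [hd, sub_eq_zero, eq_comm, inv_eq_one] at e
    have := Nat.le_of_dvd two_pos (orderOf_dvd_of_pow_eq_one e)
    rw [hordF, Nat.card_eq_fintype_card] at this
    omega
  have hall : ∀ t : F, Sl2Pres.slU t ∈ K := by
    intro t
    have key : ∀ s : F, Sl2Pres.slU (s * d) ∈ K := by
      refine Sl3Pres.all_of_span (sq_span hordF) (P := fun s => Sl2Pres.slU (s * d) ∈ K) ?_ ?_ ?_
      · rw [zero_mul, Sl2Pres.slU_zero]; exact K.one_mem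
      · intro x y hx hy
        rw [add_mul, Sl2Pres.slU_add]; exact K.mul_mem hx hy
      · rintro _ ⟨m, rfl⟩
        have := Sl2Pres.slH_conj (ω ^ m) d
        rw [Units.val_pow_eq_pow_val, ← pow_mul, mul_comm m 2, pow_mul] at this
        rw [← this, ← Sl2Pres.slH_pow]
        exact K.mul_mem (K.mul_mem (K.pow_mem hh m) hdK) (K.inv_mem (K.pow_mem hh m))
    have := key (t * d⁻¹)
    rwa [mul_assoc, inv_mul_cancel₀ hd0, mul_one] at this
  rw [eq_top_iff, ← Sl2Pres.closure_slU_slW, Subgroup.closure_le]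
  rintro x (⟨t, rfl⟩ | rfl)
  · exact hall t
  · have : (Sl2Pres.slW : SpecialLinearGroup (Fin 2) F) = (Sl2Pres.slU (1 : F))⁻¹ * b := by simp [b]
    rw [SetLike.mem_coe, this]
    exact K.mul_mem (K.inv_mem (hall 1)) hb

theorem presentation_two {n : ℕ} {a b : SpecialLinearGroup (Fin n) F} (hn : 2 ≤ n)
    (hab : Subgroup.closure ({a, b} : Set (SpecialLinearGroup (Fin n) F)) = ⊤) :
    ∃ rels : Finset (FreeGroup (Fin 2)), rels.card ≤ 80 ∧
      Nonempty (PresentedGroup (↑rels : Set (FreeGroup (Fin 2))) ≃* ProjectiveSpecialLinearGroup (Fin n) F) := by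
  let q : SpecialLinearGroup (Fin n) F →* ProjectiveSpecialLinearGroup (Fin n) F := QuotientGroup.mk' _
  obtain ⟨R, hR, e⟩ := (presLe_PSL (F := F) n hn).gens ![q a, q b] (by
    rw [eq_top_iff, ← Subgroup.map_top_of_surjective q (QuotientGroup.mk'_surjective _), ← hab,
      MonoidHom.map_closure, Set.image_pair]
    refine Subgroup.closure_mono ?_
    rintro x (rfl | rfl)
    exacts [⟨0, rfl⟩, ⟨1, rfl⟩])
  exact ⟨R, by omega, e⟩

end Cfsg.Agent.Lie.SLnPres
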