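import Cfsg.Agent.Lib.Lie.Sl3Pres

/-! `SL₃(F)` has a presentation with four generators and at most fourteen relations. -/

set_option autoImplicit false
set_option linter.unusedSectionVars false

namespace Cfsg.Agent.Lie.Sl3Pres

open Matrix Polynomial Cfsg.Agent.Lie.Sl2Pres
open scoped commutatorElement

variable {F : Type*} [Field F] [Fintype F]

/-- A transvection as an element of `SL₃`. -/
def tv (i j : Fin 3) (t : F) : SpecialLinearGroup (Fin 3) F :=
  if h : i = j then 1 else ⟨Matrix.transvection i j t, by simp [Matrix.det_transvection_of_ne i j h]⟩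

theorem tv_val {i j : Fin 3} (h : i ≠ j) (t : F) : (tv i j t).val = Matrix.transvection i j t := by
  simp [tv, h]

/-- The cyclic permutation. -/
def pC : SpecialLinearGroup (Fin 3) F := ⟨!![0, 0, 1; 1, 0, 0; 0, 1, 0], by simp [Matrix.det_fin_three]⟩

/-- `diag(ω, ω⁻¹, 1)`. -/
def pH (ω : Fˣ) : SpecialLinearGroup (Fin 3) F :=
  ⟨!![(ω : F), 0, 0; 0, (ω : F)⁻¹, 0; 0, 0, 1], by simp [Matrix.det_fin_three]⟩

theorem tv_add {i j : Fin 3} (h : i ≠ j) (x y : F) : tv i j (x + y) = tv i j x * tv i j y := by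
  refine Subtype.ext ?_
  show _ = (tv i j x).val * (tv i j y).val
  rw [tv_val h, tv_val h, tv_val h]
  exact (Matrix.transvection_mul_transvection_same _ _ h x y).symm

theorem pC_tv {i j : Fin 3} (h : i ≠ j) (t : F) : pC * tv i j t * pC⁻¹ = tv (i + 1) (j + 1) t := by
  rw [mul_inv_eq_iff_eq_mul]
  refine Subtype.ext ?_
  show (pC : SpecialLinearGroup (Fin 3) F).val * (tv i j t).val =
    (tv (i + 1) (j + 1) t).val * (pC : SpecialLinearGroup (Fin 3) F).val
  rw [tv_val h, tv_val (fun e => h (add_right_cancel e))]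
  ext a b
  fin_cases i <;> fin_cases j <;> first | exact absurd rfl h | skip
  all_goals fin_cases a <;> fin_cases b <;>
    simp [pC, Matrix.mul_apply, Fin.sum_univ_three, Matrix.transvection, Matrix.single_apply]

theorem pC_cube : pC * pC * pC = (1 : SpecialLinearGroup (Fin 3) F) := by
  refine Subtype.ext ?_
  show (pC : SpecialLinearGroup (Fin 3) F).val * pC.val * pC.val = 1
  ext a b
  fin_cases a <;> fin_cases b <;> simp [pC, Matrix.mul_apply, Fin.sum_univ_three]

theorem pC_inv : (pC : SpecialLinearGroup (Fin 3) F)⁻¹ = pC * pC :=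
  inv_eq_of_mul_eq_one_right (by rw [← mul_assoc]; exact pC_cube)

theorem pC_pC_inv : (pC * pC : SpecialLinearGroup (Fin 3) F)⁻¹ = pC := by rw [← pC_inv, inv_inv]

theorem pC_conj_pH (ω : Fˣ) : (pC * pH ω * pC⁻¹).val = !![1, 0, 0; 0, (ω : F), 0; 0, 0, (ω : F)⁻¹] := by
  rw [pC_inv]
  show pC.val * (pH ω).val * (pC.val * pC.val) = _
  ext a b
  fin_cases a <;> fin_cases b <;> simp [pC, pH, Matrix.mul_apply, Fin.sum_univ_three]

theorem pC_conj_conj_pH (ω : Fˣ) :
    (pC * pC * pH ω * (pC * pC)⁻¹).val = !![(ω : F)⁻¹, 0, 0; 0, 1, 0; 0, 0, (ω : F)] := by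
  rw [pC_pC_inv]
  show pC.val * pC.val * (pH ω).val * pC.val = _
  ext a b
  fin_cases a <;> fin_cases b <;> simp [pC, pH, Matrix.mul_apply, Fin.sum_univ_three]

theorem core_SL (ω : Fˣ) : Core ω (pH ω) pC (tv (0 : Fin 3) 1 : F → SpecialLinearGroup (Fin 3) F) := by
  have hω := ω.ne_zero
  refine ⟨pC_cube, ?_, tv_add (by decide), fun t => ?_, fun t => ?_⟩
  · refine Subtype.ext ?_
    show (pH ω).val * (pC * pH ω * pC⁻¹).val * (pC * pC * pH ω * (pC * pC)⁻¹).val = 1
    rw [pC_conj_pH, pC_conj_conj_pH]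
    ext a b
    fin_cases a <;> fin_cases b <;> simp [pH, Matrix.mul_apply, Fin.sum_univ_three, hω]
  · rw [mul_inv_eq_iff_eq_mul]
    refine Subtype.ext ?_
    show (pH ω).val * (tv 0 1 t).val = (tv 0 1 ((ω : F) ^ 2 * t)).val * (pH ω).val
    rw [tv_val (by decide), tv_val (by decide)]
    ext a b
    fin_cases a <;> fin_cases b <;>
      simp [pH, Matrix.mul_apply, Fin.sum_univ_three, Matrix.transvection, Matrix.single_apply]
    field_simp
  · rw [mul_inv_eq_iff_eq_mul]
    refine Subtype.ext ?_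
    show (pC * pC * pH ω * (pC * pC)⁻¹).val * (tv 0 1 t).val =
      (tv 0 1 ((ω : F)⁻¹ * t)).val * (pC * pC * pH ω * (pC * pC)⁻¹).val
    rw [tv_val (by decide), tv_val (by decide), pC_conj_conj_pH]
    ext a b
    fin_cases a <;> fin_cases b <;>
      simp [Matrix.mul_apply, Fin.sum_univ_three, Matrix.transvection, Matrix.single_apply]

theorem commute_pH (ω : Fˣ) : Commute (pH ω) (pC * pH ω * pC⁻¹) := by
  refine Subtype.ext ?_
  show (pH ω).val * (pC * pH ω * pC⁻¹).val = (pC * pH ω * pC⁻¹).val * (pH ω).val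
  rw [pC_conj_pH]
  ext a b
  fin_cases a <;> fin_cases b <;> simp [pH, Matrix.mul_apply, Fin.sum_univ_three]

theorem tv_comm {i j k l : Fin 3} (hij : i ≠ j) (hkl : k ≠ l) (hil : i ≠ l) (hjk : j ≠ k) (t u : F) :
    Commute (tv i j t) (tv k l u) := by
  refine Subtype.ext ?_
  show (tv i j t).val * (tv k l u).val = (tv k l u).val * (tv i j t).val
  rw [tv_val hij, tv_val hkl]
  exact (Cfsg.Agent.Lie.SLSteinberg.transvection_rels hij hkl hil t u).1 hjk

theorem tv_comm₁ {i j k : Fin 3} (hij : i ≠ j) (hjk : j ≠ k) (hik : i ≠ k) (t u : F) :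
    ⁅tv i j t, tv j k u⁆ = tv i k (t * u) := by
  rw [commutatorElement_def, mul_inv_eq_iff_eq_mul, mul_inv_eq_iff_eq_mul]
  refine Subtype.ext ?_
  show (tv i j t).val * (tv j k u).val = (tv i k (t * u)).val * (tv j k u).val * (tv i j t).val
  rw [tv_val hij, tv_val hjk, tv_val hik]
  exact (Cfsg.Agent.Lie.SLSteinberg.transvection_rels hij hjk hik t u).2 rfl

theorem Z_SL (s t : F) : Z pC (tv (0 : Fin 3) 1) s t = tv (0 : Fin 3) 2 (s * t) := by
  rw [Z, pC_tv (by decide)]
  exact tv_comm₁ (by decide) (by decide) (by decide) s t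

theorem heis_SL : Heis pC (tv (0 : Fin 3) 1 : F → SpecialLinearGroup (Fin 3) F) := by
  refine ⟨fun s t => mem_cen.2 fun x => ?_, fun k s t => by rw [Z_SL, Z_SL]; congr 1; ring⟩
  rw [Z_SL, pC_tv (by decide)]
  exact ⟨tv_comm (by decide) (by decide) (by decide) (by decide) _ _,
    (tv_comm (by decide) (by decide) (by decide) (by decide) _ _).symm⟩

theorem Y_SL (r : F) : Y pC (tv (0 : Fin 3) 1) r = tv (0 : Fin 3) 2 r := by rw [Y, Z_SL, mul_one]

theorem rel_SL (s t : F) : Rel pC (tv (0 : Fin 3) 1) s t := by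
  rw [Rel, Y_SL, Y_SL, show pC * pC * tv (0 : Fin 3) 2 t * (pC * pC)⁻¹ =
    pC * (pC * tv (0 : Fin 3) 2 t * pC⁻¹) * pC⁻¹ by group, pC_tv (by decide), pC_tv (by decide)]
  exact tv_comm₁ (by decide) (by decide) (by decide) s t

variable {G : Type*} [Group G]

/-- `x(t) y(-1/t) x(t)` in the first two rows and columns. -/
def wOf (c : G) (φ : F → G) (t : F) : G := φ t * (c * Y c φ (-t⁻¹) * c⁻¹) * φ t

theorem wOf_SL (t : F) (ht : t ≠ 0) :
    (wOf pC (tv (0 : Fin 3) 1) t).val = !![0, t, 0; -t⁻¹, 0, 0; 0, 0, 1] := by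
  rw [wOf, Y_SL, pC_tv (by decide)]
  show (tv 0 1 t).val * (tv (0 + 1) (2 + 1) (-t⁻¹)).val * (tv 0 1 t).val = _
  rw [tv_val (by decide), tv_val (by decide)]
  ext a b
  fin_cases a <;> fin_cases b <;>
    simp [Matrix.mul_apply, Fin.sum_univ_three, Matrix.transvection, Matrix.single_apply, ht]

theorem torus_word_SL (ω : Fˣ) :
    pH ω = wOf pC (tv (0 : Fin 3) 1) (ω : F) * wOf pC (tv (0 : Fin 3) 1) (-1) := by
  refine Subtype.ext ?_
  show _ = (wOf pC (tv (0 : Fin 3) 1) (ω : F)).val * (wOf pC (tv (0 : Fin 3) 1) (-1 : F)).val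
  rw [wOf_SL _ ω.ne_zero, wOf_SL _ (neg_ne_zero.2 one_ne_zero)]
  ext a b
  fin_cases a <;> fin_cases b <;> simp [pH, Matrix.mul_apply, Fin.sum_univ_three]

theorem perm_word_SL : (pC : SpecialLinearGroup (Fin 3) F) =
    wOf pC (tv (0 : Fin 3) 1) (-1) * (pC * wOf pC (tv (0 : Fin 3) 1) (-1) * pC⁻¹) := by
  rw [pC_inv]
  refine Subtype.ext ?_
  show _ = (wOf pC (tv (0 : Fin 3) 1) (-1 : F)).val *
    (pC.val * (wOf pC (tv (0 : Fin 3) 1) (-1 : F)).val * (pC.val * pC.val))
  rw [wOf_SL _ (neg_ne_zero.2 one_ne_zero)]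
  ext a b
  fin_cases a <;> fin_cases b <;> simp [pC, Matrix.mul_apply, Fin.sum_univ_three]

/-- What the relations have to give. -/
structure Full (ω : Fˣ) (h c : G) (φ : F → G) : Prop where
  core : Core ω h c φ
  heis : Heis c φ
  rel : ∀ s t, Rel c φ s t
  hword : h = wOf c φ (ω : F) * wOf c φ (-1)
  cword : c = wOf c φ (-1) * (c * wOf c φ (-1) * c⁻¹)

theorem bijective_of_full {ω : Fˣ} {h c : G} {φ : F → G} (D : Full ω h c φ)
    (π : G →* SpecialLinearGroup (Fin 3) F) (hφ : ∀ t, π (φ t) = tv 0 1 t) (hc : π c = pC)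
    (hgen : Subgroup.closure ({φ 1, c, h} : Set G) = ⊤) : Function.Bijective π := by
  obtain ⟨d, H, hR, hh, hcw⟩ := D
  have hY : ∀ t, π (Y c φ t) = tv 0 2 t := fun t => by
    rw [Y, Z, map_commutatorElement, map_mul, map_mul, map_inv, hφ, hφ, hc, pC_tv (by decide),
      show (0 : Fin 3) + 1 = 1 from rfl, show (1 : Fin 3) + 1 = 2 from rfl,
      tv_comm₁ (by decide) (by decide) (by decide), mul_one]
  have hpow : ∀ (i a b : Fin 3), a ≠ b → ∀ t : F,
      pC ^ (i : ℕ) * tv a b t * (pC ^ (i : ℕ))⁻¹ = tv (a + i) (b + i) t := by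
    intro i a b hab t
    fin_cases i
    · simp
    · show pC ^ 1 * tv a b t * (pC ^ 1)⁻¹ = tv (a + 1) (b + 1) t
      rw [pow_one, pC_tv hab]
    · show pC ^ 2 * tv a b t * (pC ^ 2)⁻¹ = tv (a + 2) (b + 2) t
      rw [pow_two, show pC * pC * tv a b t * (pC * pC)⁻¹ = pC * (pC * tv a b t * pC⁻¹) * pC⁻¹ by group,
        pC_tv hab, pC_tv (fun e => hab (add_right_cancel e)), add_assoc, add_assoc,
        show (1 : Fin 3) + 1 = 2 from rfl]
  have hθ : ∀ i j : Fin 3, i ≠ j → ∀ t, π (root c φ i j t) = tv i j t := by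
    intro i j hij t
    obtain ⟨b, rfl⟩ : ∃ b, j = b + i := ⟨j - i, (sub_add_cancel _ _).symm⟩
    have hb : b ≠ 0 := fun hb => hij (by rw [hb, zero_add])
    rw [show root c φ i (b + i) t = c ^ (i : ℕ) * root c φ 0 b t * (c ^ (i : ℕ))⁻¹ by
      rw [← root_shift d i 0 b t, zero_add], map_mul, map_mul, map_inv, map_pow, hc]
    have : π (root c φ 0 b t) = tv 0 b t := by
      fin_cases b
      · exact absurd rfl hb
      · exact (congrArg π (root_zero_one t)).trans (hφ t)
      · exact (congrArg π (root_zero_two t)).trans (hY t)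
    rw [this, hpow _ _ _ (Ne.symm hb), zero_add]
  let P : Cfsg.Agent.Lie.SLSteinberg.SLPre F 3 G :=
    { X := root c φ
      add := fun i j hij t u => by
        simp only [root]
        split_ifs
        · rw [d.add]; group
        · rw [Y_add d H]; group
      comm₀ := comm₀_all d H
      comm₁ := comm₁_all d H hR }
  let A : Cfsg.Agent.Lie.SLSteinberg.SLSt F 3 G :=
    { toSLPre := P
      θ := π
      θX := fun i j hij t => by
        show (π (root c φ i j t)).val = _
        rw [hθ i j hij, tv_val hij]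
      rel := P.rel_of_three le_rfl }
  refine Cfsg.Agent.Lie.SLSteinberg.bijective (by norm_num) A ?_
  set M := Subgroup.closure {g | ∃ i j, i ≠ j ∧ ∃ u, g = A.X i j u}
  have m1 : ∀ t, φ t ∈ M := fun t => Subgroup.subset_closure ⟨0, 1, by decide, t, (root_zero_one t).symm⟩
  have m2 : ∀ t, c * φ t * c⁻¹ ∈ M := fun t =>
    Subgroup.subset_closure ⟨1, 2, by decide, t, by simp [A, P, root]⟩
  have m3 : ∀ t, c * Y c φ t * c⁻¹ ∈ M := fun t =>
    Subgroup.subset_closure ⟨1, 0, by decide, t, by simp [A, P, root]⟩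
  have m4 : ∀ t, c * c * Y c φ t * (c * c)⁻¹ ∈ M := fun t =>
    Subgroup.subset_closure ⟨2, 1, by decide, t, by simp [A, P, root, pow_two]⟩
  have mw : ∀ t, wOf c φ t ∈ M := fun t => M.mul_mem (M.mul_mem (m1 t) (m3 _)) (m1 t)
  have mw' : ∀ t, c * wOf c φ t * c⁻¹ ∈ M := fun t => by
    rw [wOf, show c * (φ t * (c * Y c φ (-t⁻¹) * c⁻¹) * φ t) * c⁻¹ =
      (c * φ t * c⁻¹) * (c * c * Y c φ (-t⁻¹) * (c * c)⁻¹) * (c * φ t * c⁻¹) by group]
    exact M.mul_mem (M.mul_mem (m2 t) (m4 _)) (m2 t)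
  rw [eq_top_iff, ← hgen, Subgroup.closure_le]
  rintro x (rfl | rfl | rfl)
  · exact m1 1
  · show x ∈ M
    rw [hcw]; exact M.mul_mem (mw _) (mw' _)
  · show x ∈ M
    rw [hh]; exact M.mul_mem (mw _) (mw _)

/-! ### The relations -/

/-- First generator. -/
def gu : FreeGroup (Fin 4) := FreeGroup.of 0
/-- Second generator. -/
def gc : FreeGroup (Fin 4) := FreeGroup.of 1
/-- Third generator. -/
def gh : FreeGroup (Fin 4) := FreeGroup.of 2
/-- Conjugate of the third generator. -/
def ga : FreeGroup (Fin 4) := gc * gc * gh * (gc * gc)⁻¹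

variable {p : ℕ}

/-- The word for `φ t`. -/
def gφ (P : F → (ZMod p)[X]) (t : F) : FreeGroup (Fin 4) := pword (P t) ga gu

/-- The relations needed in every case. -/
def common (P : F → (ZMod p)[X]) (ω : Fˣ) : List (FreeGroup (Fin 4)) :=
  [gc * gc * gc, ⁅gh, gc * gh * gc⁻¹⁆, gh * (gc * gh * gc⁻¹) * ga,
   gh * gu * gh⁻¹ * (gφ P ((ω : F) ^ 2))⁻¹, ⁅gφ P 1, Z gc (gφ P) 1 1⁆,
   ⁅Y gc (gφ P) 1, gc * gc * Y gc (gφ P) 1 * (gc * gc)⁻¹⁆ * (gφ P 1)⁻¹,
   gh⁻¹ * (wOf gc (gφ P) (ω : F) * wOf gc (gφ P) (-1)),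
   gc⁻¹ * (wOf gc (gφ P) (-1) * (gc * wOf gc (gφ P) (-1) * gc⁻¹)), FreeGroup.of 3]

theorem pword_of_conj {H : Type*} [Group H] [Fact p.Prime] [Algebra (ZMod p) F] {ψ : F → H} {A : H}
    {s : F} (hadd : ∀ x y, ψ (x + y) = ψ x * ψ y) (hA : ∀ t, A * ψ t * A⁻¹ = ψ (s * t))
    (P : (ZMod p)[X]) : pword P A (ψ 1) = ψ (aeval s P) := by
  have h0 : ψ 0 = 1 := by
    have := hadd 0 0
    rw [add_zero] at this
    exact left_eq_mul.1 this
  have hpow : ∀ (n : ℕ) x, ψ x ^ n = ψ ((n : F) * x) := by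
    intro n x
    induction n with
    | zero => rw [pow_zero, Nat.cast_zero, zero_mul, h0]
    | succ n ih => rw [pow_succ, ih, ← hadd, Nat.cast_succ, add_mul, one_mul]
  have hApow : ∀ (n : ℕ) t, A ^ n * ψ t * (A ^ n)⁻¹ = ψ (s ^ n * t) := by
    intro n
    induction n with
    | zero => intro t; simp
    | succ n ih =>
      intro t
      rw [pow_succ' A, show A * A ^ n * ψ t * (A * A ^ n)⁻¹ = A * (A ^ n * ψ t * (A ^ n)⁻¹) * A⁻¹ by group,
        ih, hA, ← mul_assoc, ← pow_succ']
  rw [aeval_eq_sum_range]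
  unfold pword
  generalize P.natDegree + 1 = k
  induction k with
  | zero => rw [List.range_zero, List.map_nil, List.prod_nil, Finset.sum_range_zero, h0]
  | succ k ih =>
    rw [List.range_succ, List.map_append, List.prod_append, ih, Finset.sum_range_succ, hadd]
    congr 1
    rw [List.map_cons, List.map_nil, List.prod_singleton, hpow, hApow]
    congr 1
    rw [Algebra.smul_def, show algebraMap (ZMod p) F (P.coeff k) = ((P.coeff k).val : F) by
      rw [← map_natCast (algebraMap (ZMod p) F), ZMod.natCast_zmod_val]]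
    ring

section

variable {H : Type*} [Group H]

theorem map_Z (f : G →* H) (c : G) (ψ : F → G) (s t : F) :
    f (Z c ψ s t) = Z (f c) (fun x => f (ψ x)) s t := by
  simp only [Z, map_commutatorElement, map_mul, map_inv]

theorem map_Y (f : G →* H) (c : G) (ψ : F → G) (r : F) :
    f (Y c ψ r) = Y (f c) (fun x => f (ψ x)) r := map_Z f c ψ r 1

theorem map_wOf (f : G →* H) (c : G) (ψ : F → G) (t : F) :
    f (wOf c ψ t) = wOf (f c) (fun x => f (ψ x)) t := by
  simp only [wOf, map_mul, map_inv, map_Y]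

end

variable [Fact p.Prime] [Algebra (ZMod p) F]

/-- The evaluation in `SL₃`. -/
def ev (ω : Fˣ) : FreeGroup (Fin 4) →* SpecialLinearGroup (Fin 3) F :=
  FreeGroup.lift ![tv 0 1 1, pC, pH ω, 1]

theorem ev_gφ (ω : Fˣ) {P : F → (ZMod p)[X]} (hP : ∀ t, aeval (ω : F)⁻¹ (P t) = t) (t : F) :
    ev ω (gφ P t) = tv 0 1 t := by
  rw [gφ, map_pword, ga]
  simp only [map_mul, map_inv, ev, gu, gc, gh, FreeGroup.lift_apply_of, Matrix.cons_val_zero,
    Matrix.cons_val_one, Matrix.cons_val_two, Matrix.tail_cons, Matrix.head_cons]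
  rw [pword_of_conj (tv_add (by decide)) (core_SL ω).conja, hP]

theorem ev_common (ω : Fˣ) {P : F → (ZMod p)[X]} (hP : ∀ t, aeval (ω : F)⁻¹ (P t) = t) :
    ∀ r ∈ common P ω, ev ω r = 1 := by
  have ec : ev ω gc = pC := by simp [ev, gc]
  have eh : ev ω gh = pH ω := by simp [ev, gh]
  have eu : ev ω gu = tv 0 1 1 := by simp [ev, gu]
  have eφ : (fun x => ev ω (gφ P x)) = tv 0 1 := funext (ev_gφ ω hP)
  have ea : ev ω ga = pC * pC * pH ω * (pC * pC)⁻¹ := by rw [ga]; simp only [map_mul, map_inv, ec, eh]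
  intro r hr
  simp only [common, List.mem_cons, List.mem_singleton, List.not_mem_nil, or_false] at hr
  rcases hr with rfl | rfl | rfl | rfl | rfl | rfl | rfl | rfl | rfl
  · simp only [map_mul, ec]; exact pC_cube
  · simp only [map_commutatorElement, map_mul, map_inv, ec, eh]
    exact commutatorElement_eq_one_iff_mul_comm.2 (commute_pH ω).eq
  · simp only [map_mul, map_inv, ec, eh, ea]; exact (core_SL ω).prod
  · simp only [map_mul, map_inv, eh, eu, ev_gφ ω hP]
    rw [(core_SL ω).conjh, mul_one, mul_inv_cancel]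
  · rw [map_commutatorElement, map_Z, eφ, ec, ev_gφ ω hP]
    exact commutatorElement_eq_one_iff_mul_comm.2 ((mem_cen.1 (heis_SL.cent 1 1)) 1).1.eq
  · simp only [map_commutatorElement, map_mul, map_inv, map_Y, eφ, ec, ev_gφ ω hP]
    rw [rel_SL (1 : F) 1, mul_one, mul_inv_cancel]
  · simp only [map_mul, map_inv, map_wOf, eφ, ec, eh]
    rw [← torus_word_SL, inv_mul_cancel]
  · simp only [map_mul, map_inv, map_wOf, eφ, ec]
    rw [← perm_word_SL, inv_mul_cancel]
  · simp [ev]

/-- The common part of both cases: from relations to the isomorphism. -/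
theorem presents_of {ω : Fˣ} {P : F → (ZMod p)[X]} (hP : ∀ t, aeval (ω : F)⁻¹ (P t) = t)
    (E : List (FreeGroup (Fin 4))) (hE : ∀ r ∈ E, ev ω r = 1) (hlen : E.length ≤ 5)
    (hG : ∀ (G : Type) [Group G] (f : FreeGroup (Fin 4) →* G), (∀ r ∈ E, f r = 1) →
      AbData p (f ga) (f gu) ∧ pword (minpoly (ZMod p) (ω : F)⁻¹) (f ga) (f gu) = 1 ∧
      ∀ φ : F → G, Core ω (f gh) (f gc) φ → (∀ t, f (gφ P t) = φ t) →
        Commute (φ 1) (Z (f gc) φ 1 1) → Rel (f gc) φ 1 1 →
        Heis (f gc) φ ∧ ∀ s t, Rel (f gc) φ s t) :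
    ∃ rels : Finset (FreeGroup (Fin 4)), rels.card ≤ 14 ∧ FreeGroup.of 3 ∈ rels ∧
      ∃ e : PresentedGroup (↑rels : Set (FreeGroup (Fin 4))) ≃* SpecialLinearGroup (Fin 3) F,
        e (PresentedGroup.of 1) = pC := by
  classical
  set rels := (common P ω ++ E).toFinset with hrels
  refine ⟨rels, le_trans (List.toFinset_card_le _) ?_, by simp [hrels, common], ?_⟩
  · rw [List.length_append, show (common P ω).length = 9 from rfl]; omega
  have hev : ∀ r ∈ (rels : Set (FreeGroup (Fin 4))), ev ω r = 1 := by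
    intro r hr
    rw [hrels, Finset.mem_coe, List.mem_toFinset, List.mem_append] at hr
    exact hr.elim (ev_common ω hP r) (hE r)
  refine ⟨MulEquiv.ofBijective (PresentedGroup.toGroup (f := ![tv 0 1 1, pC, pH ω, 1]) hev) ?_,
    PresentedGroup.toGroup.of hev⟩
  set π := PresentedGroup.toGroup (f := ![tv 0 1 1, pC, pH ω, 1]) hev
  let f := PresentedGroup.mk (rels : Set (FreeGroup (Fin 4)))
  have hπ : ∀ x, π (f x) = ev ω x := fun x => rfl
  have hone : ∀ r ∈ common P ω ++ E, f r = 1 := fun r hr =>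
    PresentedGroup.one_of_mem (Finset.mem_coe.2 (List.mem_toFinset.2 hr))
  obtain ⟨hd, hf, hrest⟩ := hG _ f (fun r hr => hone r (List.mem_append_right _ hr))
  have hcm : ∀ r ∈ common P ω, f r = 1 := fun r hr => hone r (List.mem_append_left _ hr)
  obtain ⟨φ, φadd, φP⟩ := hd.exists_phi (fun t => ⟨P t, hP t⟩) hf
  have φt : ∀ t, f (gφ P t) = φ t := fun t => by rw [gφ, map_pword, ← φP, hP]
  have φfun : (fun x => f (gφ P x)) = φ := funext φt
  have φ1 : φ 1 = f gu := by rw [← map_one (aeval (R := ZMod p) (ω : F)⁻¹), φP, pword_one]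
  have hc3 : f gc * f gc * f gc = 1 := by
    have := hcm (gc * gc * gc) (by simp [common])
    rwa [map_mul, map_mul] at this
  have hhh : Commute (f gh) (f gc * f gh * (f gc)⁻¹) := by
    have := hcm ⁅gh, gc * gh * gc⁻¹⁆ (by simp [common])
    simp only [map_commutatorElement, map_mul, map_inv] at this
    exact commutatorElement_eq_one_iff_mul_comm.1 this
  have hprod : f gh * (f gc * f gh * (f gc)⁻¹) * f ga = 1 := by
    have := hcm (gh * (gc * gh * gc⁻¹) * ga) (by simp [common])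
    simpa only [map_mul, map_inv] using this
  have hga : f ga = f gc * f gc * f gh * (f gc * f gc)⁻¹ := by rw [ga]; simp only [map_mul, map_inv]
  have hha : Commute (f gh) (f ga) := by
    rw [eq_inv_of_mul_eq_one_right hprod]
    exact ((Commute.refl (f gh)).mul_right hhh).inv_right
  have hg2 : f gh * f gu * (f gh)⁻¹ = pword (P ((ω : F) ^ 2)) (f ga) (f gu) := by
    have := hcm (gh * gu * gh⁻¹ * (gφ P ((ω : F) ^ 2))⁻¹) (by simp [common])
    rwa [map_mul, map_inv, mul_inv_eq_one, map_mul, map_mul, map_inv, gφ, map_pword] at this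
  have core : Core ω (f gh) (f gc) φ := by
    refine ⟨hc3, by rw [← hga]; exact hprod, φadd, fun t => ?_, fun t => ?_⟩
    · rw [← hP t, φP, hd.conj_pword hha hg2, ← φP, map_mul, hP]
    · rw [← hga, ← hP t, φP]
      have := hd.conj_a_pow 1 (P t)
      rw [pow_one, pow_one] at this
      rw [this, ← φP, map_mul, aeval_X]
  have hu1 : Commute (φ 1) (Z (f gc) φ 1 1) := by
    have := hcm ⁅gφ P 1, Z gc (gφ P) 1 1⁆ (by simp [common])
    rw [map_commutatorElement, map_Z, φfun, φt] at this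
    exact commutatorElement_eq_one_iff_mul_comm.1 this
  have hr1 : Rel (f gc) φ 1 1 := by
    have := hcm (⁅Y gc (gφ P) 1, gc * gc * Y gc (gφ P) 1 * (gc * gc)⁻¹⁆ * (gφ P 1)⁻¹) (by simp [common])
    rw [map_mul, map_inv, mul_inv_eq_one] at this
    simp only [map_commutatorElement, map_mul, map_inv, map_Y, φfun, φt] at this
    rw [Rel, mul_one]; exact this
  obtain ⟨H, hR⟩ := hrest φ core φt hu1 hr1
  have hhw : f gh = wOf (f gc) φ (ω : F) * wOf (f gc) φ (-1) := by
    have := hcm (gh⁻¹ * (wOf gc (gφ P) (ω : F) * wOf gc (gφ P) (-1))) (by simp [common])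
    simp only [map_mul, map_inv, map_wOf, φfun] at this
    exact inv_mul_eq_one.1 this
  have hcw : f gc = wOf (f gc) φ (-1) * (f gc * wOf (f gc) φ (-1) * (f gc)⁻¹) := by
    have := hcm (gc⁻¹ * (wOf gc (gφ P) (-1) * (gc * wOf gc (gφ P) (-1) * gc⁻¹))) (by simp [common])
    simp only [map_mul, map_inv, map_wOf, φfun] at this
    exact inv_mul_eq_one.1 this
  refine bijective_of_full ⟨core, H, hR, hhw, hcw⟩ π (fun t => ?_) ?_ ?_
  · rw [← φt, hπ, ev_gφ ω hP]
  · rw [hπ]; simp [ev, gc]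
  · refine eq_top_iff.2 fun x _ => PresentedGroup.generated_by _ _ (fun j => ?_) x
    fin_cases j
    · exact Subgroup.subset_closure (Or.inl φ1.symm)
    · exact Subgroup.subset_closure (Or.inr (Or.inl rfl))
    · exact Subgroup.subset_closure (Or.inr (Or.inr rfl))
    · have h3 : f (FreeGroup.of 3) = 1 := hcm _ (by simp [common])
      show f (FreeGroup.of 3) ∈ _
      rw [h3]; exact Subgroup.one_mem _

theorem ev_min (ω : Fˣ) : ev ω (pword (minpoly (ZMod p) (ω : F)⁻¹) ga gu) = 1 := by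
  rw [map_pword]
  simp only [ga, map_mul, map_inv, ev, gu, gc, gh, FreeGroup.lift_apply_of, Matrix.cons_val_zero,
    Matrix.cons_val_one, Matrix.cons_val_two, Matrix.tail_cons, Matrix.head_cons]
  rw [pword_of_conj (tv_add (by decide)) (core_SL ω).conja, minpoly.aeval]
  exact (core_SL ω).φ_zero

theorem ev_tau (ω : Fˣ) {P : F → (ZMod p)[X]} (hP : ∀ t, aeval (ω : F)⁻¹ (P t) = t) :
    ev ω ⁅gh * (gc * gh * gc⁻¹)⁻¹, Z gc (gφ P) 1 1⁆ = 1 := by
  have hω := ω.ne_zero
  have eφ : (fun x => ev ω (gφ P x)) = tv 0 1 := funext (ev_gφ ω hP)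
  have ec : ev ω gc = pC := by simp [ev, gc]
  have eh : ev ω gh = pH ω := by simp [ev, gh]
  simp only [map_commutatorElement, map_mul, map_inv, map_Z, eφ, ec, eh]
  have hs := (core_SL ω).scales_h.mul ((core_SL ω).scales_h₂.inv (inv_ne_zero hω) (pow_ne_zero 2 hω))
  have e := hs.conj_Z 1 1
  rw [Z_SL (F := F) ((_ : F) * 1), show (ω : F) ^ 2 * ((ω : F)⁻¹)⁻¹ * 1 * ((ω : F)⁻¹ * ((ω : F) ^ 2)⁻¹ * 1) = 1 * 1 by
    field_simp, ← Z_SL (1 : F) 1] at e
  exact commutatorElement_eq_one_iff_mul_comm.2 (mul_inv_eq_iff_eq_mul.1 e)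

theorem eq_four_facts (hq : Fintype.card F = 4) {ω : Fˣ} (hgen : ∀ x : Fˣ, ∃ n : ℕ, x = ω ^ n)
    (hord : orderOf ω = 3) : (2 : F) = 0 ∧ (ω : F) * (ω : F) = 1 + (ω : F) ∧
      AddSubgroup.closure ({1, (ω : F)} : Set F) = ⊤ := by
  have h4 : (4 : F) = 0 := by
    have := FiniteField.cast_card_eq_zero F
    rw [hq] at this
    exact_mod_cast this
  have h2 : (2 : F) = 0 := by
    have : (2 : F) * 2 = 0 := by rw [← h4]; norm_num
    exact mul_self_eq_zero.1 this
  have h3 : (ω : F) ^ 3 = 1 := by rw [← Units.val_pow_eq_pow_val, ← hord, pow_orderOf_eq_one, Units.val_one]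
  have h1 : (ω : F) - 1 ≠ 0 := fun e => by
    rw [sub_eq_zero, Units.val_eq_one] at e
    rw [e, orderOf_one] at hord
    norm_num at hord
  have hω2 : (ω : F) * (ω : F) = 1 + (ω : F) := by
    have : ((ω : F) - 1) * ((ω : F) * ω + ω + 1) = 0 := by linear_combination h3
    linear_combination (mul_eq_zero.1 this).resolve_left h1 - (1 + (ω : F)) * h2
  refine ⟨h2, hω2, eq_top_iff.2 fun x _ => ?_⟩
  set K := AddSubgroup.closure ({1, (ω : F)} : Set F)
  have k1 : (1 : F) ∈ K := AddSubgroup.subset_closure (Or.inl rfl)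
  have kω : (ω : F) ∈ K := AddSubgroup.subset_closure (Or.inr rfl)
  rcases eq_or_ne x 0 with rfl | hx
  · exact K.zero_mem
  obtain ⟨n, hn⟩ := hgen (Units.mk0 x hx)
  rw [← Units.val_mk0 hx, hn, ← pow_mod_orderOf, hord]
  have : n % 3 < 3 := Nat.mod_lt _ (by norm_num)
  interval_cases (n % 3)
  · simpa using k1
  · simpa using kω
  · rw [pow_two, Units.val_mul, hω2]; exact K.add_mem k1 kω

theorem exists_presentation_of_three :
    ∃ rels : Finset (FreeGroup (Fin 4)), rels.card ≤ 14 ∧ FreeGroup.of 3 ∈ rels ∧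
      ∃ e : PresentedGroup (↑rels : Set (FreeGroup (Fin 4))) ≃* SpecialLinearGroup (Fin 3) F,
        e (PresentedGroup.of 1) = pC := by
  classical
  obtain ⟨p, hpc⟩ := CharP.exists F
  obtain ⟨kk, hp, hk⟩ := FiniteField.card F p
  haveI := Fact.mk hp
  letI : Algebra (ZMod p) F := ZMod.algebra F p
  obtain ⟨ω, hω⟩ := IsCyclic.exists_monoid_generator (α := Fˣ)
  have hgen : ∀ x : Fˣ, ∃ n : ℕ, x = ω ^ n := fun x => by
    obtain ⟨n, hn⟩ := hω x
    exact ⟨n, hn.symm⟩
  have hord : orderOf ω = Fintype.card F - 1 := by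
    rw [orderOf_eq_card_of_forall_mem_zpowers (fun x => by
      obtain ⟨n, rfl⟩ := hgen x
      exact Subgroup.mem_zpowers_iff.2 ⟨n, zpow_natCast ω n⟩), Nat.card_units, Nat.card_eq_fintype_card]
  have hordF : orderOf (ω : F) = Nat.card F - 1 := by rw [orderOf_units, hord, Nat.card_eq_fintype_card]
  set s := (ω : F)⁻¹ with hsdef
  have hstop : ∀ M : Subfield F, s ∈ M → M = ⊤ := fun M hM =>
    RegUnip.top_of_sq_mem ω.ne_zero hordF (pow_mem (by simpa [hsdef] using M.inv_mem hM) 2)
  choose P hP using exists_aeval_of_generates (p := p) hstop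
  have hA : ∀ m, ev ω (cj ga gu m) = tv 0 1 (s ^ m) := by
    intro m
    rw [← pword_X_pow (p := p), map_pword]
    simp only [ga, map_mul, map_inv, ev, gu, gc, gh, FreeGroup.lift_apply_of, Matrix.cons_val_zero,
      Matrix.cons_val_one, Matrix.cons_val_two, Matrix.tail_cons, Matrix.head_cons]
    rw [pword_of_conj (tv_add (by decide)) (core_SL ω).conja, map_pow, aeval_X]
  have evu : ev ω gu = tv 0 1 1 := by simp [ev, gu]
  have tv0 : tv 0 1 (0 : F) = (1 : SpecialLinearGroup (Fin 3) F) := (core_SL ω).φ_zero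
  have evp : ev ω (gu ^ p) = 1 := by
    have : ∀ n : ℕ, tv (0 : Fin 3) 1 (1 : F) ^ n = tv 0 1 (n : F) := by
      intro n
      induction n with
      | zero => rw [pow_zero, Nat.cast_zero, tv0]
      | succ n ih => rw [pow_succ, ih, Nat.cast_succ, tv_add (by decide)]
    rw [map_pow, evu, this, CharP.cast_eq_zero, tv0]
  have evcomm : ∀ m, ev ω ⁅gu, cj ga gu m⁆ = 1 := fun m => by
    rw [map_commutatorElement, hA, evu, commutatorElement_eq_one_iff_mul_comm, ← tv_add (by decide),
      ← tv_add (by decide), add_comm]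
  by_cases hq : Fintype.card F = 4
  · -- four elements
    obtain rfl : p = 2 := by
      refine (Nat.prime_dvd_prime_iff_eq hp Nat.prime_two).1 (hp.dvd_of_dvd_pow (n := 2) ?_)
      rw [show 2 ^ 2 = Fintype.card F by rw [hq]; rfl, hk]
      exact dvd_pow_self p kk.pos.ne'
    obtain ⟨h2, hω2, hspan⟩ := eq_four_facts hq hgen (by rw [hord, hq])
    have hs2 : s = 1 + (ω : F) := by
      rw [hsdef]; refine inv_eq_of_mul_eq_one_right ?_
      linear_combination hω2 + (ω : F) * h2
    have hsum : (1 : F) + s + s ^ 2 = 0 := by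
      rw [hs2, pow_two]; linear_combination hω2 + (2 + 2 * (ω : F)) * h2
    refine presents_of hP [gu ^ 2, gu * cj ga gu 1 * cj ga gu 2,
      ⁅Y gc (gφ P) (ω : F), gc * gc * Y gc (gφ P) 1 * (gc * gc)⁻¹⁆ * (gφ P (ω : F))⁻¹,
      Z gc (gφ P) (ω : F) 1 * (Z gc (gφ P) 1 1 * Z gc (gφ P) (ω : F) (ω : F))⁻¹,
      Z gc (gφ P) 1 (ω : F) * (Z gc (gφ P) 1 1 * Z gc (gφ P) (ω : F) (ω : F))⁻¹] ?_ (by simp) ?_
    · have ec : ev ω gc = pC := by simp [ev, gc]
      have eφ : (fun x => ev ω (gφ P x)) = tv 0 1 := funext (ev_gφ ω hP)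
      intro r hr
      simp only [List.mem_cons, List.mem_singleton, List.not_mem_nil, or_false] at hr
      rcases hr with rfl | rfl | rfl | rfl | rfl
      · exact evp
      · rw [map_mul, map_mul, evu, hA, hA, ← tv_add (by decide), ← tv_add (by decide), pow_one, hsum, tv0]
      · simp only [map_commutatorElement, map_mul, map_inv, map_Y, eφ, ec, ev_gφ ω hP]
        rw [rel_SL (ω : F) 1, mul_one, mul_inv_cancel]
      all_goals
        simp only [map_mul, map_inv, map_Z, eφ, ec, Z_SL, ← tv_add (show (0 : Fin 3) ≠ 2 by decide),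
          mul_one, one_mul]
        rw [mul_inv_eq_one]
        congr 1
        linear_combination -hω2 - h2
    intro G _ f hf
    have hu2 : f gu * f gu = 1 := by
      have := hf (gu ^ 2) (by simp)
      rwa [map_pow, pow_two] at this
    have hcj : ∀ m, f (cj ga gu m) = cj (f ga) (f gu) m := fun m => by simp [cj]
    have h12 : f gu * cj (f ga) (f gu) 1 * cj (f ga) (f gu) 2 = 1 := by
      have := hf (gu * cj ga gu 1 * cj ga gu 2) (by simp)
      rwa [map_mul, map_mul, hcj, hcj] at this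
    have hsq : ∀ m, cj (f ga) (f gu) m * cj (f ga) (f gu) m = 1 := fun m => by
      calc cj (f ga) (f gu) m * cj (f ga) (f gu) m = f ga ^ m * (f gu * f gu) * (f ga ^ m)⁻¹ := by
            simp [cj, mul_assoc]
        _ = 1 := by rw [hu2, mul_one, mul_inv_cancel]
    have hc2 : f gu * cj (f ga) (f gu) 1 = cj (f ga) (f gu) 2 := by
      rw [eq_inv_of_mul_eq_one_left h12]
      exact inv_eq_of_mul_eq_one_right (hsq 2)
    have hd : AbData 2 (f ga) (f gu) := by
      refine ⟨by rw [pow_two, hu2], commute_all_of_shift (b := f ga ^ 2) ((Commute.refl _).pow_right 2)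
        hc2.symm ?_⟩
      show _ * _ = _ * _
      have e := hsq 2
      rw [← hc2] at e
      calc f gu * cj (f ga) (f gu) 1 = (f gu * cj (f ga) (f gu) 1)⁻¹ :=
            (inv_eq_of_mul_eq_one_right e).symm
        _ = _ := by rw [_root_.mul_inv_rev, inv_eq_of_mul_eq_one_right hu2, inv_eq_of_mul_eq_one_right (hsq 1)]
    refine ⟨hd, ?_, fun φ core φt hu hr => ?_⟩
    · have hmin : minpoly (ZMod 2) s = 1 + X + X ^ 2 := by
        refine (minpoly.unique _ _ (by monicity!) (by simp [hsum]) fun Q hQ hQ0 => ?_).symm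
        by_contra hlt
        push Not at hlt
        have hdeg : (1 + X + X ^ 2 : (ZMod 2)[X]).degree = 2 := by compute_degree!
        rw [hdeg] at hlt
        have hle : Q.natDegree ≤ 1 := by
          rw [Polynomial.degree_eq_natDegree hQ.ne_zero] at hlt
          exact Nat.le_of_lt_succ (by exact_mod_cast hlt)
        rw [Polynomial.eq_X_add_C_of_natDegree_le_one hle] at hQ0
        simp only [map_add, map_mul, aeval_C, aeval_X] at hQ0
        have hcase : ∀ c : ZMod 2, c = 0 ∨ c = 1 := Fin.forall_fin_two.2 ⟨Or.inl rfl, Or.inr rfl⟩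
        rcases hcase (Q.coeff 1) with e1 | e1 <;> rcases hcase (Q.coeff 0) with e0 | e0 <;>
          rw [e1, e0] at hQ0 <;> simp only [map_zero, map_one, zero_mul, one_mul, zero_add, add_zero] at hQ0
        · exact hQ.ne_zero (by rw [Polynomial.eq_X_add_C_of_natDegree_le_one hle, e1, e0]; simp)
        · exact one_ne_zero hQ0
        · rw [hQ0] at hsum; simp at hsum
        · have h1 : (1 : F) = 0 := by linear_combination hsum - s * hQ0
          exact one_ne_zero h1
      rw [hmin, hd.pword_add, hd.pword_add, pword_one, pword_X_pow,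
        show pword (X : (ZMod 2)[X]) (f ga) (f gu) = cj (f ga) (f gu) 1 by
          rw [← pword_X_pow (p := 2), pow_one]]
      exact h12
    · have φfun : (fun x => f (gφ P x)) = φ := funext φt
      have hr' : Rel (f gc) φ (ω : F) 1 := by
        have := hf (⁅Y gc (gφ P) (ω : F), gc * gc * Y gc (gφ P) 1 * (gc * gc)⁻¹⁆ * (gφ P (ω : F))⁻¹) (by simp)
        rw [map_mul, map_inv, mul_inv_eq_one] at this
        simp only [map_commutatorElement, map_mul, map_inv, map_Y, φfun, φt] at this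
        rw [Rel, mul_one]; exact this
      have hW := hf (Z gc (gφ P) (ω : F) 1 * (Z gc (gφ P) 1 1 * Z gc (gφ P) (ω : F) (ω : F))⁻¹) (by simp)
      have hW' := hf (Z gc (gφ P) 1 (ω : F) * (Z gc (gφ P) 1 1 * Z gc (gφ P) (ω : F) (ω : F))⁻¹) (by simp)
      rw [map_mul, map_inv, mul_inv_eq_one, map_mul, map_Z, map_Z, map_Z, φfun] at hW hW'
      have H := heis_four core h2 hω2 hspan hu hW hW'
      exact ⟨H, rel_four core H hω2 h2 hspan hr hr'⟩
  · -- the general case
    have hne4 : Nat.card F ≠ 4 := by rwa [Nat.card_eq_fintype_card]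
    have h3top : ∀ M : Subfield F, (ω : F) ^ 3 ∈ M → M = ⊤ := by
      intro M hM
      by_contra hne
      have h1 := RegUnip.natCard_subfield_sq_le hne
      have hM2 : 1 < Nat.card M := Finite.one_lt_card
      have h3 : ((ω : F) ^ 3) ^ (Nat.card M - 1) = 1 := by
        have := RegUnip.subfield_pow_natCard hM
        rwa [show Nat.card M = Nat.card M - 1 + 1 by omega, pow_succ,
          mul_eq_right₀ (pow_ne_zero 3 ω.ne_zero)] at this
      rw [← pow_mul] at h3
      have := Nat.le_of_dvd (by omega) (orderOf_dvd_of_pow_eq_one h3)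
      rw [hordF] at this
      rcases (show Nat.card M = 2 ∨ 3 ≤ Nat.card M by omega) with h | h
      · rw [h] at this h1; omega
      · have := Nat.mul_le_mul_right (Nat.card M) h
        rw [pow_two] at h1
        omega
    have hspan : AddSubgroup.closure (Set.range fun n : ℕ => ((ω : F) ^ 3) ^ n) = ⊤ := by
      refine eq_top_iff.2 fun x _ => ?_
      obtain ⟨Q, rfl⟩ := exists_aeval_of_generates (p := p) h3top x
      rw [aeval_eq_sum_range]
      refine AddSubgroup.sum_mem _ fun i _ => ?_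
      rw [Algebra.smul_def, show algebraMap (ZMod p) F (Q.coeff i) = ((Q.coeff i).val : F) by
        rw [← map_natCast (algebraMap (ZMod p) F), ZMod.natCast_zmod_val], ← nsmul_eq_mul]
      exact AddSubgroup.nsmul_mem _ (AddSubgroup.subset_closure
        (k := Set.range fun n : ℕ => ((ω : F) ^ 3) ^ n) (Set.mem_range_self i)) _
    have hneg : (2 : F) ≠ 0 → ∃ n : ℕ, ((ω : F) ^ 3) ^ n = -1 := by
      intro _
      obtain ⟨n, hn⟩ := hgen (-1)
      refine ⟨n, ?_⟩
      rw [← pow_mul, mul_comm, pow_mul, ← Units.val_pow_eq_pow_val, ← hn]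
      simp; ring
    let f₀ := minpoly (ZMod p) s
    by_cases h0 : 1 + s = 0
    · refine presents_of hP [gu ^ p, gu * cj ga gu 1, pword f₀ ga gu,
        ⁅gh * (gc * gh * gc⁻¹)⁻¹, Z gc (gφ P) 1 1⁆] ?_ (by simp) ?_
      · intro r hr
        simp only [List.mem_cons, List.mem_singleton, List.not_mem_nil, or_false] at hr
        rcases hr with rfl | rfl | rfl | rfl
        · exact evp
        · rw [map_mul, evu, hA, ← tv_add (by decide), pow_one, h0, tv0]
        · exact ev_min ω
        · exact ev_tau ω hP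
      intro G _ f hf
      have hcj : f (cj ga gu 1) = cj (f ga) (f gu) 1 := by simp [cj]
      have h1 : cj (f ga) (f gu) 1 = (f gu)⁻¹ := by
        have := hf (gu * cj ga gu 1) (by simp)
        rw [map_mul, hcj] at this
        exact eq_inv_of_mul_eq_one_right this
      refine ⟨⟨by simpa using hf (gu ^ p) (by simp), ?_⟩, ?_, fun φ core φt hu hr => ?_⟩
      · intro m
        have : cj (f ga) (f gu) m = f gu ∨ cj (f ga) (f gu) m = (f gu)⁻¹ := by
          induction m with
          | zero => left; rw [cj_zero]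
          | succ m ih =>
            have e : cj (f ga) (f gu) (m + 1) = (cj (f ga) (f gu) m)⁻¹ := by
              rw [cj_add _ _ 1 m, h1]; simp [cj, mul_assoc]
            rcases ih with ih | ih <;> rw [e, ih] <;> simp
        rcases this with e | e <;> rw [e]
        exact (Commute.refl _).inv_right
      · rw [← map_pword]; exact hf _ (by simp [f₀, s])
      · have φfun : (fun x => f (gφ P x)) = φ := funext φt
        have ht := hf ⁅gh * (gc * gh * gc⁻¹)⁻¹, Z gc (gφ P) 1 1⁆ (by simp)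
        simp only [map_commutatorElement, map_mul, map_inv, map_Z, φfun] at ht
        have H := heis_general core hspan hneg hu (commutatorElement_eq_one_iff_mul_comm.1 ht)
        exact ⟨H, rel_general core H hspan hr⟩
    · obtain ⟨n, hn⟩ := hgen (Units.mk0 _ h0)
      obtain ⟨j, hj⟩ := hgen (Units.mk0 (1 + s) h0)⁻¹
      have hsj : s ^ j = 1 + s := by
        rw [hsdef, inv_pow, ← Units.val_pow_eq_pow_val, ← hj]
        simp [hsdef]
      refine presents_of hP [gu ^ p, ⁅gu, cj ga gu 1⁆, cj ga gu j * (gu * cj ga gu 1)⁻¹, pword f₀ ga gu,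
        ⁅gh * (gc * gh * gc⁻¹)⁻¹, Z gc (gφ P) 1 1⁆] ?_ (by simp) ?_
      · intro r hr
        simp only [List.mem_cons, List.mem_singleton, List.not_mem_nil, or_false] at hr
        rcases hr with rfl | rfl | rfl | rfl | rfl
        · exact evp
        · exact evcomm 1
        · rw [map_mul, map_inv, map_mul, evu, hA, hA, ← tv_add (by decide), mul_inv_eq_one, pow_one, hsj]
        · exact ev_min ω
        · exact ev_tau ω hP
      intro G _ f hf
      have hcj : ∀ m, f (cj ga gu m) = cj (f ga) (f gu) m := fun m => by simp [cj]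
      refine ⟨⟨by simpa using hf (gu ^ p) (by simp), ?_⟩, ?_, fun φ core φt hu hr => ?_⟩
      · have e1 := hf ⁅gu, cj ga gu 1⁆ (by simp)
        have e2 := hf (cj ga gu j * (gu * cj ga gu 1)⁻¹) (by simp)
        rw [map_commutatorElement, hcj] at e1
        rw [map_mul, map_inv, mul_inv_eq_one, map_mul, hcj, hcj] at e2
        exact commute_all_of_shift (b := f ga ^ j) ((Commute.refl _).pow_right j) e2
          (commutatorElement_eq_one_iff_mul_comm.1 e1)
      · rw [← map_pword]; exact hf _ (by simp [f₀, s])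
      · have φfun : (fun x => f (gφ P x)) = φ := funext φt
        have ht := hf ⁅gh * (gc * gh * gc⁻¹)⁻¹, Z gc (gφ P) 1 1⁆ (by simp)
        simp only [map_commutatorElement, map_mul, map_inv, map_Z, φfun] at ht
        have H := heis_general core hspan hneg hu (commutatorElement_eq_one_iff_mul_comm.1 ht)
        exact ⟨H, rel_general core H hspan hr⟩

/-- The presentation without the remark on the last generator. -/
theorem exists_presentation :
    ∃ rels : Finset (FreeGroup (Fin 4)), rels.card ≤ 14 ∧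
      Nonempty (PresentedGroup (↑rels : Set (FreeGroup (Fin 4))) ≃* SpecialLinearGroup (Fin 3) F) := by
  obtain ⟨rels, h, -, e, -⟩ := exists_presentation_of_three (F := F)
  exact ⟨rels, h, ⟨e⟩⟩

end Cfsg.Agent.Lie.Sl3Pres
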