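import Cfsg.Agent.Lib.Lie.SympRegTwo
import Cfsg.Agent.Lib.Classical.SympBlocks

/-! `Sp_{2m}(F)`, `m ≥ 2`, is generated by two elements: a transvection times a commuting element of
order prime to `p`, and a Singer element of the Levi subgroup `GL_m(F)`. -/

set_option autoImplicit false
set_option linter.unusedSectionVars false

namespace Cfsg.Agent.Lie.SpGen

open Matrix Cfsg.Agent.Classical

variable {F : Type*} [Field F] {n : ℕ}

local notation "Sp" => Matrix.symplecticGroup (Fin n) F
local notation "V" => (Fin n ⊕ Fin n → F)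
local notation "MI" => Matrix (Fin n ⊕ Fin n) (Fin n ⊕ Fin n) F
local notation "B" => sympForm n F

/-- The standard Lagrangian. -/
def lagL (n : ℕ) (F : Type*) [Field F] : Submodule F (Fin n ⊕ Fin n → F) where
  carrier := {v | ∀ i, v (Sum.inr i) = 0}
  add_mem' ha hb i := by simp [ha i, hb i]
  zero_mem' _ := rfl
  smul_mem' c _ hv i := by simp [hv i]

theorem mem_lagL {v : V} : v ∈ lagL n F ↔ ∀ i, v (Sum.inr i) = 0 := Iff.rfl

variable [Fintype F]

/-- A cyclic group in the Levi subgroup, transitive on the nonzero vectors of the Lagrangian. -/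
theorem exists_levi_transitive (hn : 1 ≤ n) : ∃ b : Sp, (∀ v ∈ lagL n F, (b : MI) *ᵥ v ∈ lagL n F) ∧
    ∀ v ∈ lagL n F, v ≠ 0 → ∀ w ∈ lagL n F, w ≠ 0 → ∃ k : ℕ, ((b ^ k : Sp) : MI) *ᵥ v = w := by
  classical
  obtain ⟨p, hp⟩ := CharP.exists F
  haveI := hp
  haveI : Fact p.Prime := ⟨CharP.char_is_prime F p⟩
  haveI : NeZero n := ⟨by omega⟩
  let K := FiniteField.Extension F p n
  have hK : Module.finrank F K = n := FiniteField.finrank_extension F p n
  letI : Fintype K := Fintype.ofFinite K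
  obtain ⟨u, hu⟩ := IsCyclic.exists_monoid_generator (α := Kˣ)
  let bs := Module.finBasisOfFinrankEq F K hK
  let L : Kˣ →* GL (Fin n) F := Units.map (Algebra.leftMulMatrix bs).toMonoidHom
  have hact : ∀ (g : GL (Fin n) F) (c : Fin n → F), ((sympLevi n g : Sp) : MI) *ᵥ Sum.elim c 0 =
      Sum.elim ((g : Matrix (Fin n) (Fin n) F) *ᵥ c) 0 := by
    intro g c
    show Matrix.fromBlocks (g : Matrix (Fin n) (Fin n) F) 0 0 _ *ᵥ Sum.elim c 0 = _
    rw [Matrix.fromBlocks_mulVec]
    simp
  have helim : ∀ v ∈ lagL n F, v = Sum.elim (v ∘ Sum.inl) 0 := fun v hv => by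
    funext i; rcases i with i | i
    · rfl
    · exact hv i
  refine ⟨sympLevi n (L u), fun v hv => ?_, fun v hv hv0 w hw hw0 => ?_⟩
  · rw [helim v hv, hact]; exact fun i => rfl
  · set x := bs.equivFun.symm (v ∘ Sum.inl) with hx
    set y := bs.equivFun.symm (w ∘ Sum.inl) with hy
    have hne : ∀ z ∈ lagL n F, z ≠ 0 → bs.equivFun.symm (z ∘ Sum.inl) ≠ 0 := fun z hz hz0 e => by
      rw [LinearEquiv.map_eq_zero_iff] at e
      exact hz0 (by rw [helim z hz, e]; funext i; rcases i with i | i <;> rfl)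
    obtain ⟨k, hk⟩ := hu (Units.mk0 (y / x) (div_ne_zero (hne w hw hw0) (hne v hv hv0)))
    refine ⟨k, ?_⟩
    rw [← map_pow, ← map_pow, helim v hv, helim w hw, hact]
    congr 1
    simp only at hk
    rw [hk]
    show Algebra.leftMulMatrix bs (y / x) *ᵥ (v ∘ Sum.inl) = w ∘ Sum.inl
    have hvx : v ∘ Sum.inl = bs.repr x := by rw [hx]; exact (bs.equivFun.apply_symm_apply _).symm
    rw [hvx, Algebra.leftMulMatrix_mulVec_repr, div_mul_cancel₀ _ (hne v hv hv0), hy]
    exact bs.equivFun.apply_symm_apply _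

/-- An element fixing `e₁`, of order prime to `p`, moving the second basis vector out of the Lagrangian. -/
theorem exists_plane_element {p : ℕ} [Fact p.Prime] [CharP F p] (hn : 2 ≤ n) : ∃ (C : Sp) (N : ℕ),
    C ^ N = 1 ∧ (N : F) ≠ 0 ∧ (C : MI) *ᵥ Pi.single (Sum.inl ⟨0, by omega⟩) 1 = Pi.single (Sum.inl ⟨0, by omega⟩) 1 ∧
      (C : MI) *ᵥ Pi.single (Sum.inl ⟨1, by omega⟩) 1 ∉ lagL n F := by
  classical
  set i1 : Fin n := ⟨1, by omega⟩
  set i0 : Fin n := ⟨0, by omega⟩
  have h10 : i1 ≠ i0 := by simp [i0, i1]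
  set e : V := Pi.single (Sum.inl i1) 1 with he
  set f : V := Pi.single (Sum.inr i1) 1 with hf
  set e0 : V := Pi.single (Sum.inl i0) 1 with he0
  have hef : B e f = -1 := by rw [hf, sympForm_single_inr, he]; simp
  have hfe : B f e = 1 := by rw [sympForm_swap, hef, neg_neg]
  have h0e : B e0 e = 0 := by rw [he, sympForm_single_inl, he0]; simp
  have h0f : B e0 f = 0 := by rw [hf, sympForm_single_inr, he0]; simp [h10]
  rcases eq_or_ne (2 : F) 0 with h2 | h2
  · haveI : CharP F 2 := CharTwo.of_one_ne_zero_of_two_eq_zero one_ne_zero h2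
    refine ⟨sympTv e 1 * sympTv f 1, 3, ?_, ?_, ?_, ?_⟩
    · refine Subtype.ext (Matrix.ext_iff_mulVec.2 fun y => ?_)
      simp only [pow_succ, pow_zero, one_mul, Submonoid.coe_mul, Submonoid.coe_one, Matrix.one_mulVec,
        ← Matrix.mulVec_mulVec, tv_apply, sympForm_add_left, sympForm_smul_left, sympForm_self, hef,
        hfe, CharTwo.neg_eq]
      have h4 : (4 : F) = 0 := by linear_combination (2 : F) * h2
      have h8 : (8 : F) = 0 := by linear_combination (4 : F) * h2
      have h12 : (12 : F) = 0 := by linear_combination (6 : F) * h2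
      match_scalars <;> ring_nf <;> simp [h2, h4, h8, h12]

    · intro h
      apply one_ne_zero (α := F)
      have h3 : (1 : F) + 2 = 0 := by rw [← h]; norm_num
      linear_combination h3 - h2
    · simp [Submonoid.coe_mul, ← Matrix.mulVec_mulVec, tv_apply, h0e, h0f]
    · intro h
      have h1 := h i1
      simp [Submonoid.coe_mul, ← Matrix.mulVec_mulVec, tv_apply, sympForm_add_left, sympForm_smul_left,
        sympForm_self, hef, hfe] at h1
      simp [he, hf] at h1
  · refine ⟨sympTv e 1 * sympTv f 1 * sympTv e 1, 4, ?_, ?_, ?_, ?_⟩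
    · refine Subtype.ext (Matrix.ext_iff_mulVec.2 fun y => ?_)
      simp only [pow_succ, pow_zero, one_mul, Submonoid.coe_mul, Submonoid.coe_one, Matrix.one_mulVec,
        ← Matrix.mulVec_mulVec, tv_apply, sympForm_add_left, sympForm_smul_left, sympForm_self, hef,
        hfe]
      match_scalars <;> ring
    · rw [show ((4 : ℕ) : F) = 2 * 2 by norm_num]
      exact mul_ne_zero h2 h2
    · simp [Submonoid.coe_mul, ← Matrix.mulVec_mulVec, tv_apply, h0e, h0f]
    · intro h
      have h1 := h i1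
      simp [Submonoid.coe_mul, ← Matrix.mulVec_mulVec, tv_apply, sympForm_add_left, sympForm_smul_left,
        sympForm_self, hef, hfe] at h1
      simp [he, hf] at h1

theorem exists_two_generators (hn : 2 ≤ n) : ∃ a b : Sp, Subgroup.closure ({a, b} : Set Sp) = ⊤ := by
  classical
  obtain ⟨p, hchar⟩ := CharP.exists F
  haveI : Fact p.Prime := ⟨CharP.char_is_prime F p⟩
  obtain ⟨b, hbL, hbt⟩ := exists_levi_transitive (F := F) (n := n) (by omega)
  obtain ⟨C, N, hCN, hN, hC0, hC1⟩ := exists_plane_element (F := F) (n := n) (p := p) hn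
  set e0 : V := Pi.single (Sum.inl ⟨0, by omega⟩) 1 with he0
  set e1 : V := Pi.single (Sum.inl ⟨1, by omega⟩) 1 with he1
  have he0L : e0 ∈ lagL n F := fun i => by simp [he0]
  have he1L : e1 ∈ lagL n F := fun i => by simp [he1]
  have he00 : e0 ≠ 0 := by simp [he0]
  have he10 : e1 ≠ 0 := by simp [he1]
  have he01 : e0 ≠ e1 := fun e => by
    simpa [he0, he1, Pi.single_apply, Fin.ext_iff] using congrFun e (Sum.inl ⟨0, by omega⟩)
  set T : Sp := sympTv e0 1 with hT
  refine ⟨T * C, b, ?_⟩
  set K := Subgroup.closure ({T * C, b} : Set Sp)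
  have hb : b ∈ K := Subgroup.subset_closure (by simp)
  have ha : T * C ∈ K := Subgroup.subset_closure (by simp)
  have hcomm : Commute T C := by
    have h := sympTv_conj C e0 1
    rw [hC0, ← hT, mul_inv_eq_iff_eq_mul] at h
    exact h.symm
  have hpow : ∀ k : ℕ, T ^ k = sympTv e0 (k : F) := by
    intro k
    induction k with
    | zero => simp [sympTv_zero]
    | succ k ih => rw [pow_succ, ih, hT, sympTv_mul, Nat.cast_succ]
  have hTN : sympTv e0 (N : F) ∈ K := by
    have h := pow_mem ha N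
    rwa [hcomm.mul_pow, hCN, mul_one, hpow] at h
  -- the transvection
  have hT1 : T ∈ K := by
    have hnd : ¬ p ∣ N := fun h => hN ((CharP.cast_eq_zero_iff F p N).2 h)
    set j := ((N : ZMod p)⁻¹).val
    have hj : ((N * j : ℕ) : F) = 1 := by
      have hz : (N : ZMod p) ≠ 0 := fun e => hnd ((CharP.cast_eq_zero_iff (ZMod p) p N).1 e)
      have h1 : ((N * j : ℕ) : ZMod p) = ((1 : ℕ) : ZMod p) := by
        rw [Nat.cast_mul, ZMod.natCast_zmod_val, mul_inv_cancel₀ hz, Nat.cast_one]
      rw [← Nat.cast_one (R := F), CharP.natCast_eq_natCast F p]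
      exact (ZMod.natCast_eq_natCast_iff _ _ _).1 h1
    have h := pow_mem hTN j
    rwa [← hpow, ← pow_mul, hpow, hj] at h
  have hCK : C ∈ K := by
    have h := mul_mem (inv_mem hT1) ha
    rwa [inv_mul_cancel_left] at h
  -- the full transvection group at `e₀`
  have hsq : ∀ z : F, sympTv e0 (z ^ 2) ∈ K := by
    intro z
    rcases eq_or_ne z 0 with rfl | hz
    · rw [zero_pow two_ne_zero, sympTv_zero]; exact one_mem K
    obtain ⟨k, hk⟩ := hbt e0 he0L he00 (z • e0) (Submodule.smul_mem _ z he0L) (smul_ne_zero hz he00)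
    have h := mul_mem (mul_mem (pow_mem hb k) hT1) (inv_mem (pow_mem hb k))
    rwa [hT, sympTv_conj, hk, tv_smul, mul_one] at h
  have hf0 : Full K e0 := by
    intro c
    rcases eq_or_ne (2 : F) 0 with h2 | h2
    · haveI : CharP F 2 := CharTwo.of_one_ne_zero_of_two_eq_zero one_ne_zero h2
      obtain ⟨μ, hμ⟩ := FiniteField.isSquare_of_char_two (ringChar.eq F 2) c
      rw [hμ, ← sq]
      exact hsq μ
    · have h := mul_mem (hsq ((c + 1) / 2)) (inv_mem (hsq ((c - 1) / 2)))
      rwa [sympTv_inv, sympTv_mul, show ((c + 1) / 2) ^ 2 + -((c - 1) / 2) ^ 2 = c by field_simp; ring] at h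
  have hL : ∀ v ∈ lagL n F, Full K v := by
    intro v hv
    rcases eq_or_ne v 0 with rfl | hv0
    · exact full_zero
    obtain ⟨k, hk⟩ := hbt e0 he0L he00 v hv hv0
    rw [← hk]; exact hf0.conj (pow_mem hb k)
  set z := (C : MI) *ᵥ e1 with hz
  have hfz : Full K z := (hL e1 he1L).conj hCK
  have hperp : ∀ s : V, s ∉ lagL n F → ∃ l ∈ lagL n F, B l s ≠ 0 := by
    intro s hs
    simp only [mem_lagL, not_forall] at hs
    obtain ⟨i, hi⟩ := hs
    refine ⟨Pi.single (Sum.inl i) 1, fun j => by simp, ?_⟩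
    rw [sympForm_swap, sympForm_single_inl, mul_one]
    exact neg_ne_zero.2 hi
  have hsp : ∀ y : V, y ≠ 0 → ∃ s, Full K s ∧ B y s ≠ 0 := by
    intro y hy
    by_cases hyL : y ∈ lagL n F
    · obtain ⟨l, hl, hlz⟩ := hperp z hC1
      have hl0 : l ≠ 0 := fun e => hlz (by rw [e, sympForm_zero_left])
      obtain ⟨k, hk⟩ := hbt l hl hl0 y hyL hy
      refine ⟨((b ^ k : Sp) : MI) *ᵥ z, hfz.conj (pow_mem hb k), ?_⟩
      rwa [← hk, sympForm_map]
    · obtain ⟨l, hl, hly⟩ := hperp y hyL
      refine ⟨l, hL l hl, ?_⟩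
      rwa [sympForm_swap, neg_ne_zero]
  let S : Set (Submodule F V) := {U | lagL n F ≤ U ∧ ∀ a ∈ U, Full K a}
  obtain ⟨U, hUS⟩ := (Set.toFinite S).exists_maximal ⟨lagL n F, le_rfl, hL⟩
  obtain ⟨⟨hLU, hU⟩, hmax⟩ := hUS
  have hall : ∀ s, Full K s → s ∈ U := by
    intro s hs
    by_contra hsU
    obtain ⟨l, hl, hls⟩ := hperp s fun h => hsU (hLU h)
    have hext : ∀ a ∈ U, ∀ τ : F, Full K (a + τ • s) := by
      by_cases h3 : 3 ≤ Fintype.card F
      · exact full_extend (exists_ne_two h3) U hU hs (hLU hl) hls hsp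
      · have hcard : Fintype.card F = 2 := by
          have := Fintype.one_lt_card (α := F); omega
        intro a ha τ
        rcases two_elems hcard τ with rfl | rfl
        · rw [zero_smul, add_zero]; exact hU a ha
        · rw [one_smul]
          exact two_extend (two_elems hcard) U hU hs (hLU hl) hls (hLU he0L) (hLU he1L)
            (by rw [he1, sympForm_single_inl]; simp [he0]) he00 he10 he01 hsp a ha
    have hmem : U ⊔ Submodule.span F {s} ∈ S := by
      refine ⟨hLU.trans le_sup_left, fun a ha => ?_⟩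
      obtain ⟨a', ha', c', hc', rfl⟩ := Submodule.mem_sup.1 ha
      obtain ⟨c, rfl⟩ := Submodule.mem_span_singleton.1 hc'
      exact hext a' ha' c
    exact hsU (hmax hmem le_sup_left (Submodule.mem_sup_right (Submodule.mem_span_singleton_self _)))
  have htop : U = ⊤ := by
    by_contra hne
    obtain ⟨x, -, hx⟩ := SetLike.exists_of_lt (lt_top_iff_ne_top.2 hne)
    obtain ⟨φ, hφ, hφU⟩ := U.exists_dual_map_eq_bot_of_notMem hx inferInstance
    set y : V := Sum.elim (fun i => -φ (Pi.single (Sum.inr i) 1)) (fun i => φ (Pi.single (Sum.inl i) 1))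
    have hy : ∀ v, B y v = φ v := by
      intro v
      have h : (sympB n F y) = φ := by
        refine (Pi.basisFun F (Fin n ⊕ Fin n)).ext fun j => ?_
        rw [sympB_apply, Pi.basisFun_apply]
        rcases j with j | j
        · rw [sympForm_single_inl]; simp [y]
        · rw [sympForm_single_inr]; simp [y]
      rw [← sympB_apply, h]
    have hy0 : y ≠ 0 := fun e => hφ (by rw [← hy x, e, sympForm_zero_left])
    obtain ⟨s, hs, hys⟩ := hsp y hy0
    apply hys
    rw [hy]
    have : φ s ∈ U.map φ := Submodule.mem_map_of_mem (hall s hs)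
    rwa [hφU, Submodule.mem_bot] at this
  rw [eq_top_iff, ← closure_sympTvSet, Subgroup.closure_le]
  rintro A ⟨v, c, hA⟩
  rw [show A = sympTv v c from Subtype.ext hA]
  exact hU v (htop ▸ Submodule.mem_top) c

end Cfsg.Agent.Lie.SpGen
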