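import Cfsg.Agent.Lib.Lie.RegUnipGen

/-! `SL₃(F)` is generated by two conjugate regular unipotent elements (`|F| ≠ 2, 4`). -/

set_option autoImplicit false
set_option linter.unusedSectionVars false

namespace Cfsg.Agent.Lie.RegUnip

open Matrix Cfsg.Agent.Classical.MaxTv

variable {F : Type*} [Field F]

theorem val_mul' {ι : Type} [Fintype ι] [DecidableEq ι] (x y : SpecialLinearGroup ι F) :
    (x * y).val = x.val * y.val := rfl

theorem val_pow' {ι : Type} [Fintype ι] [DecidableEq ι] (x : SpecialLinearGroup ι F) (n : ℕ) :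
    (x ^ n).val = x.val ^ n := by
  induction n with
  | zero => simp only [pow_zero]; rfl
  | succ n ih => rw [pow_succ, pow_succ, val_mul', ih]

/-- A finite field is the only additive subgroup stable under a multiplier generating it. -/
theorem forall_mem_of_stable [Fintype F] (S : AddSubgroup F) {b c : F} (hc : c ≠ 0) (hcS : c ∈ S)
    (hstab : ∀ x ∈ S, b * x ∈ S) (hb : ∀ M : Subfield F, b ∈ M → M = ⊤) : ∀ x, x ∈ S := by
  let M : Subring F :=
    { carrier := {m | ∀ x ∈ S, m * x ∈ S}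
      mul_mem' := fun {m n} hm hn x hx => by rw [mul_assoc]; exact hm _ (hn x hx)
      one_mem' := fun x hx => by rwa [one_mul]
      add_mem' := fun {m n} hm hn x hx => by rw [add_mul]; exact add_mem (hm x hx) (hn x hx)
      zero_mem' := fun x _ => by rw [zero_mul]; exact zero_mem S
      neg_mem' := fun {m} hm x hx => by rw [neg_mul]; exact neg_mem (hm x hx) }
  let K : Subfield F :=
    { M with
      inv_mem' := fun m hm => by
        rcases eq_or_ne m 0 with rfl | h0
        · rw [_root_.inv_zero]; exact M.zero_mem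
        · have h1 : m ^ (Fintype.card F - 1) = 1 := FiniteField.pow_card_sub_one_eq_one m h0
          have h2 : 1 < Fintype.card F := Fintype.one_lt_card
          have h3 : m⁻¹ = m ^ (Fintype.card F - 2) := by
            refine inv_eq_of_mul_eq_one_left ?_
            rw [← pow_succ, show Fintype.card F - 2 + 1 = Fintype.card F - 1 by omega, h1]
          exact h3 ▸ M.pow_mem hm _ }
  have hK : K = ⊤ := hb K fun x hx => hstab x hx
  intro x
  have : x / c ∈ K := hK ▸ Subfield.mem_top _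
  have h := this c hcS
  rwa [div_mul_cancel₀ _ hc] at h

/-- For `q ≠ 2, 4` some element `a` has `a³` outside every proper subfield. -/
theorem exists_cube_generator [Fintype F] (h2 : Fintype.card F ≠ 2) (h4 : Fintype.card F ≠ 4) :
    ∃ a : F, a ≠ 0 ∧ a ^ 3 ≠ 1 ∧ ∀ M : Subfield F, (a ^ 3)⁻¹ ∈ M → M = ⊤ := by
  classical
  obtain ⟨β, hβ⟩ := IsCyclic.exists_generator (α := Fˣ)
  have hord : orderOf β = Fintype.card F - 1 := by
    rw [orderOf_eq_card_of_forall_mem_zpowers hβ, Nat.card_eq_fintype_card, Fintype.card_units]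
  have h1 : 1 < Fintype.card F := Fintype.one_lt_card
  have key : ∀ k : ℕ, 0 < k → ((β : F) ^ 3) ^ k = 1 → Fintype.card F - 1 ≤ 3 * k := by
    intro k hk h
    rw [← pow_mul, ← Units.val_pow_eq_pow_val, Units.val_eq_one] at h
    exact Nat.le_of_dvd (by omega) (hord ▸ orderOf_dvd_of_pow_eq_one h)
  refine ⟨β, β.ne_zero, fun h => ?_, fun M hM => ?_⟩
  · have hd : orderOf β ∣ 3 := orderOf_dvd_of_pow_eq_one (Units.ext (by simpa using h))
    rcases (Nat.dvd_prime Nat.prime_three).1 hd with e | e <;> omega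
  · by_contra hne
    obtain ⟨k, hk⟩ : ∃ k, Nat.card F = Nat.card M ^ k := ⟨_, Module.natCard_eq_pow_finrank (K := M)⟩
    have hM1 : 1 < Nat.card M := Finite.one_lt_card
    have hk2 : 2 ≤ k := by
      by_contra hk2
      have hle : Nat.card F ≤ Nat.card M := by
        rw [hk]; calc Nat.card M ^ k ≤ Nat.card M ^ 1 := Nat.pow_le_pow_right (by omega) (by omega)
          _ = _ := pow_one _
      refine hne (SetLike.ext fun x => iff_of_true ?_ (Subfield.mem_top x))
      have hbij := (Nat.bijective_iff_injective_and_card (Subtype.val : M → F)).2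
        ⟨Subtype.val_injective, le_antisymm (Nat.card_le_card_of_injective _ Subtype.val_injective) hle⟩
      obtain ⟨y, rfl⟩ := hbij.2 x
      exact y.2
    have hb : (β : F) ^ 3 ∈ M := by simpa using inv_mem hM
    haveI : Fintype M := Fintype.ofFinite M
    have hpow : ((⟨(β : F) ^ 3, hb⟩ : M) : M) ^ (Fintype.card M - 1) = 1 :=
      FiniteField.pow_card_sub_one_eq_one _ fun e => pow_ne_zero 3 β.ne_zero (congrArg Subtype.val e)
    have h3 := key (Fintype.card M - 1) (by rw [← Nat.card_eq_fintype_card]; omega)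
      (by simpa using congrArg Subtype.val hpow)
    rw [← Nat.card_eq_fintype_card, ← Nat.card_eq_fintype_card, hk] at h3
    have hsq : Nat.card M ^ 2 ≤ Nat.card M ^ k := Nat.pow_le_pow_right (by omega) hk2
    rw [Nat.card_eq_fintype_card (α := F)] at hk
    have hle2 : Nat.card M ≤ 2 := by
      by_contra h5
      have h8 : Nat.card M ^ k + 2 ≤ 3 * Nat.card M := by omega
      nlinarith
    have h6 : Nat.card M = 2 := by omega
    rw [h6] at hk h3
    have : 2 ^ k ≤ 4 := by omega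
    rcases Nat.lt_or_ge k 3 with h7 | h7
    · interval_cases k; exact h4 hk
    · have : 2 ^ 3 ≤ 2 ^ k := Nat.pow_le_pow_right (by norm_num) h7
      omega

/-- The first regular unipotent element. -/
def sl3U (c ρ : F) : Matrix (Fin 3) (Fin 3) F := !![c + 1, -c, 0; c - 1, 1 - c, c / ρ; ρ, -ρ, 1]

/-- The product of the two elements. -/
def sl3S (a : F) : Matrix (Fin 3) (Fin 3) F := !![a, 0, 1; 0, (a ^ 2)⁻¹, 0; 0, 0, a]

/-- The conjugating element. -/
def sl3G (a c ρ E : F) : Matrix (Fin 3) (Fin 3) F :=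
  !![c + 1, a⁻¹ - (c + 1), E; c - 1, -(c - 1), (c - 1 + a) / ρ; ρ, -ρ, 1]

theorem sl3U_det {c ρ : F} (hρ : ρ ≠ 0) : (sl3U c ρ).det = 1 := by
  simp [sl3U, det_fin_three]; field_simp; ring

theorem sl3U_nilpotent {c ρ : F} (hρ : ρ ≠ 0) :
    (sl3U c ρ - 1) ^ 2 = !![c, 0, -(c ^ 2) / ρ; c, 0, -(c ^ 2) / ρ; ρ, 0, -c] ∧
      (sl3U c ρ - 1) ^ 3 = 0 := by
  have h2 : (sl3U c ρ - 1) ^ 2 = !![c, 0, -(c ^ 2) / ρ; c, 0, -(c ^ 2) / ρ; ρ, 0, -c] := by
    rw [sq]
    ext i j
    fin_cases i <;> fin_cases j <;>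
      simp [sl3U, mul_apply, Fin.sum_univ_three] <;> field_simp <;> ring
  refine ⟨h2, ?_⟩
  rw [pow_succ, h2]
  ext i j
  fin_cases i <;> fin_cases j <;>
    simp [sl3U, mul_apply, Fin.sum_univ_three] <;> field_simp <;> ring

theorem sl3_conj {a D : F} (ha : a ≠ 0) (ha1 : a - 1 ≠ 0) (hD : D ≠ 0) (hDe : D = a ^ 2 + a + 1)
    {c ρ : F} (hc : c = 3 / D - 1) (hρ : ρ = -(a - 1) ^ 3 / a ^ 2) :
    sl3G a c ρ D⁻¹ * sl3U c ρ = sl3U c ρ * sl3S a * sl3G a c ρ D⁻¹ ∧ (sl3G a c ρ D⁻¹).det = 1 := by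
  subst hc hρ
  constructor
  · ext i j
    fin_cases i <;> fin_cases j <;>
      simp [sl3G, sl3U, sl3S, mul_apply, Fin.sum_univ_three] <;> field_simp <;> subst hDe <;> ring
  · simp [sl3G, det_fin_three]
    field_simp
    subst hDe
    ring

theorem exists_two_conjugates_three [Fintype F] (h2 : Fintype.card F ≠ 2) (h4 : Fintype.card F ≠ 4) :
    ∃ u g : SpecialLinearGroup (Fin 3) F, IsNilpotent (u.val - 1) ∧ (u.val - 1) ^ (3 - 1) ≠ 0 ∧
      Subgroup.closure ({u, g * u * g⁻¹} : Set (SpecialLinearGroup (Fin 3) F)) = ⊤ := by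
  classical
  obtain ⟨a, ha, ha3, hgen⟩ := exists_cube_generator h2 h4
  have hD : a ^ 2 + a + 1 ≠ 0 := fun h => ha3 (by linear_combination (a - 1) * h)
  have ha1 : a - 1 ≠ 0 := fun h => ha3 (by rw [sub_eq_zero.1 h, one_pow])
  set ρ := -(a - 1) ^ 3 / a ^ 2 with hρ
  have hρ0 : ρ ≠ 0 := div_ne_zero (neg_ne_zero.2 (pow_ne_zero 3 ha1)) (pow_ne_zero 2 ha)
  set c : F := 3 / (a ^ 2 + a + 1) - 1 with hc
  obtain ⟨hconj', detG⟩ := sl3_conj ha ha1 hD rfl hc hρ
  have detS : (sl3S a).det = 1 := by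
    simp [sl3S, det_fin_three]; field_simp
  let U : SpecialLinearGroup (Fin 3) F := ⟨sl3U c ρ, sl3U_det hρ0⟩
  let s : SpecialLinearGroup (Fin 3) F := ⟨sl3S a, detS⟩
  let g : SpecialLinearGroup (Fin 3) F := ⟨_, detG⟩
  have hconj : g * U = U * s * g := Subtype.ext hconj'
  obtain ⟨hN2, hN3⟩ := sl3U_nilpotent (c := c) hρ0
  refine ⟨U, g, ⟨3, hN3⟩, fun h => hρ0 ?_, ?_⟩
  · have h20 := congrFun (congrFun (hN2.symm.trans h) 2) 0
    simpa using h20
  set K := Subgroup.closure ({U, g * U * g⁻¹} : Set (SpecialLinearGroup (Fin 3) F))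
  have hUK : U ∈ K := Subgroup.subset_closure (by simp)
  have hsK : s ∈ K := by
    have : U⁻¹ * (g * U * g⁻¹) = s := by rw [hconj]; group
    exact this ▸ mul_mem (inv_mem hUK) (Subgroup.subset_closure (by simp))
  set H := K.map SpecialLinearGroup.toGL
  have hmem : ∀ x ∈ K, SpecialLinearGroup.toGL x ∈ H := fun x hx => Subgroup.mem_map_of_mem _ hx
  -- split `s` into its semisimple and unipotent parts
  have hspow : ∀ n : ℕ, (sl3S a) ^ n =
      !![a ^ n, 0, n * a ^ (n - 1); 0, (a ^ 2)⁻¹ ^ n, 0; 0, 0, a ^ n] := by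
    intro n
    induction n with
    | zero => ext i j; fin_cases i <;> fin_cases j <;> simp [Matrix.one_apply]
    | succ n ih =>
      rw [pow_succ, ih]
      ext i j
      fin_cases i <;> fin_cases j <;>
        simp [sl3S, mul_apply, Fin.sum_univ_three, pow_succ]
      rcases n with _ | n
      · simp
      · push_cast; ring
  have hq : a ^ (Fintype.card F - 1) = 1 := FiniteField.pow_card_sub_one_eq_one a ha
  have h1q : 1 < Fintype.card F := Fintype.one_lt_card
  set t₀ : F := -a⁻¹ with ht₀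
  have hx : (sl3S a) ^ (Fintype.card F - 1) = !![1, 0, t₀; 0, 1, 0; 0, 0, 1] := by
    rw [hspow, inv_pow, ← pow_mul, mul_comm 2, pow_mul, hq, one_pow, inv_one]
    have e : ((Fintype.card F - 1 : ℕ) : F) * a ^ (Fintype.card F - 1 - 1) = t₀ := by
      rw [Nat.cast_sub h1q.le, FiniteField.cast_card_eq_zero, Nat.cast_one, zero_sub, ht₀, neg_one_mul,
        neg_inj]
      refine eq_inv_of_mul_eq_one_left ?_
      rw [← pow_succ, show Fintype.card F - 1 - 1 + 1 = Fintype.card F - 1 by omega, hq]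
    rw [e]
  let e2 : Fin 3 → F := ![0, 0, 1]
  have hT0 : InT H ![t₀, 0, 0] e2 := by
    refine ⟨_, hmem _ (pow_mem hsK (Fintype.card F - 1)), fun x => ?_⟩
    rw [SpecialLinearGroup.coe_GL_coe_matrix, val_pow']
    show ((sl3S a) ^ _) *ᵥ x = _
    rw [hx]
    funext i
    fin_cases i <;> simp [e2, mulVec, dotProduct, Fin.sum_univ_three, mul_comm]
  -- the semisimple part
  let dM : Matrix (Fin 3) (Fin 3) F := !![a, 0, 0; 0, (a ^ 2)⁻¹, 0; 0, 0, a]
  have detd : dM.det = 1 := by simp [dM, det_fin_three]; field_simp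
  let d : SpecialLinearGroup (Fin 3) F := ⟨dM, detd⟩
  have hdK : d ∈ K := by
    have : d = s * (s ^ (Fintype.card F - 1)) := by
      refine Subtype.ext ?_
      rw [val_mul', val_pow']
      show dM = sl3S a * (sl3S a) ^ _
      rw [hx]
      ext i j
      fin_cases i <;> fin_cases j <;>
        simp [sl3S, dM, ht₀, mul_apply, Fin.sum_univ_three, ha]
    exact this ▸ mul_mem hsK (pow_mem hsK _)
  let dI : Matrix (Fin 3) (Fin 3) F := !![a⁻¹, 0, 0; 0, a ^ 2, 0; 0, 0, a⁻¹]
  have hdinv : (d⁻¹).val = dI := by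
    have h1 : d.val * dI = 1 := by
      ext i j
      fin_cases i <;> fin_cases j <;> simp [d, dM, dI, mul_apply, Fin.sum_univ_three, ha]
    calc (d⁻¹).val = (d⁻¹).val * (d.val * dI) := by rw [h1, mul_one]
      _ = dI := by rw [← mul_assoc, ← val_mul', inv_mul_cancel, val_one', one_mul]
  have conjd : ∀ {v φ : Fin 3 → F}, InT H v φ → InT H (dM *ᵥ v) (φ ᵥ* dI) := by
    intro v φ h
    have h1 := h.conj (hmem d hdK)
    rw [← map_inv, SpecialLinearGroup.coe_GL_coe_matrix, SpecialLinearGroup.coe_GL_coe_matrix, hdinv] at h1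
    exact h1
  let r : Fin 3 → F := ![ρ, -ρ, 1]
  have hx' : InT H ![t₀, t₀, 0] r := by
    have h1 := hT0.conj (inv_mem (hmem U hUK))
    rw [inv_inv, ← map_inv, SpecialLinearGroup.coe_GL_coe_matrix, SpecialLinearGroup.coe_GL_coe_matrix] at h1
    have e : (U⁻¹).val *ᵥ ![t₀, 0, 0] = ![t₀, t₀, 0] := by
      have e1 : U.val *ᵥ ![t₀, t₀, 0] = ![t₀, 0, 0] := by
        funext i
        fin_cases i <;> simp [U, sl3U, mulVec, dotProduct, Fin.sum_univ_three] <;> ring
      rw [← e1, ← val_mul_mulVec, inv_mul_cancel, val_one', one_mulVec]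
    have e' : e2 ᵥ* U.val = r := by
      funext j
      fin_cases j <;> simp [e2, r, U, sl3U, vecMul, dotProduct, Fin.sum_univ_three, ← hρ]
    rw [e, e'] at h1
    exact h1
  let S : (Fin 3 → F) → Prop := fun v => InT H v e2 ∧ v 2 = 0
  have hdot : ∀ v : Fin 3 → F, e2 ⬝ᵥ v = v 2 := fun v => by simp [e2, dotProduct, Fin.sum_univ_three]
  have hS0 : S 0 := ⟨InT.zero_left _, rfl⟩
  have hSadd : ∀ v v', S v → S v' → S (v + v') := fun v v' h h' =>
    ⟨h.1.add_left h'.1 (by rw [hdot, h'.2]), by simp [h.2, h'.2]⟩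
  have hSneg : ∀ v, S v → S (-v) := fun v h => ⟨inT_neg_left h.1 (by rw [hdot, h.2]), by simp [h.2]⟩
  have hScomm : ∀ v v' φ, S v → InT H v' φ → v' 2 = 0 → S ((φ ⬝ᵥ v) • v') := by
    intro v v' φ h h' h0
    have h1 := hSadd _ _ (show S (v + (φ ⬝ᵥ v) • v') from
      ⟨inT_comm h.1 h' (by rw [hdot, h0]), by simp [h.2, h0]⟩) (hSneg _ h)
    simpa using h1
  have hSd : ∀ v, S v → S (a⁻¹ • (dM *ᵥ v)) := by
    intro v h
    refine ⟨?_, by simp [dM, mulVec, dotProduct, Fin.sum_univ_three, h.2]⟩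
    have h1 := conjd h.1
    have e : e2 ᵥ* dI = a⁻¹ • e2 := by
      funext j; fin_cases j <;> simp [e2, dI, vecMul, dotProduct, Fin.sum_univ_three]
    rwa [e, ← inT_smul_comm] at h1
  let S1 : AddSubgroup F :=
    { carrier := {t | S ![0, t, 0]}
      add_mem' := fun {x y} h h' => by simpa using hSadd _ _ h h'
      zero_mem' := by
        show S ![0, 0, 0]
        convert hS0 using 1
        funext i; fin_cases i <;> rfl
      neg_mem' := fun {x} h => by simpa using hSneg _ h }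
  have hS1 : ∀ t, S ![0, t, 0] := by
    have hTS : S ![t₀, 0, 0] := ⟨hT0, rfl⟩
    have k1 := hScomm _ _ _ hTS hx' rfl
    have k2 := hScomm _ _ _ hTS (conjd hx') (by simp [dM, mulVec, dotProduct, Fin.sum_univ_three])
    have k3 := hSadd _ _ k1 (hSneg _ k2)
    refine forall_mem_of_stable S1 (b := (a ^ 3)⁻¹) (c := ρ * t₀ * t₀ * (1 - (a ^ 3)⁻¹)) ?_ ?_ ?_ hgen
    · refine mul_ne_zero (mul_ne_zero (mul_ne_zero hρ0 ?_) ?_) ?_
      · simp [ht₀, ha]
      · simp [ht₀, ha]
      · rw [sub_ne_zero]; exact fun e => ha3 (inv_eq_one.1 e.symm)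
    · show S _
      convert k3 using 1
      funext i
      fin_cases i <;> simp [r, dM, dI, mulVec, vecMul, dotProduct, Fin.sum_univ_three] <;> field_simp <;>
        ring
    · intro t ht
      show S _
      convert hSd _ ht using 1
      funext i
      fin_cases i <;> simp [dM, mulVec, dotProduct, Fin.sum_univ_three]
      field_simp
  have hS00 : ∀ t, S ![t, 0, 0] := by
    intro t
    have k1 := hScomm _ _ _ (hS1 (-t / (ρ * t₀))) hx' rfl
    have k2 := hSadd _ _ k1 (hSneg _ (hS1 t))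
    have h0 : t₀ ≠ 0 := by simp [ht₀, ha]
    convert k2 using 1
    funext i
    fin_cases i <;> simp [r, dotProduct, Fin.sum_univ_three] <;> field_simp <;> ring
  have hfull2 : IsFull H e2 := by
    intro v hv
    rw [hdot] at hv
    have h1 := (hSadd _ _ (hS00 (v 0)) (hS1 (v 1))).1
    convert h1 using 1
    funext i; fin_cases i <;> simp [hv]
  have hfr : IsFull H r := by
    have h1 := hfull2.conj (hmem U hUK)
    rw [SpecialLinearGroup.coe_GL_coe_matrix] at h1
    convert h1 using 1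
    funext j
    fin_cases j <;> simp [e2, r, U, sl3U, vecMul, dotProduct, Fin.sum_univ_three, ← hρ]
  have hfr' : IsFull H (r ᵥ* dI) := by
    have h1 := hfr.conj (inv_mem (hmem d hdK))
    rwa [← map_inv, SpecialLinearGroup.coe_GL_coe_matrix, hdinv] at h1
  have hf1 : IsFull H ![0, 1, 0] := by
    have h1 := ((hfr.add (hfull2.smul (-1))).add
      (((hfr'.smul a).add (hfull2.smul (-1))).smul (-1))).smul (ρ * (a ^ 3 - 1))⁻¹
    have h0 : a ^ 3 - 1 ≠ 0 := sub_ne_zero.2 ha3
    convert h1 using 1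
    funext j
    fin_cases j <;> simp [e2, r, dI, vecMul, dotProduct, Fin.sum_univ_three] <;> field_simp <;> first | ring1 | (right; trivial) | (ring_nf; simp)
  have hf0 : IsFull H ![1, 0, 0] := by
    have h1 := ((hfr.add (hfull2.smul (-1))).add (hf1.smul ρ)).smul ρ⁻¹
    convert h1 using 1
    funext j
    fin_cases j <;> simp [e2, r] <;> field_simp
  have hall : ∀ φ : Fin 3 → F, IsFull H φ := by
    intro φ
    have h1 := ((hf0.smul (φ 0)).add (hf1.smul (φ 1))).add (hfull2.smul (φ 2))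
    convert h1 using 1
    funext j
    fin_cases j <;> simp [e2]
  have hSL := specialLinear_le (H := H) fun v φ hφ => hall φ v hφ
  refine eq_top_iff.2 fun x _ => ?_
  have hxH : SpecialLinearGroup.toGL x ∈ H :=
    hSL (MonoidHom.mem_ker.2 (Units.ext (by simp)))
  obtain ⟨y, hy, hxy⟩ := Subgroup.mem_map.1 hxH
  rwa [← SpecialLinearGroup.toGL_injective hxy]

end Cfsg.Agent.Lie.RegUnip
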