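import Cfsg.Agent.Lib.Lie.SpnPresData

/-! A group with the gluing relations is `Sp₂ₙ(F)`. -/

set_option autoImplicit false
set_option linter.unusedSectionVars false
set_option maxHeartbeats 1000000

namespace Cfsg.Agent.Lie.SpnPres

open Matrix Cfsg.Agent.Lie.Sl2Pres

variable {F : Type*} [Field F] [Fintype F] {k : ℕ}

local notation "SL2" => Matrix.SpecialLinearGroup (Fin 2) F
local notation "bv" a:max => (Pi.single a (1 : F) : Fin (k + 3) → F)

/-- The diagonal matrix scaling the first basis vector. -/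
def Dm (k : ℕ) (x : F) : Matrix (Fin (k + 3)) (Fin (k + 3)) F :=
  Matrix.diagonal (Function.update 1 0 x)

theorem Dm_mul (x y : F) : Dm k x * Dm k y = Dm k (x * y) := by
  rw [Dm, Dm, Dm, Matrix.diagonal_mul_diagonal]
  congr 1
  funext i
  rcases eq_or_ne i 0 with rfl | h <;> simp [*]

theorem Dm_one : Dm k (1 : F) = 1 := by
  rw [Dm, ← Matrix.diagonal_one]
  congr 1
  funext i
  rcases eq_or_ne i 0 with rfl | h <;> simp [*]

theorem Dm_det (x : F) : (Dm k x).det = x := by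
  rw [Dm, Matrix.det_diagonal, Finset.prod_update_of_mem (Finset.mem_univ _)]
  simp

theorem Dm_mulVec_zero (x : F) : Dm k x *ᵥ bv 0 = x • bv 0 := by
  rw [Dm, Matrix.diagonal_mulVec_single, Function.update_self, mul_one, ← Pi.single_smul, smul_eq_mul, mul_one]

/-- Conjugation by the diagonal matrix. -/
def Dc (k : ℕ) (x : Fˣ) :
    Matrix.SpecialLinearGroup (Fin (k + 3)) F →* Matrix.SpecialLinearGroup (Fin (k + 3)) F where
  toFun M := ⟨Dm k (x : F) * M.1 * Dm k ((x⁻¹ : Fˣ) : F), by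
    rw [det_mul, det_mul, Dm_det, Dm_det, M.2]; simp⟩
  map_one' := Subtype.ext (by
    show Dm k (x : F) * 1 * Dm k ((x⁻¹ : Fˣ) : F) = 1
    rw [Matrix.mul_one, Dm_mul]; simp [Dm_one])
  map_mul' M N := Subtype.ext (by
    show Dm k (x : F) * (M.1 * N.1) * Dm k ((x⁻¹ : Fˣ) : F) =
      (Dm k (x : F) * M.1 * Dm k ((x⁻¹ : Fˣ) : F)) * (Dm k (x : F) * N.1 * Dm k ((x⁻¹ : Fˣ) : F))
    have h : Dm k ((x⁻¹ : Fˣ) : F) * Dm k (x : F) = 1 := by rw [Dm_mul]; simp [Dm_one]
    simp only [Matrix.mul_assoc]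
    rw [← Matrix.mul_assoc (Dm k ((x⁻¹ : Fˣ) : F)) (Dm k (x : F)), h, Matrix.one_mul])

theorem Dc_val (x : Fˣ) (M : Matrix.SpecialLinearGroup (Fin (k + 3)) F) :
    (Dc k x M).1 = Dm k (x : F) * M.1 * Dm k ((x⁻¹ : Fˣ) : F) := rfl

theorem extM_diag_qE (x : F) : extM (qE (k := k)) (!![1, 0; 0, x] : Matrix (Fin 2) (Fin 2) F) = Dm k x := by
  refine ext_mulVec_single fun a => ?_
  by_cases h0 : a = 0
  · subst h0
    conv_lhs => rw [← qE_one, extM_mulVec]
    rw [Dm_mulVec_zero, qvec]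
    simp
  · rw [Dm, Matrix.diagonal_mulVec_single, Function.update_of_ne h0]
    by_cases h1 : a = 1
    · subst h1
      rw [← qE_zero, extM_mulVec, qvec, qE_zero]
      simp
    · rw [extM_mulVec_out qE _ fun b => by fin_cases b <;> [exact Ne.symm h1; exact Ne.symm h0]]
      simp

theorem extSp_blockdiag {α ι : Type} [Fintype α] [DecidableEq α] [Fintype ι] [DecidableEq ι] (f : α ↪ ι)
    (A B : Matrix α α F) :
    extS f (fromBlocks A 0 0 B) = fromBlocks (extM f A) 0 0 (extM f B) := by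
  rw [extS, extM, extM, inc2, fromBlocks_transpose, ← fromBlocks_one, ← fromBlocks_one, sub_eq_add_neg,
    fromBlocks_neg, fromBlocks_add, fromBlocks_multiply, fromBlocks_multiply, fromBlocks_add]
  simp [sub_eq_add_neg]

theorem emB_slH (x : Fˣ) : ((Sp4Pres.emB (slH x) : Matrix.symplecticGroup (Fin 2) F) :
    Matrix (Fin 2 ⊕ Fin 2) (Fin 2 ⊕ Fin 2) F) =
      fromBlocks !![1, 0; 0, (x : F)] 0 0 !![1, 0; 0, ((x⁻¹ : Fˣ) : F)] := by
  rw [Sp4Pres.emB_val, Sp4Pres.coe_slH, Sp4Pres.matB_lit, Sp4Pres.lit_zero]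

theorem cJ_uPs_val {ι : Type} [Fintype ι] [DecidableEq ι] {S : Matrix ι ι F} (hS : Sᵀ = S) :
    ((cJ (uPs S) : Matrix.symplecticGroup ι F) : Matrix (ι ⊕ ι) (ι ⊕ ι) F) = fromBlocks 1 0 (-S) 1 := by
  rw [cJ_val, uPs_val hS, Matrix.J, fromBlocks_multiply, fromBlocks_multiply, fromBlocks_neg]
  simp

theorem single00_sym (t : F) :
    (Matrix.single (0 : Fin 2) 0 t : Matrix (Fin 2) (Fin 2) F)ᵀ = Matrix.single 0 0 t :=
  Matrix.transpose_single 0 0 t

theorem yS_sym (t : F) : (t • yS F : Matrix (Fin 2) (Fin 2) F)ᵀ = t • yS F := by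
  ext i j; fin_cases i <;> fin_cases j <;> simp [yS]

theorem emBW_E00 (t : F) :
    Commute (Sp4Pres.emB (slW : SL2)) (uPs (Matrix.single 0 0 t : Matrix (Fin 2) (Fin 2) F)) := by
  refine val_inj ?_
  rw [Submonoid.coe_mul, Submonoid.coe_mul, Sp4Pres.emB_val, Sp4Pres.coe_slW, uPs_val (single00_sym t),
    Sp4Pres.matB_lit, fromBlocks_multiply, fromBlocks_multiply]
  congr 1 <;> ext i j <;> fin_cases i <;> fin_cases j <;>
    simp [Matrix.mul_apply, Matrix.vecMul, dotProduct, Fin.sum_univ_two, Matrix.single_apply]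

theorem emBU_E00 (p t : F) :
    Commute (Sp4Pres.emB (slU p : SL2)) (cJ (uPs (Matrix.single 0 0 t : Matrix (Fin 2) (Fin 2) F))) := by
  refine val_inj ?_
  rw [Submonoid.coe_mul, Submonoid.coe_mul, Sp4Pres.emB_val, Sp4Pres.coe_slU, cJ_uPs_val (single00_sym t),
    Sp4Pres.matB_lit, fromBlocks_multiply, fromBlocks_multiply]
  congr 1 <;> ext i j <;> fin_cases i <;> fin_cases j <;>
    simp [Matrix.mul_apply, Matrix.vecMul, dotProduct, Fin.sum_univ_two, Matrix.single_apply]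

theorem emBW_yS (t : F) :
    Sp4Pres.emB (slW : SL2) * uPs (t • yS F) * (Sp4Pres.emB (slW : SL2))⁻¹ = lev (slU t : SL2) := by
  rw [mul_inv_eq_iff_eq_mul]
  refine val_inj ?_
  rw [Submonoid.coe_mul, Submonoid.coe_mul, Sp4Pres.emB_val, Sp4Pres.coe_slW, uPs_val (yS_sym t),
    ← emA_eq_lev, Sp4Pres.emA_val, Sp4Pres.coe_slU, Sp4Pres.matA_lit,
    Sp4Pres.matB_lit, fromBlocks_multiply, fromBlocks_multiply]
  congr 1 <;> ext i j <;> fin_cases i <;> fin_cases j <;>
    simp [Matrix.mul_apply, Fin.sum_univ_two, yS]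

/-- A lower unipotent element. -/
def loU (c : F) : Matrix.SpecialLinearGroup (Fin 2) F := ⟨!![1, 0; c, 1], by simp [Matrix.det_fin_two]⟩

theorem loU_val (c : F) : (loU c).1 = !![1, 0; c, 1] := rfl

/-- The matrix appearing in the conjugate of a short root element. -/
def yT (p t : F) : Matrix (Fin 2) (Fin 2) F := !![p * t ^ 2, t; t, 0]

theorem yT_sym (p t : F) : (yT p t)ᵀ = yT p t := by
  ext i j; fin_cases i <;> fin_cases j <;> simp [yT]

theorem emBU_yS (p t : F) :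
    Sp4Pres.emB (slU p : SL2) * cJ (uPs (t • yS F)) * (Sp4Pres.emB (slU p : SL2))⁻¹ =
      cJ (uPs (yT p t)) * lev (loU (-(p * t))) := by
  rw [mul_inv_eq_iff_eq_mul]
  refine val_inj ?_
  rw [Submonoid.coe_mul, Submonoid.coe_mul, Submonoid.coe_mul, Sp4Pres.emB_val, Sp4Pres.coe_slU,
    cJ_uPs_val (yS_sym t), cJ_uPs_val (yT_sym p t), ← emA_eq_lev, Sp4Pres.emA_val, loU_val, Sp4Pres.matA_lit,
    Sp4Pres.matB_lit, fromBlocks_multiply, fromBlocks_multiply, fromBlocks_multiply]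
  congr 1 <;> ext i j <;> fin_cases i <;> fin_cases j <;>
    simp [Matrix.mul_apply, Fin.sum_univ_two, yS, yT] <;> ring

/-- Conjugation of the short root copy by a torus element. -/
def dA (x : Fˣ) (A : SL2) : SL2 :=
  ⟨!![A.1 0 0, A.1 0 1 * ((x⁻¹ : Fˣ) : F); (x : F) * A.1 1 0, A.1 1 1], by
    rw [Matrix.det_fin_two]
    have h := A.2
    rw [Matrix.det_fin_two] at h
    simp
    field_simp
    linear_combination h⟩

theorem dA_val (x : Fˣ) (A : SL2) :
    (dA x A).1 = !![A.1 0 0, A.1 0 1 * ((x⁻¹ : Fˣ) : F); (x : F) * A.1 1 0, A.1 1 1] := rfl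

theorem emB_slH_lev (x : Fˣ) (A : SL2) :
    Sp4Pres.emB (slH x) * lev A * (Sp4Pres.emB (slH x))⁻¹ = lev (dA x A) := by
  rw [mul_inv_eq_iff_eq_mul]
  refine val_inj ?_
  rw [Submonoid.coe_mul, Submonoid.coe_mul, emB_slH, ← emA_eq_lev, ← emA_eq_lev, Sp4Pres.emA_val,
    Sp4Pres.emA_val, dA_val, Sp4Pres.matA, Sp4Pres.matA, fromBlocks_multiply, fromBlocks_multiply]
  congr 1 <;> ext i j <;> fin_cases i <;> fin_cases j <;>
    simp [Matrix.mul_apply, Matrix.vecMul, dotProduct, Fin.sum_univ_two] <;> (try field_simp)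

theorem Dc_extC (x : Fˣ) (N : Matrix.SpecialLinearGroup (Fin (k + 2)) F) :
    Dc k x (extSL cE N) = extSL cE N := by
  refine Subtype.ext (ext_mulVec_single fun a => ?_)
  rw [Dc_val, extSL_val, Matrix.mul_assoc, ← Matrix.mulVec_mulVec, ← Matrix.mulVec_mulVec, Dm, Dm,
    Matrix.diagonal_mulVec_single]
  cases a using Fin.cases with
  | zero =>
    rw [Function.update_self, mul_one, show (Pi.single 0 ((x⁻¹ : Fˣ) : F) : Fin (k + 3) → F) =
      ((x⁻¹ : Fˣ) : F) • bv 0 by rw [← Pi.single_smul, smul_eq_mul, mul_one], Matrix.mulVec_smul,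
      extM_mulVec_out cE _ fun b => cE_ne b, Matrix.mulVec_smul, Matrix.diagonal_mulVec_single]
    simp [← Pi.single_smul]
  | succ b =>
    rw [Function.update_of_ne (Fin.succ_ne_zero b), Pi.one_apply, one_mul,
      show bv b.succ = (Fin.cons 0 (Pi.single b 1) : Fin (k + 3) → F) from (tail_single_succ b 1).symm,
      extM_cons]
    ext i
    cases i using Fin.cases with
    | zero => simp [Matrix.mulVec_diagonal]
    | succ c => simp [Matrix.mulVec_diagonal, Fin.succ_ne_zero c]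

theorem tinv_rowU (r : Fin (k + 2) → F) : (tinv (rowU r)).1 = (rowU (-r)).1ᵀ := by
  rw [tinv_val, rowU_inv]

/-- The two blocks generate `SL`. -/
theorem gen_top {K : Subgroup (Matrix.SpecialLinearGroup (Fin (k + 3)) F)}
    (hc : ∀ N, extSL cE N ∈ K) (hq : ∀ A, extSL qE A ∈ K) : K = ⊤ := by
  set K' := K ⊓ K.comap (tinv (ι := Fin (k + 3)) (F := F)) with hK'
  have hc' : ∀ N, extSL cE N ∈ K' := fun N => ⟨hc N, by
    show tinv (extSL cE N) ∈ K
    rw [tinv_extSL]; exact hc _⟩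
  have hq' : ∀ A, extSL qE A ∈ K' := fun A => ⟨hq A, by
    show tinv (extSL qE A) ∈ K
    rw [tinv_extSL]; exact hq _⟩
  have hrow : ∀ r, rowU r ∈ K' := by
    intro r
    rcases eq_or_ne r 0 with rfl | hr
    · rw [rowU_zero]; exact K'.one_mem
    · obtain ⟨N, hN⟩ := rowU_conj_std hr
      rw [← hN]
      exact K'.mul_mem (K'.mul_mem (K'.inv_mem (hc' N)) (hq' _)) (hc' N)
  rw [eq_top_iff, ← Cfsg.Agent.Classical.SL_closure_transvections, Subgroup.closure_le]
  rintro _ ⟨⟨c, d, hcd, t⟩, rfl⟩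
  show Matrix.SpecialLinearGroup.transvection hcd t ∈ K
  cases c using Fin.cases with
  | zero =>
    cases d using Fin.cases with
    | zero => exact absurd rfl hcd
    | succ b =>
      rw [show Matrix.SpecialLinearGroup.transvection hcd t = rowU (Pi.single b t) from
        Subtype.ext (rowU_single b t).symm]
      exact (hrow _).1
  | succ a =>
    cases d using Fin.cases with
    | zero =>
      have e : Matrix.SpecialLinearGroup.transvection hcd t = tinv (rowU (-(Pi.single a t))) := by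
        refine Subtype.ext ?_
        rw [tinv_rowU, neg_neg, rowU_single]
        show Matrix.transvection a.succ 0 t = _
        simp [Matrix.transvection]
      rw [e]
      exact (hrow _).2
    | succ b =>
      have hab : a ≠ b := fun e => hcd (congrArg Fin.succ e)
      have e : Matrix.SpecialLinearGroup.transvection hcd t =
          extSL cE (Matrix.SpecialLinearGroup.transvection hab t) := by
        refine Subtype.ext ?_
        show Matrix.transvection a.succ b.succ t = extM cE (Matrix.transvection a b t)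
        rw [extM_transvection]
        rfl
      rw [e]
      exact hc _

theorem slH_conj_W (x : Fˣ) : (slW : SL2) * slH x * (slW : SL2)⁻¹ = slH x⁻¹ := by
  refine Subtype.ext ?_
  rw [sval_mul, sval_mul, Sp4Pres.coe_slW_inv, Sp4Pres.coe_slW, Sp4Pres.coe_slH, Sp4Pres.coe_slH,
    inv_inv, mul_fin_two, mul_fin_two]
  ext i j; fin_cases i <;> fin_cases j <;> simp

/-- Every element of `SL₂` is upper, lower, diagonal, upper. -/
theorem slDecomp (y : SL2) : ∃ (p q p' : F) (a : Fˣ),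
    y = slU p * (slW * slU q * slW⁻¹) * slH a * slU p' := by
  have h := y.2
  rw [Matrix.det_fin_two] at h
  rcases eq_or_ne (y.1 1 0) 0 with hc | hc
  · have ha : y.1 0 0 ≠ 0 := by
      intro e
      rw [e, hc] at h
      simp at h
    refine ⟨0, 0, y.1 0 1 / y.1 0 0, Units.mk0 _ ha, ?_⟩
    refine Subtype.ext ?_
    rw [sval_mul, sval_mul, sval_mul, sval_mul, sval_mul, Sp4Pres.coe_slW_inv, Sp4Pres.coe_slW,
      Sp4Pres.coe_slH, Sp4Pres.coe_slU, Sp4Pres.coe_slU]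
    ext i j; fin_cases i <;> fin_cases j <;> simp [hc] <;> field_simp
    all_goals (simp [hc] at h ⊢; linear_combination h)
  · refine ⟨(y.1 0 0 - 1) / y.1 1 0, -y.1 1 0, (y.1 1 1 - 1) / y.1 1 0, 1, ?_⟩
    refine Subtype.ext ?_
    rw [sval_mul, sval_mul, sval_mul, sval_mul, sval_mul, Sp4Pres.coe_slW_inv, Sp4Pres.coe_slW,
      Sp4Pres.coe_slH, Sp4Pres.coe_slU, Sp4Pres.coe_slU, Sp4Pres.coe_slU]
    ext i j; fin_cases i <;> fin_cases j <;> simp <;> field_simp
    all_goals first | ring1 | linear_combination h | linear_combination -h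

namespace SpData

variable {G : Type*} [Group G] (D : SpData k F G)

/-- The long root `SL₂`. -/
def i : Matrix.SpecialLinearGroup (Fin 2) F →* G := D.Φ.comp Sp4Pres.emB

theorem i_apply (y : SL2) : D.i y = D.Φ (Sp4Pres.emB y) := rfl

theorem dual_i (y : SL2) : D.dual.i y = D.i (slW * y * slW⁻¹) := by
  show D.Φ (cJ (Sp4Pres.emB y)) = _
  rw [cJ_emB, i_apply]

/-- The torus element. -/
def h (x : Fˣ) : G := D.i (slH x)

theorem dual_h (x : Fˣ) : D.dual.h x = D.h x⁻¹ := by rw [h, dual_i, slH_conj_W, h]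

theorem h_mul (x y : Fˣ) : D.h x * D.h y = D.h (x * y) := by rw [h, h, h, ← map_mul, ← slH_mul]

theorem h_one : D.h 1 = 1 := by rw [h, slH_one, map_one]

theorem h_inv (x : Fˣ) : (D.h x)⁻¹ = D.h x⁻¹ :=
  inv_eq_of_mul_eq_one_right (by rw [h_mul, mul_inv_cancel, h_one])

theorem P0_i (t : F) : D.P0 t = D.i (slU t) := rfl

theorem cj_cen (N : Matrix.SpecialLinearGroup (Fin (k + 2)) F) (y : SL2) :
    D.cj (extSL cE N) (D.i y) = D.i y := by
  rw [cj_apply, i_apply, (D.cen N y).eq, mul_inv_cancel_right]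

theorem dual_cj (M : Matrix.SpecialLinearGroup (Fin (k + 3)) F) (x : G) :
    D.dual.cj M x = D.cj (tinv M) x := rfl

theorem h_cj (x : Fˣ) (M : Matrix.SpecialLinearGroup (Fin (k + 3)) F) :
    D.h x * D.j M * (D.h x)⁻¹ = D.j (Dc k x M) := by
  have hK : MonoidHom.eqLocus ((MulAut.conj (D.h x)).toMonoidHom.comp D.j) (D.j.comp (Dc k x)) = ⊤ := by
    refine gen_top (fun N => ?_) fun A => ?_
    · show D.h x * D.j (extSL cE N) * (D.h x)⁻¹ = D.j (Dc k x (extSL cE N))
      rw [Dc_extC, h, i_apply, ← (D.cen N (slH x)).eq, mul_inv_cancel_right]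
    · show D.h x * D.j (extSL qE A) * (D.h x)⁻¹ = D.j (Dc k x (extSL qE A))
      rw [← D.Φj, h, i_apply, ← map_inv, ← map_mul, ← map_mul, emB_slH_lev, D.Φj]
      congr 1
      refine Subtype.ext ?_
      rw [Dc_val, ← extM_diag_qE, ← extM_diag_qE, extSL_val, extSL_val, ← extM_mul, ← extM_mul, dA_val]
      congr 1
      ext i j; fin_cases i <;> fin_cases j <;>
        simp [Matrix.mul_apply, Matrix.vecMul, dotProduct, Fin.sum_univ_two] <;> field_simp
  have : M ∈ MonoidHom.eqLocus ((MulAut.conj (D.h x)).toMonoidHom.comp D.j) (D.j.comp (Dc k x)) := by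
    rw [hK]; trivial
  exact this

theorem h_T (x : Fˣ) (v : Fin (k + 3) → F) (t : F) :
    ∃ v' t', D.h x * D.T v t * (D.h x)⁻¹ = D.T v' t' := by
  rcases eq_or_ne v 0 with rfl | hv
  · exact ⟨0, 0, by simp [T_of_zero]⟩
  obtain ⟨M, rfl⟩ := exists_col (n := k + 1) 0 hv
  refine ⟨(Dc k x M).1 *ᵥ bv 0, (x : F) ^ 2 * t, ?_⟩
  rw [T_col, T_col, cj_apply, cj_apply]
  calc D.h x * (D.j M * D.P0 t * (D.j M)⁻¹) * (D.h x)⁻¹
      = (D.h x * D.j M * (D.h x)⁻¹) * (D.h x * D.P0 t * (D.h x)⁻¹) *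
          (D.h x * D.j M * (D.h x)⁻¹)⁻¹ := by group
    _ = _ := by
      rw [h_cj, h, P0_i, P0_i, ← map_inv D.i, ← map_mul, ← map_mul, slH_conj]

/-- The Levi subgroup. -/
def L : Subgroup G := D.j.range ⊔ Subgroup.closure (Set.range D.h)

theorem j_mem (M : Matrix.SpecialLinearGroup (Fin (k + 3)) F) : D.j M ∈ D.L :=
  Subgroup.mem_sup_left ⟨M, rfl⟩

theorem h_mem (x : Fˣ) : D.h x ∈ D.L := Subgroup.mem_sup_right (Subgroup.subset_closure ⟨x, rfl⟩)

theorem L_form {l : G} (hl : l ∈ D.L) :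
    ∃ (M : Matrix.SpecialLinearGroup (Fin (k + 3)) F) (x : Fˣ), l = D.j M * D.h x := by
  rw [L, ← Subgroup.closure_eq D.j.range, ← Subgroup.closure_union] at hl
  induction hl using Subgroup.closure_induction with
  | mem l hl =>
    rcases hl with ⟨M, rfl⟩ | ⟨x, rfl⟩
    · exact ⟨M, 1, by rw [h_one, mul_one]⟩
    · exact ⟨1, x, by rw [map_one, one_mul]⟩
  | one => exact ⟨1, 1, by rw [map_one, h_one, one_mul]⟩
  | mul a b _ _ ha hb =>
    obtain ⟨M, x, rfl⟩ := ha
    obtain ⟨N, y, rfl⟩ := hb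
    refine ⟨M * Dc k x N, x * y, ?_⟩
    rw [map_mul, ← h_cj, ← h_mul]; group
  | inv a _ ha =>
    obtain ⟨M, x, rfl⟩ := ha
    refine ⟨Dc k x⁻¹ M⁻¹, x⁻¹, ?_⟩
    rw [← h_cj, map_inv, ← h_inv]; group

theorem L_norm {l : G} (hl : l ∈ D.L) {a : G} (ha : a ∈ D.TA) : l * a * l⁻¹ ∈ D.TA := by
  obtain ⟨M, x, rfl⟩ := D.L_form hl
  have hx : D.h x * a * (D.h x)⁻¹ ∈ D.TA := Chev.conj_closure_mem (by
    rintro _ ⟨⟨v, t⟩, rfl⟩
    obtain ⟨v', t', e⟩ := D.h_T x v t
    rw [e]; exact Subgroup.subset_closure ⟨(v', t'), rfl⟩) ha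
  have hj : D.j M * (D.h x * a * (D.h x)⁻¹) * (D.j M)⁻¹ ∈ D.TA := Chev.conj_closure_mem (by
    rintro _ ⟨⟨v, t⟩, rfl⟩
    show D.cj M (D.T v t) ∈ _
    rw [cj_T]; exact Subgroup.subset_closure ⟨(_, t), rfl⟩) hx
  simpa [mul_assoc] using hj

/-- The lower Siegel unipotent subgroup. -/
def MA : Subgroup G := D.dual.TA

theorem dual_L_mem {l : G} (hl : l ∈ D.L) : l ∈ D.dual.L := by
  obtain ⟨M, x, rfl⟩ := D.L_form hl
  refine mul_mem ?_ ?_
  · have := D.dual.j_mem (tinv M)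
    rwa [show D.dual.j (tinv M) = D.j (tinv (tinv M)) from rfl, tinv_tinv] at this
  · have := D.dual.h_mem x⁻¹
    rwa [dual_h, inv_inv] at this

theorem L_norm' {l : G} (hl : l ∈ D.L) {a : G} (ha : a ∈ D.MA) : l * a * l⁻¹ ∈ D.MA :=
  D.dual.L_norm (D.dual_L_mem hl) ha

theorem uP_mem (S : Matrix (Fin (k + 3)) (Fin (k + 3)) F) : D.uP S ∈ D.TA := SetLike.coe_mem _

theorem TA_uP {a : G} (ha : a ∈ D.TA) :
    ∃ S : Matrix (Fin (k + 3)) (Fin (k + 3)) F, Sᵀ = S ∧ a = D.uP S := by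
  rw [TA] at ha
  induction ha using Subgroup.closure_induction with
  | mem a ha =>
    obtain ⟨⟨v, t⟩, rfl⟩ := ha
    exact ⟨_, vv_sym t v, (D.uP_square v t).symm⟩
  | one => exact ⟨0, transpose_zero, D.uP_zero.symm⟩
  | mul a b _ _ ha hb =>
    obtain ⟨S, hS, rfl⟩ := ha
    obtain ⟨T, hT, rfl⟩ := hb
    exact ⟨S + T, by rw [transpose_add, hS, hT], (D.uP_add S T).symm⟩
  | inv a _ ha =>
    obtain ⟨S, hS, rfl⟩ := ha
    refine ⟨-S, by rw [transpose_neg, hS], inv_eq_of_mul_eq_one_right ?_⟩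
    rw [← uP_add, add_neg_cancel, uP_zero]

theorem exists_move {v : Fin (k + 3) → F} (hv0 : v 0 = 0) (hv : v ≠ 0) :
    ∃ N : Matrix.SpecialLinearGroup (Fin (k + 2)) F, (extSL cE N).1 *ᵥ bv 1 = v := by
  have ht : Fin.tail v ≠ 0 := fun e => hv (by
    ext i
    cases i using Fin.cases with
    | zero => exact hv0
    | succ a => exact congrFun e a)
  obtain ⟨N, hN⟩ := exists_col (n := k) 0 ht
  refine ⟨N, ?_⟩
  rw [show (1 : Fin (k + 3)) = (0 : Fin (k + 2)).succ from rfl, extc_mulVec, hN, ← hv0, Fin.cons_self_tail]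

theorem single00_vv (t : F) : (Matrix.single 0 0 t : Matrix (Fin 2) (Fin 2) F) =
    t • vecMulVec (Pi.single 0 1) (Pi.single 0 1) := by
  rw [← Matrix.single_eq_single_vecMulVec_single, Matrix.smul_single, smul_eq_mul, mul_one]

theorem w_T {v : Fin (k + 3) → F} (hv0 : v 0 = 0) (t : F) : Commute (D.i slW) (D.T v t) := by
  rcases eq_or_ne v 0 with rfl | hv
  · rw [T_of_zero]; exact Commute.one_right _
  obtain ⟨N, rfl⟩ := exists_move hv0 hv
  rw [← cj_T, ← D.cj_cen N slW, ← qE_zero (k := k), ← incM_mulVec_single, ← Φ_square, ← single00_vv,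
    i_apply]
  exact ((emBW_E00 t).map D.Φ).map (D.cj _)

theorem X_T {v : Fin (k + 3) → F} (hv0 : v 0 = 0) (p t : F) :
    Commute (D.i (slU p)) (D.dual.T v t) := by
  rcases eq_or_ne v 0 with rfl | hv
  · rw [T_of_zero]; exact Commute.one_right _
  obtain ⟨N, rfl⟩ := exists_move hv0 hv
  rw [← cj_T, dual_cj, tinv_extSL, ← D.cj_cen (tinv N) (slU p), ← qE_zero (k := k), ← incM_mulVec_single,
    ← Φ_square, ← single00_vv, i_apply]
  exact ((emBU_E00 p t).map D.Φ).map (D.cj _)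

theorem yS_B (t : F) : D.Φ (uPs (t • yS F)) = D.B (bv 0) (bv 1) t := by
  have := D.B_comb 1 ![0, 1] ![1, 0] t
  simp only [Matrix.cons_val_zero, Matrix.cons_val_one, zero_smul, add_zero, zero_add, one_smul,
    sval_one, Matrix.one_mulVec] at this
  rw [this, ΦM, cj_one]
  congr 2
  ext i j; fin_cases i <;> fin_cases j <;> simp [yS, vecMulVec_apply]

theorem exists_shift {b : Fin (k + 3)} (hb : b ≠ 0) :
    ∃ N : Matrix.SpecialLinearGroup (Fin (k + 2)) F,
      (extSL cE N).1 *ᵥ bv 0 = bv 0 ∧ (extSL cE N).1 *ᵥ bv 1 = bv b := by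
  obtain ⟨N, hN⟩ := exists_move (v := bv b) (by simp [hb.symm]) (by simp)
  exact ⟨N, by rw [extSL_val, extM_mulVec_out cE _ fun a => cE_ne a], hN⟩

/-- Elements which are unipotent times Levi. -/
def TL (g : G) : Prop := ∃ a ∈ D.TA, ∃ l ∈ D.L, g = a * l

theorem TL_mul {g g' : G} (hg : D.TL g) (hg' : D.TL g') : D.TL (g * g') := by
  obtain ⟨a, ha, l, hl, rfl⟩ := hg
  obtain ⟨a', ha', l', hl', rfl⟩ := hg'
  exact ⟨a * (l * a' * l⁻¹), mul_mem ha (D.L_norm hl ha'), l * l', mul_mem hl hl', by group⟩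

theorem TL_one : D.TL 1 := ⟨1, one_mem _, 1, one_mem _, (one_mul 1).symm⟩

/-- Elements which are lower unipotent times Levi. -/
def ML (g : G) : Prop := ∃ a ∈ D.MA, ∃ l ∈ D.L, g = a * l

theorem ML_mul {g g' : G} (hg : D.ML g) (hg' : D.ML g') : D.ML (g * g') := by
  obtain ⟨a, ha, l, hl, rfl⟩ := hg
  obtain ⟨a', ha', l', hl', rfl⟩ := hg'
  exact ⟨a * (l * a' * l⁻¹), mul_mem ha (D.L_norm' hl ha'), l * l', mul_mem hl hl', by group⟩

theorem ML_one : D.ML 1 := ⟨1, one_mem _, 1, one_mem _, (one_mul 1).symm⟩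

theorem wP {S : Matrix (Fin (k + 3)) (Fin (k + 3)) F} (hS : Sᵀ = S) :
    D.TL (D.i slW * D.uP (S - Matrix.single 0 0 (S 0 0)) * (D.i slW)⁻¹) := by
  refine symm_induction (P := fun S => D.TL (D.i slW * D.uP (S - Matrix.single 0 0 (S 0 0)) * (D.i slW)⁻¹))
    ?_ ?_ ?_ ?_ hS
  · simpa [uP_zero] using D.TL_one
  · intro S T _ _ h1 h2
    rw [show S + T - Matrix.single 0 0 ((S + T) 0 0) =
      (S - Matrix.single 0 0 (S 0 0)) + (T - Matrix.single 0 0 (T 0 0)) by
        rw [Matrix.add_apply, Matrix.single_add]; abel, uP_add]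
    have := D.TL_mul h1 h2
    simpa [mul_assoc] using this
  · intro a t
    rcases eq_or_ne a 0 with rfl | ha
    · simpa [uP_zero] using D.TL_one
    rw [Matrix.single_apply_of_ne (h := fun e => ha e.1), Matrix.single_zero, sub_zero, uP_diag,
      (D.w_T (by simp [ha.symm]) t).eq, mul_inv_cancel_right]
    exact ⟨_, Subgroup.subset_closure ⟨(_, t), rfl⟩, 1, one_mem _, (mul_one _).symm⟩
  · intro a b t hab
    rw [Matrix.add_apply, Matrix.single_apply_of_ne (h := fun e => hab (e.1.trans e.2.symm)),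
      Matrix.single_apply_of_ne (h := fun e => hab (e.2.trans e.1.symm)), add_zero, Matrix.single_zero,
      sub_zero, D.uP_pair hab]
    have key : ∀ b, b ≠ 0 → D.TL (D.i slW * D.B (bv 0) (bv b) t * (D.i slW)⁻¹) := by
      intro b hb
      obtain ⟨N, h0, h1⟩ := exists_shift (F := F) hb
      rw [← h0, ← h1, ← cj_B, ← D.cj_cen N slW, ← map_inv, ← map_mul, ← map_mul, ← yS_B, i_apply,
        ← map_inv, ← map_mul, ← map_mul, emBW_yS, D.Φj]
      exact ⟨1, one_mem _, _, mul_mem (mul_mem (D.j_mem _) (D.j_mem _)) (inv_mem (D.j_mem _)),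
        (one_mul _).symm⟩
    rcases eq_or_ne a 0 with rfl | ha
    · exact key b hab.symm
    rcases eq_or_ne b 0 with rfl | hb
    · rw [B_symm]; exact key a hab
    have hc : Commute (D.i slW) (D.B (bv a) (bv b) t) :=
      ((D.w_T (by simp [ha.symm, hb.symm]) t).mul_right (D.w_T (by simp [ha.symm]) _)).mul_right
        (D.w_T (by simp [hb.symm]) _)
    rw [hc.eq, mul_inv_cancel_right]
    exact ⟨_, D.uP_pair hab t ▸ D.uP_mem _, 1, one_mem _, (mul_one _).symm⟩

theorem XM (p : F) {S : Matrix (Fin (k + 3)) (Fin (k + 3)) F} (hS : Sᵀ = S) :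
    D.ML (D.i (slU p) * D.dual.uP (S - Matrix.single 0 0 (S 0 0)) * (D.i (slU p))⁻¹) := by
  refine symm_induction
    (P := fun S => D.ML (D.i (slU p) * D.dual.uP (S - Matrix.single 0 0 (S 0 0)) * (D.i (slU p))⁻¹))
    ?_ ?_ ?_ ?_ hS
  · simpa [uP_zero] using D.ML_one
  · intro S T _ _ h1 h2
    rw [show S + T - Matrix.single 0 0 ((S + T) 0 0) =
      (S - Matrix.single 0 0 (S 0 0)) + (T - Matrix.single 0 0 (T 0 0)) by
        rw [Matrix.add_apply, Matrix.single_add]; abel, uP_add]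
    have := D.ML_mul h1 h2
    simpa [mul_assoc] using this
  · intro a t
    rcases eq_or_ne a 0 with rfl | ha
    · simpa [uP_zero] using D.ML_one
    rw [Matrix.single_apply_of_ne (h := fun e => ha e.1), Matrix.single_zero, sub_zero, uP_diag,
      (D.X_T (by simp [ha.symm]) p t).eq, mul_inv_cancel_right]
    exact ⟨_, Subgroup.subset_closure ⟨(_, t), rfl⟩, 1, one_mem _, (mul_one _).symm⟩
  · intro a b t hab
    rw [Matrix.add_apply, Matrix.single_apply_of_ne (h := fun e => hab (e.1.trans e.2.symm)),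
      Matrix.single_apply_of_ne (h := fun e => hab (e.2.trans e.1.symm)), add_zero, Matrix.single_zero,
      sub_zero, D.dual.uP_pair hab]
    have key : ∀ b, b ≠ 0 → D.ML (D.i (slU p) * D.dual.B (bv 0) (bv b) t * (D.i (slU p))⁻¹) := by
      intro b hb
      obtain ⟨N, h0, h1⟩ := exists_shift (F := F) hb
      rw [← h0, ← h1, ← cj_B, dual_cj, tinv_extSL, ← D.cj_cen (tinv N) (slU p), ← map_inv, ← map_mul,
        ← map_mul, ← yS_B, i_apply]
      show D.ML (D.cj _ (D.Φ (Sp4Pres.emB (slU p)) * D.Φ (cJ (uPs (t • yS F))) *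
        (D.Φ (Sp4Pres.emB (slU p)))⁻¹))
      rw [← map_inv, ← map_mul, ← map_mul, emBU_yS, map_mul, D.Φj, map_mul, cj_apply, cj_apply]
      refine ⟨_, D.L_norm' (D.j_mem _) ?_, _,
        mul_mem (mul_mem (D.j_mem (extSL cE (tinv N))) (D.j_mem (extSL qE (loU (-(p * t))))))
          (inv_mem (D.j_mem (extSL cE (tinv N)))), rfl⟩
      show D.dual.Φ (uPs (yT p t)) ∈ D.dual.TA
      rw [D.dual.Φ_uPs (yT_sym p t)]
      exact D.dual.uP_mem _
    rcases eq_or_ne a 0 with rfl | ha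
    · exact key b hab.symm
    rcases eq_or_ne b 0 with rfl | hb
    · rw [B_symm]; exact key a hab
    have hc : Commute (D.i (slU p)) (D.dual.B (bv a) (bv b) t) :=
      ((D.X_T (by simp [ha.symm, hb.symm]) p t).mul_right (D.X_T (by simp [ha.symm]) p _)).mul_right
        (D.X_T (by simp [hb.symm]) p _)
    rw [hc.eq, mul_inv_cancel_right]
    exact ⟨_, D.dual.uP_pair hab t ▸ D.dual.uP_mem _, 1, one_mem _, (mul_one _).symm⟩

theorem dual_P0 (t : F) : D.dual.P0 t = D.i (slW * slU t * slW⁻¹) := D.dual_i (slU t)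

theorem split_uP (S : Matrix (Fin (k + 3)) (Fin (k + 3)) F) :
    D.uP S = D.uP (S - Matrix.single 0 0 (S 0 0)) * D.P0 (S 0 0) := by
  conv_lhs => rw [← sub_add_cancel S (Matrix.single 0 0 (S 0 0)), uP_add, uP_diag, T_base]

theorem P0_mem (t : F) : D.P0 t ∈ D.TA := by
  rw [← T_base]; exact Subgroup.subset_closure ⟨(_, t), rfl⟩

/-- The cell. -/
def Cell (g : G) : Prop := ∃ a ∈ D.TA, ∃ b ∈ D.MA, ∃ c ∈ D.TA, ∃ l ∈ D.L, g = a * b * c * l

theorem Cell_T {a : G} (ha : a ∈ D.TA) {g : G} (hg : D.Cell g) : D.Cell (a * g) := by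
  obtain ⟨a', ha', b, hb, c, hc, l, hl, rfl⟩ := hg
  exact ⟨a * a', mul_mem ha ha', b, hb, c, hc, l, hl, by group⟩

theorem Cell_L {l : G} (hl : l ∈ D.L) {g : G} (hg : D.Cell g) : D.Cell (l * g) := by
  obtain ⟨a, ha, b, hb, c, hc, l', hl', rfl⟩ := hg
  exact ⟨l * a * l⁻¹, D.L_norm hl ha, l * b * l⁻¹, D.L_norm' hl hb, l * c * l⁻¹, D.L_norm hl hc,
    l * l', mul_mem hl hl', by group⟩

theorem Cell_W {g : G} (hg : D.Cell g) : D.Cell (D.i slW * g) := by
  obtain ⟨a, ha, b, hb, c, hc, l, hl, rfl⟩ := hg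
  obtain ⟨S, hS, rfl⟩ := D.TA_uP ha
  obtain ⟨T, hT, rfl⟩ := D.dual.TA_uP hb
  obtain ⟨a₁, ha₁, l₁, hl₁, e₁⟩ := D.wP hS
  obtain ⟨p, q, p', x, hy⟩ := slDecomp ((slW : SL2) * slU (S 0 0) * (slW * slU (T 0 0) * slW⁻¹))
  obtain ⟨b₂, hb₂, l₂, hl₂, e₂⟩ := D.XM p' hT
  have hT' : D.dual.uP T = D.dual.P0 (T 0 0) * D.dual.uP (T - Matrix.single 0 0 (T 0 0)) := by
    conv_lhs => rw [← add_sub_cancel (Matrix.single 0 0 (T 0 0)) T, uP_add, uP_diag, T_base]
  have hyG : D.i slW * D.P0 (S 0 0) * D.dual.P0 (T 0 0) =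
      D.P0 p * D.dual.P0 q * D.h x * D.P0 p' := by
    rw [dual_P0, dual_P0, P0_i, P0_i, P0_i, h, ← map_mul, ← map_mul, ← map_mul, ← map_mul, ← map_mul, hy]
  have e : D.i slW * (D.uP S * D.dual.uP T * c * l) =
      (a₁ * l₁) * (D.P0 p * ((D.dual.P0 q * (D.h x * b₂ * (D.h x)⁻¹)) *
        (D.h x * l₂ * (D.i (slU p') * c * l)))) := by
    rw [← e₁]
    calc D.i slW * (D.uP S * D.dual.uP T * c * l)
        = (D.i slW * D.uP (S - Matrix.single 0 0 (S 0 0)) * (D.i slW)⁻¹) *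
            (D.i slW * D.P0 (S 0 0) * D.dual.P0 (T 0 0)) *
              D.dual.uP (T - Matrix.single 0 0 (T 0 0)) * c * l := by
          rw [D.split_uP S, hT']; group
      _ = (D.i slW * D.uP (S - Matrix.single 0 0 (S 0 0)) * (D.i slW)⁻¹) *
            (D.P0 p * D.dual.P0 q * D.h x *
              (D.i (slU p') * D.dual.uP (T - Matrix.single 0 0 (T 0 0)) * (D.i (slU p'))⁻¹) *
                (D.i (slU p') * c * l)) := by
          rw [hyG, P0_i D p']; group
      _ = _ := by rw [e₂]; group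
  rw [e, mul_assoc a₁]
  refine D.Cell_T ha₁ (D.Cell_L hl₁ (D.Cell_T (D.P0_mem p) ?_))
  obtain ⟨a', ha', b', hb', c', hc', l', hl', e'⟩ : D.Cell (D.i (slU p') * c * l) :=
    ⟨1, one_mem _, 1, one_mem _, D.i (slU p') * c, mul_mem (D.P0_mem p') hc, l, hl, by group⟩
  have hl3 : D.h x * l₂ ∈ D.L := mul_mem (D.h_mem x) hl₂
  refine ⟨1, one_mem _, D.dual.P0 q * (D.h x * b₂ * (D.h x)⁻¹),
    mul_mem (D.dual.P0_mem q) (D.L_norm' (D.h_mem x) hb₂),
    (D.h x * l₂) * (D.i (slU p') * c) * (D.h x * l₂)⁻¹, D.L_norm hl3 (mul_mem (D.P0_mem p') hc),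
    (D.h x * l₂) * l, mul_mem hl3 hl, by group⟩

theorem Cell_all (hgen : D.i.range ⊔ D.j.range = ⊤) (g : G) : D.Cell g := by
  have hg : ∀ x, D.Cell x → D.Cell (g * x) := by
    have hmem : g ∈ Subgroup.closure (Set.range D.P0 ∪ {D.i slW} ∪ (D.L : Set G)) := by
      have : (⊤ : Subgroup G) ≤ Subgroup.closure (Set.range D.P0 ∪ {D.i slW} ∪ (D.L : Set G)) := by
        rw [← hgen, sup_le_iff]
        refine ⟨?_, fun x hx => ?_⟩
        · rw [MonoidHom.range_eq_map, ← closure_slU_slW (F := F), MonoidHom.map_closure,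
            Subgroup.closure_le]
          rintro _ ⟨y, ⟨t, rfl⟩ | rfl, rfl⟩
          · exact Subgroup.subset_closure (Or.inl (Or.inl ⟨t, rfl⟩))
          · exact Subgroup.subset_closure (Or.inl (Or.inr rfl))
        · obtain ⟨M, rfl⟩ := hx
          exact Subgroup.subset_closure (Or.inr (D.j_mem M))
      exact this trivial
    induction hmem using Subgroup.closure_induction'' with
    | mem y hy =>
      rcases hy with (⟨t, rfl⟩ | rfl) | hy
      · exact fun x => D.Cell_T (D.P0_mem t)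
      · exact fun x => D.Cell_W
      · exact fun x => D.Cell_L hy
    | inv_mem y hy =>
      rcases hy with (⟨t, rfl⟩ | rfl) | hy
      · exact fun x => D.Cell_T (inv_mem (D.P0_mem t))
      · intro x hx
        have : (D.i slW)⁻¹ = D.h (-1) * D.i slW := by
          rw [h, ← map_inv, ← map_mul]
          congr 1
          refine Subtype.ext ?_
          rw [sval_mul, Sp4Pres.coe_slW_inv, Sp4Pres.coe_slH, Sp4Pres.coe_slW, mul_fin_two]
          ext i j; fin_cases i <;> fin_cases j <;> simp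
        rw [this, mul_assoc]
        exact D.Cell_L (D.h_mem _) (D.Cell_W hx)
      · exact fun x => D.Cell_L (inv_mem hy)
    | one => simp
    | mul y z _ _ hy hz => exact fun x hx => by rw [mul_assoc]; exact hy _ (hz x hx)
  simpa using hg 1 ⟨1, one_mem _, 1, one_mem _, 1, one_mem _, 1, one_mem _, by simp⟩

theorem π_h (x : Fˣ) :
    ((D.π (D.h x) : Matrix.symplecticGroup (Fin (k + 3)) F) :
      Matrix (Fin (k + 3) ⊕ Fin (k + 3)) (Fin (k + 3) ⊕ Fin (k + 3)) F) =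
      fromBlocks (Dm k (x : F)) 0 0 (Dm k ((x⁻¹ : Fˣ) : F)) := by
  rw [h, i_apply, D.πΦ, extSp_val, emB_slH, extSp_blockdiag, extM_diag_qE, extM_diag_qE]

theorem injective (hgen : D.i.range ⊔ D.j.range = ⊤) : Function.Injective D.π := by
  rw [injective_iff_map_eq_one]
  intro g hg
  obtain ⟨a, ha, b, hb, c, hc, l, hl, rfl⟩ := D.Cell_all hgen g
  obtain ⟨S, hS, rfl⟩ := D.TA_uP ha
  obtain ⟨T, hT, rfl⟩ := D.dual.TA_uP hb
  obtain ⟨S', hS', rfl⟩ := D.TA_uP hc
  obtain ⟨M, x, rfl⟩ := D.L_form hl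
  have hTπ : D.π (D.dual.uP T) = cJ (uPs T) := by
    have := D.dual.π_uP hT
    rw [show D.dual.π (D.dual.uP T) = cJ (D.π (D.dual.uP T)) from rfl] at this
    rw [← this, cJ_cJ]
  have h' := congrArg Subtype.val hg
  simp only [map_mul, Submonoid.coe_mul, OneMemClass.coe_one, D.π_uP hS, D.π_uP hS', hTπ, D.πj, π_h,
    uPs_val hS, uPs_val hS', cJ_uPs_val hT, lev_val] at h'
  simp only [fromBlocks_multiply, Matrix.mul_zero, Matrix.zero_mul, Matrix.mul_one, Matrix.one_mul,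
    zero_add, add_zero] at h'
  rw [← fromBlocks_one, fromBlocks_inj] at h'
  obtain ⟨h11, h12, h21, h22⟩ := h'
  set A := M.1 * Dm k (x : F) with hA
  set A' := (tinv M).1 * Dm k ((x⁻¹ : Fˣ) : F) with hA'
  have hu : A * (Dm k ((x⁻¹ : Fˣ) : F) * (M⁻¹).1) = 1 := by
    rw [hA, Matrix.mul_assoc, ← Matrix.mul_assoc (Dm k (x : F)), Dm_mul, Units.mul_inv, Dm_one,
      Matrix.one_mul, sval_mul_inv]
  have hu' : A' * (Dm k (x : F) * ((tinv M)⁻¹).1) = 1 := by
    rw [hA', Matrix.mul_assoc, ← Matrix.mul_assoc (Dm k ((x⁻¹ : Fˣ) : F)), Dm_mul, Units.inv_mul, Dm_one,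
      Matrix.one_mul, sval_mul_inv]
  have cancel : ∀ {X Y Z : Matrix (Fin (k + 3)) (Fin (k + 3)) F}, Y * Z = 1 → X * Y = 0 → X = 0 := by
    intro X Y Z hYZ hXY
    rw [← Matrix.mul_one X, ← hYZ, ← Matrix.mul_assoc, hXY, Matrix.zero_mul]
  have hT0 : T = 0 := by
    have := cancel hu (X := -T) h21
    simpa using this
  subst hT0
  simp only [neg_zero, Matrix.mul_zero, Matrix.zero_mul, zero_add, add_zero, Matrix.mul_one,
    Matrix.one_mul, Matrix.mul_assoc] at h11 h12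
  have hSS : S + S' = 0 := cancel hu' (by rw [add_comm S S']; exact h12)
  have hx : x = 1 := Units.ext (by
    have := congrArg Matrix.det h11
    rw [hA] at this
    rw [det_mul, M.2, Dm_det, one_mul, det_one] at this
    exact this)
  subst hx
  rw [hA, Units.val_one, Dm_one, Matrix.mul_one] at h11
  have hM : M = 1 := Subtype.ext h11
  rw [hM, map_one, h_one, D.dual.uP_zero, mul_one, mul_one, mul_one, ← uP_add, hSS, uP_zero]

end SpData

end Cfsg.Agent.Lie.SpnPres
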