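import Cfsg.Agent.Lib.Lie.UnPresEvenThree

/-!
The relations in even dimension for two coordinates: pairs are classified by their determinant modulo the
torus and the squares of the circle.
-/

set_option autoImplicit false
set_option linter.unusedSectionVars false

namespace Cfsg.Agent.Lie.UnPres

open Matrix Cfsg.Agent.Classical Cfsg.Agent.Classical.PSUAut
open Cfsg.Agent.Lie.SpnPres (sval_mul sval_one inv_mulVec mulVec_inv exists_col sval_mul_inv sval_inv_mul)

variable {F : Type*} [Field F] [Fintype F] {q : ℕ} (hF : Fintype.card F = q ^ 2) {k m ε : ℕ}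

local notation "σ" => qFrob hF
local notation "SL2'" => SpecialLinearGroup (Fin (0 + 2)) F
local notation "f₀" => (Pi.single (0 : Fin (0 + 2)) (1 : F) : Fin (0 + 2) → F)
local notation "f₁" => (Pi.single (1 : Fin (0 + 2)) (1 : F) : Fin (0 + 2) → F)

include hF

variable {μ ω lam k₁ : F} {eps c₀ om : Fˣ}

theorem Prim.pow_two' (P : Prim q ω) : ω ^ 2 = ω * σ ω * (ω ^ (q - 1)) ^ q := by
  have h2 := two_le_q hF
  rw [qFrob_apply, ← pow_succ', ← pow_mul, ← pow_add,
    show q + 1 + (q - 1) * q = 2 + (q ^ 2 - 1) by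
      obtain ⟨r, rfl⟩ : ∃ r, q = r + 1 := ⟨q - 1, by omega⟩
      rw [Nat.add_sub_cancel, show (r + 1) ^ 2 - 1 = r * r + 2 * r by
        refine Nat.sub_eq_of_eq_add ?_; ring]
      ring, pow_add, P.pow_N hF, mul_one]

theorem Prim.pow_four (P : Prim q ω) :
    ω ^ 4 = ω * σ ω * (ω * σ ω) * (ω ^ (q - 1) * ω ^ (q - 1)) ^ q := by
  rw [show ω ^ 4 = ω ^ 2 * ω ^ 2 by rw [← pow_add], P.pow_two' hF, mul_pow]
  ring

omit hF in
/-- A set of scalars stable under a power of the generator and containing the smaller powers. -/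
theorem class_all (P : Prim q ω) {n : ℕ} (hn : 0 < n) {S : F → Prop} (hs : ∀ d, S d → S (ω ^ n * d))
    (hi : ∀ i < n, S (ω ^ i)) {d : F} (hd : d ≠ 0) : S d := by
  obtain ⟨i, rfl⟩ := P.gen d hd
  clear hd
  induction i using Nat.strong_induction_on with
  | _ i ih =>
    by_cases h : i < n
    · exact hi i h
    · rw [show i = n + (i - n) by omega, pow_add]
      exact hs _ (ih _ (by omega))

/-- The relations in even dimension for two coordinates. -/
noncomputable def relEven2 (μ ω lam k₁ : F) (eps c₀ om : Fˣ) (a b : SpecialLinearGroup (Fin (0 + 2)) F)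
    {P : Type*} [Group P] (jf : SpecialLinearGroup (Fin (0 + 2)) F → P) (u w : P) : List (P × P) :=
  [(jf (rowE (Pi.single 0 1)) * u, u * jf (rowE (Pi.single 0 1))),
    (jf (rowE (Pi.single 0 (eps : F))) * u, u * jf (rowE (Pi.single 0 (eps : F)))),
    (jf (dg eps) * u * (jf (dg eps))⁻¹, u),
    (jf (dg om) * w * (jf (dg om))⁻¹ * w⁻¹ * jf a * (jf (dg om) * w * (jf (dg om))⁻¹ * w⁻¹)⁻¹,
      jf (tcj hF (nu hF om) a)),
    (jf (dg om) * w * (jf (dg om))⁻¹ * w⁻¹ * jf b * (jf (dg om) * w * (jf (dg om))⁻¹ * w⁻¹)⁻¹,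
      jf (tcj hF (nu hF om) b)),
    (jf (dg om) * w * (jf (dg om))⁻¹ * w⁻¹ * u * (jf (dg om) * w * (jf (dg om))⁻¹ * w⁻¹)⁻¹,
      Tw jf u (tD hF (nu hF om : F) *ᵥ f₀))] ++
  (List.range 2).map (fun i => (Tw jf u f₀ * Tw jf u (ω ^ i • f₁), Tw jf u (ω ^ i • f₁) * Tw jf u f₀)) ++
  (List.range 4).map (fun i => (Bw (Tw jf u) (ω • f₀) (ω ^ i • f₁), Bw (Tw jf u) f₀ (σ ω • (ω ^ i • f₁)))) ++
  (List.range 4).map (fun i => (Bw (Tw jf u) f₀ (ω ^ i • f₁ + μ • f₀), Bw (Tw jf u) f₀ (ω ^ i • f₁))) ++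
  (List.range 4).map (fun i =>
    (Bw (Tw jf u) f₀ (ω ^ i • f₁ + k₁ • f₀), Tw jf u f₀ * Bw (Tw jf u) f₀ (ω ^ i • f₁))) ++
  [(w * Tw jf u f₁ * w⁻¹, Tw jf u f₁),
    (w * Bw (Tw jf u) f₀ f₁ * w⁻¹, jf (colE fun i => σ μ * μ * (Pi.single 0 1 : Fin (0 + 1) → F) i)),
    (w * (jf (swp 1 0) * w * (jf (swp 1 0))⁻¹), jf (swp 1 0) * w * (jf (swp 1 0))⁻¹ * w),
    (w, Tw jf u (Pi.single 0 lam) * (w * Tw jf u (Pi.single 0 lam) * w⁻¹) * Tw jf u (Pi.single 0 lam)),
    (w * jf (dg c₀) * w, jf (dg c₀))]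

theorem relEven2_map {P Q : Type*} [Group P] [Group Q] (f : P →* Q) (a b : SL2') (jf : SL2' → P) (u w : P) :
    (relEven2 hF μ ω lam k₁ eps c₀ om a b jf u w).map (Prod.map f f) =
      relEven2 hF μ ω lam k₁ eps c₀ om a b (fun A => f (jf A)) (f u) (f w) := by
  simp [relEven2, Tw_map, Bw_map, Function.comp_def]

theorem relEven2_length {P : Type*} [Group P] (a b : SL2') (jf : SL2' → P) (u w : P) :
    (relEven2 hF μ ω lam k₁ eps c₀ om a b jf u w).length = 25 := rfl

theorem vv_add_smul (c : F) (v x : Fin m → F) :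
    hv hF v (x + c • v) = hv hF v x + (c + σ c) • vv hF v := by
  ext a b
  simp only [hv, vv, Matrix.add_apply, Matrix.smul_apply, vecMulVec_apply, Pi.add_apply, Pi.smul_apply,
    smul_eq_mul, map_add, map_mul]
  ring

theorem relEven2_model (E : EPar hF μ ω lam eps c₀) (hk₁ : k₁ + σ k₁ = 1) (a b : SL2') :
    ∀ p ∈ relEven2 hF μ ω lam k₁ eps c₀ om a b (lev hF 0) (T₀ hF 0 μ f₀) (wH hF (EPar.wok hF E) 0),
      p.1 = p.2 := by
  have hμ := E.μt
  set hW := EPar.wok hF E
  have hT : Tw (lev hF 0) (T₀ hF 0 μ f₀) = T₀ hF (m := 0 + 2) 0 μ := funext (Tw_skew hF hμ)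
  have h10 : (0 : Fin (0 + 2)) ≠ 1 := by simp
  have hε : (Pi.single 0 (eps : F) : Fin (0 + 2) → F) = (eps : F) • f₀ := by
    rw [← Pi.single_smul, smul_eq_mul, mul_one]
  simp only [relEven2, List.forall_mem_append, List.forall_mem_map, List.forall_mem_cons, List.not_mem_nil,
    false_imp_iff, implies_true, and_true, hT]
  refine ⟨⟨⟨⟨⟨⟨T₀_fix hF hμ (rowE_fix _), T₀_fix hF hμ (rowE_fix _), ?_, hc_model_lev hF hW om a,
    hc_model_lev hF hW om b, hc_model_T₀ hF hW hμ om _⟩, fun i _ => T₀_comm hF hμ _ _⟩,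
    fun i _ => T₀_S hF hμ _ _ _⟩, fun i _ => ?_⟩, fun i _ => ?_⟩,
    wH_T₀ hF hW hμ (Pi.single_eq_of_ne h10 _), ?_, (W1_model hF hW).eq, ?_, wDw_model hF hW rfl c₀ E.hc₀⟩
  · rw [T₀_conj hF hμ, dg_e0 hF, hε, T₀, vv_smul, EPar.eps_norm hF E, one_smul]
    rfl
  · rw [piT hF hμ (T := T₀ hF 0 μ) (fun _ => rfl), piT hF hμ (T := T₀ hF 0 μ) (fun _ => rfl), vv_add_smul,
      hμ, zero_smul, add_zero]
  · rw [piT hF hμ (T := T₀ hF 0 μ) (fun _ => rfl), piT hF hμ (T := T₀ hF 0 μ) (fun _ => rfl), vv_add_smul,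
      hk₁, one_smul, T₀, uH_skew_mul hF hμ (vv_herm hF _) (hv_herm hF _ _)]
    congr 2
    abel
  · rw [piT hF hμ (T := T₀ hF 0 μ) (fun _ => rfl),
      show f₁ = (Fin.cons 0 (Pi.single 0 1) : Fin (0 + 2) → F) by rw [cons_single, Fin.succ_zero_eq_one]]
    exact wY_model hF hW hμ _
  · rw [T₀_corner hF E]
    exact R1_model hF hW

section Derive

variable {hF} {G : Type*} [Group G] {π : G →* Hgrp hF (0 + 2) 0}
  {j : SpecialLinearGroup (Fin (0 + 2)) F →* G} {u w : G} {a b : SpecialLinearGroup (Fin (0 + 2)) F}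

/-- Statements about pairs that are invariant under the torus spread over the classes of determinants. -/
theorem pair_all (P : Prim q ω) {n : ℕ} (hn : 0 < n) {R : (Fin (0 + 2) → F) → (Fin (0 + 2) → F) → Prop}
    (hmv : ∀ (g : SpecialLinearGroup (Fin (0 + 2)) F) x y, R x y → R (g.1 *ᵥ x) (g.1 *ᵥ y))
    (hstep : ∀ d, R f₀ (d • f₁) → R f₀ ((ω ^ n * d) • f₁))
    (hi : ∀ i < n, R f₀ (ω ^ i • f₁)) {x y : Fin (0 + 2) → F} (h : Ind2 F x y) : R x y := by
  obtain ⟨g, d, hd, rfl, rfl, -⟩ := exists_pair_move h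
  exact hmv g _ _ (class_all P hn (S := fun d => R f₀ (d • f₁)) hstep hi hd)

theorem dg_step {R : (Fin (0 + 2) → F) → (Fin (0 + 2) → F) → Prop}
    (hmv : ∀ (g : SpecialLinearGroup (Fin (0 + 2)) F) x y, R x y → R (g.1 *ᵥ x) (g.1 *ᵥ y))
    {s t d : F} (hs : s ≠ 0) (h : R (s • f₀) (t • (d • f₁))) : R f₀ ((s * t * d) • f₁) := by
  have := hmv (dg (Units.mk0 s hs)⁻¹) _ _ h
  rw [Matrix.mulVec_smul, Matrix.mulVec_smul, Matrix.mulVec_smul, dg_e0 hF, dg_e1 hF] at this
  simp only [← Pi.single_smul, smul_eq_mul,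
    Units.val_inv_eq_inv_val, Units.val_mk0, inv_inv, mul_inv_cancel₀ hs, mul_one] at this ⊢
  rwa [show s * t * d = t * (d * s) by ring]

/-- Injectivity in even dimension for two coordinates. -/
theorem relEven2_injective (E : EPar hF μ ω lam eps c₀) (hk₁ : k₁ + σ k₁ = 1) (hom : (om : F) = ω)
    (hab : Subgroup.closure ({a, b} : Set (SpecialLinearGroup (Fin (0 + 2)) F)) = ⊤)
    (hπj : ∀ A, π (j A) = lev hF 0 A) (hπu : π u = T₀ hF 0 μ f₀)
    (hπw : π w = wH hF (EPar.wok hF E) 0) (hgen : j.range ⊔ Subgroup.closure {u, w} = ⊤)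
    (h : ∀ p ∈ relEven2 hF μ ω lam k₁ eps c₀ om a b j u w, p.1 = p.2) : Function.Injective π := by
  simp only [relEven2, List.forall_mem_append, List.forall_mem_map, List.forall_mem_cons, List.not_mem_nil,
    false_imp_iff, implies_true, and_true, List.mem_range] at h
  obtain ⟨⟨⟨⟨⟨⟨hr1, hre, hd0, hHa, hHb, hHu⟩, hC⟩, hS⟩, hL0⟩, hL1⟩, hU1, hY, hW1, hR1, hDw⟩ := h
  -- the stabiliser of the first vector
  have hdε : Commute (j (dg eps)) u := mul_inv_eq_iff_eq_mul.1 hd0
  have hext : ∀ N, Commute (j (extL N)) u := fun N => by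
    rw [ext_of_single rfl N, map_one, map_one]; exact Commute.one_left u
  have hrow : ∀ r, Commute (j (rowE r)) u := by
    intro r
    let A : AddSubgroup F :=
      { carrier := {t | Commute (j (rowE (Pi.single 0 t))) u}
        zero_mem' := by rw [Set.mem_setOf_eq, Pi.single_zero, rowE_zero, map_one]; exact Commute.one_left u
        add_mem' := fun {s t} hs ht => by
          rw [Set.mem_setOf_eq, Pi.single_add, rowE_add, map_mul]; exact Commute.mul_left hs ht
        neg_mem' := fun {t} ht => by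
          rw [Set.mem_setOf_eq, show (rowE (Pi.single 0 (-t)) : SpecialLinearGroup (Fin (0 + 2)) F) = (rowE (Pi.single 0 t))⁻¹ from
            eq_inv_of_mul_eq_one_left (by rw [← rowE_add, ← Pi.single_add, neg_add_cancel, Pi.single_zero, rowE_zero]),
            map_inv]
          exact Commute.inv_left ht }
    have hA : ∀ t, t ∈ A := by
      refine E.prim.mem_of_eps_sq hF A hr1 (by rw [← E.heps]; exact hre) fun t ht => ?_
      rw [← E.heps]
      show Commute _ u
      have e : (rowE (Pi.single 0 ((eps : F) * (eps : F) * t)) : SpecialLinearGroup (Fin (0 + 2)) F) =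
          dg eps * rowE (Pi.single 0 t) * (dg eps)⁻¹ := by
        rw [eq_mul_inv_iff_mul_eq]
        refine Subtype.ext (SpnPres.ext_mulVec_single fun i => ?_)
        have hz : ∀ x : F, (Pi.single 0 x : Fin (0 + 2) → F) = Fin.cons x 0 := fun x => by
          ext l; fin_cases l <;> simp
        have ho : ∀ x : F, (Pi.single 1 x : Fin (0 + 2) → F) = Fin.cons 0 (Pi.single 0 x) := fun x => by
          ext l; fin_cases l <;> simp
        fin_cases i
        · simp only [Fin.isValue, Fin.zero_eta, sval_mul, ← Matrix.mulVec_mulVec, dg_e0 hF, rowE_fix]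
          rw [hz, rowE_cons, dotProduct_zero, add_zero]
        · simp only [Fin.isValue, Fin.mk_one, sval_mul, ← Matrix.mulVec_mulVec, dg_e1 hF]
          rw [ho, ho 1, rowE_cons, rowE_cons]
          ext l
          fin_cases l <;> simp [dg_val, dgv, Matrix.mulVec_diagonal]
          field_simp
      rw [e, map_mul, map_mul, map_inv]
      exact (hdε.mul_left ht).mul_left hdε.inv_left
    rw [show r = Pi.single 0 (r 0) from funext fun i => by rw [Subsingleton.elim (α := Fin 1) i 0, Pi.single_eq_same]]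
    exact hA _
  obtain ⟨T, hT0, hTu, hT, hTj⟩ := exists_orbit j u fun M hM => commute_stab j u hext hrow hM
  have hTw : Tw j u = T := funext (Tw_eq j u hT0 hT)
  rw [hTw] at hHu hC hS hL0 hL1 hU1 hY hR1
  have hπT : ∀ v, π (T v) = T₀ hF 0 μ v := fun v => by
    rw [← hTw, Tw_map]
    simp only [hπj, hπu]
    exact Tw_skew hF E.μt v
  have he1 : ∀ v, T ((eps : F) • v) = T v := fun v => by
    rcases eq_or_ne v 0 with rfl | hv
    · rw [smul_zero]
    obtain ⟨g, rfl⟩ := exists_col (n := 0) 0 hv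
    have e1 : T ((eps : F) • f₀) = T f₀ := by
      rw [← Pi.single_smul, smul_eq_mul, mul_one, ← dg_e0 hF, hTj, hTu]
      exact hd0
    rw [← Matrix.mulVec_smul, hTj g, hTj g, e1]
  have O : Orb hF π j μ T := ⟨E.μt, E.μ0, hT0, hπT, fun A v => hTj A v, fun e he v => by
    obtain ⟨i, rfl⟩ := E.prim.circle_gen hF he
    rw [← E.heps]
    clear he
    induction i with
    | zero => rw [pow_zero, one_smul]
    | succ i ih => rw [pow_succ', ← smul_smul, he1, ih]⟩
  set H := j (dg om) * w * (j (dg om))⁻¹ * w⁻¹ with hH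
  set l := nu hF om with hl
  have hl' : (l : F) = ω * σ ω := by rw [hl, nu_val, hom]
  have hHj : ∀ A, H * j A * H⁻¹ = j (tcj hF l A) :=
    conj_of_pair j (tcj hF l) H hab (by rintro x (rfl | rfl); exacts [hHa, hHb])
  have hHT : ∀ v, H * T v * H⁻¹ = T (tD hF (l : F) *ᵥ v) :=
    orbit_map j hT0 hTj (tcj hF l) (fun v => tD hF (l : F) *ᵥ v) (Matrix.mulVec_zero _)
      (fun A v => tcj_mulVec hF l A v) H hHj (by rw [hTu]; exact hHu)
  have tDf0 : (tD hF (l : F) : Matrix (Fin (0 + 2)) (Fin (0 + 2)) F) *ᵥ f₀ = (l : F) • f₀ := by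
    rw [tD_single, if_pos rfl, mul_one, ← Pi.single_smul, smul_eq_mul, mul_one]
  have tDf1 : ∀ t : F, (tD hF (l : F) : Matrix (Fin (0 + 2)) (Fin (0 + 2)) F) *ᵥ Pi.single 1 t = Pi.single 1 t := fun t => by
    rw [tD_single, if_neg (by simp), one_mul]
  -- invariant statements about pairs
  have spread : ∀ (R : (Fin (0 + 2) → F) → (Fin (0 + 2) → F) → Prop),
      (∀ (L : (Fin (0 + 2) → F) →ₗ[F] (Fin (0 + 2) → F)) (g : G), (∀ v, g * T v * g⁻¹ = T (L v)) →
        ∀ x y, R x y → R (L x) (L y)) →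
      (∀ i < 4, R f₀ (ω ^ i • f₁)) → ∀ {x y}, Ind2 F x y → R x y := by
    intro R hR hi x y hxy
    have hmv : ∀ (g : SpecialLinearGroup (Fin (0 + 2)) F) x y, R x y → R (g.1 *ᵥ x) (g.1 *ᵥ y) :=
      fun g x y h => hR (Matrix.mulVecLin g.1) (j g) (fun v => (hTj g v).symm) x y h
    have sH : ∀ d, R f₀ (d • f₁) → R f₀ ((ω * σ ω * d) • f₁) := fun d h => by
      have := hR (Matrix.mulVecLin (tD hF (l : F))) H hHT _ _ h
      simp only [Matrix.mulVecLin_apply, Matrix.mulVec_smul, tDf0, tDf1] at this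
      rw [← hl', ← mul_one (l : F)]
      exact dg_step (hF := hF) hmv l.ne_zero (t := 1) (by rwa [one_smul])
    have sE : ∀ d, R f₀ (d • f₁) → R f₀ ((ω ^ (q - 1) * ω ^ (q - 1) * d) • f₁) := fun d h => by
      have := hR ((eps : F) • LinearMap.id) 1 (fun v => by
        rw [LinearMap.smul_apply, LinearMap.id_apply, he1, one_mul, inv_one, mul_one]) _ _ h
      simp only [LinearMap.smul_apply, LinearMap.id_apply] at this
      rw [← E.heps]
      exact dg_step (hF := hF) hmv eps.ne_zero this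
    refine pair_all (hF := hF) E.prim (by norm_num) hmv (fun d h => ?_) hi hxy
    rw [E.prim.pow_four hF, mul_assoc (ω * σ ω * (ω * σ ω)), mul_assoc (ω * σ ω)]
    refine sH _ (sH _ ?_)
    have loop : ∀ p : ℕ, R f₀ (((ω ^ (q - 1) * ω ^ (q - 1)) ^ p * d) • f₁) := fun p => by
      induction p with
      | zero => rwa [pow_zero, one_mul]
      | succ p ih => rw [pow_succ', mul_assoc]; exact sE _ ih
    exact loop q
  have hcomm : ∀ v v', Ind2 F v v' → Commute (T v) (T v') := by
    intro v v' hvv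
    have hmv : ∀ (g : SpecialLinearGroup (Fin (0 + 2)) F) x y, Commute (T x) (T y) →
        Commute (T (g.1 *ᵥ x)) (T (g.1 *ᵥ y)) := fun g x y h => by
      rw [hTj, hTj]; exact h.map (MulAut.conj (j g)).toMonoidHom
    have sH : ∀ d, Commute (T f₀) (T (d • f₁)) → Commute (T f₀) (T ((ω * σ ω * d) • f₁)) := fun d h => by
      have := h.map (MulAut.conj H).toMonoidHom
      simp only [MulEquiv.coe_toMonoidHom, MulAut.conj_apply, hHT, Matrix.mulVec_smul, tDf0, tDf1] at this
      rw [← hl', ← mul_one (l : F)]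
      exact dg_step (hF := hF) (R := fun x y => Commute (T x) (T y)) hmv l.ne_zero (t := 1) (by rwa [one_smul])
    have sE : ∀ d, Commute (T f₀) (T (d • f₁)) → Commute (T f₀) (T ((ω ^ (q - 1) * d) • f₁)) := fun d h => by
      rw [← E.heps, ← mul_one (eps : F)]
      refine dg_step (hF := hF) (R := fun x y => Commute (T x) (T y)) hmv eps.ne_zero (t := 1) ?_
      rwa [one_smul, he1]
    refine pair_all (hF := hF) (R := fun x y => Commute (T x) (T y)) E.prim two_pos hmv (fun d h => ?_)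
      (fun i hi => hC i hi) hvv
    rw [E.prim.pow_two' hF, mul_assoc]
    refine sH _ ?_
    have loop : ∀ p : ℕ, Commute (T f₀) (T (((ω ^ (q - 1)) ^ p * d) • f₁)) := fun p => by
      induction p with
      | zero => rwa [pow_zero, one_mul]
      | succ p ih => rw [pow_succ', mul_assoc]; exact sE _ ih
    exact loop q
  have bw : ∀ (L : (Fin (0 + 2) → F) →ₗ[F] (Fin (0 + 2) → F)) (g : G), (∀ v, g * T v * g⁻¹ = T (L v)) →
      ∀ x y, Bw T (L x) (L y) = g * Bw T x y * g⁻¹ := fun L g hL x y => by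
    rw [Bw, Bw, ← map_add, ← hL, ← hL, ← hL]; group
  have hSS : ∀ v v', Ind2 F v v' → Bw T (ω • v) v' = Bw T v (σ ω • v') :=
    fun v v' hvv => spread (fun x y => Bw T (ω • x) y = Bw T x (σ ω • y)) (fun L g hL x y e => by
      rw [← map_smul, ← map_smul, bw L g hL, bw L g hL, e]) (fun i hi => hS i hi) hvv
  have hLκ : ∀ v v', Ind2 F v v' → Bw T v (v' + μ • v) = Bw T v v' :=
    fun v v' hvv => spread (fun x y => Bw T x (y + μ • x) = Bw T x y) (fun L g hL x y e => by
      rw [← map_smul, ← map_add, bw L g hL, bw L g hL, e]) (fun i hi => hL0 i hi) hvv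
  have hLk : ∀ v v', Ind2 F v v' → Bw T v (v' + k₁ • v) = T v * Bw T v v' :=
    fun v v' hvv => spread (fun x y => Bw T x (y + k₁ • x) = T x * Bw T x y) (fun L g hL x y e => by
      rw [← map_smul, ← map_add, bw L g hL, bw L g hL, e, ← hL]; group) (fun i hi => hL1 i hi) hvv
  have Z := zdata_two O E.prim E.μt E.μ0 hk₁ hcomm hSS hLκ hLk
  set D := udata_even O.μt O.μ0 hπj Z
  have hwext : ∀ N, Commute w (j (extL N)) := fun N => by
    rw [ext_of_single rfl N, map_one, map_one]; exact Commute.one_right w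
  have hD : ∀ v, j (dg om) * T v * (j (dg om))⁻¹ = T ((dg om : SpecialLinearGroup (Fin (0 + 2)) F).1 *ᵥ v) :=
    fun v => (hTj _ v).symm
  have hDwD : j (dg om) * w * (j (dg om))⁻¹ = H * w := by rw [hH]; group
  refine even_finish E hπj hπw hgen hTu hπT D hwext (fun v hv => ?_) (fun r y hy e => ?_) hW1 hR1 hDw
  · rw [show v = Pi.single 1 (v 1) from funext fun i => by fin_cases i <;> simp [hv]]
    generalize v 1 = t
    rcases eq_or_ne t 0 with rfl | ht
    · rw [Pi.single_zero, hT0, mul_one, mul_inv_cancel]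
    obtain ⟨i, hi⟩ := E.prim.gen t⁻¹ (inv_ne_zero ht)
    rw [← inv_inv t, hi, ← inv_pow]
    clear hi ht
    induction i with
    | zero => rw [pow_zero]; exact hU1
    | succ i ih =>
      set s := ω⁻¹ ^ i
      have e := congrArg (fun g => j (dg om) * g * (j (dg om))⁻¹) ih
      have hs : (dg om : SpecialLinearGroup (Fin (0 + 2)) F).1 *ᵥ Pi.single 1 s = Pi.single 1 (ω⁻¹ * s) := by
        rw [show Pi.single 1 s = s • f₁ by rw [← Pi.single_smul, smul_eq_mul, mul_one], Matrix.mulVec_smul,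
          dg_e1 hF, ← Pi.single_smul, smul_eq_mul, hom, mul_comm]
      rw [show j (dg om) * (w * T (Pi.single 1 s) * w⁻¹) * (j (dg om))⁻¹ =
          j (dg om) * w * (j (dg om))⁻¹ * (j (dg om) * T (Pi.single 1 s) * (j (dg om))⁻¹) *
            (j (dg om) * w * (j (dg om))⁻¹)⁻¹ by group, hDwD, hD, hs] at e
      rw [pow_succ']
      calc w * T (Pi.single 1 (ω⁻¹ * s)) * w⁻¹
          = H⁻¹ * (H * w * T (Pi.single 1 (ω⁻¹ * s)) * (H * w)⁻¹) * H := by group
        _ = H⁻¹ * T (Pi.single 1 (ω⁻¹ * s)) * H := by rw [e]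
        _ = _ := by
          conv_lhs => rw [← tDf1 (ω⁻¹ * s), ← hHT]
          simp only [← mul_assoc, inv_mul_cancel, one_mul, inv_mul_cancel_right]
          rfl
  · -- the pairs with the first coordinate
    have memU : ∀ v, T v ∈ Subgroup.closure (Set.range T) := fun v => Subgroup.subset_closure ⟨v, rfl⟩
    have memB : ∀ v v', Bw T v v' ∈ Subgroup.closure (Set.range T) := fun v v' =>
      mul_mem (mul_mem (memU _) (inv_mem (memU _))) (inv_mem (memU _))
    have πB : ∀ v v', π (Bw T v v') = uH hF 0 (μ • hv hF v v') := fun v v' => by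
      rw [Bw_map]; exact piT hF O.μt hπT v v'
    have bB : ∀ {v v' x x'}, hv hF v v' = hv hF x x' → Bw T v v' = Bw T x x' := fun {v v' x x'} h =>
      D.eq_of (memB _ _) (memB _ _) (by rw [πB, πB, h])
    let A : AddSubgroup F :=
      { carrier := {t | w * Bw T f₀ (t • f₁) * w⁻¹ ∈ colJ j}
        zero_mem' := by
          rw [Set.mem_setOf_eq, zero_smul,
            show Bw T f₀ 0 = 1 by rw [Bw, add_zero, hT0, mul_inv_cancel, inv_one, mul_one], mul_one, mul_inv_cancel]
          exact one_mem _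
        add_mem' := fun {s t} hs ht => by
          rw [Set.mem_setOf_eq]
          have : Bw T f₀ ((s + t) • f₁) = Bw T f₀ (s • f₁) * Bw T f₀ (t • f₁) := by
            refine D.eq_of (memB _ _) (mul_mem (memB _ _) (memB _ _)) ?_
            rw [map_mul, πB, πB, πB, uH_skew_mul hF O.μt (hv_herm hF _ _) (hv_herm hF _ _)]
            congr 2
            ext a b
            simp only [hv, Matrix.add_apply, vecMulVec_apply, Pi.smul_apply, smul_eq_mul, map_mul, map_add]
            ring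
          rw [this, show w * (Bw T f₀ (s • f₁) * Bw T f₀ (t • f₁)) * w⁻¹ =
            w * Bw T f₀ (s • f₁) * w⁻¹ * (w * Bw T f₀ (t • f₁) * w⁻¹) by group]
          exact mul_mem hs ht
        neg_mem' := fun {t} ht => by
          rw [Set.mem_setOf_eq]
          have : Bw T f₀ ((-t) • f₁) = (Bw T f₀ (t • f₁))⁻¹ := by
            refine D.eq_of (memB _ _) (inv_mem (memB _ _)) ?_
            rw [map_inv, πB, πB]
            refine eq_inv_of_mul_eq_one_left ?_
            rw [uH_skew_mul hF O.μt (hv_herm hF _ _) (hv_herm hF _ _),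
              show hv hF f₀ ((-t) • f₁) + hv hF f₀ (t • f₁) = 0 by
                ext a b
                simp only [hv, Matrix.add_apply, vecMulVec_apply, Pi.smul_apply, smul_eq_mul, map_mul, map_neg,
                  Matrix.zero_apply]
                ring, smul_zero, uH_zero]
          rw [this, ← conj_inv]
          exact inv_mem ht }
    have hA : ∀ t, t ∈ A := by
      refine E.prim.mem_of_eps hF A ?_ fun t ht => ?_
      · show _ ∈ colJ j
        rw [one_smul, hY]
        exact mem_colJ.2 ⟨_, ⟨_, rfl⟩, rfl⟩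
      obtain ⟨c, hc, ec⟩ := mem_colJ.1 ht
      have hω := E.prim.ne
      have key : Bw T f₀ ((ω ^ (q - 1) * t) • f₁) =
          j (dg om) * Bw T f₀ (t • f₁) * (j (dg om))⁻¹ := by
        rw [← bw (Matrix.mulVecLin (dg om : SpecialLinearGroup (Fin (0 + 2)) F).1) (j (dg om)) hD]
        simp only [Matrix.mulVecLin_apply, Matrix.mulVec_smul, dg_e0 hF, dg_e1 hF, hom]
        refine bB ?_
        rw [show Pi.single 0 ω = ω • f₀ by rw [← Pi.single_smul, smul_eq_mul, mul_one], hv_swap, smul_smul,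
          show Pi.single 1 ω⁻¹ = ω⁻¹ • f₁ by rw [← Pi.single_smul, smul_eq_mul, mul_one], smul_smul]
        congr 1
        rw [qFrob_apply, show q = q - 1 + 1 by have := two_le_q hF; omega, pow_succ, Nat.add_sub_cancel]
        field_simp
      show _ ∈ colJ j
      have hw' : j (dg om) * w * (j (dg om))⁻¹ = H * w := hDwD
      have e2 : H * (w * Bw T f₀ ((ω ^ (q - 1) * t) • f₁) * w⁻¹) * H⁻¹ =
          j (dg om * c * (dg om)⁻¹) := by
        rw [map_mul, map_mul, map_inv, ← ec, key]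
        calc H * (w * (j (dg om) * Bw T f₀ (t • f₁) * (j (dg om))⁻¹) * w⁻¹) * H⁻¹
            = H * w * (j (dg om) * Bw T f₀ (t • f₁) * (j (dg om))⁻¹) * (H * w)⁻¹ := by group
          _ = _ := by rw [← hw']; group
      obtain ⟨r', hr'⟩ := (dg_blk om).col_conj hc
      rw [← hr'] at e2
      refine mem_colJ.2 ⟨colE fun i => r' i * (l : F), ⟨_, rfl⟩, (MulAut.conj H).injective ?_⟩
      rw [MulAut.conj_apply, MulAut.conj_apply, e2, hHj]
      congr 1
      refine Subtype.ext (SpnPres.ext_mulVec_single fun i => ?_)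
      rw [tcj_val, colE_val, colE_val]
      ext p
      fin_cases i <;> fin_cases p <;>
        simp [tD, Matrix.mul_apply, Fin.sum_univ_two, vecMulVec_apply, Matrix.one_apply, Matrix.diagonal_apply]
    have hr : (Fin.cons 0 r : Fin (0 + 2) → F) = r 0 • f₁ := by
      ext i; fin_cases i <;> simp
    rw [D.eq_of hy (memB f₀ (r 0 • f₁)) (by rw [e, πB, hr])]
    exact hA (r 0)

end Derive

end Cfsg.Agent.Lie.UnPres
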