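import Cfsg.Agent.Lib.Lie.UnPresOddRels

/-!
The relations in odd dimension for three coordinates of the Levi factor.
-/

set_option autoImplicit false
set_option linter.unusedSectionVars false

namespace Cfsg.Agent.Lie.UnPres

open Matrix Cfsg.Agent.Classical Cfsg.Agent.Classical.PSUAut
open Cfsg.Agent.Lie.SpnPres (sval_mul sval_one inv_mulVec mulVec_inv exists_col)
open scoped commutatorElement

variable {F : Type*} [Field F] [Fintype F] {q : ℕ} (hF : Fintype.card F = q ^ 2)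

local notation "σ" => qFrob hF
local notation "SL3" => SpecialLinearGroup (Fin (1 + 2)) F

include hF

/-- The relations in odd dimension for three coordinates. -/
noncomputable def relOdd3 (μ ω β k₁ : F) (i₁ i₂ : ℕ) (c₁ c₂ c₃ om : Fˣ)
    (a b : SpecialLinearGroup (Fin (1 + 1)) F) (a' b' : SpecialLinearGroup (Fin (1 + 2)) F)
    {P : Type*} [Group P] (jf : SpecialLinearGroup (Fin (1 + 2)) F → P) (u w : P) : List (P × P) :=
  relOdd hF μ ω β k₁ i₁ i₂ c₁ c₂ c₃ a b jf u w ++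
    [BP (Tw jf u) (Pi.single 0 1) (Pi.single 1 1) ((-σ β) • Pi.single 2 1),
      BP (Tw jf u) (Pi.single 0 1) (Pi.single 1 1) (((-σ β) * (-σ β)) • Pi.single 2 1),
      (jf (dg om) * w * (jf (dg om))⁻¹ * w⁻¹ * jf a' * (jf (dg om) * w * (jf (dg om))⁻¹ * w⁻¹)⁻¹,
        jf (tcj hF (nu hF om) a')),
      (jf (dg om) * w * (jf (dg om))⁻¹ * w⁻¹ * jf b' * (jf (dg om) * w * (jf (dg om))⁻¹ * w⁻¹)⁻¹,
        jf (tcj hF (nu hF om) b')),
      (jf (dg om) * w * (jf (dg om))⁻¹ * w⁻¹ * u * (jf (dg om) * w * (jf (dg om))⁻¹ * w⁻¹)⁻¹,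
        Tw jf u (tD hF (nu hF om : F) *ᵥ Pi.single 0 1))]

variable {μ ω r β k₁ : F} {i₁ i₂ : ℕ} {c₁ c₂ c₃ om : Fˣ}

theorem relOdd3_map {P Q : Type*} [Group P] [Group Q] (f : P →* Q)
    (a b : SpecialLinearGroup (Fin (1 + 1)) F) (a' b' : SL3) (jf : SL3 → P) (u w : P) :
    (relOdd3 hF μ ω β k₁ i₁ i₂ c₁ c₂ c₃ om a b a' b' jf u w).map (Prod.map f f) =
      relOdd3 hF μ ω β k₁ i₁ i₂ c₁ c₂ c₃ om a b a' b' (fun A => f (jf A)) (f u) (f w) := by
  rw [relOdd3, List.map_append, relOdd_map]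
  simp [relOdd3, Tw_map, BP_map]

theorem relOdd3_length {P : Type*} [Group P] (a b : SpecialLinearGroup (Fin (1 + 1)) F) (a' b' : SL3)
    (jf : SL3 → P) (u w : P) :
    (relOdd3 hF μ ω β k₁ i₁ i₂ c₁ c₂ c₃ om a b a' b' jf u w).length = 20 := rfl

theorem relOdd3_model (O : OPar hF μ ω r β k₁) (T : TPar hF μ β i₁ i₂ c₁ c₂ c₃)
    (a b : SpecialLinearGroup (Fin (1 + 1)) F) (a' b' : SL3) :
    ∀ p ∈ relOdd3 hF μ ω β k₁ i₁ i₂ c₁ c₂ c₃ om a b a' b' (lev hF 1) (Φ₀ hF β (Pi.single 0 1))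
      (wH hF (wok_odd hF) 0), p.1 = p.2 := by
  refine List.forall_mem_append.2 ⟨relOdd_model hF O T a b, ?_⟩
  have hβ := O.hβt
  have hT : Tw (lev hF 1) (Φ₀ hF β (Pi.single 0 1)) = Φ₀ hF (m := 1 + 2) β := funext (Tw_heis hF hβ)
  simp only [List.forall_mem_cons, List.not_mem_nil, false_imp_iff, implies_true, and_true, BP, hT]
  exact ⟨Φ₀_B hF hβ _ _ _, Φ₀_B hF hβ _ _ _, hc_model_lev hF (wok_odd hF) om a',
    hc_model_lev hF (wok_odd hF) om b', hc_model_Φ₀ hF hβ om _⟩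

variable {hF} {G : Type*} [Group G] {π : G →* Hgrp hF (1 + 2) 1}
  {j : SpecialLinearGroup (Fin (1 + 2)) F →* G} {u w : G}
  {a b : SpecialLinearGroup (Fin (1 + 1)) F} {a' b' : SpecialLinearGroup (Fin (1 + 2)) F}

/-- Injectivity in odd dimension for three coordinates of the Levi factor. -/
theorem relOdd3_injective (O : OPar hF μ ω r β k₁) (hom : (om : F) = ω)
    (hab : Subgroup.closure ({a, b} : Set (SpecialLinearGroup (Fin (1 + 1)) F)) = ⊤)
    (hab' : Subgroup.closure ({a', b'} : Set (SpecialLinearGroup (Fin (1 + 2)) F)) = ⊤)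
    (hπj : ∀ A, π (j A) = lev hF 1 A) (hπu : π u = Φ₀ hF β (Pi.single 0 1))
    (hπw : π w = wH hF (wok_odd hF) 0) (hgen : j.range ⊔ Subgroup.closure {u, w} = ⊤)
    (h : ∀ p ∈ relOdd3 hF μ ω β k₁ i₁ i₂ c₁ c₂ c₃ om a b a' b' j u w, p.1 = p.2) : Function.Injective π := by
  have hrel : ∀ p ∈ relOdd hF μ ω β k₁ i₁ i₂ c₁ c₂ c₃ a b j u w, p.1 = p.2 := fun p hp =>
    h p (List.mem_append_left _ hp)
  obtain ⟨Φ, hΦu, hTw, A⟩ := relOdd_orbit O le_rfl hab hπj hπu hrel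
  refine relOdd_weyl O le_rfl hab hπj hπu hπw hgen hrel hΦu hTw A ?_ exists_ind2 (exists_ind3 le_rfl)
  simp only [relOdd3, relOdd, List.forall_mem_append, List.forall_mem_cons, List.not_mem_nil, false_imp_iff,
    implies_true, and_true, BP, hTw] at h
  obtain ⟨⟨⟨-, -, -, -, h5, -⟩, -⟩, ha, haa, hHa, hHb, hHu⟩ := h
  set H := j (dg om) * w * (j (dg om))⁻¹ * w⁻¹ with hH
  set l := nu hF om with hl
  have hHj : ∀ A, H * j A * H⁻¹ = j (tcj hF l A) :=
    conj_of_pair j (tcj hF l) H hab' (by rintro x (rfl | rfl); exacts [hHa, hHb])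
  have hHT : ∀ v, H * Φ v * H⁻¹ = Φ (tD hF (l : F) *ᵥ v) :=
    orbit_map j A.orb.t0 A.orb.tj (tcj hF l) (fun v => tD hF (l : F) *ᵥ v) (Matrix.mulVec_zero _)
      (fun B v => tcj_mulVec hF l B v) H hHj (by rw [hΦu]; exact hHu)
  have mv : ∀ (g : SL3) {x y z : Fin (1 + 2) → F}, Commute ⁅Φ x, Φ y⁆ (Φ z) →
      Commute ⁅Φ (g.1 *ᵥ x), Φ (g.1 *ᵥ y)⁆ (Φ (g.1 *ᵥ z)) :=
    fun g {x y z} hh => BP_move Φ (fun v : Fin (1 + 2) → F => g.1 *ᵥ v) (j g) (fun v => (A.orb.tj g v).symm) hh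
  let S : F → Prop := fun d =>
    Commute ⁅Φ (Pi.single 0 1), Φ (Pi.single 1 1)⁆ (Φ (d • Pi.single 2 1))
  have s1 : S 1 := by show Commute _ _; rw [one_smul]; exact h5
  have s0 : S 0 := by show Commute _ _; rw [zero_smul, A.orb.t0]; exact Commute.one_right _
  have hreal : ∀ s x : F, σ s = s → s ≠ 0 → S x → S (s * x) := by
    intro s x hs hs0 hx
    obtain ⟨i, rfl⟩ := O.prim.norm_gen hF hs hs0
    clear hs hs0
    induction i with
    | zero => rwa [pow_zero, one_mul]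
    | succ i ih =>
      set d := (ω * σ ω) ^ i * x
      have e := BP_move Φ (fun v => tD hF (l : F) *ᵥ v) H hHT ih
      simp only [tD_single, ← Pi.single_smul, smul_eq_mul, mul_one, if_pos, Fin.ext_iff, Fin.val_zero,
        Fin.val_one] at e
      have hl0 : (l : F) ≠ 0 := l.ne_zero
      let g : SL3 := ⟨Matrix.diagonal ![(l : F)⁻¹, 1, (l : F)], by
        rw [det_diagonal, Fin.prod_univ_three]; simp⟩
      have e' := mv g e
      simp only [g, Matrix.diagonal_mulVec_single] at e'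
      rw [pow_succ', mul_assoc]
      show S (ω * σ ω * d)
      rw [show ω * σ ω = (l : F) by rw [hl, nu_val, hom]]
      show Commute _ _
      simpa [← Pi.single_smul, hl0] using e'
  -- two terms
  have fix2 : ∀ (z : Fin (1 + 2) → F), z 2 ≠ 0 →
      (Commute ⁅Φ (Pi.single 0 1), Φ (Pi.single 1 1)⁆ (Φ z) ↔ S (z 2)) := by
    intro z hz
    obtain ⟨g, g0, g1, g2⟩ := exists_fix_two (z := z) hz
    constructor
    · intro hh
      have e := mv g⁻¹ hh
      rw [← g0, inv_mulVec] at e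
      conv at e => rw [← g1, inv_mulVec, ← g2, inv_mulVec]
      exact e
    · intro hh
      have e := mv g hh
      rwa [g0, g1, g2] at e
  have rule : ∀ x y, S x → S ((-σ β) * x) → S y → x + y ≠ 0 → S (x + y) := by
    intro x y hx hax hy hxy
    rcases eq_or_ne x 0 with rfl | x0
    · rwa [zero_add]
    rcases eq_or_ne y 0 with rfl | y0
    · rwa [add_zero]
    set z1 : Fin (1 + 2) → F := x • Pi.single 2 1 with hz1
    set z2 : Fin (1 + 2) → F := y • Pi.single 2 1 + Pi.single 0 1 with hz2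
    have i12 : Ind2 F z1 z2 := by
      refine ⟨fun e => x0 ?_, fun t ht => ?_⟩
      · simpa [hz1, Fin.ext_iff] using congrFun e 2
      · simpa [hz1, hz2, Fin.ext_iff] using congrFun ht 0
    have e := eq_mul_inv_of_mul_eq (A.add z1 z2 i12).symm
    have c2 : Commute ⁅Φ (Pi.single 0 1), Φ (Pi.single 1 1)⁆ (Φ z2) :=
      (fix2 z2 (by simp [hz2, Fin.ext_iff, y0])).2 (by simpa [hz2, Fin.ext_iff] using hy)
    have c1 : Commute ⁅Φ (Pi.single 0 1), Φ (Pi.single 1 1)⁆ (Φ z1) := hx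
    have c3 : Commute ⁅Φ (Pi.single 0 1), Φ (Pi.single 1 1)⁆ (Φ ((-σ β) • z1)) := by
      rw [hz1, smul_smul]; exact hax
    have c4 : Commute ⁅Φ (Pi.single 0 1), Φ (Pi.single 1 1)⁆ (Φ (z1 + z2)) := by
      rw [e, commutatorElement_def (Φ ((-σ β) • z1))]
      exact (c1.mul_right c2).mul_right ((((c3.mul_right c2).mul_right c3.inv_right).mul_right c2.inv_right).inv_right)
    have := (fix2 (z1 + z2) (by simpa [hz1, hz2, Fin.ext_iff] using hxy)).1 c4
    simpa [hz1, hz2, Fin.ext_iff] using this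
  have ha' : σ (-σ β) ≠ -σ β := by
    rw [map_neg, qFrob_qFrob hF, Ne, neg_inj]
    exact fun e => OPar.β_not_real hF O e.symm
  have hS : ∀ {x : F}, x ≠ 0 → S x := fun {x} hx =>
    delta_all' hF hreal ha' rule s1 ha haa hx
  intro x y z hxyz
  obtain ⟨g, d, hd, rfl, rfl, rfl, -⟩ := exists_triple_move (k := 0) hxyz
  exact mv g (hS hd)

end Cfsg.Agent.Lie.UnPres
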