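import Cfsg.Agent.Lib.Lie.UnPresOddBase

/-!
Injectivity in odd dimension from the radical, the relations of the Weyl element and three relations of the
torus.
-/

set_option autoImplicit false
set_option linter.unusedSectionVars false

namespace Cfsg.Agent.Lie.UnPres

open Matrix Cfsg.Agent.Classical Cfsg.Agent.Classical.PSUAut Cfsg.Agent.Fus.UnitN Cfsg.Agent.Lie.SUGen
open Cfsg.Agent.Lie.SpnPres (sval_mul sval_one inv_mulVec mulVec_inv exists_col)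
open scoped commutatorElement

variable {F : Type*} [Field F] [Fintype F] {q : ℕ} {hF : Fintype.card F = q ^ 2} {k : ℕ}

local notation "σ" => qFrob hF

/-- The torus word. -/
noncomputable def tWord (hF : Fintype.card F = q ^ 2) (μ β k₁ : F) {P : Type*} [Group P]
    (jf : SpecialLinearGroup (Fin (k + 2)) F → P) (u w : P) : P :=
  tw hF β k₁ jf u w 1 β * tw hF β k₁ jf u w 0 μ

theorem tWord_map (μ β k₁ : F) {P Q : Type*} [Group P] [Group Q] (f : P →* Q)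
    (jf : SpecialLinearGroup (Fin (k + 2)) F → P) (u w : P) :
    f (tWord hF μ β k₁ jf u w) = tWord hF μ β k₁ (fun A => f (jf A)) (f u) (f w) := by
  simp [tWord, tw_map]

variable {μ ω r β k₁ : F}

theorem OPar.okβ (O : OPar hF μ ω r β k₁) : SU3Pres.OK hF (1 : F) β := by
  unfold SU3Pres.OK
  rw [map_one, mul_one]
  linear_combination O.hβt

theorem tWord_model {e n f : Fin 3 → F} (B : Frame3 q e n f) (O : OPar hF μ ω r β k₁) :
    tWord hF μ β k₁ (lev hF 1) (Φ₀ hF β (Pi.single (0 : Fin (k + 2)) 1)) (wH hF (wok_odd hF) 0) =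
      iota hF k B (SU3Pres.Tm hF B (ltv hF μ β)) := by
  rw [tWord, tw_model hF B O.hβt O.hk₁ O.okβ (OPar.β_ne hF O),
    tw_model hF B O.hβt O.hk₁ (SU3Pres.OK.skew hF O.μt) O.μ0, ← map_mul,
    SU3Pres.T_mul hF B (inv_ne_zero ((map_ne_zero (qFrob hF)).2 (OPar.β_ne hF O)))
      (inv_ne_zero ((map_ne_zero (qFrob hF)).2 O.μ0))]
  rfl

/-- The scalars of the torus relations. -/
structure TPar (hF : Fintype.card F = q ^ 2) (μ β : F) (i₁ i₂ : ℕ) (c₁ c₂ c₃ : Fˣ) : Prop where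
  h₁ : (qFrob hF μ)⁻¹ = ltv hF μ β ^ i₁ * ((c₁ : F) * qFrob hF (c₁ : F))
  h₂ : (qFrob hF (ltv hF μ β))⁻¹ = ltv hF μ β ^ i₂ * ((c₂ : F) * qFrob hF (c₂ : F))
  h₃ : ltv hF μ β ^ (q + 1) = (c₃ : F) * qFrob hF (c₃ : F)

theorem exists_tpar (O : OPar hF μ ω r β k₁) : ∃ i₁ i₂ c₁ c₂ c₃, TPar hF μ β i₁ i₂ c₁ c₂ c₃ := by
  obtain ⟨i₁, c₁, h₁⟩ := OPar.exists_form hF O (σ μ)⁻¹ (inv_ne_zero ((map_ne_zero (qFrob hF)).2 O.μ0))
  obtain ⟨i₂, c₂, h₂⟩ := OPar.exists_form hF O (σ (ltv hF μ β))⁻¹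
    (inv_ne_zero ((map_ne_zero (qFrob hF)).2 (OPar.lt_ne hF O)))
  have hr : σ (ltv hF μ β ^ (q + 1)) = ltv hF μ β ^ (q + 1) := by
    rw [qFrob_apply, ← pow_mul, show (q + 1) * q = (q + 1) + (q ^ 2 - 1) by
      have h2 := two_le_q hF
      obtain ⟨s, rfl⟩ : ∃ s, q = s + 1 := ⟨q - 1, by omega⟩
      rw [show (s + 1) ^ 2 - 1 = s * s + 2 * s by refine Nat.sub_eq_of_eq_add ?_; ring]
      ring, pow_add, show ltv hF μ β ^ (q ^ 2 - 1) = 1 by
        rw [← hF]; exact FiniteField.pow_card_sub_one_eq_one _ (OPar.lt_ne hF O), mul_one]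
  obtain ⟨c, hc⟩ := exists_norm hF hr
  have hc0 : c ≠ 0 := fun h => pow_ne_zero (q + 1) (OPar.lt_ne hF O) (by rw [← hc, h, zero_mul])
  exact ⟨i₁, i₂, c₁, c₂, Units.mk0 c hc0, h₁, h₂, by rw [Units.val_mk0, hc]⟩

theorem hc_model_iota {e n f : Fin 3 → F} (B : Frame3 q e n f) (c : Fˣ) :
    lev hF 1 (dg c : SpecialLinearGroup (Fin (k + 2)) F) * wH hF (wok_odd hF) 0 *
        (lev hF 1 (dg c : SpecialLinearGroup (Fin (k + 2)) F))⁻¹ * (wH hF (wok_odd hF) 0)⁻¹ =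
      iota hF k B (SU3Pres.Tm hF B ((c : F) * σ (c : F))) := by
  have hl : (c : F) * σ (c : F) ≠ 0 := mul_ne_zero c.ne_zero ((map_ne_zero (qFrob hF)).2 c.ne_zero)
  refine hext ?_
  rw [dg_torus hF (wok_odd hF) c, iota_Tm hF k B hl]
  congr 2
  rw [map_mul, qFrob_qFrob hF, mul_comm (σ (c : F))]
  exact (div_self hl).symm

/-- The relations of the torus word. -/
noncomputable def relTorus (hF : Fintype.card F = q ^ 2) (μ β k₁ : F) (i₁ i₂ : ℕ) (c₁ c₂ c₃ : Fˣ)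
    {P : Type*} [Group P] (jf : SpecialLinearGroup (Fin (k + 2)) F → P) (u w : P) : List (P × P) :=
  [(w * w, 1),
    (tw hF β k₁ jf u w 0 μ,
      tWord hF μ β k₁ jf u w ^ i₁ * (jf (dg c₁) * w * (jf (dg c₁))⁻¹ * w⁻¹)),
    (w * tWord hF μ β k₁ jf u w * w,
      tWord hF μ β k₁ jf u w ^ i₂ * (jf (dg c₂) * w * (jf (dg c₂))⁻¹ * w⁻¹)),
    (tWord hF μ β k₁ jf u w ^ (q + 1), jf (dg c₃) * w * (jf (dg c₃))⁻¹ * w⁻¹)]

variable {i₁ i₂ : ℕ} {c₁ c₂ c₃ : Fˣ}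

theorem relTorus_map {P Q : Type*} [Group P] [Group Q] (f : P →* Q)
    (jf : SpecialLinearGroup (Fin (k + 2)) F → P) (u w : P) :
    (relTorus hF μ β k₁ i₁ i₂ c₁ c₂ c₃ jf u w).map (Prod.map f f) =
      relTorus hF μ β k₁ i₁ i₂ c₁ c₂ c₃ (fun A => f (jf A)) (f u) (f w) := by
  simp [relTorus, tWord_map, tw_map]

theorem relTorus_model (O : OPar hF μ ω r β k₁) (T : TPar hF μ β i₁ i₂ c₁ c₂ c₃) :
    ∀ p ∈ relTorus hF μ β k₁ i₁ i₂ c₁ c₂ c₃ (lev hF 1) (Φ₀ hF β (Pi.single (0 : Fin (k + 2)) 1))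
      (wH hF (wok_odd hF) 0), p.1 = p.2 := by
  obtain ⟨e, n, f, B⟩ := exists_frame hF
  have hlt := OPar.lt_ne hF O
  have hN : ∀ c : Fˣ, (c : F) * σ (c : F) ≠ 0 := fun c =>
    mul_ne_zero c.ne_zero ((map_ne_zero (qFrob hF)).2 c.ne_zero)
  simp only [relTorus, List.forall_mem_cons, List.not_mem_nil, false_imp_iff, implies_true, and_true,
    tWord_model B O, hc_model_iota B, tw_model hF B O.hβt O.hk₁ (SU3Pres.OK.skew hF O.μt) O.μ0]
  simp only [← iota_Wm hF k B (wok_odd hF), ← map_mul, ← map_pow, SU3Pres.T_pow hF B hlt]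
  refine ⟨?_, ?_, ?_, ?_⟩
  · rw [SU3Pres.W_sq hF B, map_one]
  · rw [SU3Pres.T_mul hF B (pow_ne_zero _ hlt) (hN c₁), ← T.h₁]
  · rw [SU3Pres.W_conj hF B hlt, SU3Pres.T_mul hF B (pow_ne_zero _ hlt) (hN c₂), ← T.h₂]
  · rw [T.h₃]

/-- The facts fed into the last step. -/
theorem odd_finish {G : Type*} [Group G] {π : G →* Hgrp hF (k + 2) 1}
    {j : SpecialLinearGroup (Fin (k + 2)) F →* G} {u w : G} {U : Subgroup G} {Φ : (Fin (k + 2) → F) → G}
    (O : OPar hF μ ω r β k₁) (hπj : ∀ A, π (j A) = lev hF 1 A) (hπu : π u = Φ₀ hF β (Pi.single 0 1))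
    (hπw : π w = wH hF (wok_odd hF) 0) (hgen : j.range ⊔ Subgroup.closure {u, w} = ⊤)
    (hTw : Tw j u = Φ) (hΦu : Φ (Pi.single 0 1) = u) (D : UData hF π j U) (hΦU : ∀ v, Φ v ∈ U)
    (hΦπ : ∀ v, π (Φ v) = Φ₀ hF β v) (hext : ∀ N, Commute w (j (extL N)))
    (hU : ∀ v : Fin (k + 2) → F, v 0 = 0 → w * Φ v * w⁻¹ = Φ (-v))
    (hP : ∀ rr : Fin (k + 1) → F, ∀ y ∈ U,
      π y = uH hF 0 (μ • hv hF (Pi.single 0 1) (Fin.cons 0 rr)) → w * y * w⁻¹ ∈ colJ j)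
    (hWW : Commute w (j (swp 1 0) * w * (j (swp 1 0))⁻¹))
    (h : ∀ p ∈ relTorus hF μ β k₁ i₁ i₂ c₁ c₂ c₃ j u w, p.1 = p.2) : Function.Injective π := by
  obtain ⟨e, n, f, B⟩ := exists_frame hF
  simp only [relTorus, List.forall_mem_cons, List.not_mem_nil, false_imp_iff, implies_true, and_true] at h
  obtain ⟨hw2, hR0, hwtw, htq⟩ := h
  have hwi : w⁻¹ = w := inv_eq_of_mul_eq_one_right hw2
  have shp : ∀ {pv : Fin (k + 2) → Prop} {pZ : Fin (k + 2) → Fin (k + 2) → Prop} (v : Fin (k + 2) → F),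
      (∀ a, ¬ pv a → v a = 0) → (∀ a b, ¬ pZ a b → v a = 0 ∨ v b = 0) →
      Shp pv pZ (cv v) (β • vv hF v) := by
    intro pv pZ v h0 h
    refine ⟨fun a c ha => h0 a ha, fun a b hab => ?_⟩
    rcases h a b hab with h | h <;> simp [vv, vecMulVec_apply, h]
  have memX : ∀ γ, Φ (Pi.single 0 γ) ∈ X0 D := fun γ => by
    refine part_mem (hΦU _) (cv_ok hF O.hβt _) (hΦπ _) (shp _ (fun a ha => Pi.single_eq_of_ne ha _) fun a b h => ?_)
    rcases not_and_or.1 h with ha | hb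
    exacts [Or.inl (Pi.single_eq_of_ne ha _), Or.inr (Pi.single_eq_of_ne hb _)]
  have memU1 : ∀ v : Fin (k + 2) → F, v 0 = 0 → Φ v ∈ U1 D := fun v hv => by
    refine part_mem (hΦU _) (cv_ok hF O.hβt _) (hΦπ _) (shp _ (fun a ha => ?_) fun a b h => ?_)
    · rw [not_not] at ha; rw [ha, hv]
    · rw [not_not] at h; exact Or.inl (by rw [h.1, hv])
  have memUt : ∀ v : Fin (k + 2) → F, v 0 = 0 → Φ v ∈ Ut D := fun v hv => by
    refine part_mem (hΦU _) (cv_ok hF O.hβt _) (hΦπ _) (shp _ (fun a ha => ?_) fun a b h => ?_)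
    · rw [not_not] at ha; rw [ha, hv]
    · rcases not_and_or.1 h with ha | hb
      · rw [not_not] at ha; exact Or.inl (by rw [ha, hv])
      · rw [not_not] at hb; exact Or.inr (by rw [hb, hv])
  have cmem : ∀ {S : Subgroup G} {x y : G}, x ∈ S → y ∈ S → ⁅x, y⁆ ∈ S := fun {S x y} hx hy => by
    rw [commutatorElement_def]
    exact mul_mem (mul_mem (mul_mem hx hy) (inv_mem hx)) (inv_mem hy)
  have Eg : Eng D (wok_odd hF) w := by
    refine ⟨hπw, hext, fun y hy => wU_of D O.μt O.μ0 (fun v hv => ?_) (fun v hv y hyU e => ?_) hy,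
      fun y hy => wY_of D O.μt O.μ0 hP hy, ⟨1, 1, fun a i h => ?_, fun a i h => ?_, ?_⟩, hWW⟩
    · obtain ⟨v', rfl⟩ : ∃ v', v = cv v' := ⟨_, cv_surj v⟩
      have hv0 : v' 0 = 0 := hv 0
      exact ⟨Φ v', memUt v' hv0, β • vv hF v', cv_ok hF O.hβt v', hΦπ v',
        by rw [hU v' hv0]; exact memU1 _ (by simp [hv0])⟩
    · have e' : y = ⁅Φ (k₁ • v), Φ (μ • v)⁆ := by
        refine D.eq_of hyU (cmem (hΦU _) (hΦU _)) ?_
        rw [e, map_commutatorElement, hΦπ, hΦπ, Φ₀_comm hF O.hβt, cz_diag hF O.hk₁ O.μt]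
      rw [e', show w * ⁅Φ (k₁ • v), Φ (μ • v)⁆ * w⁻¹ = ⁅w * Φ (k₁ • v) * w⁻¹, w * Φ (μ • v) * w⁻¹⁆ by
          simp only [commutatorElement_def]; group,
        hU _ (by simp [hv]), hU _ (by simp [hv])]
      exact cmem (memU1 _ (by simp [hv])) (memU1 _ (by simp [hv]))
    · rw [sval_one] at h
      obtain rfl : a = i := by_contra fun hai => h (Matrix.one_apply_ne hai)
      exact Iff.rfl
    · rw [sval_one] at h
      obtain rfl : a = i := by_contra fun hai => h (Matrix.one_apply_ne hai)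
      exact Iff.rfl
    · rw [map_one, one_mul, mul_one, hwi]
  -- the words
  have hmodel : (fun A => π (j A)) = (lev hF 1 : SpecialLinearGroup (Fin (k + 2)) F → Hgrp hF (k + 2) 1) :=
    funext hπj
  have memxw : ∀ γ b, xw hF β k₁ j u γ b ∈ X0 D := fun γ b => by
    rw [xw, hTw]
    exact mul_mem (memX _) (cmem (memX _) (memX _))
  have πxw : ∀ {α b}, SU3Pres.OK hF α b →
      π (xw hF β k₁ j u (σ α) b) = iota hF k B (SU3Pres.Um hF B α b) := fun {α b} hok => by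
    rw [xw_map, hmodel, hπu]
    exact xw_model hF B O.hβt O.hk₁ hok
  have split : ∀ α b, w * xw hF β k₁ j u (σ α) b * w = xw hF β k₁ j u (σ (-α / b)) b⁻¹ *
      tw hF β k₁ j u w α b * w * xw hF β k₁ j u (σ (-α / σ b)) b⁻¹ := fun α b => by
    rw [tw]; group
  have πtw : ∀ {α b}, SU3Pres.OK hF α b → b ≠ 0 →
      π (tw hF β k₁ j u w α b) = iota hF k B (SU3Pres.Tm hF B (σ b)⁻¹) := fun {α b} hok hb => by
    rw [tw_map, hmodel, hπu, hπw]
    exact tw_model hF B O.hβt O.hk₁ hok hb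
  have twtor : ∀ {α b}, SU3Pres.OK hF α b → b ≠ 0 → tw hF β k₁ j u w α b ∈ tor D w := fun {α b} hok hb => by
    refine ⟨?_, ?_⟩
    · rw [tw]
      exact mul_mem (mul_mem (mul_mem (inv_mem (Eg.X0_pre (memxw _ _)))
        (mul_mem (mul_mem Eg.w_pre (Eg.X0_pre (memxw _ _))) Eg.w_pre))
        (inv_mem (Eg.X0_pre (memxw _ _)))) (inv_mem Eg.w_pre)
    · rw [πtw hok hb]
      exact iota_TorusAt hF k B (inv_ne_zero ((map_ne_zero (qFrob hF)).2 hb))
  set t := tWord hF μ β k₁ j u w with ht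
  have hokc : SU3Pres.OK hF (0 : F) μ := SU3Pres.OK.skew hF O.μt
  have T : TData Eg B t (ltv hF μ β) := by
    refine ⟨mul_mem (twtor O.okβ (OPar.β_ne hF O)) (twtor hokc O.μ0), OPar.lt_ne hF O, ?_, hw2, ?_,
      ⟨c₃, htq.symm⟩, OPar.lt_ord hF O, OPar.lt_cls hF O⟩
    · rw [ht, tWord_map, hmodel, hπu, hπw]
      exact tWord_model B O
    · rw [hwtw]
      exact mul_mem (pow_mem (show t ∈ TT Eg t from Subgroup.subset_closure (Or.inl rfl)) _)
        (show hc j w c₂ ∈ TT Eg t from Subgroup.subset_closure (Or.inr ⟨c₂, rfl⟩))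
  have htc : tw hF β k₁ j u w 0 μ ∈ TT Eg t := by
    rw [hR0]
    exact mul_mem (pow_mem T.t_TT _) (T.h_TT c₁)
  have C : CentreRel Eg B t μ := by
    refine ⟨O.μt, O.μ0, _, memxw (σ (0 : F)) μ, _, memxw (σ (-(0 : F) / μ)) μ⁻¹, _,
      memxw (σ (-(0 : F) / σ μ)) μ⁻¹, μ⁻¹, μ⁻¹, ?_, ?_, πxw hokc, ?_, ?_, _, htc, split 0 μ⟩
    · rw [map_inv₀, show σ μ = -μ by linear_combination O.μt, inv_neg, add_neg_cancel]
    · rw [map_inv₀, show σ μ = -μ by linear_combination O.μt, inv_neg, add_neg_cancel]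
    · rw [πxw] <;> simp only [neg_zero, zero_div]
      exact SU3Pres.OK.skew hF (by
        rw [map_inv₀, show σ μ = -μ by linear_combination O.μt, inv_neg, add_neg_cancel])
    · rw [πxw] <;> simp only [neg_zero, zero_div]
      exact SU3Pres.OK.skew hF (by
        rw [map_inv₀, show σ μ = -μ by linear_combination O.μt, inv_neg, add_neg_cancel])
  have htb : tw hF β k₁ j u w 1 β ∈ TT Eg t := by
    rw [show tw hF β k₁ j u w 1 β = t * (tw hF β k₁ j u w 0 μ)⁻¹ by rw [ht, tWord]; group]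
    exact mul_mem T.t_TT (inv_mem htc)
  refine (rank1_odd T C O.prim O.hr O.hr1 O.hcirc O.hβ O.hβt O.hm
    ⟨_, memxw (σ (1 : F)) β, πxw O.okβ, _, memxw (σ (-(1 : F) / β)) β⁻¹, _,
      memxw (σ (-(1 : F) / σ β)) β⁻¹, _, htb, split 1 β⟩).injective ?_
  refine eq_top_iff.2 ?_
  rw [← hgen, sup_le_iff]
  refine ⟨?_, ?_⟩
  · rintro _ ⟨A, rfl⟩
    exact Subgroup.subset_closure (Or.inl (Or.inl ⟨A, rfl⟩))
  · rw [Subgroup.closure_le]
    rintro _ (rfl | rfl)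
    · exact Subgroup.subset_closure (Or.inl (Or.inr (hΦu ▸ hΦU _)))
    · exact Subgroup.subset_closure (Or.inr rfl)

end Cfsg.Agent.Lie.UnPres
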