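import Cfsg.Agent.Lib.Lie.UnPresEvenTwo
import Cfsg.Agent.Lib.Lie.UnPresOddFinish

/-!
The relations in odd dimension for two coordinates of the Levi factor: the torus word acts with a generator
as its multiplier, so one class of pairs is left.
-/

set_option autoImplicit false
set_option linter.unusedSectionVars false

namespace Cfsg.Agent.Lie.UnPres

open Matrix Cfsg.Agent.Classical Cfsg.Agent.Classical.PSUAut Cfsg.Agent.Fus.UnitN Cfsg.Agent.Lie.SUGen
open Cfsg.Agent.Lie.SpnPres (sval_mul sval_one inv_mulVec mulVec_inv exists_col)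
open scoped commutatorElement

variable {F : Type*} [Field F] [Fintype F] {q : ℕ} (hF : Fintype.card F = q ^ 2) {k : ℕ}

local notation "σ" => qFrob hF
local notation "SL2'" => SpecialLinearGroup (Fin (0 + 2)) F
local notation "f₀" => (Pi.single (0 : Fin (0 + 2)) (1 : F) : Fin (0 + 2) → F)
local notation "f₁" => (Pi.single (1 : Fin (0 + 2)) (1 : F) : Fin (0 + 2) → F)

/-- The central element of a vector. -/
def Tz (μ k₁ : F) {V P : Type*} [SMul F V] [Group P] (Φ : V → P) (v : V) : P := ⁅Φ (k₁ • v), Φ (μ • v)⁆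

theorem Tz_map (μ k₁ : F) {V P Q : Type*} [SMul F V] [Group P] [Group Q] (f : P →* Q) (Φ : V → P) (v : V) :
    f (Tz μ k₁ Φ v) = Tz μ k₁ (fun x => f (Φ x)) v := by simp [Tz, map_commutatorElement]

include hF

/-- The multiplier of the torus on the first vector. -/
def sU (om : Fˣ) : Fˣ :=
  Units.mk0 ((om : F) * om / σ (om : F))
    (div_ne_zero (mul_ne_zero om.ne_zero om.ne_zero) ((map_ne_zero (qFrob hF)).2 om.ne_zero))

/-- The action of the torus on vectors. -/
noncomputable def Lt (l : F) (m : ℕ) [NeZero m] : (Fin m → F) →ₗ[F] (Fin m → F) :=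
  (l / σ l) • Matrix.mulVecLin (tD hF l)

theorem Lt_apply (l : F) {m : ℕ} [NeZero m] (v : Fin m → F) :
    Lt hF l m v = (l / σ l) • (tD hF l *ᵥ v) := rfl

/-- The relations in odd dimension for two coordinates of the Levi factor. -/
noncomputable def relOdd2 (μ ω β k₁ : F) (i₁ i₂ : ℕ) (c₁ c₂ om : Fˣ)
    (a b : SpecialLinearGroup (Fin (0 + 2)) F) {P : Type*} [Group P]
    (jf : SpecialLinearGroup (Fin (0 + 2)) F → P) (u w : P) : List (P × P) :=
  [(jf (rowE (Pi.single 0 1)) * u, u * jf (rowE (Pi.single 0 1))),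
    (jf (rowE (Pi.single 0 ω)) * u, u * jf (rowE (Pi.single 0 ω))),
    (tWord hF μ β k₁ jf u w * jf a * (tWord hF μ β k₁ jf u w)⁻¹, jf (tcj hF om a)),
    (tWord hF μ β k₁ jf u w * jf b * (tWord hF μ β k₁ jf u w)⁻¹, jf (tcj hF om b)),
    (tWord hF μ β k₁ jf u w * u * (tWord hF μ β k₁ jf u w)⁻¹, jf (dg (sU hF om)) * u * (jf (dg (sU hF om)))⁻¹),
    (Tz μ k₁ (Tw jf u) (ω ^ (q - 1) • f₀), Tz μ k₁ (Tw jf u) f₀),
    (Tw jf u f₀ * Tz μ k₁ (Tw jf u) f₁, Tz μ k₁ (Tw jf u) f₁ * Tw jf u f₀),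
    (Bw (Tz μ k₁ (Tw jf u)) (ω • f₀) f₁, Bw (Tz μ k₁ (Tw jf u)) f₀ (σ ω • f₁)),
    (Bw (Tz μ k₁ (Tw jf u)) f₀ (f₁ + μ • f₀), Bw (Tz μ k₁ (Tw jf u)) f₀ f₁),
    (Bw (Tz μ k₁ (Tw jf u)) f₀ (f₁ + k₁ • f₀), Tz μ k₁ (Tw jf u) f₀ * Bw (Tz μ k₁ (Tw jf u)) f₀ f₁),
    (Tw jf u f₀ * Tw jf u f₁, Tw jf u (f₀ + f₁) * Bw (Tz μ k₁ (Tw jf u)) ((σ β / μ) • f₀) f₁),
    (Tw jf u f₀ * Tw jf u (ω • f₁),
      Tw jf u (f₀ + ω • f₁) * Bw (Tz μ k₁ (Tw jf u)) ((σ β / μ) • f₀) (ω • f₁)),
    (Tw jf u f₀ * Tw jf u ((1 + ω) • f₁),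
      Tw jf u (f₀ + (1 + ω) • f₁) * Bw (Tz μ k₁ (Tw jf u)) ((σ β / μ) • f₀) ((1 + ω) • f₁)),
    (w * Tw jf u f₁ * w⁻¹, Tw jf u (-f₁)),
    (w * Bw (Tz μ k₁ (Tw jf u)) f₀ f₁ * w⁻¹, jf (colE fun i => μ * (Pi.single 0 1 : Fin (0 + 1) → F) i)),
    (w * (jf (swp 1 0) * w * (jf (swp 1 0))⁻¹), jf (swp 1 0) * w * (jf (swp 1 0))⁻¹ * w)] ++
  relTorus hF μ β k₁ i₁ i₂ c₁ c₂ om jf u w

variable {μ ω r β k₁ : F} {i₁ i₂ : ℕ} {c₁ c₂ om : Fˣ}

theorem relOdd2_map {P Q : Type*} [Group P] [Group Q] (f : P →* Q) (a b : SL2') (jf : SL2' → P) (u w : P) :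
    (relOdd2 hF μ ω β k₁ i₁ i₂ c₁ c₂ om a b jf u w).map (Prod.map f f) =
      relOdd2 hF μ ω β k₁ i₁ i₂ c₁ c₂ om a b (fun A => f (jf A)) (f u) (f w) := by
  rw [relOdd2, List.map_append, relTorus_map]
  simp [relOdd2, Tw_map, Bw_map, Tz_map, tWord_map]

theorem relOdd2_length {P : Type*} [Group P] (a b : SL2') (jf : SL2' → P) (u w : P) :
    (relOdd2 hF μ ω β k₁ i₁ i₂ c₁ c₂ om a b jf u w).length = 20 := rfl

theorem t_model_lev {e n f : Fin 3 → F} (B : Frame3 q e n f) (c : Fˣ) (A : SpecialLinearGroup (Fin (k + 2)) F) :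
    iota hF k B (SU3Pres.Tm hF B (c : F)) * lev hF 1 A * (iota hF k B (SU3Pres.Tm hF B (c : F)))⁻¹ =
      lev hF 1 (tcj hF c A) := by
  rw [mul_inv_eq_iff_eq_mul]
  refine hext ?_
  have hl : (c : F) ≠ 0 := c.ne_zero
  have hl' : σ (c : F) ≠ 0 := (map_ne_zero (qFrob hF)).2 hl
  have e : ((tcj hF c A)⁻¹).1 = tD hF (c : F) * (A⁻¹).1 * tD hF (c : F)⁻¹ := by rw [← map_inv, tcj_val]
  rw [hval_mul, hval_mul, iota_Tm hF k B hl, lev_val, lev_val]
  simp only [levM, tcj_val, e, ct_mul, ct_tD, map_inv₀, fromBlocks_multiply, Matrix.mul_zero, Matrix.zero_mul,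
    add_zero, zero_add, Matrix.smul_mul, Matrix.mul_smul, Matrix.one_mul, Matrix.mul_one, smul_zero]
  congr 1
  congr 1
  · rw [Matrix.mul_assoc _ (tD hF (c : F)⁻¹), tD_mul, inv_mul_cancel₀ hl, tD_one, Matrix.mul_one]
  · simp only [Matrix.mul_assoc]
    rw [tD_mul, mul_inv_cancel₀ hl', tD_one, Matrix.mul_one]

theorem t_model_Φ₀ {e n f : Fin 3 → F} (B : Frame3 q e n f) (hβ : β + σ β = -1) (c : Fˣ) (v : Fin (k + 2) → F) :
    iota hF k B (SU3Pres.Tm hF B (c : F)) * Φ₀ hF β v * (iota hF k B (SU3Pres.Tm hF B (c : F)))⁻¹ =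
      Φ₀ hF β (Lt hF (c : F) (k + 2) v) := by
  rw [mul_inv_eq_iff_eq_mul]
  refine hext ?_
  have hl : (c : F) ≠ 0 := c.ne_zero
  have hl' : σ (c : F) ≠ 0 := (map_ne_zero (qFrob hF)).2 hl
  have hn : σ ((c : F) / σ (c : F)) = σ (c : F) / c := by rw [map_div₀, qFrob_qFrob hF]
  rw [hval_mul, hval_mul, iota_Tm hF k B hl, Φ₀, Φ₀, uH_val hF (cv_ok hF hβ v), uH_val hF (cv_ok hF hβ _)]
  have ev : ∀ x : F, cv (x • (tD hF (c : F) *ᵥ v)) = x • ((tD hF (c : F) : Matrix (Fin (k + 2)) (Fin (k + 2)) F) * cv v) :=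
    fun x => by rw [cv_mul]; rfl
  have e2 : ((c : F) / σ (c : F)) * σ ((c : F) / σ (c : F)) = 1 := by rw [hn]; field_simp
  rw [Lt_apply, vv_smul, e2, one_smul]
  simp only [uMat, fromBlocks_multiply, fromBlocks_mul_fromRows, fromCols_mul_fromBlocks, fromRows_mul,
    mul_fromCols, Matrix.mul_zero, Matrix.zero_mul, add_zero, zero_add, Matrix.one_mul, Matrix.mul_one,
    Matrix.mul_neg, Matrix.neg_mul, vv_conj, ct_tD, Matrix.mul_smul, Matrix.smul_mul, ev,
    ct_smul, ct_mul, hn, smul_smul, smul_neg, neg_zero, smul_zero]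
  congr 1
  · congr 1
    rw [Matrix.mul_assoc _ (tD hF (σ (c : F))), tD_mul, mul_inv_cancel₀ hl', tD_one, Matrix.mul_one]
  · ext (i | i) l <;> simp <;> field_simp
  · rw [Matrix.mul_assoc, tD_mul, mul_inv_cancel₀ hl', tD_one, Matrix.mul_one]
    ext l (i | i) <;> simp

theorem Φ₀_Rw (hμ : μ + σ μ = 0) (hμ0 : μ ≠ 0) (hβ : β + σ β = -1) (v w : Fin (k + 2) → F) :
    Φ₀ hF β v * Φ₀ hF β w = Φ₀ hF β (v + w) * Bw (T₀ hF 1 μ) ((σ β / μ) • v) w := by
  rw [piT hF hμ (T := T₀ hF 1 μ) (fun _ => rfl), Φ₀_R hF hβ, Φ₀_comm hF hβ]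
  congr 2
  ext a b
  simp only [cz, hv, Matrix.sub_apply, Matrix.add_apply, Matrix.smul_apply, vecMulVec_apply, Pi.smul_apply,
    smul_eq_mul, map_mul, map_neg, map_div₀, qFrob_qFrob hF, show σ μ = -μ by linear_combination hμ]
  field_simp
  ring

theorem relOdd2_model (O : OPar hF μ ω r β k₁) (hlt : ltv hF μ β = ω) (hom : (om : F) = ω)
    (T : TPar hF μ β i₁ i₂ c₁ c₂ om) (a b : SL2') :
    ∀ p ∈ relOdd2 hF μ ω β k₁ i₁ i₂ c₁ c₂ om a b (lev hF 1) (Φ₀ hF β f₀) (wH hF (wok_odd hF) 0),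
      p.1 = p.2 := by
  refine List.forall_mem_append.2 ⟨?_, relTorus_model O T⟩
  obtain ⟨e, n, f, B⟩ := exists_frame hF
  have hβ := O.hβt
  have hμ := O.μt
  have hT : Tw (lev hF 1) (Φ₀ hF β f₀) = Φ₀ hF (m := 0 + 2) β := funext (Tw_heis hF hβ)
  have hz : Tz μ k₁ (Φ₀ hF (m := 0 + 2) β) = T₀ hF 1 μ := funext fun v => by
    rw [Tz, Φ₀_comm hF hβ, cz_diag hF O.hk₁ hμ]
    rfl
  have h10 : (0 : Fin (0 + 2)) ≠ 1 := by simp
  have ht : tWord hF μ β k₁ (lev hF 1) (Φ₀ hF β f₀) (wH hF (wok_odd hF) 0) =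
      iota hF 0 B (SU3Pres.Tm hF B (om : F)) := by rw [tWord_model B O, hlt, hom]
  simp only [List.forall_mem_cons, List.not_mem_nil, false_imp_iff, implies_true, and_true, hT, hz, ht]
  refine ⟨Φ₀_fix hF hβ (rowE_fix _), Φ₀_fix hF hβ (rowE_fix _), t_model_lev hF B om a, t_model_lev hF B om b,
    ?_, ?_, ?_, T₀_S hF hμ _ _ _, ?_, ?_, Φ₀_Rw hF hμ O.μ0 hβ _ _, Φ₀_Rw hF hμ O.μ0 hβ _ _,
    Φ₀_Rw hF hμ O.μ0 hβ _ _, wH_Φ₀ hF hβ (Pi.single_eq_of_ne h10 _), ?_, (W1_model hF (wok_odd hF)).eq⟩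
  · rw [t_model_Φ₀ hF B hβ, Φ₀_conj hF hβ, dg_e0 hF]
    congr 1
    rw [Lt_apply, tD_single, if_pos rfl, mul_one, ← Pi.single_smul, smul_eq_mul]
    congr 1
    simp only [sU, Units.val_mk0]
    ring
  · rw [T₀, T₀, vv_smul, O.prim.eps_norm hF, one_smul]
  · rw [Φ₀, T₀, uH_mul hF (cv_ok hF hβ _) (skew_ok hF hμ (vv_herm hF _)),
      uH_mul hF (skew_ok hF hμ (vv_herm hF _)) (cv_ok hF hβ _)]
    simp only [ct_zero, Matrix.mul_zero, Matrix.zero_mul, add_zero, zero_add, sub_zero]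
    congr 1
    abel
  · rw [piT hF hμ (T := T₀ hF 1 μ) (fun _ => rfl), piT hF hμ (T := T₀ hF 1 μ) (fun _ => rfl), vv_add_smul,
      hμ, zero_smul, add_zero]
  · rw [piT hF hμ (T := T₀ hF 1 μ) (fun _ => rfl), piT hF hμ (T := T₀ hF 1 μ) (fun _ => rfl), vv_add_smul,
      O.hk₁, one_smul, T₀, uH_skew_mul hF hμ (vv_herm hF _) (hv_herm hF _ _)]
    congr 2
    abel
  · rw [piT hF hμ (T := T₀ hF 1 μ) (fun _ => rfl),
      show f₁ = (Fin.cons 0 (Pi.single 0 1) : Fin (0 + 2) → F) by rw [cons_single, Fin.succ_zero_eq_one]]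
    have := wY_model (k := 0) hF (wok_odd hF) hμ (Pi.single 0 1)
    simp only [map_one, one_mul] at this
    exact this

section Derive

variable {hF} {G : Type*} [Group G] {π : G →* Hgrp hF (0 + 2) 1}
  {j : SpecialLinearGroup (Fin (0 + 2)) F →* G} {u w : G} {a b : SpecialLinearGroup (Fin (0 + 2)) F}

set_option maxHeartbeats 1000000 in
/-- Injectivity in odd dimension for two coordinates of the Levi factor. -/
theorem relOdd2_injective (O : OPar hF μ ω r β k₁) (hom : (om : F) = ω)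
    (hab : Subgroup.closure ({a, b} : Set (SpecialLinearGroup (Fin (0 + 2)) F)) = ⊤)
    (hπj : ∀ A, π (j A) = lev hF 1 A) (hπu : π u = Φ₀ hF β f₀)
    (hπw : π w = wH hF (wok_odd hF) 0) (hgen : j.range ⊔ Subgroup.closure {u, w} = ⊤)
    (h : ∀ p ∈ relOdd2 hF μ ω β k₁ i₁ i₂ c₁ c₂ om a b j u w, p.1 = p.2) : Function.Injective π := by
  have hω := O.prim.ne
  have hω' : σ ω ≠ 0 := (map_ne_zero (qFrob hF)).2 hω
  have hk0 : k₁ ≠ 0 := fun e => by
    have := O.hk₁
    rw [e, map_zero, add_zero] at this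
    exact zero_ne_one this
  simp only [relOdd2, List.forall_mem_append, List.forall_mem_cons, List.not_mem_nil, false_imp_iff, implies_true,
    and_true] at h
  obtain ⟨⟨hr1, hrω, hta, htb, htu, hd0, hC, hS, hL0, hL1, hR1, hRω, hR1ω, hU1, hY, hW1⟩, htor⟩ := h
  have htq : tWord hF μ β k₁ j u w ^ (q + 1) = j (dg om) * w * (j (dg om))⁻¹ * w⁻¹ := by
    have h' := htor
    simp only [relTorus, List.forall_mem_cons, List.not_mem_nil, false_imp_iff, implies_true, and_true] at h'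
    exact h'.2.2.2
  set t := tWord hF μ β k₁ j u w with ht
  set H := j (dg om) * w * (j (dg om))⁻¹ * w⁻¹ with hH
  have htj : ∀ A, t * j A * t⁻¹ = j (tcj hF om A) :=
    conj_of_pair j (tcj hF om) t hab (by rintro x (rfl | rfl); exacts [hta, htb])
  -- the stabiliser of the first vector
  have hext : ∀ N, Commute (j (extL N)) u := fun N => by
    rw [ext_of_single rfl N, map_one, map_one]; exact Commute.one_left u
  set m := σ ω * σ ω / (ω * ω * ω) with hm
  have hstep : ∀ x : F, Commute (j (rowE (Pi.single 0 x))) u → Commute (j (rowE (Pi.single 0 (m * x)))) u := by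
    intro x hx
    set g := (j (dg (sU hF om)))⁻¹ * t with hg
    have hgu : g * u * g⁻¹ = u := by
      calc g * u * g⁻¹ = (j (dg (sU hF om)))⁻¹ * (t * u * t⁻¹) * j (dg (sU hF om)) := by rw [hg]; group
        _ = u := by rw [htu]; group
    have e : g * j (rowE (Pi.single 0 x)) * g⁻¹ = j (rowE (Pi.single 0 (m * x))) := by
      calc g * j (rowE (Pi.single 0 x)) * g⁻¹
          = (j (dg (sU hF om)))⁻¹ * (t * j (rowE (Pi.single 0 x)) * t⁻¹) * j (dg (sU hF om)) := by rw [hg]; group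
        _ = j ((dg (sU hF om))⁻¹ * tcj hF om (rowE (Pi.single 0 x)) * dg (sU hF om)) := by
            rw [htj, map_mul, map_mul, map_inv]
        _ = _ := by
            congr 1
            rw [mul_assoc, inv_mul_eq_iff_eq_mul]
            refine Subtype.ext ?_
            rw [sval_mul, sval_mul, tcj_val, dg_val]
            show tD hF (om : F) * (1 + vecMulVec f₀ (Fin.cons 0 (Pi.single 0 x))) * tD hF (om : F)⁻¹ *
                Matrix.diagonal (dgv (sU hF om : F)) =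
              Matrix.diagonal (dgv (sU hF om : F)) * (1 + vecMulVec f₀ (Fin.cons 0 (Pi.single 0 (m * x))))
            ext i l
            fin_cases i <;> fin_cases l <;>
              simp [tD, dgv, sU, hm, hom, Matrix.mul_apply, Fin.sum_univ_two, vecMulVec_apply, Matrix.one_apply,
                Matrix.diagonal_apply]
            all_goals field_simp
    have := hx.map (MulAut.conj g).toMonoidHom
    simp only [MulEquiv.coe_toMonoidHom, MulAut.conj_apply, hgu, e] at this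
    exact this
  have hrow : ∀ rr, Commute (j (rowE rr)) u := by
    intro rr
    let A : AddSubgroup F :=
      { carrier := {x | Commute (j (rowE (Pi.single 0 x))) u}
        zero_mem' := by rw [Set.mem_setOf_eq, Pi.single_zero, rowE_zero, map_one]; exact Commute.one_left u
        add_mem' := fun {s t} hs ht => by
          rw [Set.mem_setOf_eq, Pi.single_add, rowE_add, map_mul]; exact Commute.mul_left hs ht
        neg_mem' := fun {t} ht => by
          rw [Set.mem_setOf_eq, show (rowE (Pi.single 0 (-t)) : SpecialLinearGroup (Fin (0 + 2)) F) = (rowE (Pi.single 0 t))⁻¹ from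
            eq_inv_of_mul_eq_one_left (by rw [← rowE_add, ← Pi.single_add, neg_add_cancel, Pi.single_zero, rowE_zero]),
            map_inv]
          exact Commute.inv_left ht }
    have hpow : ∀ (i : ℕ) (x : F), x ∈ A → m ^ i * x ∈ A := by
      intro i x hx
      induction i with
      | zero => rwa [pow_zero, one_mul]
      | succ i ih => rw [pow_succ', mul_assoc]; exact hstep _ ih
    have hreal : ∀ s : F, σ s = s → ∀ x ∈ A, s * x ∈ A := by
      intro s hs x hx
      rcases eq_or_ne s 0 with rfl | hs0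
      · rw [zero_mul]; exact A.zero_mem
      obtain ⟨i, hi⟩ := O.prim.norm_gen hF (s := s⁻¹) (by rw [map_inv₀, hs]) (inv_ne_zero hs0)
      have hN : m ^ (q + 1) = (ω * σ ω)⁻¹ := by
        rw [pow_succ, ← qFrob_apply hF, hm]
        simp only [map_div₀, map_mul, qFrob_qFrob hF]
        field_simp
      rw [show s = (m ^ (q + 1)) ^ i by rw [hN, inv_pow, ← hi, inv_inv], ← pow_mul]
      exact hpow _ _ hx
    have hA : ∀ x, x ∈ A := fun x => by
      obtain ⟨c, d, hc, hd, rfl⟩ := exists_coord hF (O.prim.not_real hF) x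
      exact A.add_mem (by simpa using hreal c hc 1 hr1) (hreal d hd ω hrω)
    rw [show rr = Pi.single 0 (rr 0) from funext fun i => by rw [Subsingleton.elim (α := Fin 1) i 0, Pi.single_eq_same]]
    exact hA _
  obtain ⟨Φ, hT0, hTu, hT, hTj⟩ := exists_orbit j u fun M hM => commute_stab j u hext hrow hM
  have hTw : Tw j u = Φ := funext (Tw_eq j u hT0 hT)
  rw [hTw] at hd0 hC hS hL0 hL1 hR1 hRω hR1ω hU1 hY
  have hπΦ : ∀ v, π (Φ v) = Φ₀ hF β v := fun v => by
    rw [← hTw, Tw_map]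
    simp only [hπj, hπu]
    exact Tw_heis hF O.hβt v
  have HO : HOrb π j β Φ := ⟨O.hβt, hT0, hπΦ, fun A v => hTj A v⟩
  have Lf0 : Lt hF (om : F) (0 + 2) f₀ = (sU hF om : F) • f₀ := by
    rw [Lt_apply, tD_single, if_pos rfl, mul_one, ← Pi.single_smul, smul_eq_mul, ← Pi.single_smul,
      smul_eq_mul, mul_one]
    congr 1
    simp only [sU, Units.val_mk0]
    ring
  have Lf1 : ∀ x : F, Lt hF (om : F) (0 + 2) (x • f₁) = ((om : F) / σ (om : F) * x) • f₁ := fun x => by
    rw [map_smul, Lt_apply, tD_single, if_neg (by simp), one_mul, smul_smul, mul_comm]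
  have htΦ : ∀ v, t * Φ v * t⁻¹ = Φ (Lt hF (om : F) (0 + 2) v) :=
    orbit_map j hT0 hTj (tcj hF om) (fun v => Lt hF (om : F) (0 + 2) v) (map_zero _)
      (fun A v => by
        show Lt hF (om : F) (0 + 2) (A.1 *ᵥ v) = _
        rw [Lt_apply, Lt_apply, tcj_mulVec, Matrix.mulVec_smul]) t htj (by
        rw [hTu, htu, Lf0, ← Pi.single_smul, smul_eq_mul, mul_one, ← dg_e0 hF, hTj, hTu])
  set T : (Fin (0 + 2) → F) → G := Tz μ k₁ Φ with hTdef
  have hT00 : T 0 = 1 := by simp [T, Tz, hT0]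
  have hTj' : ∀ (A : SpecialLinearGroup (Fin (0 + 2)) F) v, T (A.1 *ᵥ v) = j A * T v * (j A)⁻¹ := fun A v => by
    simp only [T, Tz, ← Matrix.mulVec_smul, hTj, commutatorElement_def]
    group
  have htT : ∀ v, t * T v * t⁻¹ = T (Lt hF (om : F) (0 + 2) v) := fun v => by
    simp only [T, Tz, ← map_smul, ← htΦ, commutatorElement_def]
    group
  have hTπ : ∀ v, π (T v) = T₀ hF 1 μ v := fun v => by
    rw [hTdef, Tz_map, Tz, hπΦ, hπΦ, Φ₀_comm hF O.hβt, cz_diag hF O.hk₁ O.μt]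
    rfl
  have he1 : ∀ v, T (ω ^ (q - 1) • v) = T v := fun v => by
    rcases eq_or_ne v 0 with rfl | hv
    · rw [smul_zero]
    obtain ⟨g, rfl⟩ := exists_col (n := 0) 0 hv
    rw [← Matrix.mulVec_smul, hTj' g, hTj' g, hd0]
  have OT : Orb hF π j μ T := ⟨O.μt, O.μ0, hT00, hTπ, hTj', fun e he v => by
    obtain ⟨i, rfl⟩ := O.prim.circle_gen hF he
    clear he
    induction i with
    | zero => rw [pow_zero, one_smul]
    | succ i ih => rw [pow_succ', ← smul_smul, he1, ih]⟩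
  -- one class of pairs
  have hid : ω = (sU hF om : F) * ((om : F) / σ (om : F)) * (ω ^ (q - 1) * ω ^ (q - 1)) := by
    have e : ω ^ (q - 1) * ω = σ ω := by
      rw [qFrob_apply, ← pow_succ, Nat.sub_add_cancel (by have := two_le_q hF; omega : 1 ≤ q)]
    rw [show ω ^ (q - 1) = σ ω / ω by rw [eq_div_iff hω, e]]
    simp only [sU, Units.val_mk0, hom]
    field_simp
  have hε0 : ω ^ (q - 1) ≠ 0 := pow_ne_zero _ hω
  have stepL : ∀ (R : (Fin (0 + 2) → F) → (Fin (0 + 2) → F) → Prop),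
      (∀ (g : SpecialLinearGroup (Fin (0 + 2)) F) x y, R x y → R (g.1 *ᵥ x) (g.1 *ᵥ y)) →
      (∀ x y, R x y → R (Lt hF (om : F) (0 + 2) x) (Lt hF (om : F) (0 + 2) y)) →
      ∀ d, R f₀ (d • f₁) → R f₀ (((sU hF om : F) * ((om : F) / σ (om : F)) * d) • f₁) := by
    intro R hmv hL d h
    have h1 := hL _ _ h
    rw [Lf0, Lf1, ← smul_smul] at h1
    exact dg_step (hF := hF) hmv (sU hF om).ne_zero h1
  have spread : ∀ (R : (Fin (0 + 2) → F) → (Fin (0 + 2) → F) → Prop),
      (∀ (L : (Fin (0 + 2) → F) →ₗ[F] (Fin (0 + 2) → F)) (g : G), (∀ v, g * T v * g⁻¹ = T (L v)) →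
        ∀ x y, R x y → R (L x) (L y)) →
      R f₀ f₁ → ∀ {x y}, Ind2 F x y → R x y := by
    intro R hR h1 x y hxy
    have hmv : ∀ (g : SpecialLinearGroup (Fin (0 + 2)) F) x y, R x y → R (g.1 *ᵥ x) (g.1 *ᵥ y) :=
      fun g x y h => hR (Matrix.mulVecLin g.1) (j g) (fun v => (hTj' g v).symm) x y h
    refine pair_all (hF := hF) (R := R) O.prim one_pos hmv (fun d h => ?_) (fun i hi => ?_) hxy
    · rw [pow_one, hid, mul_assoc ((sU hF om : F) * ((om : F) / σ (om : F)))]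
      refine stepL R hmv (fun x y h => hR (Lt hF (om : F) (0 + 2)) t htT x y h) _ ?_
      have := hR (ω ^ (q - 1) • LinearMap.id) 1 (fun v => by
        rw [LinearMap.smul_apply, LinearMap.id_apply, he1, one_mul, inv_one, mul_one]) _ _ h
      simp only [LinearMap.smul_apply, LinearMap.id_apply] at this
      exact dg_step (hF := hF) hmv hε0 this
    · rw [show i = 0 by omega, pow_zero, one_smul]; exact h1
  have hC1 : ∀ v v', Ind2 F v v' → Commute (Φ v) (T v') := by
    intro v v' hvv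
    have hmv : ∀ (g : SpecialLinearGroup (Fin (0 + 2)) F) x y, Commute (Φ x) (T y) →
        Commute (Φ (g.1 *ᵥ x)) (T (g.1 *ᵥ y)) := fun g x y h => by
      rw [hTj, hTj']; exact h.map (MulAut.conj (j g)).toMonoidHom
    have hL : ∀ x y, Commute (Φ x) (T y) → Commute (Φ (Lt hF (om : F) (0 + 2) x)) (T (Lt hF (om : F) (0 + 2) y)) :=
      fun x y h => by rw [← htΦ, ← htT]; exact h.map (MulAut.conj t).toMonoidHom
    refine pair_all (hF := hF) (R := fun x y => Commute (Φ x) (T y)) O.prim one_pos hmv (fun d h => ?_)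
      (fun i hi => ?_) hvv
    · rw [pow_one, hid, mul_assoc ((sU hF om : F) * ((om : F) / σ (om : F)))]
      refine stepL (fun x y => Commute (Φ x) (T y)) hmv hL _ ?_
      show Commute (Φ f₀) (T _)
      rw [mul_assoc (ω ^ (q - 1)), ← smul_smul, he1, ← smul_smul, he1]
      exact h
    · rw [show i = 0 by omega, pow_zero, one_smul]; exact hC
  have bw : ∀ (L : (Fin (0 + 2) → F) →ₗ[F] (Fin (0 + 2) → F)) (g : G), (∀ v, g * T v * g⁻¹ = T (L v)) →
      ∀ x y, Bw T (L x) (L y) = g * Bw T x y * g⁻¹ := fun L g hL x y => by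
    rw [Bw, Bw, ← map_add, ← hL, ← hL, ← hL]; group
  have hcommT : ∀ v v', Ind2 F v v' → Commute (T v) (T v') := fun v v' hvv => by
    have c1 := (hC1 _ _ (hvv.symm.smul_left hk0)).symm
    have c2 := (hC1 _ _ (hvv.symm.smul_left O.μ0)).symm
    show Commute (T v) ⁅Φ (k₁ • v'), Φ (μ • v')⁆
    rw [commutatorElement_def]
    exact ((c1.mul_right c2).mul_right c1.inv_right).mul_right c2.inv_right
  have hSS : ∀ v v', Ind2 F v v' → Bw T (ω • v) v' = Bw T v (σ ω • v') :=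
    fun v v' hvv => spread (fun x y => Bw T (ω • x) y = Bw T x (σ ω • y)) (fun L g hL x y e => by
      rw [← map_smul, ← map_smul, bw L g hL, bw L g hL, e]) hS hvv
  have hLκ : ∀ v v', Ind2 F v v' → Bw T v (v' + μ • v) = Bw T v v' :=
    fun v v' hvv => spread (fun x y => Bw T x (y + μ • x) = Bw T x y) (fun L g hL x y e => by
      rw [← map_smul, ← map_add, bw L g hL, bw L g hL, e]) hL0 hvv
  have hLk : ∀ v v', Ind2 F v v' → Bw T v (v' + k₁ • v) = T v * Bw T v v' :=
    fun v v' hvv => spread (fun x y => Bw T x (y + k₁ • x) = T x * Bw T x y) (fun L g hL x y e => by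
      rw [← map_smul, ← map_add, bw L g hL, bw L g hL, e, ← hL]; group) hL1 hvv
  have Z := zdata_two OT O.prim O.μt O.μ0 O.hk₁ hcommT hSS hLκ hLk
  set K := Subgroup.closure (Set.range T) with hK
  have memT : ∀ v, T v ∈ K := fun v => Subgroup.subset_closure ⟨v, rfl⟩
  have memB : ∀ v v', Bw T v v' ∈ K := fun v v' =>
    mul_mem (mul_mem (memT _) (inv_mem (memT _))) (inv_mem (memT _))
  have hdim : ∀ a : Fin (0 + 2) → F, a ≠ 0 → ∃ y, Ind2 F a y := fun a ha => exists_ind2 a ha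
  -- the centre
  have hcen : ∀ z ∈ K, ∀ v, Commute z (Φ v) := by
    intro z hz v
    refine (commute_closure hz ?_).symm
    rintro _ ⟨x, rfl⟩
    rcases eq_or_ne v 0 with rfl | hv
    · rw [hT0]; exact Commute.one_left _
    rcases eq_or_ne x 0 with rfl | hx
    · rw [hT00]; exact Commute.one_right _
    by_cases hi : Ind2 F v x
    · exact hC1 v x hi
    obtain ⟨c, hc⟩ : ∃ c : F, x = c • v := by
      by_contra hne
      exact hi ⟨hv, fun c hc => hne ⟨c, hc⟩⟩
    have hc0 : c ≠ 0 := fun e => hx (by rw [hc, e, zero_smul])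
    have keyv : ∀ p, Ind2 F x p → Commute (Φ v) (T p) := fun p hp => by
      refine hC1 v p ?_
      have := hp.smul_left (inv_ne_zero hc0)
      rwa [hc, smul_smul, inv_mul_cancel₀ hc0, one_smul] at this
    obtain ⟨p, hp⟩ := hdim x hx
    set p' := p + k₁ • x with hp'
    have i1 : Ind2 F x p' := hp.add_smul_right k₁
    have i2 : Ind2 F x (x + p') := by rw [add_comm x p', ← one_smul F x]; simpa using i1.add_smul_right 1
    have i3 : Ind2 F x (x + p) := by rw [add_comm x p, ← one_smul F x]; simpa using hp.add_smul_right 1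
    have e : T x = T (x + p') * (T p')⁻¹ * T p * (T (x + p))⁻¹ := by
      have c1 := (Z.comm _ (memT x) _ (memT p')).inv_right.eq
      have c2 := (Z.comm _ (memT x) _ (memT p)).eq
      have : T x = Bw T x p' * (Bw T x p)⁻¹ := eq_mul_inv_of_mul_eq (hLk x p hp).symm
      rw [this, Bw, Bw]
      simp only [_root_.mul_inv_rev, inv_inv]
      calc T (x + p') * (T x)⁻¹ * (T p')⁻¹ * (T p * (T x * (T (x + p))⁻¹))
          = T (x + p') * (T x)⁻¹ * (T p')⁻¹ * (T p * T x) * (T (x + p))⁻¹ := by group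
        _ = T (x + p') * (T x)⁻¹ * ((T p')⁻¹ * T x) * T p * (T (x + p))⁻¹ := by rw [← c2]; group
        _ = _ := by rw [← c1]; group
    rw [e]
    exact (((keyv _ i2).mul_right (keyv _ i1).inv_right).mul_right (keyv _ hp)).mul_right (keyv _ i3).inv_right
  -- the powers of the torus
  set l := nu hF om with hl
  have hl' : (l : F) = ω * σ ω := by rw [hl, nu_val, hom]
  have hn : ∀ i : ℕ, ∀ v, t ^ i * Φ v * (t ^ i)⁻¹ =
      Φ (((om : F) / σ (om : F)) ^ i • (tD hF ((om : F) ^ i) *ᵥ v)) := by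
    intro i
    induction i with
    | zero => intro v; simp [tD_one]
    | succ i ih =>
      intro v
      rw [pow_succ', show t * t ^ i * Φ v * (t * t ^ i)⁻¹ = t * (t ^ i * Φ v * (t ^ i)⁻¹) * t⁻¹ by group, ih, htΦ,
        map_smul, Lt_apply, smul_smul, Matrix.mulVec_mulVec, tD_mul, ← pow_succ, ← pow_succ']
  have hHΦ : ∀ v, H * Φ v * H⁻¹ = Φ (tD hF (l : F) *ᵥ v) := fun v => by
    rw [← htq, hn]
    have e1 : ((om : F) / σ (om : F)) ^ (q + 1) = 1 := by
      rw [pow_succ, ← qFrob_apply hF, map_div₀, qFrob_qFrob hF, hom]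
      field_simp
    have e2 : (om : F) ^ (q + 1) = (l : F) := by
      rw [hl', hom, pow_succ, ← qFrob_apply hF, mul_comm]
    rw [e1, e2, one_smul]
  have hHj : ∀ A, H * j A * H⁻¹ = j (tcj hF l A) := by
    have hn' : ∀ (i : ℕ) A, t ^ i * j A * (t ^ i)⁻¹ = j (tcj hF (om ^ i) A) := by
      intro i
      induction i with
      | zero =>
        intro A
        rw [pow_zero, pow_zero, one_mul, inv_one, mul_one]
        congr 1
        refine Subtype.ext ?_
        rw [tcj_val, Units.val_one, inv_one, tD_one, Matrix.one_mul, Matrix.mul_one]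
      | succ i ih =>
        intro A
        rw [pow_succ', show t * t ^ i * j A * (t * t ^ i)⁻¹ = t * (t ^ i * j A * (t ^ i)⁻¹) * t⁻¹ by group, ih, htj]
        congr 1
        refine Subtype.ext ?_
        simp only [tcj_val, pow_succ', Units.val_mul, mul_inv, Matrix.mul_assoc]
        rw [← Matrix.mul_assoc (tD hF (om : F)), tD_mul, tD_mul, mul_comm ((om : F)⁻¹) _]
    intro A
    rw [← htq, hn', show om ^ (q + 1) = l from Units.ext (by
      rw [Units.val_pow_eq_pow_val, hl', hom, pow_succ, ← qFrob_apply hF, mul_comm])]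
  have hHT : ∀ v, H * T v * H⁻¹ = T (tD hF (l : F) *ᵥ v) := fun v => by
    simp only [T, Tz, ← Matrix.mulVec_smul, ← hHΦ, commutatorElement_def]
    group
  -- additivity modulo the centre
  have normK : ∀ (g : G) (L : (Fin (0 + 2) → F) → Fin (0 + 2) → F), (∀ v, g * T v * g⁻¹ = T (L v)) →
      ∀ z ∈ K, g * z * g⁻¹ ∈ K := by
    intro g L hL z hz
    induction hz using Subgroup.closure_induction with
    | mem z hz =>
      obtain ⟨v, rfl⟩ := hz
      rw [hL]
      exact memT _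
    | one => rw [mul_one, mul_inv_cancel]; exact one_mem _
    | mul a b _ _ ha hb => rw [← conj_mul]; exact mul_mem ha hb
    | inv a _ ha => rw [← conj_inv]; exact inv_mem ha
  let P : (Fin (0 + 2) → F) → (Fin (0 + 2) → F) → Prop := fun x y => ∃ h ∈ K, Φ x * Φ y = Φ (x + y) * h
  have Pmv : ∀ (g : G) (L : (Fin (0 + 2) → F) → Fin (0 + 2) → F), (∀ x y, L (x + y) = L x + L y) →
      (∀ v, g * Φ v * g⁻¹ = Φ (L v)) → (∀ v, g * T v * g⁻¹ = T (L v)) → ∀ x y, P x y → P (L x) (L y) := by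
    rintro g L hadd hΦ hTL x y ⟨z, hz, e⟩
    refine ⟨g * z * g⁻¹, normK g L hTL z hz, ?_⟩
    rw [← hadd, ← hΦ, ← hΦ, ← hΦ]
    calc g * Φ x * g⁻¹ * (g * Φ y * g⁻¹) = g * (Φ x * Φ y) * g⁻¹ := by group
      _ = _ := by rw [e]; group
  have Pmv' : ∀ (g : SpecialLinearGroup (Fin (0 + 2)) F) x y, P x y → P (g.1 *ᵥ x) (g.1 *ᵥ y) := fun g x y h =>
    Pmv (j g) (fun v => g.1 *ᵥ v) (Matrix.mulVec_add g.1) (fun v => (hTj g v).symm) (fun v => (hTj' g v).symm) x y h
  let S : F → Prop := fun d => d ≠ 0 ∧ P f₀ (d • f₁)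
  have w1 : 1 + ω ≠ 0 := fun h => O.prim.not_real hF (by
    rw [show ω = -1 by linear_combination h, map_neg, map_one])
  have s1 : S 1 := ⟨one_ne_zero, by rw [one_smul]; exact ⟨_, memB _ _, hR1⟩⟩
  have sω : S ω := ⟨hω, ⟨_, memB _ _, hRω⟩⟩
  have s1ω : S (1 + ω) := ⟨w1, ⟨_, memB _ _, hR1ω⟩⟩
  have hrealS : ∀ s x : F, σ s = s → s ≠ 0 → S x → S (s * x) := by
    intro s x hs hs0 hx
    obtain ⟨i, rfl⟩ := O.prim.norm_gen hF hs hs0
    refine ⟨mul_ne_zero hs0 hx.1, ?_⟩
    clear hs hs0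
    induction i with
    | zero => rw [pow_zero, one_mul]; exact hx.2
    | succ i ih =>
      have e := Pmv H (fun v => tD hF (l : F) *ᵥ v) (Matrix.mulVec_add _) hHΦ hHT _ _ ih
      rw [tD_single, if_pos rfl, mul_one, Matrix.mulVec_smul, tD_single, if_neg (by simp), one_mul,
        show (Pi.single 0 (l : F) : Fin (0 + 2) → F) = (l : F) • f₀ by
          rw [← Pi.single_smul, smul_eq_mul, mul_one], ← one_smul F (((ω * σ ω) ^ i * x) • f₁)] at e
      have e' := dg_step (hF := hF) (R := P) Pmv' l.ne_zero e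
      rwa [mul_one, hl', ← mul_assoc, ← pow_succ'] at e'
  have detP : ∀ x y, det2 x y ≠ 0 → (P x y ↔ P f₀ (det2 x y • f₁)) := by
    intro x y hd
    have hi : Ind2 F x y := by
      refine ⟨fun e => hd (by simp [det2, e]), fun c e => hd ?_⟩
      simp only [det2, e, Pi.smul_apply, smul_eq_mul]
      ring
    obtain ⟨-, g, g0, g1⟩ := exists_move_two hi
    refine ⟨fun h => ?_, fun h => ?_⟩
    · have := Pmv' g⁻¹ _ _ h
      have e0 := congrArg (fun v => (g⁻¹).1 *ᵥ v) g0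
      have e1 := congrArg (fun v => (g⁻¹).1 *ᵥ v) g1
      simp only [inv_mulVec] at e0 e1
      rwa [← e0, ← e1] at this
    · have := Pmv' g _ _ h
      rwa [g0, g1] at this
  have h3 : ∀ x y z, S x → S y → S z → x + z - y ≠ 0 → S (x + z - y) := by
    rintro x y z ⟨x0, hx⟩ ⟨y0, hy⟩ ⟨z0, hz⟩ hne
    refine ⟨hne, ?_⟩
    set p : Fin (0 + 2) → F := Pi.single 1 x with hp
    set c : Fin (0 + 2) → F := ![-(y / x), z - y] with hc
    have d1 : det2 f₀ p = x := by simp [det2, hp]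
    have d2 : det2 p c = y := by simp [det2, hp, hc]; field_simp
    have d3 : det2 (f₀ + p) c = z := by simp [det2, hp, hc, x0]; field_simp; ring
    have d4 : det2 f₀ (p + c) = x + z - y := by simp [det2, hp, hc]; ring
    obtain ⟨h1, m1, e1⟩ := (detP _ _ (by rwa [d1])).2 (by rw [d1]; exact hx)
    obtain ⟨h2, m2, e2⟩ := (detP _ _ (by rwa [d3])).2 (by rw [d3]; exact hz)
    obtain ⟨h3, m3, e3⟩ := (detP _ _ (by rwa [d2])).2 (by rw [d2]; exact hy)
    rw [← d4]
    refine (detP _ _ (by rwa [d4])).1 ⟨h2 * (h1 * h3⁻¹), mul_mem m2 (mul_mem m1 (inv_mem m3)), ?_⟩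
    rw [show Φ (p + c) = Φ p * Φ c * h3⁻¹ from eq_mul_inv_of_mul_eq e3.symm, ← add_assoc]
    calc Φ f₀ * (Φ p * Φ c * h3⁻¹) = Φ f₀ * Φ p * Φ c * h3⁻¹ := by simp only [mul_assoc]
      _ = Φ (f₀ + p) * (h1 * Φ c) * h3⁻¹ := by rw [e1]; simp only [mul_assoc]
      _ = Φ (f₀ + p) * Φ c * (h1 * h3⁻¹) := by rw [(hcen h1 m1 c).eq]; simp only [mul_assoc]
      _ = _ := by rw [e2]; simp only [mul_assoc]
  have hind : ∀ v v', Ind2 F v v' → ∃ z ∈ K, Φ v * Φ v' = Φ (v + v') * z := fun v v' hvv => by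
    obtain ⟨g, d, hd, rfl, rfl, -⟩ := exists_pair_move hvv
    exact Pmv' g _ _ (delta_all hF hrealS (O.prim.not_real hF) h3 s1 sω s1ω hd).2
  have hadd := add_of_indep hT0 hcen (fun z hz z' hz' => Z.comm z hz z' hz') hdim hind
  obtain ⟨U, D, hΦU, hKU⟩ := udata_odd hπj HO O.μt O.μ0 Z hcen hadd
  have hwext : ∀ N, Commute w (j (extL N)) := fun N => by
    rw [ext_of_single rfl N, map_one, map_one]; exact Commute.one_right w
  have hD : ∀ v, j (dg om) * T v * (j (dg om))⁻¹ = T ((dg om : SpecialLinearGroup (Fin (0 + 2)) F).1 *ᵥ v) :=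
    fun v => (hTj' _ v).symm
  have hDwD : j (dg om) * w * (j (dg om))⁻¹ = H * w := by rw [hH]; group
  have tDf1 : ∀ x : F, (tD hF (l : F) : Matrix (Fin (0 + 2)) (Fin (0 + 2)) F) *ᵥ Pi.single 1 x = Pi.single 1 x := fun x => by
    rw [tD_single, if_neg (by simp), one_mul]
  refine odd_finish O hπj hπu hπw hgen hTw hTu D hΦU hπΦ hwext (fun v hv => ?_) (fun rr y hy e => ?_) hW1 htor
  · rw [show v = Pi.single 1 (v 1) from funext fun i => by fin_cases i <;> simp [hv], ← Pi.single_neg]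
    generalize v 1 = x
    rcases eq_or_ne x 0 with rfl | hx
    · rw [neg_zero, Pi.single_zero, hT0, mul_one, mul_inv_cancel]
    obtain ⟨i, hi⟩ := O.prim.gen x⁻¹ (inv_ne_zero hx)
    rw [← inv_inv x, hi, ← inv_pow]
    clear hi hx
    induction i with
    | zero => rw [pow_zero, Pi.single_neg]; exact hU1
    | succ i ih =>
      set s := ω⁻¹ ^ i
      have e := congrArg (fun g => j (dg om) * g * (j (dg om))⁻¹) ih
      have hs : ∀ x : F, (dg om : SpecialLinearGroup (Fin (0 + 2)) F).1 *ᵥ Pi.single 1 x = Pi.single 1 (ω⁻¹ * x) := fun x => by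
        rw [show Pi.single 1 x = x • f₁ by rw [← Pi.single_smul, smul_eq_mul, mul_one], Matrix.mulVec_smul,
          dg_e1 hF, ← Pi.single_smul, smul_eq_mul, hom, mul_comm]
      rw [show j (dg om) * (w * Φ (Pi.single 1 s) * w⁻¹) * (j (dg om))⁻¹ =
          j (dg om) * w * (j (dg om))⁻¹ * (j (dg om) * Φ (Pi.single 1 s) * (j (dg om))⁻¹) *
            (j (dg om) * w * (j (dg om))⁻¹)⁻¹ by group, hDwD, ← hTj, ← hTj, hs, hs] at e
      rw [pow_succ', ← mul_neg]
      calc w * Φ (Pi.single 1 (ω⁻¹ * s)) * w⁻¹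
          = H⁻¹ * (H * w * Φ (Pi.single 1 (ω⁻¹ * s)) * (H * w)⁻¹) * H := by group
        _ = H⁻¹ * Φ (Pi.single 1 (ω⁻¹ * -s)) * H := by rw [e]
        _ = _ := by
          conv_lhs => rw [← tDf1 (ω⁻¹ * -s), ← hHΦ]
          simp only [← mul_assoc, inv_mul_cancel, one_mul, inv_mul_cancel_right]
          rfl
  · -- the pairs with the first coordinate
    have memU : ∀ v v', Bw T v v' ∈ U := fun v v' => hKU (memB v v')
    have πB : ∀ v v', π (Bw T v v') = uH hF 0 (μ • hv hF v v') := fun v v' => by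
      rw [Bw_map]; exact piT hF O.μt hTπ v v'
    let A : AddSubgroup F :=
      { carrier := {x | w * Bw T f₀ (x • f₁) * w⁻¹ ∈ colJ j}
        zero_mem' := by
          rw [Set.mem_setOf_eq, zero_smul,
            show Bw T f₀ 0 = 1 by rw [Bw, add_zero, hT00, mul_inv_cancel, inv_one, mul_one], mul_one, mul_inv_cancel]
          exact one_mem _
        add_mem' := fun {s x} hs hx => by
          rw [Set.mem_setOf_eq]
          have : Bw T f₀ ((s + x) • f₁) = Bw T f₀ (s • f₁) * Bw T f₀ (x • f₁) := by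
            refine D.eq_of (memU _ _) (mul_mem (memU _ _) (memU _ _)) ?_
            rw [map_mul, πB, πB, πB, uH_skew_mul hF O.μt (hv_herm hF _ _) (hv_herm hF _ _)]
            congr 2
            ext a b
            simp only [hv, Matrix.add_apply, vecMulVec_apply, Pi.smul_apply, smul_eq_mul, map_mul, map_add]
            ring
          rw [this, show w * (Bw T f₀ (s • f₁) * Bw T f₀ (x • f₁)) * w⁻¹ =
            w * Bw T f₀ (s • f₁) * w⁻¹ * (w * Bw T f₀ (x • f₁) * w⁻¹) by group]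
          exact mul_mem hs hx
        neg_mem' := fun {x} hx => by
          rw [Set.mem_setOf_eq]
          have : Bw T f₀ ((-x) • f₁) = (Bw T f₀ (x • f₁))⁻¹ := by
            refine D.eq_of (memU _ _) (inv_mem (memU _ _)) ?_
            rw [map_inv, πB, πB]
            refine eq_inv_of_mul_eq_one_left ?_
            rw [uH_skew_mul hF O.μt (hv_herm hF _ _) (hv_herm hF _ _),
              show hv hF f₀ ((-x) • f₁) + hv hF f₀ (x • f₁) = 0 by
                ext a b
                simp only [hv, Matrix.add_apply, vecMulVec_apply, Pi.smul_apply, smul_eq_mul, map_mul, map_neg,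
                  Matrix.zero_apply]
                ring, smul_zero, uH_zero]
          rw [this, ← conj_inv]
          exact inv_mem hx }
    have hA : ∀ x, x ∈ A := by
      refine O.prim.mem_of_eps hF A ?_ fun x hx => ?_
      · show _ ∈ colJ j
        rw [one_smul, hY]
        exact mem_colJ.2 ⟨_, ⟨_, rfl⟩, rfl⟩
      obtain ⟨c, hc, ec⟩ := mem_colJ.1 hx
      have key : Bw T f₀ ((ω ^ (q - 1) * x) • f₁) = j (dg om) * Bw T f₀ (x • f₁) * (j (dg om))⁻¹ := by
        rw [← bw (Matrix.mulVecLin (dg om : SpecialLinearGroup (Fin (0 + 2)) F).1) (j (dg om)) hD]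
        simp only [Matrix.mulVecLin_apply, Matrix.mulVec_smul, dg_e0 hF, dg_e1 hF, hom]
        refine D.eq_of (memU _ _) (memU _ _) ?_
        rw [πB, πB]
        congr 2
        rw [show Pi.single 0 ω = ω • f₀ by rw [← Pi.single_smul, smul_eq_mul, mul_one], hv_swap, smul_smul,
          show Pi.single 1 ω⁻¹ = ω⁻¹ • f₁ by rw [← Pi.single_smul, smul_eq_mul, mul_one], smul_smul]
        congr 1
        rw [qFrob_apply, show q = q - 1 + 1 by have := two_le_q hF; omega, pow_succ, Nat.add_sub_cancel]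
        field_simp
      show _ ∈ colJ j
      have e2 : H * (w * Bw T f₀ ((ω ^ (q - 1) * x) • f₁) * w⁻¹) * H⁻¹ = j (dg om * c * (dg om)⁻¹) := by
        rw [map_mul, map_mul, map_inv, ← ec, key]
        calc H * (w * (j (dg om) * Bw T f₀ (x • f₁) * (j (dg om))⁻¹) * w⁻¹) * H⁻¹
            = H * w * (j (dg om) * Bw T f₀ (x • f₁) * (j (dg om))⁻¹) * (H * w)⁻¹ := by group
          _ = _ := by rw [← hDwD]; group
      obtain ⟨r', hr'⟩ := (dg_blk om).col_conj hc
      rw [← hr'] at e2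
      refine mem_colJ.2 ⟨colE fun i => r' i * (l : F), ⟨_, rfl⟩, (MulAut.conj H).injective ?_⟩
      rw [MulAut.conj_apply, MulAut.conj_apply, e2, hHj]
      congr 1
      refine Subtype.ext (SpnPres.ext_mulVec_single fun i => ?_)
      rw [tcj_val, colE_val, colE_val]
      ext p
      fin_cases i <;> fin_cases p <;>
        simp [tD, Matrix.mul_apply, Fin.sum_univ_two, vecMulVec_apply, Matrix.one_apply, Matrix.diagonal_apply]
    have hr : (Fin.cons 0 rr : Fin (0 + 2) → F) = rr 0 • f₁ := by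
      ext i; fin_cases i <;> simp
    rw [D.eq_of hy (memU f₀ (rr 0 • f₁)) (by rw [e, πB, hr])]
    exact hA (rr 0)

end Derive

end Cfsg.Agent.Lie.UnPres
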