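import Cfsg.Agent.Lib.Classical.SLGroup

/-!
A group generated by elements satisfying Steinberg-type relations of `SL₂(F)` maps isomorphically
to `SL₂(F)`: normal forms are separated by the image.
-/

set_option autoImplicit false
set_option linter.unusedSectionVars false

namespace Cfsg.Agent.Lie.Sl2Pres

open Matrix

variable {F : Type*} [Field F] [Fintype F]

/-- Upper unitriangular. -/
def slU (t : F) : SpecialLinearGroup (Fin 2) F := ⟨!![1, t; 0, 1], by simp [Matrix.det_fin_two]⟩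

/-- The Weyl element. -/
def slW : SpecialLinearGroup (Fin 2) F := ⟨!![0, 1; -1, 0], by simp [Matrix.det_fin_two]⟩

/-- Diagonal element. -/
def slH (s : Fˣ) : SpecialLinearGroup (Fin 2) F :=
  ⟨!![(s : F), 0; 0, ((s⁻¹ : Fˣ) : F)], by simp [Matrix.det_fin_two]⟩

theorem slU_add (x y : F) : slU (x + y) = slU x * slU y := by
  refine Subtype.ext ?_
  show _ = (slU x).val * (slU y).val
  simp [slU, add_comm]

theorem slH_mul (x y : Fˣ) : slH (x * y) = slH x * slH y := by
  refine Subtype.ext ?_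
  show _ = (slH x).val * (slH y).val
  simp [slH, mul_comm]

theorem slH_one : slH (1 : Fˣ) = 1 := by
  refine Subtype.ext ?_
  show _ = (1 : Matrix (Fin 2) (Fin 2) F)
  simp [slH, Matrix.one_fin_two]

theorem slH_pow (s : Fˣ) (n : ℕ) : slH s ^ n = slH (s ^ n) := by
  induction n with
  | zero => rw [pow_zero, pow_zero, slH_one]
  | succ n ih => rw [pow_succ, pow_succ, ih, slH_mul]

theorem slU_zero : slU (0 : F) = 1 := by
  refine Subtype.ext ?_
  show _ = (1 : Matrix (Fin 2) (Fin 2) F)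
  simp [slU, Matrix.one_fin_two]

theorem closure_slU_slW :
    Subgroup.closure (Set.range (slU : F → SpecialLinearGroup (Fin 2) F) ∪ {slW}) = ⊤ := by
  classical
  set K := Subgroup.closure (Set.range (slU : F → SpecialLinearGroup (Fin 2) F) ∪ {slW})
  have hU : ∀ t, slU t ∈ K := fun t => Subgroup.subset_closure (Or.inl ⟨t, rfl⟩)
  have hW : (slW : SpecialLinearGroup (Fin 2) F) ∈ K := Subgroup.subset_closure (Or.inr rfl)
  rw [eq_top_iff, ← Cfsg.Agent.Classical.SL_closure_transvections, Subgroup.closure_le]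
  rintro _ ⟨⟨i, j, hij, c⟩, rfl⟩
  fin_cases i <;> fin_cases j
  · exact absurd rfl hij
  · have e : TransvectionStruct.toSpecialLinearGroup (⟨(0 : Fin 2), 1, hij, c⟩ : TransvectionStruct (Fin 2) F) =
        slU c := by
      refine Subtype.ext ?_
      ext a b
      fin_cases a <;> fin_cases b <;>
        simp [TransvectionStruct.toSpecialLinearGroup, slU, SpecialLinearGroup.transvection_coe, Matrix.transvection, Matrix.single_apply]
    exact e.symm ▸ hU c
  · have e : TransvectionStruct.toSpecialLinearGroup (⟨(1 : Fin 2), 0, hij, c⟩ : TransvectionStruct (Fin 2) F) =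
        slW * slU (-c) * slW⁻¹ := by
      refine Subtype.ext ?_
      show _ = (slW : SpecialLinearGroup (Fin 2) F).val * (slU (-c)).val *
        (slW : SpecialLinearGroup (Fin 2) F).val.adjugate
      ext a b
      fin_cases a <;> fin_cases b <;>
        simp [TransvectionStruct.toSpecialLinearGroup, slU, slW, SpecialLinearGroup.transvection_coe,
          Matrix.transvection, Matrix.single_apply, SpecialLinearGroup.coe_inv, Matrix.adjugate_fin_two]
    exact e.symm ▸ K.mul_mem (K.mul_mem hW (hU (-c))) (K.inv_mem hW)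
  · exact absurd rfl hij

variable {G : Type*} [Group G]

/-- The relations, in the form needed for the normal form. -/
structure BruhatData (π : G →* SpecialLinearGroup (Fin 2) F) (u w h : G) (φ : F → G) (ω : Fˣ) : Prop where
  gen : Subgroup.closure ({u, w, h} : Set G) = ⊤
  add : ∀ x y, φ (x + y) = φ x * φ y
  one : φ 1 = u
  conjh : ∀ t, h * φ t * h⁻¹ = φ ((ω : F) ^ 2 * t)
  imU : ∀ t, π (φ t) = slU t
  imH : π h = slH ω
  imW : π w = slW
  gen_units : ∀ x : Fˣ, ∃ n : ℕ, x = ω ^ n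
  pow_eq : h ^ orderOf ω = 1
  inv : w * h * w⁻¹ = h⁻¹
  sq : ∃ k : ℕ, w * w = h ^ k
  bruhat1 : ∃ e : ℕ, w * φ 1 * w⁻¹ = φ (-1) * h ^ e * w * φ (-1)
  bruhat2 : (∃ e : ℕ, w * φ (ω : F) * w⁻¹ = φ (-(ω : F)⁻¹) * h ^ e * w * φ (-(ω : F)⁻¹)) ∨
    ∃ n : ℕ, ω = ω ^ (2 * n)

theorem BruhatData.bijective {π : G →* SpecialLinearGroup (Fin 2) F} {u w h : G} {φ : F → G} {ω : Fˣ}
    (d : BruhatData π u w h φ ω) : Function.Bijective π := by
  classical
  have hω : (ω : F) ≠ 0 := ω.ne_zero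
  have φ0 : φ 0 = 1 := by
    have := d.add 0 0
    rw [add_zero] at this
    exact left_eq_mul.1 this
  set N := orderOf ω with hN
  have hN0 : 0 < N := orderOf_pos ω
  have hmod : ∀ i, h ^ i = h ^ (i % N) := fun i => by
    conv_lhs => rw [← Nat.mod_add_div i N, pow_add, pow_mul, d.pow_eq, one_pow, mul_one]
  have hinvh : h⁻¹ = h ^ (N - 1) := by
    refine inv_eq_of_mul_eq_one_right ?_
    rw [← pow_succ', Nat.sub_add_cancel hN0, d.pow_eq]
  have conjhi : ∀ (i : ℕ) t, h ^ i * φ t = φ ((ω : F) ^ (2 * i) * t) * h ^ i := by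
    intro i
    induction i with
    | zero => intro t; simp
    | succ i ih =>
      intro t
      have e : φ ((ω : F) ^ (2 * (i + 1)) * t) = h * φ ((ω : F) ^ (2 * i) * t) * h⁻¹ := by
        rw [d.conjh, ← mul_assoc, ← pow_add, show 2 + 2 * i = 2 * (i + 1) by ring]
      rw [e, pow_succ', mul_assoc h, ih]
      group
  have pushl : ∀ (i : ℕ) c, φ c * h ^ i = h ^ i * φ (((ω : F) ^ (2 * i))⁻¹ * c) := fun i c => by
    rw [conjhi, ← mul_assoc, mul_inv_cancel₀ (pow_ne_zero _ hω), one_mul]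
  have wh : ∀ i : ℕ, w * h ^ i = h ^ ((N - 1) * i) * w := fun i => by
    rw [pow_mul, ← hinvh, ← d.inv, conj_pow, inv_mul_cancel_right]
  -- all Bruhat relations
  let P : F → Prop := fun t => ∃ e : ℕ, w * φ t * w⁻¹ = φ (-t⁻¹) * h ^ e * w * φ (-t⁻¹)
  have hstep : ∀ t, t ≠ 0 → P t → P (((ω : F) ^ 2)⁻¹ * t) := by
    rintro t ht ⟨e, he⟩
    refine ⟨e + 2, ?_⟩
    have h1 : h * (w * φ t * w⁻¹) * h⁻¹ = w * φ (((ω : F) ^ 2)⁻¹ * t) * w⁻¹ := by
      have hh : h * w = w * h⁻¹ := by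
        have := d.inv
        rw [mul_inv_eq_iff_eq_mul] at this
        calc h * w = h * (w * h) * h⁻¹ := by group
          _ = _ := by rw [this]; group
      have hh' : w⁻¹ * h⁻¹ = h * w⁻¹ := by
        have := congrArg (fun x => x⁻¹) hh
        simpa using this
      calc h * (w * φ t * w⁻¹) * h⁻¹ = (h * w) * φ t * (w⁻¹ * h⁻¹) := by group
        _ = w * (h⁻¹ * φ t * h) * w⁻¹ := by rw [hh, hh']; group
        _ = _ := by
          congr 2
          have := d.conjh (((ω : F) ^ 2)⁻¹ * t)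
          rw [← mul_assoc, mul_inv_cancel₀ (pow_ne_zero 2 hω), one_mul] at this
          rw [← this]; group
    rw [← h1, he]
    have e1 : -((((ω : F) ^ 2)⁻¹ * t))⁻¹ = (ω : F) ^ 2 * -t⁻¹ := by
      rw [mul_inv, inv_inv]; ring
    rw [e1, ← d.conjh]
    have hh : h * h * w = h * w * h⁻¹ := by
      have := d.inv
      rw [mul_inv_eq_iff_eq_mul] at this
      calc h * h * w = h * h * (w * h) * h⁻¹ := by group
        _ = _ := by rw [this]; group
    calc h * (φ (-t⁻¹) * h ^ e * w * φ (-t⁻¹)) * h⁻¹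
        = (h * φ (-t⁻¹) * h⁻¹) * h ^ e * (h * w * h⁻¹) * (h * φ (-t⁻¹) * h⁻¹) := by group
      _ = (h * φ (-t⁻¹) * h⁻¹) * h ^ e * (h * h * w) * (h * φ (-t⁻¹) * h⁻¹) := by rw [hh]
      _ = _ := by
        rw [show h ^ (e + 2) = h ^ e * (h * h) by rw [pow_add, pow_two]]
        group
  have hiter : ∀ (n : ℕ) t, t ≠ 0 → P t → P ((((ω : F) ^ 2)⁻¹) ^ n * t) := by
    intro n
    induction n with
    | zero => intro t _ h; simpa using h
    | succ n ih =>
      intro t ht h
      have := hstep _ (mul_ne_zero (pow_ne_zero _ (inv_ne_zero (pow_ne_zero 2 hω))) ht) (ih t ht h)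
      rwa [← mul_assoc, ← pow_succ'] at this
  have hsq : ∀ (m : ℕ) t, t ≠ 0 → P t → P ((ω : F) ^ (2 * m) * t) := by
    intro m t ht h
    have h1 := hiter ((N - 1) * m) t ht h
    rwa [show (((ω : F) ^ 2)⁻¹) ^ ((N - 1) * m) = (ω : F) ^ (2 * m) by
      rw [inv_pow]
      refine inv_eq_of_mul_eq_one_right ?_
      rw [← pow_mul, ← pow_add, show 2 * ((N - 1) * m) + 2 * m = N * (2 * m) by
          have := Nat.sub_add_cancel hN0
          nlinarith,
        pow_mul, ← Units.val_pow_eq_pow_val, pow_orderOf_eq_one, Units.val_one, one_pow]] at h1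
  have hP1 : P 1 := by
    obtain ⟨e, he⟩ := d.bruhat1
    exact ⟨e, by rwa [inv_one]⟩
  have hP : ∀ t : F, t ≠ 0 → P t := by
    intro t ht
    obtain ⟨n, hn⟩ := d.gen_units (Units.mk0 t ht)
    have htn : t = (ω : F) ^ n := by rw [← Units.val_pow_eq_pow_val, ← hn, Units.val_mk0]
    rcases d.bruhat2 with hb | ⟨k, hk⟩
    · rcases Nat.even_or_odd' n with ⟨m, rfl | rfl⟩
      · rw [htn, show (ω : F) ^ (2 * m) = (ω : F) ^ (2 * m) * 1 by rw [mul_one]]
        exact hsq m 1 one_ne_zero hP1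
      · rw [htn, pow_succ]
        exact hsq m _ hω hb
    · rw [htn, hk, Units.val_pow_eq_pow_val, ← pow_mul, mul_assoc]
      have := hsq (k * n) 1 one_ne_zero hP1
      rwa [mul_one] at this
  -- normal forms
  let S : Set G := {x | (∃ i a, x = h ^ i * φ a) ∨ ∃ i a b, x = h ^ i * φ a * w * φ b}
  have mulφ : ∀ c x, x ∈ S → φ c * x ∈ S := by
    rintro c _ (⟨i, a, rfl⟩ | ⟨i, a, b, rfl⟩)
    · exact Or.inl ⟨i, ((ω : F) ^ (2 * i))⁻¹ * c + a, by rw [d.add, ← mul_assoc, pushl, mul_assoc]⟩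
    · refine Or.inr ⟨i, ((ω : F) ^ (2 * i))⁻¹ * c + a, b, ?_⟩
      rw [d.add, ← mul_assoc, ← mul_assoc, ← mul_assoc, pushl, mul_assoc (h ^ i)]
  have mulh : ∀ x, x ∈ S → h * x ∈ S := by
    rintro _ (⟨i, a, rfl⟩ | ⟨i, a, b, rfl⟩)
    · exact Or.inl ⟨i + 1, a, by rw [pow_succ', mul_assoc]⟩
    · exact Or.inr ⟨i + 1, a, b, by rw [pow_succ']; group⟩
  have mulhn : ∀ (n : ℕ) x, x ∈ S → h ^ n * x ∈ S := by
    intro n
    induction n with
    | zero => intro x hx; simpa using hx
    | succ n ih => intro x hx; rw [pow_succ', mul_assoc]; exact mulh _ (ih x hx)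
  obtain ⟨k, hk⟩ := d.sq
  have mulw : ∀ x, x ∈ S → w * x ∈ S := by
    rintro _ (⟨i, a, rfl⟩ | ⟨i, a, b, rfl⟩)
    · exact Or.inr ⟨(N - 1) * i, 0, a, by rw [φ0, mul_one, ← mul_assoc, wh]⟩
    · rcases eq_or_ne a 0 with rfl | ha
      · refine Or.inl ⟨(N - 1) * i + k, b, ?_⟩
        rw [φ0, mul_one, ← mul_assoc, ← mul_assoc, wh, mul_assoc (h ^ ((N - 1) * i)) w, hk, pow_add]
      · obtain ⟨e, he⟩ := hP a ha
        have e1 : w * (h ^ i * φ a * w * φ b) =
            h ^ ((N - 1) * i) * (φ (-a⁻¹) * (h ^ (e + (N - 1) * k) *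
              φ 0 * w * φ (((ω : F) ^ (2 * k))⁻¹ * (-a⁻¹) + b))) := by
          calc w * (h ^ i * φ a * w * φ b) = (w * h ^ i) * ((w⁻¹ * (w * φ a * w⁻¹) * w) * w) * φ b := by
                group
            _ = h ^ ((N - 1) * i) * ((w * φ a * w⁻¹) * (w * w)) * φ b := by rw [wh]; group
            _ = h ^ ((N - 1) * i) * (φ (-a⁻¹) * h ^ e * w * (φ (-a⁻¹) * h ^ k)) * φ b := by
                rw [he, hk]; group
            _ = h ^ ((N - 1) * i) * (φ (-a⁻¹) * h ^ e * (w * h ^ k) *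
                (φ (((ω : F) ^ (2 * k))⁻¹ * (-a⁻¹)) * φ b)) := by rw [pushl k (-a⁻¹)]; group
            _ = _ := by rw [wh, pow_add, d.add, φ0]; group
        rw [e1]
        exact mulhn _ _ (mulφ _ _ (Or.inr ⟨_, _, _, rfl⟩))
  have hwinv : w⁻¹ = w * h ^ ((N - 1) * k) := by
    rw [pow_mul, ← hinvh, inv_pow, ← hk]
    group
  have hS : ∀ x : G, x ∈ S := by
    intro x
    have hx : x ∈ Subgroup.closure ({u, w, h} : Set G) := by rw [d.gen]; trivial
    induction hx using Subgroup.closure_induction_left with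
    | one => exact Or.inl ⟨0, 0, by rw [φ0, pow_zero, mul_one]⟩
    | mul_left x hx y _ ih =>
      rcases hx with rfl | rfl | rfl
      · rw [← d.one]; exact mulφ _ _ ih
      · exact mulw _ ih
      · exact mulh _ ih
    | inv_mul_cancel x hx y _ ih =>
      rcases hx with rfl | rfl | rfl
      · rw [← d.one, show (φ 1)⁻¹ = φ (-1) from inv_eq_of_mul_eq_one_right (by rw [← d.add, add_neg_cancel, φ0])]
        exact mulφ _ _ ih
      · rw [hwinv, mul_assoc]; exact mulw _ (mulhn _ _ ih)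
      · rw [hinvh]; exact mulhn _ _ ih
  refine ⟨(injective_iff_map_eq_one π).2 fun x hx => ?_, ?_⟩
  · rcases hS x with ⟨i, a, rfl⟩ | ⟨i, a, b, rfl⟩
    · rw [map_mul, map_pow, d.imU, d.imH, slH_pow] at hx
      have e : (slH (ω ^ i)).val * (slU a).val = 1 := congrArg Subtype.val hx
      have e00 : ((ω ^ i : Fˣ) : F) = 1 := by
        have h00 := congrFun (congrFun e 0) 0
        simpa [slH, slU] using h00
      have e01 : ((ω ^ i : Fˣ) : F) * a = 0 := by
        have h01 := congrFun (congrFun e 0) 1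
        simpa [slH, slU] using h01
      rw [e00, one_mul] at e01
      obtain ⟨q, rfl⟩ := orderOf_dvd_of_pow_eq_one (show ω ^ i = 1 from Units.ext e00)
      rw [e01, φ0, mul_one, ← hN, pow_mul, d.pow_eq, one_pow]
    · exfalso
      simp only [map_mul, map_pow, d.imU, d.imH, d.imW, slH_pow] at hx
      have e : (slH (ω ^ i)).val * (slU a).val * (slW : SpecialLinearGroup (Fin 2) F).val * (slU b).val = 1 :=
        congrArg Subtype.val hx
      have h10 := congrFun (congrFun e 1) 0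
      simp [slH, slU, slW] at h10
  · refine MonoidHom.range_eq_top.1 (eq_top_iff.2 ?_)
    rw [← closure_slU_slW, Subgroup.closure_le]
    rintro _ (⟨t, rfl⟩ | rfl)
    · exact ⟨φ t, d.imU t⟩
    · exact ⟨w, d.imW⟩

end Cfsg.Agent.Lie.Sl2Pres
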