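import Mathlib
import Cfsg.Agent.Lib.Lie.BNCoxeter

/-! The Weyl group of a (B,N)-pair of rank two. -/

set_option autoImplicit false

namespace Cfsg.Agent.Lie

variable {G : Type*} [Group G] (P : Cfsg.BNPair G)

theorem len_parity : ∀ l : List P.S, len P (wprod P l) % 2 = l.length % 2
  | [] => by simp [len_one]
  | s :: l => by
    have h1 := len_refl_mul_le P s (wprod P l)
    have h2 := len_le_refl_mul P s (wprod P l)
    have h3 := len_refl_mul_ne P s (wprod P l)
    have h4 := len_parity l
    rw [wprod_cons, List.length_cons]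
    omega

theorem alt_length {α : Type*} : ∀ (n : ℕ) (x y : α), (alt x y n).length = n
  | 0, _, _ => rfl
  | n + 1, x, y => by simp [alt, alt_length n]

theorem alt_append {α : Type*} : ∀ (i j : ℕ) (x y : α),
    alt x y (i + j) = alt x y i ++ (if Even i then alt x y j else alt y x j)
  | 0, j, x, y => by simp [alt]
  | i + 1, j, x, y => by
    rw [show i + 1 + j = i + j + 1 by omega]
    show x :: alt y x (i + j) = x :: alt y x i ++ _
    rw [alt_append i j y x, List.cons_append]
    by_cases h : Even i <;> simp [h, Nat.even_add_one]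

theorem wprod_alt (r s : P.S) : ∀ i : ℕ,
    wprod P (alt r s (2 * i)) = (refl P r * refl P s) ^ i ∧
      wprod P (alt r s (2 * i + 1)) = (refl P r * refl P s) ^ i * refl P r := by
  intro i
  induction i with
  | zero => simp [alt]
  | succ i ih =>
    have e : ∀ n, wprod P (alt r s (n + 2)) = refl P r * refl P s * wprod P (alt r s n) := by
      intro n
      simp [alt, mul_assoc]
    constructor
    · rw [show 2 * (i + 1) = 2 * i + 2 by ring, e, ih.1, pow_succ']
    · rw [show 2 * (i + 1) + 1 = 2 * i + 1 + 2 by ring, e, ih.2, pow_succ']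
      simp only [mul_assoc]

theorem wprod_alt_swap (r s : P.S) (i : ℕ) :
    wprod P (alt s r (2 * i)) = ((refl P r * refl P s)⁻¹) ^ i ∧
      wprod P (alt s r (2 * i + 1)) = ((refl P r * refl P s)⁻¹) ^ (i + 1) * refl P r := by
  obtain ⟨h1, h2⟩ := wprod_alt P s r i
  have e : (refl P r * refl P s)⁻¹ = refl P s * refl P r := by
    rw [mul_inv_rev, refl_inv, refl_inv]
  refine ⟨by rw [h1, e], ?_⟩
  rw [h2, e, pow_succ, mul_assoc, mul_assoc, refl_mul_self, mul_one]

variable {r s : P.S}

theorem reduced_alt (hS : ∀ x : P.S, x = r ∨ x = s) : ∀ l : List P.S,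
    len P (wprod P l) = l.length → l = alt r s l.length ∨ l = alt s r l.length
  | [], _ => Or.inl rfl
  | x :: l, h => by
    have h1 := len_le P l
    have h2 := len_refl_mul_le P x (wprod P l)
    simp only [wprod_cons, List.length_cons] at h
    have hl : len P (wprod P l) = l.length := by omega
    cases l with
    | nil => rcases hS x with rfl | rfl <;> simp [alt]
    | cons y k =>
      have hxy : x ≠ y := by
        rintro rfl
        rw [wprod_cons, refl_cancel] at h
        have := len_le P k
        simp only [List.length_cons] at h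
        omega
      rcases reduced_alt hS (y :: k) hl with e | e <;>
        simp only [List.length_cons, alt, List.cons.injEq] at e <;>
        obtain ⟨ey, ek⟩ := e <;> rcases hS x with rfl | rfl
      · exact absurd ey.symm hxy
      · right; subst ey; simp only [List.length_cons, alt]; rw [← ek]
      · left; subst ey; simp only [List.length_cons, alt]; rw [← ek]
      · exact absurd ey.symm hxy

variable [Finite G]

theorem order_pos (r s : P.S) : 0 < orderOf (refl P r * refl P s) := orderOf_pos _

theorem len_alt (hS : ∀ x : P.S, x = r ∨ x = s) (k : ℕ)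
    (hk : k ≤ orderOf (refl P r * refl P s)) : len P (wprod P (alt r s k)) = k := by
  set t := refl P r * refl P s with ht
  have hle := len_le P (alt r s k)
  rw [alt_length] at hle
  by_contra hne
  obtain ⟨l, hl, hw⟩ := exists_reduced P (wprod P (alt r s k))
  have hlk : l.length < k := by omega
  have hpar : l.length % 2 = k % 2 := by
    have := len_parity P (alt r s k)
    rw [alt_length, ← hl] at this
    exact this
  have hbad : ∀ d, 0 < d → d < orderOf t → t ^ d ≠ 1 := fun d h1 h2 =>
    pow_ne_one_of_lt_orderOf h1.ne' h2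
  rcases Nat.even_or_odd' k with ⟨i, rfl | rfl⟩
  · obtain ⟨i', hi'⟩ : ∃ i', l.length = 2 * i' := ⟨l.length / 2, by omega⟩
    rcases reduced_alt P hS l (by rw [hw, hl]) with e | e <;> rw [e, hi'] at hw
    · rw [(wprod_alt P r s i').1, (wprod_alt P r s i).1] at hw
      exact absurd (pow_injOn_Iio_orderOf (show i' < orderOf t by omega)
        (show i < orderOf t by omega) hw) (by omega)
    · rw [(wprod_alt_swap P r s i').1, (wprod_alt P r s i).1, ← ht, inv_pow,
        inv_eq_iff_mul_eq_one, ← pow_add] at hw
      exact hbad (i' + i) (by omega) (by omega) hw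
  · obtain ⟨i', hi'⟩ : ∃ i', l.length = 2 * i' + 1 := ⟨l.length / 2, by omega⟩
    rcases reduced_alt P hS l (by rw [hw, hl]) with e | e <;> rw [e, hi'] at hw
    · rw [(wprod_alt P r s i').2, (wprod_alt P r s i).2, mul_left_inj] at hw
      exact absurd (pow_injOn_Iio_orderOf (show i' < orderOf t by omega)
        (show i < orderOf t by omega) hw) (by omega)
    · rw [(wprod_alt_swap P r s i').2, (wprod_alt P r s i).2, mul_left_inj, ← ht, inv_pow,
        inv_eq_iff_mul_eq_one, ← pow_add] at hw
      exact hbad (i' + 1 + i) (by omega) (by omega) hw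

theorem order_comm (r s : P.S) :
    orderOf (refl P s * refl P r) = orderOf (refl P r * refl P s) := by
  rw [← orderOf_inv, mul_inv_rev, refl_inv, refl_inv]

theorem braid (r s : P.S) :
    wprod P (alt r s (orderOf (refl P r * refl P s))) =
      wprod P (alt s r (orderOf (refl P r * refl P s))) := by
  set t := refl P r * refl P s with ht
  rcases Nat.even_or_odd' (orderOf t) with ⟨i, e | e⟩ <;> rw [e]
  · rw [(wprod_alt P r s i).1, (wprod_alt_swap P r s i).1, ← ht, inv_pow,
      eq_inv_iff_mul_eq_one, ← pow_add, show i + i = orderOf t by omega, pow_orderOf_eq_one]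
  · rw [(wprod_alt P r s i).2, (wprod_alt_swap P r s i).2, mul_left_inj, ← ht, inv_pow,
      eq_inv_iff_mul_eq_one, ← pow_add, show i + (i + 1) = orderOf t by omega, pow_orderOf_eq_one]

theorem top_inv (r s : P.S) :
    (wprod P (alt r s (orderOf (refl P r * refl P s))))⁻¹ =
      wprod P (alt r s (orderOf (refl P r * refl P s))) := by
  set t := refl P r * refl P s with ht
  rcases Nat.even_or_odd' (orderOf t) with ⟨i, e | e⟩ <;> rw [e]
  · rw [(wprod_alt P r s i).1, ← ht, inv_eq_iff_mul_eq_one, ← pow_add,
      show i + i = orderOf t by omega, pow_orderOf_eq_one]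
  · have hb := braid P r s
    rw [← ht, e, (wprod_alt P r s i).2, (wprod_alt_swap P r s i).2] at hb
    rw [(wprod_alt P r s i).2, ← ht, mul_inv_rev, refl_inv]
    have h1 : t ^ i * refl P r = (t ^ (i + 1))⁻¹ * refl P r := by rw [hb, inv_pow]
    have h2 : refl P r * t * refl P r = t⁻¹ := by
      rw [ht, mul_inv_rev, refl_inv, refl_inv, ← mul_assoc, refl_mul_self, one_mul]
    have h3 : ∀ n : ℕ, refl P r * t ^ n * refl P r = (t⁻¹) ^ n := fun n => by
      have : refl P r * t ^ n * (refl P r)⁻¹ = (refl P r * t * (refl P r)⁻¹) ^ n := conj_pow.symm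
      rw [refl_inv] at this
      rw [this, h2]
    calc refl P r * (t ^ i)⁻¹ = refl P r * (t ^ i)⁻¹ * refl P r * refl P r := by
          rw [mul_assoc _ (refl P r), refl_mul_self, mul_one]
      _ = _ := by
          have h4 : refl P r * (t ^ i)⁻¹ * (refl P r)⁻¹ = (refl P r * t ^ i * (refl P r)⁻¹)⁻¹ :=
            conj_inv.symm
          rw [refl_inv] at h4
          rw [h4, h3, inv_pow, inv_inv]

theorem weyl_card (hS : ∀ x : P.S, x = r ∨ x = s) :
    Nat.card (Weyl P) = 2 * orderOf (refl P r * refl P s) := by
  set t := refl P r * refl P s with ht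
  have hrt : refl P r * t * refl P r = t⁻¹ := by
    rw [ht, mul_inv_rev, refl_inv, refl_inv, ← mul_assoc, refl_mul_self, one_mul]
  have hconj : ∀ z : ℤ, refl P r * t ^ z = t ^ (-z) * refl P r := by
    intro z
    have : refl P r * t ^ z * (refl P r)⁻¹ = (refl P r * t * (refl P r)⁻¹) ^ z := conj_zpow.symm
    rw [refl_inv, hrt, inv_zpow', ← refl_inv, mul_inv_eq_iff_eq_mul, refl_inv] at this
    exact this
  have hsurj : ∀ l : List P.S, ∃ z : ℤ, wprod P l = t ^ z ∨ wprod P l = t ^ z * refl P r := by
    intro l
    induction l with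
    | nil => exact ⟨0, Or.inl (by simp)⟩
    | cons x l ih =>
      obtain ⟨z, hz⟩ := ih
      have hs' : refl P s = t⁻¹ * refl P r := by
        rw [ht, mul_inv_rev, refl_inv, refl_inv, mul_assoc, refl_mul_self, mul_one]
      rcases hS x with rfl | rfl <;> rcases hz with hz | hz <;> rw [wprod_cons, hz]
      · exact ⟨-z, Or.inr (hconj z)⟩
      · exact ⟨-z, Or.inl (by rw [← mul_assoc, hconj, mul_assoc, refl_mul_self, mul_one])⟩
      · exact ⟨-1 + -z, Or.inr (by rw [hs', mul_assoc, hconj, ← mul_assoc, zpow_add, zpow_neg_one])⟩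
      · exact ⟨-1 + -z, Or.inl (by
          rw [hs', mul_assoc, ← mul_assoc (refl P r), hconj, mul_assoc (t ^ (-z)), refl_mul_self,
            mul_one, zpow_add, zpow_neg_one])⟩
  have hpos := order_pos P r s
  rw [← ht] at hpos
  let f : Fin (orderOf t) × Bool → Weyl P := fun a => if a.2 then t ^ a.1.1 * refl P r else t ^ a.1.1
  have hodd : ∀ i j : ℕ, t ^ i ≠ t ^ j * refl P r := by
    intro i j he
    have h1 := len_parity P (alt r s (2 * i))
    have h2 := len_parity P (alt r s (2 * j + 1))
    rw [(wprod_alt P r s i).1, alt_length, ← ht] at h1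
    rw [(wprod_alt P r s j).2, alt_length, ← ht, ← he] at h2
    omega
  have hf : Function.Bijective f := by
    refine ⟨fun ⟨i, a⟩ ⟨j, b⟩ h => ?_, fun w => ?_⟩
    · cases a <;> cases b <;> simp only [f] at h
      · exact Prod.ext (Fin.ext (pow_injOn_Iio_orderOf i.2 j.2 h)) rfl
      · exact absurd h (hodd _ _)
      · exact absurd h.symm (hodd _ _)
      · exact Prod.ext (Fin.ext (pow_injOn_Iio_orderOf i.2 j.2 (mul_right_cancel h))) rfl
    · obtain ⟨l, rfl⟩ := exists_word P w
      obtain ⟨z, hz⟩ := hsurj l
      obtain ⟨n, hn, e⟩ : ∃ n : ℕ, n < orderOf t ∧ t ^ n = t ^ z := by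
        refine ⟨(z % (orderOf t : ℤ)).toNat, ?_, ?_⟩
        · have := Int.emod_lt_of_pos z (by exact_mod_cast hpos : (0 : ℤ) < orderOf t)
          omega
        · rw [← zpow_natCast, Int.toNat_of_nonneg (Int.emod_nonneg _ (by omega)),
            zpow_mod_orderOf]
      rcases hz with hz | hz
      · exact ⟨(⟨n, hn⟩, false), by simp [f, e, hz]⟩
      · exact ⟨(⟨n, hn⟩, true), by simp [f, e, hz]⟩
  rw [← Nat.card_eq_of_bijective f hf, Nat.card_eq_fintype_card]
  simp [mul_comm]

end Cfsg.Agent.Lie
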