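import Mathlib

/-! A simple group with a subgroup of order 125 and an element of order eight normalising it without
fixing a line of its Frattini quotient has no proper subgroup of index less than 50. -/

set_option autoImplicit false

namespace Cfsg.Agent.Lie.SmallActionHeisenberg

open MulAction

/-- The local data. -/
structure Data (G : Type*) [Group G] where
  a : G
  b : G
  z : G
  t : G
  U : Subgroup G
  hzab : a * b * a⁻¹ * b⁻¹ = z
  haU : a ∈ U
  hbU : b ∈ U
  cardU : Nat.card U = 125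
  hz : z ≠ 1
  hz5 : z ^ 5 = 1
  hzc : ∀ u ∈ U, Commute u z
  ht : t ^ 8 = 1
  htU : ∀ u ∈ U, t * u * t⁻¹ ∈ U
  htz : t * z * t⁻¹ ∈ Subgroup.zpowers z
  hno : ∀ u ∈ U, u ∉ Subgroup.zpowers z → t * u * t⁻¹ ∉ Subgroup.zpowers u

variable {G : Type*} [Group G] [Finite G]

omit [Finite G] in
theorem dvd_125 {k : ℕ} (h : k ∣ 125) : k = 1 ∨ k = 5 ∨ k = 25 ∨ k = 125 := by
  obtain ⟨j, hj, rfl⟩ := (Nat.dvd_prime_pow (show Nat.Prime 5 by norm_num)).1
    (show k ∣ 5 ^ 3 by norm_num [h])
  interval_cases j <;> simp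

theorem fixed_of_pow_eight {X : Type*} [MulAction G X] {M : Set X} [Finite M] {t : G} (ht : t ^ 8 = 1)
    (hM : ∀ p ∈ M, t • p ∈ M) (hc : ¬ 2 ∣ Nat.card M) : ∃ p ∈ M, t • p = p := by
  classical
  haveI := Fact.mk Nat.prime_two
  let S : SubMulAction (Subgroup.zpowers t) X :=
    { carrier := M
      smul_mem' := by
        rintro ⟨g, hg⟩ p hp
        show g • p ∈ M
        have hfin : IsOfFinOrder t := isOfFinOrder_of_finite t
        rw [hfin.mem_zpowers_iff_mem_range_orderOf] at hg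
        obtain ⟨k, -, rfl⟩ := Finset.mem_image.1 hg
        clear hg hfin
        induction k with
        | zero => simpa using hp
        | succ k ih => rw [pow_succ', mul_smul]; exact hM _ ih }
  have hS : Finite S := ‹Finite M›
  have hp : IsPGroup 2 (Subgroup.zpowers t) := by
    intro g
    refine ⟨3, Subtype.ext ?_⟩
    obtain ⟨k, hk⟩ := Subgroup.mem_zpowers_iff.1 g.2
    rw [SubgroupClass.coe_pow, ← hk, ← zpow_natCast, ← zpow_mul, mul_comm, zpow_mul, zpow_natCast,
      show (2 : ℕ) ^ 3 = 8 by norm_num, ht, one_zpow]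
    rfl
  obtain ⟨p, hpp⟩ := hp.nonempty_fixed_point_of_prime_not_dvd_card S hc
  exact ⟨p.1, p.2, congrArg Subtype.val (hpp ⟨t, Subgroup.mem_zpowers t⟩)⟩

/-- The bound. -/
theorem index_ge [IsSimpleGroup G] (D : Data G) {H : Subgroup G} (hH : H ≠ ⊤) : 50 ≤ H.index := by
  classical
  haveI : Fact (Nat.Prime 5) := ⟨by norm_num⟩
  by_contra hlt
  push Not at hlt
  obtain ⟨M, hM⟩ : ∃ M : Set (G ⧸ H), M = {p | D.z • p ≠ p} := ⟨_, rfl⟩
  have hcX : Nat.card (G ⧸ H) < 50 := hlt
  have hMne : M.Nonempty := by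
    by_contra he
    have hker : D.z ∈ H.normalCore := by
      rw [Subgroup.normalCore_eq_ker, MonoidHom.mem_ker]
      refine Equiv.ext fun p => ?_
      show D.z • p = p
      by_contra hp
      exact he ⟨p, hM ▸ hp⟩
    rcases Subgroup.Normal.eq_bot_or_eq_top (H := H.normalCore) inferInstance with h | h
    · rw [h, Subgroup.mem_bot] at hker
      exact D.hz hker
    · exact hH (top_le_iff.1 (h ▸ Subgroup.normalCore_le H))
  have hmem : ∀ p, p ∈ M ↔ D.z • p ≠ p := fun p => by rw [hM]; rfl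
  have hU_M : ∀ u ∈ D.U, ∀ p ∈ M, u • p ∈ M := by
    intro u hu p hp
    rw [hmem] at hp ⊢
    rwa [smul_smul, ← (D.hzc u hu).eq, mul_smul, Ne, smul_left_cancel_iff]
  have ht_M : ∀ p ∈ M, D.t • p ∈ M := by
    intro p hp
    rw [hmem] at hp ⊢
    intro e
    apply hp
    have hfix : ∀ g ∈ Subgroup.zpowers D.z, g • (D.t • p) = D.t • p := fun g hg =>
      (Subgroup.zpowers_le.2 (show D.z ∈ stabilizer G (D.t • p) from e)) hg
    obtain ⟨c, hc⟩ : ∃ c, c = D.t * D.z * D.t⁻¹ := ⟨_, rfl⟩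
    have h1 : c • (D.t • p) = D.t • p := hfix c (hc ▸ D.htz)
    rwa [hc, smul_smul, inv_mul_cancel_right, mul_smul, smul_left_cancel_iff] at h1
  have horb : ∀ p ∈ M, 25 ≤ Nat.card (orbit D.U p) ∧
      Nat.card (orbit D.U p) * Nat.card (stabilizer D.U p) = 125 := by
    intro p hp
    have heq : Nat.card (orbit D.U p) * Nat.card (stabilizer D.U p) = 125 := by
      rw [← Nat.card_prod, Nat.card_congr (orbitProdStabilizerEquivGroup D.U p), D.cardU]
    refine ⟨?_, heq⟩
    by_contra hsmall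
    push Not at hsmall
    have hi : (stabilizer D.U p).index = Nat.card (orbit D.U p) := by
      rw [Subgroup.index, Nat.card_congr (orbitEquivQuotientStabilizer D.U p)]
    rcases dvd_125 ⟨_, heq.symm⟩ with h | h | h | h
    · rw [h, Subgroup.index_eq_one] at hi
      have h2 := (show D.z ∈ D.U from D.hzab ▸ mul_mem (mul_mem (mul_mem D.haU D.hbU)
        (inv_mem D.haU)) (inv_mem D.hbU))
      have h3 : (⟨D.z, h2⟩ : D.U) ∈ stabilizer D.U p := hi ▸ Subgroup.mem_top _
      exact (hmem p).1 hp h3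
    · -- index five
      haveI hnorm : (stabilizer D.U p).Normal := by
        refine Subgroup.normal_of_index_eq_minFac_card ?_
        rw [hi, h, D.cardU]
        norm_num
      have hcyc : IsCyclic (D.U ⧸ stabilizer D.U p) := by
        refine isCyclic_of_prime_card (p := 5) ?_
        rw [← Subgroup.index, hi, h]
      obtain ⟨g, hg⟩ := hcyc
      have hcomm : ∀ x y : D.U ⧸ stabilizer D.U p, x * y = y * x := fun x y => by
        obtain ⟨i, rfl⟩ := hg x
        obtain ⟨j, rfl⟩ := hg y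
        exact ((Commute.refl g).zpow_zpow i j).eq
      have h2 := hcomm ((⟨D.a, D.haU⟩ : D.U) : D.U ⧸ stabilizer D.U p)
        ((⟨D.b, D.hbU⟩ : D.U) : D.U ⧸ stabilizer D.U p)
      have h3 : (⟨D.a, D.haU⟩ * ⟨D.b, D.hbU⟩ * ⟨D.a, D.haU⟩⁻¹ * ⟨D.b, D.hbU⟩⁻¹ : D.U) ∈
          stabilizer D.U p := by
        rw [← QuotientGroup.eq_one_iff]
        rw [QuotientGroup.mk_mul, QuotientGroup.mk_mul, QuotientGroup.mk_mul, QuotientGroup.mk_inv,
          QuotientGroup.mk_inv, h2, mul_inv_cancel_right, mul_inv_cancel]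
      have h4 : (D.a * D.b * D.a⁻¹ * D.b⁻¹) • p = p := h3
      rw [D.hzab] at h4
      exact (hmem p).1 hp h4
    · omega
    · omega
  have hsub : ∀ p ∈ M, orbit D.U p ⊆ M := by
    rintro p hp _ ⟨u, rfl⟩
    exact hU_M u u.2 p hp
  obtain ⟨p₀, hp₀⟩ := hMne
  have hone : M = orbit D.U p₀ := by
    refine (Set.Subset.antisymm ?_ (hsub p₀ hp₀))
    intro q hq
    by_contra hne
    have hdis : Disjoint (orbit D.U p₀) (orbit D.U q) := by
      rw [Set.disjoint_iff]
      rintro x ⟨h1, h2⟩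
      apply hne
      rw [← orbit_eq_iff.2 h1, orbit_eq_iff.2 h2]
      exact mem_orbit_self q
    have h1 := (horb p₀ hp₀).1
    have h2 := (horb q hq).1
    rw [Nat.card_coe_set_eq] at h1 h2
    have h3 := Set.ncard_union_eq hdis (Set.toFinite _) (Set.toFinite _)
    have h4 := Set.ncard_le_card (orbit D.U p₀ ∪ orbit D.U q)
    omega
  have hM25 : Nat.card M = 25 := by
    have h1 := horb p₀ hp₀
    rw [← hone] at h1
    have h4 : Nat.card M ≤ Nat.card (G ⧸ H) :=
      Nat.card_le_card_of_injective (fun x : M => (x : G ⧸ H)) Subtype.val_injective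
    rcases dvd_125 ⟨_, h1.2.symm⟩ with h | h | h | h <;> omega
  obtain ⟨p, hp, htp⟩ := fixed_of_pow_eight D.ht ht_M (by rw [hM25]; norm_num)
  have hpp : orbit D.U p = M := by
    refine Set.Subset.antisymm (hsub p hp) ?_
    rw [hone] at hp ⊢
    rw [orbit_eq_iff.2 hp]
  have hK : Nat.card (stabilizer D.U p) = 5 := by
    have h1 := (horb p hp).2
    rw [hpp, hM25] at h1
    omega
  haveI : IsCyclic (stabilizer D.U p) := isCyclic_of_prime_card hK
  obtain ⟨⟨⟨h, hhU⟩, hhp⟩, hgen⟩ := IsCyclic.exists_generator (α := stabilizer D.U p)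
  have hne1 : h ≠ 1 := by
    rintro rfl
    have hbot : ∀ x : stabilizer D.U p, x = 1 := fun x => by
      obtain ⟨k, rfl⟩ := hgen x
      exact Subtype.ext (Subtype.ext (by simp))
    haveI : Subsingleton (stabilizer D.U p) := ⟨fun x y => by rw [hbot x, hbot y]⟩
    have := Finite.card_le_one_iff_subsingleton.2 ‹Subsingleton (stabilizer D.U p)›
    omega
  have hnz : h ∉ Subgroup.zpowers D.z := by
    intro hh
    obtain ⟨k, rfl⟩ := Subgroup.mem_zpowers_iff.1 hh
    have h5 : orderOf D.z = 5 := orderOf_eq_prime D.hz5 D.hz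
    have hle : Subgroup.zpowers (D.z ^ k) ≤ Subgroup.zpowers D.z :=
      Subgroup.zpowers_le.2 (Subgroup.zpow_mem_zpowers _ k)
    have hd := Subgroup.card_dvd_of_le hle
    rw [Nat.card_zpowers, Nat.card_zpowers, h5] at hd
    rcases (Nat.dvd_prime (show Nat.Prime 5 by norm_num)).1 hd with h1 | h1
    · exact hne1 (orderOf_eq_one_iff.1 h1)
    have heq : Subgroup.zpowers (D.z ^ k) = Subgroup.zpowers D.z :=
      Subgroup.eq_of_le_of_card_ge hle (by rw [Nat.card_zpowers, Nat.card_zpowers, h5, h1])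
    have hzp : Subgroup.zpowers (D.z ^ k) ≤ stabilizer G p := Subgroup.zpowers_le.2 hhp
    exact (hmem p).1 hp (hzp (heq ▸ Subgroup.mem_zpowers D.z))
  have hconj : D.t * h * D.t⁻¹ ∈ Subgroup.zpowers h := by
    have h1 : (⟨D.t * h * D.t⁻¹, D.htU h hhU⟩ : D.U) ∈ stabilizer D.U p := by
      show (D.t * h * D.t⁻¹) • p = p
      rw [mul_smul, mul_smul, show D.t⁻¹ • p = p from inv_smul_eq_iff.2 htp.symm,
        show h • p = p from hhp, htp]
    obtain ⟨k, hk⟩ := hgen ⟨_, h1⟩
    exact Subgroup.mem_zpowers_iff.2 ⟨k, congrArg (fun x : stabilizer D.U p => ((x : D.U) : G)) hk⟩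
  exact D.hno h hhU hnz hconj

end Cfsg.Agent.Lie.SmallActionHeisenberg
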