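import Cfsg.Agent.Lib.Lie.UThreeFiveChecks
import Cfsg.Agent.Lib.Lie.SmallActionHeisenberg
import Cfsg.Agent.Lib.Classical.UnitCenter
import Cfsg.Agent.Lib.Fus.UnitTransvection
import Cfsg.Agent.S0280

/-! The smallest index of a proper subgroup of `PSU₃(5)` is 50. -/

set_option autoImplicit false
set_option maxRecDepth 4000

namespace Cfsg.Agent.Lie.UThreeFive

open Cfsg Matrix Cfsg.Agent.Classical

/-! ### Generic lemmas -/

theorem mem_of_left {G : Type*} [Group G] [Finite G] {S : Set G} {g : G}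
    (hg : g ∈ Subgroup.closure S) {P : G → Prop} (h1 : P 1) (hmul : ∀ x ∈ S, ∀ y, P y → P (x * y)) :
    P g := by
  rw [← Subgroup.mem_toSubmonoid, Subgroup.closure_toSubmonoid_of_finite] at hg
  induction hg using Submonoid.closure_induction_left with
  | one => exact h1
  | mul_left x hx y _ ih => exact hmul x hx y ih

theorem card_closure_of_table {G : Type*} [Group G] [Finite G] {n : ℕ} (gens : Set G) (s : Fin n → G)
    (hinj : Function.Injective s) (h1 : ∃ i, s i = 1) (hmul : ∀ g ∈ gens, ∀ i, ∃ j, g * s i = s j)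
    (hmem : ∀ i, s i ∈ Subgroup.closure gens) :
    Nat.card (Subgroup.closure gens) = n ∧ ∀ g ∈ Subgroup.closure gens, ∃ i, s i = g := by
  have hsurj : ∀ g ∈ Subgroup.closure gens, ∃ i, s i = g := fun g hg =>
    mem_of_left (P := fun g => ∃ i, s i = g) hg h1 fun x hx y ⟨i, hi⟩ => by
      obtain ⟨j, hj⟩ := hmul x hx i
      exact ⟨j, by rw [← hj, hi]⟩
  refine ⟨?_, hsurj⟩
  have e : Nat.card (Fin n) = Nat.card (Subgroup.closure gens) :=
    Nat.card_congr (Equiv.ofBijective (fun i => ⟨s i, hmem i⟩)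
      ⟨fun i j h => hinj (congrArg Subtype.val h), fun g => by
        obtain ⟨i, hi⟩ := hsurj g.1 g.2
        exact ⟨i, Subtype.ext hi⟩⟩)
  rw [← e, Nat.card_fin]

/-! ### The coded field -/

variable {F : Type*} [Field F] [Fintype F]

/-- The value of a code. -/
def val (w : F) (x : ℕ) : F := ((x % 5 : ℕ) : F) + ((x / 5 : ℕ) : F) * w

/-- The hypotheses on the square root. -/
structure Root (w : F) : Prop where
  five : ((5 : ℕ) : F) = 0
  sq : w * w = 2

variable {w : F}

theorem Root.cast_mod (h : Root w) (n : ℕ) : ((n % 5 : ℕ) : F) = (n : F) := by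
  conv_rhs => rw [← Nat.div_add_mod n 5, Nat.cast_add, Nat.cast_mul, h.five, zero_mul, zero_add]

theorem div_five (a b : ℕ) (ha : a < 5) : (a + 5 * b) / 5 = b ∧ (a + 5 * b) % 5 = a := by omega

theorem Root.val_add (h : Root w) (x y : ℕ) : val w (eAdd x y) = val w x + val w y := by
  obtain ⟨h1, h2⟩ := div_five ((x % 5 + y % 5) % 5) ((x / 5 + y / 5) % 5) (Nat.mod_lt _ (by norm_num))
  rw [eAdd, val, h1, h2, h.cast_mod, h.cast_mod]
  simp only [val, Nat.cast_add]
  ring

theorem Root.val_mul (h : Root w) (x y : ℕ) : val w (eMul x y) = val w x * val w y := by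
  obtain ⟨h1, h2⟩ := div_five ((x % 5 * (y % 5) + 2 * (x / 5 * (y / 5))) % 5)
    ((x % 5 * (y / 5) + x / 5 * (y % 5)) % 5) (Nat.mod_lt _ (by norm_num))
  rw [eMul, val, h1, h2, h.cast_mod, h.cast_mod]
  simp only [val, Nat.cast_add, Nat.cast_mul, Nat.cast_ofNat]
  linear_combination -((x / 5 : ℕ) : F) * ((y / 5 : ℕ) : F) * h.sq

theorem val_zero : val w 0 = 0 := by simp [val]

theorem val_one : val w 1 = 1 := by simp [val]

theorem Root.val_neg (h : Root w) (x : ℕ) : val w (eNeg x) = -val w x := by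
  rw [eNeg, h.val_mul]
  have h4 : val w 4 = -1 := by
    have h5 := h.five
    push_cast at h5
    simp only [val, Nat.reduceMod, Nat.reduceDiv]
    push_cast
    linear_combination h5
  rw [h4, neg_one_mul]

theorem Root.val_inj (h : Root w) {x y : ℕ} (hx : x < 25) (hy : y < 25) (e : val w x = val w y) :
    x = y := by
  have h1 : ∀ x < 25, ∀ y < 25, eAdd x (eNeg y) = 0 ∨
      (List.range 25).any (fun c => eMul (eAdd x (eNeg y)) c == 1) = true := by decide +kernel
  have h2 : ∀ x < 25, ∀ y < 25, eAdd x (eNeg y) = 0 → x = y := by decide +kernel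
  rcases h1 x hx y hy with h0 | h0
  · exact h2 x hx y hy h0
  · obtain ⟨c, -, hc⟩ := List.any_eq_true.1 h0
    rw [beq_iff_eq] at hc
    have h3 : val w (eMul (eAdd x (eNeg y)) c) = 0 := by
      rw [h.val_mul, h.val_add, h.val_neg, e, add_neg_cancel, zero_mul]
    rw [hc, val_one] at h3
    exact absurd h3 one_ne_zero

theorem exists_root (hF : Fintype.card F = 25) : ∃ w : F, Root w := by
  haveI : Fact (Nat.Prime 5) := ⟨by norm_num⟩
  haveI : CharP F 5 := charP_of_card_eq_prime_pow (f := 2) (by rw [hF]; norm_num)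
  have h5 : ((5 : ℕ) : F) = 0 := CharP.cast_eq_zero F 5
  have hne : (2 : F) ≠ 0 := by
    intro e
    have : ((2 : ℕ) : F) = 0 := by exact_mod_cast e
    rw [CharP.cast_eq_zero_iff F 5] at this
    omega
  have hc : ringChar F ≠ 2 := by rw [ringChar.eq F 5]; norm_num
  obtain ⟨w, hw⟩ := (FiniteField.isSquare_iff hc hne).2 (by
    rw [hF, show (25 : ℕ) / 2 = 12 from rfl]
    have : ((4096 : ℕ) : F) = ((1 : ℕ) : F) := by
      rw [show (4096 : ℕ) = 1 + 5 * 819 from rfl, Nat.cast_add, Nat.cast_mul, h5, zero_mul, add_zero]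
    push_cast at this
    linear_combination this)
  exact ⟨w, h5, hw.symm⟩

/-- The matrix of a list. -/
def toM (w : F) (A : List ℕ) : Matrix (Fin 3) (Fin 3) F := Matrix.of fun i j => val w (ent A i j)

theorem Root.toM_mul (h : Root w) (A B : List ℕ) : toM w (mulL A B) = toM w A * toM w B := by
  ext i j
  fin_cases i <;> fin_cases j <;>
    simp [toM, mulL, ent, prodEnt, h.val_add, h.val_mul, Matrix.mul_apply, Fin.sum_univ_three]

theorem toM_one : toM w oneL = 1 := by
  ext i j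
  fin_cases i <;> fin_cases j <;> simp [toM, oneL, ent, val_one, val_zero]

theorem Root.toM_scal (h : Root w) (c : ℕ) (A : List ℕ) : toM w (scalL c A) = val w c • toM w A := by
  ext i j
  fin_cases i <;> fin_cases j <;> simp [toM, scalL, ent, h.val_mul]

theorem toM_trans (A : List ℕ) : toM w (transL A) = (toM w A)ᵀ := by
  ext i j
  fin_cases i <;> fin_cases j <;> simp [toM, transL, ent]

theorem Root.val_conj (h : Root w) [CharP F 5] (x : ℕ) : val w (eConj x) = val w x ^ 5 := by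
  haveI : Fact (Nat.Prime 5) := ⟨by norm_num⟩
  obtain ⟨h1, h2⟩ := div_five (x % 5) (4 * (x / 5) % 5) (Nat.mod_lt _ (by norm_num))
  have hcast : ∀ n : ℕ, (n : F) ^ 5 = n := fun n => by
    rw [← frobenius_def, map_natCast]
  rw [eConj, val, h1, h2, h.cast_mod, h.cast_mod, val, add_pow_char, mul_pow, hcast, hcast,
    h.cast_mod, show w ^ 5 = 4 * w by linear_combination (w * w * w + 2 * w) * h.sq]
  push_cast
  ring

theorem Root.toM_conj (h : Root w) [CharP F 5] (A : List ℕ) :
    toM w (conjL A) = (toM w A).map fun x => x ^ 5 := by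
  ext i j
  fin_cases i <;> fin_cases j <;> simp [toM, conjL, ent, h.val_conj]

theorem Root.toM_det (h : Root w) (A : List ℕ) : (toM w A).det = val w (detL A) := by
  rw [Matrix.det_fin_three]
  simp [toM, detL, h.val_add, h.val_mul, h.val_neg]
  ring

/-- Nine entries below 25. -/
def Valid (A : List ℕ) : Prop := A.length = 9 ∧ ∀ k < 9, A.getD k 0 < 25

theorem eAdd_lt (x y : ℕ) : eAdd x y < 25 := by unfold eAdd; omega

theorem eMul_lt (x y : ℕ) : eMul x y < 25 := by unfold eMul; omega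

theorem valid_mul (A B : List ℕ) : Valid (mulL A B) :=
  ⟨rfl, fun k hk => by interval_cases k <;> exact eAdd_lt _ _⟩

theorem valid_scal (c : ℕ) (A : List ℕ) : Valid (scalL c A) :=
  ⟨rfl, fun k hk => by interval_cases k <;> exact eMul_lt _ _⟩

theorem valid_eval : ∀ u : List ℕ, Valid (evalW u)
  | [] => ⟨rfl, by decide⟩
  | _ :: _ => valid_mul _ _

theorem Root.toM_inj (h : Root w) {A B : List ℕ} (hA : Valid A) (hB : Valid B)
    (e : toM w A = toM w B) : A = B := by
  refine List.ext_getElem (hA.1.trans hB.1.symm) fun k h1 h2 => ?_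
  have hk : k < 9 := hA.1 ▸ h1
  have e1 := congrFun (congrFun e ⟨k / 3, by omega⟩) ⟨k % 3, by omega⟩
  simp only [toM, Matrix.of_apply, ent, show 3 * (k / 3) + k % 3 = k by omega] at e1
  have e2 := h.val_inj (hA.2 k hk) (hB.2 k hk) e1
  rwa [List.getD_eq_getElem _ _ h1, List.getD_eq_getElem _ _ h2] at e2

/-! ### The group -/

/-- Evaluation of words in the projective group. -/
structure Model (w : F) where
  root : Root w
  hF : Fintype.card F = 5 ^ 2
  E : List ℕ → PSU 3 F 5
  E_append : ∀ u v, E (u ++ v) = E u * E v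
  E_nil : E [] = 1
  E_iff : ∀ u v, E u = E v ↔ projEq (evalW u) (evalW v) = true
  /-- lifts to the special unitary group -/
  S : List ℕ → SU 3 F 5
  S_val : ∀ u, suVal (S u) = toM w (evalW u)
  S_append : ∀ u v, S (u ++ v) = S u * S v
  E_eq : ∀ u, E u = suToPSU 3 F 5 (S u)

theorem exists_model (hF : Fintype.card F = 25) : ∃ w : F, Nonempty (Model w) := by
  classical
  obtain ⟨w, hw⟩ := exists_root hF
  haveI : Fact (Nat.Prime 5) := ⟨by norm_num⟩
  haveI : CharP F 5 := charP_of_card_eq_prime_pow (f := 2) (by rw [hF]; norm_num)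
  have hF' : Fintype.card F = 5 ^ 2 := by rw [hF]; norm_num
  have h := checkBasic_ok
  simp only [checkBasic, Bool.and_eq_true, List.all_eq_true, List.mem_range, beq_iff_eq,
    Nat.beq_eq] at h
  obtain ⟨⟨⟨⟨⟨⟨⟨⟨⟨hlen, hmat⟩, hom3⟩, hom⟩, -⟩, -⟩, -⟩, -⟩, -⟩, -⟩ := h
  have hsu : ∀ k, ∃ s : SU 3 F 5, suVal s = toM w (mat k) := by
    intro k
    by_cases hk : k < 6
    · obtain ⟨h1, h2⟩ := hmat k hk
      refine ⟨suMk hF' (toM w (mat k)) ?_ ?_, suVal_suMk hF' _ _ _⟩
      · rw [hw.toM_det, h2, val_one]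
      · have e := congrArg (toM w) h1
        rw [hw.toM_mul, toM_trans, toM_one, hw.toM_conj] at e
        exact e
    · refine ⟨1, ?_⟩
      rw [mat, List.getD_eq_default _ _ (by omega), toM_one]
      rfl
  choose g hg using hsu
  obtain ⟨S, hS⟩ : ∃ S : List ℕ → SU 3 F 5, S = fun u => (u.map g).prod := ⟨_, rfl⟩
  have hval : ∀ u, suVal (S u) = toM w (evalW u) := by
    intro u
    induction u with
    | nil => rw [hS, evalW, toM_one]; rfl
    | cons k u ih =>
      rw [evalW, hw.toM_mul, ← ih, hS]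
      show suVal ((k :: u).map g).prod = _
      rw [List.map_cons, List.prod_cons, suVal_mul, hg]
  have hroots : ∀ l : F, l ^ 3 = 1 → ∃ c ∈ roots3, val w c = l := by
    intro l hl
    have h3 := congrArg (val w) hom3
    have h0 := congrArg (val w) hom
    simp only [hw.val_mul, hw.val_add, val_one, val_zero] at h3 h0
    have : (l - 1) * (l - val w omega3) * (l - val w omega3 * val w omega3) = 0 := by
      linear_combination hl + (-l ^ 2 + l * val w omega3) * h0 - h3
    rcases mul_eq_zero.1 this with h' | h'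
    · rcases mul_eq_zero.1 h' with h'' | h''
      · exact ⟨1, by simp [roots3], by rw [val_one]; exact (sub_eq_zero.1 h'').symm⟩
      · exact ⟨omega3, by simp [roots3], (sub_eq_zero.1 h'').symm⟩
    · exact ⟨eMul omega3 omega3, by simp [roots3], by rw [hw.val_mul]; exact (sub_eq_zero.1 h').symm⟩
  refine ⟨w, ⟨{
    root := hw, hF := hF', E := fun u => suToPSU 3 F 5 (S u), E_append := fun u v => ?_
    E_nil := ?_, E_iff := fun u v => ?_, S := S, S_val := hval, S_append := fun u v => ?_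
    E_eq := fun u => rfl }⟩⟩
  · rw [hS]; simp
  · rw [hS]; simp
  · constructor
    · intro e
      obtain ⟨l, hl⟩ := (PSUAut.pi_eq_iff hF').1 e
      have hl3 : l ^ 3 = 1 := by
        have hd := congrArg Matrix.det hl
        rw [Matrix.det_smul, show (suVal (S v)).det = 1 from (S v).1.2,
          show (suVal (S u)).det = 1 from (S u).1.2, Fintype.card_fin, mul_one] at hd
        exact hd.symm
      obtain ⟨c, hc, hcl⟩ := hroots l hl3
      rw [hval, hval, ← hcl, ← hw.toM_scal] at hl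
      exact List.any_eq_true.2 ⟨c, hc, by
        rw [beq_iff_eq]; exact hw.toM_inj (valid_scal _ _) (valid_eval _) hl.symm⟩
    · intro e
      obtain ⟨c, -, hc⟩ := List.any_eq_true.1 e
      rw [beq_iff_eq] at hc
      refine (PSUAut.pi_eq_iff hF').2 ⟨val w c, ?_⟩
      rw [hval, hval, ← hw.toM_scal, hc]
  · rw [hS]; simp

namespace Model

variable (M : Model w)
include M

theorem E_pow (u : List ℕ) : ∀ n, M.E (powW u n) = M.E u ^ n
  | 0 => by rw [powW, List.replicate_zero, List.flatten_nil, M.E_nil, pow_zero]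
  | n + 1 => by
    rw [powW, List.replicate_succ, List.flatten_cons, M.E_append, ← powW, E_pow u n, pow_succ']

theorem E_cons (k : ℕ) (u : List ℕ) : M.E (k :: u) = M.E [k] * M.E u := M.E_append [k] u

theorem eq_of_eval {u v : List ℕ} (e : evalW u = evalW v) : M.E u = M.E v := by
  refine (M.E_iff u v).2 (List.any_eq_true.2 ⟨1, by simp [roots3], ?_⟩)
  rw [beq_iff_eq]
  refine M.root.toM_inj (valid_scal _ _) (valid_eval _) ?_
  rw [M.root.toM_scal, val_one, one_smul, e]

theorem toM_append : ∀ u v : List ℕ,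
    toM w (evalW (u ++ v)) = toM w (evalW u) * toM w (evalW v)
  | [], v => by rw [List.nil_append, evalW, toM_one, one_mul]
  | k :: u, v => by
    rw [List.cons_append, evalW, evalW, M.root.toM_mul, M.root.toM_mul, toM_append u v, mul_assoc]

theorem eq_of_toM {u v : List ℕ} (e : toM w (evalW u) = toM w (evalW v)) : M.E u = M.E v := by
  rw [M.E_eq, M.E_eq, suVal_ext (show suVal (M.S u) = suVal (M.S v) by rw [M.S_val, M.S_val, e])]

theorem E_mem (gs : List ℕ) : ∀ u : List ℕ, (∀ k ∈ u, k ∈ gs) →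
    M.E u ∈ Subgroup.closure {g | ∃ k ∈ gs, g = M.E [k]}
  | [], _ => M.E_nil ▸ one_mem _
  | k :: u, h => by
    rw [E_cons]
    exact mul_mem (Subgroup.subset_closure ⟨k, h k (by simp), rfl⟩)
      (E_mem gs u fun j hj => h j (by simp [hj]))

theorem inj_of_nodup : ∀ (L : List (List ℕ)), projNodup (L.map evalW) = true →
    ∀ i j, i < j → j < L.length → M.E (L.getD i []) ≠ M.E (L.getD j [])
  | [], _, _, _, _, h => by simp at h
  | A :: L, h, i, j, hij, hj => by
    simp only [List.map_cons, projNodup, Bool.and_eq_true, List.all_eq_true, List.mem_map,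
      Bool.not_eq_true', forall_exists_index, and_imp, forall_apply_eq_imp_iff₂] at h
    obtain ⟨j, rfl⟩ : ∃ j', j = j' + 1 := ⟨j - 1, by omega⟩
    have hj' : j < L.length := by simpa using hj
    rcases i with _ | i
    · intro e
      have h1 := (M.E_iff _ _).1 e
      simp only [List.getD_cons_zero, List.getD_cons_succ] at h1
      have := h.1 _ (List.getElem_mem hj')
      rw [List.getD_eq_getElem _ _ hj', this] at h1
      exact absurd h1 (by simp)
    · simp only [List.getD_cons_succ]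
      exact inj_of_nodup L h.2 i j (by omega) hj'

theorem inj_fin {n : ℕ} (L : List (List ℕ)) (hn : L.length = n) (h : projNodup (L.map evalW) = true) :
    Function.Injective fun i : Fin n => M.E (L.getD i.1 []) := by
  intro i j e
  rcases lt_trichotomy i.1 j.1 with hl | hl | hl
  · exact absurd e (M.inj_of_nodup L h _ _ hl (hn ▸ j.2))
  · exact Fin.ext hl
  · exact absurd e.symm (M.inj_of_nodup L h _ _ hl (hn ▸ i.2))

theorem table_dvd {ws tab : List (List ℕ)} {n : ℕ} (h : checkTable ws tab n = true) (hn : 0 < n) :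
    n ∣ Nat.card (Subgroup.closure {g | ∃ k ∈ [3, 4], g = M.E [k]}) := by
  simp only [checkTable, Bool.and_eq_true, Nat.beq_eq, beq_iff_eq, List.all_eq_true, List.mem_range,
    Bool.or_eq_true, Nat.blt_eq] at h
  obtain ⟨⟨⟨hlen, h0⟩, htab⟩, hnd⟩ := h
  have hinj := M.inj_fin ws hlen hnd
  have h1 : ws.getD 0 [] = [] := by
    rw [List.getD_eq_getElem _ _ (by omega)] at h0 ⊢
    exact h0
  obtain ⟨hc, -⟩ := card_closure_of_table (Set.range fun i : Fin n => M.E (ws.getD i.1 []))
    _ hinj ⟨⟨0, hn⟩, by rw [h1, M.E_nil]⟩ (by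
      rintro g ⟨i, rfl⟩ j
      obtain ⟨hlt, he⟩ := (htab i.1 i.2).2 j.1 j.2
      exact ⟨⟨_, hlt⟩, by rw [← M.E_append]; exact (M.E_iff _ _).2 he⟩)
    (fun i => Subgroup.subset_closure ⟨i, rfl⟩)
  rw [← hc]
  refine Subgroup.card_dvd_of_le ((Subgroup.closure_le _).2 ?_)
  rintro g ⟨i, rfl⟩
  refine M.E_mem [3, 4] _ fun k hk => ?_
  rcases (htab i.1 i.2).1 k hk with e | e <;> simp [e]

theorem order_dvd {u : List ℕ} {p : ℕ} (hp : p.Prime) (hu : ∀ k ∈ u, k = 3 ∨ k = 4)
    (h1 : evalW (powW u p) = scalL (ent (evalW (powW u p)) 0 0) oneL)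
    (hne : projEq (evalW u) oneL = false) :
    p ∣ Nat.card (Subgroup.closure {g | ∃ k ∈ [3, 4], g = M.E [k]}) := by
  haveI := Fact.mk hp
  have hE : M.E u ≠ 1 := fun e => by
    rw [← M.E_nil] at e
    have := (M.E_iff _ _).1 e
    rw [show evalW [] = oneL from rfl, hne] at this
    exact absurd this (by simp)
  have hpow : M.E u ^ p = 1 := by
    rw [← E_pow, M.E_eq, PSUAut.pi_eq_one_iff M.hF]
    exact ⟨_, by rw [M.S_val, h1, M.root.toM_scal, toM_one]⟩
  rw [← orderOf_eq_prime hpow hE]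
  exact Subgroup.orderOf_dvd_natCard _ (M.E_mem [3, 4] u fun k hk => by
    rcases hu k hk with e | e <;> simp [e])

theorem exists_data : Nonempty (SmallActionHeisenberg.Data (PSU 3 F 5)) := by
  have h := checkU_ok
  simp only [checkU, Bool.and_eq_true, Nat.beq_eq, beq_iff_eq, List.all_eq_true, List.mem_range,
    Nat.blt_eq, Bool.not_eq_true'] at h
  obtain ⟨⟨⟨⟨⟨⟨⟨⟨⟨⟨⟨⟨⟨⟨⟨⟨hlen, h0⟩, hmats⟩, hlt⟩, htab⟩, hnd⟩, hc⟩, hzk⟩, hz5⟩, hzab⟩, ha5⟩, hb5⟩,
    ht8⟩, hconj⟩, hcz⟩, hno⟩, hpow5⟩ := h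
  rw [← hmats] at hnd
  have hval : ∀ i < 125, uMats.getD i [] = evalW (uWords.getD i []) := fun i hi => by
    rw [← hmats, List.getD_eq_getElem _ _ (by rw [List.length_map]; omega),
      List.getD_eq_getElem _ _ (by omega), List.getElem_map]
  have hone : ∀ k, evalW [k] = evalW [k] := fun _ => rfl
  have hgen : ∀ g i, i < 125 → mulL (mat g) (uMats.getD i []) = evalW (g :: uWords.getD i []) :=
    fun g i hi => by rw [hval i hi, evalW]
  have hinj := M.inj_fin uWords hlen hnd
  obtain ⟨U, hU⟩ : ∃ U, U = Subgroup.closure {g | ∃ k ∈ [0, 1], g = M.E [k]} := ⟨_, rfl⟩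
  obtain ⟨hcard, hsurj⟩ := card_closure_of_table {g | ∃ k ∈ [0, 1], g = M.E [k]}
    (fun i : Fin 125 => M.E (uWords.getD i.1 [])) hinj
    ⟨⟨0, by norm_num⟩, by
      have : uWords.getD 0 [] = [] := by rw [List.getD_eq_getElem _ _ (by omega)] at h0 ⊢; exact h0
      rw [this, M.E_nil]⟩ (by
      rintro g ⟨k, hk, rfl⟩ i
      have hk2 : k < 2 := by simp at hk; omega
      obtain ⟨h1, h2⟩ := htab k hk2 i.1 i.2
      refine ⟨⟨_, h1⟩, ?_⟩
      rw [← E_cons]
      refine M.eq_of_eval ?_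
      rw [← hgen _ _ i.2, h2, hval _ h1])
    (fun i => M.E_mem [0, 1] _ fun k hk => by
      have := hlt i.1 i.2 k hk
      simp; omega)
  rw [← hU] at hcard hsurj
  obtain ⟨z, hzdef⟩ : ∃ z, z = M.E (uWords.getD 1 []) := ⟨_, rfl⟩
  have hzpow : ∀ k < 5, M.E (uWords.getD k []) = z ^ k := fun k hk => by
    rw [hzk k hk, M.E_pow, hzdef]
  have hz55 : z ^ 5 = 1 := by
    rw [hzdef, ← M.E_pow, ← M.E_nil]
    exact M.eq_of_eval hz5
  have ha : M.E [0] ∈ U := hU ▸ Subgroup.subset_closure ⟨0, by simp, rfl⟩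
  have hb : M.E [1] ∈ U := hU ▸ Subgroup.subset_closure ⟨1, by simp, rfl⟩
  have hinv : ∀ k (n : ℕ), evalW (List.replicate (n + 1) k) = oneL →
      (M.E [k])⁻¹ = M.E (List.replicate n k) := by
    intro k n e
    refine inv_eq_of_mul_eq_one_right ?_
    rw [← E_cons, ← M.E_nil]
    exact M.eq_of_eval e
  have ht7 : M.E [2, 2, 2, 2, 2, 2, 2] = (M.E [2])⁻¹ := (hinv 2 7 ht8).symm
  refine ⟨{
    a := M.E [0], b := M.E [1], z := z, t := M.E [2], U := U
    hzab := ?_, haU := ha, hbU := hb, cardU := hcard, hz := ?_, hz5 := hz55, hzc := ?_, ht := ?_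
    htU := ?_, htz := ?_, hno := ?_ }⟩
  · rw [hinv 0 4 ha5, hinv 1 4 hb5, hzdef, ← M.E_append, ← M.E_append, ← M.E_append]
    refine M.eq_of_eval ?_
    rw [← hval 1 (by norm_num)]
    exact hzab
  · intro e
    have h01 := @hinj ⟨1, by norm_num⟩ ⟨0, by norm_num⟩
    simp only at h01
    rw [← hzdef, hzpow 0 (by norm_num), pow_zero] at h01
    exact absurd (h01 e) (by decide)
  · intro u hu
    rw [hU] at hu
    refine mem_of_left (P := fun y => Commute y z) hu (Commute.one_left _) ?_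
    rintro g ⟨k, hk, rfl⟩ y hy
    refine Commute.mul_left ?_ hy
    have hk2 : k < 2 := by simp at hk; omega
    have := hc k hk2
    rw [hgen _ _ (by norm_num), hval 1 (by norm_num)] at this
    show M.E [k] * z = z * M.E [k]
    rw [hzdef, ← M.E_append, ← M.E_append]
    refine M.eq_of_toM ?_
    rw [List.singleton_append, this, M.root.toM_mul, M.toM_append]
    simp only [evalW, M.root.toM_mul, toM_one, mul_one]
  · rw [← E_pow, ← M.E_nil]
    exact M.eq_of_eval ht8
  · intro u hu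
    obtain ⟨i, rfl⟩ := hsurj u hu
    obtain ⟨h1, h2⟩ := hconj i.1 i.2
    rw [hU, ← ht7, ← M.E_append, ← M.E_append]
    have : M.E ([2] ++ uWords.getD i.1 [] ++ [2, 2, 2, 2, 2, 2, 2]) =
        M.E (uWords.getD (uConj.getD i.1 0) []) := by
      refine M.eq_of_toM ?_
      rw [M.toM_append, M.toM_append,
        ← hval _ h1, ← h2, M.root.toM_mul, M.root.toM_mul, hval _ i.2]
      simp only [evalW, M.root.toM_mul, toM_one, mul_one]
    rw [this]
    exact M.E_mem [0, 1] _ fun k hk => by have := hlt _ h1 k hk; simp; omega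
  · obtain ⟨h1, h2⟩ := hconj 1 (by norm_num)
    have h3 : M.E [2] * z * (M.E [2])⁻¹ = M.E (uWords.getD (uConj.getD 1 0) []) := by
      rw [← ht7, hzdef, ← M.E_append, ← M.E_append]
      refine M.eq_of_toM ?_
      rw [M.toM_append, M.toM_append,
        ← hval _ h1, ← h2, M.root.toM_mul, M.root.toM_mul, hval 1 (by norm_num)]
      simp only [evalW, M.root.toM_mul, toM_one, mul_one]
    rw [h3, hzpow _ hcz]
    exact Subgroup.pow_mem _ (Subgroup.mem_zpowers z) _
  · intro u hu hnz hconj'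
    obtain ⟨i, rfl⟩ := hsurj u hu
    have hi5 : 5 ≤ i.1 := by
      by_contra hlt5
      apply hnz
      show M.E (uWords.getD i.1 []) ∈ _
      rw [hzpow _ (by omega)]
      exact Subgroup.pow_mem _ (Subgroup.mem_zpowers z) _
    obtain ⟨j, hj⟩ : ∃ j, i.1 = j + 5 := ⟨i.1 - 5, by omega⟩
    have hu5 : M.E (uWords.getD i.1 []) ^ 5 = 1 := by
      rw [hj, ← E_pow, ← M.E_nil]
      exact (M.E_iff _ _).2 (hpow5 j (by omega))
    obtain ⟨m, hm, em⟩ : ∃ m < 5, M.E (uWords.getD i.1 []) ^ m =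
        M.E [2] * M.E (uWords.getD i.1 []) * (M.E [2])⁻¹ := by
      obtain ⟨k, hk⟩ := Subgroup.mem_zpowers_iff.1 hconj'
      refine ⟨(k % 5).toNat, by omega, ?_⟩
      rw [← hk, ← zpow_natCast, Int.toNat_of_nonneg (Int.emod_nonneg _ (by norm_num))]
      exact_mod_cast (zpow_eq_zpow_emod' k hu5).symm
    obtain ⟨h1, h2⟩ := hconj i.1 i.2
    have h3 : M.E [2] * M.E (uWords.getD i.1 []) * (M.E [2])⁻¹ =
        M.E (uWords.getD (uConj.getD i.1 0) []) := by
      rw [← ht7, ← M.E_append, ← M.E_append]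
      refine M.eq_of_toM ?_
      rw [M.toM_append, M.toM_append,
        ← hval _ h1, ← h2, M.root.toM_mul, M.root.toM_mul, hval _ i.2]
      simp only [evalW, M.root.toM_mul, toM_one, mul_one]
    rw [h3, ← E_pow] at em
    have := (M.E_iff _ _).1 em.symm
    rw [hj] at this h1
    rw [← hval _ h1, hno j (by omega) m hm] at this
    exact absurd this (by simp)

omit M in
theorem testBit_bitsOf : ∀ (L : List ℕ) (c : ℕ), (bitsOf L).testBit c = true ↔ c ∈ L
  | [], c => by simp [bitsOf]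
  | d :: L, c => by
    rw [bitsOf, show Nat.lor (2 ^ d) (bitsOf L) = 2 ^ d ||| bitsOf L from rfl, Nat.testBit_or,
      Bool.or_eq_true, testBit_bitsOf L c, Nat.testBit_two_pow, decide_eq_true_iff, List.mem_cons,
      eq_comm]

/-- The vector of a code. -/
def vec (w : F) (c : ℕ) : Fin 3 → F := ![val w (c % 25), val w (c / 25 % 25), val w (c / 625)]

theorem app_vec (A : List ℕ) (c : ℕ) : toM w A *ᵥ vec w c = vec w (appCode A c) := by
  have hd : ∀ a b d : ℕ, a < 25 → b < 25 → (a + 25 * b + 625 * d) % 25 = a ∧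
      (a + 25 * b + 625 * d) / 25 % 25 = b ∧ (a + 25 * b + 625 * d) / 625 = d := by
    intros; omega
  rw [appCode]
  unfold vec
  obtain ⟨h1, h2, h3⟩ := hd _ _ (eAdd (eAdd (eMul (ent A 2 0) (c % 25)) (eMul (ent A 2 1) (c / 25 % 25)))
    (eMul (ent A 2 2) (c / 625))) (eAdd_lt (eAdd (eMul (ent A 0 0) (c % 25)) (eMul (ent A 0 1) (c / 25 % 25)))
    (eMul (ent A 0 2) (c / 625))) (eAdd_lt (eAdd (eMul (ent A 1 0) (c % 25)) (eMul (ent A 1 1) (c / 25 % 25)))
    (eMul (ent A 1 2) (c / 625)))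
  rw [h1, h2, h3]
  funext i
  fin_cases i <;>
    simp [toM, Matrix.mulVec, dotProduct, Fin.sum_univ_three, M.root.val_add, M.root.val_mul]

theorem proper : M.E [5] ∉ Subgroup.closure {g | ∃ k ∈ [3, 4], g = M.E [k]} := by
  have h := checkOrbit_ok
  simp only [checkOrbit, Bool.and_eq_true, Nat.beq_eq, List.all_eq_true, Nat.blt_eq,
    List.contains_iff_mem, Bool.not_eq_true'] at h
  obtain ⟨⟨⟨⟨⟨⟨hN, hlt⟩, hv0⟩, h3⟩, h4⟩, hs⟩, hout⟩ := h
  have hbit : ∀ c, Nat.testBit orbitBits c = true → c ∈ orbit := fun c hc =>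
    (testBit_bitsOf orbit c).1 (hN ▸ hc)
  intro hmem
  have hP : ∃ s : SU 3 F 5, suToPSU 3 F 5 s = M.E [5] ∧
      ∀ c ∈ orbit, ∃ d ∈ orbit, suVal s *ᵥ vec w c = vec w d := by
    refine mem_of_left (P := fun y => ∃ s : SU 3 F 5, suToPSU 3 F 5 s = y ∧
      ∀ c ∈ orbit, ∃ d ∈ orbit, suVal s *ᵥ vec w c = vec w d) hmem
      ⟨1, map_one _, fun c hc => ⟨c, hc, Matrix.one_mulVec _⟩⟩ ?_
    rintro g ⟨k, hk, rfl⟩ y ⟨s, rfl, hs'⟩
    refine ⟨M.S [k] * s, by rw [map_mul, M.E_eq], fun c hc => ?_⟩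
    obtain ⟨d, hd, e⟩ := hs' c hc
    have hk' : Nat.testBit orbitBits (appCode (mat k) d) = true := by
      simp only [List.mem_cons, List.not_mem_nil, or_false] at hk
      rcases hk with rfl | rfl
      · exact h3 d hd
      · exact h4 d hd
    refine ⟨_, hbit _ hk', ?_⟩
    rw [suVal_mul, ← Matrix.mulVec_mulVec, e, M.S_val]
    simp only [evalW, M.root.toM_mul, toM_one, mul_one, M.app_vec]
  obtain ⟨s, es, hs'⟩ := hP
  rw [M.E_eq] at es
  obtain ⟨l, hl⟩ := (PSUAut.pi_eq_iff M.hF).1 es.symm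
  have hl3 : l ^ 3 = 1 := by
    have hd := congrArg Matrix.det hl
    rw [Matrix.det_smul, show (suVal s).det = 1 from s.1.2,
      show (suVal (M.S [5])).det = 1 from (M.S [5]).1.2, Fintype.card_fin, mul_one] at hd
    exact hd.symm
  obtain ⟨d, hd, ed⟩ := hs' vec0 hv0
  have hb := checkBasic_ok
  simp only [checkBasic, Bool.and_eq_true, Nat.beq_eq] at hb
  have h0 := congrArg (val w) hb.1.1.1.1.1.1.2
  have h03 := congrArg (val w) hb.1.1.1.1.1.1.1.2
  simp only [M.root.val_mul, M.root.val_add, val_one, val_zero] at h03 h0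
  obtain ⟨c, hc, hcl⟩ : ∃ c ∈ roots3, val w c = l := by
    have : (l - 1) * (l - val w omega3) * (l - val w omega3 * val w omega3) = 0 := by
      linear_combination hl3 + (-l ^ 2 + l * val w omega3) * h0 - h03
    rcases mul_eq_zero.1 this with h' | h'
    · rcases mul_eq_zero.1 h' with h'' | h''
      · exact ⟨1, by simp [roots3], by rw [val_one]; exact (sub_eq_zero.1 h'').symm⟩
      · exact ⟨omega3, by simp [roots3], (sub_eq_zero.1 h'').symm⟩
    · exact ⟨eMul omega3 omega3, by simp [roots3],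
        by rw [M.root.val_mul]; exact (sub_eq_zero.1 h').symm⟩
  have hd2 := hbit _ (hs d hd c hc)
  have heq : vec w (appCode (mat 5) vec0) = vec w (appCode (scalL c oneL) d) := by
    rw [← M.app_vec, ← M.app_vec, M.root.toM_scal, toM_one, Matrix.smul_mulVec, Matrix.one_mulVec,
      hcl, ← ed, ← Matrix.smul_mulVec, ← hl, M.S_val]
    simp only [evalW, M.root.toM_mul, toM_one, mul_one]
  have hcode : appCode (mat 5) vec0 = appCode (scalL c oneL) d := by
    have hb' : ∀ A x, appCode A x < 15625 := fun A x => by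
      have := eAdd_lt (eAdd (eMul (ent A 0 0) (x % 25)) (eMul (ent A 0 1) (x / 25 % 25))) (eMul (ent A 0 2) (x / 625))
      have := eAdd_lt (eAdd (eMul (ent A 1 0) (x % 25)) (eMul (ent A 1 1) (x / 25 % 25))) (eMul (ent A 1 2) (x / 625))
      have := eAdd_lt (eAdd (eMul (ent A 2 0) (x % 25)) (eMul (ent A 2 1) (x / 25 % 25))) (eMul (ent A 2 2) (x / 625))
      unfold appCode
      omega
    have key : ∀ a b, a < 15625 → b < 15625 → vec w a = vec w b → a = b := by
      intro a b ha hb' e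
      have e0 := congrFun e 0
      have e1 := congrFun e 1
      have e2 := congrFun e 2
      simp only [vec, Matrix.cons_val_zero, Matrix.cons_val_one, Matrix.cons_val] at e0 e1 e2
      have := M.root.val_inj (Nat.mod_lt _ (by norm_num)) (Nat.mod_lt _ (by norm_num)) e0
      have := M.root.val_inj (Nat.mod_lt _ (by norm_num)) (Nat.mod_lt _ (by norm_num)) e1
      have := M.root.val_inj (show a / 625 < 25 by omega) (show b / 625 < 25 by omega) e2
      omega
    exact key _ _ (hb' _ _) (hb' _ _) heq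
  rw [← hcode] at hd2
  rw [hN] at hout
  exact absurd ((testBit_bitsOf orbit _).2 hd2) (by rw [hout]; simp)

end Model

/-- The theorem. -/
theorem min_index (hF : Fintype.card F = 25) :
    (∀ H : Subgroup (PSU 3 F 5), H ≠ ⊤ → 50 ≤ H.index) ∧ ∃ H : Subgroup (PSU 3 F 5), H.index = 50 := by
  classical
  have hF' : Fintype.card F = 5 ^ 2 := by rw [hF]; norm_num
  obtain ⟨w, ⟨M⟩⟩ := exists_model hF
  haveI : Finite (PSU 3 F 5) := inferInstance
  haveI : IsSimpleGroup (PSU 3 F 5) := Fus.UnitTv.isSimpleGroup_psu hF' le_rfl (by norm_num)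
  obtain ⟨D⟩ := M.exists_data
  have hge : ∀ H : Subgroup (PSU 3 F 5), H ≠ ⊤ → 50 ≤ H.index := fun H hH =>
    SmallActionHeisenberg.index_ge D hH
  refine ⟨hge, Subgroup.closure {g | ∃ k ∈ [3, 4], g = M.E [k]}, ?_⟩
  have hne : Subgroup.closure {g | ∃ k ∈ [3, 4], g = M.E [k]} ≠ ⊤ := fun e =>
    M.proper (e ▸ Subgroup.mem_top _)
  have h := checkBasic_ok
  simp only [checkBasic, Bool.and_eq_true, beq_iff_eq, Bool.not_eq_true', List.all_eq_true,
    Bool.or_eq_true, Nat.beq_eq] at h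
  obtain ⟨⟨⟨⟨⟨⟨-, h7⟩, n7⟩, h5⟩, n5⟩, w7⟩, w5⟩ := h
  have d7 := M.order_dvd (by norm_num : Nat.Prime 7) w7 h7 n7
  have d5 := M.order_dvd (by norm_num : Nat.Prime 5) w5 h5 n5
  have d8 := M.table_dvd table8_ok (by norm_num)
  have d9 := M.table_dvd table9_ok (by norm_num)
  have hi := hge _ hne
  have hcard := Subgroup.index_mul_card (Subgroup.closure {g | ∃ k ∈ [3, 4], g = M.E [k]})
  have hG : Nat.card (PSU 3 F 5) = 126000 := by
    have h := Cfsg.Agent.S0280.result hF' 3 (by norm_num)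
    simp only [Finset.prod_range_succ, Finset.prod_range_zero] at h
    norm_num [show Nat.gcd 3 6 = 3 from rfl] at h
    rw [Nat.card_eq_fintype_card]
    omega
  rw [hG] at hcard
  generalize Nat.card (Subgroup.closure {g | ∃ k ∈ [3, 4], g = M.E [k]}) = c at *
  generalize Subgroup.index (Subgroup.closure {g | ∃ k ∈ [3, 4], g = M.E [k]}) = i at *
  obtain ⟨e, rfl⟩ : 2520 ∣ c :=
    show 7 * 5 * 8 * 9 ∣ c from Nat.Coprime.mul_dvd_of_dvd_of_dvd (by norm_num)
      (Nat.Coprime.mul_dvd_of_dvd_of_dvd (by norm_num) (Nat.Coprime.mul_dvd_of_dvd_of_dvd (by norm_num) d7 d5) d8) d9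
  have : 0 < e := by rcases Nat.eq_zero_or_pos e with rfl | h' <;> simp_all
  have : i * e = 50 := by nlinarith
  nlinarith

end Cfsg.Agent.Lie.UThreeFive
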