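import Cfsg.Agent.Lib.Fus.UnitFrames

/-! A normal subgroup of `SU_n(q)` containing the transvections is the whole group. -/

set_option autoImplicit false
set_option linter.unusedSectionVars false

namespace Cfsg.Agent.Lie.RepDegSU

open Matrix Cfsg.Agent.Classical Cfsg.Agent.Classical.PSUAut Cfsg.Agent.Fus.UnitN

variable {F : Type*} [Field F] [Fintype F] {q n : ℕ}

local notation "V" => (Fin n → F)
local notation "Mn" => Matrix (Fin n) (Fin n) F
local notation "SUn" => SU n F q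
local notation "h" => hermForm n F q

variable (hF : Fintype.card F = q ^ 2)

local notation "cj" => qFrob hF

include hF

theorem cd_add {c d : F} (hc : c + cj c = 0) (hd : d + cj d = 0) : c + d + cj (c + d) = 0 := by
  rw [map_add]; linear_combination hc + hd

variable {N : Subgroup (SU n F q)} (hNn : N.Normal)
  (hN : ∀ (v : Fin n → F) (c : F) (H : EOK (q := q) v 0 c), eSU hF H ∈ N)

include hN in
/-- Membership does not depend on the third parameter. -/
theorem mem_of_mem {e w : V} {c c' : F} (H : EOK (q := q) e w c) (H' : EOK (q := q) e w c')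
    (hm : eSU hF H ∈ N) : eSU hF H' ∈ N := by
  have h1 := H.cc
  have h2 := H'.cc
  rw [cj_pow hF] at h1 h2
  have Hd : EOK (q := q) e 0 (c' - c) := eOK_transvection hF H.ee (by
    rw [map_sub]; linear_combination h2 - h1)
  have e1 : eSU hF H' = eSU hF Hd * eSU hF H := by
    rw [eSU_mul hF Hd H]
    exact eSU_congr hF _ _ (zero_add _).symm (by rw [h_zero_right hF]; ring)
  rw [e1]
  exact mul_mem (hN _ _ Hd) hm

include hNn hN in
/-- If `g` moves `w` to `w + z` then the element with parameter `z` lies in `N`. -/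
theorem mem_of_shift {e w z : V} {c c' c₁ : F} (H : EOK (q := q) e w c) (Hz : EOK (q := q) e z c')
    (H₁ : EOK (q := q) e (z + w) c₁) {g : SUn} (hg : g ∈ N) (heq : g * eSU hF H * g⁻¹ = eSU hF H₁) :
    eSU hF Hz ∈ N := by
  have h1 : eSU hF H₁ * (eSU hF H)⁻¹ ∈ N := by
    rw [← heq, mul_assoc, mul_assoc, ← mul_assoc (eSU hF H)]
    exact mul_mem hg (hNn.conj_mem _ (inv_mem hg) _)
  have h2 := H.cc
  have h3 := Hz.cc
  rw [cj_pow hF] at h2 h3
  obtain ⟨c₂, H₂⟩ : ∃ c₂, EOK (q := q) e (z + w) c₂ := ⟨_, Hz.mul hF H⟩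
  have h4 := H₁.cc
  have h5 := (Hz.mul hF H).cc
  rw [cj_pow hF] at h4 h5
  have Hd : EOK (q := q) e 0 (c₁ - (c' + c - h w z)) := eOK_transvection hF H.ee (by
    rw [map_sub]; linear_combination h4 - h5)
  have e1 : eSU hF H₁ = eSU hF Hd * (eSU hF Hz * eSU hF H) := by
    rw [eSU_mul hF Hz H, eSU_mul hF Hd (Hz.mul hF H)]
    exact eSU_congr hF _ _ (zero_add _).symm (by rw [h_zero_right hF]; ring)
  rw [e1, mul_assoc, mul_inv_cancel_right] at h1
  exact (Subgroup.mul_mem_cancel_left N (hN _ _ Hd)).1 h1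

theorem suVal_tv {v : V} {c : F} (H : EOK (q := q) v 0 c) (x : V) :
    suVal (eSU hF H) *ᵥ x = x + (c * h x v) • v := tv_apply' hF v c x

include hN in
theorem exists_torus (hq : 3 ≤ q) {e f : V} (P : IsPair (q := q) e f) :
    ∃ (a : F) (g : SUn), a ≠ 1 ∧ a ≠ 0 ∧ cj a = a ∧ g ∈ N ∧ suVal g *ᵥ e = a • e ∧
      ∀ x : V, h x e = 0 → h x f = 0 → suVal g *ᵥ x = x := by
  obtain ⟨x, hx⟩ : ∃ x : Fˣ, (x ^ (q + 1)) ≠ 1 := by
    obtain ⟨g, hg⟩ := IsCyclic.exists_generator (α := Fˣ)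
    refine ⟨g, fun e => ?_⟩
    have h2 := orderOf_dvd_of_pow_eq_one e
    rw [orderOf_eq_card_of_forall_mem_zpowers hg, Nat.card_units, Nat.card_eq_fintype_card, hF] at h2
    have h3 := Nat.le_of_dvd (by omega) h2
    have h4 : 3 * q ≤ q ^ 2 := by rw [sq]; exact Nat.mul_le_mul_right q hq
    omega
  set a : F := (x : F) ^ (q + 1) with ha_def
  have ha1 : a ≠ 1 := fun e => hx (Units.ext (by rw [Units.val_pow_eq_pow_val, Units.val_one]; exact e))
  have ha0 : a ≠ 0 := pow_ne_zero _ x.ne_zero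
  have haa : cj a = a := by
    rw [ha_def, map_pow, ← cj_pow hF (x : F), ← pow_mul, mul_comm, pow_mul]
    rw [pow_succ (x : F) q, mul_pow]
    have : ((x : F) ^ q) ^ q = x := by rw [cj_pow hF, cj_pow hF, cj_cj]
    rw [this]
    ring
  obtain ⟨t, ht0, ht⟩ := exists_trace_zero hF
  have htr : ∀ b : F, cj b = b → (b * t) + cj (b * t) = 0 ∧ (-(b * t)⁻¹) + cj (-(b * t)⁻¹) = 0 := by
    intro b hb
    have h1 : cj (b * t) = -(b * t) := by rw [map_mul, hb]; linear_combination b * ht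
    refine ⟨by rw [h1]; ring, ?_⟩
    rw [map_neg, map_inv₀, h1, inv_neg]
    ring
  have key : ∀ b : F, b ≠ 0 → cj b = b → ∃ g : SUn, g ∈ N ∧ suVal g *ᵥ e = (-(b * t)⁻¹) • f ∧
      suVal g *ᵥ f = (b * t) • e ∧ ∀ x : V, h x e = 0 → h x f = 0 → suVal g *ᵥ x = x := by
    intro b hb0 hb
    have H1 := eOK_transvection hF P.ee (htr b hb).1
    have H2 := eOK_transvection hF P.ff (htr b hb).2
    have hbt : b * t ≠ 0 := mul_ne_zero hb0 ht0
    refine ⟨eSU hF H1 * eSU hF H2 * eSU hF H1, mul_mem (mul_mem (hN _ _ H1) (hN _ _ H2)) (hN _ _ H1),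
      ?_, ?_, fun x hxe hxf => ?_⟩
    · rw [mulVec_mul, mulVec_mul, suVal_tv hF H1 e, P.ee, mul_zero, zero_smul, add_zero,
        suVal_tv hF H2, P.ef, mul_one, Matrix.mulVec_add, Matrix.mulVec_smul, suVal_tv hF H1 e, P.ee,
        suVal_tv hF H1 f, P.fe hF, mul_zero, zero_smul, add_zero, mul_one, smul_add, smul_smul,
        neg_mul, inv_mul_cancel₀ hbt]
      module
    · rw [mulVec_mul, mulVec_mul, suVal_tv hF H1 f, P.fe hF, mul_one, Matrix.mulVec_add,
        Matrix.mulVec_smul, suVal_tv hF H2 f, P.ff, suVal_tv hF H2 e, P.ef, mul_zero, zero_smul,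
        add_zero, mul_one, smul_add, smul_smul, mul_neg, mul_inv_cancel₀ hbt, neg_smul, one_smul,
        add_comm, add_assoc, neg_add_cancel, add_zero, Matrix.mulVec_smul, suVal_tv hF H1 e, P.ee,
        mul_zero, zero_smul, add_zero]
    · have hx1 : suVal (eSU hF H1) *ᵥ x = x := by rw [suVal_tv hF H1, hxe]; simp
      have hx2 : suVal (eSU hF H2) *ᵥ x = x := by rw [suVal_tv hF H2, hxf]; simp
      rw [mulVec_mul, mulVec_mul, hx1, hx2, hx1]
  obtain ⟨g₁, hg₁, h1e, h1f, h1x⟩ := key a ha0 haa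
  obtain ⟨g₂, hg₂, h2e, h2f, h2x⟩ := key (-1) (by simp) (by simp)
  refine ⟨a, g₁ * g₂, ha1, ha0, haa, mul_mem hg₁ hg₂, ?_, fun x hxe hxf => ?_⟩
  · rw [mulVec_mul, h2e, Matrix.mulVec_smul, h1f, smul_smul]
    congr 1
    field_simp
  · rw [mulVec_mul, h2x x hxe hxf, h1x x hxe hxf]

theorem exists_iso_wSub (hn : 4 ≤ n) {e f : V} (P : IsPair (q := q) e f) :
    ∃ z ∈ wSub q e f, z ≠ 0 ∧ h z z = 0 := by
  classical
  rcases wSub_dichotomy hF (e := e) (f := f) with h1 | h1
  · exact h1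
  exfalso
  obtain ⟨x, hx⟩ : ∃ x : V, ∀ y ∈ wSub q e f, y ∈ Submodule.span F ({x} : Set V) := by
    by_cases hne : ∃ x ∈ wSub q e f, x ≠ 0
    · obtain ⟨x, hx, hx0⟩ := hne
      refine ⟨x, fun y hy => ?_⟩
      obtain ⟨a, ha⟩ := h1 x hx hx0 y hy
      exact Submodule.mem_span_singleton.2 ⟨a, ha.symm⟩
    · push Not at hne
      exact ⟨0, fun y hy => by rw [hne y hy]; exact Submodule.zero_mem _⟩
  have htop : (⊤ : Submodule F V) ≤ Submodule.span F ((({e, f, x} : Finset V) : Set V)) := by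
    intro v _
    have hx' := Submodule.span_mono (show ({x} : Set V) ⊆ (({e, f, x} : Finset V) : Set V) by simp)
      (hx _ (wPart_mem hF P v))
    rw [wPart_eq (q := q) e f v]
    exact Submodule.add_mem _ (Submodule.add_mem _ (Submodule.smul_mem _ _ (Submodule.subset_span (by simp)))
      (Submodule.smul_mem _ _ (Submodule.subset_span (by simp)))) hx'
  have h2 := (Submodule.finrank_mono htop).trans (finrank_span_finset_le_card _)
  rw [finrank_top, Module.finrank_fin_fun] at h2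
  have h3 := le_trans h2 Finset.card_le_three
  omega

include hNn hN in
/-- All Heisenberg elements lie in `N`. -/
theorem eSU_mem (hn : 3 ≤ n) (hnq : ¬ (n = 3 ∧ q = 2)) {e w : V} {c : F} (H : EOK (q := q) e w c) :
    eSU hF H ∈ N := by
  by_cases he0 : e = 0
  · have e1 : eSU hF H = 1 := suVal_ext (Matrix.ext_iff_mulVec.2 fun x => by
      rw [suVal_eSU, eMat_mulVec, he0, h_zero_right hF, suVal_one', Matrix.one_mulVec]
      simp)
    rw [e1]; exact one_mem _
  obtain ⟨f, P⟩ := exists_pair hF he0 H.ee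
  have hq2 := two_le_q hF
  let C : V → Prop := fun z => ∀ (c : F) (Hz : EOK (q := q) e z c), eSU hF Hz ∈ N
  have hC0 : ∀ {z : V}, z ∈ wSub q e f → ∃ c, EOK (q := q) e z c := fun hz => EOK.exists_c hF P.ee hz.1
  have hadd : ∀ x y, x ∈ wSub q e f → y ∈ wSub q e f → C x → C y → C (x + y) := by
    intro x y hx hy hCx hCy c Hc
    obtain ⟨cx, Hx⟩ := hC0 hx
    obtain ⟨cy, Hy⟩ := hC0 hy
    refine mem_of_mem hF hN (Hx.mul hF Hy) Hc ?_
    rw [← eSU_mul hF Hx Hy]
    exact mul_mem (hCx _ Hx) (hCy _ Hy)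
  have hall : ∀ z ∈ wSub q e f, C z := by
    rcases Nat.lt_or_ge q 3 with hq3 | hq3
    · -- `q = 2`, so `n ≥ 4`
      have hn4 : 4 ≤ n := by
        by_contra hcon
        exact hnq ⟨by omega, by omega⟩
      obtain ⟨z₀, hz₀, hz₀0, hz₀z⟩ := exists_iso_wSub hF hn4 P
      refine wSub_induction hF P hz₀ hz₀0 hz₀z (fun z hz hzz c Hc => ?_) hadd
      by_cases hz0 : z = 0
      · subst hz0
        exact hN _ _ Hc
      obtain ⟨t, ht0, ht⟩ := exists_trace_zero hF
      set z' := t⁻¹ • z with hz'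
      have hz'W : z' ∈ wSub q e f := Submodule.smul_mem _ _ hz
      have hz'0 : z' ≠ 0 := smul_ne_zero (inv_ne_zero ht0) hz0
      have hz'z : h z' z' = 0 := by rw [hz', h_smul_left, h_smul_right hF, hzz]; ring
      obtain ⟨y, hy, hyy, hzy⟩ := wSub_partner hF P hz'W hz'0 hz'z
      obtain ⟨cy, Hy⟩ := hC0 hy
      have Ht := eOK_transvection hF hz'z ht
      have hyz : h y z' = 1 := by rw [← cj_h hF, hzy, map_one]
      have hge : suVal (eSU hF Ht) *ᵥ e = e := by
        rw [suVal_tv hF Ht, h_comm_zero hF hz'W.1]; simp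
      have hgy : suVal (eSU hF Ht) *ᵥ y = z + y := by
        rw [suVal_tv hF Ht, hyz, mul_one, hz', smul_smul, mul_inv_cancel₀ ht0, one_smul, add_comm]
      have H₁ : EOK (q := q) e (z + y) cy := by
        have := Hy.map (su_form (eSU hF Ht))
        rwa [hge, hgy] at this
      refine mem_of_shift hF hNn hN Hy Hc H₁ (hN _ _ Ht) ?_
      rw [eSU_conj hF]
      refine suVal_ext ?_
      show eMat q (suVal (eSU hF Ht) *ᵥ e) (suVal (eSU hF Ht) *ᵥ y) cy = eMat q e (z + y) cy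
      rw [hge, hgy]
    · obtain ⟨a, g, ha1, ha0, haa, hg, hge, hgx⟩ := exists_torus hF hN hq3 P
      intro z hz c Hc
      set z' := (a - 1)⁻¹ • z with hz'
      have hz'W : z' ∈ wSub q e f := Submodule.smul_mem _ _ hz
      obtain ⟨cz, Hz⟩ := hC0 hz'W
      have hgz : suVal g *ᵥ z' = z' := hgx z' hz'W.1 hz'W.2
      have haz : a • z' = z + z' := by
        have : (a - 1) • z' = z := by rw [hz', smul_smul, mul_inv_cancel₀ (sub_ne_zero.2 ha1), one_smul]
        rw [sub_smul, one_smul] at this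
        rw [← this, sub_add_cancel]
      have H₁ : EOK (q := q) e (z + z') (a * a * cz) := by
        refine ⟨P.ee, by rw [h_add_left, hz.1, hz'W.1, add_zero], ?_⟩
        have h1 := Hz.cc
        rw [cj_pow hF] at h1 ⊢
        rw [← haz, h_smul_left, h_smul_right hF, map_mul, map_mul, haa]
        linear_combination a * a * h1
      refine mem_of_shift hF hNn hN Hz Hc H₁ hg ?_
      rw [eSU_conj hF]
      refine suVal_ext ?_
      rw [suVal_eSU, suVal_eSU, hge, hgz, eMat_smul hF, haa, haz]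
  -- split off the multiple of `e`
  set w₀ := wPart (q := q) e f w with hw₀
  set b := h w f
  have hw : w = b • e + w₀ := by
    conv_lhs => rw [wPart_eq (q := q) e f w, H.we, zero_smul, add_zero]
  have hw₀W : w₀ ∈ wSub q e f := wPart_mem hF P w
  have h1 := H.cc
  rw [cj_pow hF, hw, h_add_left, h_add_right hF, h_add_right hF, h_smul_left, h_smul_left,
    h_smul_right hF, h_smul_right hF, P.ee, h_comm_zero hF hw₀W.1, hw₀W.1] at h1
  have H₀ : EOK (q := q) e w₀ (c + b - cj b) := by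
    refine ⟨P.ee, hw₀W.1, ?_⟩
    rw [cj_pow hF, map_sub, map_add, cj_cj]
    linear_combination h1
  have e1 : eSU hF H = eSU hF H₀ := suVal_ext (Matrix.ext_iff_mulVec.2 fun x => by
    rw [suVal_eSU, suVal_eSU, eMat_mulVec, eMat_mulVec, hw, h_add_right hF, h_smul_right hF]
    module)
  rw [e1]
  exact hall _ hw₀W _ H₀

include hNn hN in
theorem eq_top_of_transvections (hn : 3 ≤ n) (hnq : ¬ (n = 3 ∧ q = 2)) : N = ⊤ := by
  obtain ⟨p, hp⟩ := CharP.exists F
  haveI : Fact p.Prime := ⟨CharP.char_is_prime F p⟩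
  suffices H : ∀ (M : ℕ) (W : Submodule F V), Nat.card W = M → Frame q W → (kW p W : Subgroup SUn) ≤ N by
    refine top_le_iff.1 fun g _ => ?_
    exact H _ ⊤ rfl frame_top (gW_le_kW hF _ ⊤ rfl frame_top (gW_top hF g))
  intro M
  induction M using Nat.strong_induction_on with
  | _ M ih =>
  intro W hM hW
  refine (Subgroup.closure_le _).2 ?_
  rintro s ⟨hs, k, hk⟩
  rcases frame_dichotomy hF W with ⟨z0, hz0W, hz00, hz0z⟩ | hline
  · have hX : IsPGroup p (Subgroup.zpowers s) := by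
      obtain ⟨i, -, hi⟩ := (Nat.dvd_prime_pow (Fact.out : p.Prime)).1 (orderOf_dvd_of_pow_eq_one hk)
      exact IsPGroup.of_card (n := i) (by rw [Nat.card_zpowers, hi])
    obtain ⟨z, hz, hz0, hzz, hfix⟩ := exists_fixed_isotropic (p := p) hF hW hz0W hz00 hz0z hX
      (Subgroup.zpowers_le.2 hs)
    have hsz := hfix s (Subgroup.mem_zpowers s)
    obtain ⟨y, hy, P⟩ := exists_partner hF hW hz hz0 hzz
    obtain ⟨w, hw⟩ : ∃ w, w = wPart (q := q) z y (suVal s *ᵥ y) := ⟨_, rfl⟩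
    have hy' : suVal s *ᵥ y ∈ W := gW_map hF hW hs hy
    have hyz : h (suVal s *ᵥ y) z = 1 := by
      have := su_form s y z
      rwa [hsz, P.fe hF] at this
    obtain ⟨c, hc⟩ : ∃ c, c = h (suVal s *ᵥ y) y := ⟨_, rfl⟩
    have hyeq : suVal s *ᵥ y = c • z + y + w := by
      conv_lhs => rw [wPart_eq (q := q) z y (suVal s *ᵥ y), hyz, one_smul, ← hc, ← hw]
    have hwn : w ∈ nextW (q := q) W z y := hw ▸ ⟨Submodule.sub_mem _ hy'
      (Submodule.add_mem _ (Submodule.smul_mem _ _ hz) (Submodule.smul_mem _ _ hy)), wPart_mem hF P _⟩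
    have H : EOK (q := q) z w c := by
      refine ⟨P.ee, hwn.2.1, ?_⟩
      have h1 : h (suVal s *ᵥ y) (suVal s *ᵥ y) = 0 := by rw [su_form, P.ff]
      rw [hyeq] at h1
      simp only [h_add_left, h_add_right hF, h_smul_left, h_smul_right hF, P.ee, P.ef, P.ff, P.fe hF,
        hwn.2.1, hwn.2.2, h_comm_zero hF hwn.2.1, h_comm_zero hF hwn.2.2] at h1
      rw [cj_pow hF]; linear_combination h1
    have hEz : suVal (eSU hF H) *ᵥ z = z := by
      rw [suVal_eSU, eMat_mulVec, P.ee, h_comm_zero hF hwn.2.1]; simp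
    have hEy : suVal (eSU hF H) *ᵥ y = suVal s *ᵥ y := by
      rw [hyeq, suVal_eSU, eMat_mulVec, P.fe hF, h_comm_zero hF hwn.2.2]
      simp; abel
    have hEg : eSU hF H ∈ gW W := eSU_mem_gW hF hz hwn.1 H
    have hg3 : (eSU hF H)⁻¹ * s ∈ gW (nextW (q := q) W z y) := by
      refine mem_gW_next hF hW P hz hy (mul_mem (inv_mem hEg) hs) ?_ ?_
      · rw [mulVec_mul, hsz]
        exact (congrArg (fun v => suVal (eSU hF H)⁻¹ *ᵥ v) hEz.symm).trans (Cfsg.Agent.Fus.UnitN.inv_apply (eSU hF H) z).1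
      · rw [mulVec_mul, ← hEy]
        exact (Cfsg.Agent.Fus.UnitN.inv_apply _ y).1
    have h4 : (eSU hF H)⁻¹ * s ∈ N :=
      ih _ (hM ▸ next_card_lt hF P hz) _ rfl (hW.next hF P hz hy)
        (gW_le_kW hF _ _ rfl (hW.next hF P hz hy) hg3)
    have h5 := mul_mem (eSU_mem hF hNn hN hn hnq H) h4
    rwa [mul_inv_cancel_left] at h5
  · rw [eq_one_of_line hF hW hline hs]
    exact one_mem _

end Cfsg.Agent.Lie.RepDegSU
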