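import Cfsg.Agent.Lib.Classical.UnitPointStab

/-!
The orthogonal space of a hyperbolic pair: characters, counting of norms and the bound for the number of
isotropic points.
-/

set_option autoImplicit false
set_option linter.unusedSectionVars false

namespace Cfsg.Agent.Lie.MinIndexUnit

open Matrix Finset Cfsg Cfsg.Agent.Classical Cfsg.Agent.Classical.PSUAut

variable {F : Type*} [Field F] [Fintype F] {q n : ℕ}

local notation "V" => (Fin n → F)

variable (hF : Fintype.card F = q ^ 2)

local notation "h" => hermForm n F q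
local notation "cj" => qFrob hF

/-! ### The two kinds of scalars -/

/-- The scalars of trace zero. -/
def skew (hF : Fintype.card F = q ^ 2) : AddSubgroup F :=
  ((AddMonoidHom.id F) + (qFrob hF).toAddMonoidHom).ker

include hF

theorem mem_skew {c : F} : c ∈ skew hF ↔ c + cj c = 0 := Iff.rfl

theorem real_mul_skew {r c : F} (hr : cj r = r) (hc : c + cj c = 0) : r * c + cj (r * c) = 0 := by
  rw [map_mul, hr, ← mul_add, hc, mul_zero]

theorem real_div_skew {c d : F} (hc : c + cj c = 0) (hd : d + cj d = 0) : cj (c / d) = c / d := by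
  rw [map_div₀, eq_neg_of_add_eq_zero_right hc, eq_neg_of_add_eq_zero_right hd, neg_div_neg_eq]

/-- The fixed elements and the elements of trace zero are equally many. -/
theorem card_fixed_eq_skew : Nat.card {a : F // cj a = a} = Nat.card (skew hF) := by
  obtain ⟨c0, h0, hc0⟩ := exists_trace_zero hF
  exact Nat.card_congr
    { toFun := fun a => ⟨a.1 * c0, real_mul_skew hF a.2 hc0⟩
      invFun := fun c => ⟨c.1 / c0, real_div_skew hF ((mem_skew hF).1 c.2) hc0⟩
      left_inv := fun a => Subtype.ext (mul_div_cancel_right₀ _ h0)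
      right_inv := fun c => Subtype.ext (div_mul_cancel₀ _ h0) }

theorem card_skew : Nat.card (skew hF) = q := by
  set T := (AddMonoidHom.id F) + (qFrob hF).toAddMonoidHom with hT
  have e : ∀ a, a ∈ T.range ↔ cj a = a := fun a => by
    constructor
    · rintro ⟨x, rfl⟩
      show cj (x + cj x) = x + cj x
      rw [map_add, cj_cj, add_comm]
    · intro ha
      obtain ⟨c, hc⟩ := exists_trace_eq hF ha
      exact ⟨c, hc⟩
  have hr : Nat.card T.range = Nat.card {a : F // cj a = a} := Nat.card_congr (Equiv.subtypeEquivRight e)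
  have h1 := AddSubgroup.card_mul_index T.ker
  rw [AddSubgroup.index_ker, hr, card_fixed_eq_skew hF, Nat.card_eq_fintype_card (α := F), hF] at h1
  exact Nat.pow_left_injective two_ne_zero ((sq (Nat.card (skew hF))).trans h1)

theorem card_fixed : Nat.card {a : F // cj a = a} = q := by rw [card_fixed_eq_skew hF, card_skew hF]

/-! ### Characters -/

/-- A character of the field made from one of the elements of trace zero. -/
noncomputable def psi {c0 : F} (hc0 : c0 + qFrob hF c0 = 0) (χ : AddChar (skew hF) ℂ) : AddChar F ℂ where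
  toFun x := χ ⟨(x + cj x) * c0, real_mul_skew hF (by rw [map_add, cj_cj, add_comm]) hc0⟩
  map_zero_eq_one' := by
    rw [show (⟨(0 + cj 0) * c0, real_mul_skew hF (by rw [map_add, cj_cj, add_comm]) hc0⟩ : skew hF) = 0 from
      Subtype.ext (by simp)]
    exact χ.map_zero_eq_one
  map_add_eq_mul' x y := by
    rw [← χ.map_add_eq_mul]
    congr 1
    refine Subtype.ext ?_
    show (x + y + cj (x + y)) * c0 = (x + cj x) * c0 + (y + cj y) * c0
    rw [map_add]; ring

variable {c0 : F} (hc0 : c0 + qFrob hF c0 = 0) (χ : AddChar (skew hF) ℂ)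

theorem psi_eq_of_trace {x : F} {c : skew hF} (hx : (x + cj x) * c0 = c) : psi hF hc0 χ x = χ c :=
  congrArg χ (Subtype.ext hx)

theorem psi_trace_zero {x : F} (hx : x + cj x = 0) : psi hF hc0 χ x = 1 := by
  rw [psi_eq_of_trace hF hc0 χ (c := 0) (by rw [hx, zero_mul]; rfl), AddChar.map_zero_eq_one]

theorem psi_cj (x : F) : psi hF hc0 χ (cj x) = psi hF hc0 χ x :=
  psi_eq_of_trace hF hc0 χ (c := ⟨(x + cj x) * c0, real_mul_skew hF (by rw [map_add, cj_cj, add_comm]) hc0⟩)
    (by show (cj x + cj (cj x)) * c0 = (x + cj x) * c0; rw [cj_cj, add_comm])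

theorem psi_symm (u v : V) : psi hF hc0 χ (h u v) = psi hF hc0 χ (h v u) := by
  rw [← cj_h hF v u, psi_cj]

theorem psi_ne (h0 : c0 ≠ 0) {c : skew hF} (hc : χ c ≠ 1) : ∃ x : F, psi hF hc0 χ x ≠ 1 := by
  obtain ⟨x, hx⟩ := exists_trace_eq hF (real_div_skew hF ((mem_skew hF).1 c.2) hc0)
  exact ⟨x, by rwa [psi_eq_of_trace hF hc0 χ (c := c) (by rw [hx, div_mul_cancel₀ _ h0])]⟩

/-! ### Annihilators -/

omit hF in
/-- Nondegeneracy of the form on a set. -/
def Nondeg (q : ℕ) (X : Submodule F (Fin n → F)) : Prop :=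
  ∀ v ∈ X, v ≠ 0 → ∃ y ∈ X, hermForm n F q v y ≠ 0

omit hF in
/-- The vectors of a subspace orthogonal to a group of vectors, as seen by a character. -/
def ann (q : ℕ) (ψ : AddChar F ℂ) (X : Submodule F (Fin n → F)) (S : AddSubgroup (Fin n → F)) :
    AddSubgroup (Fin n → F) where
  carrier := {v | v ∈ X ∧ ∀ s ∈ S, ψ (hermForm n F q v s) = 1}
  add_mem' := by
    rintro a b ⟨ha, ha'⟩ ⟨hb, hb'⟩
    exact ⟨X.add_mem ha hb, fun s hs => by
      rw [hermForm_add_left, ψ.map_add_eq_mul, ha' s hs, hb' s hs, one_mul]⟩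
  zero_mem' := ⟨X.zero_mem, fun s _ => by rw [h_zero_left, ψ.map_zero_eq_one]⟩
  neg_mem' := by
    rintro a ⟨ha, ha'⟩
    refine ⟨X.neg_mem ha, fun s hs => ?_⟩
    have h1 := ψ.map_add_eq_mul (hermForm n F q (-a) s) (hermForm n F q a s)
    rw [ha' s hs, mul_one, ← hermForm_add_left, neg_add_cancel, h_zero_left, ψ.map_zero_eq_one] at h1
    exact h1.symm

theorem exists_psi_ne (h0 : c0 ≠ 0) {c : skew hF} (hc : χ c ≠ 1) {X : Submodule F V} (hX : Nondeg q X)
    {v : V} (hv : v ∈ X) (hv0 : v ≠ 0) : ∃ y ∈ X, psi hF hc0 χ (h v y) ≠ 1 := by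
  obtain ⟨x, hx⟩ := psi_ne hF hc0 χ h0 hc
  obtain ⟨y, hy, hne⟩ := hX v hv hv0
  refine ⟨cj (x / h v y) • y, X.smul_mem _ hy, ?_⟩
  rwa [h_smul_right hF, cj_cj, div_mul_cancel₀ _ hne]

/-- A group of vectors and its annihilator multiply to the order of the space. -/
theorem card_ann (h0 : c0 ≠ 0) {c : skew hF} (hc : χ c ≠ 1) {X : Submodule F V} (hX : Nondeg q X)
    {S : AddSubgroup V} (hS : ∀ s ∈ S, s ∈ X) :
    Nat.card (ann q (psi hF hc0 χ) X S) * Nat.card S = Nat.card X := by
  classical
  set ψ := psi hF hc0 χ with hψ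
  let αv : V → AddChar S ℂ := fun v =>
    { toFun := fun s => ψ (h v (s : V))
      map_zero_eq_one' := by rw [ZeroMemClass.coe_zero, h_zero_right hF, ψ.map_zero_eq_one]
      map_add_eq_mul' := fun a b => by rw [AddMemClass.coe_add, h_add_right hF, ψ.map_add_eq_mul] }
  let βs : V → AddChar X ℂ := fun s =>
    { toFun := fun v => ψ (h (v : V) s)
      map_zero_eq_one' := by rw [ZeroMemClass.coe_zero, h_zero_left, ψ.map_zero_eq_one]
      map_add_eq_mul' := fun a b => by rw [Submodule.coe_add, hermForm_add_left, ψ.map_add_eq_mul] }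
  have e1 : ∀ v : X, ∑ s : S, ψ (h (v : V) (s : V)) =
      if (v : V) ∈ ann q ψ X S then (Nat.card S : ℂ) else 0 := by
    intro v
    split_ifs with hv
    · rw [Finset.sum_congr rfl (fun s _ => hv.2 s.1 s.2), Finset.sum_const, Finset.card_univ,
        nsmul_one, Nat.card_eq_fintype_card]
    · exact AddChar.sum_eq_zero_of_ne_one (ψ := αv v) fun e => hv ⟨v.2, fun s hs => DFunLike.congr_fun e ⟨s, hs⟩⟩
  have e2 : ∀ s : S, ∑ v : X, ψ (h (v : V) (s : V)) = if s = 0 then (Nat.card X : ℂ) else 0 := by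
    intro s
    split_ifs with hs
    · subst hs
      rw [Finset.sum_congr rfl (fun v _ => by rw [ZeroMemClass.coe_zero, h_zero_right hF, ψ.map_zero_eq_one] :
        ∀ v ∈ (univ : Finset X), ψ (h (v : V) ((0 : S) : V)) = (1 : ℂ)), Finset.sum_const, Finset.card_univ,
        nsmul_one, Nat.card_eq_fintype_card]
    · refine AddChar.sum_eq_zero_of_ne_one (ψ := βs s) fun e => ?_
      obtain ⟨y, hy, hne⟩ := exists_psi_ne hF hc0 χ h0 hc hX (hS _ s.2) (fun e0 => hs (Subtype.ext e0))
      refine hne ?_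
      rw [psi_symm hF hc0 χ]
      exact DFunLike.congr_fun e ⟨y, hy⟩
  have h1 := Finset.sum_comm (s := (univ : Finset X)) (t := (univ : Finset S))
    (f := fun v s => ψ (h (v : V) (s : V)))
  rw [Finset.sum_congr rfl (fun v _ => e1 v), Finset.sum_congr rfl (fun s _ => e2 s), Finset.sum_ite_eq',
    if_pos (Finset.mem_univ _), ← Finset.sum_filter, Finset.sum_const, nsmul_eq_mul] at h1
  have hc' : (univ.filter fun v : X => (v : V) ∈ ann q ψ X S).card = Nat.card (ann q ψ X S) := by
    rw [← Fintype.card_subtype, ← Nat.card_eq_fintype_card]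
    exact Nat.card_congr
      { toFun := fun v => ⟨v.1.1, v.2⟩
        invFun := fun v => ⟨⟨v.1, v.2.1⟩, v.2⟩
        left_inv := fun _ => rfl
        right_inv := fun _ => rfl }
  rw [hc'] at h1
  exact_mod_cast h1

/-- A group of vectors inside its annihilator is at most half the space. -/
theorem sq_card_le (h0 : c0 ≠ 0) {c : skew hF} (hc : χ c ≠ 1) {X : Submodule F V} (hX : Nondeg q X)
    {S : AddSubgroup V} (hS : ∀ s ∈ S, s ∈ X) {ρ : F} (hρ : ρ ≠ 0)
    (hiso : ∀ s ∈ S, ∀ s' ∈ S, psi hF hc0 χ (h (ρ • s) s') = 1) : Nat.card S * Nat.card S ≤ Nat.card X := by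
  classical
  rw [← card_ann hF hc0 χ h0 hc hX hS]
  refine Nat.mul_le_mul_right _ (Nat.card_le_card_of_injective
    (fun s : S => (⟨ρ • (s : V), X.smul_mem ρ (hS _ s.2), fun s' hs' => hiso _ s.2 _ hs'⟩ :
      ann q (psi hF hc0 χ) X S)) fun a b hab => Subtype.ext ?_)
  exact smul_right_injective V hρ (congrArg Subtype.val hab)

omit hc0 χ in
/-- A group of isotropic vectors is at most half the space. -/
theorem sq_card_singular_le {X : Submodule F V} (hX : Nondeg q X) {S : AddSubgroup V} (hS : ∀ s ∈ S, s ∈ X)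
    (hsing : ∀ s ∈ S, h s s = 0) : Nat.card S * Nat.card S ≤ Nat.card X := by
  obtain ⟨c0, h0, hc0⟩ := exists_trace_zero hF
  obtain ⟨χ, hχ⟩ := (AddChar.exists_apply_ne_zero (α := skew hF) (a := ⟨c0, hc0⟩)).2
    fun e => h0 (congrArg Subtype.val e)
  refine sq_card_le hF hc0 χ h0 hχ hX hS one_ne_zero fun s hs s' hs' => ?_
  rw [one_smul]
  refine psi_trace_zero hF hc0 χ ?_
  rw [cj_h hF]
  have h2 := hsing _ (S.add_mem hs hs')
  rw [h_add_left, h_add_right hF, h_add_right hF, hsing s hs, hsing s' hs'] at h2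
  linear_combination h2

/-- An isotropic subspace is totally isotropic. -/
theorem h_eq_zero_of_singular {X : Submodule F V} (hX : ∀ x ∈ X, h x x = 0) {x y : V} (hx : x ∈ X) (hy : y ∈ X) :
    h x y = 0 := by
  by_contra hne
  obtain ⟨t, ht⟩ := exists_trace_eq hF (map_one cj)
  have h1 := hX _ (X.add_mem (X.smul_mem (t / h x y) hx) hy)
  rw [h_add_left, h_add_right hF, h_add_right hF, h_smul_left, h_smul_left, h_smul_right hF, h_smul_right hF,
    hX x hx, hX y hy, ← cj_h hF x y, ← map_mul, div_mul_cancel₀ _ hne, mul_zero, mul_zero, zero_add,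
    add_zero] at h1
  exact one_ne_zero (ht ▸ h1 : (1 : F) = 0)

/-- A nonzero nondegenerate space has an anisotropic vector. -/
theorem exists_aniso {X : Submodule F V} (hX : Nondeg q X) (hne : 1 < Nat.card X) :
    ∃ x ∈ X, h x x ≠ 0 := by
  by_contra hcon
  push Not at hcon
  have h1 := sq_card_singular_le hF hX (S := X.toAddSubgroup) (fun _ hs => hs) hcon
  exact absurd (lt_of_lt_of_le (lt_mul_of_one_lt_left Nat.card_pos hne) h1) (lt_irrefl _)

/-! ### The space orthogonal to a hyperbolic pair -/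

variable {e f : Fin n → F}

theorem nondeg_wSub (P : IsPair (q := q) e f) : Nondeg q (wSub q e f) := fun v hv hv0 => by
  by_contra hcon
  exact hv0 (wSub_eq_zero hF P hv fun y hy => by_contra fun hne => hcon ⟨y, hy, hne⟩)

theorem h_wPart_right {w : V} (hw : w ∈ wSub q e f) (x : V) : h w (wPart (q := q) e f x) = h w x := by
  conv_rhs => rw [wPart_eq (q := q) e f x]
  rw [h_add_right hF, h_add_right hF, h_smul_right hF, h_smul_right hF, hw.1, hw.2]
  ring

/-- Coordinates along a hyperbolic pair. -/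
noncomputable def coordEquiv (P : IsPair (q := q) e f) : (Fin n → F) ≃ F × F × wSub q e f where
  toFun x := (h x f, h x e, ⟨_, wPart_mem hF P x⟩)
  invFun p := p.1 • e + p.2.1 • f + (p.2.2 : V)
  left_inv x := (wPart_eq (q := q) e f x).symm
  right_inv p := by
    obtain ⟨a, b, w, hw⟩ := p
    have e1 : h (a • e + b • f + w) f = a := by
      rw [h_add_left, h_add_left, h_smul_left, h_smul_left, P.ef, P.ff, hw.2]; ring
    have e2 : h (a • e + b • f + w) e = b := by
      rw [h_add_left, h_add_left, h_smul_left, h_smul_left, P.ee, P.fe hF, hw.1]; ring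
    refine Prod.ext e1 (Prod.ext e2 (Subtype.ext ?_))
    show wPart (q := q) e f (a • e + b • f + w) = w
    rw [wPart, e1, e2]
    abel

theorem card_wSub (P : IsPair (q := q) e f) {d : ℕ} (hd : n = d + 2) :
    Nat.card (wSub q e f) = q ^ (2 * d) := by
  have h1 := Nat.card_congr (coordEquiv hF P)
  rw [Nat.card_prod, Nat.card_prod, Nat.card_fun, Nat.card_eq_fintype_card (α := F), hF, Nat.card_fin] at h1
  subst hd
  have hq : 0 < q := by have := two_le_q hF; omega
  refine Nat.eq_of_mul_eq_mul_left (pow_pos hq 4) ?_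
  rw [show q ^ 4 * Nat.card (wSub q e f) = q ^ 2 * (q ^ 2 * Nat.card (wSub q e f)) by ring, ← h1]
  ring

omit hF in
/-- The number of vectors of a norm in the orthogonal space. -/
noncomputable def wCount (q : ℕ) (e f : Fin n → F) (r : F) : ℕ :=
  Nat.card {w : wSub q e f // hermForm n F q (w : Fin n → F) (w : Fin n → F) = r}

/-- The isotropic vectors, along the pair. -/
theorem normCount_eq (P : IsPair (q := q) e f) :
    normCount n F q (0 : F) =
      (q ^ 2 - 1) * q * Nat.card (wSub q e f) + q ^ 2 * wCount q e f 0 := by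
  classical
  let g : {x : V // h x x = 0} ≃
      Σ w : wSub q e f, {p : F × F // p.1 * cj p.2 + p.2 * cj p.1 + h (w : V) (w : V) = 0} :=
    { toFun := fun x => ⟨⟨_, wPart_mem hF P x.1⟩, (h x.1 f, h x.1 e), by
        have hx := x.2
        obtain ⟨hwe, hwf⟩ := wPart_orth hF P x.1
        rw [wPart_eq (q := q) e f x.1] at hx
        simp only [h_add_left, h_add_right hF, h_smul_left, h_smul_right hF, P.ee, P.ef, P.ff, P.fe hF, hwe, hwf,
          h_comm_zero hF hwe, h_comm_zero hF hwf] at hx
        linear_combination hx⟩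
      invFun := fun s => ⟨s.2.1.1 • e + s.2.1.2 • f + (s.1 : V), by
        have h1 := s.2.2
        simp only [h_add_left, h_add_right hF, h_smul_left, h_smul_right hF, P.ee, P.ef, P.ff, P.fe hF, s.1.2.1,
          s.1.2.2, h_comm_zero hF s.1.2.1, h_comm_zero hF s.1.2.2]
        linear_combination h1⟩
      left_inv := fun x => Subtype.ext (wPart_eq (q := q) e f x.1).symm
      right_inv := fun s => by
        obtain ⟨⟨w, hw⟩, ⟨⟨a, b⟩, hab⟩⟩ := s
        have h1 := (coordEquiv hF P).right_inv (a, b, ⟨w, hw⟩)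
        simp only [coordEquiv, Prod.mk.injEq, Subtype.mk.injEq] at h1
        refine Sigma.subtype_ext (Subtype.ext h1.2.2) (Prod.ext h1.1 h1.2.1) }
  have hq := two_le_q hF
  have hfib : ∀ w : wSub q e f,
      Nat.card {p : F × F // p.1 * cj p.2 + p.2 * cj p.1 + h (w : V) (w : V) = 0} =
        (q ^ 2 - 1) * q + if h (w : V) (w : V) = 0 then q ^ 2 else 0 := by
    intro w
    have hg : ∀ a : F, Nat.card {b : F // a * cj b + b * cj a + h (w : V) (w : V) = 0} =
        if a = 0 then (if h (w : V) (w : V) = 0 then q ^ 2 else 0) else q := by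
      intro a
      by_cases ha : a = 0
      · rw [if_pos ha]
        split_ifs with hw
        · rw [Nat.card_congr (Equiv.subtypeUnivEquiv fun b => by rw [ha, hw]; simp),
            Nat.card_eq_fintype_card, hF]
        · exact @Nat.card_of_isEmpty _ ⟨fun b => hw (by simpa [ha] using b.2)⟩
      · rw [if_neg ha]
        obtain ⟨t, ht⟩ := exists_trace_eq hF (a := -h (w : V) (w : V)) (by rw [map_neg, cj_h_self hF])
        have hca : cj a ≠ 0 := (map_ne_zero _).2 ha
        refine Eq.trans (Nat.card_congr ?_) (card_skew hF)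
        exact
          { toFun := fun b => ⟨b.1 * cj a - t, by
              have h1 := b.2
              rw [mem_skew, map_sub, map_mul, cj_cj]
              linear_combination h1 - ht⟩
            invFun := fun c => ⟨(c.1 + t) / cj a, by
              have h1 := (mem_skew hF).1 c.2
              rw [map_div₀, cj_cj, map_add, mul_div_cancel₀ _ ha, div_mul_cancel₀ _ hca]
              linear_combination h1 + ht⟩
            left_inv := fun b => Subtype.ext (by simp [mul_div_cancel_right₀ _ hca])
            right_inv := fun c => Subtype.ext (by simp [div_mul_cancel₀ _ hca]) }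
    rw [Nat.card_congr (Equiv.subtypeProdEquivSigmaSubtype
      fun a b : F => a * cj b + b * cj a + h (w : V) (w : V) = 0), Nat.card_sigma,
      Finset.sum_congr rfl (fun a _ => hg a), ← Finset.add_sum_erase _ _ (Finset.mem_univ (0 : F)), if_pos rfl,
      Finset.sum_congr rfl (fun a ha => if_neg (Finset.ne_of_mem_erase ha)), Finset.sum_const,
      Finset.card_erase_of_mem (Finset.mem_univ _), Finset.card_univ, hF, smul_eq_mul, add_comm]
  rw [normCount, Nat.card_congr g, Nat.card_sigma, Finset.sum_congr rfl (fun w _ => hfib w),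
    Finset.sum_add_distrib, Finset.sum_const, Finset.card_univ, smul_eq_mul, ← Finset.sum_filter,
    Finset.sum_const, smul_eq_mul, ← Fintype.card_subtype, ← Nat.card_eq_fintype_card,
    ← Nat.card_eq_fintype_card, wCount]
  ring

theorem wCount_zero (P : IsPair (q := q) e f) {d : ℕ} (hd : n = d + 2) :
    (wCount q e f (0 : F) : ℤ) * q = (q : ℤ) ^ (2 * d) + (-1) ^ d * ((q : ℤ) ^ (d + 1) - (q : ℤ) ^ d) := by
  have h1 := congrArg (Nat.cast : ℕ → ℤ) (normCount_eq hF P)
  have h2 := normCount_zero hF n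
  have hq := two_le_q hF
  rw [card_wSub hF P hd] at h1
  rw [h1] at h2
  push_cast [Nat.cast_sub (Nat.one_le_pow 2 q (by omega))] at h2
  subst hd
  have hq0 : (q : ℤ) ^ 2 ≠ 0 := pow_ne_zero 2 (by exact_mod_cast (by omega : q ≠ 0))
  refine mul_left_cancel₀ hq0 ?_
  linear_combination h2

theorem wCount_scale (a : F) (ha : a ≠ 0) (r : F) :
    wCount q e f r = wCount q e f (a * cj a * r) := by
  have hne : a * cj a ≠ 0 := mul_ne_zero ha ((map_ne_zero _).2 ha)
  refine Nat.card_congr
    { toFun := fun w => ⟨a • w.1, ?_⟩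
      invFun := fun w => ⟨a⁻¹ • w.1, ?_⟩
      left_inv := fun w => Subtype.ext (inv_smul_smul₀ ha w.1)
      right_inv := fun w => Subtype.ext (smul_inv_smul₀ ha w.1) }
  · rw [Submodule.coe_smul, h_smul_left, h_smul_right hF, w.2]; ring
  · rw [Submodule.coe_smul, h_smul_left, h_smul_right hF, w.2, map_inv₀]
    field_simp
    exact mul_div_cancel_left₀ _ ((map_ne_zero _).2 ha)

theorem wCount_ne_zero (P : IsPair (q := q) e f) {d : ℕ} (hd : n = d + 2) {r : F} (hr : cj r = r)
    (hr0 : r ≠ 0) :
    ((q : ℤ) - 1) * wCount q e f r + wCount q e f 0 = (q : ℤ) ^ (2 * d) := by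
  classical
  let g : (Σ a : {a : F // cj a = a}, {w : wSub q e f // h (w : V) (w : V) = a.1}) ≃ wSub q e f :=
    { toFun := fun s => s.2.1
      invFun := fun w => ⟨⟨h (w : V) (w : V), cj_h_self hF _⟩, ⟨w, rfl⟩⟩
      left_inv := fun s => by
        obtain ⟨⟨a, ha⟩, ⟨w, hw⟩⟩ := s
        cases hw
        rfl
      right_inv := fun w => rfl }
  have hz : (⟨0, map_zero _⟩ : {a : F // cj a = a}) ∈ (univ : Finset {a : F // cj a = a}) := Finset.mem_univ _
  have h1 := Nat.card_congr g
  rw [Nat.card_sigma, card_wSub hF P hd, ← Finset.add_sum_erase _ _ hz,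
    Finset.sum_congr rfl (fun a ha => by
      obtain ⟨s, hs⟩ := exists_norm hF (a := a.1 / r) (by rw [map_div₀, a.2, hr])
      have hs0 : s ≠ 0 := by
        rintro rfl
        rw [zero_mul, eq_comm, div_eq_zero_iff] at hs
        exact Finset.ne_of_mem_erase ha (Subtype.ext (hs.resolve_right hr0))
      show Nat.card {w : wSub q e f // h (w : V) (w : V) = a.1} = wCount q e f r
      rw [wCount_scale hF s hs0 r, hs, div_mul_cancel₀ _ hr0]
      rfl),
    Finset.sum_const, Finset.card_erase_of_mem hz, Finset.card_univ, ← Nat.card_eq_fintype_card (α := {a : F // cj a = a}),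
    card_fixed hF, smul_eq_mul] at h1
  have hq := two_le_q hF
  have h2 := congrArg (Nat.cast : ℕ → ℤ) h1
  push_cast [Nat.cast_sub (show 1 ≤ q by omega)] at h2
  change (wCount q e f (0 : F) : ℤ) + _ = _ at h2
  linear_combination h2

end Cfsg.Agent.Lie.MinIndexUnit
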