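import Cfsg.Agent.Lib.Classical.GLTwoSylow

/-!
The stabilisers `(GL_e ≀ S_k) × GL_r` in `GL_n`, `n = e k + r`, and the 2-parts of their orders for odd `q`.
-/

set_option autoImplicit false
set_option linter.unusedSectionVars false

namespace Cfsg.Agent.Lie.GLWreath

open Matrix

variable {F : Type*} [Field F] {e k r n : ℕ}

/-- Permutations acting on tuples. -/
def permAut (e k : ℕ) (F : Type*) [Field F] : Equiv.Perm (Fin k) →* MulAut (Fin k → GL (Fin e) F) where
  toFun σ :=
    { toFun := fun f i => f (σ.symm i)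
      invFun := fun f i => f (σ i)
      left_inv := fun f => funext fun i => by simp
      right_inv := fun f => funext fun i => by simp
      map_mul' := fun f g => rfl }
  map_one' := rfl
  map_mul' σ τ := rfl

/-- The abstract stabiliser. -/
abbrev W (e k r : ℕ) (F : Type*) [Field F] :=
  ((Fin k → GL (Fin e) F) ⋊[permAut e k F] Equiv.Perm (Fin k)) × GL (Fin r) F

/-- The space it acts on. -/
abbrev Space (e k r : ℕ) (F : Type*) [Field F] := (Fin k → Fin e → F) × (Fin r → F)

/-- The action. -/
def act (x : W e k r F) : Space e k r F →ₗ[F] Space e k r F where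
  toFun v := (fun i => (x.1.left i : Matrix (Fin e) (Fin e) F) *ᵥ v.1 (x.1.right.symm i),
    (x.2 : Matrix (Fin r) (Fin r) F) *ᵥ v.2)
  map_add' v w := by
    refine Prod.ext (funext fun i => ?_) ?_ <;>
      simp only [Prod.fst_add, Prod.snd_add, Pi.add_apply, Matrix.mulVec_add]
  map_smul' c v := by
    refine Prod.ext (funext fun i => ?_) ?_ <;>
      simp only [Prod.smul_fst, Prod.smul_snd, Pi.smul_apply, Matrix.mulVec_smul, RingHom.id_apply]

theorem act_apply (x : W e k r F) (v : Space e k r F) :
    act x v = (fun i => (x.1.left i : Matrix (Fin e) (Fin e) F) *ᵥ v.1 (x.1.right.symm i),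
      (x.2 : Matrix (Fin r) (Fin r) F) *ᵥ v.2) := rfl

theorem act_one : act (1 : W e k r F) = LinearMap.id := LinearMap.ext fun v => by
  rw [act_apply, LinearMap.id_apply]
  refine Prod.ext (funext fun i => ?_) ?_
  · show ((1 : GL (Fin e) F) : Matrix (Fin e) (Fin e) F) *ᵥ v.1 i = v.1 i
    rw [Units.val_one, Matrix.one_mulVec]
  · show ((1 : GL (Fin r) F) : Matrix (Fin r) (Fin r) F) *ᵥ v.2 = v.2
    rw [Units.val_one, Matrix.one_mulVec]

theorem act_mul (x y : W e k r F) : act (x * y) = act x ∘ₗ act y := LinearMap.ext fun v => by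
  rw [LinearMap.comp_apply, act_apply, act_apply, act_apply]
  refine Prod.ext (funext fun i => ?_) ?_
  · show ((x.1.left i * y.1.left (x.1.right.symm i) : GL (Fin e) F) : Matrix (Fin e) (Fin e) F) *ᵥ
      v.1 (y.1.right.symm (x.1.right.symm i)) = _
    rw [Units.val_mul, ← Matrix.mulVec_mulVec]
  · show ((x.2 * y.2 : GL (Fin r) F) : Matrix (Fin r) (Fin r) F) *ᵥ v.2 = _
    rw [Units.val_mul, ← Matrix.mulVec_mulVec]

/-- The embedding in coordinates. -/
noncomputable def wHom (Φ : Space e k r F ≃ₗ[F] (Fin n → F)) : W e k r F →* GL (Fin n) F :=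
  MonoidHom.toHomUnits
    { toFun := fun x => LinearMap.toMatrix' (Φ.toLinearMap ∘ₗ act x ∘ₗ Φ.symm.toLinearMap)
      map_one' := by
        rw [act_one, LinearMap.id_comp, LinearEquiv.comp_symm, LinearMap.toMatrix'_id]
      map_mul' := fun x y => by
        rw [← LinearMap.toMatrix'_comp, act_mul]
        congr 1
        exact LinearMap.ext fun v => by simp }

theorem wHom_mulVec (Φ : Space e k r F ≃ₗ[F] (Fin n → F)) (x : W e k r F) (v : Space e k r F) :
    (wHom Φ x : Matrix (Fin n) (Fin n) F) *ᵥ Φ v = Φ (act x v) := by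
  show LinearMap.toMatrix' (Φ.toLinearMap ∘ₗ act x ∘ₗ Φ.symm.toLinearMap) *ᵥ Φ v = _
  rw [← Matrix.toLin'_apply, Matrix.toLin'_toMatrix']
  simp

theorem wHom_injective (he : 0 < e) (Φ : Space e k r F ≃ₗ[F] (Fin n → F)) : Function.Injective (wHom Φ) := by
  rw [injective_iff_map_eq_one]
  intro x hx
  have hact : ∀ v, act x v = v := fun v => Φ.injective (by rw [← wHom_mulVec, hx, Units.val_one, Matrix.one_mulVec])
  obtain ⟨⟨f, σ⟩, c⟩ := x
  have hσ : σ = 1 := by
    refine Equiv.ext fun j => ?_
    by_contra hne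
    obtain ⟨a, ha⟩ : ∃ a, a = (Pi.single ⟨0, he⟩ (1 : F) : Fin e → F) := ⟨_, rfl⟩
    have h := congrFun (congrArg Prod.fst (hact (Pi.single j a, 0))) j
    simp only [act_apply] at h
    have hj : σ.symm j ≠ j := fun h' => hne (by
      have := congrArg σ h'; rw [Equiv.apply_symm_apply] at this; exact this.symm)
    rw [Pi.single_eq_of_ne hj, Matrix.mulVec_zero, Pi.single_eq_same, ha] at h
    have := congrFun h ⟨0, he⟩
    simp at this
  subst hσ
  refine Prod.ext (SemidirectProduct.ext (funext fun i => Units.ext (Matrix.ext_iff_mulVec.2 fun v => ?_)) rfl)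
    (Units.ext (Matrix.ext_iff_mulVec.2 fun v => ?_))
  · have h := congrFun (congrArg Prod.fst (hact (Pi.single i v, 0))) i
    simp only [act_apply] at h
    rw [show ((1 : Equiv.Perm (Fin k)).symm i) = i from rfl, Pi.single_eq_same] at h
    rw [h]
    exact (Matrix.one_mulVec v).symm
  · have h := congrArg Prod.snd (hact (0, v))
    simp only [act_apply] at h
    rw [h]
    exact (Matrix.one_mulVec v).symm

theorem exists_coords (h : e * k + r = n) : Nonempty (Space e k r F ≃ₗ[F] (Fin n → F)) :=
  ⟨LinearEquiv.ofFinrankEq _ _ (by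
    rw [Module.finrank_prod, Module.finrank_pi_fintype, Module.finrank_fin_fun, Module.finrank_fin_fun]
    simp [Module.finrank_fin_fun]
    rw [mul_comm]; exact h)⟩

section Count

variable [Fintype F]

theorem natCard_W : Nat.card (W e k r F) =
    Nat.card (GL (Fin e) F) ^ k * k.factorial * Nat.card (GL (Fin r) F) := by
  rw [Nat.card_prod, SemidirectProduct.card, Nat.card_fun, Nat.card_perm, Nat.card_eq_fintype_card (α := Fin k),
    Fintype.card_fin]

local notation "va" => padicValNat 2 (Fintype.card F - 1)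
local notation "vb" => padicValNat 2 (Fintype.card F + 1)

theorem padicValNat_pow_odd (hq : Odd (Fintype.card F)) {i : ℕ} (hi : Odd i) :
    padicValNat 2 (Fintype.card F ^ i - 1) = va := by
  have h1 : 1 ≤ Fintype.card F := Fintype.card_pos
  have hgeo : Fintype.card F ^ i - 1 = (Fintype.card F - 1) * ∑ t ∈ Finset.range i, Fintype.card F ^ t := by
    zify [h1, Nat.one_le_pow i (Fintype.card F) h1]
    rw [mul_comm, geom_sum_mul]
  have hs : ¬ 2 ∣ ∑ t ∈ Finset.range i, Fintype.card F ^ t := by
    rw [← ZMod.natCast_eq_zero_iff, Nat.cast_sum]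
    have : (Fintype.card F : ZMod 2) = 1 := by
      rw [← ZMod.natCast_mod, Nat.odd_iff.1 hq, Nat.cast_one]
    simp only [Nat.cast_pow, this, one_pow, Finset.sum_const, Finset.card_range, nsmul_one]
    rw [ZMod.natCast_eq_zero_iff]
    rw [Nat.odd_iff] at hi
    omega
  rw [hgeo, padicValNat.mul (by have := Fintype.one_lt_card (α := F); omega) (fun h => hs (by rw [h]; exact dvd_zero 2)),
    padicValNat.eq_zero_of_not_dvd hs, add_zero]

theorem padicValNat_pow_even (hq : Odd (Fintype.card F)) (j : ℕ) :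
    padicValNat 2 (Fintype.card F ^ (2 * (j + 1)) - 1) = va + vb + padicValNat 2 (j + 1) := by
  have h := padicValNat.pow_two_sub_one (Fintype.one_lt_card (α := F)) (by rw [Nat.odd_iff] at hq; omega)
    (n := 2 * (j + 1)) (by omega) (even_two_mul _)
  rw [padicValNat.mul (by norm_num) (by omega), padicValNat_self] at h
  omega

theorem v_GL_succ (m : ℕ) :
    padicValNat 2 (∏ i ∈ Finset.range (m + 1), (Fintype.card F ^ (i + 1) - 1)) =
      padicValNat 2 (∏ i ∈ Finset.range m, (Fintype.card F ^ (i + 1) - 1)) +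
        padicValNat 2 (Fintype.card F ^ (m + 1) - 1) := by
  have hne : ∀ i, Fintype.card F ^ (i + 1) - 1 ≠ 0 := fun i => by
    have := Nat.one_lt_pow (n := i + 1) (by omega) (Fintype.one_lt_card (α := F))
    omega
  rw [Finset.prod_range_succ, padicValNat.mul (Finset.prod_ne_zero_iff.2 fun i _ => hne i) (hne m)]

theorem padicValNat_card_GL (hq : Odd (Fintype.card F)) (m : ℕ) :
    padicValNat 2 (Nat.card (GL (Fin m) F)) = m * va + m / 2 * vb + padicValNat 2 (m / 2).factorial := by
  have h1 : 1 < Fintype.card F := Fintype.one_lt_card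
  have hne : ∏ i : Fin m, (Fintype.card F ^ (m - (i : ℕ)) - 1) ≠ 0 := Finset.prod_ne_zero_iff.2 fun i _ => by
    have := Nat.one_lt_pow (n := m - (i : ℕ)) (by omega) h1
    omega
  rw [Classical.GLTwoSylow.card_GL_eq, padicValNat.mul (pow_ne_zero _ (by omega)) hne, padicValNat.pow,
    padicValNat.eq_zero_of_not_dvd (n := Fintype.card F) (by rw [Nat.odd_iff] at hq; omega), mul_zero, zero_add,
    Fin.prod_univ_eq_prod_range (fun i => Fintype.card F ^ (m - i) - 1) m,
    ← Finset.prod_range_reflect (fun i => Fintype.card F ^ (m - i) - 1) m,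
    Finset.prod_congr rfl (fun i hi => show Fintype.card F ^ (m - (m - 1 - i)) - 1 = Fintype.card F ^ (i + 1) - 1 by
      rw [Finset.mem_range] at hi; congr 2; omega)]
  clear hne
  induction m with
  | zero => simp
  | succ m ih =>
    rw [v_GL_succ, ih]
    rcases Nat.even_or_odd m with hm | hm
    · rw [padicValNat_pow_odd hq hm.add_one, show (m + 1) / 2 = m / 2 by rw [Nat.even_iff] at hm; omega]
      ring
    · obtain ⟨j, rfl⟩ := hm
      rw [show 2 * j + 1 + 1 = 2 * (j + 1) by ring, padicValNat_pow_even hq j, show (2 * j + 1) / 2 = j by omega,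
        Nat.mul_div_cancel_left (j + 1) two_pos, Nat.factorial_succ,
        padicValNat.mul (Nat.succ_ne_zero j) (Nat.factorial_ne_zero j)]
      ring

theorem padicValNat_natCard_W :
    padicValNat 2 (Nat.card (W e k r F)) = k * padicValNat 2 (Nat.card (GL (Fin e) F)) +
      padicValNat 2 k.factorial + padicValNat 2 (Nat.card (GL (Fin r) F)) := by
  rw [natCard_W, padicValNat.mul (mul_ne_zero (pow_ne_zero _ Nat.card_pos.ne') (Nat.factorial_ne_zero k))
    Nat.card_pos.ne', padicValNat.mul (pow_ne_zero _ Nat.card_pos.ne') (Nat.factorial_ne_zero k), padicValNat.pow]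

theorem padicValNat_factorial_le (m : ℕ) :
    padicValNat 2 m.factorial = m / 2 + padicValNat 2 (m / 2).factorial := by
  induction m with
  | zero => simp
  | succ m ih =>
    rw [Nat.factorial_succ, padicValNat.mul (Nat.succ_ne_zero m) (Nat.factorial_ne_zero m), ih]
    rcases Nat.even_or_odd m with hm | hm
    · rw [padicValNat.eq_zero_of_not_dvd (by rw [Nat.even_iff] at hm; omega),
        show (m + 1) / 2 = m / 2 by rw [Nat.even_iff] at hm; omega, zero_add]
    · obtain ⟨j, rfl⟩ := hm
      rw [Nat.succ_eq_add_one, show 2 * j + 1 + 1 = 2 * (j + 1) by ring, padicValNat.mul (by norm_num) (Nat.succ_ne_zero j),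
        padicValNat_self, show (2 * j + 1) / 2 = j by omega, Nat.mul_div_cancel_left (j + 1) two_pos,
        Nat.factorial_succ, padicValNat.mul (Nat.succ_ne_zero j) (Nat.factorial_ne_zero j)]
      ring

end Count

end Cfsg.Agent.Lie.GLWreath
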