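import Mathlib
import Cfsg.Agent.Lib.Grp.Coprime
import Cfsg.Agent.Lib.Grp.Frattini
import Cfsg.Agent.Lib.Transfer.OmegaMetacyclic

/-!
# Coprime actions with products of fixed points

If a `p`-group `P` (`p` odd) acts coprimely on `V`, is generated by two sets `C`, `D`, and
`V = Fix(d) Fix(c)` for all `c ∈ C`, `d ∈ D`, then the action is trivial.
-/

namespace Cfsg.Agent.Lie.PComplCentral

universe u v

section Fix

variable {P : Type v} [Group P] {V : Type u} [CommGroup V]

/-- The fixed subgroup of one element. -/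
def fixOf (φ : P →* MulAut V) (g : P) : Subgroup V where
  carrier := {x | φ g x = x}
  one_mem' := map_one _
  mul_mem' := by intro a b (ha : φ g a = a) (hb : φ g b = b); show φ g (a * b) = a * b; rw [map_mul, ha, hb]
  inv_mem' := by intro a (ha : φ g a = a); show φ g a⁻¹ = a⁻¹; rw [map_inv, ha]

theorem mem_fixOf {φ : P →* MulAut V} {g : P} {x : V} : x ∈ fixOf φ g ↔ φ g x = x := Iff.rfl

variable (φ : P →* MulAut V)

theorem fixOf_mul_left {g h : P} {x : V} (hg : x ∈ fixOf φ g) (hgh : x ∈ fixOf φ (g * h)) :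
    x ∈ fixOf φ h := by
  rw [mem_fixOf] at *
  rw [map_mul, MulAut.mul_apply] at hgh
  exact (φ g).injective (hgh.trans hg.symm)

/-- The product of the orbit map of a cyclic group of order dividing `p`. -/
def normOf (p : ℕ) (g : P) : V →* V where
  toFun x := ∏ k ∈ Finset.range p, φ (g ^ k) x
  map_one' := by simp
  map_mul' x y := by simp [Finset.prod_mul_distrib]

theorem normOf_mem {p : ℕ} {g : P} (hg : g ^ p = 1) (x : V) : normOf φ p g x ∈ fixOf φ g := by
  rw [mem_fixOf]
  show φ g (∏ k ∈ Finset.range p, φ (g ^ k) x) = ∏ k ∈ Finset.range p, φ (g ^ k) x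
  rw [map_prod]
  have h1 := Finset.prod_range_succ (fun k => φ (g ^ k) x) p
  have h2 := Finset.prod_range_succ' (fun k => φ (g ^ k) x) p
  have h3 : ∀ k : ℕ, φ g (φ (g ^ k) x) = φ (g ^ (k + 1)) x := fun k => by
    rw [← MulAut.mul_apply, ← map_mul, ← pow_succ']
  simp only [h3]
  rw [h1] at h2
  simp only [hg, pow_zero, map_one, MulAut.one_apply] at h2
  exact (mul_right_cancel h2).symm

theorem conj_mem_fixOf {c e : P} {x : V} (h : x ∈ fixOf φ e) : φ c x ∈ fixOf φ (c * e * c⁻¹) := by
  rw [mem_fixOf] at *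
  rw [← MulAut.mul_apply, ← map_mul, inv_mul_cancel_right, map_mul, MulAut.mul_apply, h]

theorem fixOf_comm {g h : P} (hgh : Commute g h) {x : V} (hx : x ∈ fixOf φ h) :
    φ g x ∈ fixOf φ h := by
  have := conj_mem_fixOf φ (c := g) hx
  rwa [hgh.eq, mul_inv_cancel_right] at this

variable [Finite V] {p : ℕ} [hp : Fact p.Prime] (hcopV : (Nat.card V).Coprime p)
  (hz : ∀ z ∈ Subgroup.center P, z ≠ 1 → fixOf φ z = ⊥)

include hcopV hz in
/-- If all the norms of `x` under the `e w^i` vanish, so does `x`. -/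
theorem eq_one_of_norms {e w : P} (hw : w ∈ Subgroup.center P) (hw1 : orderOf w = p)
    {x : V} (hx : ∀ i < p, normOf φ p (e * w ^ i) x = 1) : x = 1 := by
  have hzero : ∀ k ∈ Finset.range p, ∏ i ∈ Finset.range p, φ ((e * w ^ i) ^ k) x
      = if k = 0 then x ^ p else 1 := by
    intro k hk
    split_ifs with h0
    · simp [h0]
    · have hwk : w ^ k ≠ 1 := pow_ne_one_of_lt_orderOf h0 (hw1 ▸ Finset.mem_range.mp hk)
      have hwkp : (w ^ k) ^ p = 1 := by
        rw [← pow_mul, mul_comm, pow_mul, ← hw1, pow_orderOf_eq_one, one_pow]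
      have hin : normOf φ p (w ^ k) x = 1 := by
        have := normOf_mem φ hwkp x
        rwa [hz _ (Subgroup.pow_mem _ hw k) hwk, Subgroup.mem_bot] at this
      have hstep : ∀ i : ℕ, φ ((e * w ^ i) ^ k) x = φ (e ^ k) (φ ((w ^ k) ^ i) x) := fun i => by
        rw [← MulAut.mul_apply, ← map_mul, ← pow_mul, mul_comm k i, pow_mul,
          Commute.mul_pow (Commute.pow_right ((Subgroup.mem_center_iff.mp hw) e) i)]
      rw [Finset.prod_congr rfl (fun i _ => hstep i), ← map_prod]
      have hin' : ∏ i ∈ Finset.range p, φ ((w ^ k) ^ i) x = 1 := hin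
      rw [hin', map_one]
  have htot : (1 : V) = x ^ p := by
    calc (1 : V) = ∏ i ∈ Finset.range p, normOf φ p (e * w ^ i) x :=
          (Finset.prod_eq_one fun i hi => hx i (Finset.mem_range.mp hi)).symm
      _ = ∏ i ∈ Finset.range p, ∏ k ∈ Finset.range p, φ ((e * w ^ i) ^ k) x := rfl
      _ = ∏ k ∈ Finset.range p, ∏ i ∈ Finset.range p, φ ((e * w ^ i) ^ k) x := Finset.prod_comm
      _ = x ^ p := by
          rw [Finset.prod_congr rfl hzero, Finset.prod_ite_eq' (Finset.range p) 0]
          simp [hp.out.pos]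
  exact (powCoprime hcopV).injective (by simp [powCoprime_apply, ← htot])

include hcopV hz in
/-- `Fix(c)` injects into `Fix(e)` when `[c, e]` is central of order `p`. -/
theorem card_fixOf_le {e c : P} (hep : e ^ p = 1)
    (hw : c * e * c⁻¹ * e⁻¹ ∈ Subgroup.center P) (hwo : orderOf (c * e * c⁻¹ * e⁻¹) = p) :
    Nat.card (fixOf φ c) ≤ Nat.card (fixOf φ e) := by
  set w := c * e * c⁻¹ * e⁻¹ with hwdef
  have hcomm : ∀ g, Commute g w := Subgroup.mem_center_iff.mp hw
  have hconj : ∀ i : ℕ, c * (e * w ^ i) * c⁻¹ = e * w ^ (i + 1) := by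
    intro i
    have h1 : c * e * c⁻¹ = w * e := by rw [hwdef]; group
    calc c * (e * w ^ i) * c⁻¹ = c * e * (w ^ i * c⁻¹) := by group
      _ = c * e * (c⁻¹ * w ^ i) := by rw [((hcomm c⁻¹).pow_right i).eq]
      _ = c * e * c⁻¹ * w ^ i := by group
      _ = e * w ^ (i + 1) := by rw [h1, ← (hcomm e).eq, pow_succ']; group
  refine Nat.card_le_card_of_injective
    (fun x : fixOf φ c => (⟨normOf φ p e x.1, normOf_mem φ hep _⟩ : fixOf φ e)) ?_
  intro x y hxy
  suffices key : ∀ n : V, φ c n = n → normOf φ p e n = 1 → n = 1 by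
    have hc : φ c (x.1 * y.1⁻¹) = x.1 * y.1⁻¹ :=
      (fixOf φ c).mul_mem x.2 ((fixOf φ c).inv_mem y.2)
    have hxy' : normOf φ p e (x.1 * y.1⁻¹) = 1 := by
      rw [map_mul, map_inv, mul_inv_eq_one]; exact congrArg Subtype.val hxy
    exact Subtype.ext (mul_inv_eq_one.mp (key _ hc hxy'))
  intro n hc hxy'
  have hall : ∀ i : ℕ, normOf φ p (e * w ^ i) n = 1 := by
    intro i
    induction i with
    | zero => simpa using hxy'
    | succ i ih =>
      have := congrArg (φ c) ih
      rw [map_one] at this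
      refine Eq.trans ?_ this
      show ∏ k ∈ Finset.range p, φ ((e * w ^ (i + 1)) ^ k) n
        = φ c (∏ k ∈ Finset.range p, φ ((e * w ^ i) ^ k) n)
      rw [map_prod]
      refine Finset.prod_congr rfl fun k _ => ?_
      rw [← hconj i, conj_pow, map_mul, MulAut.mul_apply]
      have hci : φ c⁻¹ n = n := by
        conv_lhs => rw [← hc]
        rw [← MulAut.mul_apply, ← map_mul, inv_mul_cancel, map_one, MulAut.one_apply]
      rw [hci, map_mul, MulAut.mul_apply]
  exact eq_one_of_norms φ hcopV hz hw hwo (fun i _ => hall i)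

end Fix

section Abelian

/-- A normal subgroup of prime order of a `p`-group is central. -/
theorem le_center_of_card_prime {P : Type v} [Group P] [Finite P] {p : ℕ} [hp : Fact p.Prime]
    (hP : IsPGroup p P) (A : Subgroup P) [A.Normal] (hA : Nat.card A = p) : A ≤ Subgroup.center P := by
  haveI := hP.isNilpotent
  have hne : A ≠ ⊥ := fun h => hp.out.ne_one (by rw [← hA, h, Subgroup.card_bot])
  have h := Cfsg.Agent.Grp.inf_center_ne_bot A hne
  haveI : Fact (Nat.card A).Prime := ⟨hA ▸ hp.out⟩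
  rcases ((Subgroup.center P).subgroupOf A).eq_bot_or_eq_top_of_prime_card with h1 | h1
  · exact absurd (disjoint_iff.mp (Subgroup.subgroupOf_eq_bot.mp h1)) (by rwa [inf_comm])
  · exact Subgroup.subgroupOf_eq_top.mp h1

/-- The abelian case. -/
theorem abelian {p : ℕ} [hp : Fact p.Prime] (hp3 : 3 ≤ p) : ∀ (n : ℕ) (P : Type v) [Group P]
    [Finite P] (V : Type u) [CommGroup V] [Finite V], Nat.card V = n → IsPGroup p P →
    (Nat.card V).Coprime p → ∀ (φ : P →* MulAut V) (C D : Set P),
    Subgroup.closure C = ⊤ → Subgroup.closure D = ⊤ →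
    (∀ x : V, ∀ c ∈ C, ∀ d ∈ D, ∃ y, φ d y = y ∧ φ c (y⁻¹ * x) = y⁻¹ * x) →
    ∀ g, φ g = 1 := by
  intro n
  induction n using Nat.strong_induction_on with
  | _ n IH =>
    intro P _ _ V _ _ hn hP hcopV φ C D hC hD hCD
    haveI := Fintype.ofFinite P
    obtain ⟨k, hk⟩ := hP.exists_card_eq
    have hcopP : (Nat.card V).Coprime (Fintype.card P) := by
      rw [← Nat.card_eq_fintype_card, hk]; exact Nat.Coprime.pow_right k hcopV
    -- an invariant nontrivial subgroup whose complement has no fixed points is everything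
    have hquot : ∀ W : Subgroup V, W ≠ ⊥ → ∀ hW : (∀ g, ∀ x ∈ W, φ g x ∈ W),
        ∀ g x, φ g x * x⁻¹ ∈ W := by
      intro W hWne hW g x
      have hmap : ∀ g, W.map (φ g).toMonoidHom = W := by
        intro g
        apply le_antisymm
        · rintro _ ⟨x, hx, rfl⟩; exact hW g x hx
        · intro x hx
          refine ⟨φ g⁻¹ x, hW _ x hx, ?_⟩
          show φ g (φ g⁻¹ x) = x
          rw [← MulAut.mul_apply, ← map_mul, mul_inv_cancel, map_one, MulAut.one_apply]
      let ψ : P →* MulAut (V ⧸ W) :=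
        { toFun := fun g => QuotientGroup.congr W W (φ g) (hmap g)
          map_one' := by
            ext q; induction q using QuotientGroup.induction_on with
            | H z => show ((φ 1 z : V) : V ⧸ W) = (z : V ⧸ W); rw [map_one]; rfl
          map_mul' := fun a b => by
            ext q; induction q using QuotientGroup.induction_on with
            | H z => show ((φ (a * b) z : V) : V ⧸ W) = ((φ a (φ b z) : V) : V ⧸ W); rw [map_mul]; rfl }
      have hlt : Nat.card (V ⧸ W) < n := by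
        rw [← hn, Subgroup.card_eq_card_quotient_mul_card_subgroup W]
        refine (Nat.lt_mul_iff_one_lt_right Nat.card_pos).mpr ?_
        exact (Subgroup.one_lt_card_iff_ne_bot W).mpr hWne
      have := IH _ hlt P (V ⧸ W) rfl hP
        (Nat.Coprime.coprime_dvd_left (Subgroup.card_quotient_dvd_card W) hcopV) ψ C D hC hD (by
        intro q c hc d hd
        induction q using QuotientGroup.induction_on with
        | H x =>
          obtain ⟨y, h1, h2⟩ := hCD x c hc d hd
          refine ⟨(y : V ⧸ W), ?_, ?_⟩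
          · show ((φ d y : V) : V ⧸ W) = _
            rw [h1]
          · show ((φ c (y⁻¹ * x) : V) : V ⧸ W) = _
            rw [h2]; rfl) g
      have h1 : ((φ g x : V) : V ⧸ W) = (x : V ⧸ W) := by
        exact DFunLike.congr_fun this (x : V ⧸ W)
      rw [← QuotientGroup.eq_one_iff, QuotientGroup.mk_mul, h1, QuotientGroup.mk_inv,
        mul_inv_cancel]
    -- no nontrivial fixed points
    let F : Subgroup V := ⨅ g, fixOf φ g
    by_cases hF : F = ⊥
    swap
    · intro g
      have hmemF : ∀ {x}, x ∈ F ↔ ∀ g, φ g x = x := fun {x} => by simp [F, mem_fixOf]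
      have hq := hquot F hF (fun g x hx => by rw [hmemF.mp hx g]; exact hx) g
      refine MulEquiv.ext fun x => ?_
      obtain ⟨w, hw⟩ : ∃ w, φ g x * x⁻¹ = w := ⟨_, rfl⟩
      have hwF : φ g w = w := hmemF.mp (hw ▸ hq x) g
      have hwx : φ g x = w * x := by rw [← hw, inv_mul_cancel_right]
      have hpow : ∀ j : ℕ, φ (g ^ j) x = w ^ j * x := by
        intro j
        induction j with
        | zero => simp
        | succ j ih =>
          rw [pow_succ' g, map_mul, MulAut.mul_apply, ih, map_mul, map_pow, hwF,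
            hwx, pow_succ w, mul_assoc]
      have h1 := hpow (Nat.card P)
      rw [pow_card_eq_one', map_one, MulAut.one_apply] at h1
      have h2 : w ^ Nat.card P = 1 := mul_right_cancel (h1.symm.trans (one_mul x).symm)
      have h3 : w = 1 := (powCoprime (by rwa [Nat.card_eq_fintype_card (α := P)] : (Nat.card V).Coprime (Nat.card P))).injective
        (by simp [powCoprime_apply, h2, -Nat.card_eq_fintype_card])
      exact mul_inv_eq_one.mp (hw.trans h3)
    have hfull : ∀ W : Subgroup V, W ≠ ⊥ → (∀ g, ∀ x ∈ W, φ g x ∈ W) → W = ⊤ := by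
      intro W hWne hW
      refine eq_top_iff.mpr fun x _ => ?_
      have hy : ∏ g, φ g x = 1 := by
        have : (∏ g, φ g x) ∈ F := by
          simp only [F, Subgroup.mem_iInf, mem_fixOf]
          intro h
          rw [map_prod]
          exact Fintype.prod_equiv (Equiv.mulLeft h) _ _ (fun g => by
            rw [← MulAut.mul_apply, ← map_mul]; rfl)
        rwa [hF, Subgroup.mem_bot] at this
      have : x ^ Fintype.card P ∈ W := by
        have hd : ∏ g, (φ g x * x⁻¹) ∈ W := W.prod_mem fun g _ => hquot W hWne hW g x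
        rw [Finset.prod_mul_distrib, hy, one_mul, Finset.prod_const, Finset.card_univ, inv_pow] at hd
        exact W.inv_mem_iff.mp hd
      obtain ⟨m, hm⟩ := exists_pow_eq_self_of_coprime
        (hcopP.symm.coprime_dvd_right (orderOf_dvd_natCard x))
      rw [← hm]; exact W.pow_mem this m
    -- pass to the image
    let Q := φ.range
    suffices hQ : Subsingleton Q from fun g =>
      congrArg Subtype.val (Subsingleton.elim (⟨φ g, g, rfl⟩ : Q) 1)
    let ι : Q →* MulAut V := Q.subtype
    let r := φ.rangeRestrict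
    have hsurj : Function.Surjective r := φ.rangeRestrict_surjective
    have hQp : IsPGroup p Q := hP.of_surjective r hsurj
    have hgen : ∀ S : Set P, Subgroup.closure S = ⊤ → Subgroup.closure (r '' S) = ⊤ := by
      intro S hS
      rw [← MonoidHom.map_closure, hS, Subgroup.map_top_of_surjective _ hsurj]
    have hzQ : ∀ z ∈ Subgroup.center Q, z ≠ 1 → fixOf ι z = ⊥ := by
      intro z hz hz1
      by_contra hne
      have := hfull _ hne (fun g x hx =>
        fixOf_comm ι (g := r g) (Subgroup.mem_center_iff.mp hz (r g)) hx)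
      exact hz1 (Subtype.ext (MulEquiv.ext fun x => this.ge (Subgroup.mem_top x)))
    rw [← not_nontrivial_iff_subsingleton]
    intro hnt
    have hntV : Nontrivial V := by
      by_contra h
      rw [not_nontrivial_iff_subsingleton] at h
      obtain ⟨a, b, hab⟩ := hnt
      exact hab (Subtype.ext (MulEquiv.ext fun x => Subsingleton.elim _ _))
    -- a pair `c, d`, `c` without fixed points, is impossible
    have hne : ∀ S : Set P, Subgroup.closure S = ⊤ → ∃ s ∈ S, r s ≠ 1 := by
      intro S hS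
      by_contra h
      push_neg at h
      have : Subgroup.closure S ≤ r.ker := (Subgroup.closure_le _).mpr h
      obtain ⟨a, b, hab⟩ := hnt
      obtain ⟨a, rfl⟩ := hsurj a
      obtain ⟨b, rfl⟩ := hsurj b
      rw [hS] at this
      exact hab ((this (Subgroup.mem_top a) : r a = 1).trans (this (Subgroup.mem_top b)).symm)
    have hmix : ∀ c ∈ C, ∀ d ∈ D, ∀ x, ∃ y, y ∈ fixOf ι (r d) ∧ y⁻¹ * x ∈ fixOf ι (r c) :=
      fun c hc d hd x => by obtain ⟨y, h1, h2⟩ := hCD x c hc d hd; exact ⟨y, h1, h2⟩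
    obtain ⟨c₀, hc₀, hc₀1⟩ := hne C hC
    obtain ⟨d₀, hd₀, hd₀1⟩ := hne D hD
    have hcop' : (Nat.card V).Coprime p := hcopV
    by_cases hcomm : ∀ a b : Q, a * b = b * a
    · -- abelian image
      have hb := hzQ _ (Subgroup.mem_center_iff.mpr fun g => hcomm g (r c₀)) hc₀1
      have hb' := hzQ _ (Subgroup.mem_center_iff.mpr fun g => hcomm g (r d₀)) hd₀1
      obtain ⟨x, hx⟩ := exists_ne (1 : V)
      obtain ⟨y, h1, h2⟩ := hmix c₀ hc₀ d₀ hd₀ x
      rw [hb', Subgroup.mem_bot] at h1
      rw [hb, Subgroup.mem_bot, h1, inv_one, one_mul] at h2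
      exact hx h2
    have hcyc : ¬ IsCyclic (⊤ : Subgroup Q) := fun h => hcomm fun a b => by
      haveI := h
      letI := IsCyclic.commGroup (α := (⊤ : Subgroup Q))
      exact congrArg Subtype.val (mul_comm (⟨a, trivial⟩ : (⊤ : Subgroup Q)) ⟨b, trivial⟩)
    obtain ⟨E, -, hEn, hEel, hEcard⟩ :=
      Cfsg.Agent.Transfer.exists_normal_elementary (by omega : p ≠ 2) hQp ⊤ hcyc
    haveI := hEn
    haveI := hQp.isNilpotent
    have hEne : E ≠ ⊥ := fun h => by
      rw [h, Subgroup.card_bot] at hEcard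
      exact (Nat.one_lt_pow two_ne_zero hp.out.one_lt).ne hEcard
    obtain ⟨z, hzE, hz1⟩ :=
      (Subgroup.ne_bot_iff_exists_ne_one).mp (Cfsg.Agent.Grp.inf_center_ne_bot E hEne) |>
        fun ⟨a, ha⟩ => (⟨a.1, a.2, fun h => ha (Subtype.ext h)⟩ : ∃ z, z ∈ E ⊓ Subgroup.center Q ∧ z ≠ 1)
    have hzo : orderOf z = p := orderOf_eq_prime (hEel.2 z hzE.1) hz1
    have hzc : Nat.card (Subgroup.zpowers z) = p := by rw [Nat.card_zpowers, hzo]
    obtain ⟨e, heE, hez⟩ : ∃ e ∈ E, e ∉ Subgroup.zpowers z := by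
      by_contra h
      push_neg at h
      have := Subgroup.card_le_of_le (H := E) h
      rw [hEcard, hzc] at this
      exact absurd this (not_le.mpr (lt_self_pow₀ hp.out.one_lt one_lt_two))
    have hep : e ^ p = 1 := hEel.2 e heE
    have hezi : ∀ i, e * z ^ i ≠ 1 := fun i h => hez (by
      rw [mul_eq_one_iff_eq_inv.mp h]; exact inv_mem (Subgroup.pow_mem _ (Subgroup.mem_zpowers z) i))
    by_cases hecent : e ∈ Subgroup.center Q
    · -- `E` central
      obtain ⟨x, hx⟩ := exists_ne (1 : V)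
      refine hx (eq_one_of_norms ι hcop' hzQ (e := e) hzE.2 hzo fun i _ => ?_)
      have hp1 : (e * z ^ i) ^ p = 1 :=
        hEel.2 _ (E.mul_mem heE (E.pow_mem hzE.1 i))
      have := normOf_mem ι hp1 x
      rwa [hzQ _ (Subgroup.mul_mem _ hecent (Subgroup.pow_mem _ hzE.2 i)) (hezi i),
        Subgroup.mem_bot] at this
    -- commutators with `e` lie in `⟨z⟩`
    haveI : (Subgroup.zpowers z).Normal := ⟨fun a ha g => by
      obtain ⟨j, rfl⟩ := Subgroup.mem_zpowers_iff.mp ha
      have hc := Commute.zpow_right (Subgroup.mem_center_iff.mp hzE.2 g : Commute g z) j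
      rw [hc.eq, mul_inv_cancel_right]; exact ⟨j, rfl⟩⟩
    have hcz : ∀ g : Q, g * e * g⁻¹ * e⁻¹ ∈ Subgroup.zpowers z := by
      intro g
      let π := QuotientGroup.mk' (Subgroup.zpowers z)
      haveI : (E.map π).Normal := hEn.map π (QuotientGroup.mk'_surjective _)
      have hle : Subgroup.zpowers z ≤ E := Subgroup.zpowers_le.mpr hzE.1
      have hcard : Nat.card (E.map π) = p := by
        have h1 := Subgroup.card_eq_card_quotient_mul_card_subgroup
          ((Subgroup.zpowers z).subgroupOf E)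
        rw [Nat.card_congr (Subgroup.subgroupOfEquivOfLe hle).toEquiv, hzc, hEcard] at h1
        have h2 : Nat.card (E.map π) = Nat.card (E ⧸ (Subgroup.zpowers z).subgroupOf E) := by
          let f := π.comp E.subtype
          have hr : f.range = E.map π := by rw [MonoidHom.range_comp, Subgroup.range_subtype]
          have hk : f.ker = (Subgroup.zpowers z).subgroupOf E := by
            rw [← MonoidHom.comap_ker, QuotientGroup.ker_mk']; rfl
          rw [← hr, ← hk]
          exact (Nat.card_congr (QuotientGroup.quotientKerEquivRange f).toEquiv).symm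
        rw [h2]
        exact Nat.eq_of_mul_eq_mul_right hp.out.pos (by rw [← h1, sq])
      have h := Subgroup.mem_center_iff.mp
        (le_center_of_card_prime (hQp.to_quotient _) _ hcard ⟨e, heE, rfl⟩) (π g)
      rw [← QuotientGroup.eq_one_iff]
      simp only [QuotientGroup.mk_mul, QuotientGroup.mk_inv]
      show π g * π e * (π g)⁻¹ * (π e)⁻¹ = 1
      rw [h]; group
    -- elements of `C` and `D` moving `e`
    have hmove : ∀ S : Set P, Subgroup.closure S = ⊤ → ∃ s ∈ S,
        r s * e * (r s)⁻¹ * e⁻¹ ∈ Subgroup.center Q ∧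
        orderOf (r s * e * (r s)⁻¹ * e⁻¹) = p := by
      intro S hS
      obtain ⟨s, hs, hs1⟩ : ∃ s ∈ S, r s * e * (r s)⁻¹ * e⁻¹ ≠ 1 := by
        by_contra h
        push_neg at h
        apply hecent
        have hle : Subgroup.closure (r '' S) ≤ Subgroup.centralizer {e} := by
          rw [Subgroup.closure_le]
          rintro _ ⟨s, hs, rfl⟩
          rw [SetLike.mem_coe, Subgroup.mem_centralizer_singleton_iff]
          exact mul_inv_eq_iff_eq_mul.mp (mul_inv_eq_one.mp (h s hs))
        rw [hgen S hS] at hle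
        exact Subgroup.mem_center_iff.mpr fun g =>
          Subgroup.mem_centralizer_singleton_iff.mp (hle (Subgroup.mem_top g))
      refine ⟨s, hs, ?_, ?_⟩
      · exact Subgroup.zpowers_le.mpr hzE.2 (hcz _)
      · refine orderOf_eq_prime ?_ hs1
        obtain ⟨j, hj⟩ := Subgroup.mem_zpowers_iff.mp (hcz (r s))
        rw [← hj, ← zpow_natCast, ← zpow_mul, mul_comm, zpow_mul, zpow_natCast, ← hzo,
          pow_orderOf_eq_one, one_zpow]
    obtain ⟨c, hc, hwc, hwco⟩ := hmove C hC
    obtain ⟨d, hd, hwd, hwdo⟩ := hmove D hD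
    -- `|V| ≤ |W|²`
    set W := fixOf ι e with hWdef
    have hV : Nat.card V ≤ Nat.card W * Nat.card W := by
      calc Nat.card V ≤ Nat.card (fixOf ι (r d) × fixOf ι (r c)) := by
            refine Nat.card_le_card_of_surjective (fun q => q.1.1 * q.2.1) fun x => ?_
            obtain ⟨y, h1, h2⟩ := hmix c hc d hd x
            exact ⟨(⟨y, h1⟩, ⟨_, h2⟩), mul_inv_cancel_left y x⟩
        _ ≤ _ := by
            rw [Nat.card_prod]
            exact Nat.mul_le_mul (card_fixOf_le ι hcop' hzQ hep hwd hwdo)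
              (card_fixOf_le ι hcop' hzQ hep hwc hwco)
    -- three independent conjugates of `W`
    set g := r c with hg
    set w := g * e * g⁻¹ * e⁻¹ with hw
    have hwne : w ≠ 1 := fun h => hp.out.ne_one (by rw [← hwco, h, orderOf_one])
    have hw2 : w ^ 2 ≠ 1 := pow_ne_one_of_lt_orderOf two_ne_zero (by rw [hwco]; omega)
    have hwcomm : ∀ a : Q, Commute a w := Subgroup.mem_center_iff.mp hwc
    have hc1 : g * e * g⁻¹ = e * w := by
      rw [(hwcomm e).eq, hw]; group
    have hc2 : g * (e * w) * g⁻¹ = e * w ^ 2 := by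
      calc g * (e * w) * g⁻¹ = g * e * (w * g⁻¹) := by group
        _ = g * e * (g⁻¹ * w) := by rw [(hwcomm g⁻¹).eq]
        _ = g * e * g⁻¹ * w := by group
        _ = e * w ^ 2 := by rw [hc1, sq, mul_assoc]
    have hcj : ∀ a : V, a ∈ W → ι g a ∈ fixOf ι (e * w) := fun a ha => hc1 ▸ conj_mem_fixOf ι ha
    have hcj2 : ∀ a : V, a ∈ W → ι g (ι g a) ∈ fixOf ι (e * w ^ 2) := fun a ha =>
      hc2 ▸ conj_mem_fixOf ι (hcj a ha)
    have hzw := hzQ w hwc hwne
    have hzw2 := hzQ _ (Subgroup.pow_mem _ hwc 2) hw2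
    have hind : ∀ a ∈ W, ∀ b ∈ fixOf ι (e * w), ∀ b' ∈ fixOf ι (e * w ^ 2),
        a * b * b' = 1 → a = 1 ∧ b = 1 ∧ b' = 1 := by
      intro a ha b hb b' hb' h1
      have he1 : Commute e (e * w) := (Commute.refl e).mul_right (hwcomm e)
      have he2 : Commute e (e * w ^ 2) := (Commute.refl e).mul_right ((hwcomm e).pow_right 2)
      have h2 := congrArg (ι e) h1
      rw [map_mul, map_mul, map_one, (ha : ι e a = a)] at h2
      have h3 : ι e b * b⁻¹ = (ι e b' * b'⁻¹)⁻¹ := by
        have h4 : ι e b * ι e b' = b * b' := by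
          rw [mul_assoc] at h1 h2
          exact mul_left_cancel (h2.trans h1.symm)
        rw [eq_inv_iff_mul_eq_one]
        calc ι e b * b⁻¹ * (ι e b' * b'⁻¹) = (ι e b * ι e b') * (b * b')⁻¹ := by
              rw [mul_inv]; ac_rfl
          _ = 1 := by rw [h4, mul_inv_cancel]
      have hm1 : ι e b * b⁻¹ ∈ fixOf ι (e * w) :=
        mul_mem (fixOf_comm ι he1 hb) (inv_mem hb)
      have hm2 : ι e b * b⁻¹ ∈ fixOf ι (e * w ^ 2) := by
        rw [h3]; exact inv_mem (mul_mem (fixOf_comm ι he2 hb') (inv_mem hb'))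
      have hm3 : ι e b * b⁻¹ = 1 := by
        have : ι e b * b⁻¹ ∈ fixOf ι w := fixOf_mul_left ι hm1 (by rwa [mul_assoc, ← sq])
        rwa [hzw, Subgroup.mem_bot] at this
      have hb1 : b = 1 := by
        have : b ∈ fixOf ι w := fixOf_mul_left ι (mul_inv_eq_one.mp hm3) hb
        rwa [hzw, Subgroup.mem_bot] at this
      have hb2 : b' = 1 := by
        rw [hm3] at h3
        have : b' ∈ fixOf ι (w ^ 2) := fixOf_mul_left ι (mul_inv_eq_one.mp (inv_eq_one.mp h3.symm)) hb'
        rwa [hzw2, Subgroup.mem_bot] at this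
      exact ⟨by simpa [hb1, hb2] using h1, hb1, hb2⟩
    have hV3 : Nat.card W * Nat.card W * Nat.card W ≤ Nat.card V := by
      rw [← Nat.card_prod, ← Nat.card_prod]
      refine Nat.card_le_card_of_injective
        (fun q : (W × W) × W => q.1.1.1 * ι g q.1.2.1 * ι g (ι g q.2.1)) ?_
      rintro ⟨⟨a, b⟩, b'⟩ ⟨⟨a₁, b₁⟩, b'₁⟩ h
      have := hind (a.1 * a₁.1⁻¹) (mul_mem a.2 (inv_mem a₁.2))
        (ι g b.1 * (ι g b₁.1)⁻¹) (mul_mem (hcj _ b.2) (inv_mem (hcj _ b₁.2)))
        (ι g (ι g b'.1) * (ι g (ι g b'₁.1))⁻¹) (mul_mem (hcj2 _ b'.2) (inv_mem (hcj2 _ b'₁.2))) (by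
          have h' := mul_inv_eq_one.mpr h
          simp only [mul_inv] at h'
          rw [← h']; ac_rfl)
      obtain ⟨h1, h2, h3⟩ := this
      simp only [mul_inv_eq_one, EmbeddingLike.apply_eq_iff_eq] at h1 h2 h3
      exact Prod.ext (Prod.ext (Subtype.ext h1) (Subtype.ext h2)) (Subtype.ext h3)
    have hW1 : Nat.card W = 1 := by
      have hpos : 0 < Nat.card W := Nat.card_pos
      by_contra hne
      have h2 : 2 ≤ Nat.card W := by omega
      nlinarith [Nat.mul_pos hpos hpos]
    rw [hW1] at hV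
    exact absurd hV (not_le.mpr (Finite.one_lt_card.trans_le' (by simp)))

end Abelian

section Main

variable {G : Type u} [Group G] [Finite G] {p : ℕ} [hp : Fact p.Prime]

theorem exists_split {P M : Subgroup G} (hPp : IsPGroup p P) (hM : (Nat.card M).Coprime p)
    (hPM : P ≤ Subgroup.normalizer (M : Set G)) {x c d : G} (hx : x ∈ M) (hc : c ∈ P) (hd : d ∈ P)
    (h : IsPGroup p ↥(Subgroup.closure ({x * c * x⁻¹, d} : Set G))) :
    ∃ m ∈ M, d * m * d⁻¹ = m ∧ c * (m⁻¹ * x) * c⁻¹ = m⁻¹ * x := by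
  obtain ⟨k, hk⟩ := hPp.exists_card_eq
  have hcop : (Nat.card M).Coprime (Nat.card P) := hk ▸ Nat.Coprime.pow_right k hM
  have hdisj : M ⊓ P = ⊥ := Subgroup.inf_eq_bot_of_coprime hcop
  have hle : Subgroup.closure ({x * c * x⁻¹, d} : Set G) ≤ P ⊔ M := by
    rw [Subgroup.closure_le]
    have h1 : x ∈ P ⊔ M := Subgroup.mem_sup_right hx
    have h2 : c ∈ P ⊔ M := Subgroup.mem_sup_left hc
    rintro _ (rfl | rfl)
    · exact mul_mem (mul_mem h1 h2) (inv_mem h1)
    · exact Subgroup.mem_sup_left hd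
  obtain ⟨Q, hQ⟩ := (h.comap_subtype (K := P ⊔ M)).exists_le_sylow
  have hmem : ∀ {g : G}, g ∈ P ⊔ M → ∃ a ∈ P, ∃ m ∈ M, a * m = g := by
    intro g hg
    have : g ∈ (↑(P ⊔ M) : Set G) := hg
    rw [Subgroup.coe_mul_of_left_le_normalizer_right P M hPM] at this
    exact Set.mem_mul.mp this
  have hidx : ¬ p ∣ (P.subgroupOf (P ⊔ M)).index := by
    have h1 := (P.subgroupOf (P ⊔ M)).index_mul_card
    have h2 := Cfsg.Agent.Grp.card_sup_mul_card_inf hPM
    rw [inf_comm, hdisj, Subgroup.card_bot, mul_one] at h2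
    rw [Nat.card_congr (Subgroup.subgroupOfEquivOfLe le_sup_left).toEquiv, h2, mul_comm] at h1
    rw [Nat.eq_of_mul_eq_mul_left Nat.card_pos h1]
    exact fun hd => hp.out.ne_one (Nat.eq_one_of_dvd_coprimes hM.symm dvd_rfl hd)
  let S : Sylow p ↥(P ⊔ M) := (hPp.comap_subtype (K := P ⊔ M)).toSylow hidx
  obtain ⟨g, hg⟩ := MulAction.exists_smul_eq ↥(P ⊔ M) Q S
  obtain ⟨a, ha, m, hm, ham⟩ := hmem g.2
  have hkey : ∀ q ∈ Subgroup.closure ({x * c * x⁻¹, d} : Set G), m * q * m⁻¹ ∈ P := by
    intro q hq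
    have hqQ : (⟨q, hle hq⟩ : ↥(P ⊔ M)) ∈ (Q : Subgroup ↥(P ⊔ M)) := hQ hq
    have : g * ⟨q, hle hq⟩ * g⁻¹ ∈ (S : Subgroup ↥(P ⊔ M)) := by
      rw [← hg]
      exact ⟨⟨q, hle hq⟩, hqQ, rfl⟩
    have h1 : (g : G) * q * (g : G)⁻¹ ∈ P := this
    rw [← ham] at h1
    have h2 := P.mul_mem (P.mul_mem (P.inv_mem ha) h1) ha
    convert h2 using 1; group
  have hkill : ∀ u ∈ M, ∀ a ∈ P, u * a * u⁻¹ ∈ P → a * u⁻¹ * a⁻¹ = u⁻¹ := by
    intro u hu a ha' hua
    have h1 : u * a * u⁻¹ * a⁻¹ ∈ P := P.mul_mem hua (P.inv_mem ha')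
    have h2 : u * a * u⁻¹ * a⁻¹ ∈ M := by
      have := M.mul_mem hu ((Subgroup.mem_normalizer_iff.mp (hPM ha') _).mp (M.inv_mem hu))
      convert this using 1; group
    have h3 : u * a * u⁻¹ * a⁻¹ ∈ (⊥ : Subgroup G) := hdisj ▸ ⟨h2, h1⟩
    rw [Subgroup.mem_bot] at h3
    calc a * u⁻¹ * a⁻¹ = u⁻¹ * (u * a * u⁻¹ * a⁻¹) := by group
      _ = u⁻¹ := by rw [h3, mul_one]
  refine ⟨m⁻¹, M.inv_mem hm, hkill m hm d hd (hkey d (Subgroup.subset_closure (by simp))), ?_⟩
  have h1 := hkey _ (Subgroup.subset_closure (by simp) : x * c * x⁻¹ ∈ Subgroup.closure _)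
  have h2 := hkill (m * x) (M.mul_mem hm hx) c hc (by convert h1 using 1; group)
  have h3 := congrArg (·⁻¹) h2
  simp only [mul_inv_rev, inv_inv] at h3 ⊢
  convert h3 using 1 <;> group

theorem solvable_case {P : Subgroup G} (hPp : IsPGroup p P) (hp3 : 3 ≤ p) (C D : Set G)
    (hC : Subgroup.closure C = P) (hD : Subgroup.closure D = P) : ∀ (n : ℕ) (M : Subgroup G),
    Nat.card M = n → P ≤ Subgroup.normalizer (M : Set G) → (Nat.card M).Coprime p →
    Group.IsSolvable M →
    (∀ x ∈ M, ∀ c ∈ C, ∀ d ∈ D, IsPGroup p ↥(Subgroup.closure ({x * c * x⁻¹, d} : Set G))) →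
    ∀ a ∈ P, ∀ m ∈ M, a * m * a⁻¹ = m := by
  intro n
  induction n using Nat.strong_induction_on with
  | _ n IH =>
    intro M hn hPM hM hsolv h a ha m hm
    rcases eq_or_ne M ⊥ with rfl | hne
    · rw [Subgroup.mem_bot] at hm; subst hm; group
    haveI := hsolv
    have hnt : Nontrivial M := (Subgroup.nontrivial_iff_ne_bot M).mpr hne
    have hCP : ∀ c ∈ C, c ∈ P := fun c hc => hC ▸ Subgroup.subset_closure hc
    have hDP : ∀ d ∈ D, d ∈ P := fun d hd => hD ▸ Subgroup.subset_closure hd
    have hconj : ∀ (b : P) (x : G), x ∈ M → (b : G) * x * (b : G)⁻¹ ∈ M := fun b x hx =>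
      (Subgroup.mem_normalizer_iff.mp (hPM b.2) x).mp hx
    let ψ : P →* MulAut M :=
      { toFun := fun b =>
          { toFun := fun x => ⟨_, hconj b x.1 x.2⟩
            invFun := fun x => ⟨_, hconj b⁻¹ x.1 x.2⟩
            left_inv := fun x => Subtype.ext (by simp [mul_assoc])
            right_inv := fun x => Subtype.ext (by simp [mul_assoc])
            map_mul' := fun x y => Subtype.ext (by simp [mul_assoc]) }
        map_one' := by ext x; simp
        map_mul' := fun b b' => by ext x; simp [mul_assoc] }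
    let φ : P →* MulAut (Abelianization M) :=
      { toFun := fun b => (ψ b).abelianizationCongr
        map_one' := by rw [map_one]; exact abelianizationCongr_refl
        map_mul' := fun b b' => by
          rw [map_mul]; exact (abelianizationCongr_trans (ψ b') (ψ b)).symm }
    have hgen : ∀ S : Set G, Subgroup.closure S = P →
        Subgroup.closure ((↑) ⁻¹' S : Set P) = ⊤ := by
      intro S hS
      subst hS
      exact Subgroup.closure_closure_coe_preimage
    have hcopA : (Nat.card (Abelianization M)).Coprime p :=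
      Nat.Coprime.coprime_dvd_left (Subgroup.card_quotient_dvd_card (commutator M)) hM
    have htriv := abelian hp3 _ P (Abelianization M) rfl hPp hcopA φ _ _ (hgen C hC) (hgen D hD)
      (by
        intro q c hc d hd
        obtain ⟨x, rfl⟩ := QuotientGroup.mk_surjective q
        obtain ⟨y, hy, h1, h2⟩ := exists_split hPp hM hPM x.2 c.2 d.2 (h x x.2 c hc d hd)
        refine ⟨Abelianization.of ⟨y, hy⟩, ?_, ?_⟩
        · show (ψ d).abelianizationCongr (Abelianization.of _) = _
          rw [abelianizationCongr_of]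
          exact congrArg Abelianization.of (Subtype.ext h1)
        · show (ψ c).abelianizationCongr (Abelianization.of (⟨y, hy⟩⁻¹ * x)) = Abelianization.of _
          rw [abelianizationCongr_of]
          exact congrArg Abelianization.of (Subtype.ext h2))
    set M' : Subgroup G := (commutator M).map M.subtype with hM'
    have hlt : Nat.card M' < n := by
      rw [hM', Subgroup.card_map_of_injective M.subtype_injective, ← hn]
      refine lt_of_le_of_ne (Subgroup.card_le_card_group _) fun he => ?_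
      exact (Group.IsSolvable.commutator_lt_top_of_nontrivial M).ne (Subgroup.eq_top_of_card_eq _ he)
    have hin : ∀ b ∈ P, ∀ x ∈ M, b * x * b⁻¹ * x⁻¹ ∈ M' := by
      intro b hb x hx
      have h1 : Abelianization.of (ψ ⟨b, hb⟩ ⟨x, hx⟩) = Abelianization.of ⟨x, hx⟩ := by
        have := DFunLike.congr_fun (htriv ⟨b, hb⟩) (Abelianization.of ⟨x, hx⟩)
        change (ψ ⟨b, hb⟩).abelianizationCongr _ = _ at this
        rwa [abelianizationCongr_of] at this
      have h2 : ψ ⟨b, hb⟩ ⟨x, hx⟩ * (⟨x, hx⟩ : M)⁻¹ ∈ commutator M := by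
        rw [← Abelianization.ker_of, MonoidHom.mem_ker, map_mul, map_inv, h1, mul_inv_cancel]
      exact ⟨_, h2, rfl⟩
    have hle' : M' ≤ M := Subgroup.map_subtype_le _
    have hfix : ∀ b ∈ P, ∀ x ∈ M', b * x * b⁻¹ = x := by
      refine IH _ hlt M' rfl ?_ (Nat.Coprime.coprime_dvd_left (Subgroup.card_dvd_of_le hle') hM)
        ?_ (fun x hx => h x (hle' hx))
      · intro b hb
        rw [Subgroup.mem_normalizer_iff]
        have hstep : ∀ b ∈ P, ∀ x ∈ M', b * x * b⁻¹ ∈ M' := fun b hb x hx => by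
          have := M'.mul_mem (hin b hb x (hle' hx)) hx
          rwa [inv_mul_cancel_right] at this
        exact fun x => ⟨hstep b hb x, fun hx => by
          have := hstep b⁻¹ (P.inv_mem hb) _ hx
          simpa [mul_assoc] using this⟩
      · exact solvable_of_solvable_injective (Subgroup.inclusion_injective hle')
    obtain ⟨w, hw⟩ : ∃ w, a * m * a⁻¹ * m⁻¹ = w := ⟨_, rfl⟩
    have hwM : w ∈ M' := hw ▸ hin a ha m hm
    have hpow : ∀ j : ℕ, a ^ j * m * (a ^ j)⁻¹ = w ^ j * m := by
      intro j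
      induction j with
      | zero => simp
      | succ j ih =>
        have h1 : a * w ^ j * a⁻¹ = w ^ j := by rw [← conj_pow, hfix a ha w hwM]
        calc a ^ (j + 1) * m * (a ^ (j + 1))⁻¹ = a * (a ^ j * m * (a ^ j)⁻¹) * a⁻¹ := by group
          _ = (a * w ^ j * a⁻¹) * (a * m * a⁻¹ * m⁻¹) * m := by rw [ih]; group
          _ = w ^ (j + 1) * m := by rw [h1, hw, pow_succ]
    obtain ⟨k, hk⟩ := hPp.exists_card_eq
    have h1 := hpow (Nat.card P)
    have hap : a ^ Nat.card P = 1 := congrArg Subtype.val (pow_card_eq_one' (x := (⟨a, ha⟩ : P)))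
    rw [hap, one_mul, inv_one, mul_one] at h1
    have h2 : w ^ Nat.card P = 1 := mul_right_cancel (h1.symm.trans (one_mul m).symm)
    have h3 : (⟨w, hle' hwM⟩ : M) = 1 := (powCoprime (hk ▸ Nat.Coprime.pow_right k hM :
      (Nat.card M).Coprime (Nat.card P))).injective
      (Subtype.ext (by simp [powCoprime_apply, h2]))
    exact mul_inv_eq_one.mp (hw.trans (congrArg Subtype.val h3))

theorem centralizes {P N : Subgroup G} (hPp : IsPGroup p P) (hp3 : 3 ≤ p) (C D : Set G)
    (hC : Subgroup.closure C = P) (hD : Subgroup.closure D = P)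
    (hPN : P ≤ Subgroup.normalizer (N : Set G)) (hN : (Nat.card N).Coprime p)
    (h : ∀ x ∈ N, ∀ c ∈ C, ∀ d ∈ D, IsPGroup p ↥(Subgroup.closure ({x * c * x⁻¹, d} : Set G))) :
    ⁅P, N⁆ = ⊥ := by
  obtain ⟨k, hk⟩ := hPp.exists_card_eq
  haveI := hPp.isNilpotent
  suffices hle : N ≤ Subgroup.centralizer (P : Set G) by
    rw [Subgroup.commutator_eq_bot_iff_le_centralizer]
    exact Subgroup.le_centralizer_iff.mp hle
  have hdvd : Nat.card N ∣ Nat.card ↥(N ⊓ Subgroup.centralizer (P : Set G)) := by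
    rw [← Nat.factorization_prime_le_iff_dvd Nat.card_pos.ne' Nat.card_pos.ne']
    intro q hq
    haveI : Fact q.Prime := ⟨hq⟩
    obtain ⟨X, hX, hXn⟩ := Cfsg.Agent.Grp.exists_invariant_sylow P N hPN
      (hk ▸ (Nat.Coprime.pow_right k hN).symm) (Or.inl inferInstance) q
    haveI := hX.2.1.isNilpotent
    have hfix := solvable_case hPp hp3 C D hC hD _ X rfl hXn
      (Nat.Coprime.coprime_dvd_left (Subgroup.card_dvd_of_le hX.1) hN) inferInstance
      (fun x hx => h x (hX.1 hx))
    have hXle : X ≤ N ⊓ Subgroup.centralizer (P : Set G) := le_inf hX.1 fun x hx =>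
      Subgroup.mem_centralizer_iff.mpr fun a ha => mul_inv_eq_iff_eq_mul.mp (hfix a ha x hx)
    have := Subgroup.card_dvd_of_le hXle
    rw [hX.card] at this
    exact (hq.pow_dvd_iff_le_factorization Nat.card_pos.ne').mp this
  rw [← inf_eq_left]
  exact Subgroup.eq_of_le_of_card_ge inf_le_left (Nat.le_of_dvd Nat.card_pos hdvd)

end Main

end Cfsg.Agent.Lie.PComplCentral
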