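import Cfsg.Agent.Lib.Lie.Sl2PresModule
import Cfsg.Agent.Lib.Lie.Sl2PresNormal

/-! Short presentations of `SL₂(F)` and `PSL₂(F)`. -/

set_option autoImplicit false
set_option linter.unusedSectionVars false

namespace Cfsg.Agent.Lie.Sl2Pres

open Matrix Polynomial

variable {F : Type*} [Field F] [Fintype F] {p : ℕ} [Fact p.Prime] [Algebra (ZMod p) F]

theorem slH_inv (x : Fˣ) : (slH x)⁻¹ = slH x⁻¹ :=
  inv_eq_of_mul_eq_one_right (by rw [← slH_mul, mul_inv_cancel, slH_one])

theorem slH_conj (x : Fˣ) (t : F) : slH x * slU t * (slH x)⁻¹ = slU ((x : F) ^ 2 * t) := by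
  rw [mul_inv_eq_iff_eq_mul]
  refine Subtype.ext ?_
  show (slH x).val * (slU t).val = (slU ((x : F) ^ 2 * t)).val * (slH x).val
  simp [slH, slU]
  field_simp

theorem slU_pow (t : F) (n : ℕ) : slU t ^ n = slU ((n : F) * t) := by
  induction n with
  | zero => rw [pow_zero, Nat.cast_zero, zero_mul, slU_zero]
  | succ n ih => rw [pow_succ, ih, ← slU_add, Nat.cast_succ, add_mul, one_mul]

theorem slU_inv (t : F) : (slU t)⁻¹ = slU (-t) :=
  inv_eq_of_mul_eq_one_right (by rw [← slU_add, add_neg_cancel, slU_zero])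

theorem pword_slU (σ : Fˣ) {s : F} (hs : s = (σ : F) ^ 2) (P : (ZMod p)[X]) :
    pword P (slH σ) (slU 1) = slU (aeval s P) := by
  rw [aeval_eq_sum_range]
  unfold pword
  generalize P.natDegree + 1 = k
  induction k with
  | zero => rw [List.range_zero, List.map_nil, List.prod_nil, Finset.sum_range_zero, slU_zero]
  | succ k ih =>
    rw [List.range_succ, List.map_append, List.prod_append, ih, Finset.sum_range_succ, slU_add]
    congr 1
    rw [List.map_cons, List.map_nil, List.prod_singleton, slU_pow, slH_pow, slH_conj]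
    congr 1
    rw [Algebra.smul_def, mul_one, hs, Units.val_pow_eq_pow_val,
      show algebraMap (ZMod p) F (P.coeff k) = ((P.coeff k).val : F) by
        rw [← map_natCast (algebraMap (ZMod p) F), ZMod.natCast_zmod_val]]
    ring

/-- The module structure on the conjugates of `u` turns the relations into normal form data. -/
theorem bijective_of_module {G : Type*} [Group G] (π : G →* SpecialLinearGroup (Fin 2) F) {u w h a : G}
    {ω σ : Fˣ} {s : F} (gen : Subgroup.closure ({u, w, h} : Set G) = ⊤)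
    (hu : π u = slU 1) (hw : π w = slW) (hh : π h = slH ω) (ha : π a = slH σ) (hσ : s = (σ : F) ^ 2)
    (hd : AbData p a u) (hs : ∀ t : F, ∃ P : (ZMod p)[X], aeval s P = t)
    (hf : pword (minpoly (ZMod p) s) a u = 1) (hha : Commute h a) {g : (ZMod p)[X]}
    (hgs : aeval s g = (ω : F) ^ 2) (hg : h * u * h⁻¹ = pword g a u)
    (hgen : ∀ x : Fˣ, ∃ n : ℕ, x = ω ^ n) (hN : h ^ orderOf ω = 1) (hinv : w * h * w⁻¹ = h⁻¹)
    (hsq : ∃ k : ℕ, w * w = h ^ k) (hB1 : ∃ e : ℕ, w * u * w⁻¹ = u⁻¹ * h ^ e * w * u⁻¹)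
    (hB2 : (∃ (P₁ P₂ : (ZMod p)[X]) (e : ℕ), aeval s P₁ = (ω : F) ∧ aeval s P₂ = -(ω : F)⁻¹ ∧
        w * pword P₁ a u * w⁻¹ = pword P₂ a u * h ^ e * w * pword P₂ a u) ∨
      ∃ n : ℕ, ω = ω ^ (2 * n)) :
    Function.Bijective π := by
  obtain ⟨φ, φadd, φP⟩ := hd.exists_phi hs hf
  have φ1 : φ 1 = u := by rw [← map_one (aeval (R := ZMod p) s), φP, pword_one]
  have φneg : φ (-1) = u⁻¹ := by
    rw [show (-1 : F) = aeval s (-1 : (ZMod p)[X]) by rw [map_neg, map_one], φP, hd.pword_neg, pword_one]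
  refine BruhatData.bijective (φ := φ) (ω := ω)
    ⟨gen, φadd, φ1, fun t => ?_, fun t => ?_, hh, hw, hgen, hN, hinv, hsq, ?_, ?_⟩
  · obtain ⟨P, rfl⟩ := hs t
    rw [φP, hd.conj_pword hha hg, ← hgs, ← map_mul, φP]
  · obtain ⟨P, rfl⟩ := hs t
    rw [φP, map_pword, ha, hu, pword_slU σ hσ]
  · rwa [φ1, φneg]
  · rcases hB2 with ⟨P₁, P₂, e, h1, h2, he⟩ | hn
    · exact Or.inl ⟨e, by rw [← h2, ← h1, φP, φP]; exact he⟩
    · exact Or.inr hn

/-- First generator. -/
def fu : FreeGroup (Fin 3) := FreeGroup.of 0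
/-- Second generator. -/
def fw : FreeGroup (Fin 3) := FreeGroup.of 1
/-- Third generator. -/
def fh : FreeGroup (Fin 3) := FreeGroup.of 2

theorem closure_mk (rels : Set (FreeGroup (Fin 3))) :
    Subgroup.closure ({PresentedGroup.mk rels fu, PresentedGroup.mk rels fw, PresentedGroup.mk rels fh} :
      Set (PresentedGroup rels)) = ⊤ := by
  refine eq_top_iff.2 fun x _ => PresentedGroup.generated_by _ _ (fun j => ?_) x
  fin_cases j <;> exact Subgroup.subset_closure (by simp [fu, fw, fh, PresentedGroup.of])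

/-- `rels` present `SL₂(F)` on these three matrices. -/
def Presents (rels : Finset (FreeGroup (Fin 3))) (ω : Fˣ) : Prop :=
  ∃ h : ∀ r ∈ (rels : Set (FreeGroup (Fin 3))), FreeGroup.lift ![slU (1 : F), slW, slH ω] r = 1,
    Function.Bijective (PresentedGroup.toGroup h)

theorem Presents.nonempty_equiv {rels : Finset (FreeGroup (Fin 3))} {ω : Fˣ} (h : Presents rels ω) :
    Nonempty (PresentedGroup (rels : Set (FreeGroup (Fin 3))) ≃* SpecialLinearGroup (Fin 2) F) := by
  obtain ⟨h, hb⟩ := h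
  exact ⟨MulEquiv.ofBijective _ hb⟩

theorem center_SL2 {x : SpecialLinearGroup (Fin 2) F} (hx : x ∈ Subgroup.center (SpecialLinearGroup (Fin 2) F)) :
    x = 1 ∨ x = -1 := by
  obtain ⟨r, hr, hrx⟩ := Matrix.SpecialLinearGroup.mem_center_iff.1 hx
  rw [Fintype.card_fin] at hr
  have h2 : r = 1 ∨ r = -1 := by
    have : (r - 1) * (r + 1) = 0 := by linear_combination hr
    rcases mul_eq_zero.1 this with h | h
    · exact Or.inl (sub_eq_zero.1 h)
    · exact Or.inr (eq_neg_of_add_eq_zero_left h)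
  rcases h2 with rfl | rfl
  · left; exact Subtype.ext (by rw [← hrx]; simp)
  · right
    refine Subtype.ext ?_
    rw [← hrx]
    ext a b
    fin_cases a <;> fin_cases b <;> simp

theorem Presents.psl {rels : Finset (FreeGroup (Fin 3))} {ω : Fˣ} (h : Presents rels ω)
    (E : Finset (FreeGroup (Fin 3)))
    (hE : ∀ r ∈ E, FreeGroup.lift ![slU (1 : F), slW, slH ω] r ∈
      Subgroup.center (SpecialLinearGroup (Fin 2) F))
    (hE' : ∀ x ∈ Subgroup.center (SpecialLinearGroup (Fin 2) F), x = 1 ∨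
      ∃ r ∈ E, x = FreeGroup.lift ![slU (1 : F), slW, slH ω] r) :
    Nonempty (PresentedGroup ((rels ∪ E : Finset (FreeGroup (Fin 3))) : Set (FreeGroup (Fin 3))) ≃*
      Matrix.ProjectiveSpecialLinearGroup (Fin 2) F) := by
  obtain ⟨h, hb⟩ := h
  set L := FreeGroup.lift ![slU (1 : F), slW, slH ω] with hL
  let q : SpecialLinearGroup (Fin 2) F →* Matrix.ProjectiveSpecialLinearGroup (Fin 2) F :=
    QuotientGroup.mk' _
  set R : Set (FreeGroup (Fin 3)) := ((rels ∪ E : Finset (FreeGroup (Fin 3))) : Set (FreeGroup (Fin 3)))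
  have hf : ∀ x, FreeGroup.lift (fun i => q (![slU (1 : F), slW, slH ω] i)) x = q (L x) := by
    intro x
    have : FreeGroup.lift (fun i => q (![slU (1 : F), slW, slH ω] i)) = q.comp L :=
      FreeGroup.ext_hom _ _ fun i => by simp [hL]
    rw [this]; rfl
  have hR : ∀ r ∈ R, FreeGroup.lift (fun i => q (![slU (1 : F), slW, slH ω] i)) r = 1 := by
    intro r hr
    rw [hf]
    rcases Finset.mem_union.1 (Finset.mem_coe.1 hr) with hr | hr
    · rw [h r hr, map_one]
    · exact (QuotientGroup.eq_one_iff _).2 (hE r hr)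
  refine ⟨MulEquiv.ofBijective (PresentedGroup.toGroup hR) ⟨(injective_iff_map_eq_one _).2 fun x hx => ?_, fun y => ?_⟩⟩
  · induction x with
    | H z =>
      have hz : q (L z) = 1 := by rw [← hf]; exact hx
      have hz' := (QuotientGroup.eq_one_iff _).1 hz
      have key : ∀ z', L z' = L z → PresentedGroup.mk R z' = PresentedGroup.mk R z := by
        intro z' e
        have h1 : PresentedGroup.mk (rels : Set (FreeGroup (Fin 3))) z' = PresentedGroup.mk _ z :=
          hb.1 e
        have h2 : z' * z⁻¹ ∈ Subgroup.normalClosure (rels : Set (FreeGroup (Fin 3))) := by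
          rw [← PresentedGroup.mk_eq_one_iff, map_mul, map_inv, h1, mul_inv_cancel]
        have h3 := PresentedGroup.mk_eq_one_iff.2 (Subgroup.normalClosure_mono
          (show (rels : Set (FreeGroup (Fin 3))) ⊆ R from fun r hr => by
            exact Finset.mem_union_left _ hr) h2)
        rwa [map_mul, map_inv, mul_inv_eq_one] at h3
      rcases hE' _ hz' with e | ⟨r, hr, e⟩
      · rw [← key 1 (by rw [map_one, e]), map_one]
      · rw [← key r e.symm]
        exact PresentedGroup.one_of_mem (Finset.mem_union_right _ hr)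
  · obtain ⟨y', rfl⟩ := QuotientGroup.mk'_surjective _ y
    obtain ⟨x, rfl⟩ := hb.2 y'
    induction x with
    | H z => exact ⟨PresentedGroup.mk R z, hf z⟩

theorem presents_char_two_aux {ω : Fˣ} (hgen : ∀ x : Fˣ, ∃ n : ℕ, x = ω ^ n) (hp : p = 2)
    {j : ℕ} (hj : (ω : F) ^ (2 * j) = 1 + (ω : F) ^ 2)
    (hs : ∀ t : F, ∃ P : (ZMod p)[X], aeval ((ω : F) ^ 2) P = t) :
    ∃ rels : Finset (FreeGroup (Fin 3)), rels.card ≤ 5 ∧ Presents rels ω := by
  classical
  haveI : CharP F p := charP_of_injective_algebraMap (algebraMap (ZMod p) F).injective p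
  subst hp
  set s := (ω : F) ^ 2 with hsdef
  obtain ⟨P₁, hP₁⟩ := hs (ω : F)
  obtain ⟨P₂, hP₂⟩ := hs ((ω : F)⁻¹)
  set f := minpoly (ZMod 2) s
  have h2 : (2 : F) = 0 := by exact_mod_cast CharP.cast_eq_zero F 2
  have hneg : ∀ x : F, -x = x := fun x => by linear_combination -x * h2
  let rD : FreeGroup (Fin 3) := fh *
    (pword P₂ fh fu * (fw * pword P₁ fh fu * fw) * pword P₂ fh fu * fw)
  let rels : Finset (FreeGroup (Fin 3)) := {fw * fw, fw * fu * fw * (fu * fw * fu)⁻¹,
    fh ^ j * fu * (fh ^ j)⁻¹ * (fu * (fh * fu * fh⁻¹))⁻¹, pword f fh fu, rD}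
  refine ⟨rels, ?_, ?_⟩
  · refine le_trans (Finset.card_insert_le _ _) (Nat.succ_le_succ ?_)
    refine le_trans (Finset.card_insert_le _ _) (Nat.succ_le_succ ?_)
    refine le_trans (Finset.card_insert_le _ _) (Nat.succ_le_succ ?_)
    exact le_trans (Finset.card_insert_le _ _) (Nat.succ_le_succ (Finset.card_singleton _).le)
  have eu : FreeGroup.lift ![slU (1 : F), slW, slH ω] fu = slU 1 := by simp [fu]
  have ew : FreeGroup.lift ![slU (1 : F), slW, slH ω] fw = slW := by simp [fw]
  have eh : FreeGroup.lift ![slU (1 : F), slW, slH ω] fh = slH ω := by simp [fh]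
  have hev : ∀ r ∈ (rels : Set (FreeGroup (Fin 3))), FreeGroup.lift ![slU (1 : F), slW, slH ω] r = 1 := by
    intro r hr
    simp only [rels, Finset.coe_insert, Finset.coe_singleton, Set.mem_insert_iff, Set.mem_singleton_iff] at hr
    rcases hr with rfl | rfl | rfl | rfl | rfl
    · rw [map_mul, ew]
      refine Subtype.ext ?_
      show (slW : SpecialLinearGroup (Fin 2) F).val * (slW : SpecialLinearGroup (Fin 2) F).val = 1
      simp [slW, Matrix.one_fin_two, hneg]
    · simp only [map_mul, map_inv, eu, ew, mul_inv_eq_one]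
      refine Subtype.ext ?_
      show (slW : SpecialLinearGroup (Fin 2) F).val * (slU (1 : F)).val *
        (slW : SpecialLinearGroup (Fin 2) F).val =
        (slU (1 : F)).val * (slW : SpecialLinearGroup (Fin 2) F).val * (slU (1 : F)).val
      simp [slU, slW, hneg, h2, one_add_one_eq_two]
    · simp only [map_mul, map_inv, map_pow, eu, eh, mul_inv_eq_one, slH_pow, slH_conj, ← slU_add,
        Units.val_pow_eq_pow_val, mul_one, ← pow_mul, mul_comm j 2, hj, hsdef]
    · rw [map_pword, eu, eh, pword_slU ω rfl, minpoly.aeval, slU_zero]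
    · simp only [rD, map_mul, map_pword, eu, ew, eh, pword_slU ω rfl, ← hsdef, hP₁, hP₂]
      refine Subtype.ext ?_
      show (slH ω).val * ((slU ((ω : F)⁻¹)).val * ((slW : SpecialLinearGroup (Fin 2) F).val *
        (slU (ω : F)).val * (slW : SpecialLinearGroup (Fin 2) F).val) * (slU ((ω : F)⁻¹)).val *
        (slW : SpecialLinearGroup (Fin 2) F).val) = 1
      simp [slH, slU, slW, Matrix.one_fin_two, hneg, ω.ne_zero]
      ring_nf
      simp [h2, ω.ne_zero]
      linear_combination h2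
  refine ⟨hev, ?_⟩
  set π := PresentedGroup.toGroup hev
  let mk := PresentedGroup.mk (rels : Set (FreeGroup (Fin 3)))
  set u := mk fu with hu'
  set w := mk fw with hw'
  set h := mk fh with hh'
  have hone : ∀ r ∈ rels, mk r = 1 := fun r hr => PresentedGroup.one_of_mem (Finset.mem_coe.2 hr)
  have rw2 : w * w = 1 := by
    have := hone (fw * fw) (by simp [rels])
    rwa [map_mul] at this
  have winv : w⁻¹ = w := inv_eq_of_mul_eq_one_right rw2
  have rbr : w * u * w = u * w * u := by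
    have := hone (fw * fu * fw * (fu * fw * fu)⁻¹) (by simp [rels])
    rwa [map_mul, map_inv, mul_inv_eq_one, map_mul, map_mul, map_mul, map_mul] at this
  have rb : h ^ j * u * (h ^ j)⁻¹ = u * cj h u 1 := by
    have := hone (fh ^ j * fu * (fh ^ j)⁻¹ * (fu * (fh * fu * fh⁻¹))⁻¹) (by simp [rels])
    simp only [map_mul, map_inv, map_pow, mul_inv_eq_one] at this
    simpa [cj] using this
  have rf : pword f h u = 1 := by
    have := hone (pword f fh fu) (by simp [rels])
    rwa [map_pword] at this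
  have rd : h * (pword P₂ h u * (w * pword P₁ h u * w) * pword P₂ h u * w) = 1 := by
    have := hone rD (by simp [rels])
    simpa only [rD, map_mul, map_pword] using this
  have hu2 : u * u = 1 := by
    have e : w * u * w * (w * u)⁻¹ = u := by
      calc w * u * w * (w * u)⁻¹ = (w * u * w) * u⁻¹ * w⁻¹ := by group
        _ = u := by rw [rbr]; group
    calc u * u = (w * u * w * (w * u)⁻¹) * (w * u * w * (w * u)⁻¹) := by rw [e]
      _ = w * u * (w * w) * (w * u)⁻¹ := by group
      _ = 1 := by rw [rw2]; group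
  have hu2' : u⁻¹ = u := inv_eq_of_mul_eq_one_right hu2
  have hd : AbData 2 h u := by
    refine ⟨by rw [pow_two]; exact hu2, commute_all_of_shift ((Commute.refl h).pow_right j) rb ?_⟩
    have e1 : (u * cj h u 1) * (u * cj h u 1) = 1 := by
      rw [← rb]
      calc h ^ j * u * (h ^ j)⁻¹ * (h ^ j * u * (h ^ j)⁻¹) = h ^ j * (u * u) * (h ^ j)⁻¹ := by group
        _ = 1 := by rw [hu2]; group
    have e2 : cj h u 1 * cj h u 1 = 1 := by
      calc cj h u 1 * cj h u 1 = h ^ 1 * (u * u) * (h ^ 1)⁻¹ := by simp [cj, mul_assoc]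
        _ = 1 := by rw [hu2]; group
    have e3 := inv_eq_of_mul_eq_one_right e1
    rw [_root_.mul_inv_rev, inv_eq_of_mul_eq_one_right e2, hu2'] at e3
    exact e3.symm
  have hgX : h * u * h⁻¹ = pword (X : (ZMod 2)[X]) h u := by
    rw [← pow_one (X : (ZMod 2)[X]), pword_X_pow]; simp [cj]
  have inv2 : ∀ P : (ZMod 2)[X], pword P h u * pword P h u = 1 := fun P => by
    rw [← hd.pword_add, show P + P = 0 from CharTwo.add_self_eq_zero P, hd.pword_zero]
  set U := pword P₁ h u
  set U' := pword P₂ h u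
  have hY : (U' * (w * U * w) * U') * (U' * (w * U * w) * U') = 1 := by
    calc (U' * (w * U * w) * U') * (U' * (w * U * w) * U')
        = U' * (w * U * (w * ((U' * U') * w) * U * w)) * U' := by group
      _ = U' * (w * U * ((w * w) * U * w)) * U' := by rw [inv2 P₂]; group
      _ = U' * (w * ((U * U) * w)) * U' := by rw [rw2]; group
      _ = U' * (w * w) * U' := by rw [inv2 P₁]; group
      _ = 1 := by rw [rw2, mul_one, inv2 P₂]
  have hhinv : h⁻¹ = U' * (w * U * w) * U' * w := inv_eq_of_mul_eq_one_right rd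
  have hinv : w * h * w⁻¹ = h⁻¹ := by
    have hh2 : h = w * (U' * (w * U * w) * U') := by
      rw [← inv_inv h, hhinv, _root_.mul_inv_rev, winv, inv_eq_of_mul_eq_one_right hY]
    calc w * h * w⁻¹ = (w * w) * (U' * (w * U * w) * U') * w⁻¹ := by
          conv_lhs => rw [hh2]
          group
      _ = h⁻¹ := by rw [rw2, winv, one_mul, hhinv]
  set N := orderOf ω with hNdef
  have hNodd : Odd N := by
    rw [hNdef]
    refine Odd.of_dvd_nat ?_ (orderOf_dvd_natCard ω)
    rw [Nat.card_units, Nat.card_eq_fintype_card]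
    have heven : Even (Fintype.card F) :=
      Nat.even_iff.2 ((FiniteField.even_card_iff_char_two).1 (ringChar.eq F 2))
    exact Nat.Even.sub_odd Fintype.card_pos heven odd_one
  obtain ⟨m, hm⟩ : ∃ m, 2 * m = N + 1 := by obtain ⟨r, hr⟩ := hNodd; exact ⟨r + 1, by omega⟩
  have hN : h ^ N = 1 := by
    have hωpow : (ω : F) ^ (N + 1) = ω := by
      rw [pow_succ, hNdef, ← Units.val_pow_eq_pow_val, pow_orderOf_eq_one, Units.val_one, one_mul]
    have wd : ∀ P Q : (ZMod 2)[X], aeval s P = aeval s Q → pword P h u = pword Q h u := by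
      intro P Q e
      obtain ⟨R, hR⟩ := minpoly.dvd (ZMod 2) s (show aeval s (P - Q) = 0 by rw [map_sub, e, sub_self])
      have h1 := hd.pword_mul_eq_one rf R
      rw [mul_comm, ← hR, hd.pword_sub] at h1
      exact mul_inv_eq_one.1 h1
    have hU : h ^ m * u * (h ^ m)⁻¹ = U := by
      rw [show h ^ m * u * (h ^ m)⁻¹ = pword ((X : (ZMod 2)[X]) ^ m) h u from (pword_X_pow h u m).symm]
      refine wd _ _ ?_
      rw [map_pow, aeval_X, hP₁, hsdef, ← pow_mul, hm, hωpow]
    have hU' : (h ^ m)⁻¹ * u * h ^ m = U' := by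
      have e : h ^ m * U' * (h ^ m)⁻¹ = u := by
        rw [hd.conj_a_pow]
        refine (wd _ 1 ?_).trans (pword_one h u)
        rw [map_mul, map_pow, aeval_X, hP₂, map_one, hsdef, ← pow_mul, hm, hωpow,
          mul_inv_cancel₀ ω.ne_zero]
      calc (h ^ m)⁻¹ * u * h ^ m = (h ^ m)⁻¹ * (h ^ m * U' * (h ^ m)⁻¹) * h ^ m := by rw [e]
        _ = U' := by group
    have hwm : w * h ^ m * w⁻¹ = (h ^ m)⁻¹ := by rw [← conj_pow, hinv, inv_pow]
    have h1 : w * U * w = U' * ((h ^ m)⁻¹ * (h ^ m)⁻¹) * w * U' := by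
      calc w * U * w = (w * h ^ m * w⁻¹) * (w * u * w) * (w⁻¹ * (h ^ m)⁻¹ * w) := by rw [← hU]; group
        _ = (h ^ m)⁻¹ * (u * w * u) * (w⁻¹ * (h ^ m)⁻¹ * w) := by rw [hwm, rbr]
        _ = ((h ^ m)⁻¹ * u * h ^ m) * ((h ^ m)⁻¹ * w * h ^ m) * ((h ^ m)⁻¹ * u * h ^ m) *
            ((h ^ m)⁻¹ * (w⁻¹ * (h ^ m)⁻¹ * w)) := by group
        _ = _ := by
          have e3 : (h ^ m)⁻¹ * w * h ^ m = (h ^ m)⁻¹ * (h ^ m)⁻¹ * w := by
            calc (h ^ m)⁻¹ * w * h ^ m = (h ^ m)⁻¹ * (w * h ^ m * w⁻¹) * w := by group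
              _ = _ := by rw [hwm]
          have e4 : (h ^ m)⁻¹ * (w⁻¹ * (h ^ m)⁻¹ * w) = 1 := by
            have : w⁻¹ * (h ^ m)⁻¹ * w = h ^ m := by
              calc w⁻¹ * (h ^ m)⁻¹ * w = w * (h ^ m)⁻¹ * w⁻¹ := by rw [winv]
                _ = (w * h ^ m * w⁻¹)⁻¹ := by group
                _ = h ^ m := by rw [hwm, inv_inv]
            rw [this, inv_mul_cancel]
          rw [hU', e3, e4, mul_one]
          simp only [mul_assoc]
    have h2 : h⁻¹ = (h ^ (N + 1))⁻¹ := by
      rw [hhinv, h1, ← hm, two_mul, pow_add, _root_.mul_inv_rev]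
      calc U' * (U' * ((h ^ m)⁻¹ * (h ^ m)⁻¹) * w * U') * U' * w
          = (U' * U') * ((h ^ m)⁻¹ * (h ^ m)⁻¹) * w * (U' * U') * w := by group
        _ = (h ^ m)⁻¹ * (h ^ m)⁻¹ * (w * w) := by rw [inv2 P₂]; group
        _ = _ := by rw [rw2, mul_one]
    rw [_root_.inv_inj, pow_succ'] at h2
    exact left_eq_mul.1 h2
  refine bijective_of_module π (a := h) (σ := ω) (closure_mk _) eu ew eh eh rfl hd hs rf (Commute.refl h)
    (g := X) (aeval_X _) hgX hgen hN hinv ⟨0, by rw [rw2, pow_zero]⟩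
    ⟨0, by rw [winv, hu2', pow_zero, mul_one]; exact rbr⟩ (Or.inl ⟨P₁, P₂, N - 1, hP₁, ?_, ?_⟩)
  · rw [hP₂, hneg]
  · have hN0 : 1 ≤ N := orderOf_pos ω
    rw [show h ^ (N - 1) = h⁻¹ from (inv_eq_of_mul_eq_one_right (by
      rw [← pow_succ', Nat.sub_add_cancel hN0, hN])).symm, hhinv, winv]
    calc w * U * w = (U' * U') * (w * U * w) * (U' * ((w * w) * U')) := by
          rw [inv2 P₂, rw2, one_mul, one_mul, inv2 P₂, mul_one]
      _ = U' * (U' * (w * U * w) * U' * w) * w * U' := by group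

theorem presents_two {ω : Fˣ} (hp : p = 2) (hq : Fintype.card F = 2) :
    ∃ rels : Finset (FreeGroup (Fin 3)), rels.card ≤ 5 ∧ Presents rels ω := by
  classical
  subst hp
  haveI : CharP F 2 := charP_of_injective_algebraMap (algebraMap (ZMod 2) F).injective 2
  have hone' : ω = 1 := by
    have h := Fintype.card_units (α := F)
    rw [hq] at h
    exact Fintype.card_le_one_iff.1 (by omega) ω 1
  subst hone'
  have h2 : (2 : F) = 0 := by exact_mod_cast CharP.cast_eq_zero F 2
  have hneg : ∀ x : F, -x = x := fun x => by linear_combination -x * h2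
  let rels : Finset (FreeGroup (Fin 3)) := {fw * fw, fw * fu * fw * (fu * fw * fu)⁻¹, fh}
  refine ⟨rels, le_trans (Finset.card_insert_le _ _) (Nat.succ_le_succ (le_trans (Finset.card_insert_le _ _)
    (by rw [Finset.card_singleton]; omega))), ?_⟩
  have eu : FreeGroup.lift ![slU (1 : F), slW, slH 1] fu = slU 1 := by simp [fu]
  have ew : FreeGroup.lift ![slU (1 : F), slW, slH 1] fw = slW := by simp [fw]
  have eh : FreeGroup.lift ![slU (1 : F), slW, slH 1] fh = slH 1 := by simp [fh]
  have hev : ∀ r ∈ (rels : Set (FreeGroup (Fin 3))), FreeGroup.lift ![slU (1 : F), slW, slH 1] r = 1 := by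
    intro r hr
    simp only [rels, Finset.coe_insert, Finset.coe_singleton, Set.mem_insert_iff, Set.mem_singleton_iff] at hr
    rcases hr with rfl | rfl | rfl
    · rw [map_mul, ew]
      refine Subtype.ext ?_
      show (slW : SpecialLinearGroup (Fin 2) F).val * (slW : SpecialLinearGroup (Fin 2) F).val = 1
      simp [slW, Matrix.one_fin_two, hneg]
    · simp only [map_mul, map_inv, eu, ew, mul_inv_eq_one]
      refine Subtype.ext ?_
      show (slW : SpecialLinearGroup (Fin 2) F).val * (slU (1 : F)).val *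
        (slW : SpecialLinearGroup (Fin 2) F).val =
        (slU (1 : F)).val * (slW : SpecialLinearGroup (Fin 2) F).val * (slU (1 : F)).val
      simp [slU, slW, hneg, h2, one_add_one_eq_two]
    · rw [eh, slH_one]
  refine ⟨hev, ?_⟩
  let mk := PresentedGroup.mk (rels : Set (FreeGroup (Fin 3)))
  set u := mk fu with hu'
  set w := mk fw with hw'
  have hone : ∀ r ∈ rels, mk r = 1 := fun r hr => PresentedGroup.one_of_mem (Finset.mem_coe.2 hr)
  have hh : mk fh = 1 := hone fh (by simp [rels])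
  have rw2 : w * w = 1 := by
    have := hone (fw * fw) (by simp [rels])
    rwa [map_mul] at this
  have winv : w⁻¹ = w := inv_eq_of_mul_eq_one_right rw2
  have rbr : w * u * w = u * w * u := by
    have := hone (fw * fu * fw * (fu * fw * fu)⁻¹) (by simp [rels])
    rwa [map_mul, map_inv, mul_inv_eq_one, map_mul, map_mul, map_mul, map_mul] at this
  have hu2 : u * u = 1 := by
    have e : w * u * w * (w * u)⁻¹ = u := by
      calc w * u * w * (w * u)⁻¹ = (w * u * w) * u⁻¹ * w⁻¹ := by group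
        _ = u := by rw [rbr]; group
    calc u * u = (w * u * w * (w * u)⁻¹) * (w * u * w * (w * u)⁻¹) := by rw [e]
      _ = w * u * (w * w) * (w * u)⁻¹ := by group
      _ = 1 := by rw [rw2]; group
  have hd : AbData 2 (mk fh) u := ⟨by rw [pow_two]; exact hu2, fun k => by simp [hh, cj]⟩
  have hs : ∀ t : F, ∃ P : (ZMod 2)[X], aeval (1 : F) P = t := fun t => by
    rcases eq_or_ne t 0 with rfl | ht
    · exact ⟨0, map_zero _⟩
    · refine ⟨1, ?_⟩
      have := Fintype.card_le_one_iff.1 (show Fintype.card Fˣ ≤ 1 by rw [Fintype.card_units, hq]) (Units.mk0 t ht) 1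
      rw [map_one]; exact (congrArg Units.val this).symm
  refine bijective_of_module _ (a := mk fh) (σ := 1) (s := 1) (closure_mk _) eu ew eh eh
    (by simp) hd hs ?_ (Commute.refl _) (g := 1) (by simp) ?_
    (fun x => ⟨0, by rw [pow_zero]; exact Fintype.card_le_one_iff.1 (by rw [Fintype.card_units, hq]) x 1⟩)
    (by rw [hh, one_pow]) (by rw [hh, mul_one, mul_inv_cancel, inv_one]) ⟨0, by rw [rw2, pow_zero]⟩
    ⟨0, by rw [winv, inv_eq_of_mul_eq_one_right hu2, pow_zero, mul_one]; exact rbr⟩ (Or.inr ⟨0, by simp⟩)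
  · rw [minpoly.one, hd.pword_sub, pword_one, ← pow_one (X : (ZMod 2)[X]), pword_X_pow]
    simp [cj, hh]
  · rw [hh, pword_one]; simp

end Cfsg.Agent.Lie.Sl2Pres
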