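import Mathlib
import Cfsg.Agent.Lib.Classical.SLGroup
import Cfsg.Agent.Lib.Lie.Chev.Weyl

/-! Steinberg's presentation of `SL_n` over a finite field. -/

set_option autoImplicit false

namespace Cfsg.Agent.Lie.SLSteinberg

open Matrix

/-- A group with the relations between root subgroups that are not opposite. -/
structure SLPre (K : Type*) [Field K] (N : ℕ) (Γ : Type*) [Group Γ] where
  X : Fin N → Fin N → K → Γ
  add : ∀ i j, i ≠ j → ∀ t u, X i j t * X i j u = X i j (t + u)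
  comm₀ : ∀ i j k l, i ≠ j → k ≠ l → j ≠ k → i ≠ l → ∀ t u, Commute (X i j t) (X k l u)
  comm₁ : ∀ i j k, i ≠ j → j ≠ k → i ≠ k → ∀ t u,
    X i j t * X j k u = X i k (t * u) * X j k u * X i j t

/-- A group with Steinberg's relations for `SL_N`, over `SL_N`. -/
structure SLSt (K : Type*) [Field K] (N : ℕ) (Γ : Type*) [Group Γ] extends SLPre K N Γ where
  θ : Γ →* Matrix.SpecialLinearGroup (Fin N) K
  θX : ∀ i j, i ≠ j → ∀ t, (θ (X i j t) : Matrix (Fin N) (Fin N) K) = Matrix.transvection i j t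
  rel : ∀ i j, i ≠ j → ∀ t u, t ≠ 0 →
    X i j t * X j i (-t⁻¹) * X i j t * X i j u * (X i j t * X j i (-t⁻¹) * X i j t)⁻¹ =
      X j i (-(t⁻¹ ^ 2 * u))

namespace SLPre

variable {K : Type*} [Field K] {N : ℕ} {Γ : Type*} [Group Γ] (A : SLPre K N Γ)


theorem X_zero {i j : Fin N} (hij : i ≠ j) : A.X i j 0 = 1 := by
  have := A.add i j hij 0 0
  rwa [add_zero, mul_eq_left] at this

theorem X_inv {i j : Fin N} (hij : i ≠ j) (t : K) : (A.X i j t)⁻¹ = A.X i j (-t) := by
  rw [inv_eq_iff_mul_eq_one, A.add i j hij, add_neg_cancel, A.X_zero hij]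

/-- The element `w_ij(t)`. -/
def w (i j : Fin N) (t : K) : Γ := A.X i j t * A.X j i (-t⁻¹) * A.X i j t


theorem w_inv {i j : Fin N} (hij : i ≠ j) (t : K) : (A.w i j t)⁻¹ = A.w i j (-t) := by
  simp only [w, _root_.mul_inv_rev, A.X_inv hij, A.X_inv hij.symm, inv_neg, mul_assoc]


section Formulas

variable {i j k : Fin N} (hij : i ≠ j) (hik : i ≠ k) (hjk : j ≠ k)
include hij hik hjk

theorem w_Xik {t : K} (ht : t ≠ 0) (u : K) :
    A.w i j t * A.X i k u * (A.w i j t)⁻¹ = A.X j k (-(u / t)) := by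
  have e1 := A.comm₁ j i k hij.symm hik hjk (-t⁻¹) u
  have e2 := A.comm₁ i j k hij hjk hik t (-(u / t))
  rw [show -t⁻¹ * u = -(u / t) by ring] at e1
  rw [show t * -(u / t) = -u by field_simp] at e2
  have e3 : A.X i j t * A.X i k u * (A.X i j t)⁻¹ = A.X i k u := by
    rw [(A.comm₀ i j i k hij hik hij.symm hik t u).eq, mul_inv_cancel_right]
  calc A.w i j t * A.X i k u * (A.w i j t)⁻¹
      = A.X i j t * A.X j i (-t⁻¹) * (A.X i j t * A.X i k u * (A.X i j t)⁻¹) *
          (A.X j i (-t⁻¹))⁻¹ * (A.X i j t)⁻¹ := by simp only [w]; group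
    _ = A.X i j t * (A.X j i (-t⁻¹) * A.X i k u) * (A.X j i (-t⁻¹))⁻¹ * (A.X i j t)⁻¹ := by
        rw [e3]; group
    _ = (A.X i j t * A.X j k (-(u / t))) * (A.X i j t)⁻¹ *
          (A.X i j t * A.X i k u * (A.X i j t)⁻¹) := by rw [e1]; group
    _ = A.X i k (-u) * (A.X j k (-(u / t)) * A.X i k u) := by rw [e2, e3]; group
    _ = A.X i k (-u) * (A.X i k u * A.X j k (-(u / t))) := by
        rw [(A.comm₀ j k i k hjk hik hik.symm hjk (-(u / t)) u).eq]
    _ = A.X j k (-(u / t)) := by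
        rw [← mul_assoc, A.add i k hik, neg_add_cancel, A.X_zero hik, one_mul]

theorem w_Xkj {t : K} (ht : t ≠ 0) (u : K) :
    A.w i j t * A.X k j u * (A.w i j t)⁻¹ = A.X k i (u / t) := by
  have e1 := A.comm₁ k j i hjk.symm hij.symm hik.symm (-u) (-t⁻¹)
  have e2 := A.comm₁ k i j hik.symm hij hjk.symm (-(u / t)) t
  rw [show -u * -t⁻¹ = u / t by ring] at e1
  rw [show -(u / t) * t = -u by field_simp] at e2
  have e3 : A.X i j t * A.X k j u * (A.X i j t)⁻¹ = A.X k j u := by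
    rw [(A.comm₀ i j k j hij hjk.symm hjk hij t u).eq, mul_inv_cancel_right]
  have e4 : A.X j i (-t⁻¹) * A.X k j u = A.X k j u * A.X k i (u / t) * A.X j i (-t⁻¹) := by
    rw [← inv_inv (A.X k j u), A.X_inv hjk.symm, eq_comm, mul_assoc, inv_mul_eq_iff_eq_mul,
      ← mul_assoc, e1]
    group
  have e5 : A.X i j t * A.X k i (u / t) = A.X k i (u / t) * A.X k j (-u) * A.X i j t := by
    rw [← inv_inv (A.X k i (u / t)), A.X_inv hik.symm, mul_assoc, eq_inv_mul_iff_mul_eq,
      ← mul_assoc, e2]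
    group
  calc A.w i j t * A.X k j u * (A.w i j t)⁻¹
      = A.X i j t * A.X j i (-t⁻¹) * (A.X i j t * A.X k j u * (A.X i j t)⁻¹) *
          (A.X j i (-t⁻¹))⁻¹ * (A.X i j t)⁻¹ := by simp only [w]; group
    _ = A.X i j t * (A.X j i (-t⁻¹) * A.X k j u) * (A.X j i (-t⁻¹))⁻¹ * (A.X i j t)⁻¹ := by
        rw [e3]; group
    _ = (A.X i j t * A.X k j u * (A.X i j t)⁻¹) * (A.X i j t * A.X k i (u / t)) *
          (A.X i j t)⁻¹ := by rw [e4]; group
    _ = A.X k j u * (A.X k i (u / t) * A.X k j (-u)) := by rw [e3, e5]; group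
    _ = A.X k j u * (A.X k j (-u) * A.X k i (u / t)) := by
        rw [(A.comm₀ k i k j hik.symm hjk.symm hik hjk.symm (u / t) (-u)).eq]
    _ = A.X k i (u / t) := by
        rw [← mul_assoc, A.add k j hjk.symm, add_neg_cancel, A.X_zero hjk.symm, one_mul]

theorem w_Xjk {t : K} (ht : t ≠ 0) (u : K) :
    A.w i j t * A.X j k u * (A.w i j t)⁻¹ = A.X i k (t * u) := by
  have h := A.w_Xik hij hik hjk (neg_ne_zero.2 ht) (t * u)
  rw [← A.w_inv hij, inv_inv, show -(t * u / -t) = u by field_simp] at h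
  rw [← h]; group

theorem w_Xki {t : K} (ht : t ≠ 0) (u : K) :
    A.w i j t * A.X k i u * (A.w i j t)⁻¹ = A.X k j (-(t * u)) := by
  have h := A.w_Xkj hij hik hjk (neg_ne_zero.2 ht) (-(t * u))
  rw [← A.w_inv hij, inv_inv, show -(t * u) / -t = u by field_simp] at h
  rw [← h]; group

end Formulas


/-- For `N ≥ 3` the relations between the two opposite root subgroups follow. -/
theorem rel_of_three (hN : 3 ≤ N) (i j : Fin N) (hij : i ≠ j) (t u : K) (ht : t ≠ 0) :
    A.X i j t * A.X j i (-t⁻¹) * A.X i j t * A.X i j u *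
      (A.X i j t * A.X j i (-t⁻¹) * A.X i j t)⁻¹ = A.X j i (-(t⁻¹ ^ 2 * u)) := by
  obtain ⟨k, hki, hkj⟩ : ∃ k, k ≠ i ∧ k ≠ j := by
    by_contra hne
    push Not at hne
    have : (Finset.univ : Finset (Fin N)) ⊆ {i, j} := fun k _ => by
      simp only [Finset.mem_insert, Finset.mem_singleton]
      exact or_iff_not_imp_left.2 (hne k)
    have := Finset.card_le_card this
    rw [Finset.card_univ, Fintype.card_fin] at this
    have := Finset.card_le_two (a := i) (b := j)
    omega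
  have hXij : A.X i j u = A.X i k u * A.X k j 1 * (A.X i k u)⁻¹ * (A.X k j 1)⁻¹ := by
    have e := A.comm₁ i k j (Ne.symm hki) hkj hij u 1
    rw [mul_one] at e
    rw [e]; group
  have hXji : A.X j i (-(t⁻¹ ^ 2 * u)) = A.X j k (-(u / t)) * A.X k i (1 / t) *
      (A.X j k (-(u / t)))⁻¹ * (A.X k i (1 / t))⁻¹ := by
    have e := A.comm₁ j k i (Ne.symm hkj) hki hij.symm (-(u / t)) (1 / t)
    rw [e, show -(u / t) * (1 / t) = -(t⁻¹ ^ 2 * u) by ring]; group
  have f1 := A.w_Xik hij (Ne.symm hki) (Ne.symm hkj) ht u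
  have f2 := A.w_Xkj hij (Ne.symm hki) (Ne.symm hkj) ht 1
  change A.w i j t * A.X i j u * (A.w i j t)⁻¹ = _
  rw [hXij, hXji, ← f1, ← f2]
  group

end SLPre


/-- Commuting one-parameter subgroups: the closure splits off one of them. -/
theorem split_insert {ι K Γ : Type*} [AddGroup K] [Group Γ] [DecidableEq ι] {f : ι → K → Γ}
    {t : Finset ι} {a : ι} (hadd : ∀ u v, f a u * f a v = f a (u + v))
    (hcomm : ∀ m ∈ t, ∀ u v, Commute (f a u) (f m v)) {g : Γ}
    (hg : g ∈ Subgroup.closure {g | ∃ m ∈ insert a t, ∃ u, g = f m u}) :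
    ∃ v, ∃ r ∈ Subgroup.closure {g | ∃ m ∈ t, ∃ u, g = f m u}, g = f a v * r := by
  set R := Subgroup.closure {g | ∃ m ∈ t, ∃ u, g = f m u}
  have hc : ∀ u, ∀ r ∈ R, Commute (f a u) r := by
    intro u r hr
    have : R ≤ Subgroup.centralizer {f a u} := by
      refine (Subgroup.closure_le _).2 ?_
      rintro g ⟨m, hm, v, rfl⟩
      rw [SetLike.mem_coe, Subgroup.mem_centralizer_singleton_iff]
      exact (hcomm m hm u v).symm.eq
    exact (Subgroup.mem_centralizer_singleton_iff.1 (this hr)).symm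
  have h0 : f a 0 = 1 := by
    have := hadd 0 0
    rwa [add_zero, mul_eq_left] at this
  induction hg using Subgroup.closure_induction with
  | mem g hg =>
    obtain ⟨m, hm, u, rfl⟩ := hg
    rcases Finset.mem_insert.1 hm with rfl | hm
    · exact ⟨u, 1, one_mem _, (mul_one _).symm⟩
    · exact ⟨0, _, Subgroup.subset_closure ⟨m, hm, u, rfl⟩, by rw [h0, one_mul]⟩
  | one => exact ⟨0, 1, one_mem _, by rw [h0, mul_one]⟩
  | mul x y _ _ hx hy =>
    obtain ⟨v, r, hr, rfl⟩ := hx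
    obtain ⟨v', r', hr', rfl⟩ := hy
    refine ⟨v + v', r * r', mul_mem hr hr', ?_⟩
    rw [← hadd, mul_assoc, ← mul_assoc r, ← (hc v' r hr).eq]
    group
  | inv x _ hx =>
    obtain ⟨v, r, hr, rfl⟩ := hx
    refine ⟨-v, r⁻¹, inv_mem hr, ?_⟩
    rw [_root_.mul_inv_rev, ← ((hc v r hr).inv_inv).eq]
    congr 1
    rw [inv_eq_iff_mul_eq_one, hadd, add_neg_cancel, h0]

/-- Two nonsquares summing to one. -/
theorem exists_nonsquares {K : Type*} [Field K] [Finite K] {g : Kˣ}
    (hg : ¬ IsSquare g) (hgen : ∀ u : Kˣ, u ∈ Subgroup.zpowers g) :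
    ∃ u v : Kˣ, ¬ IsSquare u ∧ ¬ IsSquare v ∧ (u : K) + v = 1 := by
  classical
  have := Fintype.ofFinite K
  by_contra hne
  push Not at hne
  set S := Finset.univ.filter fun u : Kˣ => ¬ IsSquare u
  set Q := Finset.univ.filter fun u : Kˣ => IsSquare u
  have hmul : ∀ u : Kˣ, IsSquare u → ¬ IsSquare (g * u) := fun u hu h => hg (by
    simpa using h.mul hu.inv)
  have hQS : Q.card ≤ S.card := Finset.card_le_card_of_injOn (g * ·)
    (fun u hu => by
      simp only [Q, S, Finset.coe_filter, Finset.mem_univ, true_and, Set.mem_ofPred_eq] at hu ⊢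
      exact hmul u hu)
    (fun a _ b _ h => mul_left_cancel h)
  have hne' : ∀ u ∈ S, 1 - (u : K) ≠ 0 := by
    intro u hu e
    simp only [S, Finset.mem_filter] at hu
    exact hu.2 (by rw [show u = 1 from Units.ext (sub_eq_zero.1 e).symm]; exact IsSquare.one)
  have hSQ : S.card ≤ (Q.erase 1).card := Finset.card_le_card_of_injOn
    (fun u => if h : 1 - (u : K) = 0 then 1 else Units.mk0 _ h)
    (fun u hu => by
      have h := hne' u hu
      simp only [S, Finset.coe_filter, Finset.mem_univ, true_and, Set.mem_ofPred_eq] at hu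
      simp only [Q, dif_neg h, Finset.coe_erase, Finset.coe_filter, Finset.mem_univ, true_and,
        Set.mem_sdiff, Set.mem_ofPred_eq, Set.mem_singleton_iff]
      refine ⟨?_, fun e => ?_⟩
      · by_contra h2
        exact hne u (Units.mk0 _ h) hu h2 (by simp)
      · have := congrArg Units.val e
        simp only [Units.val_mk0, Units.val_one, sub_eq_self] at this
        exact u.ne_zero this)
    (fun a ha b hb h => by
      simp only [dif_neg (hne' a ha), dif_neg (hne' b hb)] at h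
      exact Units.ext (sub_right_injective (congrArg Units.val h)))
  have h1 : (1 : Kˣ) ∈ Q := by simp [Q]
  rw [Finset.card_erase_of_mem h1] at hSQ
  have : 0 < Q.card := Finset.card_pos.2 ⟨1, h1⟩
  omega

namespace SLSt

variable {K : Type*} [Field K] {N : ℕ} {Γ : Type*} [Group Γ] (A : SLSt K N Γ)

/-- The action on vectors. -/
def act (g : Γ) (v : Fin N → K) : Fin N → K := (A.θ g : Matrix (Fin N) (Fin N) K) *ᵥ v

theorem act_mul (g h : Γ) (v : Fin N → K) : A.act (g * h) v = A.act g (A.act h v) := by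
  simp [act, Matrix.mulVec_mulVec]

theorem act_one (v : Fin N → K) : A.act 1 v = v := by simp [act]

theorem act_X {i j : Fin N} (hij : i ≠ j) (t : K) (v : Fin N → K) :
    A.act (A.X i j t) v = Function.update v i (v i + t * v j) := by
  funext k
  rw [act, A.θX i j hij, Matrix.transvection, Matrix.add_mulVec, Matrix.one_mulVec,
    Matrix.single_mulVec_eq]
  by_cases hk : k = i
  · subst hk; simp
  · simp [hk]

theorem act_of_θ {g : Γ} (h : A.θ g = 1) (v : Fin N → K) : A.act g v = v := by simp [act, h]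

variable {i j : Fin N} (hij : i ≠ j)


/-- The element `h_ij(t)`. -/
def h (i j : Fin N) (t : K) : Γ := A.w i j t * A.w i j (-1)

include hij


theorem w_X {t : K} (ht : t ≠ 0) (u : K) :
    A.w i j t * A.X i j u * (A.w i j t)⁻¹ = A.X j i (-(t⁻¹ ^ 2 * u)) :=
  A.rel i j hij t u ht

theorem w_Y {t : K} (ht : t ≠ 0) (v : K) :
    A.w i j t * A.X j i v * (A.w i j t)⁻¹ = A.X i j (-(t ^ 2 * v)) := by
  have h := A.w_X hij (neg_ne_zero.2 ht) (-(t ^ 2 * v))
  rw [← A.w_inv hij, inv_inv, show -((-t)⁻¹ ^ 2 * -(t ^ 2 * v)) = v by field_simp] at h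
  rw [← h]; group

theorem w_swap {t : K} (ht : t ≠ 0) : A.w j i (-t⁻¹) = A.w i j t := by
  have h1 := A.w_X hij ht t
  rw [show -(t⁻¹ ^ 2 * t) = -t⁻¹ by field_simp] at h1
  conv_lhs => rw [SLPre.w, show -(-t⁻¹)⁻¹ = t by simp]
  conv_lhs => rw [← h1]
  simp only [SLPre.w]
  set x := A.X i j t
  set y := A.X j i (-t⁻¹)
  have h2 : y = x * y * x * y⁻¹ * x⁻¹ := by
    rw [show x * y * x * y⁻¹ * x⁻¹ = x * y * x * x * (x * y * x)⁻¹ by group]
    exact h1.symm
  calc x * y * x * x * (x * y * x)⁻¹ * x * (x * y * x * x * (x * y * x)⁻¹)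
      = (x * y * x * y⁻¹ * x⁻¹) * x * (x * y * x * y⁻¹ * x⁻¹) := by group
    _ = y * x * y := by rw [← h2]
    _ = (x * y * x * y⁻¹ * x⁻¹) * (x * y) := by rw [← h2]; group
    _ = x * y * x := by group

theorem w_conj_w {t s : K} (ht : t ≠ 0) (hs : s ≠ 0) :
    A.w i j t * A.w i j s * (A.w i j t)⁻¹ = A.w i j (t ^ 2 / s) := by
  rw [← A.w_swap hij hs]
  simp only [SLPre.w]
  rw [show ∀ a b c : Γ, A.X i j t * A.X j i (-t⁻¹) * A.X i j t * (a * b * c) *
      (A.X i j t * A.X j i (-t⁻¹) * A.X i j t)⁻¹ =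
    (A.w i j t * a * (A.w i j t)⁻¹) * (A.w i j t * b * (A.w i j t)⁻¹) *
      (A.w i j t * c * (A.w i j t)⁻¹) from fun a b c => by simp only [SLPre.w]; group,
    A.w_X hij ht, A.w_Y hij ht]
  congr <;> field_simp

theorem h_one : A.h i j 1 = 1 := by rw [h, ← A.w_inv hij, mul_inv_cancel]

theorem h_X {a : K} (ha : a ≠ 0) (u : K) :
    A.h i j a * A.X i j u * (A.h i j a)⁻¹ = A.X i j (a ^ 2 * u) := by
  rw [h, show A.w i j a * A.w i j (-1) * A.X i j u * (A.w i j a * A.w i j (-1))⁻¹ =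
    A.w i j a * (A.w i j (-1) * A.X i j u * (A.w i j (-1))⁻¹) * (A.w i j a)⁻¹ by group,
    A.w_X hij (neg_ne_zero.2 one_ne_zero), A.w_Y hij ha]
  congr 1; field_simp

theorem h_Y {a : K} (ha : a ≠ 0) (u : K) :
    A.h i j a * A.X j i u * (A.h i j a)⁻¹ = A.X j i (a⁻¹ ^ 2 * u) := by
  rw [h, show A.w i j a * A.w i j (-1) * A.X j i u * (A.w i j a * A.w i j (-1))⁻¹ =
    A.w i j a * (A.w i j (-1) * A.X j i u * (A.w i j (-1))⁻¹) * (A.w i j a)⁻¹ by group,
    A.w_Y hij (neg_ne_zero.2 one_ne_zero), A.w_X hij ha]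
  congr 1; field_simp

theorem w_eq (a : K) : A.w i j a = A.h i j a * A.w i j 1 := by
  rw [h, ← A.w_inv hij]; group

theorem w_mul_w_one {a : K} (ha : a ≠ 0) :
    A.w i j 1 * A.h i j a * (A.w i j 1)⁻¹ = A.h i j a⁻¹ := by
  have h1 := A.w_conj_w hij one_ne_zero ha
  have h2 := A.w_conj_w hij one_ne_zero (neg_ne_zero.2 (one_ne_zero (α := K)))
  rw [one_pow, one_div] at h1
  rw [show (1 : K) ^ 2 / -1 = -1 by norm_num] at h2
  rw [h, h, ← h1]
  conv_rhs => rw [← h2]
  group

/-- The subgroup of the elements `h_ij(a)`. -/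
def H (i j : Fin N) : Subgroup Γ := Subgroup.closure {g | ∃ a : K, a ≠ 0 ∧ g = A.h i j a}

omit hij in
theorem h_mem {a : K} (ha : a ≠ 0) : A.h i j a ∈ A.H i j :=
  Subgroup.subset_closure ⟨a, ha, rfl⟩

/-- The subgroup generated by the two root subgroups. -/
def G₂ (i j : Fin N) : Subgroup Γ :=
  Subgroup.closure {g | ∃ t, g = A.X i j t ∨ g = A.X j i t}

omit hij in
theorem w_mem (t : K) : A.w i j t ∈ A.G₂ i j :=
  mul_mem (mul_mem (Subgroup.subset_closure ⟨t, Or.inl rfl⟩)
    (Subgroup.subset_closure ⟨_, Or.inr rfl⟩)) (Subgroup.subset_closure ⟨t, Or.inl rfl⟩)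

omit hij in
theorem H_le : A.H i j ≤ A.G₂ i j := by
  refine (Subgroup.closure_le _).2 ?_
  rintro g ⟨a, -, rfl⟩
  exact mul_mem (A.w_mem a) (A.w_mem _)

theorem w_one_H {g : Γ} (hg : g ∈ A.H i j) : A.w i j 1 * g * (A.w i j 1)⁻¹ ∈ A.H i j := by
  refine Chev.conj_closure_mem ?_ hg
  rintro g ⟨a, ha, rfl⟩
  rw [A.w_mul_w_one hij ha]
  exact Subgroup.subset_closure ⟨_, inv_ne_zero ha, rfl⟩

theorem H_props {g : Γ} (hg : g ∈ A.H i j) :
    ∃ a : K, a ≠ 0 ∧ (∀ u, g * A.X i j u * g⁻¹ = A.X i j (a ^ 2 * u)) ∧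
      (∀ u, g * A.X j i u * g⁻¹ = A.X j i (a⁻¹ ^ 2 * u)) ∧
      ∀ v k, A.act g v k = if k = i then a * v k else if k = j then a⁻¹ * v k else v k := by
  induction hg using Subgroup.closure_induction with
  | mem g hg =>
    obtain ⟨a, ha, rfl⟩ := hg
    refine ⟨a, ha, A.h_X hij ha, A.h_Y hij ha, fun v k => ?_⟩
    simp only [h, SLPre.w, A.act_mul, A.act_X hij, A.act_X hij.symm]
    rcases eq_or_ne k i with rfl | hki
    · simp [hij, hij.symm]; field_simp; ring
    rcases eq_or_ne k j with rfl | hkj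
    · simp [hij, hij.symm]; field_simp; ring
    · simp [hki, hkj]
  | one => exact ⟨1, one_ne_zero, by simp, by simp, fun v k => by simp [A.act_one]⟩
  | mul x y _ _ hx hy =>
    obtain ⟨a, ha, h1, h2, h3⟩ := hx
    obtain ⟨b, hb, k1, k2, k3⟩ := hy
    refine ⟨a * b, mul_ne_zero ha hb, fun u => ?_, fun u => ?_, fun v k => ?_⟩
    · rw [mul_pow, mul_assoc (a ^ 2), ← h1, ← k1]; group
    · rw [mul_inv, mul_pow, mul_assoc (a⁻¹ ^ 2), ← h2, ← k2]; group
    · rw [A.act_mul, h3, k3]; split_ifs <;> simp [mul_comm, mul_left_comm]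
  | inv x _ hx =>
    obtain ⟨a, ha, h1, h2, h3⟩ := hx
    refine ⟨a⁻¹, inv_ne_zero ha, fun u => ?_, fun u => ?_, fun v k => ?_⟩
    · have := h1 (a⁻¹ ^ 2 * u)
      rw [← mul_assoc, ← mul_pow, mul_inv_cancel₀ ha, one_pow, one_mul] at this
      rw [← this]; group
    · have := h2 (a⁻¹⁻¹ ^ 2 * u)
      rw [← mul_assoc, ← mul_pow, mul_inv_cancel₀ (inv_ne_zero ha), one_pow, one_mul] at this
      rw [← this]; group
    · have hv : v = A.act x (A.act x⁻¹ v) := by rw [← A.act_mul, mul_inv_cancel, A.act_one]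
      conv_rhs => rw [hv, h3]
      split_ifs <;> field_simp

/-- The Bruhat decomposition in rank one. -/
theorem bruhat {g : Γ} (hg : g ∈ A.G₂ i j) :
    (∃ b, ∃ m ∈ A.H i j, g = A.X i j b * m) ∨
      ∃ b, ∃ m ∈ A.H i j, ∃ b', g = A.X i j b * m * A.w i j 1 * A.X i j b' := by
  set T : Set Γ := {g | (∃ b, ∃ m ∈ A.H i j, g = A.X i j b * m) ∨
      ∃ b, ∃ m ∈ A.H i j, ∃ b', g = A.X i j b * m * A.w i j 1 * A.X i j b'}
  have hX : ∀ t, ∀ g ∈ T, A.X i j t * g ∈ T := by
    rintro t g (⟨b, m, hm, rfl⟩ | ⟨b, m, hm, b', rfl⟩)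
    · exact Or.inl ⟨t + b, m, hm, by rw [← A.add i j hij]; group⟩
    · exact Or.inr ⟨t + b, m, hm, b', by rw [← A.add i j hij]; group⟩
  have hH : ∀ m₀ ∈ A.H i j, ∀ g ∈ T, m₀ * g ∈ T := by
    intro m₀ h₀ g hg
    obtain ⟨a, -, h1, -, -⟩ := A.H_props hij h₀
    rcases hg with ⟨b, m, hm, rfl⟩ | ⟨b, m, hm, b', rfl⟩
    · exact Or.inl ⟨a ^ 2 * b, m₀ * m, mul_mem h₀ hm, by rw [← h1]; group⟩
    · exact Or.inr ⟨a ^ 2 * b, m₀ * m, mul_mem h₀ hm, b', by rw [← h1]; group⟩
  set W := A.w i j 1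
  have hn : A.h i j (-1) ∈ A.H i j := A.h_mem (neg_ne_zero.2 one_ne_zero)
  have hW2 : W * W = (A.h i j (-1))⁻¹ := by
    rw [SLSt.h, _root_.mul_inv_rev, A.w_inv hij, neg_neg]
  have hWX : ∀ b, W * A.X i j b = A.X j i (-b) * W := fun b => by
    rw [show A.X j i (-b) = W * A.X i j b * W⁻¹ by
      rw [A.w_X hij one_ne_zero]; simp]
    group
  have hW : ∀ g ∈ T, W * g ∈ T := by
    rintro g (⟨b, m, hm, rfl⟩ | ⟨b, m, hm, b', rfl⟩)
    · obtain ⟨a, ha, h1, -, -⟩ := A.H_props hij hm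
      refine Or.inr ⟨0, W * m * W⁻¹, A.w_one_H hij hm, a⁻¹ ^ 2 * b, ?_⟩
      have := h1 (a⁻¹ ^ 2 * b)
      rw [← mul_assoc, ← mul_pow, mul_inv_cancel₀ ha, one_pow, one_mul] at this
      rw [A.X_zero hij, ← this]; simp only [W]; group
    · set m' := W * m * W⁻¹
      have hm' : m' * (W * W) ∈ A.H i j := mul_mem (A.w_one_H hij hm) (hW2 ▸ inv_mem hn)
      have e : W * (A.X i j b * m * W * A.X i j b') =
          A.X j i (-b) * (m' * (W * W)) * A.X i j b' := by
        rw [← mul_assoc, ← mul_assoc, ← mul_assoc, hWX]; simp only [m']; group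
      rw [e]
      generalize m' * (W * W) = m₁ at hm' ⊢
      obtain ⟨a, ha, h1, -, -⟩ := A.H_props hij hm'
      rcases eq_or_ne b 0 with rfl | hb
      · refine Or.inl ⟨a ^ 2 * b', m₁, hm', ?_⟩
        rw [neg_zero, A.X_zero hij.symm, one_mul, ← h1]; group
      · set c := b⁻¹
        have hc : c ≠ 0 := inv_ne_zero hb
        have hy : A.X j i (-b) = A.X i j (-c) * A.w i j c * A.X i j (-c) := by
          rw [SLPre.w, show -c⁻¹ = -b by simp [c], ← A.X_inv hij]; group
        refine Or.inr ⟨-c, A.h i j c * (W * m₁ * W⁻¹),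
          mul_mem (A.h_mem hc) (A.w_one_H hij hm'), a⁻¹ ^ 2 * -c + b', ?_⟩
        have := h1 (a⁻¹ ^ 2 * -c)
        rw [← mul_assoc, ← mul_pow, mul_inv_cancel₀ ha, one_pow, one_mul] at this
        have e' : A.X i j (-c) * m₁ = m₁ * A.X i j (a⁻¹ ^ 2 * -c) := by rw [← this]; group
        rw [hy, A.w_eq hij c, ← A.add i j hij,
          mul_assoc (A.X i j (-c) * (A.h i j c * A.w i j 1)) (A.X i j (-c)) m₁, e']
        simp only [W]
        group
  have hW' : ∀ g ∈ T, W⁻¹ * g ∈ T := fun g hg => by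
    rw [A.w_inv hij, A.w_eq hij, mul_assoc]
    exact hH _ hn _ (hW g hg)
  suffices ∀ g ∈ A.G₂ i j, ∀ x ∈ T, g * x ∈ T by
    exact (mul_one g) ▸ this g hg 1 (Or.inl ⟨0, 1, one_mem _, by rw [A.X_zero hij, mul_one]⟩)
  intro g hg
  have hY : ∀ t, ∀ x ∈ T, A.X j i t * x ∈ T := fun t x hx => by
    rw [show A.X j i t = W * A.X i j (-t) * W⁻¹ by rw [A.w_X hij one_ne_zero]; simp,
      mul_assoc, mul_assoc]
    exact hW _ (hX _ _ (hW' _ hx))
  induction hg using Subgroup.closure_induction'' with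
  | mem k hk =>
    obtain ⟨t, rfl | rfl⟩ := hk
    exacts [hX t, hY t]
  | inv_mem k hk =>
    obtain ⟨t, rfl | rfl⟩ := hk
    · rw [A.X_inv hij]; exact hX _
    · rw [A.X_inv hij.symm]; exact hY _
  | one => simp
  | mul a b _ _ ha hb => exact fun x hx => by rw [mul_assoc]; exact ha _ (hb _ hx)

theorem act_H_single {g : Γ} {a : K}
    (h : ∀ v k, A.act g v k = if k = i then a * v k else if k = j then a⁻¹ * v k else v k) :
    A.act g (Pi.single i 1) = Pi.single i a ∧ A.act g (Pi.single j 1) = Pi.single j a⁻¹ := by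
  constructor <;> funext k <;> rw [h] <;> rcases eq_or_ne k i with rfl | h1 <;>
    simp_all [Pi.single_apply]

/-- The kernel is central in rank one. -/
theorem ker_central {g : Γ} (hg : g ∈ A.G₂ i j) (he : A.θ g = 1) :
    g ∈ A.H i j ∧ ∀ x ∈ A.G₂ i j, Commute g x := by
  have key : g ∈ A.H i j := by
    rcases A.bruhat hij hg with ⟨b, m, hm, rfl⟩ | ⟨b, m, hm, b', rfl⟩
    · obtain ⟨a, ha, -, -, h3⟩ := A.H_props hij hm
      have := congrFun (A.act_of_θ he (Pi.single j 1)) i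
      rw [A.act_mul, (A.act_H_single hij h3).2, A.act_X hij] at this
      simp [hij, hij.symm, ha] at this
      rwa [this, A.X_zero hij, one_mul]
    · obtain ⟨a, ha, -, -, h3⟩ := A.H_props hij hm
      have := congrFun (A.act_of_θ he (Pi.single i 1)) j
      simp only [SLPre.w, A.act_mul, A.act_X hij, A.act_X hij.symm, h3] at this
      simp [hij, hij.symm, ha, h3] at this
  refine ⟨key, ?_⟩
  obtain ⟨a, ha, h1, h2, -⟩ := A.H_props hij key
  have fix : ∀ {p q : Fin N}, p ≠ q → ∀ u v : K, g * A.X p q u * g⁻¹ = A.X p q v → u = v := by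
    intro p q hpq u v e
    have := congrArg (fun y => A.act y (Pi.single q 1) p) e
    simp only [A.act_mul, A.act_of_θ he, A.act_of_θ (show A.θ g⁻¹ = 1 by simp [he]),
      A.act_X hpq] at this
    simpa [hpq] using this
  intro x hx
  have : A.G₂ i j ≤ Subgroup.centralizer {g} := by
    refine (Subgroup.closure_le _).2 ?_
    rintro y ⟨t, rfl | rfl⟩ <;>
      rw [SetLike.mem_coe, Subgroup.mem_centralizer_singleton_iff]
    · have := h1 t
      rw [← fix hij _ _ this, mul_inv_eq_iff_eq_mul] at this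
      exact this.symm
    · have := h2 t
      rw [← fix hij.symm _ _ this, mul_inv_eq_iff_eq_mul] at this
      exact this.symm
  exact (Subgroup.mem_centralizer_singleton_iff.1 (this hx)).symm

theorem H_comm [Finite K] {x y : Γ} (hx : x ∈ A.H i j) (hy : y ∈ A.H i j) : Commute x y := by
  let χ : ↥(A.H i j) →* Kˣ := MonoidHom.mk'
    (fun g => Units.mk0 (A.act (g : Γ) (Pi.single i 1) i) (by
      obtain ⟨a, ha, -, -, h3⟩ := A.H_props hij g.2
      simp [h3, ha]))
    (fun g g' => Units.ext (by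
      obtain ⟨a, -, -, -, h3⟩ := A.H_props hij g.2
      obtain ⟨b, -, -, -, k3⟩ := A.H_props hij g'.2
      simp only [Subgroup.coe_mul, Units.val_mul, Units.val_mk0, A.act_mul,
        (A.act_H_single hij k3).1, h3]
      simp))
  have hker : χ.ker ≤ Subgroup.center ↥(A.H i j) := by
    intro g hg
    obtain ⟨a, ha, -, -, h3⟩ := A.H_props hij g.2
    have ha1 : a = 1 := by
      have := congrArg Units.val (MonoidHom.mem_ker.1 hg)
      simpa [χ, h3] using this
    subst ha1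
    have he : A.θ (g : Γ) = 1 := Subtype.ext (Matrix.ext_iff_mulVec.2 fun v => by
      funext k
      have := h3 v k
      simp only [one_mul, inv_one, ite_self] at this
      simpa [act] using this)
    rw [Subgroup.mem_center_iff]
    exact fun z => Subtype.ext ((A.ker_central hij (A.H_le g.2) he).2 z (A.H_le z.2)).eq.symm
  exact congrArg Subtype.val (commutative_of_cyclic_center_quotient χ.rangeRestrict
    (by rwa [MonoidHom.ker_rangeRestrict]) ⟨x, hx⟩ ⟨y, hy⟩)

variable [Finite K]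

theorem h_sq_mul {t s : K} (ht : t ≠ 0) (hs : s ≠ 0) :
    A.h i j (t ^ 2 * s) = A.h i j (t ^ 2) * A.h i j s := by
  have h1 := A.w_conj_w hij (neg_ne_zero.2 (one_ne_zero (α := K))) hs
  have h2 := A.w_conj_w hij ht (inv_ne_zero hs)
  have h3 := A.w_conj_w hij (neg_ne_zero.2 (one_ne_zero (α := K)))
    (neg_ne_zero.2 (one_ne_zero (α := K)))
  have h4 := A.w_conj_w hij ht (neg_ne_zero.2 (one_ne_zero (α := K)))
  rw [show (-1 : K) ^ 2 / s = s⁻¹ by field_simp] at h1
  rw [show t ^ 2 / s⁻¹ = t ^ 2 * s by field_simp] at h2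
  rw [show (-1 : K) ^ 2 / -1 = -1 by norm_num] at h3
  rw [show t ^ 2 / -1 = -t ^ 2 by ring] at h4
  have e : A.h i j t * A.h i j s * (A.h i j t)⁻¹ =
      A.h i j (t ^ 2 * s) * (A.h i j (t ^ 2))⁻¹ := by
    rw [show A.h i j t * A.h i j s * (A.h i j t)⁻¹ =
      (A.w i j t * (A.w i j (-1) * A.w i j s * (A.w i j (-1))⁻¹) * (A.w i j t)⁻¹) *
      (A.w i j t * (A.w i j (-1) * A.w i j (-1) * (A.w i j (-1))⁻¹) * (A.w i j t)⁻¹) by
        simp only [h]; group, h1, h2, h3, h4, ← A.w_inv hij, h, h]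
    group
  rw [(A.H_comm hij (A.h_mem ht) (A.h_mem hs)).eq, mul_inv_cancel_right,
    eq_mul_inv_iff_mul_eq] at e
  rw [← e, (A.H_comm hij (A.h_mem hs) (A.h_mem (pow_ne_zero 2 ht))).eq]

theorem h_sum {u v : K} (hu : u ≠ 0) (hv : v ≠ 0) (huv : u + v = 1) :
    A.h i j u * A.h i j v = A.h i j (u * v) := by
  have hr : -u ^ 2 ≠ 0 := neg_ne_zero.2 (pow_ne_zero 2 hu)
  have hy : ∀ t : K, A.X j i (-t⁻¹) = A.X i j (-t) * A.w i j t * A.X i j (-t) := fun t => by
    rw [SLPre.w, ← A.X_inv hij]; group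
  set W := A.w i j 1
  set M := A.h i j (-u ^ 2) * (W * A.h i j u * W⁻¹) * (W * W) * A.h i j v
  have hM : M ∈ A.H i j := by
    refine mul_mem (mul_mem (mul_mem (A.h_mem hr) (A.w_one_H hij (A.h_mem hu))) ?_) (A.h_mem hv)
    have : W * W = (A.h i j (-1))⁻¹ := by rw [h, _root_.mul_inv_rev, A.w_inv hij, neg_neg]
    rw [this]; exact inv_mem (A.h_mem (neg_ne_zero.2 one_ne_zero))
  have e1 : A.w i j u * A.X i j (-1) = A.X j i (-(-u ^ 2)⁻¹) * A.w i j u := by
    rw [show A.X j i (-(-u ^ 2)⁻¹) = A.w i j u * A.X i j (-1) * (A.w i j u)⁻¹ by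
      rw [A.w_X hij hu]; congr 1; field_simp]
    group
  have e2 : A.X i j (u ^ 2) * (A.w i j u * A.w i j v) =
      A.w i j u * A.w i j v * A.X i j (v ^ 2) := by
    have k1 := A.w_X hij (neg_ne_zero.2 hu) (u ^ 2)
    have k2 := A.w_Y hij (neg_ne_zero.2 hv) (-((-u)⁻¹ ^ 2 * u ^ 2))
    rw [← k1] at k2
    rw [show v ^ 2 =
      -((-v) ^ 2 * -((-u)⁻¹ ^ 2 * u ^ 2)) by field_simp, ← k2, ← A.w_inv hij,
      ← A.w_inv hij]
    group
  have e3 : A.X j i (-u⁻¹) * A.X j i (-v⁻¹) = A.X j i (-(u * v)⁻¹) := by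
    rw [A.add j i hij.symm]; congr 1; field_simp; linear_combination -huv
  have key : A.X i j (-u + u ^ 2) * M * W * A.X i j (v ^ 2 + -v) =
      A.X i j (-(u * v)) * A.h i j (u * v) * W * A.X i j (-(u * v)) := by
    calc A.X i j (-u + u ^ 2) * M * W * A.X i j (v ^ 2 + -v)
        = A.X i j (-u) * A.X i j (u ^ 2) * A.w i j (-u ^ 2) *
            (A.w i j u * A.w i j v * A.X i j (v ^ 2)) * A.X i j (-v) := by
          rw [A.add i j hij, ← A.add i j hij (v ^ 2), A.w_eq hij (-u ^ 2), A.w_eq hij u,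
            A.w_eq hij v]
          simp only [M, W]; group
      _ = A.X i j (-u) * (A.X i j (u ^ 2) * A.w i j (-u ^ 2) * A.X i j (u ^ 2) * A.w i j u) *
            A.w i j v * A.X i j (-v) := by
          rw [← e2]
          group
      _ = A.X i j (-u) * (A.X j i (-(-u ^ 2)⁻¹) * A.w i j u) * A.w i j v * A.X i j (-v) := by
          rw [hy (-u ^ 2), neg_neg]
      _ = (A.X i j (-u) * A.w i j u * A.X i j (-u)) *
            (A.X i j (-v) * A.w i j v * A.X i j (-v)) := by
          rw [← e1, show (-1 : K) = -u + -v by rw [← huv]; ring, ← A.add i j hij]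
          group
      _ = _ := by rw [← hy, ← hy, e3, hy, A.w_eq hij (u * v)]; simp only [W]; group
  obtain ⟨a, ha, -, -, h3⟩ := A.H_props hij hM
  obtain ⟨a', ha', -, -, k3⟩ := A.H_props hij (A.h_mem (i := i) (j := j) (mul_ne_zero hu hv))
  have e4 : A.X i j (-u + u ^ 2 - -(u * v)) * M =
      A.h i j (u * v) * (W * A.X i j (-(u * v) - (v ^ 2 + -v)) * W⁻¹) := by
    rw [sub_eq_neg_add, sub_eq_add_neg (-(u * v)), ← A.add i j hij, ← A.add i j hij (-(u * v)),
      ← A.X_inv hij, ← A.X_inv hij (v ^ 2 + -v)]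
    have : A.X i j (-u + u ^ 2) * M = A.X i j (-(u * v)) * A.h i j (u * v) * W *
        A.X i j (-(u * v)) * (A.X i j (v ^ 2 + -v))⁻¹ * W⁻¹ := by rw [← key]; group
    rw [mul_assoc, this]; group
  rw [A.w_X hij one_ne_zero] at e4
  have hα : -u + u ^ 2 - -(u * v) = 0 := by linear_combination u * huv
  have hβ : -(u * v) - (v ^ 2 + -v) = 0 := by linear_combination -v * huv
  rw [hα, hβ, A.X_zero hij, mul_zero, neg_zero, A.X_zero hij.symm, one_mul, mul_one] at e4
  have e5 : W * A.h i j u * W⁻¹ * (W * W) = (A.h i j (-1))⁻¹ * A.h i j u⁻¹ := by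
    rw [A.w_mul_w_one hij hu, show W * W = (A.h i j (-1))⁻¹ by
      rw [h, _root_.mul_inv_rev, A.w_inv hij, neg_neg]]
    exact (A.H_comm hij (A.h_mem (inv_ne_zero hu))
      (inv_mem (A.h_mem (neg_ne_zero.2 one_ne_zero)))).eq
  have e6 : A.h i j (-u ^ 2) = A.h i j (u ^ 2) * A.h i j (-1) := by
    rw [← A.h_sq_mul hij hu (neg_ne_zero.2 one_ne_zero), mul_neg_one]
  have e7 : A.h i j u = A.h i j (u ^ 2) * A.h i j u⁻¹ := by
    rw [← A.h_sq_mul hij hu (inv_ne_zero hu)]; congr 1; field_simp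
  rw [← e4, e7]
  simp only [M]
  rw [mul_assoc (A.h i j (-u ^ 2)), e5, e6]
  group

theorem h_mul {a b : K} (ha : a ≠ 0) (hb : b ≠ 0) :
    A.h i j a * A.h i j b = A.h i j (a * b) := by
  obtain ⟨g, hg⟩ := IsCyclic.exists_generator (α := Kˣ)
  have hsq : ∀ x : Kˣ, IsSquare x → ∀ s : K, s ≠ 0 →
      A.h i j (x * s) = A.h i j (x : K) * A.h i j s := by
    rintro _ ⟨y, rfl⟩ s hs
    rw [Units.val_mul, ← sq, A.h_sq_mul hij y.ne_zero hs]
  lift a to Kˣ using isUnit_iff_ne_zero.2 ha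
  lift b to Kˣ using isUnit_iff_ne_zero.2 hb
  by_cases h1 : IsSquare a
  · rw [hsq a h1 _ b.ne_zero]
  by_cases h2 : IsSquare b
  · rw [mul_comm (a : K), hsq b h2 _ a.ne_zero, (A.H_comm hij (A.h_mem ha) (A.h_mem hb)).eq]
  have hdec : ∀ x : Kˣ, ¬ IsSquare x → ∃ y : Kˣ, IsSquare y ∧ x = y * g := by
    intro x hx
    obtain ⟨n, rfl⟩ := hg x
    rcases Int.even_or_odd' n with ⟨k, rfl | rfl⟩
    · exact absurd ⟨g ^ k, by rw [← _root_.zpow_add]; ring_nf⟩ hx
    · exact ⟨g ^ (2 * k), ⟨g ^ k, by rw [← _root_.zpow_add]; ring_nf⟩, _root_.zpow_add_one g _⟩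
  have hgns : ¬ IsSquare g := fun hh => h1 (by
    obtain ⟨n, rfl⟩ := hg a
    exact hh.zpow n)
  have hcomb : ∀ x y : Kˣ, IsSquare x → IsSquare y →
      (A.h i j ((x * g : Kˣ) : K) * A.h i j ((y * g : Kˣ) : K) = A.h i j ((x * g * (y * g) : Kˣ) : K)
        ↔ A.h i j (g : K) * A.h i j (g : K) = A.h i j ((g : K) * g)) := by
    intro x y hx hy
    have hxy : ((x * g * (y * g) : Kˣ) : K) = ((x * y : Kˣ) : K) * ((g : K) * g) := by
      simp only [Units.val_mul]; ring
    rw [hxy, hsq _ (hx.mul hy) _ (mul_ne_zero g.ne_zero g.ne_zero), Units.val_mul, Units.val_mul,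
      hsq _ hx _ g.ne_zero, hsq _ hy _ g.ne_zero, Units.val_mul, hsq _ hx _ y.ne_zero,
      show A.h i j (x : K) * A.h i j (g : K) * (A.h i j (y : K) * A.h i j (g : K)) =
        A.h i j (x : K) * (A.h i j (g : K) * A.h i j (y : K)) * A.h i j (g : K) by group,
      (A.H_comm hij (A.h_mem g.ne_zero) (A.h_mem y.ne_zero)).eq]
    simp only [mul_assoc, mul_right_inj]
  have hgg : A.h i j (g : K) * A.h i j (g : K) = A.h i j ((g : K) * g) := by
    obtain ⟨u, v, hu, hv, huv⟩ := exists_nonsquares hgns hg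
    obtain ⟨x, hx, rfl⟩ := hdec u hu
    obtain ⟨y, hy, rfl⟩ := hdec v hv
    refine (hcomb x y hx hy).1 ?_
    rw [A.h_sum hij (Units.ne_zero _) (Units.ne_zero _) huv, ← Units.val_mul]
  obtain ⟨x, hx, rfl⟩ := hdec a h1
  obtain ⟨y, hy, rfl⟩ := hdec b h2
  rw [(hcomb x y hx hy).2 hgg, ← Units.val_mul]

theorem exists_eq_h {g : Γ} (hg : g ∈ A.H i j) : ∃ a : K, a ≠ 0 ∧ g = A.h i j a := by
  induction hg using Subgroup.closure_induction with
  | mem g hg => exact hg
  | one => exact ⟨1, one_ne_zero, (A.h_one hij).symm⟩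
  | mul x y _ _ hx hy =>
    obtain ⟨a, ha, rfl⟩ := hx
    obtain ⟨b, hb, rfl⟩ := hy
    exact ⟨a * b, mul_ne_zero ha hb, A.h_mul hij ha hb⟩
  | inv x _ hx =>
    obtain ⟨a, ha, rfl⟩ := hx
    refine ⟨a⁻¹, inv_ne_zero ha, ?_⟩
    rw [inv_eq_iff_mul_eq_one, A.h_mul hij ha (inv_ne_zero ha), mul_inv_cancel₀ ha, A.h_one hij]

omit [Finite K] in
theorem act_h {a : K} (ha : a ≠ 0) (v : Fin N → K) (k : Fin N) :
    A.act (A.h i j a) v k = if k = i then a * v k else if k = j then a⁻¹ * v k else v k := by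
  simp only [h, SLPre.w, A.act_mul, A.act_X hij, A.act_X hij.symm]
  rcases eq_or_ne k i with rfl | hki
  · simp [hij, hij.symm]; field_simp; ring
  rcases eq_or_ne k j with rfl | hkj
  · simp [hij, hij.symm]; field_simp; ring
  · simp [hki, hkj]

/-- Injectivity in rank one. -/
theorem G₂_inj {g : Γ} (hg : g ∈ A.G₂ i j) (he : A.θ g = 1) : g = 1 := by
  obtain ⟨a, ha, rfl⟩ := A.exists_eq_h hij (A.ker_central hij hg he).1
  have := congrFun (A.act_of_θ he (Pi.single i 1)) i
  rw [A.act_h hij ha] at this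
  simp at this
  rw [this, A.h_one hij]

/-- The decomposition `X Y H X` in rank one. -/
theorem exists_XYHX {g : Γ} (hg : g ∈ A.G₂ i j) :
    ∃ b e a b', a ≠ 0 ∧ g = A.X i j b * A.X j i e * A.h i j a * A.X i j b' := by
  rcases A.bruhat hij hg with ⟨b, m, hm, rfl⟩ | ⟨b, m, hm, b', rfl⟩
  · obtain ⟨a, ha, rfl⟩ := A.exists_eq_h hij hm
    exact ⟨b, 0, a, 0, ha, by rw [A.X_zero hij, A.X_zero hij.symm, mul_one, mul_one]⟩
  · obtain ⟨c, hc, rfl⟩ := A.exists_eq_h hij hm
    refine ⟨b + c ^ 2, -(c⁻¹ ^ 2), c, 1 + b', hc, ?_⟩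
    rw [SLPre.w, inv_one, ← A.add i j hij, ← A.add i j hij,
      show A.X i j (c ^ 2) = A.h i j c * A.X i j 1 * (A.h i j c)⁻¹ by
        rw [A.h_X hij hc, mul_one],
      show A.X j i (-(c⁻¹ ^ 2)) = A.h i j c * A.X j i (-1) * (A.h i j c)⁻¹ by
        rw [A.h_Y hij hc, mul_neg_one]]
    group

end SLSt

namespace SLSt

variable {K : Type*} [Field K] {N : ℕ} {Γ : Type*} [Group Γ] (A : SLSt K N Γ)

/-- Torus elements move root elements along themselves. -/
theorem h_conj {i j k l : Fin N} (hij : i ≠ j) (hkl : k ≠ l) {a : K} (ha : a ≠ 0) (u : K) :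
    ∃ v, A.h i j a * A.X k l u * (A.h i j a)⁻¹ = A.X k l v := by
  have h1 : (-1 : K) ≠ 0 := neg_ne_zero.2 one_ne_zero
  have e : ∀ x : Γ, A.h i j a * x * (A.h i j a)⁻¹ =
      A.w i j a * (A.w i j (-1) * x * (A.w i j (-1))⁻¹) * (A.w i j a)⁻¹ := fun x => by
    simp only [h]; group
  rw [e]
  by_cases hki : k = i
  · subst hki
    by_cases hlj : l = j
    · subst hlj; exact ⟨_, by rw [← e, A.h_X hij ha]⟩
    · exact ⟨_, by rw [A.w_Xik hij hkl (Ne.symm hlj) h1, A.w_Xjk hij hkl (Ne.symm hlj) ha]⟩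
  by_cases hkj : k = j
  · subst hkj
    by_cases hli : l = i
    · subst hli; exact ⟨_, by rw [← e, A.h_Y hij ha]⟩
    · exact ⟨_, by rw [A.w_Xjk hij (Ne.symm hli) hkl h1, A.w_Xik hij (Ne.symm hli) hkl ha]⟩
  by_cases hli : l = i
  · subst hli
    exact ⟨_, by rw [A.w_Xki hij (Ne.symm hki) (Ne.symm hkj) h1,
      A.w_Xkj hij (Ne.symm hki) (Ne.symm hkj) ha]⟩
  by_cases hlj : l = j
  · subst hlj
    exact ⟨_, by rw [A.w_Xkj hij (Ne.symm hki) (Ne.symm hkj) h1,
      A.w_Xki hij (Ne.symm hki) (Ne.symm hkj) ha]⟩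
  refine ⟨u, ?_⟩
  have hc : A.G₂ i j ≤ Subgroup.centralizer {A.X k l u} := by
    refine (Subgroup.closure_le _).2 ?_
    rintro y ⟨t, rfl | rfl⟩ <;> rw [SetLike.mem_coe, Subgroup.mem_centralizer_singleton_iff]
    · exact (A.comm₀ i j k l hij hkl (Ne.symm hkj) (Ne.symm hli) t u).eq
    · exact (A.comm₀ j i k l hij.symm hkl (Ne.symm hki) (Ne.symm hlj) t u).eq
  rw [← e, Subgroup.mem_centralizer_singleton_iff.1 (hc (A.H_le (A.h_mem ha))),
    mul_inv_cancel_right]

/-- Row subgroup. -/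
def R (i : Fin N) (t : Finset (Fin N)) : Subgroup Γ :=
  Subgroup.closure {g | ∃ m ∈ t, ∃ u, g = A.X i m u}

/-- Column subgroup. -/
def C (i : Fin N) (t : Finset (Fin N)) : Subgroup Γ :=
  Subgroup.closure {g | ∃ m ∈ t, ∃ u, g = A.X m i u}

/-- The subgroup of the root elements inside a set of indices. -/
def G (s : Finset (Fin N)) : Subgroup Γ :=
  Subgroup.closure {g | ∃ k ∈ s, ∃ l ∈ s, k ≠ l ∧ ∃ u, g = A.X k l u}

theorem closure_fix {S : Set Γ} {P : (Fin N → K) → Prop} (hS : ∀ g ∈ S, ∀ v, P v → A.act g v = v)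
    {g : Γ} (hg : g ∈ Subgroup.closure S) {v : Fin N → K} (hv : P v) : A.act g v = v := by
  induction hg using Subgroup.closure_induction with
  | mem g hg => exact hS g hg v hv
  | one => exact A.act_one v
  | mul x y _ _ hx hy => rw [A.act_mul, hy, hx]
  | inv x _ hx =>
    conv_lhs => rw [← hx]
    rw [← A.act_mul, inv_mul_cancel, A.act_one]

theorem closure_keep {S : Set Γ} {k : Fin N} (hS : ∀ g ∈ S, ∀ v, A.act g v k = v k)
    {g : Γ} (hg : g ∈ Subgroup.closure S) (v : Fin N → K) : A.act g v k = v k := by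
  induction hg using Subgroup.closure_induction generalizing v with
  | mem g hg => exact hS g hg v
  | one => rw [A.act_one]
  | mul x y _ _ hx hy => rw [A.act_mul, hx, hy]
  | inv x _ hx =>
    rw [← hx (A.act x⁻¹ v), ← A.act_mul, mul_inv_cancel, A.act_one]

theorem R_inj {i : Fin N} {t : Finset (Fin N)} (hi : i ∉ t) {g : Γ} (hg : g ∈ A.R i t)
    (h : ∀ m ∈ t, A.act g (Pi.single m 1) i = 0) : g = 1 := by
  induction t using Finset.induction_on generalizing g with
  | empty =>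
    simpa [R] using hg
  | insert a t hat ih =>
    rw [Finset.mem_insert, not_or] at hi
    obtain ⟨v, r, hr, rfl⟩ := split_insert (f := fun m u => A.X i m u)
      (fun u v => A.add i a hi.1 u v)
      (fun m hm u v => A.comm₀ i a i m hi.1 (fun e => hi.2 (e ▸ hm)) (Ne.symm hi.1)
        (fun e => hi.2 (e ▸ hm)) u v) hg
    change A.X i a v * r = 1
    have hfix : A.act r (Pi.single a 1) = Pi.single a 1 := by
      refine A.closure_fix (P := fun w => ∀ m ∈ t, w m = 0) ?_ hr fun m hm =>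
        Pi.single_eq_of_ne (ne_of_mem_of_not_mem hm hat) _
      rintro g ⟨m, hm, u, rfl⟩ w hw
      rw [A.act_X (ne_of_mem_of_not_mem hm hi.2).symm, hw m hm, mul_zero, add_zero, Function.update_eq_self]
    have hv : v = 0 := by
      have := h a (Finset.mem_insert_self a t)
      change A.act (A.X i a v * r) _ i = 0 at this
      rw [A.act_mul, hfix, A.act_X hi.1] at this
      simpa [hi.1] using this
    subst hv
    rw [A.X_zero hi.1, one_mul]
    refine ih hi.2 hr fun m hm => ?_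
    have := h m (Finset.mem_insert_of_mem hm)
    change A.act (A.X i a 0 * r) _ i = 0 at this
    rwa [A.X_zero hi.1, one_mul] at this

theorem C_inj {i : Fin N} {t : Finset (Fin N)} (hi : i ∉ t) {g : Γ} (hg : g ∈ A.C i t)
    (h : ∀ m ∈ t, A.act g (Pi.single i 1) m = 0) : g = 1 := by
  induction t using Finset.induction_on generalizing g with
  | empty => simpa [C] using hg
  | insert a t hat ih =>
    rw [Finset.mem_insert, not_or] at hi
    obtain ⟨v, r, hr, rfl⟩ := split_insert (f := fun m u => A.X m i u)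
      (fun u v => A.add a i (Ne.symm hi.1) u v)
      (fun m hm u v => A.comm₀ a i m i (Ne.symm hi.1) (fun e => hi.2 (e ▸ hm))
        (fun e => hi.2 (e ▸ hm)) (Ne.symm hi.1) u v) hg
    change A.X a i v * r = 1
    have hkeep : ∀ k, k ∉ t → A.act r (Pi.single i 1) k = (Pi.single i 1 : Fin N → K) k := by
      intro k hk
      refine A.closure_keep ?_ hr _
      rintro g ⟨m, hm, u, rfl⟩ w
      rw [A.act_X (ne_of_mem_of_not_mem hm hi.2), Function.update_of_ne
        (Ne.symm (ne_of_mem_of_not_mem hm hk))]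
    have hv : v = 0 := by
      have := h a (Finset.mem_insert_self a t)
      change A.act (A.X a i v * r) _ a = 0 at this
      rw [A.act_mul, A.act_X (Ne.symm hi.1), Function.update_self, hkeep a hat, hkeep i hi.2] at this
      simpa [Ne.symm hi.1] using this
    subst hv
    rw [A.X_zero (Ne.symm hi.1), one_mul]
    refine ih hi.2 hr fun m hm => ?_
    have := h m (Finset.mem_insert_of_mem hm)
    change A.act (A.X a i 0 * r) _ m = 0 at this
    rwa [A.X_zero (Ne.symm hi.1), one_mul] at this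

/-- Conjugation between generated subgroups. -/
theorem conj_closure₂ {S T : Set Γ} (hinv : ∀ a ∈ S, a⁻¹ ∈ S)
    (h : ∀ a ∈ S, ∀ g ∈ T, a * g * a⁻¹ ∈ Subgroup.closure T) {a : Γ}
    (ha : a ∈ Subgroup.closure S) :
    ∀ g ∈ Subgroup.closure T, a * g * a⁻¹ ∈ Subgroup.closure T := by
  induction ha using Subgroup.closure_induction'' with
  | mem a ha => exact fun g hg => Chev.conj_closure_mem (h a ha) hg
  | inv_mem a ha => exact fun g hg => Chev.conj_closure_mem (h _ (hinv a ha)) hg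
  | one => simp
  | mul x y _ _ hx hy =>
    intro g hg
    rw [show x * y * g * (x * y)⁻¹ = x * (y * g * y⁻¹) * x⁻¹ by group]
    exact hx _ (hy g hg)

/-- The relations present a group mapping injectively. -/
theorem G_inj [Finite K] : ∀ (n : ℕ) (s : Finset (Fin N)), s.card = n + 2 →
    ∀ g ∈ A.G s, A.θ g = 1 → g = 1 := by
  intro n
  induction n with
  | zero =>
    intro s hs g hg he
    obtain ⟨i, j, hij, rfl⟩ := Finset.card_eq_two.1 hs
    refine A.G₂_inj hij ((Subgroup.closure_mono ?_) hg) he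
    rintro g ⟨k, hk, l, hl, hkl, u, rfl⟩
    simp only [Finset.mem_insert, Finset.mem_singleton] at hk hl
    rcases hk with rfl | rfl <;> rcases hl with rfl | rfl
    exacts [absurd rfl hkl, ⟨u, Or.inl rfl⟩, ⟨u, Or.inr rfl⟩, absurd rfl hkl]
  | succ n ih =>
    intro s hs g hg he
    obtain ⟨i, hi⟩ := Finset.card_pos.1 (show 0 < s.card by omega)
    set s' := s.erase i
    have hs' : s'.card = n + 2 := by rw [Finset.card_erase_of_mem hi]; omega
    obtain ⟨j, hj⟩ := Finset.card_pos.1 (show 0 < s'.card by omega)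
    have hi' : i ∉ s' := Finset.notMem_erase i s
    have hne : ∀ {m}, m ∈ s' → i ≠ m := fun {m} hm e => hi' (e ▸ hm)
    have hij : i ≠ j := hne hj
    set W := A.w i j 1
    let d : K → Γ := A.h i j
    have hd : ∀ {a b : K}, a ≠ 0 → b ≠ 0 → d a * d b = d (a * b) := fun ha hb => A.h_mul hij ha hb
    have hdinv : ∀ {a : K}, a ≠ 0 → (d a)⁻¹ = d a⁻¹ := fun {a} ha => by
      rw [inv_eq_iff_mul_eq_one, hd ha (inv_ne_zero ha), mul_inv_cancel₀ ha]; exact A.h_one hij
    have dR : ∀ {a : K}, a ≠ 0 → ∀ r ∈ A.R i s', d a * r * (d a)⁻¹ ∈ A.R i s' := by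
      intro a ha r hr
      refine Chev.conj_closure_mem ?_ hr
      rintro g ⟨m, hm, u, rfl⟩
      obtain ⟨v, hv⟩ := A.h_conj hij (hne hm) ha u
      exact Subgroup.subset_closure ⟨m, hm, v, hv⟩
    have dC : ∀ {a : K}, a ≠ 0 → ∀ r ∈ A.C i s', d a * r * (d a)⁻¹ ∈ A.C i s' := by
      intro a ha r hr
      refine Chev.conj_closure_mem ?_ hr
      rintro g ⟨m, hm, u, rfl⟩
      obtain ⟨v, hv⟩ := A.h_conj hij (hne hm).symm ha u
      exact Subgroup.subset_closure ⟨m, hm, v, hv⟩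
    have dL : ∀ {a : K}, a ≠ 0 → ∀ l ∈ A.G s', d a * l * (d a)⁻¹ ∈ A.G s' := by
      intro a ha l hl
      refine Chev.conj_closure_mem ?_ hl
      rintro g ⟨k, hk, m, hm, hkm, u, rfl⟩
      obtain ⟨v, hv⟩ := A.h_conj hij hkm ha u
      exact Subgroup.subset_closure ⟨k, hk, m, hm, hkm, v, hv⟩
    have hLinv : ∀ a ∈ {g : Γ | ∃ k ∈ s', ∃ l ∈ s', k ≠ l ∧ ∃ u, g = A.X k l u},
        a⁻¹ ∈ {g : Γ | ∃ k ∈ s', ∃ l ∈ s', k ≠ l ∧ ∃ u, g = A.X k l u} := by
      rintro _ ⟨k, hk, l, hl, hkl, u, rfl⟩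
      exact ⟨k, hk, l, hl, hkl, -u, A.X_inv hkl u⟩
    have LR : ∀ l ∈ A.G s', ∀ r ∈ A.R i s', l * r * l⁻¹ ∈ A.R i s' := fun l hl =>
      conj_closure₂ hLinv (by
        rintro _ ⟨k, hk, l, hl, hkl, t, rfl⟩ _ ⟨m, hm, u, rfl⟩
        by_cases hmk : m = k
        · subst hmk
          have e := A.comm₁ i m l (hne hm) hkl (hne hl) u (-t)
          rw [show A.X m l t * A.X i m u * (A.X m l t)⁻¹ =
            A.X m l t * (A.X i m u * A.X m l (-t)) by rw [← A.X_inv hkl]; group, e,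
            (A.comm₀ i l m l (hne hl) hkl (hne hm |>.symm |> fun _ => (Ne.symm hkl)) (hne hl)
              (u * -t) (-t)).eq, ← mul_assoc, ← mul_assoc, A.add m l hkl, add_neg_cancel,
            A.X_zero hkl, one_mul]
          exact mul_mem (Subgroup.subset_closure ⟨l, hl, _, rfl⟩)
            (Subgroup.subset_closure ⟨m, hm, _, rfl⟩)
        · rw [(A.comm₀ k l i m hkl (hne hm) (hne hl).symm (Ne.symm hmk) t u).eq,
            mul_inv_cancel_right]
          exact Subgroup.subset_closure ⟨m, hm, u, rfl⟩) hl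
    have LC : ∀ l ∈ A.G s', ∀ r ∈ A.C i s', l * r * l⁻¹ ∈ A.C i s' := fun l hl =>
      conj_closure₂ hLinv (by
        rintro _ ⟨k, hk, l, hl, hkl, t, rfl⟩ _ ⟨m, hm, u, rfl⟩
        by_cases hml : m = l
        · subst hml
          rw [A.comm₁ k m i hkl (hne hm).symm (hne hk).symm t u, mul_inv_cancel_right]
          exact mul_mem (Subgroup.subset_closure ⟨k, hk, _, rfl⟩)
            (Subgroup.subset_closure ⟨m, hm, _, rfl⟩)
        · rw [(A.comm₀ k l m i hkl (hne hm).symm (Ne.symm hml) (hne hk).symm t u).eq,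
            mul_inv_cancel_right]
          exact Subgroup.subset_closure ⟨m, hm, u, rfl⟩) hl
    -- the cell
    let S : Γ → Prop := fun g => ∃ r ∈ A.R i s', ∃ c ∈ A.C i s', ∃ a : K, a ≠ 0 ∧
      ∃ r' ∈ A.R i s', ∃ l ∈ A.G s', g = r * c * d a * (r' * l)
    have hR : ∀ r₀ ∈ A.R i s', ∀ g, S g → S (r₀ * g) := by
      rintro r₀ h₀ g ⟨r, hr, c, hc, a, ha, r', hr', l, hl, rfl⟩
      exact ⟨r₀ * r, mul_mem h₀ hr, c, hc, a, ha, r', hr', l, hl, by group⟩
    have hL : ∀ l₀ ∈ A.G s', ∀ g, S g → S (l₀ * g) := by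
      rintro l₀ h₀ g ⟨r, hr, c, hc, a, ha, r', hr', l, hl, rfl⟩
      have hl' : (d a)⁻¹ * l₀ * d a ∈ A.G s' := by
        have := dL (inv_ne_zero ha) l₀ h₀
        rwa [← hdinv ha, inv_inv] at this
      exact ⟨_, LR l₀ h₀ r hr, _, LC l₀ h₀ c hc, a, ha, _, LR _ hl' r' hr', _, mul_mem hl' hl,
        by group⟩
    have hD : ∀ b : K, b ≠ 0 → ∀ g, S g → S (d b * g) := by
      rintro b hb g ⟨r, hr, c, hc, a, ha, r', hr', l, hl, rfl⟩
      exact ⟨_, dR hb r hr, _, dC hb c hc, b * a, mul_ne_zero hb ha, r', hr', l, hl,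
        by rw [← hd hb ha]; group⟩
    have hW : ∀ g, S g → S (W * g) := by
      rintro g ⟨r, hr, c, hc, a, ha, r', hr', l, hl, rfl⟩
      obtain ⟨b, r₁, hr₁, rfl⟩ := split_insert (f := fun m u => A.X i m u) (t := s'.erase j) (a := j)
        (fun u v => A.add i j hij u v)
        (fun m hm u v => A.comm₀ i j i m hij (hne (Finset.mem_of_mem_erase hm)) hij.symm
          (hne (Finset.mem_of_mem_erase hm)) u v) (g := r) (by rw [Finset.insert_erase hj]; exact hr)
      obtain ⟨e, c₁, hc₁, rfl⟩ := split_insert (f := fun m u => A.X m i u) (t := s'.erase j)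
        (a := j) (fun u v => A.add j i hij.symm u v)
        (fun m hm u v => A.comm₀ j i m i hij.symm (hne (Finset.mem_of_mem_erase hm)).symm
          (hne (Finset.mem_of_mem_erase hm)) hij.symm u v) (g := c) (by rw [Finset.insert_erase hj]; exact hc)
      have hl₁ : W * r₁ * W⁻¹ ∈ A.G s' := by
        clear hr
        induction hr₁ using Subgroup.closure_induction with
        | mem g hg =>
          obtain ⟨m, hm, u, rfl⟩ := hg
          have hm' := Finset.mem_of_mem_erase hm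
          rw [A.w_Xik hij (hne hm') (Finset.ne_of_mem_erase hm).symm one_ne_zero]
          exact Subgroup.subset_closure ⟨j, hj, m, hm', (Finset.ne_of_mem_erase hm).symm, _, rfl⟩
        | one => simp [one_mem]
        | mul x y _ _ hx hy => simpa [mul_assoc] using mul_mem hx hy
        | inv x _ hx => simpa [mul_assoc] using inv_mem hx
      have hbr : Commute (A.X i j b) r₁ := by
        have : A.R i (s'.erase j) ≤ Subgroup.centralizer {A.X i j b} := by
          refine (Subgroup.closure_le _).2 ?_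
          rintro g ⟨m, hm, u, rfl⟩
          rw [SetLike.mem_coe, Subgroup.mem_centralizer_singleton_iff]
          exact (A.comm₀ i m i j (hne (Finset.mem_of_mem_erase hm)) hij
            (hne (Finset.mem_of_mem_erase hm)).symm hij u b).eq
        exact (Subgroup.mem_centralizer_singleton_iff.1 (this hr₁)).symm
      obtain ⟨p, q, α, p', hα, hM⟩ := A.exists_XYHX hij (g := W * A.X i j b * A.X j i e)
        (mul_mem (mul_mem (A.w_mem 1) (Subgroup.subset_closure ⟨b, Or.inl rfl⟩))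
          (Subgroup.subset_closure ⟨e, Or.inr rfl⟩))
      obtain ⟨c', hc', l₂, hl₂, hxc⟩ : ∃ c' ∈ A.C i s', ∃ l₂ ∈ A.G s',
          A.X i j p' * c₁ * (A.X i j p')⁻¹ = c' * l₂ := by
        clear hM hbr hc
        induction hc₁ using Subgroup.closure_induction with
        | mem g hg =>
          obtain ⟨m, hm, u, rfl⟩ := hg
          have hm' := Finset.mem_of_mem_erase hm
          have hmj := Finset.ne_of_mem_erase hm
          refine ⟨A.X m i u, Subgroup.subset_closure ⟨m, hm', u, rfl⟩, A.X m j (-(u * p')),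
            Subgroup.subset_closure ⟨m, hm', j, hj, hmj, _, rfl⟩, ?_⟩
          have e' := A.comm₁ m i j (hne hm').symm hij hmj u p'
          rw [(A.comm₀ m i m j (hne hm').symm hmj (hne hm') hmj u (-(u * p'))).eq, ← A.X_inv hmj,
            mul_inv_eq_iff_eq_mul, mul_assoc, eq_inv_mul_iff_mul_eq, ← mul_assoc, e']
        | one => exact ⟨1, one_mem _, 1, one_mem _, by simp⟩
        | mul x y _ _ hx hy =>
          obtain ⟨c, hc, l, hl, ex⟩ := hx
          obtain ⟨c', hc', l', hl', ey⟩ := hy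
          refine ⟨c * (l * c' * l⁻¹), mul_mem hc (LC l hl c' hc'), l * l', mul_mem hl hl', ?_⟩
          rw [show A.X i j p' * (x * y) * (A.X i j p')⁻¹ = (A.X i j p' * x * (A.X i j p')⁻¹) *
            (A.X i j p' * y * (A.X i j p')⁻¹) by group, ex, ey]
          group
        | inv x _ hx =>
          obtain ⟨c, hc, l, hl, ex⟩ := hx
          refine ⟨l⁻¹ * c⁻¹ * l, by simpa using LC _ (inv_mem hl) _ (inv_mem hc), l⁻¹, inv_mem hl, ?_⟩
          rw [show A.X i j p' * x⁻¹ * (A.X i j p')⁻¹ = (A.X i j p' * x * (A.X i j p')⁻¹)⁻¹ by group,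
            ex]
          group
      have e0 : W * (A.X i j b * r₁ * (A.X j i e * c₁) * d a * (r' * l)) =
          (W * r₁ * W⁻¹) * (A.X i j p * (A.X j i q * (d α * c' * (d α)⁻¹)) * (d α * d a) *
            (((d a)⁻¹ * (l₂ * A.X i j p' * l₂⁻¹) * d a) *
              (((d a)⁻¹ * l₂ * d a) * r' * ((d a)⁻¹ * l₂ * d a)⁻¹)) *
                (((d a)⁻¹ * l₂ * d a) * l)) := by
        rw [hbr.eq]
        calc _ = (W * r₁ * W⁻¹) * (W * A.X i j b * A.X j i e) * c₁ * d a * (r' * l) := by group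
          _ = (W * r₁ * W⁻¹) * (A.X i j p * A.X j i q * d α *
              (A.X i j p' * c₁ * (A.X i j p')⁻¹) * A.X i j p') * d a * (r' * l) := by
            rw [hM]; simp only [d]; group
          _ = _ := by rw [hxc]; group
      rw [e0, hd hα ha]
      refine hL _ hl₁ _ ⟨_, Subgroup.subset_closure ⟨j, hj, p, rfl⟩, _,
        mul_mem (Subgroup.subset_closure ⟨j, hj, q, rfl⟩) (dC hα c' hc'), α * a,
        mul_ne_zero hα ha,
        ((d a)⁻¹ * (l₂ * A.X i j p' * l₂⁻¹) * d a) *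
          (((d a)⁻¹ * l₂ * d a) * r' * ((d a)⁻¹ * l₂ * d a)⁻¹), ?_,
        ((d a)⁻¹ * l₂ * d a) * l, mul_mem ?_ hl, by group⟩
      · have h1 : ∀ x ∈ A.R i s', (d a)⁻¹ * x * d a ∈ A.R i s' := fun x hx => by
          have := dR (inv_ne_zero ha) x hx
          rwa [← hdinv ha, inv_inv] at this
        refine mul_mem (h1 _ (LR _ hl₂ _ (Subgroup.subset_closure ⟨j, hj, p', rfl⟩))) ?_
        refine LR _ ?_ r' hr'
        have := dL (inv_ne_zero ha) l₂ hl₂
        rwa [← hdinv ha, inv_inv] at this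
      · have := dL (inv_ne_zero ha) l₂ hl₂
        rwa [← hdinv ha, inv_inv] at this
    have hW' : ∀ g, S g → S (W⁻¹ * g) := fun g hg => by
      rw [A.w_inv hij, A.w_eq hij, mul_assoc]
      exact hD _ (neg_ne_zero.2 one_ne_zero) _ (hW g hg)
    have hall : ∀ x ∈ A.G s, ∀ g, S g → S (x * g) := by
      intro x hx
      have hgen : A.G s ≤ Subgroup.closure ((A.R i s' : Set Γ) ∪ (A.G s' : Set Γ) ∪ {W}) := by
        set T := Subgroup.closure ((A.R i s' : Set Γ) ∪ (A.G s' : Set Γ) ∪ {W})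
        have hRT : ∀ m ∈ s', ∀ u, A.X i m u ∈ T := fun m hm u =>
          Subgroup.subset_closure (Or.inl (Or.inl (Subgroup.subset_closure ⟨m, hm, u, rfl⟩)))
        have hLT : ∀ k ∈ s', ∀ m ∈ s', k ≠ m → ∀ u, A.X k m u ∈ T := fun k hk m hm hkm u =>
          Subgroup.subset_closure (Or.inl (Or.inr
            (Subgroup.subset_closure ⟨k, hk, m, hm, hkm, u, rfl⟩)))
        have hWT : W ∈ T := Subgroup.subset_closure (Or.inr rfl)
        have hji : ∀ u, A.X j i u ∈ T := fun u => by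
          have := A.w_X hij one_ne_zero (-u)
          rw [inv_one, one_pow, one_mul, neg_neg] at this
          rw [← this]
          exact mul_mem (mul_mem hWT (hRT j hj _)) (inv_mem hWT)
        refine (Subgroup.closure_le _).2 ?_
        rintro g ⟨k, hk, m, hm, hkm, u, rfl⟩
        by_cases hki : k = i
        · subst hki; exact hRT m (Finset.mem_erase.2 ⟨hkm.symm, hm⟩) u
        have hk' : k ∈ s' := Finset.mem_erase.2 ⟨hki, hk⟩
        by_cases hmi : m = i
        · subst hmi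
          by_cases hkj : k = j
          · subst hkj; exact hji u
          have e := A.comm₁ k j m hkj hij.symm hki 1 u
          rw [one_mul] at e
          rw [show A.X k m u = A.X k j 1 * A.X j m u * (A.X k j 1)⁻¹ * (A.X j m u)⁻¹ by
            rw [e]; group]
          exact mul_mem (mul_mem (mul_mem (hLT k hk' j hj hkj _) (hji u))
            (inv_mem (hLT k hk' j hj hkj _))) (inv_mem (hji u))
        · exact hLT k hk' m (Finset.mem_erase.2 ⟨hmi, hm⟩) hkm u
      have hx' := hgen hx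
      clear hx
      induction hx' using Subgroup.closure_induction'' with
      | mem k hk =>
        rcases hk with (hk | hk) | rfl
        exacts [hR k hk, hL k hk, hW]
      | inv_mem k hk =>
        rcases hk with (hk | hk) | rfl
        exacts [hR _ (inv_mem hk), hL _ (inv_mem hk), hW']
      | one => simp
      | mul x y _ _ hx hy => exact fun g hg => by rw [mul_assoc]; exact hx _ (hy g hg)
    obtain ⟨r, hr, c, hc, a, ha, r', hr', l, hl, e⟩ := hall g hg 1
      ⟨1, one_mem _, 1, one_mem _, 1, one_ne_zero, 1, one_mem _, 1, one_mem _, by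
        simp only [d, A.h_one hij, mul_one]⟩
    rw [mul_one] at e
    subst e
    -- supports
    have Rfix : ∀ {x : Γ}, x ∈ A.R i s' → ∀ v : Fin N → K, (∀ m ∈ s', v m = 0) → A.act x v = v := by
      intro x hx v hv
      refine A.closure_fix (P := fun w => ∀ m ∈ s', w m = 0) ?_ hx hv
      rintro g ⟨m, hm, u, rfl⟩ w hw
      rw [A.act_X (hne hm), hw m hm, mul_zero, add_zero, Function.update_eq_self]
    have Lfix : ∀ {x : Γ}, x ∈ A.G s' → ∀ v : Fin N → K, (∀ m ∈ s', v m = 0) → A.act x v = v := by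
      intro x hx v hv
      refine A.closure_fix (P := fun w => ∀ m ∈ s', w m = 0) ?_ hx hv
      rintro g ⟨k, hk, m, hm, hkm, u, rfl⟩ w hw
      rw [A.act_X hkm, hw m hm, mul_zero, add_zero, Function.update_eq_self]
    have Rkeep : ∀ {x : Γ}, x ∈ A.R i s' → ∀ (v : Fin N → K) k, k ≠ i → A.act x v k = v k := by
      intro x hx v k hk
      refine A.closure_keep ?_ hx v
      rintro g ⟨m, hm, u, rfl⟩ w
      rw [A.act_X (hne hm), Function.update_of_ne hk]
    have Lkeep : ∀ {x : Γ}, x ∈ A.G s' → ∀ (v : Fin N → K), A.act x v i = v i := by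
      intro x hx v
      refine A.closure_keep ?_ hx v
      rintro g ⟨k, hk, m, hm, hkm, u, rfl⟩ w
      rw [A.act_X hkm, Function.update_of_ne (hne hk)]
    set ei : Fin N → K := Pi.single i 1
    have hei : ∀ m ∈ s', ei m = 0 := fun m hm => Pi.single_eq_of_ne (hne hm).symm _
    have hda : A.act (d a) ei = a • ei := by
      funext k
      rw [A.act_h hij ha]
      rcases eq_or_ne k i with rfl | hki
      · simp [ei]
      · simp [ei, hki]
    have hgi : A.act r (a • A.act c ei) = ei := by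
      have := A.act_of_θ he ei
      rw [A.act_mul, A.act_mul, A.act_mul, A.act_mul, Lfix hl _ hei, Rfix hr' _ hei, hda] at this
      rw [show A.act c (a • ei) = a • A.act c ei from Matrix.mulVec_smul _ _ _] at this; exact this
    have hc1 : c = 1 := A.C_inj hi' hc fun m hm => by
      have := congrFun hgi m
      rw [Rkeep hr _ _ (hne hm).symm, Pi.smul_apply, hei m hm, smul_eq_mul] at this
      exact (mul_eq_zero.1 this).resolve_left ha
    subst hc1
    rw [A.act_one, Rfix hr (a • ei) fun m hm => by simp [hei m hm]] at hgi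
    have ha1 : a = 1 := by simpa [ei] using congrFun hgi i
    subst ha1
    have e1 : r * 1 * d 1 * (r' * l) = r * r' * l := by
      simp only [d, A.h_one hij]; group
    rw [e1] at he ⊢
    have hθ : A.θ (r * r') = A.θ l⁻¹ := by
      rw [map_inv, ← mul_eq_one_iff_eq_inv, ← map_mul, he]
    have hrr : r * r' = 1 := A.R_inj hi' (mul_mem hr hr') fun m hm => by
      rw [act, hθ]
      exact (Lkeep (inv_mem hl) _).trans (Pi.single_eq_of_ne (hne hm) _)
    rw [hrr, one_mul] at he ⊢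
    exact ih s' hs' l hl he

end SLSt

/-- A generated group with the relations is `SL_N`. -/
theorem bijective {K : Type*} [Field K] [Finite K] {N : ℕ} (hN : 2 ≤ N) {Γ : Type*} [Group Γ]
    (A : SLSt K N Γ) (hgen : Subgroup.closure {g | ∃ i j, i ≠ j ∧ ∃ u, g = A.X i j u} = ⊤) :
    Function.Bijective A.θ := by
  refine ⟨(MonoidHom.ker_eq_bot_iff A.θ).1 (eq_bot_iff.2 fun g hg => ?_), fun M => ?_⟩
  · refine A.G_inj (N - 2) Finset.univ (by simp; omega) g ?_ hg
    have : (⊤ : Subgroup Γ) ≤ A.G Finset.univ := by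
      rw [← hgen]
      exact Subgroup.closure_mono fun g ⟨i, j, hij, u, e⟩ =>
        ⟨i, Finset.mem_univ _, j, Finset.mem_univ _, hij, u, e⟩
    exact this (Subgroup.mem_top g)
  · suffices (⊤ : Subgroup (Matrix.SpecialLinearGroup (Fin N) K)) ≤ A.θ.range from
      this (Subgroup.mem_top M)
    rw [← Cfsg.Agent.Classical.SL_closure_transvections, Subgroup.closure_le]
    rintro _ ⟨⟨i, j, hij, u⟩, rfl⟩
    refine ⟨A.X i j u, Subtype.ext ?_⟩
    rw [A.θX i j hij]
    rfl

/-- Transvections satisfy the relations. -/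
theorem transvection_rels {K : Type*} [Field K] {N : ℕ} {i j k l : Fin N} (hij : i ≠ j) (hkl : k ≠ l)
    (hil : i ≠ l) (t u : K) :
    (j ≠ k → Matrix.transvection i j t * Matrix.transvection k l u =
      Matrix.transvection k l u * Matrix.transvection i j t) ∧
    (j = k → Matrix.transvection i j t * Matrix.transvection k l u =
      Matrix.transvection i l (t * u) * Matrix.transvection k l u * Matrix.transvection i j t) := by
  simp only [Matrix.transvection, mul_add, add_mul, one_mul, mul_one]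
  refine ⟨fun hjk => ?_, fun hjk => ?_⟩
  · rw [Matrix.single_mul_single_of_ne (h := hjk), Matrix.single_mul_single_of_ne (h := hil.symm)]
    abel
  · subst hjk
    rw [Matrix.single_mul_single_same, Matrix.single_mul_single_of_ne (h := hil.symm),
      Matrix.single_mul_single_of_ne (h := hkl.symm)]
    simp only [add_zero, zero_mul, mul_zero]
    rw [Matrix.single_mul_single_of_ne (h := hil.symm)]
    abel

end Cfsg.Agent.Lie.SLSteinberg
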