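import Mathlib
import Cfsg.Prelude.Def_Solvable
import Cfsg.Agent.S0495
import Cfsg.Agent.S0496
import Cfsg.Agent.Lib.Grp.Solvable
import Cfsg.Agent.Lib.Fus.SmallSimple
import Cfsg.Agent.Lib.Classical.SLNormal
import Cfsg.Agent.Lib.Classical.SixSubgroups

/-!
Groups without nontrivial solvable normal subgroups and with a small permutation representation:
general lemmas, and degrees five and six.
-/

set_option autoImplicit false

namespace Cfsg.Agent.Lie.EightSub

universe u

/-- The only solvable normal subgroup is the trivial one. -/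
def NoSolv (G : Type*) [Group G] : Prop :=
  ∀ N : Subgroup G, N.Normal → Group.IsSolvable N → N = ⊥

/-- The groups in the conclusion. -/
def Listed (G : Type*) [Group G] : Prop :=
  (∃ n : ℕ, 5 ≤ n ∧ n ≤ 8 ∧ Nonempty (G ≃* alternatingGroup (Fin n))) ∨
    Nonempty (G ≃* Equiv.Perm (Fin 5)) ∨ Nonempty (G ≃* Equiv.Perm (Fin 6)) ∨
    Nonempty (G ≃* GL (Fin 3) (ZMod 2))

theorem Listed.of_equiv {G H : Type*} [Group G] [Group H] (e : G ≃* H) (h : Listed H) :
    Listed G := by
  rcases h with ⟨n, h5, h8, ⟨f⟩⟩ | ⟨⟨f⟩⟩ | ⟨⟨f⟩⟩ | ⟨⟨f⟩⟩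
  · exact .inl ⟨n, h5, h8, ⟨e.trans f⟩⟩
  · exact .inr (.inl ⟨e.trans f⟩)
  · exact .inr (.inr (.inl ⟨e.trans f⟩))
  · exact .inr (.inr (.inr ⟨e.trans f⟩))

theorem NoSolv.of_equiv {G H : Type*} [Group G] [Group H] (e : G ≃* H) (h : NoSolv H) :
    NoSolv G := by
  intro N hN hs
  haveI := hs
  have h1 : N.map e.toMonoidHom = ⊥ := by
    refine h _ (hN.map _ e.surjective) ?_
    exact Group.isSolvable_of_surjective (f := e.toMonoidHom.subgroupMap N) (e.toMonoidHom.subgroupMap_surjective N)
  exact (Subgroup.map_eq_bot_iff_of_injective _ e.injective).1 h1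

theorem noSolv_of_cores {G : Type*} [Group G] [Finite G] (h2' : Cfsg.pPrimeCore 2 G = ⊥)
    (h2 : Cfsg.pCore 2 G = ⊥) : NoSolv G := by
  classical
  intro N hN hs
  by_contra hne
  have hex : ∃ n, ∃ M : Subgroup G, M.Normal ∧ M ≤ N ∧ M ≠ ⊥ ∧ Nat.card M = n :=
    ⟨_, N, hN, le_rfl, hne, rfl⟩
  obtain ⟨M, hM, hMN, hMne, hMc⟩ := Nat.find_spec hex
  haveI := hM
  haveI := hs
  have hmin : ∀ M' : Subgroup G, M'.Normal → M' ≤ M → M' = ⊥ ∨ M' = M := by
    intro M' h1 h3
    by_cases hb : M' = ⊥
    · exact .inl hb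
    · refine .inr (Subgroup.eq_of_le_of_card_ge h3 ?_)
      rw [hMc]
      exact Nat.find_min' hex ⟨M', h1, h3.trans hMN, hb, rfl⟩
  obtain ⟨p, hp, hP⟩ := Cfsg.Agent.Grp.minimal_normal_solvable_isPGroup
    (Group.isSolvable_of_isSolvable_injective (f := Subgroup.inclusion hMN) (Subgroup.inclusion_injective hMN))
    hMne hmin
  haveI := Fact.mk hp
  by_cases hp2 : p = 2
  · subst hp2
    exact hMne (eq_bot_iff.2 (h2 ▸ le_sSup ⟨hM, hP⟩))
  · obtain ⟨k, hk⟩ := IsPGroup.iff_card.1 hP
    refine hMne (eq_bot_iff.2 (h2' ▸ le_sSup ⟨hM, ?_⟩))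
    rw [hk]
    exact Nat.Coprime.pow_left _ ((Nat.coprime_primes hp Nat.prime_two).2 hp2)

/-- The six orders of nonabelian simple groups up to 1092. -/
def Bad (n : ℕ) : Prop :=
  60 ∣ n ∨ 168 ∣ n ∨ 360 ∣ n ∨ 504 ∣ n ∨ 660 ∣ n ∨ 1092 ∣ n

theorem Bad.mono {m n : ℕ} (h : Bad m) (hmn : m ∣ n) : Bad n := by
  rcases h with h | h | h | h | h | h
  · exact .inl (h.trans hmn)
  · exact .inr (.inl (h.trans hmn))
  · exact .inr (.inr (.inl (h.trans hmn)))
  · exact .inr (.inr (.inr (.inl (h.trans hmn))))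
  · exact .inr (.inr (.inr (.inr (.inl (h.trans hmn)))))
  · exact .inr (.inr (.inr (.inr (.inr (h.trans hmn)))))

theorem bad_of_not_solvable : ∀ (n : ℕ) (G : Type u) [Group G] [Finite G], Nat.card G = n →
    n ≤ 1092 → ¬ Group.IsSolvable G → Bad n := by
  intro n
  induction n using Nat.strong_induction_on with
  | _ n ih =>
  intro G _ _ hn hle hns
  haveI : Nontrivial G := by
    by_contra h
    haveI := not_nontrivial_iff_subsingleton.mp h
    exact hns inferInstance
  by_cases hs : IsSimpleGroup G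
  · have hna : ¬ IsMulCommutative G := fun hc => hns (Group.isSolvable_of_comm fun a b => hc.1.comm a b)
    rcases Cfsg.Agent.S0496.result hna (hn ▸ hle) with h | h | h | h | h | h
    · exact .inl (dvd_of_eq (h.symm.trans hn))
    · exact .inr (.inl (dvd_of_eq (h.symm.trans hn)))
    · exact .inr (.inr (.inl (dvd_of_eq (h.symm.trans hn))))
    · exact .inr (.inr (.inr (.inl (dvd_of_eq (h.symm.trans hn)))))
    · exact .inr (.inr (.inr (.inr (.inl (dvd_of_eq (h.symm.trans hn))))))
    · exact .inr (.inr (.inr (.inr (.inr (dvd_of_eq (h.symm.trans hn))))))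
  obtain ⟨N, hN, hb, ht⟩ : ∃ N : Subgroup G, N.Normal ∧ N ≠ ⊥ ∧ N ≠ ⊤ := by
    by_contra h
    push Not at h
    exact hs ⟨fun N hN => or_iff_not_imp_left.2 (h N hN)⟩
  have hmul := N.card_mul_index
  rw [hn] at hmul
  have hb1 : 1 < Nat.card N := (Subgroup.one_lt_card_iff_ne_bot N).2 hb
  have ht1 : 1 < N.index := Subgroup.one_lt_index_of_ne_top ht
  have hlt1 : Nat.card N < n := hmul ▸ lt_mul_right (by omega) ht1
  have hlt2 : N.index < n := hmul ▸ lt_mul_left (by omega) hb1
  by_cases hNs : Group.IsSolvable N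
  · have hQ : ¬ Group.IsSolvable (G ⧸ N) := fun h =>
      hns (Group.isSolvable_of_ker_le_range N.subtype (QuotientGroup.mk' N)
        (by rw [QuotientGroup.ker_mk', Subgroup.range_subtype]))
    exact (ih _ hlt2 (G ⧸ N) (Subgroup.index_eq_card N).symm (hlt2.le.trans hle) hQ).mono
      ⟨Nat.card N, by rw [mul_comm, hmul]⟩
  · exact (ih _ hlt1 N rfl (hlt1.le.trans hle) hNs).mono ⟨N.index, hmul.symm⟩

theorem solvable_of_card {G : Type*} [Group G] [Finite G] (h : Nat.card G ≤ 1092)
    (hb : ¬ Bad (Nat.card G)) : Group.IsSolvable G := by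
  by_contra hns
  exact hb (bad_of_not_solvable _ G rfl h hns)

theorem NoSolv.not_solvable {G : Type*} [Group G] [Nontrivial G] (h : NoSolv G) :
    ¬ Group.IsSolvable G := by
  intro hs
  exact top_ne_bot (α := Subgroup G) (h ⊤ inferInstance
    (Group.isSolvable_of_isSolvable_injective (f := (⊤ : Subgroup G).subtype) (Subgroup.subtype_injective _)))

/-- Orders 60 and 168 force simplicity. -/
theorem NoSolv.simple {G : Type*} [Group G] [Finite G] (h : NoSolv G)
    (hc : Nat.card G = 60 ∨ Nat.card G = 168) : IsSimpleGroup G := by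
  haveI : Nontrivial G := Finite.one_lt_card_iff_nontrivial.mp (by omega)
  refine { eq_bot_or_eq_top_of_normal := fun N hN => ?_ }
  by_cases ht : N = ⊤
  · exact .inr ht
  refine .inl (h N hN (solvable_of_card ?_ ?_))
  · have := Subgroup.card_le_card_group N
    omega
  · intro hb
    have hd := N.card_subgroup_dvd_card
    have hlt : Nat.card N ≠ Nat.card G := fun e => ht (Subgroup.eq_top_of_card_eq N e)
    have hpos : 0 < Nat.card N := Nat.card_pos
    have h60 : 60 ≤ Nat.card N := by
      rcases hb with hb | hb | hb | hb | hb | hb <;> have := Nat.le_of_dvd hpos hb <;> omega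
    obtain ⟨c, hc'⟩ := hd
    have hc1 : c ≠ 1 := fun e => hlt (by rw [hc', e, mul_one])
    have hc0 : c ≠ 0 := fun e => by rw [e, mul_zero] at hc'; omega
    have hc2 : c ≤ 2 := by
      by_contra hh
      have := Nat.mul_le_mul h60 (show 3 ≤ c by omega)
      omega
    have hc3 : c = 2 := by omega
    subst hc3
    rcases hb with hb | hb | hb | hb | hb | hb <;> omega

theorem card_GL32 : Nat.card (GL (Fin 3) (ZMod 2)) = 168 := by
  rw [Matrix.card_GL_field]
  simp only [ZMod.card, Fin.prod_univ_three, Fin.val_zero, Fin.val_one, Fin.val_two]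
  norm_num

theorem simple_GL32 : IsSimpleGroup (GL (Fin 3) (ZMod 2)) := by
  haveI := Cfsg.Agent.Classical.PSL_isSimple (F := ZMod 2) (n := 3) (by norm_num) (by norm_num)
  have hc : Subgroup.center (Matrix.SpecialLinearGroup (Fin 3) (ZMod 2)) = ⊥ := by
    rw [Subgroup.eq_bot_iff_forall]
    intro A hA
    obtain ⟨r, hr, hA'⟩ := Matrix.SpecialLinearGroup.mem_center_iff.1 hA
    have hr1 : r = 1 := by
      rw [Fintype.card_fin] at hr
      clear hA'
      revert hr
      revert r
      decide
    apply Subtype.ext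
    rw [← hA', hr1, map_one]
    rfl
  have hinj : Function.Injective (Matrix.SpecialLinearGroup.toGL :
      Matrix.SpecialLinearGroup (Fin 3) (ZMod 2) → GL (Fin 3) (ZMod 2)) := fun A B h =>
    Subtype.ext (congrArg (fun g : GL (Fin 3) (ZMod 2) => (g : Matrix (Fin 3) (Fin 3) (ZMod 2))) h)
  have hsur : Function.Surjective (Matrix.SpecialLinearGroup.toGL :
      Matrix.SpecialLinearGroup (Fin 3) (ZMod 2) → GL (Fin 3) (ZMod 2)) := fun g => by
    have hd : (g : Matrix (Fin 3) (Fin 3) (ZMod 2)).det = 1 := by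
      have := Matrix.GeneralLinearGroup.det_ne_zero g
      generalize (g : Matrix (Fin 3) (Fin 3) (ZMod 2)).det = d at this ⊢
      revert d
      decide
    exact ⟨⟨g, hd⟩, Units.ext rfl⟩
  let e : Matrix.SpecialLinearGroup (Fin 3) (ZMod 2) ≃* GL (Fin 3) (ZMod 2) :=
    MulEquiv.ofBijective _ ⟨hinj, hsur⟩
  let e2 : Matrix.ProjectiveSpecialLinearGroup (Fin 3) (ZMod 2) ≃*
      Matrix.SpecialLinearGroup (Fin 3) (ZMod 2) :=
    (QuotientGroup.quotientMulEquivOfEq hc).trans QuotientGroup.quotientBot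
  exact MulEquiv.isSimpleGroup (e2.trans e).symm

theorem iso_GL32 {G : Type*} [Group G] [Finite G] [IsSimpleGroup G] (h : Nat.card G = 168) :
    Nonempty (G ≃* GL (Fin 3) (ZMod 2)) := by
  haveI := simple_GL32
  haveI : Fact (Nat.Prime 7) := ⟨by norm_num⟩
  obtain ⟨e1⟩ := Cfsg.Agent.S0495.result h (F := ZMod 7) (ZMod.card 7)
  obtain ⟨e2⟩ := Cfsg.Agent.S0495.result card_GL32 (F := ZMod 7) (ZMod.card 7)
  exact ⟨e1.trans e2.symm⟩

theorem listed_sixty {G : Type*} [Group G] [Finite G] (h : NoSolv G) (hc : Nat.card G = 60) :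
    Listed G := by
  haveI := h.simple (.inl hc)
  exact .inl ⟨5, le_rfl, by norm_num, Cfsg.Agent.Fus.alternating_five_of_card hc⟩

theorem listed_one_sixty_eight {G : Type*} [Group G] [Finite G] (h : NoSolv G)
    (hc : Nat.card G = 168) : Listed G := by
  haveI := h.simple (.inr hc)
  exact .inr (.inr (.inr (iso_GL32 hc)))

theorem card_alt (n : ℕ) (hn : 2 ≤ n) : 2 * Nat.card (alternatingGroup (Fin n)) = n.factorial := by
  haveI : Nontrivial (Fin n) := Fin.nontrivial_iff_two_le.2 hn
  rw [Nat.card_eq_fintype_card, two_mul_card_alternatingGroup, Fintype.card_perm, Fintype.card_fin]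

theorem deg_five (L : Subgroup (Equiv.Perm (Fin 5))) (h : NoSolv L)
    (hns : ¬ Group.IsSolvable L) : Listed L := by
  have h120 : Nat.card (Equiv.Perm (Fin 5)) = 120 := by
    rw [Nat.card_perm, Nat.card_eq_fintype_card, Fintype.card_fin]; rfl
  have hd := L.card_subgroup_dvd_card
  rw [h120] at hd
  have hle : Nat.card L ≤ 120 := Nat.le_of_dvd (by norm_num) hd
  have hb := bad_of_not_solvable _ L rfl (by omega) hns
  have hpos : 0 < Nat.card L := Nat.card_pos
  have hc : Nat.card L = 60 ∨ Nat.card L = 120 := by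
    rcases hb with hb | hb | hb | hb | hb | hb <;> have := Nat.le_of_dvd hpos hb <;> omega
  rcases hc with hc | hc
  · exact listed_sixty h hc
  · have : L = ⊤ := Subgroup.eq_top_of_card_eq L (by rw [hc, h120])
    subst this
    exact .inr (.inl ⟨Subgroup.topEquiv⟩)

theorem deg_six (L : Subgroup (Equiv.Perm (Fin 6))) (h : NoSolv L)
    (hns : ¬ Group.IsSolvable L) : Listed L := by
  have h720 : Nat.card (Equiv.Perm (Fin 6)) = 720 := by
    rw [Nat.card_perm, Nat.card_eq_fintype_card, Fintype.card_fin]; rfl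
  have h360 : Nat.card (alternatingGroup (Fin 6)) = 360 := by
    have := card_alt 6 (by norm_num)
    rw [show Nat.factorial 6 = 720 from rfl] at this
    omega
  set A := alternatingGroup (Fin 6) with hA
  -- the even part is not solvable
  have hKns : ¬ Group.IsSolvable (A.subgroupOf L) := fun hs => by
    have hbot := h _ inferInstance hs
    have hinj : Function.Injective ((Equiv.Perm.sign (α := Fin 6)).comp L.subtype) := by
      rw [injective_iff_map_eq_one]
      intro x hx
      have hm : x ∈ A.subgroupOf L := Subgroup.mem_subgroupOf.2 (Equiv.Perm.mem_alternatingGroup.2 hx)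
      rw [hbot] at hm
      exact Subgroup.mem_bot.1 hm
    exact hns (Group.isSolvable_of_isSolvable_injective hinj)
  set K := A ⊓ L with hK
  have hKcard : Nat.card (A.subgroupOf L) = Nat.card K := by
    rw [hK, ← Subgroup.subgroupOf_map_subtype,
      Subgroup.card_map_of_injective (Subgroup.subtype_injective _)]
  have hd : Nat.card K ∣ 360 := h360 ▸ Subgroup.card_dvd_of_le inf_le_left
  have hle : Nat.card K ≤ 360 := Nat.le_of_dvd (by norm_num) hd
  have hb := bad_of_not_solvable _ (A.subgroupOf L) rfl (by omega) hKns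
  rw [hKcard] at hb
  have hpos : 0 < Nat.card K := Nat.card_pos
  have hc : Nat.card K = 60 ∨ Nat.card K = 120 ∨ Nat.card K = 180 ∨ Nat.card K = 360 := by
    have key : ∀ c ∈ Nat.divisors 360, (60 ∣ c ∨ 168 ∣ c ∨ 360 ∣ c ∨ 504 ∣ c ∨ 660 ∣ c ∨ 1092 ∣ c) →
        (c = 60 ∨ c = 120 ∨ c = 180 ∨ c = 360) := by decide +kernel
    exact key _ (Nat.mem_divisors.2 ⟨hd, by norm_num⟩) hb
  have hindex : Nat.card L = Nat.card K ∨ Nat.card L = 2 * Nat.card K := by
    have h2 : A.relIndex L ∣ 2 := by
      have := Subgroup.relIndex_dvd_index_of_normal A L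
      rwa [hA, alternatingGroup.index_eq_two] at this
    have hm := Subgroup.card_mul_index (A.subgroupOf L)
    rw [hKcard] at hm
    have h1 : (A.subgroupOf L).index ∣ 2 := h2
    have := Nat.le_of_dvd (by norm_num) h1
    interval_cases hi : (A.subgroupOf L).index <;> omega
  have hsub : K.subgroupOf A ≠ ⊤ → Nat.card (alternatingGroup (Fin 6)) ∣
      (K.subgroupOf A).index.factorial := fun hne => by
    haveI : IsSimpleGroup (alternatingGroup (Fin 6)) :=
      alternatingGroup.isSimpleGroup (by rw [Nat.card_eq_fintype_card, Fintype.card_fin]; norm_num)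
    exact Cfsg.Agent.Fus.card_dvd_factorial_index hne
  have hm := Subgroup.card_mul_index (K.subgroupOf A)
  rw [Nat.card_congr (Subgroup.subgroupOfEquivOfLe (inf_le_left : K ≤ A)).toEquiv, h360] at hm
  rcases hc with hc | hc | hc | hc
  · rcases hindex with hL | hL
    · exact listed_sixty h (by omega)
    · have hi : L.index = 6 := by
        have := Subgroup.card_mul_index L
        rw [h720, hL, hc] at this
        omega
      obtain ⟨e⟩ := Cfsg.Agent.Classical.SixSub.nonempty_iso hi
      exact .inr (.inl ⟨e⟩)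
  · exfalso
    have hne : K.subgroupOf A ≠ ⊤ := fun e => by rw [e, Subgroup.index_top, hc] at hm; omega
    have hi : (K.subgroupOf A).index = 3 := by rw [hc] at hm; omega
    have := hsub hne
    rw [hi, h360] at this
    revert this
    decide
  · exfalso
    have hne : K.subgroupOf A ≠ ⊤ := fun e => by rw [e, Subgroup.index_top, hc] at hm; omega
    have hi : (K.subgroupOf A).index = 2 := by rw [hc] at hm; omega
    have := hsub hne
    rw [hi, h360] at this
    revert this
    decide
  · rcases hindex with hL | hL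
    · have hLK : K = L := Subgroup.eq_of_le_of_card_ge inf_le_right (by omega)
      have hKA : K = A := Subgroup.eq_of_le_of_card_ge inf_le_left (by rw [h360, hc])
      rw [hLK] at hKA
      subst hKA
      exact .inl ⟨6, by norm_num, by norm_num, ⟨MulEquiv.refl _⟩⟩
    · have : L = ⊤ := Subgroup.eq_top_of_card_eq L (by omega)
      subst this
      exact .inr (.inr (.inl ⟨Subgroup.topEquiv⟩))

end Cfsg.Agent.Lie.EightSub
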