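import Cfsg.Agent.Lib.Lie.RankOneSetup
import Cfsg.Agent.Lib.Grp.CoprimeAbelian
import Cfsg.Agent.Lib.Grp.Cores

/-! The rank-one set-up: centralisers of subsets of the two-point stabiliser, the odd core. -/

set_option autoImplicit false
set_option linter.unusedSectionVars false

namespace Cfsg.Agent.Lie.RankOne

open MulAction

variable {G Ω : Type*} [Group G] [Finite G] [MulAction G Ω] {a : Ω} {t : G} {Q : Subgroup G}
  (hS : Cfsg.IsRankOneSetup G Ω a t Q)

theorem mem_cent {X : Set G} {g : G} :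
    g ∈ Subgroup.centralizer X ↔ ∀ x ∈ X, x * g = g * x := Subgroup.mem_centralizer_iff

include hS

variable {X : Set G} (hX : X ⊆ ((stabilizer G a ⊓ stabilizer G (t • a)) : Set G))

include hX

theorem cent_q {c : Ω} (hc : ∀ x ∈ X, x • c = c) (hca : c ≠ a) :
    ∃ q ∈ Q, q ∈ Subgroup.centralizer X ∧ q • (t • a) = c := by
  obtain ⟨q, hq, e⟩ := exists_q hS hca
  refine ⟨q, hq, mem_cent.2 fun x hx => ?_, e⟩
  have hxa : x ∈ stabilizer G a := (hX hx).1
  have hxb : x • (t • a) = t • a := mem_stabilizer_iff.1 (hX hx).2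
  have h1 : x * q * x⁻¹ = q := q_unique hS (hS.conj_mem x hxa q hq) hq (by
    rw [mul_smul, mul_smul, inv_smul_eq_iff.2 hxb.symm, e, hc x hx])
  exact mul_inv_eq_iff_eq_mul.1 h1

theorem cent_w {c : Ω} (hc : ∀ x ∈ X, x • c = c) (hcb : c ≠ t • a) :
    ∃ w ∈ Subgroup.centralizer X, w • a = c := by
  have hX' : ((fun x => t * x * t) '' X) ⊆ ((stabilizer G a ⊓ stabilizer G (t • a)) : Set G) := by
    rintro _ ⟨x, hx, rfl⟩
    exact conj_D hS (hX hx)
  obtain ⟨q, -, hqc, e⟩ := cent_q hS hX' (c := t • c) (by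
    rintro _ ⟨x, hx, rfl⟩
    show (t * x * t) • t • c = t • c
    rw [mul_smul, mul_smul, ← mul_smul t t, hS.mul_self, one_smul, hc x hx])
    (fun h => hcb (by rw [← h, ← mul_smul, hS.mul_self, one_smul]))
  refine ⟨t * q * t, mem_cent.2 fun x hx => ?_, by
    rw [mul_smul, mul_smul, e, ← mul_smul, hS.mul_self, one_smul]⟩
  have h := mem_cent.1 hqc _ ⟨x, hx, rfl⟩
  calc x * (t * q * t) = t * t * x * (t * q * t) := by rw [hS.mul_self, one_mul]
    _ = t * (t * x * t * q) * t := by group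
    _ = t * (q * (t * x * t)) * t := by rw [h]
    _ = t * q * t * x * (t * t) := by group
    _ = _ := by rw [hS.mul_self, mul_one]

variable (h3 : ∃ b c d : Ω, b ≠ c ∧ b ≠ d ∧ c ≠ d ∧ ∀ x ∈ X, x • b = b ∧ x • c = c ∧ x • d = d)

include h3

theorem exists_third : ∃ c : Ω, c ≠ a ∧ c ≠ t • a ∧ ∀ x ∈ X, x • c = c := by
  obtain ⟨b, c, d, hbc, hbd, hcd, h⟩ := h3
  by_cases hb : b = a ∨ b = t • a
  · by_cases hc : c = a ∨ c = t • a
    · refine ⟨d, fun e => ?_, fun e => ?_, fun x hx => (h x hx).2.2⟩ <;>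
        rcases hb with rfl | rfl <;> rcases hc with rfl | rfl <;> simp_all
    · push Not at hc
      exact ⟨c, hc.1, hc.2, fun x hx => (h x hx).2.1⟩
  · push Not at hb
    exact ⟨b, hb.1, hb.2, fun x hx => (h x hx).1⟩

theorem cent_from_a {c : Ω} (hc : ∀ x ∈ X, x • c = c) :
    ∃ g ∈ Subgroup.centralizer X, g • a = c := by
  by_cases hcb : c = t • a
  · obtain ⟨e, hea, heb, he⟩ := exists_third hS hX h3
    obtain ⟨w, hw, hwe⟩ := cent_w hS hX he heb
    obtain ⟨q, -, hqc, hqe⟩ := cent_q hS hX he hea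
    exact ⟨q⁻¹ * w, mul_mem (inv_mem hqc) hw, by rw [mul_smul, hwe, ← hqe, inv_smul_smul, hcb]⟩
  · exact cent_w hS hX hc hcb

theorem cent_from_pair {c₁ c₂ : Ω} (hc₁ : ∀ x ∈ X, x • c₁ = c₁) (hc₂ : ∀ x ∈ X, x • c₂ = c₂)
    (hne : c₁ ≠ c₂) : ∃ g ∈ Subgroup.centralizer X, g • a = c₁ ∧ g • (t • a) = c₂ := by
  obtain ⟨g, hg, e⟩ := cent_from_a hS hX h3 hc₁
  obtain ⟨q, hq, hqc, hqe⟩ := cent_q hS hX (c := g⁻¹ • c₂)
    (fun x hx => by rw [← mul_smul, mem_cent.1 (inv_mem hg) x hx, mul_smul, hc₂ x hx])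
    (fun h => hne (by rw [← e, ← h, smul_inv_smul]))
  exact ⟨g * q, mul_mem hg hqc, by rw [mul_smul, q_fix hS hq, e],
    by rw [mul_smul, hqe, smul_inv_smul]⟩

theorem cent_two_transitive {b₁ b₂ c₁ c₂ : Ω}
    (h : ∀ x ∈ X, x • b₁ = b₁ ∧ x • b₂ = b₂ ∧ x • c₁ = c₁ ∧ x • c₂ = c₂)
    (hb : b₁ ≠ b₂) (hc : c₁ ≠ c₂) :
    ∃ g ∈ Subgroup.centralizer X, g • b₁ = c₁ ∧ g • b₂ = c₂ := by
  obtain ⟨g, hg, g1, g2⟩ := cent_from_pair hS hX h3 (fun x hx => (h x hx).1)
    (fun x hx => (h x hx).2.1) hb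
  obtain ⟨k, hk, k1, k2⟩ := cent_from_pair hS hX h3 (fun x hx => (h x hx).2.2.1)
    (fun x hx => (h x hx).2.2.2) hc
  exact ⟨k * g⁻¹, mul_mem hk (inv_mem hg), by rw [mul_smul, ← g1, inv_smul_smul, k1],
    by rw [mul_smul, ← g2, inv_smul_smul, k2]⟩

theorem cent_involution : ∃ s, s ∈ Cfsg.involutionsIn (stabilizer G a : Set G) ∧
    s ∈ Subgroup.centralizer X := by
  have hfa : ∀ x ∈ X, x • a = a := fun x hx => mem_stabilizer_iff.1 (hX hx).1
  have hfb : ∀ x ∈ X, x • (t • a) = t • a := fun x hx => mem_stabilizer_iff.1 (hX hx).2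
  obtain ⟨g, hg, g1, g2⟩ := cent_from_pair hS hX h3 hfb hfa (b_ne hS)
  have heven : ∀ j : ℕ, Even j → g ^ j • a = a := by
    rintro j ⟨i, rfl⟩
    rw [← two_mul, pow_mul]
    induction i with
    | zero => simp
    | succ i ih => rw [pow_succ (g ^ 2), mul_smul, show g ^ 2 • a = a by rw [pow_two, mul_smul, g1, g2], ih]
  obtain ⟨k, hk⟩ : Even (orderOf g) := by
    rcases Nat.even_or_odd (orderOf g) with h | h
    · exact h
    · refine absurd (heven (orderOf g + 1) h.add_one) ?_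
      rw [pow_succ, pow_orderOf_eq_one, one_mul, g1]
      exact b_ne hS
  have hpos := orderOf_pos g
  have hz2 : g ^ k * g ^ k = 1 := by rw [← pow_add, ← hk, pow_orderOf_eq_one]
  have hz1 : g ^ k ≠ 1 := fun h => by
    have := Nat.le_of_dvd (by omega) (orderOf_dvd_of_pow_eq_one h); omega
  obtain ⟨p, hp⟩ := exists_fixed hS hz2
  have hpX : ∀ x ∈ X, x • p = p := fun x hx => fix_unique' hS hz1 hz2
    (by rw [← mul_smul, ← mem_cent.1 (pow_mem hg k) x hx, mul_smul, hp]) hp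
  obtain ⟨h, hh, hha⟩ := cent_from_a hS hX h3 hpX
  refine ⟨h⁻¹ * g ^ k * h, ⟨mem_stabilizer_iff.2 ?_, fun e => hz1 (inv_conj_eq_one e), ?_⟩,
    mul_mem (mul_mem (inv_mem hh) (pow_mem hg k)) hh⟩
  · rw [mul_smul, mul_smul, hha, hp, ← hha, inv_smul_smul]
  · calc h⁻¹ * g ^ k * h * (h⁻¹ * g ^ k * h) = h⁻¹ * (g ^ k * g ^ k) * h := by group
      _ = 1 := by rw [hz2]; group

theorem cent_even : Even (Nat.card ↥(Subgroup.centralizer X ⊓ Q)) := by
  obtain ⟨s, ⟨hs, hs1, hs2⟩, hsc⟩ := cent_involution hS hX h3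
  have hmem : s ∈ Subgroup.centralizer X ⊓ Q := ⟨hsc, invol_mem_Q hS hs hs2⟩
  have h2 : orderOf (⟨s, hmem⟩ : ↥(Subgroup.centralizer X ⊓ Q)) = 2 := by
    rw [Subgroup.orderOf_mk]
    exact orderOf_eq_prime (by rw [pow_two, hs2]) hs1
  exact even_iff_two_dvd.2 (h2 ▸ orderOf_dvd_natCard _)

omit h3 in
theorem cent_sup :
    (Subgroup.centralizer X ⊓ Q) ⊔
        (Subgroup.centralizer X ⊓ (stabilizer G a ⊓ stabilizer G (t • a))) =
      Subgroup.centralizer X ⊓ stabilizer G a := by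
  refine le_antisymm (sup_le (inf_le_inf_left _ hS.le) (inf_le_inf_left _ inf_le_left)) ?_
  intro g hg
  obtain ⟨hgc, hga⟩ := Subgroup.mem_inf.1 hg
  have hga' : g • a = a := mem_stabilizer_iff.1 hga
  obtain ⟨q, hq, hqc, e⟩ := cent_q hS hX (c := g • (t • a))
    (fun x hx => by rw [← mul_smul, mem_cent.1 hgc x hx, mul_smul,
      mem_stabilizer_iff.1 (hX hx).2])
    (fun h => b_ne hS (smul_left_cancel g (h.trans hga'.symm)))
  rw [show g = q * (q⁻¹ * g) by group]
  refine mul_mem (Subgroup.mem_sup_left ⟨hqc, hq⟩) (Subgroup.mem_sup_right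
    ⟨(mul_mem (inv_mem hqc) hgc : q⁻¹ * g ∈ Subgroup.centralizer X),
      (mul_mem (inv_mem (hS.le hq)) hga : q⁻¹ * g ∈ stabilizer G a), mem_stabilizer_iff.2 ?_⟩)
  rw [mul_smul, ← e, inv_smul_smul]

theorem conj_into_centralizer : ∃ k ∈ stabilizer G a ⊓ stabilizer G (t • a),
    ∀ x ∈ X, (k * x * k⁻¹) * t = t * (k * x * k⁻¹) := by
  have hfb : ∀ x ∈ X, x • (t • a) = t • a := fun x hx => mem_stabilizer_iff.1 (hX hx).2
  obtain ⟨s, ⟨hs, hs1, hs2⟩, hsc⟩ := cent_involution hS hX h3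
  have hne : s • (t • a) ≠ t • a := fun h => b_ne hS (fix_unique hS hs hs1 hs2 h)
  obtain ⟨h, hh, h1, h2⟩ := cent_from_pair hS hX h3 hfb
    (c₂ := s • (t • a)) (fun x hx => by rw [← mul_smul, mem_cent.1 hsc x hx, mul_smul, hfb x hx])
    hne.symm
  set u := h⁻¹ * s * h with hu
  have hu2 : u * u = 1 := by
    calc u * u = h⁻¹ * (s * s) * h := by rw [hu]; group
      _ = 1 := by rw [hs2]; group
  have hua : u • a = t • a := by rw [hu, mul_smul, mul_smul, h1, ← h2, inv_smul_smul]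
  have hub : u • (t • a) = a := by rw [← hua, ← mul_smul, hu2, one_smul]
  have huX : ∀ x ∈ X, x * u = u * x := mem_cent.1 (mul_mem (mul_mem (inv_mem hh) hsc) hh)
  have hk : t * u ∈ stabilizer G a ⊓ stabilizer G (t • a) := swap_mem hS hua hub
  obtain ⟨j, hj⟩ := exists_sqrt hS.odd_card hk
  refine ⟨(t * u) ^ j, pow_mem hk j, fun x hx => ?_⟩
  set m := (t * u) ^ j
  have hi : t * (t * u) * t⁻¹ = (t * u)⁻¹ := by
    rw [mul_inv_rev, inv_t hS, inv_eq_of_mul_eq_one_right hu2, ← mul_assoc, hS.mul_self, one_mul]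
  have hm : t * m * t⁻¹ = m⁻¹ := by rw [← conj_pow, hi, inv_pow]
  have htu : m⁻¹ * t * m = u := by
    calc m⁻¹ * t * m = t * m * t⁻¹ * t * m := by rw [hm]
      _ = t * (m * m) := by group
      _ = u := by rw [hj, ← mul_assoc, hS.mul_self, one_mul]
  calc m * x * m⁻¹ * t = m * (x * (m⁻¹ * t * m)) * m⁻¹ := by group
    _ = m * ((m⁻¹ * t * m) * x) * m⁻¹ := by rw [htu, huX x hx]
    _ = t * (m * x * m⁻¹) := by group

omit hX h3

theorem odd_core_eq
    (h2 : ∃ x y : G, x ≠ 1 ∧ y ≠ 1 ∧ x ≠ y ∧ x * x = 1 ∧ y * y = 1 ∧ x * y = y * x) :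
    Cfsg.pPrimeCore 2 G = (stabilizer G a).normalCore := by
  obtain ⟨x, y, hx1, hy1, hxy, hx2, hy2, hc⟩ := h2
  have hnormal := Agent.Grp.pPrimeCore_isNormal (p := 2) (G := G)
  refine le_antisymm ?_ (Agent.Grp.le_pPrimeCore (Subgroup.normalCore_normal _) ?_)
  · refine Subgroup.normal_le_normalCore.2 ?_
    obtain ⟨g, hgs, hgs1, hgs2⟩ := conj_into hS hx1 hx2
    set x' := g * x * g⁻¹
    set y' := g * y * g⁻¹
    have hy'1 : y' ≠ 1 := fun h => hy1 (conj_eq_one_iff.1 h)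
    have hy'2 : y' * y' = 1 := by
      calc y' * y' = g * (y * y) * g⁻¹ := by simp only [y']; group
        _ = 1 := by rw [hy2]; group
    have hc' : Commute x' y' := by
      show x' * y' = y' * x'
      calc x' * y' = g * (x * y) * g⁻¹ := by simp only [x', y']; group
        _ = y' * x' := by rw [hc]; simp only [x', y']; group
    have hya : y' • a = a := fix_unique hS hgs hgs1 hgs2 (by
      rw [← mul_smul, hc'.eq, mul_smul, mem_stabilizer_iff.1 hgs])
    set V := Subgroup.closure ({x', y'} : Set G)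
    have hcomm : IsMulCommutative V := Subgroup.isMulCommutative_closure (by
      rintro u (rfl | rfl) v (rfl | rfl) <;> first | rfl | exact hc'.eq | exact hc'.eq.symm)
    have hsq : ∀ v ∈ V, v * v = 1 := fun v hv => by
      induction hv using Subgroup.closure_induction with
      | mem z hz => rcases hz with rfl | rfl <;> assumption
      | one => simp
      | mul z w hz hw e1 e2 =>
        have e := congrArg Subtype.val ((isMulCommutative_iff).1 hcomm ⟨z, hz⟩ ⟨w, hw⟩)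
        calc z * w * (z * w) = z * (w * z) * w := by group
          _ = z * (z * w) * w := by rw [show z * w = w * z from e]
          _ = z * z * (w * w) := by group
          _ = 1 := by rw [e1, e2, one_mul]
      | inv z hz e1 => rw [← mul_inv_rev, e1, inv_one]
    have hVA : V ≤ stabilizer G a := (Subgroup.closure_le _).2
      (Set.insert_subset hgs (Set.singleton_subset_iff.2 (mem_stabilizer_iff.2 hya)))
    have hnc : ¬ IsCyclic V := fun hcyc => by
      obtain ⟨v, hv⟩ := hcyc.exists_generator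
      have hmem : ∀ w ∈ V, w = 1 ∨ w = (v : G) := fun w hw => by
        obtain ⟨i, hi⟩ := Subgroup.mem_zpowers_iff.1 (hv ⟨w, hw⟩)
        have hi' : (v : G) ^ i = w := congrArg Subtype.val hi
        have hv2 : (v : G) ^ (2 : ℤ) = 1 := by rw [zpow_two]; exact hsq _ v.2
        rcases Int.even_or_odd' i with ⟨m, rfl | rfl⟩
        · rw [zpow_mul, hv2, one_zpow] at hi'; exact Or.inl hi'.symm
        · rw [zpow_add, zpow_mul, hv2, one_zpow, one_mul, zpow_one] at hi'; exact Or.inr hi'.symm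
      refine hxy (mul_left_cancel (a := g) (mul_right_cancel (b := g⁻¹) ?_))
      exact ((hmem x' (Subgroup.subset_closure (by simp))).resolve_left hgs1).trans
        ((hmem y' (Subgroup.subset_closure (by simp))).resolve_left hy'1).symm
    have hp : IsPGroup 2 V := fun v => ⟨1, Subtype.ext (by rw [pow_one, pow_two]; exact hsq _ v.2)⟩
    have hcop : (Nat.card V).Coprime (Nat.card ↥(Cfsg.pPrimeCore 2 G)) := by
      obtain ⟨n, hn⟩ := IsPGroup.iff_card.1 hp
      rw [hn]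
      exact (Agent.Grp.pPrimeCore_coprime.symm).pow_left n
    rw [← Agent.Grp.generated_by_centralizers V (Cfsg.pPrimeCore 2 G) hnc
      (fun v _ => by rw [Subgroup.normalizer_eq_top]; trivial) hcop]
    refine iSup₂_le fun v hv w hw => mem_stabilizer_iff.2 ?_
    have hwv := Subgroup.mem_centralizer_singleton_iff.1 hw.2
    exact fix_unique hS (hVA hv.1) hv.2 (hsq v hv.1) (by
      rw [← mul_smul, ← hwv, mul_smul, mem_stabilizer_iff.1 (hVA hv.1)])
  · have hle : (stabilizer G a).normalCore ≤ stabilizer G a ⊓ stabilizer G (t • a) := by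
      intro g hg
      refine ⟨Subgroup.normalCore_le _ hg, mem_stabilizer_iff.2 ?_⟩
      have := Subgroup.normalCore_le _ ((Subgroup.normalCore_normal (stabilizer G a)).conj_mem g hg t)
      rw [mem_stabilizer_iff, inv_t hS, mul_smul, mul_smul] at this
      calc g • t • a = t • (t • g • t • a) := by rw [← mul_smul t t, hS.mul_self, one_smul]
        _ = t • a := by rw [this]
    exact (Nat.coprime_two_right.2 (hS.odd_card.of_dvd_nat (Subgroup.card_dvd_of_le hle)))

end Cfsg.Agent.Lie.RankOne
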