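import Cfsg.Agent.Lib.Lie.SteinbergSL
import Cfsg.Agent.Lib.Lie.Chev.RankOneAut

/-! The two blocks of `SL₃`, the automorphisms respecting them, and homomorphisms out of `SL_N`. -/

set_option autoImplicit false
set_option linter.unusedSectionVars false

namespace Cfsg.Agent.Lie.CurtisTitsA

open Matrix Cfsg.Agent.Lie.Chev
open scoped MatrixGroups

variable {F : Type*} [Field F]

theorem val_mulN {ι : Type*} [Fintype ι] [DecidableEq ι] (x y : Matrix.SpecialLinearGroup ι F) :
    (x * y).1 = x.1 * y.1 := rfl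

theorem val_oneN {ι : Type*} [Fintype ι] [DecidableEq ι] :
    (1 : Matrix.SpecialLinearGroup ι F).1 = 1 := rfl

/-- The transvection as an element of `SL_N`. -/
def tvN {N : ℕ} (i j : Fin N) (h : i ≠ j) (t : F) : Matrix.SpecialLinearGroup (Fin N) F :=
  ⟨transvection i j t, det_transvection_of_ne i j h t⟩

theorem tvN_val {N : ℕ} {i j : Fin N} (h : i ≠ j) (t : F) :
    (tvN i j h t).1 = transvection i j t := rfl

/-- The upper block. -/
def up3 : SL(2, F) →* SL(3, F) where
  toFun g := ⟨!![g.1 0 0, g.1 0 1, 0; g.1 1 0, g.1 1 1, 0; 0, 0, 1], by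
    rw [det_fin_three]
    simp
    linear_combination det_two g⟩
  map_one' := Subtype.ext (by ext i j; fin_cases i <;> fin_cases j <;> simp [val_oneN])
  map_mul' g h := Subtype.ext (by
    show (!![(g * h).1 0 0, (g * h).1 0 1, 0; (g * h).1 1 0, (g * h).1 1 1, 0; 0, 0, 1] : Matrix (Fin 3) (Fin 3) F) =
      !![g.1 0 0, g.1 0 1, 0; g.1 1 0, g.1 1 1, 0; 0, 0, 1] * !![h.1 0 0, h.1 0 1, 0; h.1 1 0, h.1 1 1, 0; 0, 0, 1]
    ext i j
    fin_cases i <;> fin_cases j <;>
      simp [val_mulN, Matrix.mul_apply, Fin.sum_univ_three, Fin.sum_univ_two])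

/-- The lower block. -/
def dn3 : SL(2, F) →* SL(3, F) where
  toFun g := ⟨!![1, 0, 0; 0, g.1 0 0, g.1 0 1; 0, g.1 1 0, g.1 1 1], by
    rw [det_fin_three]
    simp
    linear_combination det_two g⟩
  map_one' := Subtype.ext (by ext i j; fin_cases i <;> fin_cases j <;> simp [val_oneN])
  map_mul' g h := Subtype.ext (by
    show (!![1, 0, 0; 0, (g * h).1 0 0, (g * h).1 0 1; 0, (g * h).1 1 0, (g * h).1 1 1] : Matrix (Fin 3) (Fin 3) F) =
      !![1, 0, 0; 0, g.1 0 0, g.1 0 1; 0, g.1 1 0, g.1 1 1] * !![1, 0, 0; 0, h.1 0 0, h.1 0 1; 0, h.1 1 0, h.1 1 1]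
    ext i j
    fin_cases i <;> fin_cases j <;>
      simp [val_mulN, Matrix.mul_apply, Fin.sum_univ_three, Fin.sum_univ_two])

theorem up3_val (g : SL(2, F)) :
    (up3 g).1 = !![g.1 0 0, g.1 0 1, 0; g.1 1 0, g.1 1 1, 0; 0, 0, 1] := rfl

theorem dn3_val (g : SL(2, F)) :
    (dn3 g).1 = !![1, 0, 0; 0, g.1 0 0, g.1 0 1; 0, g.1 1 0, g.1 1 1] := rfl

/-- The central element of order two. -/
def negOne2 : SL(2, F) := ⟨!![-1, 0; 0, -1], by simp [det_fin_two]⟩

theorem negOne2_val : (negOne2 : SL(2, F)).1 = !![-1, 0; 0, -1] := rfl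

theorem negOne2_sq : (negOne2 : SL(2, F)) * negOne2 = 1 := by
  refine ext_two ?_ ?_ ?_ ?_ <;> simp [mul_val, negOne2_val]

theorem negOne2_comm (g : SL(2, F)) : negOne2 * g = g * negOne2 := by
  refine ext_two ?_ ?_ ?_ ?_ <;> simp [mul_val, negOne2_val, Matrix.mul_apply, Fin.sum_univ_two]

theorem negOne2_ne_one (h2 : (2 : F) ≠ 0) : (negOne2 : SL(2, F)) ≠ 1 := by
  intro h
  have h1 := congrArg (fun x : SL(2, F) => x.1 0 0) h
  simp [negOne2_val, val_oneN] at h1
  exact h2 (by linear_combination -h1)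

/-- An involution of `SL₂` is central. -/
theorem eq_negOne2_of_sq (h2 : (2 : F) ≠ 0) {g : SL(2, F)} (h : g * g = 1) (hne : g ≠ 1) :
    g = negOne2 := by
  have e := congrArg Subtype.val h
  have e00 := congrFun (congrFun e 0) 0
  have e01 := congrFun (congrFun e 0) 1
  have e10 := congrFun (congrFun e 1) 0
  have e11 := congrFun (congrFun e 1) 1
  simp [mul_val, val_oneN, Matrix.mul_apply, Fin.sum_univ_two] at e00 e01 e10 e11
  have hd := det_two g
  have hs : g.1 0 0 + g.1 1 1 ≠ 0 := by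
    intro hs
    have : (2 : F) = 0 := by linear_combination (g.1 0 0) * hs - hd - e00
    exact h2 this
  have hb : g.1 0 1 = 0 := (mul_eq_zero.1
    (show (g.1 0 0 + g.1 1 1) * g.1 0 1 = 0 by linear_combination e01)).resolve_left hs
  have hc : g.1 1 0 = 0 := (mul_eq_zero.1
    (show (g.1 0 0 + g.1 1 1) * g.1 1 0 = 0 by linear_combination e10)).resolve_left hs
  have ha : g.1 0 0 * g.1 0 0 = 1 := by linear_combination e00 - g.1 1 0 * hb
  have hd' : g.1 0 0 * g.1 1 1 = 1 := by linear_combination hd + g.1 1 0 * hb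
  have ha0 : g.1 0 0 ≠ 0 := fun h0 => by simp [h0] at ha
  have had : g.1 1 1 = g.1 0 0 := mul_left_cancel₀ ha0 (hd'.trans ha.symm)
  rcases (mul_self_eq_one_iff).1 ha with h1 | h1
  · exact absurd (ext_two (by simp [h1, val_oneN]) (by simp [hb, val_oneN])
      (by simp [hc, val_oneN]) (by simp [had, h1, val_oneN])) hne
  · exact ext_two (by simp [h1, negOne2_val]) (by simp [hb, negOne2_val])
      (by simp [hc, negOne2_val]) (by simp [had, h1, negOne2_val])

/-- Conjugation by `diag(-1, 1)`. -/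
abbrev eps : SL(2, F) →* SL(2, F) := signTwist (-1) (by ring)

theorem eps_val (g : SL(2, F)) :
    (eps g).1 = !![g.1 0 0, -1 * g.1 0 1; -1 * g.1 1 0, g.1 1 1] := rfl

theorem eps_up (t : F) : eps (upSL t) = upSL (-t) := by
  refine ext_two ?_ ?_ ?_ ?_ <;> simp [eps_val, upSL_val]

theorem eps_lo (t : F) : eps (loSL t) = loSL (-t) := by
  refine ext_two ?_ ?_ ?_ ?_ <;> simp [eps_val, loSL_val]

theorem eps_negOne2 : eps (negOne2 : SL(2, F)) = negOne2 := by
  refine ext_two ?_ ?_ ?_ ?_ <;> simp [eps_val, negOne2_val]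

theorem twist_up3 (g : SL(2, F)) :
    dn3 negOne2 * up3 g * dn3 negOne2 = up3 (eps g) := by
  apply Subtype.ext
  ext i j
  fin_cases i <;> fin_cases j <;>
    simp [val_mulN, up3_val, dn3_val, negOne2_val, eps_val, Matrix.mul_apply, Fin.sum_univ_three]

theorem twist_dn3 (g : SL(2, F)) :
    up3 negOne2 * dn3 g * up3 negOne2 = dn3 (eps g) := by
  apply Subtype.ext
  ext i j
  fin_cases i <;> fin_cases j <;>
    simp [val_mulN, up3_val, dn3_val, negOne2_val, eps_val, Matrix.mul_apply, Fin.sum_univ_three]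

/-- The inverse transpose. -/
def tauN {N : ℕ} : Matrix.SpecialLinearGroup (Fin N) F →* Matrix.SpecialLinearGroup (Fin N) F where
  toFun g := ⟨(g⁻¹).1ᵀ, by rw [det_transpose]; exact (g⁻¹).2⟩
  map_one' := Subtype.ext (by simp [val_oneN])
  map_mul' g h := Subtype.ext (by
    show ((g * h)⁻¹).1ᵀ = (g⁻¹).1ᵀ * (h⁻¹).1ᵀ
    rw [_root_.mul_inv_rev, val_mulN, transpose_mul])

theorem tauN_val {N : ℕ} (g : Matrix.SpecialLinearGroup (Fin N) F) :
    (tauN g).1 = (g⁻¹).1ᵀ := rfl

theorem tauN_tauN {N : ℕ} (g : Matrix.SpecialLinearGroup (Fin N) F) : tauN (tauN g) = g := by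
  have h : (tauN g)⁻¹ = tauN g⁻¹ := by rw [map_inv]
  apply Subtype.ext
  rw [tauN_val, h, tauN_val, inv_inv, transpose_transpose]

theorem tauN_injective {N : ℕ} : Function.Injective (tauN (F := F) (N := N)) :=
  Function.LeftInverse.injective tauN_tauN

theorem tauN_tv {N : ℕ} {i j : Fin N} (h : i ≠ j) (t : F) :
    tauN (tvN i j h t) = tvN j i h.symm (-t) := by
  have e : (tvN i j h t)⁻¹ = tvN i j h (-t) := by
    refine inv_eq_of_mul_eq_one_right (Subtype.ext ?_)
    rw [val_mulN, tvN_val, tvN_val, transvection_mul_transvection_same (h := h), add_neg_cancel,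
      transvection_zero, val_oneN]
  apply Subtype.ext
  rw [tauN_val, e, tvN_val, tvN_val]
  simp [transvection, transpose_add, transpose_single]

theorem inv_dn3 (g : SL(2, F)) : (dn3 g)⁻¹ = dn3 g⁻¹ := (map_inv _ g).symm

theorem tau_up3 (g : SL(2, F)) : tauN (up3 g) = up3 (tauN g) := by
  apply Subtype.ext
  rw [tauN_val, ← map_inv, up3_val, up3_val, tauN_val]
  ext i j
  fin_cases i <;> fin_cases j <;> simp [transpose_apply]

theorem tau_dn3 (g : SL(2, F)) : tauN (dn3 g) = dn3 (tauN g) := by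
  apply Subtype.ext
  rw [tauN_val, ← map_inv, dn3_val, dn3_val, tauN_val]
  ext i j
  fin_cases i <;> fin_cases j <;> simp [transpose_apply]

theorem tau_up (t : F) : tauN (upSL t) = loSL (-t) := by
  refine ext_two ?_ ?_ ?_ ?_ <;>
    simp [tauN_val, inv_val, upSL_val, loSL_val, Matrix.adjugate_fin_two]

theorem tau_lo (t : F) : tauN (loSL t) = upSL (-t) := by
  refine ext_two ?_ ?_ ?_ ?_ <;>
    simp [tauN_val, inv_val, upSL_val, loSL_val, Matrix.adjugate_fin_two]

theorem tau_eps (g : SL(2, F)) : tauN (eps g) = eps (tauN g) := by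
  refine ext_two ?_ ?_ ?_ ?_ <;>
    simp [tauN_val, inv_val, eps_val, Matrix.adjugate_fin_two]

theorem tau_negOne2 : tauN (negOne2 : SL(2, F)) = negOne2 := by
  refine ext_two ?_ ?_ ?_ ?_ <;>
    simp [tauN_val, inv_val, negOne2_val, Matrix.adjugate_fin_two]

/-- Conjugation by a diagonal matrix. -/
def diagConj {N : ℕ} (d : Fin N → Fˣ) :
    Matrix.SpecialLinearGroup (Fin N) F →* Matrix.SpecialLinearGroup (Fin N) F where
  toFun g := ⟨diagonal (fun i => (d i : F)) * g.1 * diagonal (fun i => (↑(d i)⁻¹ : F)), by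
    rw [det_mul, det_mul, g.2, mul_one, ← det_mul, diagonal_mul_diagonal]
    simp⟩
  map_one' := Subtype.ext (by
    show diagonal _ * (1 : Matrix (Fin N) (Fin N) F) * diagonal _ = 1
    rw [mul_one, diagonal_mul_diagonal]
    simp)
  map_mul' g h := Subtype.ext (by
    show diagonal _ * (g.1 * h.1) * diagonal _ = _ * _ * _ * (_ * _ * _)
    have e : diagonal (fun i => (↑(d i)⁻¹ : F)) * diagonal (fun i => (d i : F)) = 1 := by
      rw [diagonal_mul_diagonal]; simp
    calc diagonal (fun i => (d i : F)) * (g.1 * h.1) * diagonal (fun i => (↑(d i)⁻¹ : F))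
        = diagonal (fun i => (d i : F)) * g.1 *
            (diagonal (fun i => (↑(d i)⁻¹ : F)) * diagonal (fun i => (d i : F))) * h.1 *
            diagonal (fun i => (↑(d i)⁻¹ : F)) := by rw [e, mul_one, ← mul_assoc]
      _ = _ := by simp only [mul_assoc])

theorem diagConj_apply {N : ℕ} (d : Fin N → Fˣ) (g : Matrix.SpecialLinearGroup (Fin N) F)
    (i j : Fin N) : (diagConj d g).1 i j = (d i : F) * g.1 i j * (↑(d j)⁻¹ : F) := by
  show ((diagonal fun i => (d i : F)) * g.1 * diagonal fun i => (↑(d i)⁻¹ : F)) i j = _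
  rw [mul_diagonal, diagonal_mul]

theorem diagConj_injective {N : ℕ} (d : Fin N → Fˣ) : Function.Injective (diagConj d) := by
  intro g h e
  apply Subtype.ext
  ext i j
  have := congrArg (fun x : Matrix.SpecialLinearGroup (Fin N) F => x.1 i j) e
  simp only [diagConj_apply] at this
  exact mul_left_cancel₀ (d i).ne_zero (mul_right_cancel₀ (d j)⁻¹.ne_zero this)

/-- Two homomorphisms out of `SL₂` agree when they agree on the root groups. -/
theorem hom_ext2 {G : Type*} [Monoid G] {φ ψ : SL(2, F) →* G}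
    (hu : ∀ t, φ (upSL t) = ψ (upSL t)) (hl : ∀ t, φ (loSL t) = ψ (loSL t)) : φ = ψ := by
  refine MonoidHom.eq_of_eqOn_dense Cfsg.Agent.Classical.SL_closure_transvections ?_
  rintro _ ⟨⟨i, j, hij, t⟩, rfl⟩
  fin_cases i <;> fin_cases j
  all_goals first
    | exact absurd rfl hij
    | (convert hu t using 2 <;> refine ext_two ?_ ?_ ?_ ?_ <;>
        simp [SpecialLinearGroup.transvection, transvection, upSL_val]; done)
    | (convert hl t using 2 <;> refine ext_two ?_ ?_ ?_ ?_ <;>
        simp [SpecialLinearGroup.transvection, transvection, loSL_val]; done)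

theorem up3_up (t : F) : up3 (upSL t) = tvN 0 1 (by decide) t := by
  apply Subtype.ext
  ext i j
  fin_cases i <;> fin_cases j <;> simp [up3_val, upSL_val, tvN_val, transvection]

theorem up3_lo (t : F) : up3 (loSL t) = tvN 1 0 (by decide) t := by
  apply Subtype.ext
  ext i j
  fin_cases i <;> fin_cases j <;> simp [up3_val, loSL_val, tvN_val, transvection]

theorem dn3_up (t : F) : dn3 (upSL t) = tvN 1 2 (by decide) t := by
  apply Subtype.ext
  ext i j
  fin_cases i <;> fin_cases j <;> simp [dn3_val, upSL_val, tvN_val, transvection]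

theorem dn3_lo (t : F) : dn3 (loSL t) = tvN 2 1 (by decide) t := by
  apply Subtype.ext
  ext i j
  fin_cases i <;> fin_cases j <;> simp [dn3_val, loSL_val, tvN_val, transvection]

/-- A family with Steinberg's relations comes from a homomorphism. -/
theorem exists_hom_of_SLPre [Finite F] {N : ℕ} (hN : 3 ≤ N) {H : Type*} [Group H]
    (A : SLSteinberg.SLPre F N H) :
    ∃ Φ : Matrix.SpecialLinearGroup (Fin N) F →* H,
      ∀ (i j : Fin N) (h : i ≠ j) (t : F), Φ (tvN i j h t) = A.X i j t := by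
  classical
  let P : Fin N → Fin N → F → Matrix.SpecialLinearGroup (Fin N) F × H := fun i j t =>
    if h : i ≠ j then (tvN i j h t, A.X i j t) else 1
  have hP : ∀ {i j : Fin N} (h : i ≠ j) (t : F), P i j t = (tvN i j h t, A.X i j t) :=
    fun h t => dif_pos h
  let Γ : Subgroup (Matrix.SpecialLinearGroup (Fin N) F × H) :=
    Subgroup.closure {g | ∃ i j, i ≠ j ∧ ∃ t, g = P i j t}
  have hmem : ∀ i j t, P i j t ∈ Γ := fun i j t => by
    by_cases h : i ≠ j
    · exact Subgroup.subset_closure ⟨i, j, h, t, rfl⟩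
    · rw [show P i j t = 1 from dif_neg h]; exact one_mem _
  let B : SLSteinberg.SLPre F N Γ :=
    { X := fun i j t => ⟨P i j t, hmem i j t⟩
      add := fun i j h t u => Subtype.ext (by
        show P i j t * P i j u = P i j (t + u)
        rw [hP h, hP h, hP h, Prod.mk_mul_mk, A.add i j h]
        congr 1
        refine Subtype.ext ?_
        rw [val_mulN, tvN_val, tvN_val, tvN_val, transvection_mul_transvection_same (h := h)])
      comm₀ := fun i j k l hij hkl hjk hil t u => by
        refine Subtype.ext ?_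
        show P i j t * P k l u = P k l u * P i j t
        rw [hP hij, hP hkl, Prod.mk_mul_mk, Prod.mk_mul_mk, (A.comm₀ i j k l hij hkl hjk hil t u).eq]
        congr 1
        exact Subtype.ext ((SLSteinberg.transvection_rels hij hkl hil t u).1 hjk)
      comm₁ := fun i j k hij hjk hik t u => by
        refine Subtype.ext ?_
        show P i j t * P j k u = P i k (t * u) * P j k u * P i j t
        rw [hP hij, hP hjk, hP hik, Prod.mk_mul_mk, Prod.mk_mul_mk, Prod.mk_mul_mk,
          A.comm₁ i j k hij hjk hik t u]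
        congr 1
        exact Subtype.ext ((SLSteinberg.transvection_rels hij hjk hik t u).2 rfl) }
  let S : SLSteinberg.SLSt F N Γ :=
    { B with
      θ := (MonoidHom.fst _ _).comp Γ.subtype
      θX := fun i j h t => by
        show ((P i j t).1).1 = _
        rw [hP h, tvN_val]
      rel := fun i j h t u ht => B.rel_of_three hN i j h t u ht }
  have hgen : Subgroup.closure {g : Γ | ∃ i j, i ≠ j ∧ ∃ u, g = S.X i j u} = ⊤ := by
    apply Subgroup.map_injective Γ.subtype_injective
    rw [MonoidHom.map_closure, ← MonoidHom.range_eq_map, Subgroup.range_subtype]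
    show _ = Subgroup.closure _
    congr 1
    ext g
    constructor
    · rintro ⟨_, ⟨i, j, h, t, rfl⟩, rfl⟩
      exact ⟨i, j, h, t, rfl⟩
    · rintro ⟨i, j, h, t, rfl⟩
      exact ⟨_, ⟨i, j, h, t, rfl⟩, rfl⟩
  have hbij := SLSteinberg.bijective (by omega) S hgen
  let e := MulEquiv.ofBijective S.θ hbij
  refine ⟨((MonoidHom.snd _ _).comp Γ.subtype).comp e.symm.toMonoidHom, fun i j h t => ?_⟩
  have he : e.symm (tvN i j h t) = B.X i j t := by
    rw [MulEquiv.symm_apply_eq]
    exact Subtype.ext (S.θX i j h t).symm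
  show (e.symm (tvN i j h t)).1.2 = _
  rw [he]
  show (P i j t).2 = _
  rw [hP h]

end Cfsg.Agent.Lie.CurtisTitsA
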