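import Cfsg.Agent.Lib.Classical.PSLFieldAut
import Cfsg.Prelude.Def_LieTypeDatum

/-!
The orders of the automorphisms of `PSL_d(q)`. A power of a semilinear map is linear with a
characteristic polynomial over the fixed field, so its powers modulo scalars inject into the
polynomials of degree `< d` over that field. For a graph automorphism the square `h` satisfies
`g (σ h)ᵀ g⁻¹ = h⁻¹`, so half of the non-zero polynomials in `h` are not scalar multiples of powers.
-/

set_option autoImplicit false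
set_option linter.unusedSectionVars false

namespace Cfsg.Agent.Lie.AutPSLOrder

open Matrix Polynomial Cfsg.Agent.Classical Cfsg.Agent.Classical.PSLAut

/-- Geometric comparison. -/
theorem geom_mul (q d : ℕ) (hq : 1 ≤ q) :
    (q - 1) * ∑ i ∈ Finset.range d, q ^ i = q ^ d - 1 := by
  have h := geom_sum_mul_add (q - 1) d
  rw [Nat.sub_add_cancel hq, mul_comm] at h
  omega

theorem le_two_pow_pred (k : ℕ) : k ≤ 2 ^ (k - 1) := by
  rcases k with _ | k
  · simp
  · simpa using Nat.lt_two_pow_self (n := k)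

theorem two_mul_le_pow (k : ℕ) : 2 * k ≤ 2 ^ k := by
  rcases k with _ | k
  · simp
  · have := Nat.lt_two_pow_self (n := k)
    rw [pow_succ]
    omega

/-- Field automorphisms. -/
theorem sum_field {x e d : ℕ} (hx : 2 ≤ x) (he : 1 ≤ e) (hd : 2 ≤ d)
    (hex : ¬ (e = 2 ∧ x = 2 ∧ d = 2)) :
    e * ∑ i ∈ Finset.range d, x ^ i ≤ ∑ i ∈ Finset.range d, (x ^ e) ^ i := by
  have hterm : ∀ i, 2 ≤ i → e * x ^ i ≤ (x ^ e) ^ i := by
    intro i hi
    rw [← pow_mul, show e * i = i + (e - 1) * i by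
      obtain ⟨f, rfl⟩ : ∃ f, e = f + 1 := ⟨e - 1, by omega⟩
      rw [add_tsub_cancel_right]; ring, pow_add, mul_comm e]
    refine Nat.mul_le_mul_left _ ((le_two_pow_pred e).trans ?_)
    exact (Nat.pow_le_pow_left hx _).trans (Nat.pow_le_pow_right (by omega) (Nat.le_mul_of_pos_right _ (by omega)))
  have hstep : ∀ k j, e * ∑ i ∈ Finset.range (k + 2), x ^ i ≤ ∑ i ∈ Finset.range (k + 2), (x ^ e) ^ i →
      e * ∑ i ∈ Finset.range (k + j + 2), x ^ i ≤ ∑ i ∈ Finset.range (k + j + 2), (x ^ e) ^ i := by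
    intro k j h
    induction j with
    | zero => exact h
    | succ j ih =>
      rw [show k + (j + 1) + 2 = k + j + 2 + 1 by ring, Finset.sum_range_succ _ (k + j + 2),
        Finset.sum_range_succ _ (k + j + 2), mul_add]
      exact add_le_add ih (hterm _ (by omega))
  rcases Nat.eq_or_lt_of_le he with rfl | he2
  · simp
  by_cases h22 : e = 2 ∧ x = 2
  · obtain ⟨rfl, rfl⟩ := h22
    obtain ⟨j, rfl⟩ : ∃ j, d = 1 + j + 2 := ⟨d - 3, by omega⟩
    exact hstep 1 j (by simp [Finset.sum_range_succ])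
  obtain ⟨j, rfl⟩ : ∃ j, d = 0 + j + 2 := ⟨d - 2, by omega⟩
  refine hstep 0 j ?_
  simp only [Finset.sum_range_succ, Finset.range_zero, Finset.sum_empty, pow_zero, pow_one, zero_add]
  have key : ∀ f, (f + 3) * (1 + x) ≤ 1 + x ^ (f + 3) := by
    intro f
    induction f with
    | zero =>
      have h3 := Nat.mul_le_mul_right x (Nat.mul_le_mul hx hx)
      rw [show x * x * x = x ^ 3 by ring] at h3
      norm_num at h3 ⊢
      omega
    | succ f ih =>
      have : 2 * x ^ (f + 3) ≤ x ^ (f + 1 + 3) := by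
        have h3 := Nat.mul_le_mul_right (x ^ (f + 3)) hx
        rwa [← pow_succ'] at h3
      nlinarith
  rcases Nat.eq_or_lt_of_le he2 with h | h
  · obtain rfl : e = 2 := by omega
    have hx3 : 3 ≤ x := by omega
    nlinarith
  · obtain ⟨f, rfl⟩ : ∃ f, e = f + 3 := ⟨e - 3, by omega⟩
    exact key f

/-- Graph-field automorphisms. -/
theorem sum_graph {x e d : ℕ} (hx : 2 ≤ x) (he : 2 ≤ e) (hd : 3 ≤ d) (hex : e = 2 → 3 ≤ x) :
    2 * e * ∑ i ∈ Finset.range d, x ^ i ≤ ∑ i ∈ Finset.range d, (x ^ e) ^ i := by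
  have hterm : ∀ i, 3 ≤ i → 2 * e * x ^ i ≤ (x ^ e) ^ i := by
    intro i hi
    rw [← pow_mul, show e * i = i + (e - 1) * i by
      obtain ⟨f, rfl⟩ : ∃ f, e = f + 1 := ⟨e - 1, by omega⟩
      rw [add_tsub_cancel_right]; ring, pow_add, mul_comm (2 * e)]
    refine Nat.mul_le_mul_left _ ((two_mul_le_pow e).trans ?_)
    exact (Nat.pow_le_pow_left hx _).trans (Nat.pow_le_pow_right (by omega) (by nlinarith [Nat.sub_add_cancel (show 1 ≤ e by omega)]))
  obtain ⟨j, rfl⟩ : ∃ j, d = j + 3 := ⟨d - 3, by omega⟩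
  induction j with
  | zero =>
    simp only [Finset.sum_range_succ, Finset.range_zero, Finset.sum_empty, pow_zero, pow_one, zero_add]
    -- `x ^ (2 e - 2)` absorbs everything
    have h1 : 4 * (1 + x + x ^ 2) ≤ 7 * x ^ 2 := by nlinarith
    have h2 : ∀ f, f + 2 = e → 7 * e ≤ 2 * x ^ (2 * f + 2) := by
      intro f hf
      rcases f with _ | f
      · obtain rfl : e = 2 := by omega
        have := hex rfl
        norm_num
        nlinarith
      · have h3 : ∀ k, 7 * (k + 3) ≤ 2 * 2 ^ (2 * k + 4) := by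
          intro k
          induction k with
          | zero => norm_num
          | succ k ih => rw [show 2 * (k + 1) + 4 = 2 * k + 4 + 2 by ring, pow_add]; omega
        calc 7 * e = 7 * (f + 3) := by omega
          _ ≤ 2 * 2 ^ (2 * f + 4) := h3 f
          _ ≤ _ := by
            rw [show 2 * (f + 1) + 2 = 2 * f + 4 by ring]
            exact Nat.mul_le_mul_left _ (Nat.pow_le_pow_left hx _)
    have h4 := h2 (e - 2) (by omega)
    have h5 : (x ^ e) ^ 2 = x ^ 2 * x ^ (2 * (e - 2) + 2) := by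
      rw [← pow_mul, ← pow_add]; congr 1; omega
    rw [h5]
    have h6 := Nat.mul_le_mul_left (x ^ 2) h4
    have h7 := Nat.mul_le_mul_left (2 * e) h1
    generalize x ^ (2 * (e - 2) + 2) = X at *
    generalize x ^ e = Y at *
    nlinarith
  | succ j ih =>
    rw [show j + 1 + 3 = j + 3 + 1 by ring, Finset.sum_range_succ _ (j + 3),
      Finset.sum_range_succ _ (j + 3), mul_add]
    exact add_le_add (ih (by omega)) (hterm _ (by omega))

theorem two_mul_pred_pow {q : ℕ} (hq : 3 ≤ q) : 2 * (q - 1) ^ (q - 1) < q ^ (q - 1) := by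
  obtain ⟨n, rfl⟩ : ∃ n, q = n + 1 := ⟨q - 1, by omega⟩
  rw [add_tsub_cancel_right]
  have key : ∀ k, n ^ (k + 2) + (k + 2) * n ^ (k + 1) < (n + 1) ^ (k + 2) := by
    intro k
    induction k with
    | zero => ring_nf; omega
    | succ k ih =>
      have := Nat.mul_le_mul_left (n + 1) ih.le
      have hpos : 0 < (k + 2) * n ^ (k + 1) :=
        Nat.mul_pos (by omega) (pow_pos (show 0 < n by omega) _)
      calc n ^ (k + 1 + 2) + (k + 1 + 2) * n ^ (k + 1 + 1)
          < (n + 1) * (n ^ (k + 2) + (k + 2) * n ^ (k + 1)) := by ring_nf at hpos ⊢; omega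
        _ ≤ _ := by rw [show k + 1 + 2 = k + 2 + 1 by ring, pow_succ' (n + 1)]; exact this
  obtain ⟨k, rfl⟩ : ∃ k, n = k + 2 := ⟨n - 2, by omega⟩
  have := key k
  rw [← pow_succ'] at this
  calc 2 * (k + 2) ^ (k + 2) = (k + 2) ^ (k + 2) + (k + 2) ^ (k + 2) := by ring
    _ < _ := this

section matrices

variable {F : Type*} [Field F] {d : ℕ}

local notation "Mat" => Matrix (Fin d) (Fin d) F

/-- The first `m` powers of `A` are pairwise independent modulo scalars. -/
def Free (m : ℕ) (A : Mat) : Prop := ∀ k, 0 < k → k < m → ∀ c : F, A ^ k ≠ c • 1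

theorem scalar_smul_pow_inj [Nonempty (Fin d)] {A : Mat} (hA : IsUnit A) {m : ℕ} (hm : Free m A) {i j : ℕ} (hi : i < m)
    (hj : j < m) {c c' : F} (hc : c ≠ 0) (hc' : c' ≠ 0) (e : c • A ^ i = c' • A ^ j) :
    i = j ∧ c = c' := by
  wlog hij : i ≤ j generalizing i j c c'
  · exact (this hj hi hc' hc e.symm (le_of_not_ge hij)).imp Eq.symm Eq.symm
  have e2 : A ^ (j - i) = (c'⁻¹ * c) • 1 := by
    rw [show A ^ j = A ^ (j - i) * A ^ i by rw [← pow_add, Nat.sub_add_cancel hij]] at e
    refine (hA.pow i).mul_left_inj.1 ?_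
    rw [smul_mul_assoc, one_mul, mul_smul, e, smul_smul, inv_mul_cancel₀ hc', one_smul]
  have h0 : j - i = 0 := by
    by_contra h
    exact hm (j - i) (Nat.pos_of_ne_zero h) (by omega) _ e2
  obtain rfl : i = j := by omega
  refine ⟨rfl, ?_⟩
  exact smul_left_injective F (hA.pow i).ne_zero e

theorem isUnit_smul_pow {A : Mat} (hA : IsUnit A) (c : Fˣ) (k : ℕ) : IsUnit ((c : F) • A ^ k) := by
  rw [Algebra.smul_def]; exact (c.isUnit.map _).mul (hA.pow _)

variable {K : Type*} [Field K] (j : K →+* F)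

/-- The multiples of the first `m` powers, as polynomials over `K` of small degree. -/
theorem exists_code [Nonempty (Fin d)] {A : Mat} (hA : IsUnit A) {m : ℕ} (hm : Free m A)
    {P : K[X]} (hP : P.Monic) (hP0 : aeval A (P.map j) = 0) :
    ∃ Φ : Fin m × Kˣ → degreeLT K P.natDegree, Function.Injective Φ ∧
      ∀ x, aeval A ((Φ x : K[X]).map j) = j (x.2 : K) • A ^ (x.1 : ℕ) := by
  have hdeg : ∀ x : Fin m × Kˣ, (C (x.2 : K) * X ^ (x.1 : ℕ)) %ₘ P ∈ degreeLT K P.natDegree := by
    intro x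
    rw [mem_degreeLT]
    exact lt_of_lt_of_eq (degree_modByMonic_lt _ hP) (degree_eq_natDegree hP.ne_zero)
  have hval : ∀ x : Fin m × Kˣ, aeval A (((C (x.2 : K) * X ^ (x.1 : ℕ)) %ₘ P).map j) =
      j (x.2 : K) • A ^ (x.1 : ℕ) := by
    intro x
    rw [modByMonic_eq_sub_mul_div _ P, Polynomial.map_sub, Polynomial.map_mul, Polynomial.map_mul, map_sub,
      map_mul, map_mul, hP0, zero_mul, sub_zero, map_C, Polynomial.map_pow, map_X, aeval_C, map_pow,
      aeval_X, Algebra.smul_def]
  refine ⟨fun x => ⟨_, hdeg x⟩, fun x y h => ?_, hval⟩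
  have e : j (x.2 : K) • A ^ (x.1 : ℕ) = j (y.2 : K) • A ^ (y.1 : ℕ) := by
    rw [← hval, ← hval]
    exact congrArg (fun z : degreeLT K P.natDegree => aeval A ((z : K[X]).map j)) h
  obtain ⟨h1, h2⟩ := scalar_smul_pow_inj hA hm x.1.2 y.1.2
    ((map_ne_zero j).2 x.2.ne_zero) ((map_ne_zero j).2 y.2.ne_zero) e
  exact Prod.ext (Fin.ext h1) (Units.ext (j.injective h2))

theorem card_degreeLT [Finite K] (n : ℕ) : Nat.card (degreeLT K n) = Nat.card K ^ n := by
  rw [Nat.card_congr (degreeLTEquiv K n).toEquiv, Nat.card_fun, Nat.card_fin]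

/-- The linear bound. -/
theorem bound [Nonempty (Fin d)] [Finite K] {A : Mat} (hA : IsUnit A) {m : ℕ} (hm : Free m A)
    {P : K[X]} (hP : P.Monic) (hP0 : aeval A (P.map j) = 0) :
    (Nat.card K - 1) * m ≤ Nat.card K ^ P.natDegree - 1 := by
  classical
  obtain ⟨Φ, hinj, hval⟩ := exists_code j hA hm hP hP0
  haveI : Finite (degreeLT K P.natDegree) := Finite.of_equiv _ (degreeLTEquiv K P.natDegree).toEquiv.symm
  letI : Fintype (degreeLT K P.natDegree) := Fintype.ofFinite _
  letI : Fintype K := Fintype.ofFinite _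
  have h1 : ∀ x, Φ x ∈ Finset.univ.erase (0 : degreeLT K P.natDegree) := fun x => by
    refine Finset.mem_erase.2 ⟨fun h => ?_, Finset.mem_univ _⟩
    have e := hval x
    rw [h, Submodule.coe_zero, Polynomial.map_zero, map_zero, eq_comm, smul_eq_zero] at e
    exact e.elim (fun e => x.2.ne_zero ((map_eq_zero j).1 e)) (hA.pow _).ne_zero
  have := Finset.card_le_card_of_injOn Φ (s := Finset.univ) (fun x _ => h1 x) hinj.injOn
  rwa [Finset.card_univ, Fintype.card_prod, Fintype.card_fin, Fintype.card_units,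
    Finset.card_erase_of_mem (Finset.mem_univ _), Finset.card_univ, ← Nat.card_eq_fintype_card,
    ← Nat.card_eq_fintype_card (α := degreeLT K P.natDegree), card_degreeLT, mul_comm] at this

end matrices

section graph

variable {F : Type*} [Field F] [Fintype F] {d : ℕ} [Nonempty (Fin d)]

local notation "Mat" => Matrix (Fin d) (Fin d) F

/-- A set of nowhere vanishing tuples pulled back along a linear surjection. -/
theorem card_preimage_le {V W : Type*} [AddCommGroup V] [Module F V] [Finite V] [AddCommGroup W]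
    [Module F W] [Finite W] (L : V →ₗ[F] W) (hL : Function.Surjective L) (S : Set W) :
    Nat.card (L ⁻¹' S) * Nat.card W ≤ Nat.card S * Nat.card V := by
  obtain ⟨s, hs⟩ := L.exists_rightInverse_of_surjective (LinearMap.range_eq_top.2 hL)
  have hs' : ∀ w, L (s w) = w := LinearMap.congr_fun hs
  rw [← Nat.card_prod, ← Nat.card_prod]
  refine Nat.card_le_card_of_injective
    (fun x => (⟨L x.1.1, x.1.2⟩, x.1.1 - s (L x.1.1) + s x.2)) ?_
  rintro ⟨⟨v, hv⟩, w⟩ ⟨⟨v', hv'⟩, w'⟩ h
  simp only [Prod.mk.injEq, Subtype.mk.injEq] at h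
  obtain ⟨h1, h2⟩ := h
  have hw : w = w' := by simpa [hs'] using congrArg L h2
  subst hw
  rw [h1, add_left_inj, sub_left_inj] at h2
  subst h2
  rfl

/-- Half of the non-zero polynomials. -/
theorem graph_bound (hd : 3 ≤ d) (hex : ¬ (d = 3 ∧ Fintype.card F = 2)) {A : Mat} (hA : IsUnit A)
    {m : ℕ} (hm : Free m A) (hm0 : A ^ m ∈ Set.range (fun c : F => c • (1 : Mat))) (hm1 : 0 < m)
    (ψ : Mat →+ Mat) (σ : F →+* F) (hψ : ∀ (c : F) (k : ℕ), ψ (c • A ^ k) = σ c • (A⁻¹) ^ k) :
    2 * ((Fintype.card F - 1) * m) ≤ Fintype.card F ^ d - 1 := by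
  classical
  set q := Fintype.card F with hqdef
  have hq : 2 ≤ q := Fintype.one_lt_card
  have hcar : Nat.card F = q := Nat.card_eq_fintype_card
  by_cases hI : ∀ Q : F[X], Q.natDegree < d → aeval A Q = 0 → Q = 0
  swap
  · push Not at hI
    obtain ⟨Q, hQd, hQA, hQ0⟩ := hI
    have hmon : (Q * C Q.leadingCoeff⁻¹).Monic := monic_mul_leadingCoeff_inv hQ0
    have h1 := bound (RingHom.id F) hA hm hmon (by rw [Polynomial.map_id, map_mul, hQA, zero_mul])
    rw [natDegree_mul_leadingCoeff_inv _ hQ0, hcar] at h1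
    have h2 : 2 * q ^ Q.natDegree ≤ q ^ d :=
      (Nat.mul_le_mul_right _ hq).trans (by rw [← pow_succ']; exact Nat.pow_le_pow_right (by omega) hQd)
    omega
  have hcp : A.charpoly.Monic := A.charpoly_monic
  have hdeg : A.charpoly.natDegree = d := by rw [A.charpoly_natDegree_eq_dim, Fintype.card_fin]
  obtain ⟨Φ, hinj, hval⟩ := exists_code (RingHom.id F) hA hm hcp
    (by rw [Polynomial.map_id]; exact A.aeval_self_charpoly)
  simp only [Polynomial.map_id, RingHom.id_apply] at hval
  haveI : Finite (degreeLT F A.charpoly.natDegree) :=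
    Finite.of_equiv _ (degreeLTEquiv F A.charpoly.natDegree).toEquiv.symm
  letI : Fintype (degreeLT F A.charpoly.natDegree) := Fintype.ofFinite _
  have hcardV : Nat.card (degreeLT F A.charpoly.natDegree) = q ^ d := by rw [card_degreeLT, hcar, hdeg]
  by_cases hu : ∃ a : F, a ≠ 0 ∧ IsUnit (A + a • 1)
  · obtain ⟨a, ha, hua⟩ := hu
    -- multiply by the unit `A + a`
    let M : degreeLT F A.charpoly.natDegree → degreeLT F A.charpoly.natDegree := fun z =>
      ⟨((X + C a) * (z : F[X])) %ₘ A.charpoly, by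
        rw [mem_degreeLT]
        exact lt_of_lt_of_eq (degree_modByMonic_lt _ hcp) (degree_eq_natDegree hcp.ne_zero)⟩
    have hMval : ∀ z, aeval A (M z : F[X]) = (A + a • 1) * aeval A (z : F[X]) := fun z => by
      show aeval A (((X + C a) * (z : F[X])) %ₘ A.charpoly) = _
      rw [modByMonic_eq_sub_mul_div _ A.charpoly, map_sub, map_mul, map_mul, A.aeval_self_charpoly,
        zero_mul, sub_zero, map_add, aeval_X, aeval_C, Algebra.algebraMap_eq_smul_one]
    have hnot : ∀ (c : F) (k : ℕ), A + a • 1 ≠ c • A ^ k := by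
      intro c k e
      have hd' : IsUnit A.det := (isUnit_iff_isUnit_det A).1 hA
      have e' := congrArg ψ e
      have hA1 : ψ A = A⁻¹ := by
        have := hψ 1 1
        rwa [one_smul, pow_one, map_one, one_smul, pow_one] at this
      have h1 : ψ (a • 1) = σ a • 1 := by simpa using hψ a 0
      rw [map_add, hA1, h1, hψ] at e'
      have e2 : (A + a • 1) * (A⁻¹ + σ a • 1) = (c * σ c) • 1 := by
        rw [e, e', smul_mul_assoc, mul_smul_comm, smul_smul, Matrix.inv_pow', Matrix.mul_nonsing_inv]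
        rw [det_pow]; exact hd'.pow k
      have e3 : aeval A (C (σ a) * X ^ 2 + C (1 + a * σ a - c * σ c) * X + C a) = 0 := by
        have e4 := congrArg (· * A) e2
        simp only [add_mul, mul_add, smul_mul_assoc, mul_smul_comm, Matrix.mul_assoc,
          Matrix.nonsing_inv_mul _ hd', Matrix.mul_one, Matrix.one_mul, smul_add, smul_smul] at e4
        simp only [map_add, map_mul, aeval_C, aeval_X, map_pow, Algebra.algebraMap_eq_smul_one,
          smul_mul_assoc, Matrix.one_mul, pow_two, sub_smul, add_smul, map_sub, map_one, add_mul,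
          sub_mul, one_smul]
        rw [← sub_eq_zero] at e4
        rw [← e4]
        module
      have h0 := hI _ (lt_of_le_of_lt (by compute_degree) (show 2 < d by omega)) e3
      have := congrArg (fun Q => Q.coeff 0) h0
      simp at this
      exact ha this
    have key : ∀ x y : Fin m × Fˣ, M (Φ x) ≠ Φ y := by
      intro x y h
      have e := congrArg (fun z : degreeLT F A.charpoly.natDegree => aeval A (z : F[X])) h
      simp only [hMval, hval] at e
      -- `A + a` would be a multiple of a power of `A`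
      obtain ⟨c₀, hc₀⟩ := hm0
      have hc0 : c₀ ≠ 0 := by
        rintro rfl
        exact (hA.pow m).ne_zero (by simpa using hc₀.symm)
      refine hnot ((x.2 : F)⁻¹ * y.2 * c₀⁻¹) (y.1 + (m - x.1)) ?_
      refine (hA.pow (x.1 : ℕ)).mul_left_inj.1 ?_
      rw [smul_mul_assoc, ← pow_add, show (y.1 : ℕ) + (m - x.1) + x.1 = y.1 + m by omega, pow_add,
        ← hc₀, mul_smul_comm, mul_one, smul_smul, mul_assoc, inv_mul_cancel₀ hc0, mul_one, mul_smul,
        ← e, mul_smul_comm, smul_smul, inv_mul_cancel₀ x.2.ne_zero, one_smul]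
    let T : (Fin m × Fˣ) ⊕ (Fin m × Fˣ) → degreeLT F A.charpoly.natDegree :=
      Sum.elim Φ (fun x => M (Φ x))
    have hT : Function.Injective T := by
      refine hinj.sumElim (fun x y h => ?_) fun x y h => key y x h.symm
      have e := congrArg (fun z : degreeLT F A.charpoly.natDegree => aeval A (z : F[X])) h
      simp only [hMval, hval] at e
      have e' := hua.mul_right_inj.1 e
      obtain ⟨h1, h2⟩ := scalar_smul_pow_inj hA hm x.1.2 y.1.2 x.2.ne_zero y.2.ne_zero e'
      exact Prod.ext (Fin.ext h1) (Units.ext h2)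
    have h0 : ∀ x, T x ∈ Finset.univ.erase (0 : degreeLT F A.charpoly.natDegree) := fun x => by
      refine Finset.mem_erase.2 ⟨fun h => ?_, Finset.mem_univ _⟩
      have hu' : IsUnit (aeval A (T x : F[X])) := by
        rcases x with x | x
        · show IsUnit (aeval A (Φ x : F[X]))
          rw [hval]; exact isUnit_smul_pow hA _ _
        · show IsUnit (aeval A (M (Φ x) : F[X]))
          rw [hMval, hval]; exact hua.mul (isUnit_smul_pow hA _ _)
      rw [h, Submodule.coe_zero, map_zero] at hu'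
      exact not_isUnit_zero hu'
    have := Finset.card_le_card_of_injOn T (s := Finset.univ) (fun x _ => h0 x) hT.injOn
    rw [Finset.card_univ, Fintype.card_sum, Fintype.card_prod, Fintype.card_fin, Fintype.card_units,
      Finset.card_erase_of_mem (Finset.mem_univ _), Finset.card_univ, ← hqdef,
      ← Nat.card_eq_fintype_card (α := degreeLT F A.charpoly.natDegree), hcardV] at this
    rw [mul_comm (q - 1)]
    omega
  -- every non-zero scalar is an eigenvalue
  push Not at hu
  have hroot : ∀ b : F, b ≠ 0 → A.charpoly.eval b = 0 := by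
    intro b hb
    rw [Matrix.eval_charpoly]
    by_contra h
    refine hu (-b) (neg_ne_zero.2 hb) ((isUnit_iff_isUnit_det _).2 (Ne.isUnit ?_))
    rw [neg_smul, ← sub_eq_add_neg, Matrix.smul_one_eq_diagonal, ← Matrix.scalar_apply, ← neg_sub,
      Matrix.det_neg]
    exact mul_ne_zero (pow_ne_zero _ (neg_ne_zero.2 one_ne_zero)) h
  have hne : ∀ Q : F[X], IsUnit (aeval A Q) → ∀ b : F, b ≠ 0 → Q.eval b ≠ 0 := by
    intro Q hQ b hb h
    obtain ⟨R, rfl⟩ := dvd_iff_isRoot.2 (show Q.IsRoot b from h)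
    rw [map_mul, map_sub, aeval_X, aeval_C, Algebra.algebraMap_eq_smul_one] at hQ
    refine hu (-b) (neg_ne_zero.2 hb) ?_
    rw [neg_smul, ← sub_eq_add_neg]
    exact isUnit_of_mul_isUnit_left hQ
  let L : degreeLT F A.charpoly.natDegree →ₗ[F] (Fˣ → F) :=
    LinearMap.pi fun b => (leval (b : F)).comp (Submodule.subtype _)
  have hle : q - 1 ≤ d := by
    have h1 : (Finset.univ.erase (0 : F)) ⊆ A.charpoly.roots.toFinset := by
      intro b hb
      rw [Multiset.mem_toFinset, mem_roots hcp.ne_zero]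
      exact hroot b (Finset.mem_erase.1 hb).1
    have h2 := (Finset.card_le_card h1).trans ((Multiset.toFinset_card_le _).trans (A.charpoly.card_roots'))
    rwa [Finset.card_erase_of_mem (Finset.mem_univ _), Finset.card_univ, hdeg] at h2
  have hL : Function.Surjective L := by
    intro f
    have hinjv : Set.InjOn (fun b : Fˣ => (b : F)) (Finset.univ : Finset Fˣ) := Units.val_injective.injOn
    refine ⟨⟨Lagrange.interpolate Finset.univ (fun b : Fˣ => (b : F)) f, mem_degreeLT.2
      (lt_of_lt_of_le (Lagrange.degree_interpolate_lt _ hinjv) ?_)⟩, funext fun b => ?_⟩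
    · rw [Finset.card_univ, Fintype.card_units, ← hqdef, hdeg]; exact_mod_cast hle
    · exact Lagrange.eval_interpolate_at_node f hinjv (Finset.mem_univ b)
  have hunit : ∀ x, IsUnit (aeval A (Φ x : F[X])) := fun x => by
    rw [hval]; exact isUnit_smul_pow hA _ _
  have himg : ∀ x, Φ x ∈ L ⁻¹' {f | ∀ b, f b ≠ 0} := fun x b => hne _ (hunit x) b b.ne_zero
  have hS : Nat.card {f : Fˣ → F | ∀ b, f b ≠ 0} = (q - 1) ^ (q - 1) := by
    have e : {f : Fˣ → F | ∀ b, f b ≠ 0} ≃ (Fˣ → Fˣ) :=
      { toFun := fun f b => Units.mk0 (f.1 b) (f.2 b)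
        invFun := fun g => ⟨fun b => (g b : F), fun b => (g b).ne_zero⟩
        left_inv := fun f => rfl
        right_inv := fun g => funext fun b => Units.ext rfl }
    rw [Nat.card_congr e, Nat.card_fun, Nat.card_units, hcar]
  have hW : Nat.card (Fˣ → F) = q ^ (q - 1) := by rw [Nat.card_fun, Nat.card_units, hcar]
  have hpre := card_preimage_le L hL {f | ∀ b, f b ≠ 0}
  rw [hS, hW, hcardV] at hpre
  have hcardm : Nat.card (Fin m × Fˣ) = (q - 1) * m := by
    rw [Nat.card_prod, Nat.card_fin, Nat.card_units, hcar, mul_comm]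
  rcases Nat.lt_or_ge 2 q with hq3 | hq2
  · have h1 : Nat.card (Fin m × Fˣ) ≤ Nat.card (L ⁻¹' {f | ∀ b, f b ≠ 0}) :=
      Nat.card_le_card_of_injective (fun x => (⟨Φ x, himg x⟩ : L ⁻¹' {f : Fˣ → F | ∀ b, f b ≠ 0}))
        fun x y h => hinj (congrArg Subtype.val h)
    rw [hcardm] at h1
    have h2 := two_mul_pred_pow hq3
    have h3 : 2 * ((q - 1) * m) * q ^ (q - 1) < q ^ d * q ^ (q - 1) := by
      have h4 : 0 < q ^ d := by positivity
      have h5 := Nat.mul_le_mul_right (q ^ (q - 1)) h1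
      nlinarith
    have := lt_of_mul_lt_mul_right' h3
    omega
  -- the field with two elements
  have hq' : q = 2 := by omega
  have hd4 : 4 ≤ d := by
    by_contra h; exact hex ⟨by omega, hq'⟩
  have hev : ∀ b : F, b ≠ 0 → b = 1 := by
    intro b hb
    have h1 := FiniteField.pow_card_sub_one_eq_one b hb
    rwa [← hqdef, hq', pow_one] at h1
  obtain ⟨R, hR, hR1⟩ := A.charpoly.exists_eq_pow_rootMultiplicity_mul_and_not_dvd hcp.ne_zero 1
  set k := A.charpoly.rootMultiplicity 1 with hk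
  have hk1 : 1 ≤ k := by
    rw [hk, Nat.one_le_iff_ne_zero, ← Nat.pos_iff_ne_zero, rootMultiplicity_pos hcp.ne_zero]
    exact hroot 1 one_ne_zero
  have hR0 : R ≠ 0 := by rintro rfl; exact hR1 (dvd_zero _)
  have hk0 : (X - C (1 : F)) ^ k ≠ 0 := pow_ne_zero _ (X_sub_C_ne_zero 1)
  have hdegk : k + R.natDegree = d := by
    have h1 := congrArg natDegree hR
    rw [natDegree_mul hk0 hR0, natDegree_pow, natDegree_X_sub_C, mul_one, hdeg] at h1
    exact h1.symm
  rcases Nat.eq_zero_or_pos R.natDegree with hR2 | hR2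
  · -- unipotent
    obtain ⟨c, rfl⟩ := natDegree_eq_zero.1 hR2
    have hzero : (A - 1) ^ d = 0 := by
      have h1 := congrArg (aeval A) hR
      rw [A.aeval_self_charpoly, map_mul, map_pow, map_sub, aeval_X, aeval_C, aeval_C, map_one,
        Algebra.algebraMap_eq_smul_one, mul_smul_comm, mul_one] at h1
      have hkd : k = d := by rw [← hdegk, hR2, add_zero]
      rw [hkd] at h1
      exact (smul_eq_zero.1 h1.symm).resolve_left fun h => hR0 (by rw [h, map_zero])
    haveI : CharP F 2 := by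
      obtain ⟨p, hp⟩ := CharP.exists F
      obtain ⟨n, hpp, hn⟩ := FiniteField.card F p
      have h1 : p ∣ 2 := by rw [← hq', hqdef, hn]; exact dvd_pow_self p n.pos.ne'
      exact (Nat.prime_dvd_prime_iff_eq hpp Nat.prime_two).1 h1 ▸ hp
    haveI : CharP Mat 2 := charP_of_injective_algebraMap (algebraMap F Mat).injective 2
    set K := Nat.clog 2 d
    have hK : (A - 1) ^ 2 ^ K = 0 := pow_eq_zero_of_le (Nat.le_pow_clog one_lt_two d) hzero
    rw [sub_pow_char_pow_of_commute 2 K (Commute.one_right A), one_pow, sub_eq_zero] at hK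
    have hmK : m ≤ 2 ^ K := by
      by_contra h
      exact hm _ (by positivity) (not_le.1 h) 1 (by rw [hK, one_smul])
    have hK2 : 2 ^ K < 2 * d := by
      have h1 : 2 ^ (K - 1) < d := Nat.pow_pred_clog_lt_self one_lt_two (by omega)
      have h2 : 0 < K := Nat.clog_pos one_lt_two (by omega)
      calc 2 ^ K = 2 * 2 ^ (K - 1) := by rw [← pow_succ', Nat.sub_add_cancel h2]
        _ < _ := by omega
    have hd2 : 4 * d ≤ 2 ^ d := by
      obtain ⟨f, rfl⟩ : ∃ f, d = f + 4 := ⟨d - 4, by omega⟩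
      have := two_mul_le_pow (f + 1)
      rw [pow_add] at this ⊢
      omega
    rw [hq']
    omega
  · -- another non-unit
    let zR : degreeLT F A.charpoly.natDegree :=
      ⟨R, mem_degreeLT.2 ((natDegree_lt_iff_degree_lt hR0).1 (by rw [hdeg]; omega))⟩
    have hzR : zR ∈ L ⁻¹' {f | ∀ b, f b ≠ 0} := fun b => by
      show R.eval (b : F) ≠ 0
      rw [hev b b.ne_zero]
      exact fun h => hR1 (dvd_iff_isRoot.2 h)
    have hnu : ∀ x, Φ x ≠ zR := fun x h => by
      have hu1 := hunit x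
      rw [h] at hu1
      have h1 := congrArg (aeval A) hR
      rw [A.aeval_self_charpoly, map_mul, eq_comm] at h1
      have h2 : aeval A ((X - C (1 : F)) ^ k) = 0 := hu1.mul_left_eq_zero.1 h1
      exact hk0 (hI _ (by rw [natDegree_pow, natDegree_X_sub_C, mul_one]; omega) h2)
    let T : Option (Fin m × Fˣ) → L ⁻¹' {f : Fˣ → F | ∀ b, f b ≠ 0} := fun o =>
      o.elim ⟨zR, hzR⟩ fun x => ⟨Φ x, himg x⟩
    have hT : Function.Injective T := by
      rintro (_ | x) (_ | y) h
      · rfl
      · exact absurd (congrArg Subtype.val h).symm (hnu y)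
      · exact absurd (congrArg Subtype.val h) (hnu x)
      · rw [hinj (congrArg Subtype.val h)]
    have h1 := Nat.card_le_card_of_injective T hT
    rw [Finite.card_option, hcardm] at h1
    rw [hq'] at hpre h1 ⊢
    norm_num at hpre h1 ⊢
    omega

end graph

section main

variable {F : Type*} [Field F] [Fintype F] {d : ℕ}

local notation "PSLd" => Matrix.ProjectiveSpecialLinearGroup (Fin d) F

theorem exists_fixed (σ : RingAut F) :
    ∃ K : Subfield F, (∀ x, σ x = x → x ∈ K) ∧ Fintype.card F = Nat.card K ^ orderOf σ := by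
  classical
  haveI : Finite (RingAut F) := Finite.of_injective (fun τ => (τ : F → F)) DFunLike.coe_injective
  haveI : Fintype (Subgroup.zpowers σ) := Fintype.ofFinite _
  refine ⟨FixedPoints.subfield (Subgroup.zpowers σ) F, ?_, ?_⟩
  · rintro x h ⟨τ, hτ⟩
    exact (Subgroup.zpowers_le.2 (show σ ∈ MulAction.stabilizer (RingAut F) x from h)) hτ
  · rw [Module.card_eq_pow_finrank (K := FixedPoints.subfield (Subgroup.zpowers σ) F) (V := F),
      FixedPoints.finrank_eq_card (Subgroup.zpowers σ) F, ← Nat.card_eq_fintype_card,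
      ← Nat.card_eq_fintype_card (α := Subgroup.zpowers σ), Nat.card_zpowers]

theorem two_le_card (K : Subfield F) : 2 ≤ Nat.card K :=
  haveI : Nontrivial K := inferInstance
  Finite.one_lt_card

theorem linear_part (hd : 2 ≤ d) (g : GL (Fin d) F) (τ : RingAut F) :
    ∃ m, 0 < m ∧
      orderOf (pslSemi g τ : MulAut PSLd) ≤ orderOf τ * m ∧
      Free m ((Descent.twistNorm τ g (orderOf τ) : GL (Fin d) F) : Matrix (Fin d) (Fin d) F) ∧
      (∃ c : F, ((Descent.twistNorm τ g (orderOf τ) : GL (Fin d) F) : Matrix (Fin d) (Fin d) F) ^ m =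
        c • 1) := by
  haveI : Finite (RingAut F) := Finite.of_injective (fun τ => (τ : F → F)) DFunLike.coe_injective
  haveI : Finite (MulAut PSLd) := Finite.of_injective (fun τ => (τ : _ → _)) DFunLike.coe_injective
  have e : (pslSemi g τ : MulAut PSLd) ^ orderOf τ =
      pslSemi (Descent.twistNorm τ g (orderOf τ)) (RingEquiv.refl F) := by
    rw [pslSemi_pow, pow_orderOf_eq_one]; rfl
  set N := Descent.twistNorm τ g (orderOf τ)
  have hiff : ∀ k, ((pslSemi g τ : MulAut PSLd) ^ orderOf τ) ^ k = 1 ↔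
      ∃ c : F, (N : Matrix (Fin d) (Fin d) F) ^ k = c • 1 := by
    intro k
    rw [e, ← inndiagHom_apply, ← map_pow, inndiagHom_apply, pslSemi_eq_one_iff hd]
    constructor
    · rintro ⟨-, c, hc⟩
      exact ⟨c, by rw [← Units.val_pow_eq_pow_val, hc, Matrix.GeneralLinearGroup.coe_scalar,
        Matrix.smul_one_eq_diagonal]; rfl⟩
    · rintro ⟨c, hc⟩
      have hc0 : c ≠ 0 := fun h => by
        haveI : Nonempty (Fin d) := ⟨⟨0, by omega⟩⟩
        rw [h, zero_smul] at hc
        exact ((N.isUnit).pow k).ne_zero hc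
      refine ⟨rfl, Units.mk0 c hc0, Units.ext ?_⟩
      rw [Units.val_pow_eq_pow_val, hc, Matrix.GeneralLinearGroup.coe_scalar,
        Matrix.smul_one_eq_diagonal]; rfl
  refine ⟨orderOf ((pslSemi g τ : MulAut PSLd) ^ orderOf τ), orderOf_pos _, ?_, fun k hk hkm c hc => ?_,
    (hiff _).1 (pow_orderOf_eq_one _)⟩
  · refine Nat.le_of_dvd (Nat.mul_pos (orderOf_pos _) (orderOf_pos _)) (orderOf_dvd_of_pow_eq_one ?_)
    rw [pow_mul, pow_orderOf_eq_one]
  · exact absurd (orderOf_dvd_of_pow_eq_one ((hiff k).2 ⟨c, hc⟩)) (Nat.not_dvd_of_pos_of_lt hk hkm)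

theorem field_bound (hd : 2 ≤ d) (g : GL (Fin d) F) (τ : RingAut F) :
    ∃ K : Subfield F, Fintype.card F = Nat.card K ^ orderOf τ ∧ (∀ x, τ x = x → x ∈ K) ∧
      (Fintype.card F - 1) * orderOf (pslSemi g τ : MulAut PSLd) ≤
        (Fintype.card F - 1) * (orderOf τ * ∑ i ∈ Finset.range d, Nat.card K ^ i) := by
  haveI : Nonempty (Fin d) := ⟨⟨0, by omega⟩⟩
  obtain ⟨K, hK, hcard⟩ := exists_fixed τ
  refine ⟨K, hcard, hK, ?_⟩
  obtain ⟨m, hm0, hle, hfree, -⟩ := linear_part hd g τ
  set N := Descent.twistNorm τ g (orderOf τ) with hN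
  -- the characteristic polynomial is fixed by `τ`
  have h1 : g * Descent.gmap τ N = N * g := by
    rw [hN, show g * Descent.gmap τ (Descent.twistNorm τ g (orderOf τ)) =
      Descent.twistNorm τ g (orderOf τ + 1) from rfl, Descent.twistNorm_succ', pow_orderOf_eq_one,
      Descent.gmap_one]
  have h2 : (N : Matrix (Fin d) (Fin d) F).charpoly.map (τ : F →+* F) =
      (N : Matrix (Fin d) (Fin d) F).charpoly := by
    rw [← Matrix.charpoly_map]
    have h3 : Descent.gmap τ N = g⁻¹ * N * g := by rw [mul_assoc, ← h1, inv_mul_cancel_left]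
    have h4 := congrArg (fun u : GL (Fin d) F => (u : Matrix (Fin d) (Fin d) F).charpoly) h3
    simp only [Units.val_mul, Matrix.coe_units_inv] at h4
    rw [Matrix.charpoly_units_conj'] at h4
    exact h4
  have hlift : (N : Matrix (Fin d) (Fin d) F).charpoly ∈ Polynomial.lifts K.subtype := by
    rw [Polynomial.lifts_iff_coeff_lifts]
    intro i
    have h := congrArg (fun Q : F[X] => Q.coeff i) h2
    simp only [coeff_map] at h
    exact ⟨⟨_, hK _ h⟩, rfl⟩
  obtain ⟨P, hP, hdeg, hmon⟩ := lifts_and_degree_eq_and_monic hlift (Matrix.charpoly_monic _)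
  have hnd : P.natDegree = d := by
    rw [natDegree_eq_of_degree_eq hdeg, Matrix.charpoly_natDegree_eq_dim, Fintype.card_fin]
  have hb := bound K.subtype N.isUnit hfree hmon (by rw [hP]; exact Matrix.aeval_self_charpoly _)
  rw [hnd, ← geom_mul _ d (by have := two_le_card K; omega)] at hb
  have hms : m ≤ ∑ i ∈ Finset.range d, Nat.card K ^ i :=
    Nat.le_of_mul_le_mul_left hb (by have := two_le_card K; omega)
  exact Nat.mul_le_mul_left _ (hle.trans (Nat.mul_le_mul_left _ hms))

theorem ringEquiv_pow_apply_ne {σ : RingAut F} (h : σ * σ = 1) (x : F) : σ (σ x) = x :=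
  DFunLike.congr_fun h x

/-- The upper bound. -/
theorem upper (hd : 2 ≤ d) (h2 : d = 2 → Fintype.card F ≠ 4)
    (h32 : ¬ (d = 3 ∧ Fintype.card F = 2)) (φ : MulAut PSLd) :
    (Fintype.card F - 1) * orderOf φ ≤ Fintype.card F ^ d - 1 := by
  obtain ⟨p, hp⟩ := CharP.exists F
  haveI : Fact p.Prime := ⟨CharP.char_is_prime F p⟩
  haveI : Finite (RingAut F) := Finite.of_injective (fun τ => (τ : F → F)) DFunLike.coe_injective
  haveI : Finite (MulAut PSLd) := Finite.of_injective (fun τ => (τ : _ → _)) DFunLike.coe_injective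
  haveI : Nonempty (Fin d) := ⟨⟨0, by omega⟩⟩
  have hq : 1 ≤ Fintype.card F := Fintype.card_pos
  obtain ⟨g, σ, ε, hε, hε2, rfl⟩ := exists_rep (p := p) hd φ
  rcases Nat.le_one_iff_eq_zero_or_eq_one.1 hε with rfl | rfl
  · rw [pow_zero, mul_one]
    obtain ⟨K, hcard, -, hle⟩ := field_bound hd g σ
    refine hle.trans ?_
    rw [← geom_mul _ d hq]
    refine Nat.mul_le_mul_left _ ?_
    rw [hcard]
    refine sum_field (two_le_card K) (orderOf_pos σ) hd fun ⟨h1, h3, h4⟩ => h2 h4 ?_
    rw [hcard, h1, h3]; norm_num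
  have hd3 : 3 ≤ d := by
    by_contra h
    exact one_ne_zero (hε2 (by omega))
  rw [pow_one]
  set h := g * Descent.gmap σ (invT g) with hh
  have hsq : (pslSemi g σ * pslInvT : MulAut PSLd) ^ 2 = pslSemi h (σ * σ) := by
    rw [pow_two]
    calc (pslSemi g σ * pslInvT : MulAut PSLd) * (pslSemi g σ * pslInvT)
        = pslSemi g σ * (pslInvT * pslSemi g σ) * pslInvT := by group
      _ = pslSemi g σ * pslSemi (invT g) σ * (pslInvT * pslInvT) := by
        rw [pslInvT_mul_pslSemi]; group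
      _ = _ := by rw [pslInvT_mul_self, mul_one, pslSemi_mul']
  set φ := (pslSemi g σ * pslInvT : MulAut PSLd)
  have hord : orderOf φ ≤ 2 * orderOf (pslSemi h (σ * σ) : MulAut PSLd) := by
    refine Nat.le_of_dvd (Nat.mul_pos two_pos (orderOf_pos _)) (orderOf_dvd_of_pow_eq_one ?_)
    rw [pow_mul, hsq, pow_orderOf_eq_one]
  by_cases hτ : 2 ≤ orderOf (σ * σ)
  · obtain ⟨K, hcard, -, hle⟩ := field_bound hd h (σ * σ)
    refine (Nat.mul_le_mul_left _ hord).trans ?_
    rw [mul_left_comm]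
    refine (Nat.mul_le_mul_left 2 hle).trans ?_
    rw [mul_left_comm, ← geom_mul _ d hq]
    refine Nat.mul_le_mul_left _ ?_
    rw [← mul_assoc, hcard]
    refine sum_graph (two_le_card K) hτ hd3 fun he => ?_
    -- `σ` has order four
    haveI : Fact (Nat.Prime 2) := ⟨Nat.prime_two⟩
    have h4 : orderOf σ = 2 ^ (1 + 1) := by
      refine orderOf_eq_prime_pow ?_ ?_
      · rw [pow_one, pow_two]
        intro h1; rw [h1, orderOf_one] at he; omega
      · show σ ^ 4 = 1
        rw [show σ ^ 4 = (σ * σ) ^ 2 by rw [← pow_two, ← pow_mul], ← he, pow_orderOf_eq_one]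
    obtain ⟨K₁, -, hcard₁⟩ := exists_fixed σ
    rw [h4, hcard, he] at hcard₁
    have h5 : Nat.card K = Nat.card K₁ ^ 2 :=
      Nat.pow_left_injective (n := 2) (by norm_num) (by
        show Nat.card K ^ 2 = (Nat.card K₁ ^ 2) ^ 2
        rw [hcard₁, ← pow_mul]; norm_num)
    rw [h5]
    calc 3 ≤ 2 ^ 2 := by norm_num
      _ ≤ _ := Nat.pow_le_pow_left (two_le_card K₁) 2
  have hσ : σ * σ = 1 := by
    rw [← orderOf_eq_one_iff]
    have := orderOf_pos (σ * σ)
    omega
  obtain ⟨m, hm0, hle, hfree, hscal⟩ := linear_part hd h (σ * σ)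
  rw [hσ, orderOf_one] at hfree hscal
  rw [hσ, orderOf_one, one_mul] at hle
  have h1 : Descent.twistNorm (1 : RingAut F) h 1 = h := by simp [Descent.twistNorm]
  rw [h1] at hfree hscal
  rw [hσ] at hord
  -- `g (σ h)ᵀ g⁻¹ = h⁻¹`
  have hθ : invT (Descent.gmap σ h) = g⁻¹ * h * g := by
    rw [hh, map_mul, invT_mul, Descent.gmap_gmap, hσ, Descent.gmap_one, invT_invT, ← gmap_invT]
    group
  have hinv : ((h : Matrix (Fin d) (Fin d) F).map σ)ᵀ =
      ((g⁻¹ * h⁻¹ * g : GL (Fin d) F) : Matrix (Fin d) (Fin d) F) := by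
    rw [show (g⁻¹ * h⁻¹ * g : GL (Fin d) F) = (invT (Descent.gmap σ h))⁻¹ by rw [hθ]; group,
      invT_inv_coe]
    rfl
  let ψ : Matrix (Fin d) (Fin d) F →+ Matrix (Fin d) (Fin d) F :=
    AddMonoidHom.mk' (fun x => (g : Matrix (Fin d) (Fin d) F) * (x.map σ)ᵀ *
      ((g⁻¹ : GL (Fin d) F) : Matrix (Fin d) (Fin d) F)) fun x y => by
        rw [Matrix.map_add _ (map_add σ), transpose_add, mul_add, add_mul]
  have hψ : ∀ (c : F) (k : ℕ), ψ (c • (h : Matrix (Fin d) (Fin d) F) ^ k) =
      σ c • ((h : Matrix (Fin d) (Fin d) F)⁻¹) ^ k := by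
    intro c k
    show (g : Matrix (Fin d) (Fin d) F) * ((c • (h : Matrix (Fin d) (Fin d) F) ^ k).map σ)ᵀ * _ = _
    have e1 : ((h : Matrix (Fin d) (Fin d) F) ^ k).map σ = ((h : Matrix (Fin d) (Fin d) F).map σ) ^ k :=
      map_pow ((σ : F →+* F).mapMatrix) _ k
    have e2 : (c • (h : Matrix (Fin d) (Fin d) F) ^ k).map σ =
        σ c • ((h : Matrix (Fin d) (Fin d) F) ^ k).map σ := by ext i j; simp
    rw [e2, e1, transpose_smul, transpose_pow, hinv, mul_smul_comm, smul_mul_assoc,
      ← Units.val_pow_eq_pow_val, ← Units.val_mul, ← Units.val_mul]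
    have e3 : g * (g⁻¹ * h⁻¹ * g) ^ k * g⁻¹ = h⁻¹ ^ k := by
      rw [← conj_pow, show g * (g⁻¹ * h⁻¹ * g) * g⁻¹ = h⁻¹ by group]
    rw [e3, Units.val_pow_eq_pow_val, Matrix.coe_units_inv]
  obtain ⟨c, hc⟩ := hscal
  have hb := graph_bound hd3 h32 h.isUnit hfree ⟨c, hc.symm⟩ hm0 ψ (σ : F →+* F) hψ
  calc (Fintype.card F - 1) * orderOf φ ≤ (Fintype.card F - 1) * (2 * m) :=
        Nat.mul_le_mul_left _ (hord.trans (Nat.mul_le_mul_left _ hle))
    _ = 2 * ((Fintype.card F - 1) * m) := by ring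
    _ ≤ _ := hb

/-- An inner-diagonal automorphism of this order. -/
theorem exists_singer (hd : 2 ≤ d) {g : GL (Fin d) F ⧸ Subgroup.center (GL (Fin d) F)}
    (hg : (Fintype.card F - 1) * orderOf g = Fintype.card F ^ d - 1) :
    ∃ φ : MulAut PSLd, (Fintype.card F - 1) * orderOf φ = Fintype.card F ^ d - 1 := by
  obtain ⟨g, rfl⟩ := QuotientGroup.mk'_surjective _ g
  refine ⟨inndiagHom d F g, ?_⟩
  convert hg using 2
  refine orderOf_eq_orderOf_iff.2 fun k => ?_
  rw [← map_pow, ← map_pow, ← MonoidHom.mem_ker, ker_inndiagHom hd, QuotientGroup.mk'_apply,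
    QuotientGroup.eq_one_iff]

end main

end Cfsg.Agent.Lie.AutPSLOrder
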