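import Cfsg.Agent.Lib.Lie.AltPres

/-!
An alternating group and an involution glue to an alternating or symmetric group of larger degree.
-/

set_option autoImplicit false
set_option linter.unusedSectionVars false

namespace Cfsg.Agent.Lie.AltGlue

open Equiv Cfsg.Agent.Lie.Carmichael

/-- Conjugation inside the alternating group by any permutation. -/
def conjA {α : Type*} [DecidableEq α] [Fintype α] (τ : Perm α) : alternatingGroup α →* alternatingGroup α where
  toFun x := ⟨τ * x.1 * τ⁻¹, by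
    rw [Perm.mem_alternatingGroup, map_mul, map_mul, mul_right_comm, ← map_mul, mul_inv_cancel, map_one, one_mul]
    exact Perm.mem_alternatingGroup.1 x.2⟩
  map_one' := Subtype.ext (by simp)
  map_mul' x y := Subtype.ext (by simp [mul_assoc])

theorem conjA_val {α : Type*} [DecidableEq α] [Fintype α] (τ : Perm α) (x : alternatingGroup α) :
    (conjA τ x).1 = τ * x.1 * τ⁻¹ := rfl

theorem conjA_cyc {I : Type*} [DecidableEq I] [Fintype I] (σ : Perm I) (i : I) :
    conjA (liftP σ) (cyc i) = cyc (σ i) := by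
  refine Subtype.ext ?_
  show liftP σ * (swap ptU (ptI i) * swap ptU ptV) * (liftP σ)⁻¹ = swap ptU (ptI (σ i)) * swap ptU ptV
  rw [show liftP σ * (swap ptU (ptI i) * swap ptU ptV) * (liftP σ)⁻¹ =
    (liftP σ * swap ptU (ptI i) * (liftP σ)⁻¹) * (liftP σ * swap ptU ptV * (liftP σ)⁻¹) by group,
    ← swap_apply_apply, ← swap_apply_apply]
  rfl

/-- The shape of the gluing involution. -/
structure Frame (p m : ℕ) where
  lt : p < m
  le : m ≤ 2 * p
  θI : Perm (Fin p)
  δI : Perm (Fin m)
  θ_sq : θI * θI = 1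
  θ_lo : ∀ i : Fin p, (i : ℕ) < m - p → θI i = i
  δ_lo : ∀ i : Fin p, (i : ℕ) < m - p → (δI (Fin.castLEEmb lt.le i) : ℕ) = i + p
  δ_mid : ∀ i : Fin p, m - p ≤ (i : ℕ) → δI (Fin.castLEEmb lt.le i) = Fin.castLEEmb lt.le (θI i)
  δ_hi : ∀ i : Fin m, p ≤ (i : ℕ) → (δI i : ℕ) = i - p

variable {p m : ℕ} (D : Frame p m)

/-- The small group inside the large one. -/
noncomputable def Frame.incl : alternatingGroup (Pt (Fin p)) →* alternatingGroup (Pt (Fin m)) :=
  ext (Fin.castLEEmb D.lt.le)

theorem Frame.incl_cyc (i : Fin p) : D.incl (cyc i) = cyc (Fin.castLEEmb D.lt.le i) := ext_cyc _ _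

theorem Frame.glue {T : Type*} [Group T] (j : alternatingGroup (Pt (Fin m)) →* T) (hj : Function.Injective j)
    (F : T) (hFj : ∀ x, F * j x * F = j (conjA (liftP D.δI) x))
    {G : Type*} [Group G] (ι : alternatingGroup (Pt (Fin p)) →* G) (f : G) (π : G →* T)
    (hπι : π.comp ι = j.comp D.incl) (hπf : π f = F)
    (hgen : ι.range ⊔ Subgroup.closure {f} = ⊤) (hf : f * f = 1)
    (hagree : ∀ i : Fin p, m - p ≤ (i : ℕ) → f * ι (cyc i) * f = ι (cyc (D.θI i)))
    (hcross : ∀ i i' : Fin p, (i : ℕ) < m - p → (i' : ℕ) < m - p →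
      (ι (cyc i) * (f * ι (cyc i') * f)) ^ 2 = 1)
    (hext : f ∈ Subgroup.closure (Set.range ι ∪ Set.range fun x => f * ι x * f) ∨ F ∉ j.range) :
    Function.Injective π := by
  classical
  have hfinv : f⁻¹ = f := inv_eq_of_mul_eq_one_right hf
  have hff : ∀ x, f * (f * x * f) * f = x := fun x => by
    rw [show f * (f * x * f) * f = (f * f) * x * (f * f) by group, hf, one_mul, mul_one]
  have hfm : ∀ x y, f * (x * y) * f = (f * x * f) * (f * y * f) := fun x y => by
    rw [show (f * x * f) * (f * y * f) = f * x * (f * f) * y * f by group, hf, mul_one]; group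
  have hle := D.le
  let y : Fin m → G := fun i => if h : (i : ℕ) < p then ι (cyc ⟨i, h⟩) else
    f * ι (cyc ⟨i - p, by have := i.2; omega⟩) * f
  have hyA : ∀ (i : Fin m) (h : (i : ℕ) < p), y i = ι (cyc ⟨i, h⟩) := fun i h => dif_pos h
  have hyR : ∀ (i : Fin m) (h : p ≤ (i : ℕ)), y i = f * ι (cyc ⟨i - p, by have := i.2; omega⟩) * f :=
    fun i h => dif_neg (not_lt.2 h)
  -- every index beyond the first block, in the second form
  have hyB : ∀ i : Fin m, m - p ≤ (i : ℕ) → ∃ g : Fin p, y i = f * ι (cyc g) * f ∧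
      (((i : ℕ) < p ∧ ∃ h, g = D.θI ⟨i, h⟩) ∨ (p ≤ (i : ℕ) ∧ (g : ℕ) = i - p)) := by
    intro i hi
    by_cases h : (i : ℕ) < p
    · refine ⟨D.θI ⟨i, h⟩, ?_, Or.inl ⟨h, h, rfl⟩⟩
      rw [hyA i h, ← hagree ⟨i, h⟩ hi, hff]
    · exact ⟨_, hyR i (not_lt.1 h), Or.inr ⟨not_lt.1 h, rfl⟩⟩
  have hθlo : ∀ i : Fin p, (D.θI i : ℕ) < m - p → (i : ℕ) < m - p := by
    intro i hi
    have e : D.θI (D.θI i) = i := by rw [← Perm.mul_apply, D.θ_sq]; rfl
    rw [D.θ_lo _ hi] at e
    rwa [← e]
  have h3 : ∀ i, y i ^ 3 = 1 := fun i => by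
    by_cases h : (i : ℕ) < p
    · rw [hyA i h, ← map_pow, cyc_cube, map_one]
    · rw [hyR i (not_lt.1 h)]
      conv_lhs => rw [show f * ι (cyc _) * f = f * ι (cyc _) * f⁻¹ by rw [hfinv]]
      rw [conj_pow, ← map_pow, cyc_cube, map_one, mul_one, mul_inv_cancel]
  have hhalf : ∀ i k : Fin m, i ≠ k → (i : ℕ) < m - p → (y i * y k) ^ 2 = 1 := by
    intro i k hik hi
    rw [hyA i (by omega)]
    by_cases hk : (k : ℕ) < p
    · rw [hyA k hk, ← map_mul, ← map_pow,
        cyc_pair (fun e => hik (Fin.ext (congrArg (fun x : Fin p => (x : ℕ)) e))), map_one]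
    · rw [hyR k (not_lt.1 hk)]
      exact hcross _ _ hi (by have := k.2; show (k : ℕ) - p < m - p; omega)
  have h2 : ∀ i k : Fin m, i ≠ k → (y i * y k) ^ 2 = 1 := by
    intro i k hik
    by_cases hi : (i : ℕ) < m - p
    · exact hhalf i k hik hi
    by_cases hk : (k : ℕ) < m - p
    · exact pair_symm (hhalf k i hik.symm hk)
    obtain ⟨g, hg, hg'⟩ := hyB i (not_lt.1 hi)
    obtain ⟨g₂, hg₂, hg₂'⟩ := hyB k (not_lt.1 hk)
    have hne : g ≠ g₂ := by
      rintro rfl
      rcases hg' with ⟨h, _, e⟩ | ⟨h, e⟩ <;> rcases hg₂' with ⟨h', _, e'⟩ | ⟨h', e'⟩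
      · exact hik (Fin.ext (congrArg (fun x : Fin p => (x : ℕ)) (D.θI.injective (e.symm.trans e'))))
      · rw [e] at e'
        have := hθlo _ (by rw [e']; have := k.2; omega)
        exact hi this
      · rw [e'] at e
        have := hθlo _ (by rw [e]; have := i.2; omega)
        exact hk this
      · exact hik (Fin.ext (by omega))
    rw [hg, hg₂, ← hfm, ← map_mul]
    conv_lhs => rw [show f * ι (cyc g * cyc g₂) * f = f * ι (cyc g * cyc g₂) * f⁻¹ by rw [hfinv]]
    rw [conj_pow, ← map_pow, cyc_pair hne, map_one, mul_one, mul_inv_cancel]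
  -- images
  have hπy : ∀ i, π (y i) = j (cyc i) := by
    intro i
    by_cases h : (i : ℕ) < p
    · rw [hyA i h, ← MonoidHom.comp_apply, hπι, MonoidHom.comp_apply, D.incl_cyc]
      rfl
    · rw [hyR i (not_lt.1 h), map_mul, map_mul, hπf, ← MonoidHom.comp_apply π ι, hπι, MonoidHom.comp_apply,
        D.incl_cyc, hFj, conjA_cyc]
      congr 2
      refine Fin.ext ?_
      rw [D.δ_lo _ (by have := i.2; show (i : ℕ) - p < m - p; omega)]
      show (i : ℕ) - p + p = i
      omega
  set N := Subgroup.closure (Set.range y) with hN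
  have hπN : ∀ x ∈ N, π x ∈ j.range := by
    intro x hx
    induction hx using Subgroup.closure_induction with
    | mem x hx => obtain ⟨i, rfl⟩ := hx; exact ⟨cyc i, (hπy i).symm⟩
    | one => rw [map_one]; exact one_mem _
    | mul a b _ _ ha hb => rw [map_mul]; exact mul_mem ha hb
    | inv a _ ha => rw [map_inv]; exact inv_mem ha
  let φ : N →* alternatingGroup (Pt (Fin m)) := (MonoidHom.ofInjective hj).symm.toMonoidHom.comp
    ((π.comp N.subtype).codRestrict j.range fun x => hπN x x.2)
  let y' : Fin m → N := fun i => ⟨y i, Subgroup.subset_closure ⟨i, rfl⟩⟩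
  have hφ : Function.Bijective φ := by
    refine bijective (x := y') (fun i => Subtype.ext (by simpa using h3 i))
      (fun i k hik => Subtype.ext (by simpa using h2 i k hik)) ?_ φ fun i => ?_
    · apply Subgroup.map_injective N.subtype_injective
      rw [MonoidHom.map_closure, ← Set.range_comp, ← MonoidHom.range_eq_map, Subgroup.range_subtype]
      rfl
    · refine (MonoidHom.ofInjective hj).injective ?_
      simp only [φ, MonoidHom.comp_apply, MulEquiv.toMonoidHom_eq_coe, MonoidHom.coe_coe, MulEquiv.apply_symm_apply]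
      exact Subtype.ext (hπy i)
  have hkerN : ∀ x ∈ N, π x = 1 → x = 1 := by
    intro x hx h1
    have : φ ⟨x, hx⟩ = 1 := by
      refine (MonoidHom.ofInjective hj).injective ?_
      simp only [φ, MonoidHom.comp_apply, MulEquiv.toMonoidHom_eq_coe, MonoidHom.coe_coe, MulEquiv.apply_symm_apply,
        map_one]
      exact Subtype.ext h1
    exact congrArg Subtype.val (hφ.1 (this.trans (map_one φ).symm))
  have hιN : ι.range ≤ N := by
    rw [range_eq, Subgroup.closure_le]
    rintro _ ⟨i, rfl⟩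
    refine Subgroup.subset_closure ⟨Fin.castLEEmb D.lt.le i, ?_⟩
    rw [hyA _ i.2]
    rfl
  have hfy : ∀ i, f * y i * f ∈ N := by
    intro i
    refine Subgroup.subset_closure ⟨D.δI i, ?_⟩
    by_cases h : (i : ℕ) < p
    · have e : i = Fin.castLEEmb D.lt.le ⟨i, h⟩ := rfl
      by_cases h' : (i : ℕ) < m - p
      · have h1 := D.δ_lo ⟨i, h⟩ h'
        rw [← e] at h1
        rw [hyA i h, hyR (D.δI i) (by rw [h1]; show p ≤ (i : ℕ) + p; omega)]
        congr 4
        exact Fin.ext (by show (D.δI i : ℕ) - p = i; rw [h1]; show (i : ℕ) + p - p = i; omega)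
      · have h1 := D.δ_mid ⟨i, h⟩ (not_lt.1 h')
        rw [← e] at h1
        rw [hyA i h, hagree ⟨i, h⟩ (not_lt.1 h'), h1, hyA _ (D.θI ⟨i, h⟩).2]
        rfl
    · have h1 := D.δ_hi i (not_lt.1 h)
      rw [hyR i (not_lt.1 h), hff, hyA _ (by rw [h1]; have := i.2; omega)]
      congr 2
      exact Fin.ext h1
  have hfN : ∀ x ∈ N, f * x * f ∈ N := by
    intro x hx
    induction hx using Subgroup.closure_induction with
    | mem x hx => obtain ⟨i, rfl⟩ := hx; exact hfy i
    | one => rw [mul_one, hf]; exact one_mem _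
    | mul a b _ _ ha hb => rw [hfm]; exact mul_mem ha hb
    | inv a _ ha => rw [show f * a⁻¹ * f = (f⁻¹ * a * f⁻¹)⁻¹ by group, hfinv]; exact inv_mem ha
  have hcov : ∀ x : G, x ∈ N ∨ f * x ∈ N := by
    intro x
    have hx : x ∈ ι.range ⊔ Subgroup.closure {f} := hgen ▸ Subgroup.mem_top x
    rw [← Subgroup.closure_eq ι.range, ← Subgroup.closure_union] at hx
    induction hx using Subgroup.closure_induction with
    | mem x hx =>
      rcases hx with hx | hx
      · exact Or.inl (hιN hx)
      · rw [Set.mem_singleton_iff.1 hx, hf]; exact Or.inr (one_mem _)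
    | one => exact Or.inl (one_mem _)
    | mul a b _ _ ha hb =>
      rcases ha with ha | ha <;> rcases hb with hb | hb
      · exact Or.inl (mul_mem ha hb)
      · refine Or.inr ?_
        have := mul_mem (hfN a ha) hb
        rwa [show f * a * f * (f * b) = f * a * (f * f) * b by group, hf, mul_one, mul_assoc] at this
      · exact Or.inr (by simpa [mul_assoc] using mul_mem ha hb)
      · refine Or.inl ?_
        have := mul_mem (hfN _ ha) hb
        rwa [show f * (f * a) * f * (f * b) = (f * f) * a * (f * f) * b by group, hf, one_mul, mul_one] at this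
    | inv a _ ha =>
      rcases ha with ha | ha
      · exact Or.inl (inv_mem ha)
      · refine Or.inr ?_
        have := hfN _ (inv_mem ha)
        rwa [show f * (f * a)⁻¹ * f = f * a⁻¹ * (f⁻¹ * f) by group, inv_mul_cancel, mul_one] at this
  rw [injective_iff_map_eq_one]
  intro x hx
  rcases hcov x with h | h
  · exact hkerN x h hx
  rcases hext with hin | hout
  · have hfmem : f ∈ N := by
      refine (Subgroup.closure_le N).2 ?_ hin
      rintro _ (⟨a, rfl⟩ | ⟨a, rfl⟩)
      · exact hιN ⟨a, rfl⟩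
      · exact hfN _ (hιN ⟨a, rfl⟩)
    have : x ∈ N := by
      have := mul_mem hfmem h
      rwa [← mul_assoc, hf, one_mul] at this
    exact hkerN x this hx
  · exfalso
    refine hout ?_
    have := hπN _ h
    rwa [map_mul, hx, mul_one, hπf] at this

end Cfsg.Agent.Lie.AltGlue
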