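import Cfsg.Agent.Lib.Lie.AltGlueDerive

/-!
One commutation relation gives all relations across the two blocks.
-/

set_option autoImplicit false
set_option linter.unusedSectionVars false

namespace Cfsg.Agent.Lie.AltGlue

open Equiv Cfsg.Agent.Lie.Carmichael

theorem hom_mem_map {α : Type*} [DecidableEq α] [Fintype α] {H : Subgroup (alternatingGroup α)}
    {x : alternatingGroup α} : x.1 ∈ H.map (alternatingGroup α).subtype ↔ x ∈ H :=
  Subgroup.mem_map_iff_mem (alternatingGroup α).subtype_injective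

theorem commute_of_supports {α : Type*} [DecidableEq α] [Fintype α] {a b : alternatingGroup α} {A B : Finset α}
    (hAB : Disjoint A B) (ha : ∀ x ∉ A, a.1 x = x) (hb : ∀ x ∉ B, b.1 x = x) : Commute a b := by
  have h : Commute a.1 b.1 := Perm.Disjoint.commute fun y => by
    by_cases hy : y ∈ A
    · exact Or.inr (hb y (Finset.disjoint_left.1 hAB hy))
    · exact Or.inl (ha y hy)
  exact Subtype.ext h

theorem conjA_fix {α : Type*} [DecidableEq α] [Fintype α] {θ : Perm α} (hθ : θ * θ = 1) {x : alternatingGroup α}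
    {A : Finset α} (hx : ∀ y ∉ A, x.1 y = y) {y : α} (hy : θ y ∉ A) : (conjA θ x).1 y = y := by
  rw [conjA_val, inv_eq_of_mul_eq_one_right hθ, Perm.mul_apply, Perm.mul_apply, hx _ hy, ← Perm.mul_apply, hθ]
  rfl

/-- The data of the commutation relation. -/
structure CrossData (α : Type*) [DecidableEq α] [Fintype α] (θ : Perm α) where
  L : Finset α
  K : Finset α
  S : Finset α
  S' : Finset α
  u : alternatingGroup α
  u' : alternatingGroup α
  disj : Disjoint L K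
  cover : ∀ x, x ∈ L ∪ K
  S_sub : S ⊆ K
  S'_sub : S' ⊆ K
  θ_K : ∀ x ∈ K, θ x ∈ K
  θ_L : ∀ x ∈ L, θ x = x
  θ_S : ∀ x ∈ S, θ x = x
  avoid : ∀ x ∈ S, θ x ∉ S'
  u_supp : ∀ x ∉ L ∪ S, u.1 x = x
  u'_supp : ∀ x ∉ L ∪ S', u'.1 x = x
  σ : α
  σ' : α
  hσ : σ ∈ S
  hσ' : σ' ∈ S'
  u_orbit : ∀ l ∈ L, ∃ i : ℕ, (u.1 ^ i) σ = l
  u'_orbit : ∀ l ∈ L, ∃ i : ℕ, (u'.1 ^ i) σ' = l
  a : α
  b : α
  hab : a ≠ b
  ha : a ∈ K ∧ θ a ∉ S' ∧ a ∉ S
  hb : b ∈ K ∧ θ b ∉ S' ∧ b ∉ S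
  a' : α
  b' : α
  hab' : a' ≠ b'
  ha' : a' ∈ K ∧ a' ∉ S ∧ a' ∉ S'
  hb' : b' ∈ K ∧ b' ∉ S ∧ b' ∉ S'

variable {α : Type*} [DecidableEq α] [Fintype α] {θ : Perm α} (D : CrossData α θ)
  {G : Type*} [Group G] (ι : alternatingGroup α →* G) (f : G)

theorem CrossData.commute (hθ : θ * θ = 1) (hf : f * f = 1) (hK : Full (agree θ ι f) D.K)
    (hrel : Commute (ι D.u) (f * ι D.u' * f⁻¹))
    {q x : alternatingGroup α} (hq : ∀ y ∉ D.L ∪ D.S, q.1 y = y)
    (hx : ∀ y ∉ D.L ∪ (D.K \ D.S), x.1 y = y) : Commute (ι q) (f * ι x * f⁻¹) := by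
  have hθθ : ∀ y, θ (θ y) = y := fun y => by rw [← Perm.mul_apply, hθ]; rfl
  have hLK : ∀ y ∈ D.L, y ∉ D.K := fun y h => Finset.disjoint_left.1 D.disj h
  set Hw := ((Subgroup.centralizer ({f * ι D.u' * f⁻¹} : Set G)).comap ι).map (alternatingGroup α).subtype
  set Y := D.K.filter fun y => θ y ∉ D.S'
  have hY : Full Hw Y := by
    intro σ hσ hfix
    let z : alternatingGroup α := ⟨σ, Perm.mem_alternatingGroup.2 hσ⟩
    refine (hom_mem_map (x := z)).2 ?_
    have hzK : ∀ y ∉ D.K, z.1 y = y := fun y hy => hfix y fun h => hy (Finset.mem_filter.1 h).1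
    have hag : f * ι z * f⁻¹ = ι (conjA θ z) := (mem_agree θ ι f).1 (hK σ hσ hzK)
    have hc : Commute (conjA θ z) D.u' := by
      refine commute_of_supports (A := D.K \ D.S') (B := D.L ∪ D.S') ?_ (fun y hy => conjA_fix hθ hfix ?_)
        D.u'_supp
      · rw [Finset.disjoint_left]
        intro y h1 h2
        rcases Finset.mem_union.1 h2 with h2 | h2
        · exact hLK y h2 (Finset.mem_sdiff.1 h1).1
        · exact (Finset.mem_sdiff.1 h1).2 h2
      · intro hm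
        have h1 := (Finset.mem_filter.1 hm).1
        have h2 := (Finset.mem_filter.1 hm).2
        rw [hθθ] at h2
        exact hy (Finset.mem_sdiff.2 ⟨by simpa [hθθ] using D.θ_K _ h1, h2⟩)
    rw [Subgroup.mem_comap, Subgroup.mem_centralizer_singleton_iff]
    have h1 := (hc.map ι)
    rw [← hag] at h1
    have h2 := congrArg (fun t => f * t * f⁻¹) h1.eq
    have hfi : f⁻¹ = f := inv_eq_of_mul_eq_one_right hf
    simp only [hfi] at h2 ⊢
    rw [show f * (f * ι z * f * ι D.u') * f = (f * f) * (ι z * (f * ι D.u' * f)) by group, hf, one_mul,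
      show f * (ι D.u' * (f * ι z * f)) * f = (f * ι D.u' * f) * ι z * (f * f) by group, hf, mul_one] at h2
    exact h2
  have huH : D.u.1 ∈ Hw :=
    hom_mem_map.2 (by rw [Subgroup.mem_comap, Subgroup.mem_centralizer_singleton_iff]; exact hrel.eq)
  have hSY : D.S ⊆ Y := fun y hy => Finset.mem_filter.2 ⟨D.S_sub hy, D.avoid y hy⟩
  have hfixu : ∀ y ∈ D.K, y ∉ D.S → D.u.1 y = y := fun y h1 h2 => D.u_supp y fun h => by
    rcases Finset.mem_union.1 h with h | h
    · exact hLK y h h1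
    · exact h2 h
  have hLY : Full Hw (Y ∪ D.L) := hY.grow huH D.hab (Finset.mem_filter.2 ⟨D.ha.1, D.ha.2.1⟩)
    (Finset.mem_filter.2 ⟨D.hb.1, D.hb.2.1⟩) (hfixu _ D.ha.1 D.ha.2.2) (hfixu _ D.hb.1 D.hb.2.2)
    (hSY D.hσ) D.L D.u_orbit
  have hqw : Commute (ι q) (f * ι D.u' * f⁻¹) := by
    have : q.1 ∈ Hw := hLY q.1 (Perm.mem_alternatingGroup.1 q.2) fun y hy => hq y fun h => hy <| by
      rcases Finset.mem_union.1 h with h | h
      · exact Finset.mem_union_right _ h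
      · exact Finset.mem_union_left _ (hSY h)
    exact Subgroup.mem_centralizer_singleton_iff.1 (hom_mem_map.1 this)
  set Hq := ((Subgroup.centralizer ({ι q} : Set G)).comap ((MulAut.conj f).toMonoidHom.comp ι)).map
    (alternatingGroup α).subtype
  have hKS : Full Hq (D.K \ D.S) := by
    intro σ hσ hfix
    let z : alternatingGroup α := ⟨σ, Perm.mem_alternatingGroup.2 hσ⟩
    refine (hom_mem_map (x := z)).2 ?_
    have hzK : ∀ y ∉ D.K, z.1 y = y := fun y hy => hfix y fun h => hy (Finset.mem_sdiff.1 h).1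
    have hag : f * ι z * f⁻¹ = ι (conjA θ z) := (mem_agree θ ι f).1 (hK σ hσ hzK)
    rw [Subgroup.mem_comap, Subgroup.mem_centralizer_singleton_iff]
    show f * ι z * f⁻¹ * ι q = ι q * (f * ι z * f⁻¹)
    rw [hag, ← map_mul, ← map_mul]
    congr 1
    refine (commute_of_supports (A := D.K \ D.S) (B := D.L ∪ D.S) ?_ (fun y hy => conjA_fix hθ hfix ?_) hq).eq
    · rw [Finset.disjoint_left]
      intro y h1 h2
      rcases Finset.mem_union.1 h2 with h2 | h2
      · exact hLK y h2 (Finset.mem_sdiff.1 h1).1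
      · exact (Finset.mem_sdiff.1 h1).2 h2
    · intro hm
      obtain ⟨h1, h2⟩ := Finset.mem_sdiff.1 hm
      refine hy (Finset.mem_sdiff.2 ⟨by simpa [hθθ] using D.θ_K _ h1, fun hs => h2 ?_⟩)
      rw [D.θ_S y hs]; exact hs
  have hu'q : D.u'.1 ∈ Hq :=
    hom_mem_map.2 (by rw [Subgroup.mem_comap, Subgroup.mem_centralizer_singleton_iff]; exact hqw.eq.symm)
  have hfixu' : ∀ y ∈ D.K, y ∉ D.S' → D.u'.1 y = y := fun y h1 h2 => D.u'_supp y fun h => by
    rcases Finset.mem_union.1 h with h | h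
    · exact hLK y h h1
    · exact h2 h
  have hσ'S : D.σ' ∈ D.K \ D.S := Finset.mem_sdiff.2 ⟨D.S'_sub D.hσ',
    fun h => D.avoid _ h (by rw [D.θ_S _ h]; exact D.hσ')⟩
  have hfull : Full Hq ((D.K \ D.S) ∪ D.L) := hKS.grow hu'q D.hab'
    (Finset.mem_sdiff.2 ⟨D.ha'.1, D.ha'.2.1⟩) (Finset.mem_sdiff.2 ⟨D.hb'.1, D.hb'.2.1⟩)
    (hfixu' _ D.ha'.1 D.ha'.2.2) (hfixu' _ D.hb'.1 D.hb'.2.2) hσ'S D.L D.u'_orbit
  have : x.1 ∈ Hq := hfull x.1 (Perm.mem_alternatingGroup.1 x.2) fun y hy => hx y fun h =>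
    hy (by rwa [Finset.union_comm])
  exact Eq.symm (Subgroup.mem_centralizer_singleton_iff.1 (hom_mem_map.1 this))

variable {p : ℕ}

theorem cyc_val {I : Type*} [DecidableEq I] [Fintype I] (i : I) : (cyc i).1 = cyc3 (ptU : Pt I) ptV (ptI i) := rfl

/-- The relations across. -/
theorem CrossData.cross {θI : Perm (Fin p)} (D : CrossData (Pt (Fin p)) (liftP θI)) (ι : alternatingGroup (Pt (Fin p)) →* G)
    (hθ : liftP θI * liftP θI = 1) (hf : f * f = 1) (hK : Full (agree (liftP θI) ι f) D.K)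
    (hrel : Commute (ι D.u) (f * ι D.u' * f⁻¹)) (hU : ptU ∈ D.K ∧ ptU ∉ D.S) (hV : ptV ∈ D.K ∧ ptV ∉ D.S)
    {s : Fin p} (hs : ptI s ∈ D.S) (htwo : 3 ≤ D.L.card + D.S.card) {i i' : Fin p} (hi : ptI i ∈ D.L)
    (hi' : ptI i' ∈ D.L) : (ι (cyc i) * (f * ι (cyc i') * f)) ^ 2 = 1 := by
  classical
  have hfi : f⁻¹ = f := inv_eq_of_mul_eq_one_right hf
  have hLK : ∀ y ∈ D.L, y ∉ D.K := fun y h => Finset.disjoint_left.1 D.disj h
  have hne : (ptI i : Pt (Fin p)) ≠ ptI s := fun e => hLK _ hi (e ▸ D.S_sub hs)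
  obtain ⟨t, ht, htne⟩ : ∃ t ∈ D.L ∪ D.S, t ≠ ptI i ∧ t ≠ ptI s := by
    have hc : 3 ≤ (D.L ∪ D.S).card := by
      rw [Finset.card_union_of_disjoint (Finset.disjoint_left.2 fun y h1 h2 => hLK y h1 (D.S_sub h2))]
      exact htwo
    have : ((D.L ∪ D.S) \ {ptI i, ptI s}).Nonempty := by
      rw [← Finset.card_pos]
      have := Finset.le_card_sdiff ({ptI i, ptI s} : Finset (Pt (Fin p))) (D.L ∪ D.S)
      have h2 : ({ptI i, ptI s} : Finset (Pt (Fin p))).card ≤ 2 := Finset.card_le_two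
      omega
    obtain ⟨t, ht⟩ := this
    simp only [Finset.mem_sdiff, Finset.mem_insert, Finset.mem_singleton, not_or] at ht
    exact ⟨t, ht.1, ht.2⟩
  let q := cyc3A (ptI i) (ptI s) t hne (Ne.symm htne.1)
  have hqsupp : ∀ y ∉ D.L ∪ D.S, q.1 y = y := fun y hy => cyc3_fix
    (fun e => hy (e ▸ Finset.mem_union_left _ hi)) (fun e => hy (e ▸ Finset.mem_union_right _ hs))
    (fun e => hy (e ▸ ht))
  have hUL : ptU ∉ D.L ∪ D.S := fun h => (Finset.mem_union.1 h).elim (fun h => hLK _ h hU.1) hU.2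
  have hVL : ptV ∉ D.L ∪ D.S := fun h => (Finset.mem_union.1 h).elim (fun h => hLK _ h hV.1) hV.2
  have hx : ∀ y ∉ D.L ∪ (D.K \ D.S), (cyc i').1 y = y := fun y hy => by
    rw [cyc_val]
    refine cyc3_fix (fun e => hy ?_) (fun e => hy ?_) (fun e => hy ?_) <;> rw [e]
    · exact Finset.mem_union_right _ (Finset.mem_sdiff.2 hU)
    · exact Finset.mem_union_right _ (Finset.mem_sdiff.2 hV)
    · exact Finset.mem_union_left _ hi'
  have hcom : Commute (ι q) (f * ι (cyc i') * f) := by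
    have h := D.commute ι f hθ hf hK hrel hqsupp hx
    rwa [hfi] at h
  have hqi : q * cyc i * q⁻¹ = cyc s := Subtype.ext (by
    show q.1 * (cyc i).1 * q.1⁻¹ = (cyc s).1
    rw [cyc_val, cyc_val, conj_cyc3, hqsupp _ hUL, hqsupp _ hVL]
    congr 1
    exact cyc3_apply_left hne (Ne.symm htne.2))
  have hsK : f * ι (cyc s) * f = ι (cyc s) := by
    have h1 : (cyc s).1 ∈ agree (liftP θI) ι f := hK _ (Perm.mem_alternatingGroup.1 (cyc s).2) fun y hy => by
      rw [cyc_val]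
      refine cyc3_fix (fun e => hy ?_) (fun e => hy ?_) (fun e => hy ?_) <;> rw [e]
      · exact hU.1
      · exact hV.1
      · exact D.S_sub hs
    have h2 := (mem_agree _ ι f).1 h1
    rw [hfi, conjA_cyc] at h2
    rw [h2]
    congr 2
    have := D.θ_S _ hs
    exact Option.some.inj (Option.some.inj this)
  have hne' : s ≠ i' := fun e => hLK _ hi' (e ▸ D.S_sub hs)
  have hkey : ι q * (ι (cyc i) * (f * ι (cyc i') * f)) * (ι q)⁻¹ = f * ι (cyc s * cyc i') * f := by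
    rw [show ι q * (ι (cyc i) * (f * ι (cyc i') * f)) * (ι q)⁻¹ =
      (ι q * ι (cyc i) * (ι q)⁻¹) * ((ι q) * (f * ι (cyc i') * f) * (ι q)⁻¹) by group, hcom.eq,
      mul_inv_cancel_right, ← map_inv, ← map_mul, ← map_mul, hqi, map_mul]
    conv_lhs => rw [← hsK]
    rw [show f * ι (cyc s) * f * (f * ι (cyc i') * f) = f * ι (cyc s) * (f * f) * ι (cyc i') * f by group, hf,
      mul_one]
    group
  have h1 : (ι q * (ι (cyc i) * (f * ι (cyc i') * f)) * (ι q)⁻¹) ^ 2 = 1 := by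
    rw [hkey]
    conv_lhs => rw [show f * ι (cyc s * cyc i') * f = f * ι (cyc s * cyc i') * f⁻¹ by rw [hfi]]
    rw [conj_pow, ← map_pow, cyc_pair hne', map_one, mul_one, mul_inv_cancel]
  rw [conj_pow, conj_eq_one_iff] at h1
  exact h1

end Cfsg.Agent.Lie.AltGlue
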