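import Cfsg.Agent.Lib.Lie.AltGlueRels

/-!
The concrete gluing data.
-/

set_option autoImplicit false
set_option linter.unusedSectionVars false

namespace Cfsg.Agent.Lie.AltGlue

open Equiv Cfsg.Agent.Lie.Carmichael
open Cfsg.Agent.Lie.Pres (PresOn)

/-! ### Cycles -/

section Cyc

variable {α : Type*} [DecidableEq α] [Fintype α] {N : ℕ}

/-- The cycle through the points of a numbered family. -/
noncomputable def cycOn (e : Fin N ↪ α) : Perm α := (finRotate N).viaEmbedding e

theorem cycOn_fix (e : Fin N ↪ α) {y : α} (hy : y ∉ Set.range e) : cycOn e y = y :=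
  Perm.viaEmbedding_apply_of_notMem _ _ _ hy

theorem cycOn_pow_apply (e : Fin N ↪ α) (i : ℕ) (t : Fin N) : (cycOn e ^ i) (e t) = e ((finRotate N ^ i) t) := by
  rw [cycOn, ← Perm.viaEmbeddingHom_apply, ← map_pow, Perm.viaEmbeddingHom_apply, Perm.viaEmbedding_apply]

theorem cycOn_sign (e : Fin N ↪ α) (hN : Odd N) : Perm.sign (cycOn e) = 1 := by
  obtain ⟨k, rfl⟩ := hN
  rw [cycOn, sign_viaEmbedding, sign_finRotate, Nat.add_sub_cancel, pow_mul, neg_one_sq, one_pow]

theorem finRotate_pow_val [NeZero N] (i : ℕ) (t : Fin N) : ((finRotate N ^ i) t : ℕ) = ((t : ℕ) + i) % N := by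
  induction i with
  | zero => simp [Nat.mod_eq_of_lt t.2]
  | succ i ih =>
    rw [pow_succ', Perm.mul_apply, finRotate_apply, Fin.val_add, ih, Fin.val_one', Nat.add_mod_mod,
      Nat.mod_add_mod, add_assoc]

theorem cycOn_pow (e : Fin N ↪ α) [NeZero N] : cycOn e ^ N = 1 := by
  have h : finRotate N ^ N = 1 := Equiv.ext fun t => Fin.ext (by
    rw [finRotate_pow_val]; simp [Nat.mod_eq_of_lt t.2])
  rw [cycOn, ← Perm.viaEmbeddingHom_apply, ← map_pow, h, map_one]

theorem cycOn_orbit (e : Fin N ↪ α) [NeZero N] (t t' : Fin N) : ∃ i : ℕ, (cycOn e ^ i) (e t) = e t' := by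
  refine ⟨(t' : ℕ) + N - t, ?_⟩
  rw [cycOn_pow_apply]
  refine congrArg e (Fin.ext ?_)
  rw [finRotate_pow_val, show (t : ℕ) + (t' + N - t) = t' + N by have := t.2; omega, Nat.add_mod_right,
    Nat.mod_eq_of_lt t'.2]

/-- The cycle as an even permutation. -/
noncomputable def cycA (e : Fin N ↪ α) (hN : Odd N) : alternatingGroup α :=
  ⟨cycOn e, Perm.mem_alternatingGroup.2 (cycOn_sign e hN)⟩

end Cyc

/-! ### The involution -/

variable {p m : ℕ}

/-- The permutation of the kept indices: nothing, or the exchange of the first two. -/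
def thetaI (p d : ℕ) (w : Bool) : Perm (Fin p) :=
  if h : w = true ∧ d + 1 < p then swap ⟨d, by omega⟩ ⟨d + 1, h.2⟩ else 1

theorem thetaI_sq (p d : ℕ) (w : Bool) : thetaI p d w * thetaI p d w = 1 := by
  unfold thetaI; split_ifs <;> simp

theorem thetaI_fix {p d : ℕ} {w : Bool} {i : Fin p} (h1 : (i : ℕ) ≠ d) (h2 : (i : ℕ) ≠ d + 1) :
    thetaI p d w i = i := by
  unfold thetaI; split_ifs
  · exact swap_apply_of_ne_of_ne (fun e => h1 (congrArg Fin.val e)) (fun e => h2 (congrArg Fin.val e))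
  · rfl

theorem thetaI_false (p d : ℕ) : thetaI p d false = 1 := dif_neg (by simp)

theorem thetaI_true {p d : ℕ} (h : d + 1 < p) : thetaI p d true = swap ⟨d, by omega⟩ ⟨d + 1, h⟩ :=
  dif_pos ⟨rfl, h⟩

theorem thetaI_ge {p d : ℕ} {w : Bool} {i : Fin p} (hi : d ≤ (i : ℕ)) : d ≤ (thetaI p d w i : ℕ) := by
  by_cases h1 : (i : ℕ) = d
  · unfold thetaI; split_ifs with h
    · rw [show i = ⟨d, by omega⟩ from Fin.ext h1, swap_apply_left]; simp
    · simpa using hi
  by_cases h2 : (i : ℕ) = d + 1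
  · unfold thetaI; split_ifs with h
    · rw [show i = ⟨d + 1, h.2⟩ from Fin.ext h2, swap_apply_right]
    · simpa using hi
  rw [thetaI_fix h1 h2]; exact hi

/-- The gluing involution on the indices. -/
def deltaFun (hlt : p < m) (hle : m ≤ 2 * p) (w : Bool) (i : Fin m) : Fin m :=
  if h1 : (i : ℕ) < m - p then ⟨i + p, by omega⟩
  else if h2 : (i : ℕ) < p then Fin.castLEEmb hlt.le (thetaI p (m - p) w ⟨i, h2⟩)
  else ⟨i - p, by omega⟩

theorem deltaFun_inv (hlt : p < m) (hle : m ≤ 2 * p) (w : Bool) : Function.Involutive (deltaFun hlt hle w) := by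
  intro i
  unfold deltaFun
  by_cases h1 : (i : ℕ) < m - p
  · have n1 : ¬ (i : ℕ) + p < m - p := by omega
    have n2 : ¬ (i : ℕ) + p < p := by omega
    rw [dif_pos h1, dif_neg n1, dif_neg n2]
    exact Fin.ext (Nat.add_sub_cancel (i : ℕ) p)
  by_cases h2 : (i : ℕ) < p
  · rw [dif_neg h1, dif_pos h2]
    have hge := thetaI_ge (w := w) (i := (⟨i, h2⟩ : Fin p)) (d := m - p) (by show m - p ≤ (i : ℕ); omega)
    have n1 : ¬ ((Fin.castLEEmb hlt.le (thetaI p (m - p) w ⟨i, h2⟩) : Fin m) : ℕ) < m - p := not_lt.2 hge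
    have n2 : ((Fin.castLEEmb hlt.le (thetaI p (m - p) w ⟨i, h2⟩) : Fin m) : ℕ) < p :=
      (thetaI p (m - p) w ⟨i, h2⟩).2
    rw [dif_neg n1, dif_pos n2]
    refine Fin.ext ?_
    show ((thetaI p (m - p) w (thetaI p (m - p) w ⟨i, h2⟩)) : ℕ) = i
    rw [← Perm.mul_apply, thetaI_sq]
    rfl
  · have n1 : (i : ℕ) - p < m - p := by have := i.2; omega
    rw [dif_neg h1, dif_neg h2, dif_pos n1]
    exact Fin.ext (Nat.sub_add_cancel (not_lt.1 h2))

/-- The frame. -/
def frame (hlt : p < m) (hle : m ≤ 2 * p) (w : Bool) : Frame p m where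
  lt := hlt
  le := hle
  θI := thetaI p (m - p) w
  δI := (deltaFun_inv hlt hle w).toPerm
  θ_sq := thetaI_sq _ _ _
  θ_lo i hi := thetaI_fix (by omega) (by omega)
  δ_lo i hi := by
    show (deltaFun hlt hle w (Fin.castLEEmb hlt.le i) : ℕ) = i + p
    have h1 : ((Fin.castLEEmb hlt.le i : Fin m) : ℕ) < m - p := hi
    rw [deltaFun, dif_pos h1]
    rfl
  δ_mid i hi := by
    show deltaFun hlt hle w (Fin.castLEEmb hlt.le i) = _
    have h1 : ¬ ((Fin.castLEEmb hlt.le i : Fin m) : ℕ) < m - p := not_lt.2 hi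
    have h2 : ((Fin.castLEEmb hlt.le i : Fin m) : ℕ) < p := i.2
    rw [deltaFun, dif_neg h1, dif_pos h2]
    rfl
  δ_hi i hi := by
    show (deltaFun hlt hle w i : ℕ) = i - p
    rw [deltaFun, dif_neg (by omega), dif_neg (by omega)]

theorem frame_sq (hlt : p < m) (hle : m ≤ 2 * p) (w : Bool) :
    (frame hlt hle w).δI * (frame hlt hle w).δI = 1 :=
  Equiv.ext (deltaFun_inv hlt hle w)

theorem frame_sign (hlt : p < m) (hle : m ≤ 2 * p) (w : Bool) (hw : w = true → m - p + 1 < p) :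
    Perm.sign (frame hlt hle w).δI = (-1) ^ ((m - p) + cond w 1 0) := by
  let e2 : (Fin (m - p) × Bool) ↪ Fin m := ⟨fun x => if x.2 then ⟨(x.1 : ℕ) + p, by have := x.1.2; omega⟩
      else ⟨x.1, by have := x.1.2; omega⟩, by
    rintro ⟨a, _ | _⟩ ⟨b, _ | _⟩ hab <;>
      simp only [Bool.false_eq_true, if_true, if_false, Fin.mk.injEq] at hab
    · rw [Fin.ext hab]
    · have := a.2; omega
    · have := b.2; omega
    · rw [Fin.ext (show (a : ℕ) = b by omega)]⟩
  have e : (frame hlt hle w).δI = (thetaI p (m - p) w).viaEmbedding (Fin.castLEEmb hlt.le) *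
      Perm.viaEmbedding (prodCongrRight fun _ : Fin (m - p) => swap false true) e2 := by
    refine Equiv.ext fun i => ?_
    rw [Perm.mul_apply]
    show deltaFun hlt hle w i = _
    by_cases h1 : (i : ℕ) < m - p
    · have hi : i = e2 (⟨i, h1⟩, false) := rfl
      conv_rhs => rw [hi, Perm.viaEmbedding_apply]
      rw [deltaFun, dif_pos h1, Perm.viaEmbedding_apply_of_notMem]
      · rfl
      · rintro ⟨x, hx⟩
        have := x.2
        have h3 : (x : ℕ) = (i : ℕ) + p := congrArg Fin.val hx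
        omega
    by_cases h2 : (i : ℕ) < p
    · conv_rhs => rw [Perm.viaEmbedding_apply_of_notMem _ e2 i (by
        rintro ⟨⟨a, _ | _⟩, hx⟩
        · have h3 : (a : ℕ) = i := congrArg Fin.val hx
          have := a.2; omega
        · have h3 : (a : ℕ) + p = i := congrArg Fin.val hx
          omega)]
      have hi : i = Fin.castLEEmb hlt.le ⟨i, h2⟩ := rfl
      conv_rhs => rw [hi, Perm.viaEmbedding_apply]
      rw [deltaFun, dif_neg h1, dif_pos h2]
    · have hi : i = e2 (⟨(i : ℕ) - p, by have := i.2; omega⟩, true) :=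
        Fin.ext (Nat.sub_add_cancel (not_lt.1 h2)).symm
      conv_rhs => rw [hi, Perm.viaEmbedding_apply]
      rw [deltaFun, dif_neg h1, dif_neg h2]
      show _ = (thetaI p (m - p) w).viaEmbedding _ (⟨(i : ℕ) - p, _⟩ : Fin m)
      have hx : (⟨(i : ℕ) - p, by omega⟩ : Fin m) =
          Fin.castLEEmb hlt.le ⟨(i : ℕ) - p, by have := i.2; omega⟩ := rfl
      conv_rhs => rw [hx, Perm.viaEmbedding_apply, thetaI_fix (by show (i : ℕ) - p ≠ m - p; omega)
        (by show (i : ℕ) - p ≠ m - p + 1; have := i.2; omega)]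
      rfl
  rw [e, map_mul, sign_viaEmbedding, sign_viaEmbedding, Perm.sign_prodCongrRight, Finset.prod_const,
    Finset.card_univ, Fintype.card_fin, Perm.sign_swap (by decide), pow_add, mul_comm]
  congr 1
  cases w
  · rw [thetaI_false, map_one]; rfl
  · rw [thetaI_true (hw rfl), Perm.sign_swap (by simp)]; rfl

theorem liftP_sign {I : Type*} [DecidableEq I] [Fintype I] (σ : Perm I) :
    Perm.sign (liftP σ) = Perm.sign σ := by
  show Perm.sign (optionCongr (optionCongr σ)) = _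
  rw [Equiv.optionCongr_sign, Equiv.optionCongr_sign]

end Cfsg.Agent.Lie.AltGlue
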