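import Cfsg.Agent.Lib.Lie.AltPres

/-!
Subgroups of a symmetric group containing all even permutations of a set of points.
-/

set_option autoImplicit false
set_option linter.unusedSectionVars false

namespace Cfsg.Agent.Lie.AltGlue

open Equiv Cfsg.Agent.Lie.Carmichael

variable {Ω : Type*} [DecidableEq Ω] [Fintype Ω]

/-- The three-cycle `a → b → x → a`. -/
def cyc3 (a b x : Ω) : Perm Ω := swap a x * swap a b

theorem cyc3_fix {a b x y : Ω} (ha : y ≠ a) (hb : y ≠ b) (hx : y ≠ x) : cyc3 a b x y = y := by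
  rw [cyc3, Perm.mul_apply, swap_apply_of_ne_of_ne ha hb, swap_apply_of_ne_of_ne ha hx]

theorem cyc3_sign {a b x : Ω} (hab : a ≠ b) (hax : a ≠ x) : Perm.sign (cyc3 a b x) = 1 := by
  rw [cyc3, map_mul, Perm.sign_swap hax, Perm.sign_swap hab]
  rfl

theorem conj_cyc3 (u : Perm Ω) (a b x : Ω) : u * cyc3 a b x * u⁻¹ = cyc3 (u a) (u b) (u x) := by
  rw [cyc3, cyc3, show u * (swap a x * swap a b) * u⁻¹ = (u * swap a x * u⁻¹) * (u * swap a b * u⁻¹) by group,
    ← swap_apply_apply, ← swap_apply_apply]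

theorem cyc3_apply_left {a b x : Ω} (hab : a ≠ b) (hbx : b ≠ x) : cyc3 a b x a = b := by
  rw [cyc3, Perm.mul_apply, swap_apply_left, swap_apply_of_ne_of_ne hab.symm hbx]

theorem cyc3_apply_mid (a b x : Ω) : cyc3 a b x b = x := by
  rw [cyc3, Perm.mul_apply, swap_apply_right, swap_apply_left]

theorem cyc3_apply_right {a b x : Ω} (hax : a ≠ x) (hbx : b ≠ x) : cyc3 a b x x = a := by
  rw [cyc3, Perm.mul_apply, swap_apply_of_ne_of_ne hax.symm hbx.symm, swap_apply_right]

/-- `H` contains every even permutation supported on `Y`. -/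
def Full (H : Subgroup (Perm Ω)) (Y : Finset Ω) : Prop :=
  ∀ σ : Perm Ω, Perm.sign σ = 1 → (∀ x ∉ Y, σ x = x) → σ ∈ H

theorem Full.mono {H : Subgroup (Perm Ω)} {Y Z : Finset Ω} (h : Full H Y) (hZ : Z ⊆ Y) : Full H Z :=
  fun σ hσ hfix => h σ hσ fun x hx => hfix x fun h' => hx (hZ h')

theorem Full.cyc3_mem {H : Subgroup (Perm Ω)} {Y : Finset Ω} (h : Full H Y) {a b x : Ω} (ha : a ∈ Y)
    (hb : b ∈ Y) (hx : x ∈ Y) (hab : a ≠ b) (hax : a ≠ x) : cyc3 a b x ∈ H :=
  h _ (cyc3_sign hab hax) fun y hy =>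
    cyc3_fix (fun e => hy (by rwa [e])) (fun e => hy (by rwa [e])) (fun e => hy (by rwa [e]))

/-- Three-cycles through two points generate. -/
theorem full_of_star {H : Subgroup (Perm Ω)} {Y : Finset Ω} {a b : Ω} (hab : a ≠ b) (ha : a ∈ Y) (hb : b ∈ Y)
    (h : ∀ x ∈ Y, x ≠ a → x ≠ b → cyc3 a b x ∈ H) : Full H Y := by
  classical
  intro σ hσ hfix
  let I := {x : Ω // x ∈ Y ∧ x ≠ a ∧ x ≠ b}
  let emb : Pt I ↪ Ω := ⟨fun o => o.elim a fun o => o.elim b Subtype.val, by
    rintro (_ | _ | i) (_ | _ | j) hij <;> simp only [Option.elim] at hij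
    · rfl
    · exact absurd hij hab
    · exact absurd hij.symm j.2.2.1
    · exact absurd hij.symm hab
    · rfl
    · exact absurd hij.symm j.2.2.2
    · exact absurd hij i.2.2.1
    · exact absurd hij i.2.2.2
    · rw [Subtype.ext hij]⟩
  have hrange : ∀ y, y ∈ Set.range emb ↔ y ∈ Y := by
    intro y
    constructor
    · rintro ⟨_ | _ | i, rfl⟩
      · exact ha
      · exact hb
      · exact i.2.1
    · intro hy
      by_cases h1 : y = a
      · exact ⟨ptU, h1.symm⟩
      by_cases h2 : y = b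
      · exact ⟨ptV, h2.symm⟩
      exact ⟨ptI ⟨y, hy, h1, h2⟩, rfl⟩
  have hst : ∀ z : Ω, σ z ∈ Y ↔ z ∈ Y := by
    intro z
    by_cases hz : z ∈ Y
    · simp only [hz, iff_true]
      by_contra hn
      exact hn (by rw [σ.injective (hfix _ hn)]; exact hz)
    · simp [hz, hfix z hz]
  let e : Pt I ≃ {y : Ω // y ∈ Y} :=
    (Equiv.ofInjective emb emb.injective).trans (Equiv.subtypeEquivRight hrange)
  have he : ∀ z, (e z : Ω) = emb z := fun _ => rfl
  let σ' : Perm (Pt I) := (e.trans (σ.subtypePerm hst)).trans e.symm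
  have hσ' : σ'.viaEmbedding emb = σ := by
    refine Equiv.ext fun y => ?_
    by_cases hy : y ∈ Set.range emb
    · obtain ⟨z, rfl⟩ := hy
      rw [Perm.viaEmbedding_apply, ← he, ← he]
      simp [σ']
    · rw [Perm.viaEmbedding_apply_of_notMem _ _ _ hy, hfix y fun h' => hy ((hrange y).2 h')]
  have heven : σ' ∈ alternatingGroup (Pt I) := by
    rw [Perm.mem_alternatingGroup, ← sign_viaEmbedding emb, hσ', hσ]
  let ψ : alternatingGroup (Pt I) →* Perm Ω := (Perm.viaEmbeddingHom emb).comp (alternatingGroup (Pt I)).subtype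
  have hle : ψ.range ≤ H := by
    rw [MonoidHom.range_eq_map, ← closure_cyc, MonoidHom.map_closure, Subgroup.closure_le]
    rintro _ ⟨_, ⟨i, rfl⟩, rfl⟩
    show (cycP i).viaEmbedding emb ∈ H
    rw [cycP, ← Perm.viaEmbeddingHom_apply, map_mul, Perm.viaEmbeddingHom_apply, Perm.viaEmbeddingHom_apply,
      via_swap, via_swap]
    exact h i.1 i.2.1 i.2.2.1 i.2.2.2
  rw [← hσ']
  exact hle ⟨⟨σ', heven⟩, rfl⟩

theorem full_triple {H : Subgroup (Perm Ω)} {a b x : Ω} (hab : a ≠ b) (h : cyc3 a b x ∈ H) :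
    Full H {a, b, x} :=
  full_of_star hab (by simp) (by simp) fun y hy h1 h2 => by
    simp only [Finset.mem_insert, Finset.mem_singleton] at hy
    rcases hy with rfl | rfl | rfl
    · exact absurd rfl h1
    · exact absurd rfl h2
    · exact h

theorem Full.union {H : Subgroup (Perm Ω)} {Y Z : Finset Ω} (hY : Full H Y) (hZ : Full H Z) {a b : Ω}
    (hab : a ≠ b) (haY : a ∈ Y) (hbY : b ∈ Y) (haZ : a ∈ Z) (hbZ : b ∈ Z) : Full H (Y ∪ Z) :=
  full_of_star hab (Finset.mem_union_left _ haY) (Finset.mem_union_left _ hbY) fun x hx h1 h2 => by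
    rcases Finset.mem_union.1 hx with hx | hx
    · exact hY.cyc3_mem haY hbY hx hab (Ne.symm h1)
    · exact hZ.cyc3_mem haZ hbZ hx hab (Ne.symm h1)

theorem Full.image {H : Subgroup (Perm Ω)} {Y : Finset Ω} (hY : Full H Y) {u : Perm Ω} (hu : u ∈ H) :
    Full H (Y.image u) := by
  intro σ hσ hfix
  have h : u⁻¹ * σ * u ∈ H := hY _ (by
    rw [map_mul, map_mul, mul_right_comm, ← map_mul, inv_mul_cancel, map_one, one_mul, hσ]) fun x hx => by
    rw [Perm.mul_apply, Perm.mul_apply, hfix (u x) fun hm => hx ?_]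
    · exact u.symm_apply_apply x
    · obtain ⟨z, hz, hzx⟩ := Finset.mem_image.1 hm
      rwa [← u.injective hzx]
  have := mul_mem (mul_mem hu h) (inv_mem hu)
  simpa [mul_assoc] using this

/-- The orbit of a point of `Y` under a member fixing two of its points can be added. -/
theorem Full.grow {H : Subgroup (Perm Ω)} {Y : Finset Ω} (hY : Full H Y) {u : Perm Ω} (hu : u ∈ H)
    {a b σ : Ω} (hab : a ≠ b) (ha : a ∈ Y) (hb : b ∈ Y) (hua : u a = a) (hub : u b = b) (hσ : σ ∈ Y)
    (T : Finset Ω) (hT : ∀ t ∈ T, ∃ i : ℕ, (u ^ i) σ = t) : Full H (Y ∪ T) := by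
  have key : ∀ i : ℕ, Full H (insert ((u ^ i) σ) Y) := by
    intro i
    induction i with
    | zero => simpa [Finset.insert_eq_of_mem hσ] using hY
    | succ i ih =>
      have h2 := (ih.image hu).union hY hab
        (Finset.mem_image.2 ⟨a, Finset.mem_insert_of_mem ha, hua⟩)
        (Finset.mem_image.2 ⟨b, Finset.mem_insert_of_mem hb, hub⟩) ha hb
      refine h2.mono fun x hx => ?_
      rcases Finset.mem_insert.1 hx with rfl | hx
      · exact Finset.mem_union_left _ (Finset.mem_image.2 ⟨_, Finset.mem_insert_self _ _, by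
          rw [pow_succ', Perm.mul_apply]⟩)
      · exact Finset.mem_union_right _ hx
  refine full_of_star hab (Finset.mem_union_left _ ha) (Finset.mem_union_left _ hb) fun x hx h1 h2 => ?_
  rcases Finset.mem_union.1 hx with hx | hx
  · exact hY.cyc3_mem ha hb hx hab (Ne.symm h1)
  · obtain ⟨i, rfl⟩ := hT x hx
    exact (key i).cyc3_mem (Finset.mem_insert_of_mem ha) (Finset.mem_insert_of_mem hb)
      (Finset.mem_insert_self _ _) hab (Ne.symm h1)

end Cfsg.Agent.Lie.AltGlue
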