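import Cfsg.Agent.Lib.Lie.AltGlue
import Cfsg.Agent.Lib.Lie.AltGlueGen

/-!
Consequences of the three gluing relations.
-/

set_option autoImplicit false
set_option linter.unusedSectionVars false

namespace Cfsg.Agent.Lie.AltGlue

open Equiv Cfsg.Agent.Lie.Carmichael

variable {α : Type*} [DecidableEq α] [Fintype α]

/-- A three-cycle in the alternating group. -/
def cyc3A (a b x : α) (hab : a ≠ b) (hax : a ≠ x) : alternatingGroup α :=
  ⟨cyc3 a b x, Perm.mem_alternatingGroup.2 (cyc3_sign hab hax)⟩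

theorem cycP_eq {I : Type*} [DecidableEq I] (i : I) [Fintype I] : (cycP i : Perm (Pt I)) = cyc3 ptU ptV (ptI i) := rfl

theorem cyc3_switch {a b e z : α} (hab : a ≠ b) (hae : a ≠ e) (haz : a ≠ z) (hbe : b ≠ e) (hbz : b ≠ z)
    (hez : e ≠ z) : cyc3 a e z * (cyc3 b e z)⁻¹ = cyc3 b a e := by
  rw [mul_inv_eq_iff_eq_mul]
  refine Equiv.ext fun y => ?_
  rw [Perm.mul_apply]
  by_cases ha : y = a
  · subst ha
    rw [cyc3_apply_left hae hez, cyc3_fix hab hae haz, cyc3_apply_mid]
  by_cases hb : y = b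
  · subst hb
    rw [cyc3_fix hab.symm hbe hbz, cyc3_apply_left hbe hez, cyc3_apply_right hbe hae]
  by_cases he : y = e
  · subst he
    rw [cyc3_apply_mid, cyc3_apply_mid, cyc3_fix hbz.symm haz.symm hez.symm]
  by_cases hz : y = z
  · subst hz
    rw [cyc3_apply_right haz hez, cyc3_apply_right hbz hez, cyc3_apply_left hab.symm hae]
  rw [cyc3_fix ha he hz, cyc3_fix hb he hz, cyc3_fix hb ha he]

variable {G : Type*} [Group G] (θ : Perm α) (ι : alternatingGroup α →* G) (f : G)

/-- The elements on which the involution acts as `θ`. -/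
def agree : Subgroup (Perm α) :=
  (MonoidHom.eqLocus ((MulAut.conj f).toMonoidHom.comp ι) (ι.comp (conjA θ))).map (alternatingGroup α).subtype

theorem mem_agree {x : alternatingGroup α} : x.1 ∈ agree θ ι f ↔ f * ι x * f⁻¹ = ι (conjA θ x) := by
  constructor
  · rintro ⟨y, hy, hyx⟩
    rw [← Subtype.ext (show y.1 = x.1 from hyx)]
    exact hy
  · exact fun h => ⟨x, h, rfl⟩

theorem agree_theta (hf : f * f = 1) (hθ : θ * θ = 1) {x : alternatingGroup α} (hx : x.1 ∈ agree θ ι f) :
    (conjA θ x).1 ∈ agree θ ι f := by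
  rw [mem_agree] at hx ⊢
  have e : conjA θ (conjA θ x) = x := Subtype.ext (by
    rw [conjA_val, conjA_val, inv_eq_of_mul_eq_one_right hθ,
      show θ * (θ * x.1 * θ) * θ = (θ * θ) * x.1 * (θ * θ) by group, hθ, one_mul, mul_one])
  have hfi : f⁻¹ = f := inv_eq_of_mul_eq_one_right hf
  rw [e, ← hx, hfi, show f * (f * ι x * f) * f = (f * f) * ι x * (f * f) by group, hf, one_mul, mul_one]

theorem agree_conj {c : alternatingGroup α} {W : G} (hc : f * ι c * f⁻¹ = W * ι (conjA θ c))
    {x : alternatingGroup α} (hx : x.1 ∈ agree θ ι f) (hW : Commute W (ι (conjA θ x))) :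
    (c⁻¹ * x * c).1 ∈ agree θ ι f := by
  rw [mem_agree] at hx ⊢
  have hci : f * ι c⁻¹ * f⁻¹ = ι (conjA θ c)⁻¹ * W⁻¹ := by
    rw [map_inv, map_inv, ← _root_.mul_inv_rev, ← hc]; group
  rw [map_mul, map_mul, show f * (ι c⁻¹ * ι x * ι c) * f⁻¹ = (f * ι c⁻¹ * f⁻¹) * (f * ι x * f⁻¹) *
      (f * ι c * f⁻¹) by group, hci, hx, hc, map_mul, map_mul, map_mul, map_mul, map_inv, map_inv]
  rw [show (ι (conjA θ c))⁻¹ * W⁻¹ * ι (conjA θ x) * (W * ι (conjA θ c)) =
    (ι (conjA θ c))⁻¹ * (W⁻¹ * (ι (conjA θ x) * W)) * ι (conjA θ c) by group, ← hW.eq, inv_mul_cancel_left]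
  all_goals simp only [map_inv]

/-- A cycle and one linking three-cycle. -/
theorem full_cycle {H : Subgroup (Perm α)} {h : Perm α} (hh : h ∈ H) {x : ℕ → α} (hstep : ∀ i, h (x i) = x (i + 1))
    {e : α} (he : h e = e) (hne : ∀ i, x i ≠ e) (hne' : ∀ i, x (i + 1) ≠ x i)
    (ht : cyc3 (x 1) (x 0) e ∈ H) (J : Finset α) (hJ : ∀ y ∈ J, ∃ i, x i = y) : Full H (insert e J) := by
  classical
  have hstepn : ∀ n i, (h ^ n) (x i) = x (i + n) := by
    intro n
    induction n with
    | zero => simp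
    | succ n ih => intro i; rw [pow_succ', Perm.mul_apply, ih, hstep, add_assoc]
  have hfixe : ∀ n : ℕ, (h ^ n) e = e := by
    intro n
    induction n with
    | zero => simp
    | succ n ih => rw [pow_succ', Perm.mul_apply, ih, he]
  have htri : ∀ i, Full H {x (i + 1), x i, e} := by
    intro i
    refine full_triple (hne' i) ?_
    have := mul_mem (mul_mem (pow_mem hh i) ht) (inv_mem (pow_mem hh i))
    rwa [conj_cyc3, hstepn, hstepn, hfixe, add_comm 1 i, zero_add] at this
  have key : ∀ n, Full H (insert e ((Finset.range (n + 2)).image x)) := by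
    intro n
    induction n with
    | zero =>
      refine (htri 0).mono fun y hy => ?_
      simp only [Finset.mem_insert, Finset.mem_image, Finset.mem_range, Finset.mem_singleton] at hy ⊢
      rcases hy with rfl | ⟨i, hi, rfl⟩
      · simp
      · rcases (show i = 0 ∨ i = 1 by omega) with rfl | rfl <;> simp
    | succ n ih =>
      refine (ih.union (htri (n + 1)) (hne (n + 1)) (a := x (n + 1)) (b := e) ?_ (by simp) (by simp) (by simp)).mono
        fun y hy => ?_
      · exact Finset.mem_insert_of_mem (Finset.mem_image.2 ⟨n + 1, by simp, rfl⟩)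
      simp only [Finset.mem_insert, Finset.mem_image, Finset.mem_range, Finset.mem_singleton,
        Finset.mem_union] at hy ⊢
      rcases hy with rfl | ⟨i, hi, rfl⟩
      · simp
      · rcases lt_or_eq_of_le (Nat.lt_succ_iff.1 hi) with hi | rfl
        · exact Or.inl (Or.inr ⟨i, by omega, rfl⟩)
        · simp
  refine Full.mono (Y := insert e (insert (x 0) J)) ?_ (Finset.insert_subset_insert _ (Finset.subset_insert _ _))
  refine full_of_star (a := x 0) (b := e) (hne 0) (by simp) (Finset.mem_insert_self _ _) fun y hy h1 h2 => ?_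
  rcases Finset.mem_insert.1 hy with rfl | hy
  · exact absurd rfl h2
  obtain ⟨i, rfl⟩ := hJ y ((Finset.mem_insert.1 hy).resolve_left h1)
  exact (key i).cyc3_mem (Finset.mem_insert_of_mem (Finset.mem_image.2 ⟨0, by simp, rfl⟩))
    (Finset.mem_insert_self _ _) (Finset.mem_insert_of_mem (Finset.mem_image.2 ⟨i, by simp, rfl⟩))
    (hne 0) (Ne.symm h1)

end Cfsg.Agent.Lie.AltGlue
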