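import Cfsg.Agent.Lib.Lie.AltGlueData

/-!
The instances of the gluing data.
-/

set_option autoImplicit false
set_option linter.unusedSectionVars false

namespace Cfsg.Agent.Lie.AltGlue

open Equiv Cfsg.Agent.Lie.Carmichael
open Cfsg.Agent.Lie.Pres (PresOn)

variable {p m : ℕ}

theorem ptI_mem_kept {i : Fin p} (h : m - p ≤ (i : ℕ)) : (ptI i : Pt (Fin p)) ∈ keptPts p m :=
  mem_keptPts.2 fun h' => absurd (mem_lowPts.1 h') (not_lt.2 h)

theorem ptU_kept : (ptU : Pt (Fin p)) ∈ keptPts p m := mem_keptPts.2 ptU_notMem_lowPts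
theorem ptV_kept : (ptV : Pt (Fin p)) ∈ keptPts p m := mem_keptPts.2 ptV_notMem_lowPts

/-- The cycle points: the two special points and an interval. -/
def jFun (a N : ℕ) (h : a + N ≤ p + 2) (t : Fin N) : Pt (Fin p) :=
  if h0 : (t : ℕ) = 0 then ptU else if h1 : (t : ℕ) = 1 then ptV
  else ptI ⟨a + (t - 2), by have := t.2; omega⟩

/-- The cycle points, as an embedding. -/
def jEmb (a N : ℕ) (h : a + N ≤ p + 2) : Fin N ↪ Pt (Fin p) :=
  ⟨jFun a N h, by
    intro s t hst
    unfold jFun at hst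
    split_ifs at hst with h1 h2 h3 h4 h5 h6 <;>
      first
      | exact Fin.ext (by omega)
      | (have := congrArg Fin.val (Option.some.inj (Option.some.inj hst)); simp only at this; exact Fin.ext (by omega))
      | exact absurd hst (by simp [ptU, ptV, ptI])⟩

theorem jEmb_apply {a N : ℕ} (h : a + N ≤ p + 2) (t : Fin N) : jEmb a N h t = jFun a N h t := rfl

theorem jEmb_zero {a N : ℕ} (h : a + N ≤ p + 2) (hN : 0 < N) : jEmb a N h ⟨0, hN⟩ = ptU := by
  rw [jEmb_apply, jFun, dif_pos rfl]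

theorem jEmb_one {a N : ℕ} (h : a + N ≤ p + 2) (hN : 1 < N) : jEmb a N h ⟨1, hN⟩ = ptV := by
  rw [jEmb_apply, jFun, dif_neg (by simp), dif_pos rfl]

theorem jEmb_notMem {a N : ℕ} (h : a + N ≤ p + 2) {i : Fin p} (hi : (i : ℕ) < a ∨ a + N ≤ (i : ℕ) + 2) :
    (ptI i : Pt (Fin p)) ∉ Set.range (jEmb a N h) := by
  rintro ⟨t, ht⟩
  have h2 := t.2
  rw [jEmb_apply] at ht
  unfold jFun at ht
  split_ifs at ht
  · exact absurd ht (by simp [ptU, ptI])
  · exact absurd ht (by simp [ptV, ptI])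
  · have := congrArg Fin.val (Option.some.inj (Option.some.inj ht))
    simp only at this
    omega

theorem jEmb_mem {a N : ℕ} (h : a + N ≤ p + 2) {i : Fin p} (h1 : a ≤ (i : ℕ)) (h2 : (i : ℕ) + 2 < a + N) :
    ∃ t, jEmb a N h t = ptI i := by
  refine ⟨⟨(i : ℕ) - a + 2, by omega⟩, ?_⟩
  rw [jEmb_apply, jFun, dif_neg (by simp), dif_neg (by simp)]
  exact congrArg ptI (Fin.ext (by simp only; omega))

theorem liftP_U {I : Type*} [DecidableEq I] [Fintype I] (σ : Perm I) : liftP σ ptU = (ptU : Pt I) := rfl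
theorem liftP_V {I : Type*} [DecidableEq I] [Fintype I] (σ : Perm I) : liftP σ ptV = (ptV : Pt I) := rfl
theorem liftP_I {I : Type*} [DecidableEq I] [Fintype I] (σ : Perm I) (i : I) : liftP σ (ptI i) = ptI (σ i) := rfl

theorem theta_fix {d : ℕ} {w : Bool} {y : Pt (Fin p)}
    (hy : ∀ i : Fin p, y = ptI i → (i : ℕ) ≠ d ∧ (i : ℕ) ≠ d + 1) : liftP (thetaI p d w) y = y := by
  obtain _ | _ | i := y
  · rfl
  · rfl
  · show ptI (thetaI p d w i) = ptI i
    rw [thetaI_fix (hy i rfl).1 (hy i rfl).2]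

theorem conjA_eq_of_fix {α : Type*} [DecidableEq α] [Fintype α] {θ : Perm α} {x : alternatingGroup α}
    (hx : ∀ y, θ y ≠ y → x.1 y = y) (hθ : θ * θ = 1) : conjA θ x = x := by
  refine Subtype.ext ?_
  rw [conjA_val, mul_inv_eq_iff_eq_mul]
  have h : Perm.Disjoint θ x.1 := fun y => (em (θ y = y)).imp id (hx y)
  exact h.commute.eq

/-- The block followed by further points. -/
def lowThen (hlt : p < m) (hle : m ≤ 2 * p) {s : ℕ} (g : Fin s → Pt (Fin p)) (t : Fin (m - p + s)) : Pt (Fin p) :=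
  if h : (t : ℕ) < m - p then ptI ⟨t, by omega⟩ else g ⟨t - (m - p), by have := t.2; omega⟩

/-- The block followed by further points, as an embedding. -/
def lowThenEmb (hlt : p < m) (hle : m ≤ 2 * p) {s : ℕ} (g : Fin s ↪ Pt (Fin p)) (hg : ∀ t, g t ∈ keptPts p m) :
    Fin (m - p + s) ↪ Pt (Fin p) :=
  ⟨lowThen hlt hle g, by
    intro t t' htt
    unfold lowThen at htt
    split_ifs at htt with h1 h2 h2
    · exact Fin.ext (congrArg (fun x : Fin p => (x : ℕ)) (Option.some.inj (Option.some.inj htt)))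
    · exact absurd (htt ▸ hg _) fun h' => mem_keptPts.1 h' (mem_lowPts.2 h1)
    · exact absurd (htt.symm ▸ hg _) fun h' => mem_keptPts.1 h' (mem_lowPts.2 h2)
    · have := congrArg Fin.val (g.injective htt); simp only at this; exact Fin.ext (by omega)⟩

theorem lowThen_mem (hlt : p < m) (hle : m ≤ 2 * p) {s : ℕ} (g : Fin s ↪ Pt (Fin p)) (t : Fin (m - p + s)) :
    lowThen hlt hle g t ∈ lowPts p m ∪ Finset.univ.image g := by
  unfold lowThen
  split_ifs with h
  · exact Finset.mem_union_left _ (mem_lowPts.2 h)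
  · exact Finset.mem_union_right _ (Finset.mem_image_of_mem _ (Finset.mem_univ _))

theorem lowThen_low (hlt : p < m) (hle : m ≤ 2 * p) {s : ℕ} (g : Fin s ↪ Pt (Fin p)) (i : Fin p) (hi : (i : ℕ) < m - p) :
    lowThen hlt hle g ⟨i, by omega⟩ = ptI i := by
  rw [lowThen, dif_pos hi]

theorem lowThen_top (hlt : p < m) (hle : m ≤ 2 * p) {s : ℕ} [NeZero s] (g : Fin s ↪ Pt (Fin p)) :
    lowThen hlt hle g ⟨m - p, by have := NeZero.ne s; omega⟩ = g 0 := by
  rw [lowThen, dif_neg (lt_irrefl _)]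
  exact congrArg g (Fin.ext (by simp))

/-- The commutation data from the points. -/
noncomputable def crossOf (hlt : p < m) (hle : m ≤ 2 * p) (w : Bool) (s : ℕ) [NeZero s] (hs : Odd (m - p + s))
    (g g' : Fin s ↪ Pt (Fin p)) (hg : ∀ t, g t ∈ keptPts p m ∧ liftP (thetaI p (m - p) w) (g t) = g t)
    (hg' : ∀ t, g' t ∈ keptPts p m ∧ liftP (thetaI p (m - p) w) (g' t) = g' t)
    (hdisj : ∀ t t', g t ≠ g' t') (a b : Pt (Fin p)) (hab : a ≠ b) (ha : a ∈ keptPts p m) (hb : b ∈ keptPts p m)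
    (hga : ∀ t, g t ≠ a) (hga' : ∀ t, g' t ≠ a) (hgb : ∀ t, g t ≠ b) (hgb' : ∀ t, g' t ≠ b) :
    CrossData (Pt (Fin p)) (liftP (thetaI p (m - p) w)) :=
  let θ := liftP (thetaI p (m - p) w)
  let e := lowThenEmb hlt hle g fun t => (hg t).1
  let e' := lowThenEmb hlt hle g' fun t => (hg' t).1
  { L := lowPts p m
    K := keptPts p m
    S := Finset.univ.image g
    S' := Finset.univ.image g'
    u := cycA e hs
    u' := cycA e' hs
    disj := Finset.disjoint_left.2 fun _ h h' => mem_keptPts.1 h' h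
    cover := fun x => Finset.mem_union.2 ((em (x ∈ lowPts p m)).imp id mem_keptPts.2)
    S_sub := fun x hx => by obtain ⟨t, _, rfl⟩ := Finset.mem_image.1 hx; exact (hg t).1
    S'_sub := fun x hx => by obtain ⟨t, _, rfl⟩ := Finset.mem_image.1 hx; exact (hg' t).1
    θ_K := fun x hx => by
      obtain _ | _ | i := x
      · exact hx
      · exact hx
      · exact ptI_mem_kept (thetaI_ge (not_lt.1 fun h => mem_keptPts.1 hx (mem_lowPts.2 h)))
    θ_L := fun x hx => theta_fix fun i hi => by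
      subst hi; have := mem_lowPts.1 hx; omega
    θ_S := fun x hx => by obtain ⟨t, _, rfl⟩ := Finset.mem_image.1 hx; exact (hg t).2
    avoid := fun x hx h => by
      obtain ⟨t, _, rfl⟩ := Finset.mem_image.1 hx
      obtain ⟨t', _, ht'⟩ := Finset.mem_image.1 h
      exact hdisj t t' ((hg t).2.symm.trans ht'.symm)
    u_supp := fun x hx => cycOn_fix _ (by rintro ⟨t, rfl⟩; exact hx (lowThen_mem hlt hle g t))
    u'_supp := fun x hx => cycOn_fix _ (by rintro ⟨t, rfl⟩; exact hx (lowThen_mem hlt hle g' t))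
    σ := g 0
    σ' := g' 0
    hσ := Finset.mem_image_of_mem _ (Finset.mem_univ _)
    hσ' := Finset.mem_image_of_mem _ (Finset.mem_univ _)
    u_orbit := fun l hl => by
      haveI : NeZero (m - p + s) := ⟨by have := NeZero.ne s; omega⟩
      obtain ⟨i, hi, rfl⟩ := Finset.mem_image.1 hl
      simp only [Finset.mem_filter, Finset.mem_univ, true_and] at hi
      obtain ⟨k, hk⟩ := cycOn_orbit e ⟨m - p, by have := NeZero.ne s; omega⟩ ⟨i, by omega⟩
      refine ⟨k, ?_⟩
      rw [← lowThen_top hlt hle g, ← lowThen_low hlt hle g i hi]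
      exact hk
    u'_orbit := fun l hl => by
      haveI : NeZero (m - p + s) := ⟨by have := NeZero.ne s; omega⟩
      obtain ⟨i, hi, rfl⟩ := Finset.mem_image.1 hl
      simp only [Finset.mem_filter, Finset.mem_univ, true_and] at hi
      obtain ⟨k, hk⟩ := cycOn_orbit e' ⟨m - p, by have := NeZero.ne s; omega⟩ ⟨i, by omega⟩
      refine ⟨k, ?_⟩
      rw [← lowThen_top hlt hle g', ← lowThen_low hlt hle g' i hi]
      exact hk
    a := a
    b := b
    hab := hab
    ha := ⟨ha, fun h => by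
      obtain ⟨t, _, ht⟩ := Finset.mem_image.1 h
      refine hga' t (θ.injective ?_)
      rw [(hg' t).2, ht], fun h => by obtain ⟨t, _, ht⟩ := Finset.mem_image.1 h; exact hga t ht⟩
    hb := ⟨hb, fun h => by
      obtain ⟨t, _, ht⟩ := Finset.mem_image.1 h
      refine hgb' t (θ.injective ?_)
      rw [(hg' t).2, ht], fun h => by obtain ⟨t, _, ht⟩ := Finset.mem_image.1 h; exact hgb t ht⟩
    a' := a
    b' := b
    hab' := hab
    ha' := ⟨ha, fun h => by obtain ⟨t, _, ht⟩ := Finset.mem_image.1 h; exact hga t ht,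
      fun h => by obtain ⟨t, _, ht⟩ := Finset.mem_image.1 h; exact hga' t ht⟩
    hb' := ⟨hb, fun h => by obtain ⟨t, _, ht⟩ := Finset.mem_image.1 h; exact hgb t ht,
      fun h => by obtain ⟨t, _, ht⟩ := Finset.mem_image.1 h; exact hgb' t ht⟩ }

/-- The requirements on the degree. -/
structure Range (p m : ℕ) : Prop where
  lt : p < m
  le : m ≤ 2 * p
  low : m + 3 ≤ 2 * p
  even : Even m → m + 4 ≤ 2 * p
  podd : Odd p

/-- The choice of commutation data for the two parities. -/
theorem exists_cross (R : Range p m) (w : Bool) :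
    ∃ cr : CrossData (Pt (Fin p)) (liftP (thetaI p (m - p) w)),
      cr.L = lowPts p m ∧ cr.K = keptPts p m ∧ ptU ∉ cr.S ∧ ptV ∉ cr.S ∧ (∃ s, ptI s ∈ cr.S) ∧
        3 ≤ cr.L.card + cr.S.card := by
  obtain ⟨hlt, hle, hlow, heven, hp⟩ := R
  have hinj : Function.Injective (ptI : Fin p → Pt (Fin p)) :=
    fun _ _ h => Option.some.inj (Option.some.inj h)
  have hLcard : (lowPts p m).card = m - p := by
    rw [lowPts, Finset.card_image_of_injective _ hinj, Fin.card_filter_val_lt]
    omega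
  rcases Nat.even_or_odd (m - p) with hd | hd
  · -- one point
    have h2 : 2 ≤ m - p := by obtain ⟨k, hk⟩ := hd; omega
    let g : Fin 1 ↪ Pt (Fin p) := ⟨fun _ => ptI ⟨p - 1, by omega⟩, fun a b _ => Subsingleton.elim a b⟩
    let g' : Fin 1 ↪ Pt (Fin p) := ⟨fun _ => ptU, fun a b _ => Subsingleton.elim a b⟩
    refine ⟨crossOf hlt hle w 1 (hd.add_odd odd_one) g g' (fun t => ⟨ptI_mem_kept (by simp; omega), ?_⟩)
      (fun t => ⟨ptU_kept, rfl⟩) (fun _ _ => by simp [g, g', ptI, ptU]) ptV (ptI ⟨m - p, by omega⟩)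
      (by simp [ptV, ptI]) ptV_kept (ptI_mem_kept le_rfl) (fun _ => by simp [g, ptI, ptV])
      (fun _ => by simp [g', ptU, ptV]) (fun _ => by simp [g, ptI]; omega) (fun _ => by simp [g', ptU, ptI]),
      rfl, rfl, ?_, ?_, ⟨⟨p - 1, by omega⟩, ?_⟩, ?_⟩
    · refine theta_fix fun i hi => ?_
      have := congrArg Fin.val (Option.some.inj (Option.some.inj hi))
      simp only at this
      omega
    · simp [crossOf, g, ptI, ptU]
    · simp [crossOf, g, ptI, ptV]
    · simp [crossOf, g]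
      rfl
    · simp only [crossOf, Finset.card_image_of_injective _ g.injective, Finset.card_univ, Fintype.card_fin, hLcard]
      omega
  · -- two points
    have hm : Even m := by
      rw [show m = m - p + p by omega]; exact hd.add_odd hp
    have h4 := heven hm
    let g : Fin 2 ↪ Pt (Fin p) := ⟨fun t => ptI ⟨p - 2 + t, by have := t.2; omega⟩, fun a b h => by
      have := congrArg Fin.val (Option.some.inj (Option.some.inj h)); simp only at this; exact Fin.ext (by omega)⟩
    let g' : Fin 2 ↪ Pt (Fin p) := ⟨![ptU, ptV], by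
      intro a b h; fin_cases a <;> fin_cases b <;> simp_all [ptU, ptV]⟩
    refine ⟨crossOf hlt hle w 2 (hd.add_even even_two) g g' (fun t => ⟨ptI_mem_kept (by simp; omega), ?_⟩)
      (fun t => by fin_cases t; exacts [⟨ptU_kept, rfl⟩, ⟨ptV_kept, rfl⟩])
      (fun _ t => by fin_cases t <;> simp [g, g', ptI, ptU, ptV])
      (ptI ⟨m - p, by omega⟩) (ptI ⟨m - p + 1, by omega⟩) (by simp [ptI]) (ptI_mem_kept le_rfl)
      (ptI_mem_kept (by simp)) (fun t => by simp [g, ptI]; omega) (fun t => by fin_cases t <;> simp [g', ptU, ptV, ptI])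
      (fun t => by simp [g, ptI]; omega) (fun t => by fin_cases t <;> simp [g', ptU, ptV, ptI]),
      rfl, rfl, ?_, ?_, ⟨⟨p - 2, by omega⟩, ?_⟩, ?_⟩
    · refine theta_fix fun i hi => ?_
      have := congrArg Fin.val (Option.some.inj (Option.some.inj hi))
      simp only at this
      omega
    · simp [crossOf, g, ptI, ptU]
    · simp [crossOf, g, ptI, ptV]
    · simp only [crossOf, Finset.mem_image, Finset.mem_univ, true_and]
      exact ⟨0, rfl⟩
    · simp only [crossOf, Finset.card_image_of_injective _ g.injective, Finset.card_univ, Fintype.card_fin, hLcard]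
      obtain ⟨k, hk⟩ := hd
      omega

end Cfsg.Agent.Lie.AltGlue
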