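import Cfsg.Agent.Lib.Lie.AltGlueInst

/-!
Presentations of the glued groups.
-/

set_option autoImplicit false
set_option linter.unusedSectionVars false

namespace Cfsg.Agent.Lie.AltGlue

open Equiv Cfsg.Agent.Lie.Carmichael
open Cfsg.Agent.Lie.Pres (PresOn)

variable {p m : ℕ}

/-- The periodic numbering of the cycle points. -/
noncomputable def perPts (a N : ℕ) [NeZero N] (h : a + N ≤ p + 2) (i : ℕ) : Pt (Fin p) :=
  jEmb a N h ⟨i % N, Nat.mod_lt _ (Nat.pos_of_ne_zero (NeZero.ne N))⟩

theorem perPts_step (a N : ℕ) [NeZero N] (h : a + N ≤ p + 2) (i : ℕ) :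
    cycOn (jEmb a N h) (perPts a N h i) = perPts a N h (i + 1) := by
  have e := cycOn_pow_apply (jEmb a N h) 1 ⟨i % N, Nat.mod_lt _ (Nat.pos_of_ne_zero (NeZero.ne N))⟩
  rw [pow_one, pow_one] at e
  rw [perPts, e]
  refine congrArg _ (Fin.ext ?_)
  have := finRotate_pow_val (N := N) 1 ⟨i % N, Nat.mod_lt _ (Nat.pos_of_ne_zero (NeZero.ne N))⟩
  rw [pow_one] at this
  rw [this]
  simp

theorem perPts_ne (a N : ℕ) [NeZero N] (h : a + N ≤ p + 2) (hN : 2 ≤ N) (i : ℕ) :
    perPts a N h (i + 1) ≠ perPts a N h i := by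
  intro e
  have h1 : (i + 1) ≡ i + 0 [MOD N] := congrArg Fin.val ((jEmb a N h).injective e)
  have h2 := Nat.ModEq.add_left_cancel' i h1
  rw [Nat.modEq_zero_iff_dvd, Nat.dvd_one] at h2
  omega

theorem perPts_zero (a N : ℕ) [NeZero N] (h : a + N ≤ p + 2) : perPts a N h 0 = ptU := by
  rw [perPts, ← jEmb_zero h (Nat.pos_of_ne_zero (NeZero.ne N))]
  exact congrArg _ (Fin.ext (Nat.zero_mod N))

theorem perPts_one (a N : ℕ) [NeZero N] (h : a + N ≤ p + 2) (hN : 2 ≤ N) : perPts a N h 1 = ptV := by
  rw [perPts, ← jEmb_one h hN]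
  exact congrArg _ (Fin.ext (Nat.mod_eq_of_lt hN))

theorem jEmb_mem_per (a N : ℕ) [NeZero N] (h : a + N ≤ p + 2) :
    ∀ y ∈ Finset.univ.image (jEmb a N h), ∃ i, perPts a N h i = y := fun y hy => by
  obtain ⟨t, _, rfl⟩ := Finset.mem_image.1 hy
  exact ⟨t, congrArg _ (Fin.ext (Nat.mod_eq_of_lt t.2))⟩

theorem inv_cyc3_apply {α : Type*} [DecidableEq α] {σ : Perm α} {x y : α} (h : σ x = y) : σ⁻¹ y = x :=
  (Equiv.symm_apply_eq σ).2 h.symm

/-- The closure used for the auxiliary word contains the involution. -/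
theorem delta_mem_letters (hlt : p < m) (hle : m ≤ 2 * p) (w : Bool) (hw : w = true ∨ 2 ≤ m - p)
    (hdk : m - p + 1 < p) (X : Data (frame hlt hle w)) (z : Fin p) (hz : (z : ℕ) = m - p)
    (hM : X.M = lowPts p m ∪ {ptI z, liftP (thetaI p (m - p) w) (ptI z)})
    (F : alternatingGroup (Pt (Fin m))) (hF : F.1 = liftP (frame hlt hle w).δI) :
    F ∈ Subgroup.closure (Set.range (letterVal X ((MonoidHom.id _).comp (frame hlt hle w).incl) F)) := by
  classical
  set θ := liftP (thetaI p (m - p) w) with hθ
  set H := (Subgroup.closure (Set.range (letterVal X ((MonoidHom.id _).comp (frame hlt hle w).incl) F))).map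
    (alternatingGroup (Pt (Fin m))).subtype with hH
  set E := ePt (Fin.castLEEmb hlt.le) with hE
  set δ := liftP (frame hlt hle w).δI with hδ
  have hδ2 : δ⁻¹ = δ := inv_eq_of_mul_eq_one_right (by rw [hδ, ← map_mul, frame_sq, map_one])
  have hvia : ∀ a b x, (cyc3 a b x).viaEmbedding E = cyc3 (E a) (E b) (E x) := fun a b x => by
    rw [cyc3, cyc3, ← Perm.viaEmbeddingHom_apply, map_mul, Perm.viaEmbeddingHom_apply, Perm.viaEmbeddingHom_apply,
      via_swap, via_swap]
  have hzM : (ptI z : Pt (Fin p)) ∈ X.M := by rw [hM]; simp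
  have hθzM : θ (ptI z) ∈ X.M := by rw [hM]; simp
  have hlM : ∀ i : Fin p, (i : ℕ) < m - p → (ptI i : Pt (Fin p)) ∈ X.M := fun i hi => by
    rw [hM]; exact Finset.mem_union_left _ (mem_lowPts.2 hi)
  have hd : 0 < m - p := by omega
  set o : Fin p := ⟨0, by omega⟩
  have hoz : (ptI o : Pt (Fin p)) ≠ ptI z := fun e => by
    have := congrArg Fin.val (Option.some.inj (Option.some.inj e)); simp only [o] at this; omega
  have hoM := hlM o hd
  have hEM : Full H (X.M.image E) := by
    refine full_of_star (a := E (ptI o)) (b := E (ptI z)) (fun e => hoz (E.injective e))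
      (Finset.mem_image_of_mem _ hoM) (Finset.mem_image_of_mem _ hzM) fun y hy h1 h2 => ?_
    obtain ⟨x, hx, rfl⟩ := Finset.mem_image.1 hy
    rw [← hvia]
    exact ⟨(frame hlt hle w).incl (cyc3A (ptI o) (ptI z) x hoz fun e => h1 (by rw [e])), Subgroup.subset_closure
      ⟨(false, ⟨cyc3A (ptI o) (ptI z) x hoz fun e => h1 (by rw [e]), fun y hy => cyc3_fix (fun e => hy (e ▸ hoM))
        (fun e => hy (e ▸ hzM)) (fun e => hy (e ▸ hx))⟩), rfl⟩, rfl⟩
  have hRM : Full H ((X.M.image E).image δ) := by
    refine full_of_star (a := δ (E (ptI o))) (b := δ (E (ptI z))) (fun e => hoz (E.injective (δ.injective e)))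
      (Finset.mem_image_of_mem _ (Finset.mem_image_of_mem _ hoM))
      (Finset.mem_image_of_mem _ (Finset.mem_image_of_mem _ hzM)) fun y hy h1 h2 => ?_
    obtain ⟨y', hy', rfl⟩ := Finset.mem_image.1 hy
    obtain ⟨x, hx, rfl⟩ := Finset.mem_image.1 hy'
    refine ⟨F * (frame hlt hle w).incl (cyc3A (ptI o) (ptI z) x hoz fun e => h1 (by rw [e])) * F, Subgroup.subset_closure
      ⟨(true, ⟨cyc3A (ptI o) (ptI z) x hoz fun e => h1 (by rw [e]), fun y hy => cyc3_fix (fun e => hy (e ▸ hoM))
        (fun e => hy (e ▸ hzM)) (fun e => hy (e ▸ hx))⟩), rfl⟩, ?_⟩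
    show F.1 * (cyc3 (ptI o) (ptI z) x).viaEmbedding E * F.1 = _
    rw [hvia, hF, ← conj_cyc3, hδ2]
  have hEθ : δ (E (ptI z)) = E (θ (ptI z)) := by
    show ptI ((frame hlt hle w).δI (Fin.castLEEmb hlt.le z)) = _
    rw [(frame hlt hle w).δ_mid z hz.ge]
    rfl
  have hall : Full H (X.M.image E ∪ (X.M.image E).image δ) := by
    rcases hw with hw | hd2
    · subst hw
      have hne : (ptI z : Pt (Fin p)) ≠ θ (ptI z) := by
        rw [hθ, liftP_I, thetaI_true hdk, show z = ⟨m - p, by omega⟩ from Fin.ext hz, swap_apply_left]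
        intro e
        have := congrArg Fin.val (Option.some.inj (Option.some.inj e))
        simp only at this
        omega
      refine hEM.union hRM (a := E (ptI z)) (b := E (θ (ptI z))) (fun e => hne (E.injective e))
        (Finset.mem_image_of_mem _ hzM) (Finset.mem_image_of_mem _ hθzM) ?_ ?_
      · refine Finset.mem_image.2 ⟨E (θ (ptI z)), Finset.mem_image_of_mem _ hθzM, ?_⟩
        rw [← hEθ, ← Perm.mul_apply, hδ, ← map_mul, frame_sq, map_one]
        rfl
      · exact Finset.mem_image.2 ⟨E (ptI z), Finset.mem_image_of_mem _ hzM, hEθ⟩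
    · by_cases hwz : θ (ptI z) = ptI z
      · set o' : Fin p := ⟨1, by omega⟩
        have ho'M := hlM o' (by show 1 < m - p; omega)
        have hδlow : ∀ i : Fin p, (i : ℕ) < m - p → δ (E (ptI i)) ∈ (X.M.image E).image δ := fun i hi =>
          Finset.mem_image_of_mem _ (Finset.mem_image_of_mem _ (hlM i hi))
        have hRne : ∀ (i : Fin p), (i : ℕ) < m - p → ∀ x : Pt (Fin p), δ (E (ptI i)) ≠ E x := by
          intro i hi x e
          obtain _ | _ | x := x
          · exact absurd e (by simp [δ, E, ePt, liftP, ptI])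
          · exact absurd e (by simp [δ, E, ePt, liftP, ptI])
          have h1 : (frame hlt hle w).δI (Fin.castLEEmb hlt.le i) = Fin.castLEEmb hlt.le x :=
            Option.some.inj (Option.some.inj e)
          have h2 : (x : ℕ) = i + p := (congrArg Fin.val h1).symm.trans ((frame hlt hle w).δ_lo i hi)
          have := x.2
          omega
        have hadd : ∀ i : Fin p, (i : ℕ) < m - p → Full H (X.M.image E ∪ {δ (E (ptI i))}) := by
          intro i hi
          obtain ⟨i', hi', hne⟩ : ∃ i' : Fin p, (i' : ℕ) < m - p ∧ i' ≠ i := by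
            by_cases h0 : (i : ℕ) = 0
            · exact ⟨o', by show 1 < m - p; omega, fun e => by
                have := congrArg Fin.val e; simp only [o'] at this; omega⟩
            · exact ⟨o, hd, fun e => by have := congrArg Fin.val e; simp only [o] at this; omega⟩
          have hzR : E (ptI z) = δ (E (ptI z)) := by rw [hEθ, hwz]
          have hn1 : E (ptI z) ≠ δ (E (ptI i)) := fun e => hRne i hi _ e.symm
          have hn3 : δ (E (ptI i)) ≠ δ (E (ptI i')) := fun e => hne (by
            have := E.injective (δ.injective e)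
            exact (Option.some.inj (Option.some.inj this)).symm)
          have hu : cyc3 (E (ptI z)) (δ (E (ptI i))) (δ (E (ptI i'))) ∈ H :=
            hRM.cyc3_mem (Finset.mem_image.2 ⟨E (ptI z), Finset.mem_image_of_mem _ hzM, hzR.symm⟩)
              (hδlow i hi) (hδlow i' hi') hn1 (fun e => hRne i' hi' _ e.symm)
          have hfix : ∀ l : Fin p, (l : ℕ) < m - p →
              cyc3 (E (ptI z)) (δ (E (ptI i))) (δ (E (ptI i'))) (E (ptI l)) = E (ptI l) := fun l hl =>
            cyc3_fix (fun e => by
              have := congrArg Fin.val (Option.some.inj (Option.some.inj (E.injective e)))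
              omega) (fun e => hRne i hi _ e.symm) (fun e => hRne i' hi' _ e.symm)
          refine hEM.grow hu (a := E (ptI o)) (b := E (ptI o')) (σ := E (ptI z)) ?_
            (Finset.mem_image_of_mem _ hoM) (Finset.mem_image_of_mem _ ho'M) (hfix o hd)
            (hfix o' (by show 1 < m - p; omega)) (Finset.mem_image_of_mem _ hzM) {δ (E (ptI i))} fun t ht => ?_
          · intro e
            have := congrArg Fin.val (Option.some.inj (Option.some.inj (E.injective e)))
            simp only [o, o'] at this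
            omega
          · refine ⟨1, ?_⟩
            rw [pow_one, Finset.mem_singleton.1 ht, cyc3_apply_left hn1 hn3]
        refine full_of_star (a := E (ptI o)) (b := E (ptI z)) (fun e => hoz (E.injective e))
          (Finset.mem_union_left _ (Finset.mem_image_of_mem _ hoM))
          (Finset.mem_union_left _ (Finset.mem_image_of_mem _ hzM)) fun y hy h1 h2 => ?_
        rcases Finset.mem_union.1 hy with hy | hy
        · exact hEM.cyc3_mem (Finset.mem_image_of_mem _ hoM) (Finset.mem_image_of_mem _ hzM) hy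
            (fun e => hoz (E.injective e)) (Ne.symm h1)
        obtain ⟨y, hy', rfl⟩ := Finset.mem_image.1 hy
        obtain ⟨x, hx, rfl⟩ := Finset.mem_image.1 hy'
        rw [hM, Finset.mem_union, Finset.mem_insert, Finset.mem_singleton, hwz, or_self] at hx
        rcases hx with hx | hx
        · rw [lowPts, Finset.mem_image] at hx
          obtain ⟨i, hi, rfl⟩ := hx
          simp only [Finset.mem_filter, Finset.mem_univ, true_and] at hi
          exact (hadd i hi).cyc3_mem (Finset.mem_union_left _ (Finset.mem_image_of_mem _ hoM))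
            (Finset.mem_union_left _ (Finset.mem_image_of_mem _ hzM))
            (Finset.mem_union_right _ (Finset.mem_singleton_self _)) (fun e => hoz (E.injective e)) (Ne.symm h1)
        · exact absurd (by rw [hx, hEθ, hwz]) h2
      · refine hEM.union hRM (a := E (ptI z)) (b := E (θ (ptI z))) (fun e => hwz (E.injective e).symm)
          (Finset.mem_image_of_mem _ hzM) (Finset.mem_image_of_mem _ hθzM) ?_ ?_
        · refine Finset.mem_image.2 ⟨E (θ (ptI z)), Finset.mem_image_of_mem _ hθzM, ?_⟩
          rw [← hEθ, ← Perm.mul_apply, hδ, ← map_mul, frame_sq, map_one]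
          rfl
        · exact Finset.mem_image.2 ⟨E (ptI z), Finset.mem_image_of_mem _ hzM, hEθ⟩
  have hmem : F.1 ∈ H := by
    refine hall F.1 (Perm.mem_alternatingGroup.1 F.2) fun y hy => ?_
    rw [hF]
    by_contra hne
    apply hy
    obtain _ | _ | i := y
    · exact absurd rfl hne
    · exact absurd rfl hne
    by_cases h1 : (i : ℕ) < m - p
    · exact Finset.mem_union_left _ (Finset.mem_image.2 ⟨ptI ⟨i, by omega⟩, hlM _ h1, rfl⟩)
    by_cases h2 : (i : ℕ) < p
    · have h3 : ¬ (thetaI p (m - p) w ⟨i, h2⟩) = ⟨i, h2⟩ := fun e => hne (by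
        show ptI ((frame hlt hle w).δI (Fin.castLEEmb hlt.le ⟨i, h2⟩)) = ptI i
        rw [(frame hlt hle w).δ_mid ⟨i, h2⟩ (not_lt.1 h1)]
        show ptI (Fin.castLEEmb hlt.le (thetaI p (m - p) w ⟨i, h2⟩)) = _
        rw [e]; rfl)
      refine Finset.mem_union_left _ (Finset.mem_image.2 ⟨ptI ⟨i, h2⟩, ?_, rfl⟩)
      rw [hM, Finset.mem_union, Finset.mem_insert, Finset.mem_singleton]
      refine Or.inr ?_
      by_cases hiz : (i : ℕ) = m - p
      · exact Or.inl (congrArg ptI (Fin.ext (hiz.trans hz.symm)))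
      by_cases hiz' : (i : ℕ) = m - p + 1
      · refine Or.inr ?_
        cases w
        · exact absurd (by rw [thetaI_false]; rfl) h3
        · rw [hθ, liftP_I, thetaI_true hdk, show z = ⟨m - p, by omega⟩ from Fin.ext hz, swap_apply_left]
          exact congrArg ptI (Fin.ext hiz')
      exact absurd (thetaI_fix (w := w) (i := (⟨i, h2⟩ : Fin p)) hiz hiz') h3
    · have hlo : (i : ℕ) - p < m - p := by have := i.2; omega
      refine Finset.mem_union_right _ (Finset.mem_image.2 ⟨E (ptI ⟨(i : ℕ) - p, by omega⟩),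
        Finset.mem_image_of_mem _ (hlM _ hlo), ?_⟩)
      show ptI ((frame hlt hle w).δI (Fin.castLEEmb hlt.le ⟨(i : ℕ) - p, _⟩)) = ptI i
      refine congrArg ptI (Fin.ext ?_)
      rw [(frame hlt hle w).δ_lo _ hlo]
      exact Nat.sub_add_cancel (not_lt.1 h2)
  exact hom_mem_map.1 hmem

/-- The alternating group of degree `m + 2`. -/
theorem alt_present (R : Range p m) {α : Type} {v : α → alternatingGroup (Pt (Fin p))} {r : ℕ}
    (hA : PresOn v r) : ∃ g : alternatingGroup (Pt (Fin m)),
      PresOn (Sum.elim (ext (Fin.castLEEmb R.lt.le) ∘ v) fun _ : Unit => g) (r + 3) := by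
  classical
  obtain ⟨hlt, hle, hlow, heven, hp⟩ := id R
  set d := m - p with hd
  -- the shape
  obtain ⟨w, a, hwa⟩ : ∃ (w : Bool) (a : ℕ), (Even d ∧ w = false ∧ a = d + 1) ∨ (Odd d ∧ w = true ∧ a = d + 2) := by
    rcases Nat.even_or_odd d with h | h
    · exact ⟨false, _, Or.inl ⟨h, rfl, rfl⟩⟩
    · exact ⟨true, _, Or.inr ⟨h, rfl, rfl⟩⟩
  have hk : d + 3 ≤ p ∧ (w = true → d + 4 ≤ p) := by
    refine ⟨by omega, fun hw => ?_⟩
    rcases hwa with ⟨_, h, _⟩ | ⟨h, _, _⟩
    · exact absurd (h.symm.trans hw) (by simp)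
    · have := heven (by rw [show m = d + p by omega]; exact h.add_odd hp)
      omega
  have had : d < a ∧ a + 2 ≤ p ∧ Odd (p + 1 - a) := by
    obtain ⟨q, hq⟩ := hp
    rcases hwa with ⟨⟨t, ht⟩, _, ha⟩ | ⟨⟨t, ht⟩, hw, ha⟩
    · exact ⟨by omega, by omega, ⟨q - t, by omega⟩⟩
    · have := hk.2 hw
      exact ⟨by omega, by omega, ⟨q - t - 1, by omega⟩⟩
  set N := p + 1 - a with hN
  haveI : NeZero N := ⟨by omega⟩
  have hN3 : 3 ≤ N := by obtain ⟨t, ht⟩ := had.2.2; omega
  have hJ : a + N ≤ p + 2 := by omega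
  set θ := liftP (thetaI p d w) with hθ
  set z : Pt (Fin p) := ptI ⟨d, by omega⟩ with hz
  set e : Pt (Fin p) := ptI ⟨p - 1, by omega⟩ with he
  set eJ := jEmb a N hJ with heJ
  have hzJ : z ∉ Set.range eJ := jEmb_notMem hJ (Or.inl had.1)
  have heJ' : e ∉ Set.range eJ := jEmb_notMem hJ (Or.inr (by show a + N ≤ p - 1 + 2; omega))
  have hez : e ≠ z := fun h => by
    have := congrArg Fin.val (Option.some.inj (Option.some.inj h)); simp only at this; omega
  have hUe : (ptU : Pt (Fin p)) ≠ e := by simp [e, ptU, ptI]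
  have hUz : (ptU : Pt (Fin p)) ≠ z := by simp [z, ptU, ptI]
  have hVe : (ptV : Pt (Fin p)) ≠ e := by simp [e, ptV, ptI]
  have hVz : (ptV : Pt (Fin p)) ≠ z := by simp [z, ptV, ptI]
  have hθz : θ z = z ∨ (w = true ∧ θ z = ptI ⟨d + 1, by omega⟩) := by
    rcases hwa with ⟨_, hw, _⟩ | ⟨_, hw, _⟩
    · left; simp only [hθ, hw, thetaI_false, map_one]; rfl
    · right
      refine ⟨hw, ?_⟩
      simp only [hθ, hz, hw, liftP_I, thetaI_true (show d + 1 < p by omega), swap_apply_left]
  have hθfix : ∀ y : Pt (Fin p), y ∈ Set.range eJ ∨ y = e → θ y = y := by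
    intro y hy
    cases w with
    | false => rw [hθ, thetaI_false, map_one]; rfl
    | true =>
      refine theta_fix fun i hi => ?_
      subst hi
      have ha : a = d + 2 := by
        rcases hwa with ⟨_, h, _⟩ | ⟨_, _, h⟩
        · exact absurd h (by simp)
        · exact h
      rcases hy with hy | hy
      · by_contra hc
        exact jEmb_notMem hJ (i := i) (Or.inl (by omega)) hy
      · have := congrArg Fin.val (Option.some.inj (Option.some.inj hy)); simp only at this
        have := hk.2 rfl; omega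
  have hcross := exists_cross R w
  obtain ⟨cr, hL, hK, hU, hV, ⟨s, hs⟩, hthree⟩ := hcross
  let X : Data (frame hlt hle w) :=
    { h := cycA eJ had.2.2
      c := (cyc3A ptU e z hUe hUz)⁻¹
      ord := N
      ord_odd := had.2.2
      h_pow := Subtype.ext (by rw [SubmonoidClass.coe_pow]; exact cycOn_pow eJ)
      h_θ := conjA_eq_of_fix (fun y hy => cycOn_fix _ fun h => hy (hθfix y (Or.inl h)))
        (by rw [← map_mul]; exact (congrArg liftP (thetaI_sq _ _ _)).trans (map_one _))
      h_supp := fun y hy => cycOn_fix _ fun h => by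
        rw [mem_keptPts, not_not, lowPts, Finset.mem_image] at hy
        obtain ⟨i, hi, rfl⟩ := hy
        simp only [Finset.mem_filter, Finset.mem_univ, true_and] at hi
        exact jEmb_notMem hJ (i := i) (Or.inl (by omega)) h
      c_supp := fun y hy => by
        refine inv_cyc3_apply (cyc3_fix (fun h => hy (h ▸ ptU_kept)) (fun h => hy (h ▸ ptI_mem_kept ?_))
          (fun h => hy (h ▸ ptI_mem_kept ?_))) <;> simp only <;> omega
      M := lowPts p m ∪ {z, θ z}
      M_θ := fun y hy => by
        simp only [Finset.mem_union, Finset.mem_insert, Finset.mem_singleton] at hy ⊢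
        rcases hy with hy | hy | hy
        · refine Or.inl ?_
          show liftP (thetaI p d w) y ∈ _
          rw [show liftP (thetaI p d w) y = y from theta_fix fun i hi => by
            subst hi; have := mem_lowPts.1 hy; omega]
          exact hy
        · exact Or.inr (Or.inr (by rw [hy]; rfl))
        · refine Or.inr (Or.inl ?_)
          rw [hy, ← Perm.mul_apply]
          show (liftP (thetaI p d w) * liftP (thetaI p d w)) z = z
          rw [← map_mul, thetaI_sq, map_one]; rfl
      h_M := fun y hy => cycOn_fix _ fun h => by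
        simp only [Finset.mem_union, Finset.mem_insert, Finset.mem_singleton] at hy
        rcases hy with hy | hy | hy
        · rw [lowPts, Finset.mem_image] at hy
          obtain ⟨i, hi, rfl⟩ := hy
          simp only [Finset.mem_filter, Finset.mem_univ, true_and] at hi
          exact jEmb_notMem hJ (i := i) (Or.inl (by omega)) h
        · exact hzJ (hy ▸ h)
        · exact hzJ (θ.injective (hθfix y (Or.inl h) ▸ hy) ▸ h)
      cr := cr
      cr_L := hL
      cr_K := hK
      cr_U := hU
      cr_V := hV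
      s := s
      hs := hs
      three := hthree
      expo := 1
      gen := by
        intro C hh hθC hconj _
        change (cycA eJ had.2.2).1 ∈ C at hh
        have hhM : ∀ y ∈ lowPts p m ∪ {z, θ z}, (cycA eJ had.2.2).1 y = y := fun y hy => cycOn_fix _ fun h => by
          simp only [Finset.mem_union, Finset.mem_insert, Finset.mem_singleton] at hy
          rcases hy with hy | hy | hy
          · rw [lowPts, Finset.mem_image] at hy
            obtain ⟨i, hi, rfl⟩ := hy
            simp only [Finset.mem_filter, Finset.mem_univ, true_and] at hi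
            exact jEmb_notMem hJ (i := i) (Or.inl (by omega)) h
          · exact hzJ (hy ▸ h)
          · exact hzJ (θ.injective (hθfix y (Or.inl h) ▸ hy) ▸ h)
        have hθθ : θ * θ = 1 := by rw [hθ, ← map_mul, thetaI_sq, map_one]
        have h1 := hconj (cycA eJ had.2.2) hh hhM
          (conjA_eq_of_fix (fun y hy => cycOn_fix _ fun h => hy (hθfix y (Or.inl h))) hθθ)
        rw [inv_inv] at h1
        have ht : cyc3 (perPts a N hJ 1) (perPts a N hJ 0) e ∈ C := by
          have h2 := mul_mem h1 (inv_mem hh)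
          rw [perPts_one a N hJ (by omega), perPts_zero]
          have e1 : cycOn eJ ptU = ptV := by
            have := perPts_step a N hJ 0
            rwa [perPts_zero, perPts_one a N hJ (by omega)] at this
          rw [← cyc3_switch (show (ptU : Pt (Fin p)) ≠ ptV by simp [ptU, ptV]) hUe hUz hVe hVz hez, ← e1]
          conv => enter [2, 2, 1]; rw [← cycOn_fix eJ heJ', ← cycOn_fix eJ hzJ, ← conj_cyc3]
          convert h2 using 1
          show _ = cyc3 ptU e z * cycOn eJ * (cyc3 ptU e z)⁻¹ * (cycOn eJ)⁻¹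
          group
        have hfull1 := full_cycle hh (perPts_step a N hJ) (cycOn_fix eJ heJ')
          (fun i h => heJ' ⟨_, h⟩) (perPts_ne a N hJ (by omega)) ht _ (jEmb_mem_per a N hJ)
        set x2 := eJ ⟨2, by omega⟩ with hx2
        have hVJ : (ptV : Pt (Fin p)) = eJ ⟨1, by omega⟩ := (jEmb_one hJ (by omega)).symm
        have hVx : (ptV : Pt (Fin p)) ≠ x2 := fun h => by
          have := congrArg Fin.val (eJ.injective (hVJ.symm.trans h)); simp at this
        have hUx : (ptU : Pt (Fin p)) ≠ x2 := fun h => by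
          have := congrArg Fin.val (eJ.injective ((jEmb_zero hJ (by omega)).trans h)); simp at this
        have hex : e ≠ x2 := fun h => heJ' ⟨_, h.symm⟩
        have hzx : z ≠ x2 := fun h => hzJ ⟨_, h.symm⟩
        have hxC : cyc3 e ptV x2 ∈ C := hfull1.cyc3_mem (Finset.mem_insert_self _ _)
          (Finset.mem_insert_of_mem (Finset.mem_image.2 ⟨_, Finset.mem_univ _, hVJ.symm⟩))
          (Finset.mem_insert_of_mem (Finset.mem_image_of_mem _ (Finset.mem_univ _))) hVe.symm hex
        have hθx : θ x2 = x2 := hθfix _ (Or.inl ⟨_, rfl⟩)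
        have h3 := hconj (cyc3A e ptV x2 hVe.symm hex) hxC (fun y hy => by
          simp only [Finset.mem_union, Finset.mem_insert, Finset.mem_singleton] at hy
          refine cyc3_fix ?_ ?_ ?_ <;> intro hye <;> subst hye
          · rcases hy with hy | hy | hy
            · exact mem_keptPts.1 (ptI_mem_kept (by simp only; omega)) hy
            · exact hez hy
            · exact hez (θ.injective ((hθfix _ (Or.inr rfl)).trans hy))
          · rcases hy with hy | hy | hy
            · exact ptV_notMem_lowPts hy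
            · exact hVz hy
            · exact hVz (θ.injective ((show θ ptV = ptV from rfl).trans hy))
          · rcases hy with hy | hy | hy
            · rw [lowPts, Finset.mem_image] at hy
              obtain ⟨i, hi, hiy⟩ := hy
              simp only [Finset.mem_filter, Finset.mem_univ, true_and] at hi
              exact jEmb_notMem hJ (i := i) (Or.inl (by omega)) ⟨_, hiy.symm⟩
            · exact hzx hy.symm
            · exact hzx (θ.injective (hθx.trans hy)).symm)
          (conjA_eq_of_fix (fun y hy => cyc3_fix (fun h => hy (by rw [h]; exact hθfix _ (Or.inr rfl)))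
            (fun h => hy (by rw [h]; rfl)) (fun h => hy (by rw [h]; exact hθx))) hθθ)
        rw [inv_inv] at h3
        have hz3 : cyc3 z ptV x2 ∈ C := by
          have h4 : cyc3 ptU e z * cyc3 e ptV x2 * (cyc3 ptU e z)⁻¹ ∈ C := h3
          rwa [conj_cyc3, cyc3_apply_mid, cyc3_fix (show (ptV : Pt (Fin p)) ≠ ptU by simp [ptU, ptV]) hVe hVz,
            cyc3_fix hUx.symm hex.symm hzx.symm] at h4
        have hmemV : (ptV : Pt (Fin p)) ∈ insert e (Finset.univ.image eJ) :=
          Finset.mem_insert_of_mem (Finset.mem_image.2 ⟨_, Finset.mem_univ _, hVJ.symm⟩)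
        have hmemx : x2 ∈ insert e (Finset.univ.image eJ) :=
          Finset.mem_insert_of_mem (Finset.mem_image_of_mem _ (Finset.mem_univ _))
        have hfull2 := hfull1.union (full_triple hVz.symm hz3) hVx hmemV hmemx (by simp) (by simp)
        have hθz3 : cyc3 (θ z) ptV x2 ∈ C := by
          have h4 : θ * cyc3 z ptV x2 * θ⁻¹ ∈ C := hθC (cyc3A z ptV x2 hVz.symm hzx) hz3
          rwa [conj_cyc3, show θ ptV = ptV from rfl, hθx] at h4
        have hfull3 := hfull2.union (full_triple
          (fun h => hVz (θ.injective ((show θ ptV = ptV from rfl).trans h.symm))) hθz3) hVx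
          (Finset.mem_union_left _ hmemV) (Finset.mem_union_left _ hmemx) (by simp) (by simp)
        refine hfull3.mono fun y hy => ?_
        simp only [Finset.mem_union, Finset.mem_insert, Finset.mem_singleton, Finset.mem_image, Finset.mem_univ,
          true_and]
        obtain _ | _ | i := y
        · exact Or.inl (Or.inl (Or.inr ⟨⟨0, by omega⟩, jEmb_zero hJ _⟩))
        · exact Or.inl (Or.inl (Or.inr ⟨⟨1, by omega⟩, jEmb_one hJ (by omega)⟩))
        have hi : d ≤ (i : ℕ) := not_lt.1 fun h => mem_keptPts.1 hy (mem_lowPts.2 h)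
        by_cases hid : (i : ℕ) = d
        · exact Or.inl (Or.inr (Or.inl (congrArg ptI (Fin.ext hid))))
        by_cases hie : (i : ℕ) = p - 1
        · exact Or.inl (Or.inl (Or.inl (congrArg ptI (Fin.ext hie))))
        by_cases hia : a ≤ (i : ℕ)
        · exact Or.inl (Or.inl (Or.inr (jEmb_mem hJ hia (by have := i.2; omega))))
        · rcases hwa with ⟨_, _, ha⟩ | ⟨_, hw, ha⟩
          · omega
          · refine Or.inr (Or.inl ?_)
            simp only [hz, hθ, liftP_I, hw, thetaI_true (show d + 1 < p by omega), swap_apply_left]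
            exact congrArg ptI (Fin.ext (show (i : ℕ) = d + 1 by omega)) }
  have hsq : liftP (frame hlt hle w).δI * liftP (frame hlt hle w).δI = 1 := by
    rw [← map_mul, frame_sq, map_one]
  have heven' : liftP (frame hlt hle w).δI ∈ alternatingGroup (Pt (Fin m)) := by
    rw [Perm.mem_alternatingGroup, liftP_sign, frame_sign hlt hle w (fun _ => by omega)]
    rcases hwa with ⟨h, hw, _⟩ | ⟨h, hw, _⟩ <;> rw [hw]
    · exact h.neg_one_pow
    · exact h.add_one.neg_one_pow
  let F : alternatingGroup (Pt (Fin m)) := ⟨_, heven'⟩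
  refine ⟨F * MonoidHom.id _ ((frame hlt hle w).incl X.h),
    X.present (MonoidHom.id _) Function.injective_id F (Subtype.ext hsq) (fun x => ?_) ?_
    (Or.inr ⟨rfl, ?_⟩) hA⟩
  · refine Subtype.ext ?_
    show liftP _ * x.1 * liftP _ = liftP _ * x.1 * (liftP (frame hlt hle w).δI)⁻¹
    rw [inv_eq_of_mul_eq_one_right hsq]
  · rw [MonoidHom.range_eq_top.2 Function.surjective_id, top_sup_eq]
  · refine delta_mem_letters hlt hle w ?_ (by omega) X ⟨d, by omega⟩ rfl rfl F rfl
    rcases hwa with ⟨⟨t, ht⟩, _, _⟩ | ⟨_, hw, _⟩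
    · exact Or.inr (by omega)
    · exact Or.inl hw

/-- The symmetric group of degree `m + 2`. -/
theorem sym_present (R : Range p m) {α : Type} {v : α → alternatingGroup (Pt (Fin p))} {r : ℕ}
    (hA : PresOn v r) : ∃ g : Perm (Pt (Fin m)),
      PresOn (Sum.elim ((alternatingGroup (Pt (Fin m))).subtype ∘ ext (Fin.castLEEmb R.lt.le) ∘ v)
        fun _ : Unit => g) (r + 3) := by
  classical
  obtain ⟨hlt, hle, hlow, heven, hp⟩ := id R
  set d := m - p with hd
  obtain ⟨w, a, N, en, hwa⟩ : ∃ (w : Bool) (a N en : ℕ), (Even d ∧ w = true ∧ a = d + 2 ∧ en = d ∧ N = p - d) ∨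
      (Odd d ∧ w = false ∧ a = d ∧ en = p - 1 ∧ N = p + 1 - d) := by
    rcases Nat.even_or_odd d with h | h
    · exact ⟨true, _, _, _, Or.inl ⟨h, rfl, rfl, rfl, rfl⟩⟩
    · exact ⟨false, _, _, _, Or.inr ⟨h, rfl, rfl, rfl, rfl⟩⟩
  have hNodd : Odd N ∧ a + N ≤ p + 2 ∧ 3 ≤ N ∧ d ≤ a ∧ d ≤ en ∧ en < p ∧
      (en < a ∨ a + N ≤ en + 2) := by
    obtain ⟨q, hq⟩ := hp
    rcases hwa with ⟨⟨t, ht⟩, _, ha, hen, hN⟩ | ⟨⟨t, ht⟩, _, ha, hen, hN⟩
    · exact ⟨⟨q - t, by omega⟩, by omega, by omega, by omega, by omega, by omega, Or.inl (by omega)⟩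
    · exact ⟨⟨q - t, by omega⟩, by omega, by omega, by omega, by omega, by omega, Or.inr (by omega)⟩
  obtain ⟨hodd, hJ, hN3, hda, hde, henp, henJ⟩ := hNodd
  haveI : NeZero N := ⟨by omega⟩
  set θ := liftP (thetaI p d w) with hθ
  set e : Pt (Fin p) := ptI ⟨en, henp⟩ with he
  set eJ := jEmb a N hJ with heJ
  have heJ' : e ∉ Set.range eJ := jEmb_notMem hJ henJ
  have hθfix : ∀ y : Pt (Fin p), y ∈ Set.range eJ → θ y = y := by
    intro y hy
    rcases hwa with ⟨_, _, ha, _, _⟩ | ⟨_, hw, _, _, _⟩
    · refine theta_fix fun i hi => ?_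
      subst hi
      by_contra hc
      exact jEmb_notMem hJ (i := i) (Or.inl (by omega)) hy
    · rw [hθ, hw, thetaI_false, map_one]; rfl
  have hlowJ : ∀ y ∉ keptPts p m, y ∉ Set.range eJ := fun y hy h => by
    rw [mem_keptPts, not_not, lowPts, Finset.mem_image] at hy
    obtain ⟨i, hi, rfl⟩ := hy
    simp only [Finset.mem_filter, Finset.mem_univ, true_and] at hi
    exact jEmb_notMem hJ (i := i) (Or.inl (by omega)) h
  have hVU : (ptV : Pt (Fin p)) ≠ ptU := by simp [ptU, ptV]
  have hVe : (ptV : Pt (Fin p)) ≠ e := by simp [e, ptV, ptI]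
  obtain ⟨cr, hL, hK, hU, hV, ⟨s, hs⟩, hthree⟩ := exists_cross R w
  let X : Data (frame hlt hle w) :=
    { h := cycA eJ hodd
      c := cyc3A ptV ptU e hVU hVe
      ord := N
      ord_odd := hodd
      h_pow := Subtype.ext (by rw [SubmonoidClass.coe_pow]; exact cycOn_pow eJ)
      h_θ := conjA_eq_of_fix (fun y hy => cycOn_fix _ fun h => hy (hθfix y h))
        (by rw [← map_mul]; exact (congrArg liftP (thetaI_sq _ _ _)).trans (map_one _))
      h_supp := fun y hy => cycOn_fix _ (hlowJ y hy)
      c_supp := fun y hy => cyc3_fix (fun h => hy (h ▸ ptV_kept)) (fun h => hy (h ▸ ptU_kept))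
        (fun h => hy (h ▸ ptI_mem_kept hde))
      M := ∅
      M_θ := fun y hy => absurd hy (Finset.notMem_empty y)
      h_M := fun y hy => absurd hy (Finset.notMem_empty y)
      cr := cr
      cr_L := hL
      cr_K := hK
      cr_U := hU
      cr_V := hV
      s := s
      hs := hs
      three := hthree
      expo := 0
      gen := by
        intro C hh hθC _ hc
        have hc' := hc rfl
        have ht : cyc3 (perPts a N hJ 1) (perPts a N hJ 0) e ∈ C := by
          rw [perPts_one a N hJ (by omega), perPts_zero]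
          exact hc'
        have hfull1 := full_cycle hh (perPts_step a N hJ) (cycOn_fix eJ heJ')
          (fun i h => heJ' ⟨_, h⟩) (perPts_ne a N hJ (by omega)) ht _ (jEmb_mem_per a N hJ)
        have hmemU : (ptU : Pt (Fin p)) ∈ insert e (Finset.univ.image eJ) :=
          Finset.mem_insert_of_mem (Finset.mem_image.2 ⟨⟨0, by omega⟩, Finset.mem_univ _, jEmb_zero hJ _⟩)
        have hmemV : (ptV : Pt (Fin p)) ∈ insert e (Finset.univ.image eJ) :=
          Finset.mem_insert_of_mem (Finset.mem_image.2 ⟨⟨1, by omega⟩, Finset.mem_univ _, jEmb_one hJ (by omega)⟩)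
        have hθe : cyc3 ptV ptU (θ e) ∈ C := by
          have h4 : θ * cyc3 ptV ptU e * θ⁻¹ ∈ C := hθC (cyc3A ptV ptU e hVU hVe) hc'
          rwa [conj_cyc3, show θ ptV = ptV from rfl, show θ ptU = ptU from rfl] at h4
        have hfull2 := hfull1.union (full_triple hVU hθe) hVU hmemV hmemU (by simp) (by simp)
        refine hfull2.mono fun y hy => ?_
        simp only [Finset.mem_union, Finset.mem_insert, Finset.mem_singleton, Finset.mem_image, Finset.mem_univ,
          true_and]
        obtain _ | _ | i := y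
        · exact Or.inl (Or.inr ⟨⟨0, by omega⟩, jEmb_zero hJ _⟩)
        · exact Or.inl (Or.inr ⟨⟨1, by omega⟩, jEmb_one hJ (by omega)⟩)
        have hi : d ≤ (i : ℕ) := not_lt.1 fun h => mem_keptPts.1 hy (mem_lowPts.2 h)
        by_cases hie : (i : ℕ) = en
        · exact Or.inl (Or.inl (congrArg ptI (Fin.ext hie)))
        have := i.2
        rcases hwa with ⟨_, hw, ha, hen, hN⟩ | ⟨_, _, ha, hen, hN⟩
        · by_cases hia : a ≤ (i : ℕ)
          · exact Or.inl (Or.inr (jEmb_mem hJ hia (by omega)))
          · refine Or.inr (Or.inr (Or.inr ?_))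
            simp only [he, hθ, liftP_I, hw, thetaI_true (show d + 1 < p by omega),
              show (⟨en, henp⟩ : Fin p) = ⟨d, by omega⟩ from Fin.ext hen, swap_apply_left]
            exact congrArg ptI (Fin.ext (show (i : ℕ) = d + 1 by omega))
        · exact Or.inl (Or.inr (jEmb_mem hJ (by omega) (by omega))) }
  have hsq : liftP (frame hlt hle w).δI * liftP (frame hlt hle w).δI = 1 := by
    rw [← map_mul, frame_sq, map_one]
  have hodd' : Perm.sign (liftP (frame hlt hle w).δI) = -1 := by
    rw [liftP_sign, frame_sign hlt hle w (fun _ => by omega)]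
    rcases hwa with ⟨h, hw, _⟩ | ⟨h, hw, _⟩ <;> rw [hw]
    · exact h.add_one.neg_one_pow
    · exact h.neg_one_pow
  refine ⟨liftP (frame hlt hle w).δI * (alternatingGroup (Pt (Fin m))).subtype ((frame hlt hle w).incl X.h),
    X.present (alternatingGroup (Pt (Fin m))).subtype (Subgroup.subtype_injective _) _ hsq (fun x => ?_) ?_
    (Or.inl ⟨rfl, ?_⟩) hA⟩
  · show liftP _ * x.1 * liftP _ = liftP _ * x.1 * (liftP (frame hlt hle w).δI)⁻¹
    rw [inv_eq_of_mul_eq_one_right hsq]
  · rw [Subgroup.range_subtype, eq_top_iff]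
    intro σ _
    rcases Int.units_eq_one_or (Perm.sign σ) with hσ | hσ
    · exact Subgroup.mem_sup_left (Perm.mem_alternatingGroup.2 hσ)
    · have h1 : σ * liftP (frame hlt hle w).δI ∈ alternatingGroup (Pt (Fin m)) := by
        rw [Perm.mem_alternatingGroup, map_mul, hσ, hodd']; rfl
      have h2 := mul_mem (Subgroup.mem_sup_left (T := Subgroup.closure {liftP (frame hlt hle w).δI}) h1)
        (Subgroup.mem_sup_right (Subgroup.subset_closure rfl))
      rwa [mul_assoc, hsq, mul_one] at h2
  · rw [Subgroup.range_subtype, Perm.mem_alternatingGroup, hodd']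
    decide

end Cfsg.Agent.Lie.AltGlue
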