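import Mathlib

/-!
Presentations on prescribed generators with a bounded number of relations.
-/

set_option autoImplicit false

namespace Cfsg.Agent.Lie.Pres

universe u w

/-- The generators `v` of `H` satisfy a set of at most `r` relations which defines `H`. -/
def PresOn {α : Type} {H : Type u} [Group H] (v : α → H) (r : ℕ) : Prop :=
  ∃ R : Finset (FreeGroup α), R.card ≤ r ∧
    ∃ e : PresentedGroup (R : Set (FreeGroup α)) ≃* H, ∀ a, e (PresentedGroup.of a) = v a

variable {α : Type} {H : Type u} [Group H] {v : α → H} {r : ℕ}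

theorem PresOn.mono {r' : ℕ} (h : PresOn v r) (hr : r ≤ r') : PresOn v r' := by
  obtain ⟨R, hR, e⟩ := h
  exact ⟨R, hR.trans hr, e⟩

theorem PresOn.congr {H' : Type w} [Group H'] (h : PresOn v r) (f : H ≃* H') :
    PresOn (fun a => f (v a)) r := by
  obtain ⟨R, hR, e, he⟩ := h
  exact ⟨R, hR, e.trans f, fun a => by simp [he]⟩

theorem PresOn.of_eq {v' : α → H} (h : PresOn v r) (hv : ∀ a, v a = v' a) : PresOn v' r := by
  rwa [funext hv] at h

/-- A presentation from explicit relations. -/
theorem presOn_of_rels (v : α → H) (hgen : Function.Surjective (FreeGroup.lift v))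
    (L : List (FreeGroup α)) (hL : ∀ x ∈ L, FreeGroup.lift v x = 1)
    (h : ∀ (G : Type) [Group G] (f : FreeGroup α →* G) (π : G →* H), Function.Surjective f →
      π.comp f = FreeGroup.lift v → (∀ x ∈ L, f x = 1) → Function.Injective π) :
    PresOn v L.length := by
  classical
  refine ⟨L.toFinset, List.toFinset_card_le _, ?_⟩
  have hv : ∀ x ∈ (L.toFinset : Set (FreeGroup α)), FreeGroup.lift v x = 1 := fun x hx =>
    hL x (List.mem_toFinset.1 (Finset.mem_coe.1 hx))
  have hc : (PresentedGroup.toGroup hv).comp (PresentedGroup.mk _) = FreeGroup.lift v :=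
    FreeGroup.ext_hom _ _ fun a => by simp; exact PresentedGroup.toGroup.of hv
  refine ⟨MulEquiv.ofBijective (PresentedGroup.toGroup hv) ⟨h _ (PresentedGroup.mk _) _
    (PresentedGroup.mk_surjective _) hc fun x hx =>
      PresentedGroup.one_of_mem (Finset.mem_coe.2 (List.mem_toFinset.2 hx)), fun y => ?_⟩,
    fun a => PresentedGroup.toGroup.of hv⟩
  obtain ⟨z, rfl⟩ := hgen y
  exact ⟨PresentedGroup.mk _ z, DFunLike.congr_fun hc z⟩

theorem PresOn.surjective (h : PresOn v r) : Function.Surjective (FreeGroup.lift v) := by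
  obtain ⟨R, _, e, he⟩ := h
  intro y
  obtain ⟨z, hz⟩ := PresentedGroup.mk_surjective _ (e.symm y)
  refine ⟨z, ?_⟩
  have : e.toMonoidHom.comp (PresentedGroup.mk (R : Set (FreeGroup α))) = FreeGroup.lift v :=
    FreeGroup.ext_hom _ _ fun a => by simp; exact he a
  rw [← this, MonoidHom.comp_apply, hz]
  simp

/-- The universal property. -/
theorem PresOn.lifts (h : PresOn v r) :
    ∃ L : List (FreeGroup α), L.length ≤ r ∧ (∀ x ∈ L, FreeGroup.lift v x = 1) ∧
      ∀ (G : Type) [Group G] (f : FreeGroup α →* G), (∀ x ∈ L, f x = 1) →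
        ∃ ι : H →* G, ι.comp (FreeGroup.lift v) = f := by
  classical
  obtain ⟨R, hR, e, he⟩ := h
  have hc : e.toMonoidHom.comp (PresentedGroup.mk (R : Set (FreeGroup α))) = FreeGroup.lift v :=
    FreeGroup.ext_hom _ _ fun a => by simp; exact he a
  refine ⟨R.toList, by simpa using hR, fun x hx => ?_, fun G _ f hf => ?_⟩
  · rw [← hc, MonoidHom.comp_apply, PresentedGroup.one_of_mem (Finset.mem_coe.2 (Finset.mem_toList.1 hx)),
      map_one]
  · have hl : FreeGroup.lift (fun a => f (FreeGroup.of a)) = f := FreeGroup.ext_hom _ _ fun a => by simp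
    have hr : ∀ x ∈ (R : Set (FreeGroup α)), FreeGroup.lift (fun a => f (FreeGroup.of a)) x = 1 :=
      fun x hx => by rw [hl]; exact hf x (Finset.mem_toList.2 (Finset.mem_coe.1 hx))
    refine ⟨(PresentedGroup.toGroup hr).comp e.symm.toMonoidHom, FreeGroup.ext_hom _ _ fun a => ?_⟩
    simp only [MonoidHom.comp_apply, FreeGroup.lift_apply_of, MulEquiv.toMonoidHom_eq_coe, MonoidHom.coe_coe,
      ← he a, MulEquiv.symm_apply_apply]
    exact PresentedGroup.toGroup.of hr

/-- The images of the old generators determine the homomorphism. -/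
theorem PresOn.hom_ext (h : PresOn v r) {M : Type*} [Monoid M] {f g : H →* M}
    (hfg : ∀ a, f (v a) = g (v a)) : f = g := by
  refine MonoidHom.ext fun y => ?_
  obtain ⟨z, rfl⟩ := h.surjective y
  exact DFunLike.congr_fun (FreeGroup.ext_hom (f.comp (FreeGroup.lift v)) (g.comp (FreeGroup.lift v))
    fun a => by simpa using hfg a) z

/-- Adding generators: `T` is generated by an image of `H` and further elements, subject to the
further relations `L`. -/
theorem PresOn.extend {β : Type} {T : Type w} [Group T] (h : PresOn v r) (i : H →* T) (t : β → T)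
    (hgen : i.range ⊔ Subgroup.closure (Set.range t) = ⊤)
    (L : List (FreeGroup (α ⊕ β)))
    (hL : ∀ x ∈ L, FreeGroup.lift (Sum.elim (i ∘ v) t) x = 1)
    (hinj : ∀ (G : Type) [Group G] (f : FreeGroup (α ⊕ β) →* G) (ι : H →* G) (π : G →* T),
      ι.range ⊔ Subgroup.closure (Set.range fun b => f (FreeGroup.of (Sum.inr b))) = ⊤ →
      (∀ z, f (FreeGroup.map Sum.inl z) = ι (FreeGroup.lift v z)) →
      π.comp ι = i → (∀ b, π (f (FreeGroup.of (Sum.inr b))) = t b) → (∀ x ∈ L, f x = 1) →
      Function.Injective π) :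
    PresOn (Sum.elim (i ∘ v) t) (r + L.length) := by
  classical
  obtain ⟨L0, hlen, h0, huniv⟩ := h.lifts
  have hmap : (FreeGroup.lift (Sum.elim (i ∘ v) t)).comp (FreeGroup.map Sum.inl) =
      i.comp (FreeGroup.lift v) := FreeGroup.ext_hom _ _ fun a => by simp
  refine (presOn_of_rels _ ?_ (L0.map (FreeGroup.map Sum.inl) ++ L) ?_ ?_).mono (by simp; omega)
  · rw [← MonoidHom.range_eq_top, FreeGroup.range_lift_eq_closure, eq_top_iff, ← hgen, Set.Sum.elim_range,
      Subgroup.closure_union]
    refine sup_le_sup ?_ le_rfl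
    rintro _ ⟨y, rfl⟩
    obtain ⟨z, rfl⟩ := h.surjective y
    have : (i.comp (FreeGroup.lift v)).range ≤ Subgroup.closure (Set.range (i ∘ v)) := by
      rw [show i.comp (FreeGroup.lift v) = FreeGroup.lift (i ∘ v) from FreeGroup.ext_hom _ _ fun a => by simp,
        FreeGroup.range_lift_eq_closure]
    exact this ⟨z, rfl⟩
  · intro x hx
    rcases List.mem_append.1 hx with hx | hx
    · obtain ⟨y, hy, rfl⟩ := List.mem_map.1 hx
      rw [← MonoidHom.comp_apply, hmap, MonoidHom.comp_apply, h0 y hy, map_one]
    · exact hL x hx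
  · intro G _ f π hf hπ hall
    obtain ⟨ι, hι⟩ := huniv G (f.comp (FreeGroup.map Sum.inl)) fun x hx =>
      hall _ (List.mem_append_left _ (List.mem_map.2 ⟨x, hx, rfl⟩))
    refine hinj G f ι π ?_ (fun z => (DFunLike.congr_fun hι z).symm) ?_ (fun b => ?_)
      fun x hx => hall x (List.mem_append_right _ hx)
    · rw [eq_top_iff]
      rintro y -
      obtain ⟨z, rfl⟩ := hf y
      induction z using FreeGroup.induction_on with
      | C1 => rw [map_one]; exact one_mem _
      | of a =>
        rcases a with a | b
        · exact Subgroup.mem_sup_left ⟨v a, by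
            simpa [MonoidHom.comp_apply] using DFunLike.congr_fun hι (FreeGroup.of a)⟩
        · exact Subgroup.mem_sup_right (Subgroup.subset_closure ⟨b, rfl⟩)
      | inv_of a ha => rw [map_inv]; exact inv_mem ha
      | mul x y hx hy => rw [map_mul]; exact mul_mem hx hy
    · refine h.hom_ext fun a => ?_
      have e1 : ι (v a) = f (FreeGroup.of (Sum.inl a)) := by
        simpa using DFunLike.congr_fun hι (FreeGroup.of a)
      rw [MonoidHom.comp_apply, e1, ← MonoidHom.comp_apply, hπ]
      simp
    · rw [← MonoidHom.comp_apply, hπ]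
      simp

/-- Renaming the generators. -/
theorem PresOn.reindex {β : Type} (h : PresOn v r) (ε : β ≃ α) : PresOn (fun b => v (ε b)) r := by
  classical
  obtain ⟨L, hlen, h0, huniv⟩ := h.lifts
  have hc : (FreeGroup.lift fun b => v (ε b)).comp (FreeGroup.map ε.symm) = FreeGroup.lift v :=
    FreeGroup.ext_hom _ _ fun a => by simp
  refine (presOn_of_rels _ ?_ (L.map (FreeGroup.map ε.symm)) ?_ ?_).mono (by simpa using hlen)
  · intro y
    obtain ⟨z, rfl⟩ := h.surjective y
    exact ⟨_, DFunLike.congr_fun hc z⟩
  · intro x hx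
    obtain ⟨y, hy, rfl⟩ := List.mem_map.1 hx
    rw [← MonoidHom.comp_apply, hc, h0 y hy]
  · intro G _ f π hf hπ hall x y hxy
    obtain ⟨ι, hι⟩ := huniv G (f.comp (FreeGroup.map ε.symm)) fun z hz =>
      hall _ (List.mem_map.2 ⟨z, hz, rfl⟩)
    have hid : ι.comp π = MonoidHom.id G := by
      have : (ι.comp π).comp f = f := FreeGroup.ext_hom _ _ fun b => by
        rw [MonoidHom.comp_assoc, hπ]
        simpa using DFunLike.congr_fun hι (FreeGroup.of (ε b))
      refine MonoidHom.ext fun z => ?_
      obtain ⟨z, rfl⟩ := hf z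
      exact DFunLike.congr_fun this z
    rw [← MonoidHom.id_apply G x, ← MonoidHom.id_apply G y, ← hid, MonoidHom.comp_apply, hxy,
      MonoidHom.comp_apply]

/-- Changing generators: old generators are the words `W` in the new ones, the new generators are
the words `V` in the old ones. One relation is needed for each new generator that the round
trip moves. -/
theorem PresOn.change {β : Type} [Fintype β] {w : β → H} (h : PresOn v r)
    (W : α → FreeGroup β) (V : β → FreeGroup α) (hW : ∀ a, FreeGroup.lift w (W a) = v a)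
    (hV : ∀ b, FreeGroup.lift v (V b) = w b) (k : ℕ)
    (hk : ∀ [DecidableEq β], (Finset.univ.filter fun b => FreeGroup.lift W (V b) ≠ FreeGroup.of b).card ≤ k) :
    PresOn w (r + k) := by
  classical
  obtain ⟨L, hlen, h0, huniv⟩ := h.lifts
  have hWv : (FreeGroup.lift w).comp (FreeGroup.lift W) = FreeGroup.lift v :=
    FreeGroup.ext_hom _ _ fun a => by simp [hW]
  let Bd := Finset.univ.filter fun b => FreeGroup.lift W (V b) ≠ FreeGroup.of b
  refine (presOn_of_rels w ?_ (L.map (FreeGroup.lift W) ++
    Bd.toList.map fun b => FreeGroup.lift W (V b) * (FreeGroup.of b)⁻¹) ?_ ?_).mono ?_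
  · intro y
    obtain ⟨z, rfl⟩ := h.surjective y
    exact ⟨_, DFunLike.congr_fun hWv z⟩
  · intro x hx
    rcases List.mem_append.1 hx with hx | hx
    · obtain ⟨y, hy, rfl⟩ := List.mem_map.1 hx
      rw [← MonoidHom.comp_apply, hWv, h0 y hy]
    · obtain ⟨b, _, rfl⟩ := List.mem_map.1 hx
      rw [map_mul, ← MonoidHom.comp_apply (FreeGroup.lift w), hWv, hV]
      simp
  · intro G _ f π hf hπ hall x y hxy
    obtain ⟨ι, hι⟩ := huniv G (f.comp (FreeGroup.lift W)) fun z hz =>
      hall _ (List.mem_append_left _ (List.mem_map.2 ⟨z, hz, rfl⟩))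
    have hid : ι.comp π = MonoidHom.id G := by
      have : (ι.comp π).comp f = f := FreeGroup.ext_hom _ _ fun b => by
        rw [MonoidHom.comp_assoc, hπ, MonoidHom.comp_apply, FreeGroup.lift_apply_of, ← hV b,
          ← MonoidHom.comp_apply ι, hι, MonoidHom.comp_apply]
        by_cases hb : FreeGroup.lift W (V b) = FreeGroup.of b
        · rw [hb]
        · have := hall (FreeGroup.lift W (V b) * (FreeGroup.of b)⁻¹) (List.mem_append_right _
            (List.mem_map.2 ⟨b, Finset.mem_toList.2 (by simp [Bd, hb]), rfl⟩))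
          rwa [map_mul, map_inv, mul_inv_eq_one] at this
      refine MonoidHom.ext fun z => ?_
      obtain ⟨z, rfl⟩ := hf z
      exact DFunLike.congr_fun this z
    rw [← MonoidHom.id_apply G x, ← MonoidHom.id_apply G y, ← hid, MonoidHom.comp_apply, hxy,
      MonoidHom.comp_apply]
  · simp only [List.length_append, List.length_map, Finset.length_toList]
    exact Nat.add_le_add hlen hk

/-- Any generating family costs one relation for each of its members. -/
theorem PresOn.any_gens {β : Type} [Fintype β] {w : β → H} (h : PresOn v r)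
    (hw : Subgroup.closure (Set.range w) = ⊤) : PresOn w (r + Fintype.card β) := by
  have hs : Function.Surjective (FreeGroup.lift w) := by
    rw [← MonoidHom.range_eq_top, FreeGroup.range_lift_eq_closure, hw]
  choose W hW using fun a => hs (v a)
  choose V hV using fun b => h.surjective (w b)
  exact h.change W V hW hV _ (Finset.card_filter_le _ _)

/-- A generating pair containing an old generator costs one relation. -/
theorem PresOn.keep_one (h : PresOn v r) (a₀ : α) (y : H)
    (hw : Subgroup.closure ({v a₀, y} : Set H) = ⊤) : PresOn ![v a₀, y] (r + 1) := by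
  classical
  have hs : Function.Surjective (FreeGroup.lift ![v a₀, y]) := by
    rw [← MonoidHom.range_eq_top, FreeGroup.range_lift_eq_closure, ← hw]
    simp [Set.pair_comm]
  choose W hW using fun a => hs (v a)
  obtain ⟨Vy, hVy⟩ := h.surjective y
  refine h.change (Function.update W a₀ (FreeGroup.of 0)) ![FreeGroup.of a₀, Vy] (fun a => ?_)
    (fun b => ?_) 1 ?_
  · rcases eq_or_ne a a₀ with rfl | ha
    · simp
    · rw [Function.update_of_ne ha, hW]
  · fin_cases b <;> simp [hVy]
  · intro _
    refine Finset.card_le_one.2 fun b hb b' hb' => ?_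
    simp only [Finset.mem_filter] at hb hb'
    fin_cases b <;> fin_cases b' <;> simp_all

/-- An extension of index two. -/
theorem PresOn.index_two {α' : Type} [Fintype α'] {v' : α' → H} {T : Type w} [Group T] (h : PresOn v' r)
    (i : H →* T) (hi : Function.Injective i) (hindex : i.range.index = 2) (t : T) (ht : t ∉ i.range) :
    PresOn (Sum.elim (i ∘ v') fun _ : Unit => t) (r + (Fintype.card α' + 1)) := by
  classical
  have hn : i.range.Normal := Subgroup.normal_of_index_eq_two hindex
  have hsq : t * t ∈ i.range := Subgroup.mul_self_mem_of_index_two hindex t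
  obtain ⟨s, hs⟩ := hsq
  choose c hc using fun a : α' => hn.conj_mem (i (v' a)) ⟨v' a, rfl⟩ t
  choose wc hwc using fun a => h.surjective (c a)
  obtain ⟨ws, hws⟩ := h.surjective s
  let inA : FreeGroup α' →* FreeGroup (α' ⊕ Unit) := FreeGroup.map Sum.inl
  let t' : FreeGroup (α' ⊕ Unit) := FreeGroup.of (Sum.inr ())
  have hin : ∀ z, FreeGroup.lift (Sum.elim (i ∘ v') fun _ : Unit => t) (inA z) = i (FreeGroup.lift v' z) :=
    fun z => DFunLike.congr_fun (FreeGroup.ext_hom ((FreeGroup.lift _).comp inA) (i.comp (FreeGroup.lift v'))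
      fun a => by simp [inA]) z
  refine (h.extend i (fun _ : Unit => t) ?_ (t' * t' * (inA ws)⁻¹ ::
    Finset.univ.toList.map fun a => t' * FreeGroup.of (Sum.inl a) * t'⁻¹ * (inA (wc a))⁻¹) ?_ ?_).mono
    (by simp)
  · refine eq_top_iff.2 fun y _ => ?_
    by_cases hy : y ∈ i.range
    · exact Subgroup.mem_sup_left hy
    · have : t⁻¹ * y ∈ i.range := (Subgroup.mul_mem_iff_of_index_two hindex).2 (by simp [ht, hy])
      rw [← mul_inv_cancel_left t y]
      exact mul_mem (Subgroup.mem_sup_right (Subgroup.subset_closure ⟨(), rfl⟩)) (Subgroup.mem_sup_left this)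
  · intro x hx
    simp only [List.mem_cons, List.mem_map] at hx
    rcases hx with rfl | ⟨a, _, rfl⟩
    · simp [t', hin, hws, hs]
    · simp [t', hin, hwc, hc]
  · intro G _ f ι π htop hf hπι hπt hall
    set g := f t' with hg
    have h1 : g * g ∈ ι.range := by
      have := hall _ (List.mem_cons_self ..)
      rw [map_mul, map_mul, map_inv, mul_inv_eq_one, hf] at this
      exact ⟨_, this.symm⟩
    have h2 : ∀ y ∈ ι.range, g * y * g⁻¹ ∈ ι.range := by
      rintro _ ⟨z, rfl⟩
      obtain ⟨z, rfl⟩ := h.surjective z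
      induction z using FreeGroup.induction_on with
      | C1 => simp
      | of a =>
        have := hall (t' * FreeGroup.of (Sum.inl a) * t'⁻¹ * (inA (wc a))⁻¹)
          (List.mem_cons_of_mem _ (List.mem_map.2 ⟨a, Finset.mem_toList.2 (Finset.mem_univ _), rfl⟩))
        simp only [map_mul, map_inv, mul_inv_eq_one] at this
        rw [← hf, FreeGroup.map.of, hg, this, hf]
        exact ⟨_, rfl⟩
      | inv_of a ha => rw [map_inv, map_inv, ← conj_inv]; exact inv_mem ha
      | mul x y hx hy => rw [map_mul, map_mul, ← conj_mul]; exact mul_mem hx hy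
    have hcl : ∀ y : G, y ∈ ι.range ∨ g⁻¹ * y ∈ ι.range := by
      intro y
      have hy : y ∈ ι.range ⊔ Subgroup.closure (Set.range fun b : Unit => f (FreeGroup.of (Sum.inr b))) :=
        htop ▸ Subgroup.mem_top y
      rw [Set.range_unique, ← Subgroup.closure_eq ι.range, ← Subgroup.closure_union] at hy
      have hg1 : g⁻¹ * g⁻¹ ∈ ι.range := by simpa using inv_mem h1
      have h2' : ∀ y ∈ ι.range, g⁻¹ * y * g ∈ ι.range := fun y hy => by
        have := mul_mem (mul_mem hg1 (h2 y hy)) h1
        simpa [mul_assoc] using this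
      induction hy using Subgroup.closure_induction with
      | mem x hx =>
        rcases hx with hx | hx
        · exact Or.inl hx
        · rw [Set.mem_singleton_iff] at hx; exact Or.inr (by rw [hx]; simp [hg, t'])
      | one => exact Or.inl (one_mem _)
      | mul a b _ _ ha hb =>
        rcases ha with ha | ha <;> rcases hb with hb | hb
        · exact Or.inl (mul_mem ha hb)
        · exact Or.inr (by simpa [mul_assoc] using mul_mem (h2' a ha) hb)
        · exact Or.inr (by simpa [mul_assoc] using mul_mem ha hb)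
        · refine Or.inl ?_
          have := mul_mem (mul_mem (h2 _ ha) h1) hb
          simpa [mul_assoc] using this
      | inv a _ ha =>
        rcases ha with ha | ha
        · exact Or.inl (inv_mem ha)
        · refine Or.inr ?_
          have := mul_mem hg1 (h2 _ (inv_mem ha))
          simpa [mul_assoc] using this
    rw [injective_iff_map_eq_one]
    intro y hy
    rcases hcl y with ⟨z, rfl⟩ | ⟨z, hz⟩
    · rw [← MonoidHom.comp_apply, hπι] at hy
      rw [hi (hy.trans (map_one i).symm), map_one]
    · exfalso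
      refine ht ?_
      have := congrArg π hz
      rw [← MonoidHom.comp_apply, hπι, map_mul, map_inv, hy, mul_one, show π g = t from hπt ()] at this
      rw [← inv_mem_iff, ← this]
      exact ⟨z, rfl⟩

end Cfsg.Agent.Lie.Pres
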