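import Cfsg.Agent.Lib.Lie.AltGlueCross
import Cfsg.Agent.Lib.Lie.PresOn

/-!
Three relations glue a presentation of a small alternating group to one of a larger group.
-/

set_option autoImplicit false
set_option linter.unusedSectionVars false

namespace Cfsg.Agent.Lie.AltGlue

open Equiv Cfsg.Agent.Lie.Carmichael
open Cfsg.Agent.Lie.Pres (PresOn)

variable {p m : ℕ}

/-- The points moved off the block. -/
def lowPts (p m : ℕ) : Finset (Pt (Fin p)) :=
  (Finset.univ.filter fun i : Fin p => (i : ℕ) < m - p).image ptI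

theorem mem_lowPts {i : Fin p} : (ptI i : Pt (Fin p)) ∈ lowPts p m ↔ (i : ℕ) < m - p := by
  simp [lowPts, ptI]

theorem ptU_notMem_lowPts : (ptU : Pt (Fin p)) ∉ lowPts p m := by simp [lowPts, ptU, ptI]
theorem ptV_notMem_lowPts : (ptV : Pt (Fin p)) ∉ lowPts p m := by simp [lowPts, ptV, ptI]

/-- The points of the block kept by the involution. -/
def keptPts (p m : ℕ) : Finset (Pt (Fin p)) := Finset.univ \ lowPts p m

theorem mem_keptPts {y : Pt (Fin p)} : y ∈ keptPts p m ↔ y ∉ lowPts p m := by simp [keptPts]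

/-- What the relations use. -/
structure Data (D : Frame p m) where
  h : alternatingGroup (Pt (Fin p))
  c : alternatingGroup (Pt (Fin p))
  ord : ℕ
  ord_odd : Odd ord
  h_pow : h ^ ord = 1
  h_θ : conjA (liftP D.θI) h = h
  h_supp : ∀ y ∉ keptPts p m, h.1 y = y
  c_supp : ∀ y ∉ keptPts p m, c.1 y = y
  M : Finset (Pt (Fin p))
  M_θ : ∀ y ∈ M, liftP D.θI y ∈ M
  h_M : ∀ y ∈ M, h.1 y = y
  cr : CrossData (Pt (Fin p)) (liftP D.θI)
  cr_L : cr.L = lowPts p m
  cr_K : cr.K = keptPts p m
  cr_U : ptU ∉ cr.S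
  cr_V : ptV ∉ cr.S
  s : Fin p
  hs : ptI s ∈ cr.S
  three : 3 ≤ cr.L.card + cr.S.card
  expo : ℕ
  gen : ∀ C : Subgroup (Perm (Pt (Fin p))), h.1 ∈ C →
    (∀ x : alternatingGroup (Pt (Fin p)), x.1 ∈ C → (conjA (liftP D.θI) x).1 ∈ C) →
    (∀ x : alternatingGroup (Pt (Fin p)), x.1 ∈ C → (∀ y ∈ M, x.1 y = y) → conjA (liftP D.θI) x = x →
      (c⁻¹ * x * c).1 ∈ C) → (expo = 0 → c.1 ∈ C) → Full C (keptPts p m)

variable {D : Frame p m}

/-- The letters of the auxiliary word. -/
abbrev Letter (X : Data D) : Type := Bool × {q : alternatingGroup (Pt (Fin p)) // ∀ y ∉ X.M, q.1 y = y}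

/-- Their values. -/
noncomputable def letterVal (X : Data D) {G : Type*} [Group G] (ι : alternatingGroup (Pt (Fin p)) →* G) (f : G) :
    Letter X → G := fun l => if l.1 then f * ι l.2.1 * f else ι l.2.1

set_option maxHeartbeats 800000 in
/-- The presentation of the larger group. -/
theorem Data.present (X : Data D) {T : Type*} [Group T] (j : alternatingGroup (Pt (Fin m)) →* T)
    (hj : Function.Injective j) (F : T) (hF : F * F = 1)
    (hFj : ∀ x, F * j x * F = j (conjA (liftP D.δI) x))
    (hgenT : j.range ⊔ Subgroup.closure {F} = ⊤)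
    (hmode : (X.expo = 0 ∧ F ∉ j.range) ∨ (X.expo = 1 ∧ F ∈ Subgroup.closure (Set.range (letterVal X (j.comp D.incl) F))))
    {α : Type} {v : α → alternatingGroup (Pt (Fin p))} {r : ℕ} (hA : PresOn v r) :
    PresOn (Sum.elim ((j.comp D.incl) ∘ v) fun _ : Unit => F * j (D.incl X.h)) (r + 3) := by
  classical
  set i0 := j.comp D.incl
  set θ := liftP D.θI
  have hθ : θ * θ = 1 := by rw [← map_mul, D.θ_sq, map_one]
  have hle := D.le
  have hlt := D.lt
  -- the involution on the block
  have hFi : ∀ x : alternatingGroup (Pt (Fin p)), (∀ y ∉ keptPts p m, x.1 y = y) →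
      F * i0 x * F = i0 (conjA θ x) := by
    intro x hx
    have hFF : F⁻¹ = F := inv_eq_of_mul_eq_one_right hF
    have key : Full (agree θ i0 F) (keptPts p m) := by
      refine full_of_star (a := ptU) (b := ptV) (by simp [ptU, ptV]) (mem_keptPts.2 ptU_notMem_lowPts)
        (mem_keptPts.2 ptV_notMem_lowPts) fun y hy h1 h2 => ?_
      obtain _ | _ | i := y
      · exact absurd rfl h1
      · exact absurd rfl h2
      have hi : m - p ≤ (i : ℕ) := not_lt.1 fun h => mem_keptPts.1 hy (mem_lowPts.2 h)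
      refine (mem_agree (x := cyc i) θ i0 F).2 ?_
      rw [hFF, MonoidHom.comp_apply, D.incl_cyc, hFj, conjA_cyc, conjA_cyc, MonoidHom.comp_apply, D.incl_cyc,
        D.δ_mid i hi]
    have := (mem_agree θ i0 F).1 (key x.1 (Perm.mem_alternatingGroup.1 x.2) hx)
    rwa [hFF] at this
  choose wd hwd using hA.surjective
  let inA : FreeGroup α →* FreeGroup (α ⊕ Unit) := FreeGroup.map Sum.inl
  let g0 : FreeGroup (α ⊕ Unit) := FreeGroup.of (Sum.inr ())
  let f0 : FreeGroup (α ⊕ Unit) := g0 * (inA (wd X.h))⁻¹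
  let let0 : Letter X → FreeGroup (α ⊕ Unit) := fun l =>
    if l.1 then f0 * inA (wd l.2.1) * f0 else inA (wd l.2.1)
  obtain ⟨ω, hω⟩ : ∃ ω : FreeGroup (Letter X), FreeGroup.lift (letterVal X i0 F) ω = F ^ X.expo ∧
      (X.expo = 0 → ω = 1) := by
    rcases hmode with ⟨h0, _⟩ | ⟨h1, hmem⟩
    · exact ⟨1, by rw [h0, pow_zero, map_one], fun _ => rfl⟩
    · rw [← FreeGroup.range_lift_eq_closure] at hmem
      obtain ⟨ω, hω⟩ := hmem
      exact ⟨ω, by rw [h1, pow_one, hω], fun h => absurd (h.symm.trans h1) zero_ne_one⟩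
  let W0 : FreeGroup (α ⊕ Unit) := FreeGroup.lift let0 ω * f0 ^ X.expo
  let v' := Sum.elim (i0 ∘ v) fun _ : Unit => F * i0 X.h
  have hin : ∀ q, FreeGroup.lift v' (inA (wd q)) = i0 q := fun q => by
    rw [← MonoidHom.comp_apply (FreeGroup.lift v'), show (FreeGroup.lift v').comp inA = i0.comp (FreeGroup.lift v)
      from FreeGroup.ext_hom _ _ fun a => by simp [v', inA], MonoidHom.comp_apply, hwd]
  have hg0 : FreeGroup.lift v' g0 = F * i0 X.h := by simp [v', g0]
  have hf0 : FreeGroup.lift v' f0 = F := by rw [map_mul, map_inv, hg0, hin, mul_inv_cancel_right]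
  have hW0 : FreeGroup.lift v' W0 = 1 := by
    rw [map_mul, map_pow, hf0, ← MonoidHom.comp_apply (FreeGroup.lift v'), show (FreeGroup.lift v').comp
      (FreeGroup.lift let0) = FreeGroup.lift (letterVal X i0 F) from FreeGroup.ext_hom _ _ fun l => by
        simp only [MonoidHom.comp_apply, FreeGroup.lift_apply_of, let0, letterVal]
        split_ifs <;> simp only [map_mul, hf0, hin], hω.1, ← pow_add, ← two_mul, pow_mul, pow_two, hF, one_pow]
  have hFh : Commute F (i0 X.h) := by
    have := hFi _ X.h_supp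
    rw [X.h_θ] at this
    show F * i0 X.h = i0 X.h * F
    calc F * i0 X.h = F * i0 X.h * (F * F) := by rw [hF, mul_one]
      _ = _ := by rw [← mul_assoc, this]
  refine hA.extend i0 (fun _ : Unit => F * i0 X.h) ?_
    [g0 * g0 * (inA (wd X.h) * inA (wd X.h))⁻¹,
     f0 * inA (wd X.c) * f0⁻¹ * (W0 * inA (wd (conjA θ X.c)))⁻¹,
     inA (wd X.cr.u) * (f0 * inA (wd X.cr.u') * f0⁻¹) * (inA (wd X.cr.u))⁻¹ * (f0 * inA (wd X.cr.u') * f0⁻¹)⁻¹] ?_ ?_
  · rw [eq_top_iff, ← hgenT, sup_le_iff]
    have hFmem : F ∈ i0.range ⊔ Subgroup.closure (Set.range fun _ : Unit => F * i0 X.h) := by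
      have h2 : F * i0 X.h * (i0 X.h)⁻¹ ∈
          i0.range ⊔ Subgroup.closure (Set.range fun _ : Unit => F * i0 X.h) :=
        mul_mem (Subgroup.mem_sup_right (Subgroup.subset_closure ⟨(), rfl⟩))
          (inv_mem (Subgroup.mem_sup_left ⟨_, rfl⟩))
      rwa [mul_inv_cancel_right] at h2
    refine ⟨?_, (Subgroup.closure_le _).2 (Set.singleton_subset_iff.2 hFmem)⟩
    rw [range_eq, Subgroup.closure_le]
    rintro _ ⟨i, rfl⟩
    by_cases hi : (i : ℕ) < p
    · exact Subgroup.mem_sup_left ⟨cyc ⟨i, hi⟩, by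
        show j (D.incl _) = _
        rw [D.incl_cyc]; rfl⟩
    · have e : F * i0 (cyc ⟨i - p, by have := i.2; omega⟩) * F = j (cyc i) := by
        rw [MonoidHom.comp_apply, D.incl_cyc, hFj, conjA_cyc]
        congr 2
        refine Fin.ext ?_
        rw [D.δ_lo _ (by have := i.2; show (i : ℕ) - p < m - p; omega)]
        show (i : ℕ) - p + p = i
        omega
      show j (cyc i) ∈ _
      rw [← e]
      exact mul_mem (mul_mem hFmem (Subgroup.mem_sup_left ⟨_, rfl⟩)) hFmem
  · intro x hx
    simp only [List.mem_cons, List.not_mem_nil, or_false] at hx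
    have hFinv : F⁻¹ = F := inv_eq_of_mul_eq_one_right hF
    rcases hx with rfl | rfl | rfl
    · simp only [map_mul, map_inv]
      rw [show FreeGroup.lift (Sum.elim (i0 ∘ v) fun _ : Unit => F * i0 X.h) = FreeGroup.lift v' from rfl,
        hg0, hin, mul_inv_eq_one, show F * i0 X.h * (F * i0 X.h) = F * (i0 X.h * F) * i0 X.h by group,
        ← hFh.eq, ← mul_assoc F, hF, one_mul]
    · simp only [map_mul, map_inv]
      rw [show FreeGroup.lift (Sum.elim (i0 ∘ v) fun _ : Unit => F * i0 X.h) = FreeGroup.lift v' from rfl,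
        hf0, hin, hin, hW0, one_mul, mul_inv_eq_one, hFinv]
      exact hFi _ X.c_supp
    · simp only [map_mul, map_inv]
      rw [show FreeGroup.lift (Sum.elim (i0 ∘ v) fun _ : Unit => F * i0 X.h) = FreeGroup.lift v' from rfl,
        hf0, hin, hin, hFinv]
      rw [mul_inv_eq_one, mul_inv_eq_iff_eq_mul, show F * i0 X.cr.u' * F = j (conjA (liftP D.δI) (D.incl X.cr.u'))
        from hFj _]
      show j (D.incl X.cr.u) * _ = _ * j (D.incl X.cr.u)
      rw [← map_mul, ← map_mul]
      congr 1
      refine Subtype.ext (Perm.Disjoint.commute (fun y => ?_)).eq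
      have hδ : ∀ z, liftP D.δI (liftP D.δI z) = z → (conjA (liftP D.δI) (D.incl X.cr.u')).1 z =
          liftP D.δI ((D.incl X.cr.u').1 (liftP D.δI z)) := fun z hz => by
        rw [conjA_val, Perm.mul_apply, Perm.mul_apply, show (liftP D.δI)⁻¹ z = liftP D.δI z from
          (Equiv.symm_apply_eq _).2 hz.symm]
      by_cases hy : y ∈ Set.range (ePt (Fin.castLEEmb D.lt.le))
      · obtain ⟨x, rfl⟩ := hy
        by_cases hx : x ∈ X.cr.L ∪ X.cr.S
        · refine Or.inr ?_
          rcases Finset.mem_union.1 hx with hx | hx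
          · rw [X.cr_L, lowPts, Finset.mem_image] at hx
            obtain ⟨i, hi, rfl⟩ := hx
            simp only [Finset.mem_filter, Finset.mem_univ, true_and] at hi
            have hlo := D.δ_lo i hi
            have hback : D.δI (D.δI (Fin.castLEEmb D.lt.le i)) = Fin.castLEEmb D.lt.le i := Fin.ext (by
              rw [D.δ_hi _ (by rw [hlo]; omega), hlo]
              show (i : ℕ) + p - p = i
              omega)
            have hz : liftP D.δI (liftP D.δI (ePt (Fin.castLEEmb D.lt.le) (ptI i))) =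
                ePt (Fin.castLEEmb D.lt.le) (ptI i) := congrArg ptI hback
            rw [hδ _ hz]
            have hfix : (D.incl X.cr.u').1 (liftP D.δI (ePt (Fin.castLEEmb D.lt.le) (ptI i))) =
                liftP D.δI (ePt (Fin.castLEEmb D.lt.le) (ptI i)) := by
              refine Perm.viaEmbedding_apply_of_notMem _ _ _ ?_
              rintro ⟨x, hx⟩
              obtain _ | _ | x := x
              · exact absurd hx (by simp [ePt, liftP, ptI])
              · exact absurd hx (by simp [ePt, liftP, ptI])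
              have h1 : Fin.castLEEmb D.lt.le x = D.δI (Fin.castLEEmb D.lt.le i) :=
                Option.some.inj (Option.some.inj hx)
              have h2 := x.2
              have h3 : (x : ℕ) = i + p := (congrArg Fin.val h1).trans hlo
              omega
            rw [hfix, hz]
          · have hxK : x ∉ lowPts p m := mem_keptPts.1 (X.cr_K ▸ X.cr.S_sub hx)
            have hθx := X.cr.θ_S x hx
            have hz : liftP D.δI (ePt (Fin.castLEEmb D.lt.le) x) = ePt (Fin.castLEEmb D.lt.le) x := by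
              obtain _ | _ | i := x
              · rfl
              · rfl
              show ptI (D.δI (Fin.castLEEmb D.lt.le i)) = ptI (Fin.castLEEmb D.lt.le i)
              rw [D.δ_mid i (not_lt.1 fun h => hxK (mem_lowPts.2 h)),
                show D.θI i = i from Option.some.inj (Option.some.inj hθx)]
            rw [hδ _ (by rw [hz, hz]), hz]
            show liftP D.δI ((X.cr.u'.1.viaEmbedding _) (ePt _ x)) = _
            rw [Perm.viaEmbedding_apply, X.cr.u'_supp x fun h => ?_, hz]
            rcases Finset.mem_union.1 h with h | h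
            · exact hxK (X.cr_L ▸ h)
            · exact X.cr.avoid x hx (by rw [hθx]; exact h)
        · refine Or.inl ?_
          show (X.cr.u.1.viaEmbedding _) (ePt _ x) = _
          rw [Perm.viaEmbedding_apply, X.cr.u_supp x hx]
      · exact Or.inl (Perm.viaEmbedding_apply_of_notMem _ _ _ hy)
  · intro G _ φ ι π hgen hφ hπι hπg hall
    set g := φ g0
    have hin' : ∀ q, φ (inA (wd q)) = ι q := fun q => by rw [hφ, hwd]
    have hgen' : ι.range ⊔ Subgroup.closure {g} = ⊤ := by
      rw [← hgen]; congr 1; rw [Set.range_unique]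
    have r5 := hall _ (List.mem_cons_self ..)
    have r6 := hall _ (List.mem_cons_of_mem _ (List.mem_cons_self ..))
    have r7 := hall _ (List.mem_cons_of_mem _ (List.mem_cons_of_mem _ (List.mem_cons_self ..)))
    simp only [map_mul, map_inv, hin', mul_inv_eq_one] at r5
    have hgh : Commute g (ι X.h) := by
      have h2 : Commute g ((ι X.h) ^ 2) := by rw [pow_two, ← r5]; exact (Commute.refl g).mul_right (Commute.refl g)
      obtain ⟨k, hk⟩ := X.ord_odd
      have h3 : ((ι X.h) ^ 2) ^ (k + 1) = ι X.h := by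
        rw [← pow_mul, show 2 * (k + 1) = X.ord + 1 by omega, pow_succ, ← map_pow, X.h_pow, map_one, one_mul]
      rw [← h3]
      exact h2.pow_right _
    set f := φ f0 with hfdef
    have hfg : f = g * (ι X.h)⁻¹ := by rw [hfdef, map_mul, map_inv, hin']
    have hf : f * f = 1 := by
      rw [hfg, show g * (ι X.h)⁻¹ * (g * (ι X.h)⁻¹) = g * ((ι X.h)⁻¹ * g) * (ι X.h)⁻¹ by group,
        ← hgh.inv_right.eq, ← mul_assoc g g, r5]
      group
    have hfi : f⁻¹ = f := inv_eq_of_mul_eq_one_right hf
    have hfh : Commute f (ι X.h) := by rw [hfg]; exact hgh.mul_left (Commute.refl (ι X.h)).inv_left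
    have hgenf : ι.range ⊔ Subgroup.closure {f} = ⊤ := by
      rw [eq_top_iff, ← hgen', sup_le_iff]
      refine ⟨le_sup_left, (Subgroup.closure_le _).2 (Set.singleton_subset_iff.2 ?_)⟩
      rw [show g = f * ι X.h by rw [hfg, inv_mul_cancel_right]]
      exact mul_mem (Subgroup.mem_sup_right (Subgroup.subset_closure rfl)) (Subgroup.mem_sup_left ⟨_, rfl⟩)
    simp only [map_mul, map_inv, hin', ← hfdef] at r7
    set W := φ W0 with hWdef
    simp only [map_mul _ _ (inA _), map_mul, map_inv, hin', ← hfdef, ← hWdef, mul_inv_eq_one] at r6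
    have hletter : φ.comp (FreeGroup.lift let0) = FreeGroup.lift (letterVal X ι f) :=
      FreeGroup.ext_hom _ _ fun l => by
        simp only [MonoidHom.comp_apply, FreeGroup.lift_apply_of, let0, letterVal]
        split_ifs <;> simp only [map_mul, hin', ← hfdef]
    have hWval : W = FreeGroup.lift (letterVal X ι f) ω * f ^ X.expo := by
      rw [hWdef, ← hletter]
      show φ (FreeGroup.lift let0 ω * f0 ^ X.expo) = _
      rw [map_mul, map_pow]
      rfl
    set C := agree θ ι f
    have hC : ∀ x : alternatingGroup (Pt (Fin p)), x.1 ∈ C → (∀ y ∈ X.M, x.1 y = y) → conjA θ x = x →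
        Commute W (ι x) := by
      intro x hxC hxM hxθ
      have hfx : Commute f (ι x) := by
        have h1 := (mem_agree θ ι f).1 hxC
        rw [hxθ] at h1
        exact mul_inv_eq_iff_eq_mul.1 h1
      rw [hWval]
      refine Commute.mul_left ?_ (hfx.pow_left _)
      have hle : (FreeGroup.lift (letterVal X ι f)).range ≤ Subgroup.centralizer {ι x} := by
        rw [FreeGroup.range_lift_eq_closure, Subgroup.closure_le]
        rintro _ ⟨⟨bl, q⟩, rfl⟩
        have hq : Commute (ι q.1) (ι x) := by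
          refine (commute_of_supports (A := X.M) (B := X.Mᶜ) disjoint_compl_right q.2 fun y hy => ?_).map ι
          exact hxM y (by simpa using hy)
        rw [SetLike.mem_coe, Subgroup.mem_centralizer_singleton_iff]
        cases bl
        · exact hq.eq
        · exact ((hfx.mul_left hq).mul_left hfx).eq
      exact (Subgroup.mem_centralizer_singleton_iff.1 (hle ⟨ω, rfl⟩))
    have hhC : X.h.1 ∈ C := by
      refine (mem_agree θ ι f).2 ?_
      rw [X.h_θ, hfh.eq, mul_inv_cancel_right]
    have hθC : ∀ x : alternatingGroup (Pt (Fin p)), x.1 ∈ C → (conjA θ x).1 ∈ C :=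
      fun x hx => agree_theta θ ι f hf hθ hx
    have hfull : Full C (keptPts p m) := by
      refine X.gen C hhC hθC (fun x hx hxM hxθ => ?_) fun h0 => ?_
      · exact agree_conj θ ι f r6 hx (by rw [hxθ]; exact hC x hx hxM hxθ)
      · refine (mem_agree θ ι f).2 ?_
        have : W = 1 := by rw [hWval, hω.2 h0, h0, map_one, pow_zero, one_mul]
        rw [r6, this, one_mul]
    have hWone : W = 1 := by
      have h1 := (mem_agree θ ι f).1 (hfull X.c.1 (Perm.mem_alternatingGroup.1 X.c.2) X.c_supp)
      rw [r6] at h1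
      exact mul_eq_right.1 h1
    refine D.glue j hj F hFj ι f π hπι ?_ hgenf hf (fun i hi => ?_) (fun i i' hi hi' => ?_) ?_
    · rw [hfg, map_mul, map_inv, hπg, ← MonoidHom.comp_apply π ι, hπι, mul_inv_cancel_right]
    · have h1 := (mem_agree θ ι f).1 (hfull (cyc i).1 (Perm.mem_alternatingGroup.1 (cyc i).2) fun y hy => by
        rw [cyc_val]
        rw [mem_keptPts, not_not] at hy
        refine cyc3_fix (fun e => ?_) (fun e => ?_) (fun e => ?_) <;> rw [e] at hy
        · exact ptU_notMem_lowPts hy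
        · exact ptV_notMem_lowPts hy
        · exact absurd (mem_lowPts.1 hy) (not_lt.2 hi))
      rw [hfi, conjA_cyc] at h1
      exact h1
    · refine X.cr.cross f ι hθ hf (X.cr_K ▸ hfull) ?_ ⟨X.cr_K ▸ mem_keptPts.2 ptU_notMem_lowPts, X.cr_U⟩
        ⟨X.cr_K ▸ mem_keptPts.2 ptV_notMem_lowPts, X.cr_V⟩ X.hs X.three
        (X.cr_L ▸ mem_lowPts.2 hi) (X.cr_L ▸ mem_lowPts.2 hi')
      show _ * _ = _ * _
      rw [← mul_inv_eq_one, _root_.mul_inv_rev, ← mul_assoc]
      exact r7
    · rcases hmode with ⟨_, hout⟩ | ⟨h1, _⟩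
      · exact Or.inr hout
      · left
        have hmem : FreeGroup.lift (letterVal X ι f) ω ∈ (FreeGroup.lift (letterVal X ι f)).range := ⟨ω, rfl⟩
        rw [FreeGroup.range_lift_eq_closure] at hmem
        have e : f = (FreeGroup.lift (letterVal X ι f) ω)⁻¹ := by
          rw [hWval, h1, pow_one] at hWone
          exact eq_inv_of_mul_eq_one_right hWone
        rw [e]
        refine inv_mem (Subgroup.closure_mono ?_ hmem)
        rintro _ ⟨⟨bl, q⟩, rfl⟩
        cases bl
        · exact Or.inl ⟨q.1, rfl⟩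
        · exact Or.inr ⟨q.1, by simp only [letterVal, if_true, ← e]⟩

end Cfsg.Agent.Lie.AltGlue
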