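import Cfsg.Agent.Lib.Lie.PresSymAltFin

/-!
The alternating group of degree five on two generators with three relations.
-/

set_option autoImplicit false
set_option linter.unusedSectionVars false

namespace Cfsg.Agent.Lie.AltFive

open Equiv Cfsg.Agent.Lie.Pres

variable {G : Type*} [Group G]

theorem deduce (H : Subgroup G) {A B U c R : G} (hA : A ∈ H) (hB : B ∈ H) (hR : c⁻¹ * R * c ∈ H)
    (h : A * U * B = c⁻¹ * R * c) : U ∈ H := by
  have e : U = A⁻¹ * (A * U * B) * B⁻¹ := by group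
  rw [e, h]
  exact mul_mem (mul_mem (inv_mem hA) hR) (inv_mem hB)

theorem conj_mem_one (H : Subgroup G) {c R : G} (hR : R = 1) : c⁻¹ * R * c ∈ H := by
  rw [hR, mul_one, inv_mul_cancel]; exact one_mem _

/-- Twelve cosets of the subgroup generated by the product. -/
theorem cosets {a b : G} (r2 : a * a = 1) (r3 : b * b * b = 1)
    (r10 : a * b * a * b * a * b * a * b * a * b = 1) :
    ∃ c : Fin 12 → G, c 0 = 1 ∧ ∀ i, (∃ j, (c j)⁻¹ * a * c i ∈ Subgroup.zpowers (a * b)) ∧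
      ∃ j, (c j)⁻¹ * b * c i ∈ Subgroup.zpowers (a * b) := by
  set H := Subgroup.zpowers (a * b)
  obtain ⟨c0, hc0⟩ : ∃ c : G, c = 1 := ⟨1, rfl⟩
  obtain ⟨c1, hc1⟩ : ∃ c : G, c = b * c0 := ⟨_, rfl⟩
  have eb0 : c1⁻¹ * b * c0 ∈ H := by rw [hc1, mul_assoc, inv_mul_cancel]; exact one_mem _
  have ea1 : c0⁻¹ * a * c1 ∈ H := deduce H (A := 1) (B := (c1⁻¹ * b * c0)) (c := c0) (R := a * b)
    (one_mem H) eb0 (by rw [hc0, inv_one, one_mul, mul_one]; exact Subgroup.mem_zpowers _) (by group)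
  have ea0 : c1⁻¹ * a * c0 ∈ H := deduce H (A := (c0⁻¹ * a * c1)) (B := 1) (c := c0) (R := a * a)
    ea1 (one_mem H) (conj_mem_one H r2) (by group)
  obtain ⟨c2, hc2⟩ : ∃ c : G, c = b * c1 := ⟨_, rfl⟩
  have eb1 : c2⁻¹ * b * c1 ∈ H := by rw [hc2, mul_assoc, inv_mul_cancel]; exact one_mem _
  have eb2 : c0⁻¹ * b * c2 ∈ H := deduce H (A := 1) (B := (c2⁻¹ * b * c1) * (c1⁻¹ * b * c0)) (c := c0) (R := b * b * b)
    (one_mem H) (mul_mem eb1 eb0) (conj_mem_one H r3) (by group)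
  obtain ⟨c3, hc3⟩ : ∃ c : G, c = a * c2 := ⟨_, rfl⟩
  have ea2 : c3⁻¹ * a * c2 ∈ H := by rw [hc3, mul_assoc, inv_mul_cancel]; exact one_mem _
  have ea3 : c2⁻¹ * a * c3 ∈ H := deduce H (A := 1) (B := (c3⁻¹ * a * c2)) (c := c2) (R := a * a)
    (one_mem H) ea2 (conj_mem_one H r2) (by group)
  obtain ⟨c4, hc4⟩ : ∃ c : G, c = b * c3 := ⟨_, rfl⟩
  have eb3 : c4⁻¹ * b * c3 ∈ H := by rw [hc4, mul_assoc, inv_mul_cancel]; exact one_mem _
  obtain ⟨c5, hc5⟩ : ∃ c : G, c = b * c4 := ⟨_, rfl⟩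
  have eb4 : c5⁻¹ * b * c4 ∈ H := by rw [hc5, mul_assoc, inv_mul_cancel]; exact one_mem _
  have eb5 : c3⁻¹ * b * c5 ∈ H := deduce H (A := 1) (B := (c5⁻¹ * b * c4) * (c4⁻¹ * b * c3)) (c := c3) (R := b * b * b)
    (one_mem H) (mul_mem eb4 eb3) (conj_mem_one H r3) (by group)
  obtain ⟨c6, hc6⟩ : ∃ c : G, c = a * c4 := ⟨_, rfl⟩
  have ea4 : c6⁻¹ * a * c4 ∈ H := by rw [hc6, mul_assoc, inv_mul_cancel]; exact one_mem _
  have ea6 : c4⁻¹ * a * c6 ∈ H := deduce H (A := 1) (B := (c6⁻¹ * a * c4)) (c := c4) (R := a * a)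
    (one_mem H) ea4 (conj_mem_one H r2) (by group)
  obtain ⟨c7, hc7⟩ : ∃ c : G, c = b * c6 := ⟨_, rfl⟩
  have eb6 : c7⁻¹ * b * c6 ∈ H := by rw [hc7, mul_assoc, inv_mul_cancel]; exact one_mem _
  have ea7 : c5⁻¹ * a * c7 ∈ H := deduce H (A := (c1⁻¹ * a * c0) * (c0⁻¹ * b * c2) * (c2⁻¹ * a * c3) * (c3⁻¹ * b * c5)) (B := (c7⁻¹ * b * c6) * (c6⁻¹ * a * c4) * (c4⁻¹ * b * c3) * (c3⁻¹ * a * c2) * (c2⁻¹ * b * c1)) (c := c1) (R := a * b * a * b * a * b * a * b * a * b)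
    (mul_mem (mul_mem (mul_mem ea0 eb2) ea3) eb5) (mul_mem (mul_mem (mul_mem (mul_mem eb6 ea4) eb3) ea2) eb1) (conj_mem_one H r10) (by group)
  have ea5 : c7⁻¹ * a * c5 ∈ H := deduce H (A := (c5⁻¹ * a * c7)) (B := 1) (c := c5) (R := a * a)
    ea7 (one_mem H) (conj_mem_one H r2) (by group)
  obtain ⟨c8, hc8⟩ : ∃ c : G, c = b * c7 := ⟨_, rfl⟩
  have eb7 : c8⁻¹ * b * c7 ∈ H := by rw [hc8, mul_assoc, inv_mul_cancel]; exact one_mem _
  have eb8 : c6⁻¹ * b * c8 ∈ H := deduce H (A := 1) (B := (c8⁻¹ * b * c7) * (c7⁻¹ * b * c6)) (c := c6) (R := b * b * b)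
    (one_mem H) (mul_mem eb7 eb6) (conj_mem_one H r3) (by group)
  obtain ⟨c9, hc9⟩ : ∃ c : G, c = a * c8 := ⟨_, rfl⟩
  have ea8 : c9⁻¹ * a * c8 ∈ H := by rw [hc9, mul_assoc, inv_mul_cancel]; exact one_mem _
  have ea9 : c8⁻¹ * a * c9 ∈ H := deduce H (A := 1) (B := (c9⁻¹ * a * c8)) (c := c8) (R := a * a)
    (one_mem H) ea8 (conj_mem_one H r2) (by group)
  obtain ⟨c10, hc10⟩ : ∃ c : G, c = b * c9 := ⟨_, rfl⟩
  have eb9 : c10⁻¹ * b * c9 ∈ H := by rw [hc10, mul_assoc, inv_mul_cancel]; exact one_mem _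
  obtain ⟨c11, hc11⟩ : ∃ c : G, c = a * c10 := ⟨_, rfl⟩
  have ea10 : c11⁻¹ * a * c10 ∈ H := by rw [hc11, mul_assoc, inv_mul_cancel]; exact one_mem _
  have eb11 : c9⁻¹ * b * c11 ∈ H := deduce H (A := (c4⁻¹ * a * c6) * (c6⁻¹ * b * c8) * (c8⁻¹ * a * c9)) (B := (c11⁻¹ * a * c10) * (c10⁻¹ * b * c9) * (c9⁻¹ * a * c8) * (c8⁻¹ * b * c7) * (c7⁻¹ * a * c5) * (c5⁻¹ * b * c4)) (c := c4) (R := a * b * a * b * a * b * a * b * a * b)
    (mul_mem (mul_mem ea6 eb8) ea9) (mul_mem (mul_mem (mul_mem (mul_mem (mul_mem ea10 eb9) ea8) eb7) ea5) eb4) (conj_mem_one H r10) (by group)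
  have eb10 : c11⁻¹ * b * c10 ∈ H := deduce H (A := (c9⁻¹ * b * c11)) (B := (c10⁻¹ * b * c9)) (c := c9) (R := b * b * b)
    eb11 eb9 (conj_mem_one H r3) (by group)
  have ea11 : c10⁻¹ * a * c11 ∈ H := deduce H (A := 1) (B := (c11⁻¹ * a * c10)) (c := c10) (R := a * a)
    (one_mem H) ea10 (conj_mem_one H r2) (by group)
  refine ⟨![c0, c1, c2, c3, c4, c5, c6, c7, c8, c9, c10, c11], hc0, fun i => ?_⟩
  fin_cases i
  · exact ⟨⟨1, ea0⟩, ⟨1, eb0⟩⟩
  · exact ⟨⟨0, ea1⟩, ⟨2, eb1⟩⟩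
  · exact ⟨⟨3, ea2⟩, ⟨0, eb2⟩⟩
  · exact ⟨⟨2, ea3⟩, ⟨4, eb3⟩⟩
  · exact ⟨⟨6, ea4⟩, ⟨5, eb4⟩⟩
  · exact ⟨⟨7, ea5⟩, ⟨3, eb5⟩⟩
  · exact ⟨⟨4, ea6⟩, ⟨7, eb6⟩⟩
  · exact ⟨⟨5, ea7⟩, ⟨8, eb7⟩⟩
  · exact ⟨⟨9, ea8⟩, ⟨6, eb8⟩⟩
  · exact ⟨⟨8, ea9⟩, ⟨10, eb9⟩⟩
  · exact ⟨⟨11, ea10⟩, ⟨11, eb10⟩⟩
  · exact ⟨⟨10, ea11⟩, ⟨9, eb11⟩⟩

theorem card_le {a b : G} (r2 : a * a = 1) (r3 : b * b * b = 1)
    (r10 : a * b * a * b * a * b * a * b * a * b = 1) (hgen : Subgroup.closure {a, b} = ⊤) :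
    Finite G ∧ Nat.card G ≤ 60 := by
  obtain ⟨c, hc0, hc⟩ := cosets r2 r3 r10
  have h5 : (a * b) ^ 5 = 1 := by rw [← r10]; simp only [pow_succ, pow_zero, one_mul, mul_assoc]
  let f : Fin 12 × Fin 5 → G := fun q => c q.1 * (a * b) ^ (q.2 : ℕ)
  have hstep : ∀ i, ∀ s : G, (∃ j, (c j)⁻¹ * s * c i ∈ Subgroup.zpowers (a * b)) →
      ∀ m : ℕ, ∃ q, f q = s * (c i * (a * b) ^ m) := by
    rintro i s ⟨j, hj⟩ m
    obtain ⟨z, hz⟩ := Subgroup.mem_zpowers_iff.1 hj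
    have hz5 : (0 : ℤ) ≤ (z + m) % 5 ∧ (z + m) % 5 < 5 := ⟨Int.emod_nonneg _ (by norm_num), Int.emod_lt_of_pos _ (by norm_num)⟩
    refine ⟨(j, ⟨((z + m) % 5).toNat, by omega⟩), ?_⟩
    show c j * (a * b) ^ ((z + m) % 5).toNat = _
    rw [← zpow_natCast, Int.toNat_of_nonneg hz5.1, ← zpow_eq_zpow_emod (z + m) (show (a * b) ^ (5 : ℤ) = 1 by
      exact_mod_cast h5), zpow_add, hz, zpow_natCast]
    group
  have hmul : ∀ s ∈ ({a, b} : Set G), ∀ q, ∃ q', f q' = s * f q := by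
    rintro s hs ⟨i, m⟩
    refine hstep i s ?_ m
    rcases hs with rfl | rfl
    exacts [(hc i).1, (hc i).2]
  have hall : ∀ g ∈ Subgroup.closure ({a, b} : Set G), ∀ q, ∃ q', f q' = g * f q := by
    intro g hg
    induction hg using Subgroup.closure_induction'' with
    | one => exact fun q => ⟨q, (one_mul _).symm⟩
    | mem x hx => exact hmul x hx
    | inv_mem x hx =>
      intro q
      rcases hx with rfl | rfl
      · rw [inv_eq_of_mul_eq_one_right r2]; exact hmul _ (Or.inl rfl) q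
      · obtain ⟨q₁, h1⟩ := hmul _ (Or.inr rfl) q
        obtain ⟨q₂, h2⟩ := hmul _ (Or.inr rfl) q₁
        refine ⟨q₂, ?_⟩
        rw [h2, h1, inv_eq_of_mul_eq_one_left r3, mul_assoc]
    | mul x y _ _ hx hy =>
      intro q
      obtain ⟨q₁, h1⟩ := hy q
      obtain ⟨q₂, h2⟩ := hx q₁
      exact ⟨q₂, by rw [h2, h1, mul_assoc]⟩
  have hf : Function.Surjective f := fun g => by
    obtain ⟨q, hq⟩ := hall g (hgen ▸ Subgroup.mem_top g) (0, 0)
    exact ⟨q, by rw [hq]; simp [f, hc0]⟩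
  exact ⟨Finite.of_surjective f hf, (Nat.card_le_card_of_surjective f hf).trans (by simp)⟩

/-- An involution of degree five. -/
def a : alternatingGroup (Fin 5) := ⟨swap 0 1 * swap 2 3, Perm.mem_alternatingGroup.2 (by decide)⟩

/-- A three-cycle of degree five. -/
def b : alternatingGroup (Fin 5) := ⟨swap 0 4 * swap 0 2, Perm.mem_alternatingGroup.2 (by decide)⟩

theorem closure_ab : Subgroup.closure (Set.range ![a, b]) = ⊤ := by
  set K := Subgroup.closure (Set.range ![a, b])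
  have ha : a ∈ K := Subgroup.subset_closure ⟨0, rfl⟩
  have hb : b ∈ K := Subgroup.subset_closure ⟨1, rfl⟩
  have hd : 60 ∣ Nat.card K := by
    have h2 : 2 ∣ Nat.card K := by
      have := Subgroup.orderOf_dvd_natCard _ ha
      rwa [show orderOf a = 2 from orderOf_eq_prime (by decide) (by decide)] at this
    have h3 : 3 ∣ Nat.card K := by
      haveI : Fact (Nat.Prime 3) := ⟨by norm_num⟩
      have := Subgroup.orderOf_dvd_natCard _ hb
      rwa [show orderOf b = 3 from orderOf_eq_prime (by decide) (by decide)] at this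
    have h5 : 5 ∣ Nat.card K := by
      haveI : Fact (Nat.Prime 5) := ⟨by norm_num⟩
      have := Subgroup.orderOf_dvd_natCard _ (mul_mem ha hb)
      rwa [show orderOf (a * b) = 5 from orderOf_eq_prime (by decide) (by decide)] at this
    have h30 : 30 ∣ Nat.card K := Nat.Coprime.mul_dvd_of_dvd_of_dvd (by norm_num : Nat.Coprime 6 5)
      (Nat.Coprime.mul_dvd_of_dvd_of_dvd (by norm_num : Nat.Coprime 2 3) h2 h3) h5
    have hle : Nat.card K ∣ 60 := by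
      have := Subgroup.card_subgroup_dvd_card K
      rwa [show Nat.card (alternatingGroup (Fin 5)) = 60 by rw [nat_card_alternatingGroup]; simp [Nat.factorial]] at this
    obtain ⟨m, hm⟩ := h30
    by_contra hc
    have h60 : Nat.card K = 30 := by
      have : m ≤ 2 := by
        have := Nat.le_of_dvd (by norm_num) hle
        omega
      have hpos : 0 < Nat.card K := Nat.card_pos
      interval_cases m <;> omega
    haveI : K.Normal := Subgroup.normal_of_index_eq_two (by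
      have := K.card_mul_index
      rw [h60, show Nat.card (alternatingGroup (Fin 5)) = 60 by rw [nat_card_alternatingGroup]; simp [Nat.factorial]] at this
      omega)
    rcases IsSimpleGroup.eq_bot_or_eq_top_of_normal K inferInstance with e | e <;> rw [e] at h60
    · simp at h60
    · rw [Subgroup.card_top, nat_card_alternatingGroup] at h60; simp [Nat.factorial] at h60
  refine Subgroup.eq_top_of_card_eq _ (Nat.dvd_antisymm (Subgroup.card_subgroup_dvd_card K) ?_)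
  rwa [show Nat.card (alternatingGroup (Fin 5)) = 60 by rw [nat_card_alternatingGroup]; simp [Nat.factorial]]

/-- Two elements and three relations. -/
theorem alt_five : ∃ v : Fin 2 → alternatingGroup (Fin 5), PresOn v 3 := by
  refine ⟨![a, b], presOn_of_rels _ ?_
    [FreeGroup.of 0 * FreeGroup.of 0, FreeGroup.of 1 * FreeGroup.of 1 * FreeGroup.of 1,
      FreeGroup.of 0 * FreeGroup.of 1 * FreeGroup.of 0 * FreeGroup.of 1 * FreeGroup.of 0 * FreeGroup.of 1 *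
        FreeGroup.of 0 * FreeGroup.of 1 * FreeGroup.of 0 * FreeGroup.of 1] ?_ ?_⟩
  · rw [← MonoidHom.range_eq_top, FreeGroup.range_lift_eq_closure, closure_ab]
  · intro x hx
    simp only [List.mem_cons, List.not_mem_nil, or_false] at hx
    rcases hx with rfl | rfl | rfl <;> simp only [map_mul, FreeGroup.lift_apply_of] <;> decide
  · intro G _ f π hf hπ hL
    simp only [List.forall_mem_cons, List.not_mem_nil, IsEmpty.forall_iff, implies_true, and_true, map_mul] at hL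
    obtain ⟨r2, r3, r10⟩ := hL
    have hgen : Subgroup.closure ({f (FreeGroup.of 0), f (FreeGroup.of 1)} : Set G) = ⊤ := by
      rw [eq_top_iff, ← MonoidHom.range_eq_top.2 hf, MonoidHom.range_eq_map, ← FreeGroup.closure_range_of (Fin 2),
        MonoidHom.map_closure]
      refine Subgroup.closure_mono ?_
      rintro _ ⟨_, ⟨i, rfl⟩, rfl⟩
      fin_cases i
      · exact Or.inl rfl
      · exact Or.inr rfl
    obtain ⟨hfin, hcard⟩ := card_le r2 r3 r10 hgen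
    have hs : Function.Surjective π := by
      intro y
      obtain ⟨z, hz⟩ := MonoidHom.range_eq_top.1 (show (π.comp f).range = ⊤ by
        rw [hπ, FreeGroup.range_lift_eq_closure, closure_ab]) y
      exact ⟨f z, hz⟩
    refine ((Nat.bijective_iff_surjective_and_card π).2 ⟨hs, le_antisymm ?_ (Nat.card_le_card_of_surjective π hs)⟩).1
    rw [nat_card_alternatingGroup]
    simpa [Nat.factorial] using hcard

end Cfsg.Agent.Lie.AltFive
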