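import Cfsg.Agent.Lib.Lie.AltPres
import Cfsg.Agent.Lib.Lie.PresOn

/-!
The alternating group of degree `p + 2`, `p` an odd prime, on two generators and four relations.
-/

set_option autoImplicit false
set_option linter.unusedSectionVars false

namespace Cfsg.Agent.Lie.Carmichael

open Equiv

/-- The translation by one. -/
def transOne (p : ℕ) : Perm (ZMod p) := Equiv.addRight 1

theorem transOne_pow {p : ℕ} (n : ℕ) (x : ZMod p) : (transOne p ^ n) x = x + (n : ZMod p) := by
  induction n generalizing x with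
  | zero => simp
  | succ n ih => rw [pow_succ', Perm.mul_apply, ih]; simp [transOne, add_assoc]

theorem sign_mul_generator {p : ℕ} [Fact p.Prime] (hp : p ≠ 2) {r : (ZMod p)ˣ}
    (hr : ∀ x, x ∈ Submonoid.powers r) :
    Perm.sign (Equiv.mulLeft₀ (r : ZMod p) r.ne_zero) = -1 := by
  classical
  set sa := Equiv.mulLeft₀ (r : ZMod p) r.ne_zero
  have hpow : ∀ (n : ℕ) (x : ZMod p), (sa ^ n) x = (r : ZMod p) ^ n * x := by
    intro n
    induction n with
    | zero => simp
    | succ n ih => intro x; rw [pow_succ', Perm.mul_apply, ih, pow_succ', mul_assoc]; rfl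
  have hr1 : (r : ZMod p) ≠ 1 := by
    intro h
    have hall : ∀ x : (ZMod p)ˣ, x = 1 := fun x => by
      obtain ⟨k, hk⟩ := hr x
      rw [← hk, show r = 1 from Units.ext h]
      exact one_pow k
    have h2 := hall (-1)
    haveI : Fact (2 < p) := ⟨lt_of_le_of_ne (Fact.out : p.Prime).two_le (Ne.symm hp)⟩
    exact ZMod.neg_one_ne_one (by simpa [Units.ext_iff] using h2)
  have hmove : ∀ x : ZMod p, sa x ≠ x ↔ x ≠ 0 := fun x => by
    show (r : ZMod p) * x ≠ x ↔ _
    rw [Ne, mul_left_eq_self₀, not_or]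
    exact ⟨fun h => h.2, fun h => ⟨hr1, h⟩⟩
  have hcyc : sa.IsCycle := by
    refine ⟨1, (hmove 1).2 one_ne_zero, fun y hy => ?_⟩
    obtain ⟨k, hk⟩ := hr (Units.mk0 y ((hmove y).1 hy))
    refine ⟨(k : ℤ), ?_⟩
    rw [zpow_natCast, hpow, mul_one, ← Units.val_pow_eq_pow_val]
    exact congrArg Units.val hk
  have hsupp : sa.support = Finset.univ.erase 0 := by
    ext x
    simp [Perm.mem_support, hmove]
  rw [hcyc.sign, hsupp, Finset.card_erase_of_mem (Finset.mem_univ _), Finset.card_univ, ZMod.card,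
    Even.neg_one_pow ((Fact.out : p.Prime).even_sub_one hp)]

open Pres in
/-- Four relations on two generators. -/
theorem presOn_prime (p : ℕ) [Fact p.Prime] (hp : p ≠ 2) :
    PresOn ![cyc (0 : ZMod p), psi (transOne p)] 4 := by
  classical
  obtain ⟨r, hr⟩ := IsCyclic.exists_monoid_generator (α := (ZMod p)ˣ)
  let sb : Perm (ZMod p) := transOne p
  let sa : Perm (ZMod p) := Equiv.mulLeft₀ (r : ZMod p) r.ne_zero
  have hsa : Perm.sign sa = -1 := sign_mul_generator hp hr
  have hsb := transOne_pow (p := p)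
  have hsbp : sb ^ p = 1 := Equiv.ext fun x => by rw [hsb]; simp
  have hsign : Perm.sign sb = 1 := by
    have h1 : Perm.sign sb ^ p = 1 := by rw [← map_pow, hsbp, map_one]
    rcases Int.units_eq_one_or (Perm.sign sb) with h | h
    · exact h
    · exfalso
      rw [h, ((Fact.out : p.Prime).odd_of_ne_two hp).neg_one_pow] at h1
      exact absurd h1 (by decide)
  let v : Fin 2 → alternatingGroup (Pt (ZMod p)) := ![cyc 0, psi sb]
  let X : FreeGroup (Fin 2) := FreeGroup.of 0
  let B : FreeGroup (Fin 2) := FreeGroup.of 1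
  let Xs : ZMod p → FreeGroup (Fin 2) := fun i => B ^ i.val * X * (B ^ i.val)⁻¹
  have hgen : Function.Surjective (FreeGroup.lift (cyc : ZMod p → alternatingGroup (Pt (ZMod p)))) := by
    rw [← MonoidHom.range_eq_top, FreeGroup.range_lift_eq_closure, closure_cyc]
  obtain ⟨wa, hwa⟩ := hgen (psi sa)
  let A : FreeGroup (Fin 2) := FreeGroup.lift Xs wa
  let L : List (FreeGroup (Fin 2)) := [X ^ 3 * (B ^ p)⁻¹, A * B * A⁻¹ * (B ^ (r : ZMod p).val)⁻¹,
    A * X * A⁻¹ * (X ^ 2)⁻¹, (X * (B * X * B⁻¹)) ^ 2]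
  have vB : FreeGroup.lift v B = psi sb := by simp [B, v]
  have vX : FreeGroup.lift v X = cyc 0 := by simp [X, v]
  have vXs : ∀ i, FreeGroup.lift v (Xs i) = cyc i := fun i => by
    simp only [Xs, map_mul, map_inv, map_pow, vB, vX]
    rw [← map_pow psi sb, psi_conj, map_pow Perm.sign, hsign, one_pow, hsb]
    simp
  have vl : ∀ w, FreeGroup.lift v (FreeGroup.lift Xs w) = FreeGroup.lift cyc w := fun w =>
    DFunLike.congr_fun (FreeGroup.ext_hom ((FreeGroup.lift v).comp (FreeGroup.lift Xs)) _
      fun i => by simp [vXs]) w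
  have vA : FreeGroup.lift v A = psi sa := by rw [vl, hwa]
  refine (presOn_of_rels v ?_ L ?_ ?_).mono le_rfl
  · intro y
    obtain ⟨w, rfl⟩ := hgen y
    exact ⟨_, vl w⟩
  · intro x hx
    simp only [L, List.mem_cons, List.mem_singleton, List.not_mem_nil, or_false] at hx
    rcases hx with rfl | rfl | rfl | rfl
    · rw [map_mul, map_inv, map_pow, map_pow, vX, vB, ← map_pow psi, hsbp, map_one, cyc_cube, inv_one, mul_one]
    · simp only [map_mul, map_inv, map_pow, vA, vB]
      rw [← map_inv, ← map_mul, ← map_mul, ← map_pow, mul_inv_eq_one]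
      congr 1
      refine Equiv.ext fun x => ?_
      rw [hsb, Perm.mul_apply, Perm.mul_apply, ZMod.natCast_zmod_val]
      show (r : ZMod p) * (sa⁻¹ x + 1) = _
      have e : (r : ZMod p) * sa⁻¹ x = x := sa.apply_symm_apply x
      rw [mul_add, e, mul_one]
    · simp only [map_mul, map_inv, map_pow, vA, vX]
      rw [psi_conj, mul_inv_eq_one, hsa, show sa 0 = 0 by simp [sa]]
      have h3 := cyc_cube (0 : ZMod p)
      rw [pow_succ] at h3
      rw [Units.val_neg, Units.val_one, zpow_neg_one]
      exact inv_eq_of_mul_eq_one_left h3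
    · have : FreeGroup.lift v (B * X * B⁻¹) = cyc 1 := by
        have h1 := vXs 1
        simpa [Xs, ZMod.val_one] using h1
      rw [map_pow, map_mul, vX, this]; exact cyc_pair (by simp)
  intro G _ f π hf hπ hL
  have r1 := hL (X ^ 3 * (B ^ p)⁻¹) (by simp [L])
  have r2 := hL (A * B * A⁻¹ * (B ^ (r : ZMod p).val)⁻¹) (by simp [L])
  have r4 := hL (A * X * A⁻¹ * (X ^ 2)⁻¹) (by simp [L])
  have r5 := hL ((X * (B * X * B⁻¹)) ^ 2) (by simp [L])
  set b := f B
  set a := f A
  set x := f X
  simp only [map_mul, map_inv, map_pow, mul_inv_eq_one] at r1 r2 r4 r5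
  -- the common power is central, hence trivial
  have hcen : ∀ y : G, Commute (x ^ 3) y := by
    intro y
    obtain ⟨z, rfl⟩ := hf y
    induction z using FreeGroup.induction_on with
    | C1 => rw [map_one]; exact Commute.one_right _
    | of i =>
      fin_cases i
      · exact Commute.pow_self x 3
      · show Commute (x ^ 3) b; rw [r1]; exact Commute.pow_self b p
    | inv_of i h => rw [map_inv]; exact h.inv_right
    | mul u w hu hw => rw [map_mul]; exact hu.mul_right hw
  have hx3 : x ^ 3 = 1 := by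
    have h1 : a * x ^ 3 * a⁻¹ = (x ^ 2) ^ 3 := by rw [← r4, conj_pow]
    rw [← (hcen a).eq, mul_inv_cancel_right, ← pow_mul, show 2 * 3 = 3 + 3 from rfl, pow_add] at h1
    exact left_eq_mul.1 h1
  have hbp : b ^ p = 1 := r1.symm.trans hx3
  let y : ZMod p → G := fun i => b ^ i.val * x * (b ^ i.val)⁻¹
  have hfy : ∀ i, f (Xs i) = y i := fun i => by simp [Xs, y, b, x]
  have hbmod : ∀ n : ℕ, b ^ n = b ^ (n : ZMod p).val := fun n => by
    conv_lhs => rw [← Nat.mod_add_div n p, pow_add, pow_mul, hbp, one_pow, mul_one]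
    rw [ZMod.val_natCast]
  have hy : ∀ n : ℕ, b ^ n * x * (b ^ n)⁻¹ = y (n : ZMod p) := fun n => by rw [hbmod n]
  have htr : ∀ (n : ℕ) (i : ZMod p), b ^ n * y i * (b ^ n)⁻¹ = y (i + n) := fun n i => by
    rw [show i + (n : ZMod p) = ((n + i.val : ℕ) : ZMod p) by
      rw [Nat.cast_add, ZMod.natCast_zmod_val, add_comm], ← hy, pow_add]
    simp [y, mul_assoc]
  have hx2 : x ^ 2 = x⁻¹ := eq_inv_of_mul_eq_one_left (by rw [← pow_succ]; exact hx3)
  have hab : ∀ i : ZMod p, a * y i * a⁻¹ = y ((r : ZMod p) * i) ^ (((-1 : ℤˣ)) : ℤ) := by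
    intro i
    rw [Units.val_neg, Units.val_one, zpow_neg_one]
    have e : ∀ n : ℕ, a * b ^ n * a⁻¹ = b ^ ((r : ZMod p).val * n) := fun n => by
      rw [← conj_pow, r2, ← pow_mul]
    calc a * y i * a⁻¹ = (a * b ^ i.val * a⁻¹) * (a * x * a⁻¹) * (a * b ^ i.val * a⁻¹)⁻¹ := by
          simp only [y]; group
      _ = b ^ ((r : ZMod p).val * i.val) * x⁻¹ * (b ^ ((r : ZMod p).val * i.val))⁻¹ := by rw [e, r4, hx2]
      _ = (b ^ ((r : ZMod p).val * i.val) * x * (b ^ ((r : ZMod p).val * i.val))⁻¹)⁻¹ := conj_inv.symm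
      _ = _ := by rw [hy, Nat.cast_mul, ZMod.natCast_zmod_val, ZMod.natCast_zmod_val]
  have hy3 : ∀ i, y i ^ 3 = 1 := fun i => by rw [conj_pow, hx3, mul_one, mul_inv_cancel]
  have hd : ∀ d : ZMod p, d ≠ 0 → (y 0 * y d) ^ 2 = 1 := by
    intro d hd
    obtain ⟨k, hk⟩ := hr (Units.mk0 d hd)
    have hdk : d = (r : ZMod p) ^ k := by
      rw [← Units.val_pow_eq_pow_val]
      exact (congrArg Units.val hk).symm
    clear hk
    subst hdk
    clear hd
    induction k with
    | zero => simpa [y, ZMod.val_one] using r5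
    | succ k ih =>
      have := congrArg (fun g => a * g * a⁻¹) ih
      simp only [mul_one, mul_inv_cancel, ← conj_pow] at this
      rw [show a * (y 0 * y ((r : ZMod p) ^ k)) * a⁻¹ = (a * y 0 * a⁻¹) * (a * y ((r : ZMod p) ^ k) * a⁻¹) by
        group, hab, hab, mul_zero, ← pow_succ'] at this
      exact pair_zpow (-1) this
  have hy2 : ∀ i j, i ≠ j → (y i * y j) ^ 2 = 1 := by
    intro i j hij
    have := congrArg (fun g => b ^ i.val * g * (b ^ i.val)⁻¹) (hd (j - i) (sub_ne_zero.2 hij.symm))
    simp only [mul_one, mul_inv_cancel, ← conj_pow] at this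
    rw [show b ^ i.val * (y 0 * y (j - i)) * (b ^ i.val)⁻¹ =
      (b ^ i.val * y 0 * (b ^ i.val)⁻¹) * (b ^ i.val * y (j - i) * (b ^ i.val)⁻¹) by group, htr, htr,
      ZMod.natCast_zmod_val, zero_add, sub_add_cancel] at this
    exact this
  refine (bijective hy3 hy2 ?_ π fun i => ?_).injective
  · set N := Subgroup.closure (Set.range y) with hN
    have hyl : ∀ w, f (FreeGroup.lift Xs w) ∈ N := fun w => by
      have h1 : (f.comp (FreeGroup.lift Xs)).range ≤ N := by
        rw [show f.comp (FreeGroup.lift Xs) = FreeGroup.lift y from FreeGroup.ext_hom _ _ fun i => by simp [hfy],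
          FreeGroup.range_lift_eq_closure]
      exact h1 ⟨w, rfl⟩
    have haN : a ∈ N := hyl wa
    have hxN : x ∈ N := Subgroup.subset_closure ⟨0, by simp [y]⟩
    -- the translations normalise `N`
    have hbn : ∀ n : ℕ, ∀ z ∈ N, b ^ n * z * (b ^ n)⁻¹ ∈ N := by
      intro n z hz
      induction hz using Subgroup.closure_induction with
      | mem z hz => obtain ⟨i, rfl⟩ := hz; rw [htr]; exact Subgroup.subset_closure ⟨_, rfl⟩
      | one => simp
      | mul u w _ _ hu hw => rw [← conj_mul]; exact mul_mem hu hw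
      | inv u _ hu => rw [← conj_inv]; exact inv_mem hu
    have hnormal : N.Normal := by
      rw [← Subgroup.normalizer_eq_top_iff, eq_top_iff]
      rintro y' -
      obtain ⟨z, rfl⟩ := hf y'
      induction z using FreeGroup.induction_on with
      | C1 => rw [map_one]; exact one_mem _
      | of i =>
        fin_cases i
        · exact Subgroup.le_normalizer hxN
        · show b ∈ _
          rw [Subgroup.mem_normalizer_iff]
          refine fun z => ⟨fun hz => by simpa using hbn 1 z hz, fun hz => ?_⟩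
          have := hbn (p - 1) _ hz
          have hp1 : b ^ (p - 1) = b⁻¹ := eq_inv_of_mul_eq_one_left (by
            rw [← pow_succ, Nat.sub_add_cancel (Fact.out : p.Prime).one_le, hbp])
          simpa [hp1, mul_assoc] using this
      | inv_of i h => rw [map_inv]; exact inv_mem h
      | mul u w hu hw => rw [map_mul]; exact mul_mem hu hw
    -- hence contain them
    have hbN : b ∈ N := by
      let q := QuotientGroup.mk' N
      have h1 : q b = q b ^ (r : ZMod p).val := by
        have := congrArg q r2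
        rwa [map_mul, map_mul, map_inv, map_pow, show q a = 1 from (QuotientGroup.eq_one_iff a).2 haN,
          one_mul, inv_one, mul_one] at this
      have h2 : q b ^ p = 1 := by rw [← map_pow, hbp, map_one]
      rw [← QuotientGroup.eq_one_iff]
      show q b = 1
      rw [← orderOf_eq_one_iff]
      rcases (Nat.dvd_prime Fact.out).1 (orderOf_dvd_of_pow_eq_one h2) with h | h
      · exact h
      · exfalso
        have h3 := pow_eq_pow_iff_modEq.1 ((pow_one (q b)).trans h1)
        rw [h, ← ZMod.natCast_eq_natCast_iff] at h3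
        simp only [Nat.cast_one, ZMod.natCast_zmod_val] at h3
        rw [show sa = 1 from Equiv.ext fun z => by simp [sa, ← h3], map_one] at hsa
        exact absurd hsa (by decide)
    rw [eq_top_iff, ← MonoidHom.range_eq_top.2 hf]
    rintro _ ⟨w, rfl⟩
    induction w using FreeGroup.induction_on with
    | C1 => rw [map_one]; exact one_mem _
    | of i => fin_cases i <;> assumption
    | inv_of i h => rw [map_inv]; exact inv_mem h
    | mul u w hu hw => rw [map_mul]; exact mul_mem hu hw
  · rw [← hfy, ← MonoidHom.comp_apply, hπ, vXs]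

end Cfsg.Agent.Lie.Carmichael
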