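import Cfsg.Agent.Lib.Lie.AltPres
import Cfsg.Agent.Lib.Lie.AltGlue
import Cfsg.Agent.Lib.Lie.PresOn

/-!
Degree six.
-/

set_option autoImplicit false
set_option linter.unusedSectionVars false

namespace Cfsg.Agent.Lie.AltGlue

open Equiv Cfsg.Agent.Lie.Carmichael
open Cfsg.Agent.Lie.Pres (PresOn presOn_of_rels)
open scoped Fin.NatCast

theorem cyclic_four {T : Type*} [Group T] (j : alternatingGroup (Pt (Fin 4)) →* T) (hj : Function.Injective j)
    (t : T) (u : ℤˣ) (ht : ∀ i, t * j (cyc i) * t⁻¹ = j (cyc (i + 1)) ^ (u : ℤ)) (ht4 : t ^ 4 = 1)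
    (e : ℕ) (he : (e = 1) ∨ (e = 2 ∧ t ∉ j.range)) (hte : t ^ e ∈ j.range)
    (hgen : j.range ⊔ Subgroup.closure {t} = ⊤) :
    PresOn ![j (cyc 0), t] 5 := by
  classical
  let v : Fin 2 → T := ![j (cyc 0), t]
  let Y : FreeGroup (Fin 2) := FreeGroup.of 0
  let A : FreeGroup (Fin 2) := FreeGroup.of 1
  let Xs : Fin 4 → FreeGroup (Fin 2) := fun i => (A ^ (i : ℕ) * Y * (A ^ (i : ℕ))⁻¹) ^ (((u ^ (i : ℕ) : ℤˣ)) : ℤ)
  have hsq : ∀ k : ℕ, ((u ^ k : ℤˣ) : ℤ) * ((u ^ k : ℤˣ) : ℤ) = 1 := fun k => by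
    rw [← Units.val_mul, Int.units_mul_self]; rfl
  have htn : ∀ (k : ℕ) (i : Fin 4), t ^ k * j (cyc i) * (t ^ k)⁻¹ = j (cyc (i + (k : Fin 4))) ^ ((u ^ k : ℤˣ) : ℤ) := by
    intro k
    induction k with
    | zero => intro i; simp
    | succ k ih =>
      intro i
      rw [pow_succ' t, show t * t ^ k * j (cyc i) * (t * t ^ k)⁻¹ = t * (t ^ k * j (cyc i) * (t ^ k)⁻¹) * t⁻¹ by
        group, ih, ← conj_zpow, ht, ← zpow_mul, Nat.cast_succ, add_assoc, pow_succ' u, Units.val_mul]
  have vY : FreeGroup.lift v Y = j (cyc 0) := by simp [v, Y]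
  have vA : FreeGroup.lift v A = t := by simp [v, A]
  have vXs : ∀ i, FreeGroup.lift v (Xs i) = j (cyc i) := fun i => by
    simp only [Xs, map_zpow, map_mul, map_inv, map_pow, vY, vA]
    rw [htn, ← zpow_mul, hsq, zpow_one, zero_add, Fin.cast_val_eq_self]
  have vl : ∀ w, FreeGroup.lift v (FreeGroup.lift Xs w) = j (FreeGroup.lift cyc w) := fun w =>
    DFunLike.congr_fun (FreeGroup.ext_hom ((FreeGroup.lift v).comp (FreeGroup.lift Xs)) (j.comp (FreeGroup.lift cyc))
      fun i => by simp [vXs]) w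
  have hs : Function.Surjective (FreeGroup.lift (cyc : Fin 4 → alternatingGroup (Pt (Fin 4)))) := by
    rw [← MonoidHom.range_eq_top, FreeGroup.range_lift_eq_closure, closure_cyc]
  obtain ⟨a, ha⟩ := hte
  obtain ⟨wa, hwa⟩ := hs a
  let L : List (FreeGroup (Fin 2)) := [Y ^ 3, A ^ 4, (Xs 0 * Xs 1) ^ 2, (Xs 0 * Xs 2) ^ 2,
    (A ^ e)⁻¹ * FreeGroup.lift Xs wa]
  refine (presOn_of_rels v ?_ L ?_ ?_).mono (le_of_eq rfl)
  · rw [← MonoidHom.range_eq_top, eq_top_iff, ← hgen, sup_le_iff]
    refine ⟨?_, (Subgroup.closure_le _).2 (Set.singleton_subset_iff.2 ⟨A, vA⟩)⟩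
    rw [range_eq, Subgroup.closure_le]
    rintro _ ⟨i, rfl⟩
    exact ⟨Xs i, vXs i⟩
  · intro x hx
    simp only [L, List.mem_cons, List.not_mem_nil, or_false] at hx
    rcases hx with rfl | rfl | rfl | rfl | rfl
    · rw [map_pow, vY, ← map_pow, cyc_cube, map_one]
    · rw [map_pow, vA, ht4]
    · rw [map_pow, map_mul, vXs, vXs, ← map_mul, ← map_pow, cyc_pair (by decide), map_one]
    · rw [map_pow, map_mul, vXs, vXs, ← map_mul, ← map_pow, cyc_pair (by decide), map_one]
    · rw [map_mul, map_inv, map_pow, vA, vl, hwa, ha, inv_mul_cancel]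
  intro G _ f π hf hπ hL
  have r1 := hL (Y ^ 3) (by simp [L])
  have r2 := hL (A ^ 4) (by simp [L])
  have r3 := hL ((Xs 0 * Xs 1) ^ 2) (by simp [L])
  have r4 := hL ((Xs 0 * Xs 2) ^ 2) (by simp [L])
  have r5 := hL ((A ^ e)⁻¹ * FreeGroup.lift Xs wa) (by simp [L])
  set b := f A
  let y : Fin 4 → G := fun i => f (Xs i)
  have hy : ∀ i, y i = (b ^ (i : ℕ) * f Y * (b ^ (i : ℕ))⁻¹) ^ (((u ^ (i : ℕ) : ℤˣ)) : ℤ) := fun i => by
    simp [y, Xs, b]
  rw [map_pow] at r1 r2 r3 r4
  rw [map_mul] at r3 r4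
  simp only [map_mul, map_inv, map_pow, inv_mul_eq_one] at r5
  have hu4 : u ^ 4 = 1 := by rcases Int.units_eq_one_or u with rfl | rfl <;> decide
  have hb : ∀ i : Fin 4, b * y i * b⁻¹ = y (i + 1) ^ (u : ℤ) := by
    intro i
    have hmod : ∀ k : ℕ, b ^ k = b ^ (k % 4) := fun k => by
      conv_lhs => rw [← Nat.mod_add_div k 4, pow_add, pow_mul, r2, one_pow, mul_one]
    have hmodu : ∀ k : ℕ, u ^ k = u ^ (k % 4) := fun k => by
      conv_lhs => rw [← Nat.mod_add_div k 4, pow_add, pow_mul, hu4, one_pow, mul_one]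
    rw [hy, hy, show ((i + 1 : Fin 4) : ℕ) = ((i : ℕ) + 1) % 4 from Fin.val_add i 1, ← hmod, ← hmodu,
      ← conj_zpow, ← zpow_mul, ← Units.val_mul, pow_succ u, mul_assoc (u ^ (i : ℕ)) u u, Int.units_mul_self,
      mul_one, pow_succ' b]
    congr 1
    group
  have h3 : ∀ i, y i ^ 3 = 1 := fun i => by
    rw [hy, ← zpow_natCast, ← zpow_mul, mul_comm, zpow_mul, zpow_natCast, conj_pow, r1, mul_one,
      mul_inv_cancel, one_zpow]
  have hsh : ∀ i k : Fin 4, (y i * y k) ^ 2 = 1 → (y (i + 1) * y (k + 1)) ^ 2 = 1 := by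
    intro i k h
    have := congrArg (fun g => b * g * b⁻¹) h
    simp only [mul_one, mul_inv_cancel, ← conj_pow] at this
    rw [show b * (y i * y k) * b⁻¹ = (b * y i * b⁻¹) * (b * y k * b⁻¹) by group, hb, hb] at this
    exact pair_zpow u this
  have p01 : (y 0 * y 1) ^ 2 = 1 := r3
  have p12 : (y 1 * y 2) ^ 2 = 1 := hsh 0 1 p01
  have p23 : (y 2 * y 3) ^ 2 = 1 := hsh 1 2 p12
  have p30 : (y 3 * y 0) ^ 2 = 1 := hsh 2 3 p23
  have p02 : (y 0 * y 2) ^ 2 = 1 := r4
  have p13 : (y 1 * y 3) ^ 2 = 1 := hsh 0 2 p02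
  have h2 : ∀ i k, i ≠ k → (y i * y k) ^ 2 = 1 := by
    intro i k hik
    fin_cases i <;> fin_cases k <;> first
      | exact absurd rfl hik
      | assumption
      | exact pair_symm ‹_›
  set N := Subgroup.closure (Set.range y) with hN
  have hπy : ∀ i, π (y i) = j (cyc i) := fun i => by
    show π (f (Xs i)) = _
    rw [← MonoidHom.comp_apply, hπ, vXs]
  have hπN : ∀ x ∈ N, π x ∈ j.range := by
    intro x hx
    induction hx using Subgroup.closure_induction with
    | mem x hx => obtain ⟨i, rfl⟩ := hx; exact ⟨cyc i, (hπy i).symm⟩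
    | one => rw [map_one]; exact one_mem _
    | mul a b _ _ ha hb => rw [map_mul]; exact mul_mem ha hb
    | inv a _ ha => rw [map_inv]; exact inv_mem ha
  let φ : N →* alternatingGroup (Pt (Fin 4)) := (MonoidHom.ofInjective hj).symm.toMonoidHom.comp
    ((π.comp N.subtype).codRestrict j.range fun x => hπN x x.2)
  let y' : Fin 4 → N := fun i => ⟨y i, Subgroup.subset_closure ⟨i, rfl⟩⟩
  have hφ : Function.Bijective φ := by
    refine bijective (x := y') (fun i => Subtype.ext (by simpa using h3 i))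
      (fun i k hik => Subtype.ext (by simpa using h2 i k hik)) ?_ φ fun i => ?_
    · apply Subgroup.map_injective N.subtype_injective
      rw [MonoidHom.map_closure, ← Set.range_comp, ← MonoidHom.range_eq_map, Subgroup.range_subtype]
      rfl
    · refine (MonoidHom.ofInjective hj).injective ?_
      simp only [φ, MonoidHom.comp_apply, MulEquiv.toMonoidHom_eq_coe, MonoidHom.coe_coe, MulEquiv.apply_symm_apply]
      exact Subtype.ext (hπy i)
  have hbN : ∀ x ∈ N, b * x * b⁻¹ ∈ N := by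
    intro x hx
    induction hx using Subgroup.closure_induction with
    | mem x hx =>
      obtain ⟨i, rfl⟩ := hx
      rw [hb]
      have hm : y (i + 1) ∈ N := Subgroup.subset_closure ⟨i + 1, rfl⟩
      exact zpow_mem hm _
    | one => simp
    | mul a c _ _ ha hc => rw [← conj_mul]; exact mul_mem ha hc
    | inv a _ ha => rw [← conj_inv]; exact inv_mem ha
  have hbNn : ∀ k : ℕ, ∀ x ∈ N, b ^ k * x * (b ^ k)⁻¹ ∈ N := by
    intro k
    induction k with
    | zero => intro x hx; simpa using hx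
    | succ k ih =>
      intro x hx
      rw [pow_succ', show b * b ^ k * x * (b * b ^ k)⁻¹ = b * (b ^ k * x * (b ^ k)⁻¹) * b⁻¹ by group]
      exact hbN _ (ih x hx)
  have hbe : b ^ e ∈ N := by
    rw [r5]
    have h1 : (f.comp (FreeGroup.lift Xs)).range ≤ N := by
      rw [show f.comp (FreeGroup.lift Xs) = FreeGroup.lift y from FreeGroup.ext_hom _ _ fun i => by simp [y],
        FreeGroup.range_lift_eq_closure]
    exact h1 ⟨wa, rfl⟩
  have hbinv : b⁻¹ = b ^ 3 := inv_eq_of_mul_eq_one_right (by rw [← pow_succ']; exact r2)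
  have hb2 : b * b ∈ N := by
    rcases he with he | ⟨he, _⟩ <;> rw [he] at hbe
    · rw [pow_one] at hbe; exact mul_mem hbe hbe
    · rwa [pow_two] at hbe
  have hcov : ∀ x : G, x ∈ N ∨ b * x ∈ N := by
    intro x
    obtain ⟨w, rfl⟩ := hf x
    have hmul : ∀ a c : G, (a ∈ N ∨ b * a ∈ N) → (c ∈ N ∨ b * c ∈ N) → (a * c ∈ N ∨ b * (a * c) ∈ N) := by
      intro a c ha hc
      rcases ha with ha | ha <;> rcases hc with hc | hc
      · exact Or.inl (mul_mem ha hc)
      · refine Or.inr ?_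
        have := mul_mem (hbN a ha) hc
        rwa [show b * a * b⁻¹ * (b * c) = b * (a * c) by group] at this
      · exact Or.inr (by simpa [mul_assoc] using mul_mem ha hc)
      · refine Or.inl ?_
        have := mul_mem (mul_mem (inv_mem hb2) (hbN _ ha)) hc
        rwa [show (b * b)⁻¹ * (b * (b * a) * b⁻¹) * (b * c) = a * c by group] at this
    induction w using FreeGroup.induction_on with
    | C1 => rw [map_one]; exact Or.inl (one_mem _)
    | of i =>
      fin_cases i
      · refine Or.inl (Subgroup.subset_closure ?_)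
        exact ⟨0, by rw [hy]; simp [Y]⟩
      · exact Or.inr hb2
    | inv_of i h =>
      rw [map_inv]
      rcases h with h | h
      · exact Or.inl (inv_mem h)
      · refine Or.inr ?_
        have := mul_mem (hbN _ (inv_mem h)) hb2
        rwa [show b * (b * f (FreeGroup.of i))⁻¹ * b⁻¹ * (b * b) = b * (f (FreeGroup.of i))⁻¹ by group] at this
    | mul a c ha hc => rw [map_mul]; exact hmul _ _ ha hc
  have hkerN : ∀ x ∈ N, π x = 1 → x = 1 := by
    intro x hx h1
    have : φ ⟨x, hx⟩ = 1 := by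
      refine (MonoidHom.ofInjective hj).injective ?_
      simp only [φ, MonoidHom.comp_apply, MulEquiv.toMonoidHom_eq_coe, MonoidHom.coe_coe, MulEquiv.apply_symm_apply,
        map_one]
      exact Subtype.ext h1
    exact congrArg Subtype.val (hφ.1 (this.trans (map_one φ).symm))
  rw [injective_iff_map_eq_one]
  intro x hx
  rcases hcov x with h | h
  · exact hkerN x h hx
  rcases he with he | ⟨_, hout⟩
  · rw [he, pow_one] at hbe
    have := mul_mem (inv_mem hbe) h
    rw [inv_mul_cancel_left] at this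
    exact hkerN x this hx
  · exfalso
    refine hout ?_
    have := hπN _ h
    rwa [map_mul, hx, mul_one, show π b = t by rw [← MonoidHom.comp_apply, hπ, vA]] at this

theorem sign_rotate_four : Perm.sign (finRotate 4) = -1 := by rw [sign_finRotate]; rfl

theorem finRotate_four_pow : finRotate 4 ^ 4 = 1 := by decide

/-- The alternating group of degree six. -/
theorem alt_six : ∃ t, PresOn ![cyc (0 : Fin 4), t] 5 := by
  refine ⟨psi (finRotate 4), ?_⟩
  have := cyclic_four (MonoidHom.id _) Function.injective_id (psi (finRotate 4)) (-1) (fun i => ?_)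
    (by rw [← map_pow, finRotate_four_pow, map_one]) 1 (Or.inl rfl) ⟨_, rfl⟩
    (by rw [MonoidHom.range_eq_top.2 Function.surjective_id, top_sup_eq])
  · simpa using this
  · simp only [MonoidHom.id_apply]
    rw [psi_conj, sign_rotate_four, finRotate_apply]

/-- The symmetric group of degree six. -/
theorem sym_six : ∃ t, PresOn ![((cyc (0 : Fin 4)).1 : Perm (Pt (Fin 4))), t] 5 := by
  refine ⟨liftP (finRotate 4), ?_⟩
  have hodd : Perm.sign (liftP (finRotate 4)) = -1 := by
    show Perm.sign (optionCongr (optionCongr (finRotate 4))) = _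
    rw [Equiv.optionCongr_sign, Equiv.optionCongr_sign, sign_rotate_four]
  refine cyclic_four (alternatingGroup (Pt (Fin 4))).subtype (Subgroup.subtype_injective _) _ 1 (fun i => ?_)
    (by rw [← map_pow, finRotate_four_pow, map_one]) 2 (Or.inr ⟨rfl, ?_⟩) ?_ ?_
  · rw [Units.val_one, zpow_one, ← finRotate_apply, ← conjA_cyc]
    rfl
  · rw [Subgroup.range_subtype, Perm.mem_alternatingGroup, hodd]; decide
  · rw [Subgroup.range_subtype, Perm.mem_alternatingGroup, map_pow, hodd]; rfl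
  · rw [Subgroup.range_subtype, eq_top_iff]
    intro σ _
    rcases Int.units_eq_one_or (Perm.sign σ) with hσ | hσ
    · exact Subgroup.mem_sup_left (Perm.mem_alternatingGroup.2 hσ)
    · have h1 : σ * liftP (finRotate 4) ∈ alternatingGroup (Pt (Fin 4)) := by
        rw [Perm.mem_alternatingGroup, map_mul, hσ, hodd]; rfl
      have h2 := mul_mem (Subgroup.mem_sup_left (T := Subgroup.closure {liftP (finRotate 4)}) h1)
        (inv_mem (Subgroup.mem_sup_right (Subgroup.subset_closure rfl)))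
      rwa [mul_inv_cancel_right] at h2

end Cfsg.Agent.Lie.AltGlue
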