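import Cfsg.Agent.Lib.Lie.AltGlueData

/-!
A three-cycle and a double shift.
-/

set_option autoImplicit false
set_option linter.unusedSectionVars false

namespace Cfsg.Agent.Lie.AltShift

open Equiv Cfsg.Agent.Lie.AltGlue

variable {α : Type*} [DecidableEq α] [Fintype α]

/-- Shifting by two along `e`, starting from a three-cycle, one obtains all even permutations of the
range of `e`, as soon as the shift is available for the elements fixing the last two points. -/
theorem full_of_shift {m : ℕ} [NeZero m] (hm : 5 ≤ m) (e : Fin m ↪ α) (C : Subgroup (Perm α))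
    (h0 : cyc3 (e (Fin.ofNat m 0)) (e (Fin.ofNat m 1)) (e (Fin.ofNat m 2)) ∈ C)
    (hstep : ∀ y ∈ C, Perm.sign y = 1 → (∀ t : Fin m, m ≤ (t : ℕ) + 2 → y (e t) = e t) →
      cycOn e ^ 2 * y * (cycOn e ^ 2)⁻¹ ∈ C) :
    Full C (Finset.univ.image e) := by
  classical
  let x : ℕ → α := fun i => e (Fin.ofNat m i)
  have hx : ∀ i j, i < m → j < m → i ≠ j → x i ≠ x j := fun i j hi hj hij h => by
    have := congrArg Fin.val (e.injective h)
    simp [Nat.mod_eq_of_lt hi, Nat.mod_eq_of_lt hj] at this
    exact hij this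
  have hshift : ∀ i, (cycOn e ^ 2) (x i) = x (i + 2) := fun i => by
    show (cycOn e ^ 2) (e _) = e _
    rw [cycOn_pow_apply]
    refine congrArg e (Fin.ext ?_)
    rw [finRotate_pow_val]
    simp [Nat.mod_add_mod]
  have hstep3 : ∀ i, i + 4 < m + 0 + 0 → cyc3 (x i) (x (i + 1)) (x (i + 2)) ∈ C →
      cyc3 (x (i + 2)) (x (i + 3)) (x (i + 4)) ∈ C := by
    intro i hi h
    have := hstep _ h (cyc3_sign (hx _ _ (by omega) (by omega) (by omega)) (hx _ _ (by omega) (by omega) (by omega)))
      fun t ht => cyc3_fix ?_ ?_ ?_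
    · rwa [conj_cyc3, hshift, hshift, hshift] at this
    all_goals
      intro h
      have := congrArg Fin.val (e.injective h)
      simp [Nat.mod_eq_of_lt (show i < m by omega), Nat.mod_eq_of_lt (show i + 1 < m by omega),
        Nat.mod_eq_of_lt (show i + 2 < m by omega)] at this
      omega
  let Y : ℕ → Finset α := fun N => (Finset.range N).image x
  have hYmem : ∀ {i N}, i < N → x i ∈ Y N := fun {i N} h => Finset.mem_image_of_mem x (Finset.mem_range.2 h)
  have hind : ∀ s, 2 * s + 2 < m → cyc3 (x (2 * s)) (x (2 * s + 1)) (x (2 * s + 2)) ∈ C ∧ Full C (Y (2 * s + 3)) := by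
    intro s
    induction s with
    | zero =>
      intro _
      refine ⟨h0, (full_triple (hx 0 1 (by omega) (by omega) (by omega)) h0).mono fun y hy => ?_⟩
      obtain ⟨i, hi, rfl⟩ := Finset.mem_image.1 hy
      rw [Finset.mem_range] at hi
      interval_cases i <;> simp [x]
    | succ s ih =>
      intro hs
      obtain ⟨hc, hY⟩ := ih (by omega)
      have hn := hstep3 (2 * s) (by omega) hc
      rw [show 2 * (s + 1) = 2 * s + 2 by ring]
      refine ⟨hn, ?_⟩
      set u := cyc3 (x (2 * s + 2)) (x (2 * s + 3)) (x (2 * s + 4))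
      have hT := full_triple (hx (2 * s + 2) (2 * s + 3) (by omega) (by omega) (by omega)) hn
      have hu0 : ∀ i, i < 2 * s + 2 → u (x i) = x i := fun i hi =>
        cyc3_fix (hx _ _ (by omega) (by omega) (by omega)) (hx _ _ (by omega) (by omega) (by omega))
          (hx _ _ (by omega) (by omega) (by omega))
      have hu2 : u (x (2 * s + 2)) = x (2 * s + 3) :=
        cyc3_apply_left (hx _ _ (by omega) (by omega) (by omega)) (hx _ _ (by omega) (by omega) (by omega))
      have h1 := hY.union (hY.image hn) (hx 0 1 (by omega) (by omega) (by omega)) (hYmem (by omega))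
        (hYmem (by omega)) (Finset.mem_image.2 ⟨x 0, hYmem (by omega), hu0 0 (by omega)⟩)
        (Finset.mem_image.2 ⟨x 1, hYmem (by omega), hu0 1 (by omega)⟩)
      have h2 := h1.union hT (hx (2 * s + 2) (2 * s + 3) (by omega) (by omega) (by omega))
        (Finset.mem_union_left _ (hYmem (by omega)))
        (Finset.mem_union_right _ (Finset.mem_image.2 ⟨_, hYmem (by omega), hu2⟩)) (by simp) (by simp)
      refine h2.mono fun y hy => ?_
      obtain ⟨i, hi, rfl⟩ := Finset.mem_image.1 hy
      rw [Finset.mem_range] at hi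
      rcases (show i < 2 * s + 3 ∨ i = 2 * s + 3 ∨ i = 2 * s + 4 by omega) with h | rfl | rfl
      · exact Finset.mem_union_left _ (Finset.mem_union_left _ (hYmem h))
      · exact Finset.mem_union_right _ (by simp)
      · exact Finset.mem_union_right _ (by simp)
  have hall : Full C (Y m) := by
    obtain ⟨s, hs | hs⟩ : ∃ s, m = 2 * s + 3 ∨ m = 2 * s + 4 := ⟨(m - 3) / 2, by omega⟩
    · rw [hs]; exact (hind s (by omega)).2
    · have hY := (hind s (by omega)).2
      obtain ⟨s, rfl⟩ : ∃ t, s = t + 1 := ⟨s - 1, by omega⟩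
      have hy := hY.cyc3_mem (hYmem (show 2 * s + 1 < 2 * (s + 1) + 3 by omega))
        (hYmem (show 2 * s + 2 < 2 * (s + 1) + 3 by omega)) (hYmem (show 2 * s + 3 < 2 * (s + 1) + 3 by omega))
        (hx _ _ (by omega) (by omega) (by omega)) (hx _ _ (by omega) (by omega) (by omega))
      have hT := full_triple (hx (2 * s + 3) (2 * s + 4) (by omega) (by omega) (by omega))
        (hstep3 (2 * s + 1) (by omega) hy)
      refine (hY.union hT (hx (2 * s + 3) (2 * s + 4) (by omega) (by omega) (by omega)) (hYmem (by omega))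
        (hYmem (by omega)) (by simp) (by simp)).mono fun y hy => ?_
      obtain ⟨i, hi, rfl⟩ := Finset.mem_image.1 hy
      rw [Finset.mem_range] at hi
      rcases (show i < 2 * (s + 1) + 3 ∨ i = 2 * s + 1 + 4 by omega) with h | rfl
      · exact Finset.mem_union_left _ (hYmem h)
      · exact Finset.mem_union_right _ (by simp)
  refine hall.mono fun y hy => ?_
  obtain ⟨t, -, rfl⟩ := Finset.mem_image.1 hy
  exact Finset.mem_image.2 ⟨t, Finset.mem_range.2 t.2, congrArg e (Fin.ext (by simp [Nat.mod_eq_of_lt t.2]))⟩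

end Cfsg.Agent.Lie.AltShift
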