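import Mathlib

/-! Alternating groups with abelian Sylow subgroups. -/

set_option autoImplicit false
set_option linter.unusedSectionVars false

namespace Cfsg.Agent.Lie.AltSylow

open Equiv

variable {n p : ℕ} [hp : Fact p.Prime]

/-- A `p`-group is inside a conjugate of a given Sylow subgroup. -/
theorem exists_conj_le {G : Type*} [Group G] [Finite G] (P : Sylow p G) {H : Subgroup G} (hH : IsPGroup p H) :
    ∃ g : G, H ≤ (P : Subgroup G).map (MulAut.conj g).toMonoidHom := by
  obtain ⟨Q, hQ⟩ := hH.exists_le_sylow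
  obtain ⟨g, hg⟩ := MulAction.exists_smul_eq G P Q
  refine ⟨g, ?_⟩
  rw [← hg] at hQ
  exact hQ

theorem comm_of_conj_le {G : Type*} [Group G] [Finite G] (P : Sylow p G) (hP : IsMulCommutative (P : Subgroup G))
    {H : Subgroup G} (hH : IsPGroup p H) {x y : G} (hx : x ∈ H) (hy : y ∈ H) : x * y = y * x := by
  obtain ⟨g, hg⟩ := exists_conj_le P hH
  obtain ⟨u, hu, rfl⟩ := hg hx
  obtain ⟨w, hw, rfl⟩ := hg hy
  rw [← map_mul, ← map_mul]
  exact congrArg _ (congrArg Subtype.val (hP.is_comm.comm ⟨u, hu⟩ ⟨w, hw⟩))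

/-- Abelian Sylow subgroups for odd `p` force `n < p ^ 2`. -/
theorem lt_sq (hp2 : p ≠ 2) (P : Sylow p (alternatingGroup (Fin n)))
    (hP : IsMulCommutative (P : Subgroup (alternatingGroup (Fin n)))) : n < p * p := by
  classical
  by_contra hlt
  push Not at hlt
  haveI : NeZero p := ⟨hp.out.ne_zero⟩
  let W : Subgroup (Perm (ZMod p × ZMod p)) :=
    { carrier := {π | ∃ (a : ZMod p) (f : ZMod p → ZMod p), ∀ x, π x = (x.1 + a, x.2 + f x.1)}
      one_mem' := ⟨0, 0, fun x => by simp⟩
      mul_mem' := fun {π σ} ⟨a, f, hπ⟩ ⟨b, g, hσ⟩ => ⟨b + a, fun i => g i + f (i + b), fun x => by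
        rw [Perm.mul_apply, hσ, hπ]; simp [add_assoc]⟩
      inv_mem' := fun {π} ⟨a, f, hπ⟩ => ⟨-a, fun i => -f (i - a), fun x => by
        refine π.injective ?_
        rw [Perm.coe_inv, π.apply_symm_apply, hπ]
        simp [sub_eq_add_neg]⟩ }
  have hW : IsPGroup p W := by
    rintro ⟨π, a, f, hπ⟩
    refine ⟨2, Subtype.ext ?_⟩
    show π ^ p ^ 2 = 1
    have hiter : ∀ (m : ℕ) (x : ZMod p × ZMod p),
        (π ^ m) x = (x.1 + m • a, x.2 + ∑ i ∈ Finset.range m, f (x.1 + i • a)) := fun m x => by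
      induction m with
      | zero => simp
      | succ m ih =>
        rw [pow_succ', Perm.mul_apply, ih, hπ, Finset.sum_range_succ, succ_nsmul]
        simp [add_assoc]
    have hpp : ∀ x, (π ^ p) x = (x.1, x.2 + ∑ i ∈ Finset.range p, f (x.1 + i • a)) := fun x => by
      rw [hiter, nsmul_eq_mul, ZMod.natCast_self, zero_mul, add_zero]
    ext x : 1
    rw [pow_two, pow_mul]
    have hk : ∀ m : ℕ, ((π ^ p) ^ m) x = (x.1, x.2 + m • ∑ i ∈ Finset.range p, f (x.1 + i • a)) := fun m => by
      induction m with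
      | zero => simp
      | succ m ih => rw [pow_succ', Perm.mul_apply, ih, hpp, succ_nsmul, ← add_assoc]
    rw [hk, nsmul_eq_mul, ZMod.natCast_self, zero_mul, add_zero]
    rfl
  let ι : ZMod p × ZMod p ↪ Fin n :=
    (Fintype.equivFin _).toEmbedding.trans (Fin.castLEEmb (by simpa [Fintype.card_prod, ZMod.card] using hlt))
  let f : Perm (ZMod p × ZMod p) →* Perm (Fin n) := Perm.viaEmbeddingHom ι
  have hf : Function.Injective f := Perm.viaEmbeddingHom_injective ι
  have hWa : ∀ π ∈ W, f π ∈ alternatingGroup (Fin n) := fun π hπ => by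
    obtain ⟨k, hk⟩ := hW ⟨π, hπ⟩
    have hk' : π ^ p ^ k = 1 := congrArg Subtype.val hk
    rw [Perm.mem_alternatingGroup]
    have h1 := congrArg (fun σ => Perm.sign (f σ)) hk'
    simp only [map_pow, map_one] at h1
    rcases Int.units_eq_one_or (Perm.sign (f π)) with h | h
    · exact h
    · rw [h, (hp.out.odd_of_ne_two hp2).pow.neg_one_pow] at h1
      exact absurd h1 (by decide)
  let F : W →* alternatingGroup (Fin n) :=
    MonoidHom.mk' (fun w => ⟨f w.1, hWa w.1 w.2⟩) fun a b => Subtype.ext (map_mul f a.1 b.1)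
  have hH : IsPGroup p F.range := hW.of_surjective F.rangeRestrict F.rangeRestrict_surjective
  let s : Perm (ZMod p × ZMod p) := Equiv.addRight (1, 0)
  let u : Perm (ZMod p × ZMod p) :=
    { toFun := fun x => (x.1, x.2 + if x.1 = 0 then 1 else 0)
      invFun := fun x => (x.1, x.2 - if x.1 = 0 then 1 else 0)
      left_inv := fun x => by simp
      right_inv := fun x => by simp }
  have hs : s ∈ W := ⟨1, 0, fun x => by ext <;> simp [s]⟩
  have hu : u ∈ W := ⟨0, fun i => if i = 0 then 1 else 0, fun x => by simp [u]⟩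
  have h := comm_of_conj_le P hP hH (MonoidHom.mem_range.2 ⟨⟨s, hs⟩, rfl⟩) (MonoidHom.mem_range.2 ⟨⟨u, hu⟩, rfl⟩)
  have h' : f (s * u) = f (u * s) := by rw [map_mul, map_mul]; exact congrArg Subtype.val h
  have := congrArg (fun σ : Perm (ZMod p × ZMod p) => (σ (0, 0)).2) (hf h')
  simp [s, u] at this

/-- The Sylow order. -/
theorem card_sylow (hp2 : p ≠ 2) (hn : n < p * p) (P : Sylow p (alternatingGroup (Fin n))) :
    Nat.card P = p ^ (n / p) := by
  classical
  rw [Sylow.card_eq_multiplicity]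
  congr 1
  rcases Nat.lt_or_ge n 2 with h2 | h2
  · have : Nat.card (alternatingGroup (Fin n)) = 1 := by
      haveI : Subsingleton (Fin n) := Fin.subsingleton_iff_le_one.2 (by omega)
      haveI : Subsingleton (Perm (Fin n)) := inferInstance
      exact Nat.card_unique
    rw [this, Nat.factorization_one, Finsupp.coe_zero, Pi.zero_apply]
    exact (Nat.div_eq_of_lt (lt_of_lt_of_le h2 hp.out.two_le)).symm
  haveI : Nontrivial (Fin n) := Fin.nontrivial_iff_two_le.2 h2
  have hc : 2 * Nat.card (alternatingGroup (Fin n)) = n.factorial := by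
    rw [Nat.card_eq_fintype_card, two_mul_card_alternatingGroup, Fintype.card_perm, Fintype.card_fin]
  have h := congrArg (fun m => m.factorization p) hc
  simp only [Nat.factorization_mul two_ne_zero Nat.card_pos.ne', Finsupp.add_apply,
    Nat.factorization_eq_zero_of_not_dvd (fun h => hp2 ((Nat.prime_dvd_prime_iff_eq hp.out Nat.prime_two).1 h)),
    zero_add] at h
  rw [h, Nat.factorization_factorial hp.out (show Nat.log p n < 2 from Nat.log_lt_of_lt_pow (by omega) (by rwa [pow_two]))]
  simp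

/-- An element inverting two cycles. -/
theorem exists_inverting (hp2 : p ≠ 2) (hn : n < p * p) (h2k : 2 ≤ n / p)
    (P : Sylow p (alternatingGroup (Fin n))) :
    ∃ t : alternatingGroup (Fin n), t * t = 1 ∧
      t ∈ Subgroup.normalizer ((P : Subgroup (alternatingGroup (Fin n))) : Set (alternatingGroup (Fin n))) ∧
      t ∉ Subgroup.centralizer ((P : Subgroup (alternatingGroup (Fin n))) : Set (alternatingGroup (Fin n))) := by
  classical
  haveI : NeZero p := ⟨hp.out.ne_zero⟩
  set k := n / p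
  let ι : ZMod p × Fin k ↪ Fin n :=
    (Fintype.equivFin _).toEmbedding.trans (Fin.castLEEmb (by
      rw [Fintype.card_prod, ZMod.card, Fintype.card_fin]; exact Nat.mul_div_le n p))
  let f : Perm (ZMod p × Fin k) →* Perm (Fin n) := Perm.viaEmbeddingHom ι
  have hf : Function.Injective f := Perm.viaEmbeddingHom_injective ι
  let τ : Multiplicative (Fin k → ZMod p) →* Perm (ZMod p × Fin k) :=
    MonoidHom.mk' (fun v =>
      { toFun := fun x => (x.1 + Multiplicative.toAdd v x.2, x.2)
        invFun := fun x => (x.1 - Multiplicative.toAdd v x.2, x.2)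
        left_inv := fun x => by simp
        right_inv := fun x => by simp }) fun v w => Equiv.ext fun x => by
      simp only [toAdd_mul, Pi.add_apply, Equiv.coe_fn_mk, Perm.mul_apply, Prod.mk.injEq, and_true]
      abel
  have hτ : ∀ v x, τ v x = (x.1 + Multiplicative.toAdd v x.2, x.2) := fun v x => rfl
  have hτinj : Function.Injective τ := fun v w h => Multiplicative.toAdd.injective (funext fun c => by
    have := congrArg (fun σ : Perm (ZMod p × Fin k) => (σ (0, c)).1) h
    simpa [hτ] using this)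
  have hmem : ∀ v, f (τ v) ∈ alternatingGroup (Fin n) := fun v => by
    rw [Perm.mem_alternatingGroup]
    have hv : v ^ p = 1 := Multiplicative.toAdd.injective (funext fun c => by simp [toAdd_pow])
    have h1 := congrArg (fun w => Perm.sign (f (τ w))) hv
    simp only [map_pow, map_one] at h1
    rcases Int.units_eq_one_or (Perm.sign (f (τ v))) with h | h
    · exact h
    · rw [h, (hp.out.odd_of_ne_two hp2).neg_one_pow] at h1
      exact absurd h1 (by decide)
  let T : Multiplicative (Fin k → ZMod p) →* alternatingGroup (Fin n) := (f.comp τ).codRestrict _ hmem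
  have hTv : ∀ v, (T v : Perm (Fin n)) = f (τ v) := fun v => rfl
  have hTinj : Function.Injective T := fun v w h => hτinj (hf (by rw [← hTv, ← hTv, h]))
  let Q : Sylow p (alternatingGroup (Fin n)) := Sylow.ofCard T.range (by
    rw [← Nat.card_congr (MonoidHom.ofInjective hTinj).toEquiv, Nat.card_congr Multiplicative.toAdd, Nat.card_fun,
      Nat.card_zmod, Nat.card_eq_fintype_card, Fintype.card_fin, ← Sylow.card_eq_multiplicity P, card_sylow hp2 hn P])
  -- negation on two of the cycles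
  let neg : Fin k → Perm (ZMod p × Fin k) := fun c =>
    { toFun := fun x => (if x.2 = c then -x.1 else x.1, x.2)
      invFun := fun x => (if x.2 = c then -x.1 else x.1, x.2)
      left_inv := fun x => by obtain ⟨a, b⟩ := x; by_cases h : b = c <;> simp [h]
      right_inv := fun x => by obtain ⟨a, b⟩ := x; by_cases h : b = c <;> simp [h] }
  set c0 : Fin k := ⟨0, by omega⟩
  set c1 : Fin k := ⟨1, by omega⟩
  have hc01 : c0 ≠ c1 := by simp [c0, c1, Fin.ext_iff]
  set t₀ := neg c0 * neg c1
  have ht₀ : ∀ x, t₀ x = (if x.2 = c0 ∨ x.2 = c1 then -x.1 else x.1, x.2) := fun x => by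
    by_cases h0 : x.2 = c0 <;> by_cases h1 : x.2 = c1
    · exact absurd (h0.symm.trans h1) hc01
    · simp [t₀, neg, h0, hc01]
    · simp [t₀, neg, h1, Ne.symm hc01]
    · simp [t₀, neg, h0, h1]
  have hsign : f t₀ ∈ alternatingGroup (Fin n) := by
    rw [Perm.mem_alternatingGroup]
    let sw : Perm (ZMod p × Fin k) := Equiv.prodCongr (Equiv.refl _) (Equiv.swap c0 c1)
    have hconj : neg c1 = sw * neg c0 * sw⁻¹ := by
      ext x : 1
      simp only [Perm.mul_apply, Perm.coe_inv, sw, Equiv.prodCongr_symm, Equiv.refl_symm, Equiv.symm_swap,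
        Equiv.prodCongr_apply, Prod.map, Equiv.refl_apply, neg, Equiv.coe_fn_mk]
      by_cases h1 : x.2 = c1
      · simp [h1, hc01]
      · by_cases h0 : x.2 = c0
        · simp [h0, Ne.symm hc01, hc01]
        · simp [h1, h0, Equiv.swap_apply_of_ne_of_ne h0 h1]
    show Perm.sign (f (neg c0 * neg c1)) = 1
    rw [hconj, map_mul, map_mul, map_mul, map_mul, map_mul, map_mul, map_inv, map_inv,
      mul_right_comm (Perm.sign (f sw)), mul_inv_cancel, one_mul, Int.units_mul_self]
  set t : alternatingGroup (Fin n) := ⟨f t₀, hsign⟩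
  have ht2 : t₀ * t₀ = 1 := Equiv.ext fun x => by
    rw [Perm.mul_apply, ht₀, ht₀]
    by_cases h : x.2 = c0 ∨ x.2 = c1 <;> simp [h]
  have htt : t * t = 1 := Subtype.ext (by
    show f t₀ * f t₀ = 1
    rw [← map_mul, ht2, map_one])
  have hconjT : ∀ v, t * T v * t⁻¹ =
      T (Multiplicative.ofAdd fun c => if c = c0 ∨ c = c1 then -Multiplicative.toAdd v c else Multiplicative.toAdd v c) :=
    fun v => Subtype.ext (by
      rw [inv_eq_of_mul_eq_one_right htt]
      show f t₀ * f (τ v) * f t₀ = f (τ _)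
      rw [← map_mul, ← map_mul]
      refine congrArg f (Equiv.ext fun x => ?_)
      rw [Perm.mul_apply, Perm.mul_apply, ht₀, hτ, ht₀, hτ]
      by_cases h : x.2 = c0 ∨ x.2 = c1
      · simp [h]; abel
      · simp [h])
  obtain ⟨g, hg⟩ := MulAction.exists_smul_eq (alternatingGroup (Fin n)) Q P
  have hP : ∀ x, x ∈ (P : Subgroup (alternatingGroup (Fin n))) ↔ ∃ v, g * T v * g⁻¹ = x := fun x => by
    rw [← hg]
    constructor
    · rintro ⟨_, ⟨v, rfl⟩, rfl⟩; exact ⟨v, rfl⟩
    · rintro ⟨v, rfl⟩; exact ⟨T v, ⟨v, rfl⟩, rfl⟩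
  refine ⟨g * t * g⁻¹, ?_, ?_, ?_⟩
  · rw [show g * t * g⁻¹ * (g * t * g⁻¹) = g * (t * t) * g⁻¹ by group, htt]; group
  · have hinv : (g * t * g⁻¹)⁻¹ = g * t * g⁻¹ := by
      rw [mul_inv_rev, mul_inv_rev, inv_inv, inv_eq_of_mul_eq_one_right htt, mul_assoc]
    have key : ∀ x ∈ (P : Subgroup (alternatingGroup (Fin n))), g * t * g⁻¹ * x * (g * t * g⁻¹)⁻¹ ∈
        (P : Subgroup (alternatingGroup (Fin n))) := fun x hx => by
      obtain ⟨v, rfl⟩ := (hP x).1 hx
      rw [show g * t * g⁻¹ * (g * T v * g⁻¹) * (g * t * g⁻¹)⁻¹ = g * (t * T v * t⁻¹) * g⁻¹ by group, hconjT]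
      exact (hP _).2 ⟨_, rfl⟩
    rw [Subgroup.mem_normalizer_iff]
    refine fun x => ⟨key x, fun hx => ?_⟩
    have := key _ hx
    rw [hinv] at this
    have hss : g * t * g⁻¹ * (g * t * g⁻¹) = 1 := by
      rw [show g * t * g⁻¹ * (g * t * g⁻¹) = g * (t * t) * g⁻¹ by group, htt]; group
    rwa [show g * t * g⁻¹ * (g * t * g⁻¹ * x * (g * t * g⁻¹)) * (g * t * g⁻¹) =
        (g * t * g⁻¹ * (g * t * g⁻¹)) * x * (g * t * g⁻¹ * (g * t * g⁻¹)) by simp only [mul_assoc],
      hss, one_mul, mul_one] at this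
  · intro hc
    set v : Multiplicative (Fin k → ZMod p) := Multiplicative.ofAdd fun c => if c = c0 then 1 else 0
    have h := Subgroup.mem_centralizer_iff.1 hc (g * T v * g⁻¹) ((hP _).2 ⟨v, rfl⟩)
    have h' : t * T v * t⁻¹ = T v := by
      rw [mul_inv_eq_iff_eq_mul]
      have := congrArg (fun y => g⁻¹ * y * g) h
      simpa [mul_assoc] using this.symm
    rw [hconjT] at h'
    have h2 := congrArg (fun w : Multiplicative (Fin k → ZMod p) => Multiplicative.toAdd w c0) (hTinj h')
    simp [v] at h2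
    have hp3 : 2 < p := lt_of_le_of_ne hp.out.two_le (Ne.symm hp2)
    haveI : Fact (2 < p) := ⟨hp3⟩
    exact ZMod.neg_one_ne_one h2

theorem two_dvd_index {G : Type*} [Group G] [Finite G] (P : Subgroup G) {t : G} (ht2 : t * t = 1)
    (ht : t ∈ Subgroup.normalizer (P : Set G)) (htc : t ∉ Subgroup.centralizer (P : Set G)) :
    2 ∣ ((Subgroup.centralizer (P : Set G)).subgroupOf (Subgroup.normalizer (P : Set G))).index := by
  have hN : ((Subgroup.centralizer (P : Set G)).subgroupOf (Subgroup.normalizer (P : Set G))).Normal := by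
    rw [← P.normalizerMonoidHom_ker]; infer_instance
  by_contra h
  have h2 : (⟨t, ht⟩ : Subgroup.normalizer (P : Set G)) ^ 2 = 1 := Subtype.ext (by rw [pow_two]; exact ht2)
  have h1 := Subgroup.pow_index_mem ((Subgroup.centralizer (P : Set G)).subgroupOf (Subgroup.normalizer (P : Set G)))
    (⟨t, ht⟩ : Subgroup.normalizer (P : Set G))
  obtain ⟨j, hj⟩ := Nat.odd_iff.2 (Nat.two_dvd_ne_zero.1 h)
  rw [hj, pow_succ, pow_mul, h2, one_pow, one_mul] at h1
  exact htc h1

/-- For `n ≥ 6` a Sylow `2`-subgroup is non-abelian. -/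
theorem not_comm_two (hn : 6 ≤ n) (P : Sylow 2 (alternatingGroup (Fin n))) :
    ¬ IsMulCommutative (P : Subgroup (alternatingGroup (Fin n))) := by
  intro hP
  let f : Perm (Fin 6) →* Perm (Fin n) := Perm.viaEmbeddingHom (Fin.castLEEmb hn)
  have hf : Function.Injective f := Perm.viaEmbeddingHom_injective _
  have hsurj : ∀ x : Perm (Fin 6), (∀ i, (i = 4 ∨ i = 5) → (x i = 4 ∨ x i = 5)) →
      ∀ i, (i = 4 ∨ i = 5) → ∃ j, (j = 4 ∨ j = 5) ∧ x j = i := by decide +kernel
  have hfour : ∀ x : Perm (Fin 6), Perm.sign x = 1 →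
      (∀ i, x (![2, 3, 0, 1, 4, 5] i) = ![2, 3, 0, 1, 4, 5] (x i)) →
      (∀ i, (i = 4 ∨ i = 5) → (x i = 4 ∨ x i = 5)) → x ^ 2 ^ 2 = 1 := by decide +kernel
  let H : Subgroup (Perm (Fin 6)) :=
    { carrier := {x | Perm.sign x = 1 ∧ (∀ i, x (![2, 3, 0, 1, 4, 5] i) = ![2, 3, 0, 1, 4, 5] (x i)) ∧
        ∀ i, (i = 4 ∨ i = 5) → (x i = 4 ∨ x i = 5)}
      one_mem' := by decide
      mul_mem' := fun {x y} ⟨a, b, c⟩ ⟨a', b', c'⟩ => ⟨by simp [a, a'], fun i => by
        rw [Perm.mul_apply, Perm.mul_apply, b', b], fun i hi => c _ (c' i hi)⟩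
      inv_mem' := fun {x} ⟨a, b, c⟩ => by
        refine ⟨by simp [a], fun i => x.injective ?_, fun i hi => ?_⟩
        · rw [b]; simp
        · obtain ⟨j, hj, hji⟩ := hsurj x c i hi
          rw [← hji]; simpa using hj }
  have hH : IsPGroup 2 H := fun x => ⟨2, by
    obtain ⟨x, hx⟩ := x
    refine Subtype.ext ?_
    show x ^ 2 ^ 2 = 1
    exact hfour x hx.1 hx.2.1 hx.2.2⟩
  let F : H →* alternatingGroup (Fin n) :=
    MonoidHom.mk' (fun w => ⟨f w.1, by
      rw [Perm.mem_alternatingGroup]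
      show Perm.sign (Perm.viaEmbedding w.1 (Fin.castLEEmb hn)) = 1
      rw [Perm.viaEmbedding, Perm.sign_extendDomain]
      exact w.2.1⟩) fun a b => Subtype.ext (map_mul f a.1 b.1)
  haveI : Fact (Nat.Prime 2) := ⟨Nat.prime_two⟩
  have hH' : IsPGroup 2 F.range := hH.of_surjective F.rangeRestrict F.rangeRestrict_surjective
  let r : Perm (Fin 6) := c[0, 1, 2, 3] * c[4, 5]
  let s : Perm (Fin 6) := c[0, 2] * c[4, 5]
  have hr : r ∈ H := ⟨by decide +kernel, by decide +kernel, by decide +kernel⟩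
  have hs : s ∈ H := ⟨by decide +kernel, by decide +kernel, by decide +kernel⟩
  have h := comm_of_conj_le P hP hH' (MonoidHom.mem_range.2 ⟨⟨r, hr⟩, rfl⟩) (MonoidHom.mem_range.2 ⟨⟨s, hs⟩, rfl⟩)
  have hFv : ∀ w : H, (F w : Perm (Fin n)) = f w.1 := fun w => rfl
  have h' : f (r * s) = f (s * r) := by
    have e := congrArg Subtype.val h
    rw [Subgroup.coe_mul, Subgroup.coe_mul, hFv, hFv] at e
    exact ((map_mul f r s).trans e).trans (map_mul f s r).symm
  exact absurd (hf h') (by decide +kernel)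

/-- The alternating group of degree five at the prime two. -/
theorem five_two (P : Sylow 2 (alternatingGroup (Fin 5))) :
    ((Subgroup.centralizer ((P : Subgroup (alternatingGroup (Fin 5))) : Set (alternatingGroup (Fin 5)))).subgroupOf
      (Subgroup.normalizer ((P : Subgroup (alternatingGroup (Fin 5))) : Set (alternatingGroup (Fin 5))))).index = 3 ∧
    IsKleinFour (P : Subgroup (alternatingGroup (Fin 5))) := by
  classical
  haveI : Fact (Nat.Prime 2) := ⟨Nat.prime_two⟩
  have hA : Nat.card (alternatingGroup (Fin 5)) = 60 := by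
    rw [Nat.card_eq_fintype_card]; decide +kernel
  let S : Subgroup (alternatingGroup (Fin 5)) :=
    { carrier := {x | x.1 4 = 4 ∧ x.1 * x.1 = 1}
      one_mem' := by decide
      mul_mem' := fun {x y} hx hy => by revert hx hy; revert x y; decide +kernel
      inv_mem' := fun {x} hx => by revert hx; revert x; decide +kernel }
  have hS : Nat.card S = 4 := by
    show Nat.card {x : alternatingGroup (Fin 5) // x.1 4 = 4 ∧ x.1 * x.1 = 1} = 4
    rw [Nat.card_eq_fintype_card]; decide +kernel
  let Q : Sylow 2 (alternatingGroup (Fin 5)) := Sylow.ofCard S (by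
    rw [hS, hA, show (60 : ℕ) = 2 ^ 2 * 15 by norm_num, Nat.factorization_mul (by norm_num) (by norm_num),
      Finsupp.add_apply, Nat.Prime.factorization_pow Nat.prime_two,
      Nat.factorization_eq_zero_of_not_dvd (by norm_num : ¬ 2 ∣ 15)]
    simp)
  obtain ⟨g, hg⟩ := MulAction.exists_smul_eq (alternatingGroup (Fin 5)) Q P
  have hP : (P : Subgroup (alternatingGroup (Fin 5))) = S.map (MulAut.conj g).toMonoidHom := by rw [← hg]; rfl
  have hmem : ∀ x, x ∈ (P : Subgroup (alternatingGroup (Fin 5))) ↔ g⁻¹ * x * g ∈ S := fun x => by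
    rw [hP]
    constructor
    · rintro ⟨y, hy, rfl⟩
      simpa [mul_assoc] using hy
    · exact fun h => ⟨_, h, by simp [mul_assoc]⟩
  have hsq : ∀ x ∈ (P : Subgroup (alternatingGroup (Fin 5))), x * x = 1 := fun x hx => by
    have h : (g⁻¹ * x * g) * (g⁻¹ * x * g) = 1 := Subtype.ext ((hmem x).1 hx).2
    rw [show g⁻¹ * x * g * (g⁻¹ * x * g) = g⁻¹ * (x * x) * g by group] at h
    calc x * x = g * (g⁻¹ * (x * x) * g) * g⁻¹ := by group
      _ = 1 := by rw [h]; group
  have hK : IsKleinFour (P : Subgroup (alternatingGroup (Fin 5))) := by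
    have hc : Nat.card (P : Subgroup (alternatingGroup (Fin 5))) = 4 := by
      rw [hP, ← Nat.card_congr (S.equivMapOfInjective _ (MulAut.conj g).injective).toEquiv, hS]
    refine ⟨hc, ?_⟩
    haveI : Nontrivial (P : Subgroup (alternatingGroup (Fin 5))) := Finite.one_lt_card_iff_nontrivial.1 (by omega)
    exact (Monoid.exponent_eq_prime_iff Nat.prime_two).2 fun x hx =>
      orderOf_eq_prime (Subtype.ext (by rw [Subgroup.coe_pow, pow_two]; exact hsq x x.2)) hx
  refine ⟨?_, hK⟩
  set c := (MulAut.conj g⁻¹)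
  have hNc : Nat.card (Subgroup.normalizer ((P : Subgroup (alternatingGroup (Fin 5))) : Set (alternatingGroup (Fin 5)))) = 12 := by
    rw [Nat.card_congr (β := {x : alternatingGroup (Fin 5) // ∀ v, (v.1 4 = 4 ∧ v.1 * v.1 = 1) ↔
        ((x * v * x⁻¹).1 4 = 4 ∧ (x * v * x⁻¹).1 * (x * v * x⁻¹).1 = 1)}) ((c.toEquiv).subtypeEquiv fun y => ?_),
      Nat.card_eq_fintype_card]
    · decide +kernel
    · rw [Subgroup.mem_normalizer_iff]
      constructor
      · intro h v
        have := h (g * v * g⁻¹)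
        rw [hmem, hmem] at this
        simp only [c, MulEquiv.toEquiv_eq_coe, MulEquiv.coe_toEquiv, MulAut.conj_apply, inv_inv]
        rw [show g⁻¹ * (g * v * g⁻¹) * g = v by group] at this
        rw [show g⁻¹ * y * g * v * (g⁻¹ * y * g)⁻¹ = g⁻¹ * (y * (g * v * g⁻¹) * y⁻¹) * g by group]
        exact this
      · intro h v
        rw [hmem, hmem]
        have := h (g⁻¹ * v * g)
        simp only [c, MulEquiv.toEquiv_eq_coe, MulEquiv.coe_toEquiv, MulAut.conj_apply, inv_inv] at this
        rw [show g⁻¹ * y * g * (g⁻¹ * v * g) * (g⁻¹ * y * g)⁻¹ = g⁻¹ * (y * v * y⁻¹) * g by group] at this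
        exact this
  have hCc : Nat.card (Subgroup.centralizer ((P : Subgroup (alternatingGroup (Fin 5))) : Set (alternatingGroup (Fin 5)))) = 4 := by
    rw [Nat.card_congr (β := {x : alternatingGroup (Fin 5) // ∀ v, (v.1 4 = 4 ∧ v.1 * v.1 = 1) → v * x = x * v})
      ((c.toEquiv).subtypeEquiv fun y => ?_), Nat.card_eq_fintype_card]
    · decide +kernel
    · rw [Subgroup.mem_centralizer_iff]
      simp only [c, MulEquiv.toEquiv_eq_coe, MulEquiv.coe_toEquiv, MulAut.conj_apply, inv_inv]
      constructor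
      · intro h v hv
        have := h (g * v * g⁻¹) ((hmem _).2 (by rw [show g⁻¹ * (g * v * g⁻¹) * g = v by group]; exact hv))
        calc v * (g⁻¹ * y * g) = g⁻¹ * (g * v * g⁻¹ * y) * g := by group
          _ = g⁻¹ * (y * (g * v * g⁻¹)) * g := by rw [this]
          _ = g⁻¹ * y * g * v := by group
      · intro h v hv
        have := h _ ((hmem v).1 hv)
        calc v * y = g * (g⁻¹ * v * g * (g⁻¹ * y * g)) * g⁻¹ := by group
          _ = g * (g⁻¹ * y * g * (g⁻¹ * v * g)) * g⁻¹ := by rw [this]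
          _ = y * v := by group
  have hle : Subgroup.centralizer ((P : Subgroup (alternatingGroup (Fin 5))) : Set (alternatingGroup (Fin 5))) ≤
      Subgroup.normalizer ((P : Subgroup (alternatingGroup (Fin 5))) : Set (alternatingGroup (Fin 5))) :=
    Subgroup.centralizer_le_normalizer _
  have h := Subgroup.card_mul_index ((Subgroup.centralizer ((P : Subgroup (alternatingGroup (Fin 5))) :
    Set (alternatingGroup (Fin 5)))).subgroupOf (Subgroup.normalizer ((P : Subgroup (alternatingGroup (Fin 5))) :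
      Set (alternatingGroup (Fin 5)))))
  rw [Nat.card_congr (Subgroup.subgroupOfEquivOfLe hle).toEquiv, hCc, hNc] at h
  omega

end Cfsg.Agent.Lie.AltSylow
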