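import Mathlib
import Cfsg.Agent.Lib.Lie.BNPair

/-! Adjacency matrices of a (B,N)-pair on the chambers `G / B`. -/

set_option autoImplicit false

namespace Cfsg.Agent.Lie

open Matrix

variable {G : Type*} [Group G] (P : Cfsg.BNPair G)

/-- The position of a chamber relative to another one. -/
noncomputable def rel (x y : G ⧸ P.B) : Weyl P :=
  (exists_cell P (x.out⁻¹ * y.out)).choose

theorem rel_spec (x y : G ⧸ P.B) : x.out⁻¹ * y.out ∈ cell P (rel P x y) :=
  (exists_cell P (x.out⁻¹ * y.out)).choose_spec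

theorem rel_mk {g h : G} {w : Weyl P} :
    rel P (g : G ⧸ P.B) (h : G ⧸ P.B) = w ↔ g⁻¹ * h ∈ cell P w := by
  obtain ⟨b, hb⟩ := QuotientGroup.mk_out_eq_mul P.B g
  obtain ⟨d, hd⟩ := QuotientGroup.mk_out_eq_mul P.B h
  have hs := rel_spec P (g : G ⧸ P.B) (h : G ⧸ P.B)
  rw [hb, hd] at hs
  have key : g⁻¹ * h ∈ cell P (rel P (g : G ⧸ P.B) (h : G ⧸ P.B)) := by
    have := cell_mul_B P (inv_mem d.2) (cell_B_mul P b.2 hs)
    have e : (b : G) * ((g * b)⁻¹ * (h * d)) * (d : G)⁻¹ = g⁻¹ * h := by group
    rwa [e] at this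
  exact ⟨fun e => e ▸ key, fun hw => cell_unique P key hw⟩

theorem rel_self (x : G ⧸ P.B) : rel P x x = 1 := by
  obtain ⟨g, rfl⟩ := QuotientGroup.mk_surjective x
  rw [rel_mk, cell_one]
  simp

theorem rel_eq_one {x y : G ⧸ P.B} : rel P x y = 1 ↔ x = y := by
  refine ⟨fun h => ?_, fun h => h ▸ rel_self P x⟩
  obtain ⟨g, rfl⟩ := QuotientGroup.mk_surjective x
  obtain ⟨k, rfl⟩ := QuotientGroup.mk_surjective y
  rw [rel_mk, cell_one] at h
  exact QuotientGroup.eq.2 h

theorem rel_swap {x y : G ⧸ P.B} {w : Weyl P} (h : rel P x y = w) : rel P y x = w⁻¹ := by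
  obtain ⟨g, rfl⟩ := QuotientGroup.mk_surjective x
  obtain ⟨k, rfl⟩ := QuotientGroup.mk_surjective y
  rw [rel_mk] at h ⊢
  have := cell_inv P h
  rwa [_root_.mul_inv_rev, inv_inv] at this

theorem rel_smul (g : G) (x y : G ⧸ P.B) : rel P (g • x) (g • y) = rel P x y := by
  obtain ⟨a, rfl⟩ := QuotientGroup.mk_surjective x
  obtain ⟨b, rfl⟩ := QuotientGroup.mk_surjective y
  refine (rel_mk P).2 ?_
  have := (rel_mk P (g := a) (h := b)).1 rfl
  simpa [mul_assoc] using this

theorem rel_tri {s : P.S} {w : Weyl P} {x y z : G ⧸ P.B}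
    (h1 : rel P x y = refl P s) (h2 : rel P y z = w) :
    rel P x z = refl P s * w ∨ rel P x z = w := by
  obtain ⟨a, rfl⟩ := QuotientGroup.mk_surjective x
  obtain ⟨b, rfl⟩ := QuotientGroup.mk_surjective y
  obtain ⟨c, rfl⟩ := QuotientGroup.mk_surjective z
  rw [rel_mk] at h1 h2
  have h := cell_refl_mul P h1 h2
  rw [show a⁻¹ * b * (b⁻¹ * c) = a⁻¹ * c by group] at h
  exact h.imp (rel_mk P).2 (rel_mk P).2

theorem rel_tri_up {s : P.S} {w : Weyl P} (hlen : len P w ≤ len P (refl P s * w))
    {x y z : G ⧸ P.B} (h1 : rel P x y = refl P s) (h2 : rel P y z = w) :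
    rel P x z = refl P s * w := by
  obtain ⟨a, rfl⟩ := QuotientGroup.mk_surjective x
  obtain ⟨b, rfl⟩ := QuotientGroup.mk_surjective y
  obtain ⟨c, rfl⟩ := QuotientGroup.mk_surjective z
  rw [rel_mk] at h1 h2 ⊢
  have h := mul_cell_of_len_le P w hlen _ h1 _ h2
  rwa [show a⁻¹ * b * (b⁻¹ * c) = a⁻¹ * c by group] at h

theorem rel_split {s : P.S} {w : Weyl P} {x z : G ⧸ P.B}
    (h : rel P x z = refl P s * w) : ∃ y, rel P x y = refl P s ∧ rel P y z = w := by
  obtain ⟨a, rfl⟩ := QuotientGroup.mk_surjective x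
  obtain ⟨c, rfl⟩ := QuotientGroup.mk_surjective z
  obtain ⟨n, rfl⟩ := proj_surj P w
  rw [rel_mk, refl, ← map_mul, mem_cell_proj] at h
  obtain ⟨b₁, h₁, b₂, h₂, e⟩ := h
  refine ⟨((a * b₁ * s : G) : G ⧸ P.B), (rel_mk P).2 ?_, (rel_mk P).2 ?_⟩
  · rw [show a⁻¹ * (a * b₁ * s) = b₁ * (s : G) by group]
    exact cell_B_mul P h₁ (mem_cell_self P (sN P s))
  · have hc : c = a * (b₁ * ((s : G) * n) * b₂) := by
      have : a * (a⁻¹ * c) = a * (b₁ * ((s : G) * n) * b₂) := by rw [e]; rfl
      simpa using this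
    rw [hc, show (a * b₁ * (s : G))⁻¹ * (a * (b₁ * ((s : G) * n) * b₂)) = (n : G) * b₂ by group]
    exact cell_mul_B P h₂ (mem_cell_self P n)

theorem rel_split_unique {s : P.S} {w : Weyl P} (hlen : len P w < len P (refl P s * w))
    {x y y' z : G ⧸ P.B} (h1 : rel P x y = refl P s) (h2 : rel P y z = w)
    (h1' : rel P x y' = refl P s) (h2' : rel P y' z = w) : y = y' := by
  have hyx : rel P y x = refl P s := by rw [rel_swap P h1, refl_inv]
  rcases rel_tri P hyx h1' with h | h
  · rw [refl_mul_self] at h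
    exact (rel_eq_one P).1 h
  · have h3 := rel_tri_up P hlen.le h h2'
    rw [h2] at h3
    rw [← h3] at hlen
    exact absurd hlen (lt_irrefl _)

/-- Number of chambers adjacent to a chamber along `s`. -/
noncomputable def val (s : P.S) : ℕ :=
  Nat.card {y : G ⧸ P.B // rel P ((1 : G) : G ⧸ P.B) y = refl P s}

theorem card_rel (s : P.S) (x : G ⧸ P.B) :
    Nat.card {y : G ⧸ P.B // rel P x y = refl P s} = val P s := by
  obtain ⟨g, rfl⟩ := QuotientGroup.mk_surjective x
  refine Nat.card_congr ((Equiv.subtypeEquiv (MulAction.toPerm g) fun y => ?_).symm)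
  have h : g • ((1 : G) : G ⧸ P.B) = (g : G ⧸ P.B) := by
    show ((g * 1 : G) : G ⧸ P.B) = _
    rw [mul_one]
  rw [MulAction.toPerm_apply, ← h, rel_smul]

theorem two_le_val [Finite G] (s : P.S) : 2 ≤ val P s := by
  obtain ⟨x, hx, y, hy, hxy⟩ := exists_stay P s
  let e : G → Prop := fun u => rel P ((1 : G) : G ⧸ P.B) (u : G ⧸ P.B) = refl P s
  have h1 : e x := (rel_mk P).2 (by simpa using hx)
  have h2 : e (x * y) := (rel_mk P).2 (by simpa using hxy)
  have hne : (x : G ⧸ P.B) ≠ ((x * y : G) : G ⧸ P.B) := by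
    intro h
    have h3 : rel P (x : G ⧸ P.B) ((x * y : G) : G ⧸ P.B) = refl P s :=
      (rel_mk P).2 (by simpa using hy)
    rw [← h, rel_self] at h3
    exact refl_ne_one P s h3.symm
  rw [val]
  refine Nat.succ_le_of_lt (Finite.one_lt_card_iff_nontrivial.2 ⟨⟨_, h1⟩, ⟨_, h2⟩, ?_⟩)
  exact fun h => hne (congrArg Subtype.val h)

variable [Fintype (G ⧸ P.B)] [DecidableEq (G ⧸ P.B)]

open Classical in
/-- The adjacency matrix of a relative position. -/
noncomputable def adj (w : Weyl P) : Matrix (G ⧸ P.B) (G ⧸ P.B) ℂ :=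
  Matrix.of fun x y => if rel P x y = w then 1 else 0

theorem adj_one : adj P 1 = 1 := by
  ext x y
  by_cases h : x = y
  · subst h; simp [adj, rel_self]
  · simp [adj, rel_eq_one, h]

theorem adj_conjTranspose (w : Weyl P) : (adj P w)ᴴ = adj P w⁻¹ := by
  classical
  ext x y
  by_cases h : rel P y x = w
  · simp [adj, h, rel_swap P h]
  · have h' : rel P x y ≠ w⁻¹ := fun e => h (by simpa using rel_swap P e)
    simp [adj, h, h']

theorem adj_mul_apply (v w : Weyl P) (x z : G ⧸ P.B) :
    (adj P v * adj P w) x z = Nat.card {y : G ⧸ P.B // rel P x y = v ∧ rel P y z = w} := by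
  classical
  simp only [Matrix.mul_apply, adj, Matrix.of_apply]
  rw [Nat.card_eq_fintype_card, Fintype.card_subtype, Finset.natCast_card_filter]
  exact Finset.sum_congr rfl fun y _ => by
    by_cases h1 : rel P x y = v <;> by_cases h2 : rel P y z = w <;> simp [h1, h2]

theorem adj_mul {s : P.S} {w : Weyl P} (hlen : len P w < len P (refl P s * w)) :
    adj P (refl P s) * adj P w = adj P (refl P s * w) := by
  classical
  ext x z
  rw [adj_mul_apply]
  by_cases h : rel P x z = refl P s * w
  · obtain ⟨y, h1, h2⟩ := rel_split P h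
    have : Nat.card {y : G ⧸ P.B // rel P x y = refl P s ∧ rel P y z = w} = 1 :=
      Nat.card_eq_one_iff_unique.2
        ⟨⟨fun a b => Subtype.ext (rel_split_unique P hlen a.2.1 a.2.2 b.2.1 b.2.2)⟩,
          ⟨⟨y, h1, h2⟩⟩⟩
    rw [this]
    simp [adj, h]
  · have : IsEmpty {y : G ⧸ P.B // rel P x y = refl P s ∧ rel P y z = w} :=
      ⟨fun a => h (rel_tri_up P hlen.le a.2.1 a.2.2)⟩
    simp [adj, h]

theorem adj_sq (s : P.S) :
    adj P (refl P s) * adj P (refl P s) =
      ((val P s : ℂ) - 1) • adj P (refl P s) + (val P s : ℂ) • 1 := by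
  classical
  ext x z
  rw [adj_mul_apply]
  by_cases hxz : x = z
  · subst hxz
    have e : Nat.card {y : G ⧸ P.B // rel P x y = refl P s ∧ rel P y x = refl P s} = val P s := by
      rw [← card_rel P s x]
      exact Nat.card_congr (Equiv.subtypeEquivRight fun y =>
        ⟨And.left, fun h => ⟨h, by rw [rel_swap P h, refl_inv]⟩⟩)
    rw [e]
    simp [adj, rel_self, Ne.symm (refl_ne_one P s)]
  by_cases h : rel P x z = refl P s
  · have e : Nat.card {y : G ⧸ P.B // rel P x y = refl P s ∧ rel P y z = refl P s} + 1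
        = val P s := by
      rw [← card_rel P s x]
      have hiff : ∀ y, y ≠ z → rel P x y = refl P s → rel P y z = refl P s := by
        intro y hy hxy
        have hyx : rel P y x = refl P s := by rw [rel_swap P hxy, refl_inv]
        rcases rel_tri P hyx h with h' | h'
        · rw [refl_mul_self] at h'
          exact absurd ((rel_eq_one P).1 h') hy
        · exact h'
      have : {y : G ⧸ P.B | rel P x y = refl P s} =
          insert z {y : G ⧸ P.B | rel P x y = refl P s ∧ rel P y z = refl P s} := by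
        ext y
        by_cases hy : y = z
        · subst hy; simp [h]
        · simp only [Set.mem_setOf_eq, Set.mem_insert_iff, hy, false_or]
          exact ⟨fun h' => ⟨h', hiff y hy h'⟩, And.left⟩
      have hc := congrArg Set.ncard this
      rw [Set.ncard_insert_of_notMem (fun hz => refl_ne_one P s
        (by simpa [rel_self] using hz.2.symm)) (Set.toFinite _)] at hc
      rw [← Nat.card_coe_set_eq, ← Nat.card_coe_set_eq] at hc
      exact hc.symm
    rw [← e]
    simp [adj, h, hxz]
  · have : IsEmpty {y : G ⧸ P.B // rel P x y = refl P s ∧ rel P y z = refl P s} := by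
      refine ⟨fun a => ?_⟩
      rcases rel_tri P a.2.1 a.2.2 with h' | h'
      · rw [refl_mul_self] at h'
        exact hxz ((rel_eq_one P).1 h')
      · exact h h'
    simp [adj, h, hxz]

theorem trace_adj {w : Weyl P} (hw : w ≠ 1) : (adj P w).trace = 0 := by
  classical
  exact Finset.sum_eq_zero fun x _ => by simp [adj, rel_self, hw.symm]

theorem trace_adj_mul {v w : Weyl P} (h : w ≠ v⁻¹) : (adj P v * adj P w).trace = 0 := by
  refine Finset.sum_eq_zero fun x _ => ?_
  have : IsEmpty {y : G ⧸ P.B // rel P x y = v ∧ rel P y x = w} :=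
    ⟨fun a => h (a.2.2 ▸ rel_swap P a.2.1)⟩
  show (adj P v * adj P w) x x = 0
  simp [adj_mul_apply]

/-- Product of adjacency matrices along a word. -/
noncomputable def mprod (l : List P.S) : Matrix (G ⧸ P.B) (G ⧸ P.B) ℂ :=
  (l.map fun s => adj P (refl P s)).prod

theorem mprod_append (l k : List P.S) : mprod P (l ++ k) = mprod P l * mprod P k := by
  simp [mprod]

theorem mprod_singleton (s : P.S) : mprod P [s] = adj P (refl P s) := by simp [mprod]

theorem mprod_eq : ∀ l : List P.S, len P (wprod P l) = l.length →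
    mprod P l = adj P (wprod P l)
  | [], _ => by simp [mprod, adj_one]
  | s :: l, h => by
    have h1 := len_le P l
    have h2 := len_refl_mul_le P s (wprod P l)
    simp only [wprod_cons, List.length_cons] at h
    have hl : len P (wprod P l) = l.length := by omega
    rw [wprod_cons, ← adj_mul P (show len P (wprod P l) < len P (refl P s * wprod P l) by omega),
      ← mprod_eq l hl]
    simp [mprod]

theorem trace_norm : ∀ l : List P.S, len P (wprod P l) = l.length →
    (adj P (wprod P l) * adj P (wprod P l)⁻¹).trace =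
      Fintype.card (G ⧸ P.B) * ((l.map (val P)).prod : ℕ)
  | [], _ => by simp [adj_one]
  | s :: l, h => by
    have h1 := len_le P l
    have h2 := len_refl_mul_le P s (wprod P l)
    simp only [wprod_cons, List.length_cons] at h
    have hl : len P (wprod P l) = l.length := by omega
    set w := wprod P l
    have hup : len P w < len P (refl P s * w) := by omega
    have e : adj P (refl P s * w)⁻¹ = adj P w⁻¹ * adj P (refl P s) := by
      rw [← adj_conjTranspose, ← adj_mul P hup, Matrix.conjTranspose_mul, adj_conjTranspose,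
        adj_conjTranspose, refl_inv]
    have hne : w⁻¹ ≠ (refl P s * w)⁻¹ := fun he =>
      refl_ne_one P s (by simpa using (inv_injective he).symm)
    rw [wprod_cons, e, ← adj_mul P hup, mul_assoc, Matrix.trace_mul_comm, mul_assoc, mul_assoc,
      adj_sq, mul_add, mul_add, mul_smul_comm, mul_smul_comm, mul_smul_comm, mul_smul_comm,
      mul_one, Matrix.trace_add, Matrix.trace_smul, Matrix.trace_smul, trace_norm l hl,
      ← mul_assoc, Matrix.trace_mul_comm, ← mul_assoc, adj_mul P hup,
      trace_adj_mul P hne]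
    simp only [smul_zero, zero_add, smul_eq_mul, List.map_cons, List.prod_cons, Nat.cast_mul]
    ring

end Cfsg.Agent.Lie
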