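import Cfsg.Agent.Lib.Lie.BNPair

/-! Extending a homomorphism from the Borel subgroup of a (B,N)-pair to the whole group: it is
enough that it is compatible with each of the distinguished generators. -/

set_option autoImplicit false

namespace Cfsg.Agent.Lie

variable {G : Type*} [Group G] (P : Cfsg.BNPair G) {A : Type*} [CommGroup A]

/-- The conditions for extending a homomorphism of `B` trivially on the representatives. -/
structure Extendable (χ : ↥P.B →* A) : Prop where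
  torus : ∀ h : ↥P.B, (h : G) ∈ P.N → χ h = 1
  conj : ∀ s : P.S, ∀ b c : ↥P.B, (s : G) * b * (s : G)⁻¹ = c → χ c = χ b
  rel : ∀ s : P.S, ∀ b b' b'' : ↥P.B, (s : G) * b * s = b' * (s : G) * b'' → χ b = χ b' * χ b''

theorem mul_cell_of_len_le_right {w : Weyl P} {s : P.S}
    (hle : len P w ≤ len P (w * refl P s)) {x y : G} (hx : x ∈ cell P w)
    (hy : y ∈ cell P (refl P s)) : x * y ∈ cell P (w * refl P s) := by
  have h := mul_cell_of_len_le P w⁻¹ (s := s)
    (by rw [len_inv, ← len_inv P (refl P s * w⁻¹)]; simpa [refl_inv] using hle) y⁻¹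
    (by simpa [refl_inv] using cell_inv P hy) x⁻¹ (cell_inv P hx)
  simpa [refl_inv] using cell_inv P h

/-- A product of two elements of one generator's double coset. -/
theorem mem_B_or_cell (s : P.S) {x y : G} (hx : x ∈ cell P (refl P s))
    (hy : y ∈ cell P (refl P s)) : x * y ∈ P.B ∨ x * y ∈ cell P (refl P s) := by
  rcases cell_refl_mul P hx hy with h | h
  · exact Or.inl (by rwa [refl_mul_self, cell_one] at h)
  · exact Or.inr h

theorem inv_mem_cell_refl (s : P.S) : (s : G)⁻¹ ∈ cell P (refl P s) := by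
  have h : ((sN P s : P.N) : G)⁻¹ ∈ cell P (refl P s)⁻¹ := cell_inv P (mem_cell_self P (sN P s))
  rwa [refl_inv] at h

namespace Extendable

variable {P} {χ : ↥P.B →* A} (hχ : Extendable P χ)

include hχ

/-- Compatibility with every element of `N`. -/
theorem conj_N (n : P.N) (b c : ↥P.B) (e : (b : G) * n = n * c) : χ b = χ c := by
  induction hk : len P (proj P n) using Nat.strong_induction_on generalizing n b c with
  | _ k ih =>
    subst hk
    by_cases hw : proj P n = 1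
    · have hn : (n : G) ∈ P.B := (proj_eq_one P).1 hw
      have e' : b * ⟨n, hn⟩ = ⟨n, hn⟩ * c := Subtype.ext e
      have h := congrArg χ e'
      rwa [map_mul, map_mul, hχ.torus ⟨n, hn⟩ n.2, mul_one, one_mul] at h
    obtain ⟨s, hs⟩ := exists_first P _ hw
    obtain ⟨m, hm⟩ : ∃ m : P.N, m = (sN P s)⁻¹ * n := ⟨_, rfl⟩
    have hpm : proj P m = refl P s * proj P n := by
      rw [hm, map_mul, map_inv]
      show (refl P s)⁻¹ * _ = _
      rw [refl_inv]
    have hmG : (m : G) = (s : G)⁻¹ * n := by rw [hm]; rfl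
    have ex : (s : G)⁻¹ * b * s * m = m * c := by
      rw [hmG, show (s : G)⁻¹ * b * s * ((s : G)⁻¹ * n) = (s : G)⁻¹ * (b * n) by group, e]
      group
    have hxB : (s : G)⁻¹ * b * s ∈ P.B := by
      rcases mem_B_or_cell P s (cell_mul_B P b.2 (inv_mem_cell_refl P s))
        (mem_cell_self P (sN P s)) with h | h
      · exact h
      · exfalso
        have h1 := mul_cell_of_len_le P (proj P m) (s := s)
          (by rw [hpm, refl_cancel]; omega) _ h _ (mem_cell_self P m)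
        have h2 := cell_mul_B P c.2 (mem_cell_self P m)
        rw [← ex] at h2
        have h3 := cell_unique P h1 h2
        rw [hpm, refl_cancel] at h3
        rw [← h3] at hs
        omega
    have h1 := ih _ (by rw [hpm]; omega) m ⟨_, hxB⟩ c ex rfl
    rw [← h1]
    exact hχ.conj s ⟨_, hxB⟩ b (by group)

/-- Two ways to write an element give the same value. -/
theorem well_defined {n n' : P.N} {b₁ b₂ c₁ c₂ : ↥P.B}
    (e : (b₁ : G) * n * b₂ = c₁ * n' * c₂) : χ b₁ * χ b₂ = χ c₁ * χ c₂ := by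
  have hp : proj P n = proj P n' :=
    cell_unique P (cell_mul_B P b₂.2 (cell_B_mul P b₁.2 (mem_cell_self P n)))
      (e ▸ cell_mul_B P c₂.2 (cell_B_mul P c₁.2 (mem_cell_self P n')))
  obtain ⟨h, hh⟩ : ∃ h : ↥P.B, h = ⟨_, (proj_eq P).1 hp⟩ := ⟨_, rfl⟩
  have hhN : (h : G) ∈ P.N := by rw [hh]; exact P.N.mul_mem (inv_mem n.2) n'.2
  have key := hχ.conj_N n (c₁⁻¹ * b₁) (h * c₂ * b₂⁻¹) (by
    rw [hh]
    simp only [Subgroup.coe_mul, Subgroup.coe_inv]
    rw [show (c₁ : G)⁻¹ * b₁ * n = (c₁ : G)⁻¹ * ((b₁ : G) * n * b₂) * (b₂ : G)⁻¹ by group, e]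
    group)
  simp only [map_mul, map_inv, hχ.torus h hhN, one_mul] at key
  rw [inv_mul_eq_iff_eq_mul] at key
  rw [key]
  group

/-- The extension, as a function. -/
theorem exists_fun : ∃ F : G → A, ∀ (n : P.N) (b₁ b₂ : ↥P.B),
    F ((b₁ : G) * n * b₂) = χ b₁ * χ b₂ := by
  have hex : ∀ g : G, ∃ p : P.N × ↥P.B × ↥P.B, g = (p.2.1 : G) * p.1 * p.2.2 := fun g => by
    obtain ⟨w, n, -, b₁, h₁, b₂, h₂, rfl⟩ := exists_cell P g
    exact ⟨(n, ⟨b₁, h₁⟩, ⟨b₂, h₂⟩), rfl⟩
  choose r hr using hex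
  exact ⟨fun g => χ (r g).2.1 * χ (r g).2.2, fun n b₁ b₂ =>
    (hχ.well_defined (hr ((b₁ : G) * n * b₂))).symm⟩

/-- Moving an element of `B` through an increasing step. -/
theorem step_up (m : P.N) (b : ↥P.B) {s : P.S}
    (hle : len P (proj P m) < len P (proj P m * refl P s)) :
    ∃ b₃ b₄ : ↥P.B, (m : G) * b * s = b₃ * ((m * sN P s : P.N) : G) * b₄ ∧
      χ b₃ * χ b₄ = χ b := by
  have hcell := mul_cell_of_len_le_right P hle.le (cell_mul_B P b.2 (mem_cell_self P m))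
    (mem_cell_self P (sN P s))
  rw [refl, ← map_mul, mem_cell_proj] at hcell
  obtain ⟨b₃, h₃, b₄, h₄, e⟩ := hcell
  change (m : G) * b * s = b₃ * ((m : G) * s) * b₄ at e
  refine ⟨⟨b₃, h₃⟩, ⟨b₄, h₄⟩, e, ?_⟩
  have ea : (b : G) * s * b₄⁻¹ * (s : G)⁻¹ = (m : G)⁻¹ * b₃ * m := by
    rw [show (b : G) * s * b₄⁻¹ * (s : G)⁻¹ = (m : G)⁻¹ * ((m : G) * b * s) * b₄⁻¹ * (s : G)⁻¹
      by group, e]
    group
  have haB : (m : G)⁻¹ * b₃ * m ∈ P.B := by
    rcases mem_B_or_cell P s (cell_mul_B P (inv_mem h₄) (cell_B_mul P b.2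
      (mem_cell_self P (sN P s)))) (inv_mem_cell_refl P s) with h | h
    · exact ea ▸ h
    · exfalso
      have h1 := mul_cell_of_len_le_right P hle.le (mem_cell_self P m) h
      have h2 := cell_B_mul P h₃ (mem_cell_self P m)
      rw [show (m : G) * ((b : G) * (sN P s : G) * b₄⁻¹ * (s : G)⁻¹) = b₃ * m by
        rw [show ((sN P s : P.N) : G) = s from rfl, ea]; group] at h1
      have h3 := cell_unique P h2 h1
      rw [← h3] at hle
      omega
  have h1 := hχ.conj_N m ⟨b₃, h₃⟩ ⟨_, haB⟩ (by group)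
  have h2 := hχ.conj s ⟨b₄, h₄⟩ (⟨_, haB⟩⁻¹ * b) (by
    simp only [Subgroup.coe_mul, Subgroup.coe_inv]
    rw [← ea]
    group)
  rw [map_mul, map_inv, ← h1, inv_mul_eq_iff_eq_mul] at h2
  exact h2.symm

/-- The extension exists. -/
theorem exists_hom : ∃ F : G →* A, (∀ b : ↥P.B, F b = χ b) ∧ ∀ s : P.S, F s = 1 := by
  obtain ⟨F, hF⟩ := hχ.exists_fun
  have hFn : ∀ n : P.N, F n = 1 := fun n => by
    simpa using hF n 1 1
  have hB : ∀ g : G, ∀ b : ↥P.B, F (g * b) = F g * χ b := fun g b => by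
    obtain ⟨w, n, -, b₁, h₁, b₂, h₂, rfl⟩ := exists_cell P g
    have h := hF n ⟨b₁, h₁⟩ (⟨b₂, h₂⟩ * b)
    simp only [Subgroup.coe_mul, map_mul] at h
    rw [show b₁ * (n : G) * b₂ * b = b₁ * (n : G) * (b₂ * b) by group, h, hF n ⟨b₁, h₁⟩ ⟨b₂, h₂⟩,
      mul_assoc]
  have hone : F 1 = 1 := by simpa using hF 1 1 1
  have hFb : ∀ b : ↥P.B, F b = χ b := fun b => by simpa [hone] using hB 1 b
  have hup : ∀ (b₁ : ↥P.B) (m : P.N) (b : ↥P.B) (s : P.S),
      len P (proj P m) < len P (proj P m * refl P s) →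
      F ((b₁ : G) * m * b * s) = χ b₁ * χ b := by
    intro b₁ m b s hle
    obtain ⟨b₃, b₄, e, hv⟩ := hχ.step_up m b hle
    rw [show (b₁ : G) * m * b * s = b₁ * ((m : G) * b * s) by group, e,
      show (b₁ : G) * ((b₃ : G) * ((m * sN P s : P.N) : G) * b₄) =
        ((b₁ * b₃ : ↥P.B) : G) * ((m * sN P s : P.N) : G) * b₄ by simp [mul_assoc], hF, map_mul,
      mul_assoc, hv]
  have hS : ∀ (g : G) (s : P.S), F (g * s) = F g := by
    intro g s
    obtain ⟨w, n, hn, b₁, h₁, b₂, h₂, rfl⟩ := exists_cell P g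
    subst hn
    rw [hF n ⟨b₁, h₁⟩ ⟨b₂, h₂⟩]
    by_cases hle : len P (proj P n) < len P (proj P n * refl P s)
    · exact hup ⟨b₁, h₁⟩ n ⟨b₂, h₂⟩ s hle
    obtain ⟨m, hm⟩ : ∃ m : P.N, m = n * sN P s := ⟨_, rfl⟩
    have hpm : proj P m = proj P n * refl P s := by rw [hm, map_mul]; rfl
    have hlt : len P (proj P m) < len P (proj P m * refl P s) := by
      have hne : len P (proj P n * refl P s) ≠ len P (proj P n) := by
        rw [← len_inv P (proj P n * refl P s), ← len_inv P (proj P n)]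
        simpa [refl_inv] using len_refl_mul_ne P s (proj P n)⁻¹
      rw [hpm, mul_assoc, refl_mul_self, mul_one]
      omega
    have hmG : (m : G) = n * s := by rw [hm]; rfl
    have e : b₁ * (n : G) * b₂ * s = b₁ * m * ((s : G)⁻¹ * b₂ * s) := by rw [hmG]; group
    rw [e]
    rcases mem_B_or_cell P s (cell_mul_B P h₂ (inv_mem_cell_refl P s))
      (mem_cell_self P (sN P s)) with h | h
    · have h' := hF m ⟨b₁, h₁⟩ ⟨_, h⟩
      have hc := hχ.conj s ⟨_, h⟩ ⟨b₂, h₂⟩ (by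
        show (s : G) * ((s : G)⁻¹ * b₂ * (sN P s : G)) * (s : G)⁻¹ = b₂
        rw [show ((sN P s : P.N) : G) = s from rfl]; group)
      exact h'.trans (congrArg (χ ⟨b₁, h₁⟩ * ·) hc.symm)
    · rw [refl, mem_cell_proj] at h
      obtain ⟨b', h', b'', h'', e'⟩ := h
      change (s : G)⁻¹ * b₂ * s = b' * (s : G) * b'' at e'
      have hsq : (s : G) * s ∈ P.B := P.sq_mem s.1 s.2
      have hrel := hχ.rel s ⟨b₂, h₂⟩ (⟨_, hsq⟩ * ⟨b', h'⟩) ⟨b'', h''⟩ (by
        show (s : G) * b₂ * s = (s : G) * s * b' * s * b''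
        rw [show (s : G) * s * b' * s * b'' = (s : G) * s * (b' * (s : G) * b'') by group, ← e']
        group)
      rw [map_mul, hχ.torus ⟨_, hsq⟩ (P.N.mul_mem (P.subset s.2) (P.subset s.2)), one_mul] at hrel
      rw [e', show b₁ * (m : G) * (b' * (s : G) * b'') = b₁ * m * b' * s * b'' by group]
      rw [hB _ ⟨b'', h''⟩, hup ⟨b₁, h₁⟩ m ⟨b', h'⟩ s hlt, hrel, mul_assoc]
  have hFs : ∀ s : P.S, F s = 1 := fun s => hFn (sN P s)
  refine ⟨MonoidHom.mk' F fun g h => ?_, hFb, hFs⟩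
  let K : Subgroup G :=
    { carrier := {x | ∀ g, F (g * x) = F g * F x}
      mul_mem' := fun {a b} ha hb g => by
        rw [← mul_assoc, hb (g * a), ha g, hb a, mul_assoc]
      one_mem' := fun g => by rw [mul_one, hone, mul_one]
      inv_mem' := fun {a} ha g => by
        have h1 := ha (g * a⁻¹)
        rw [inv_mul_cancel_right] at h1
        have h2 := ha a⁻¹
        rw [inv_mul_cancel, hone] at h2
        rw [h1, mul_assoc, mul_comm (F a) (F a⁻¹), ← h2, mul_one] }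
  have htop : (⊤ : Subgroup G) ≤ K := by
    rw [← P.sup_eq_top, ← P.closure_sup]
    refine sup_le ?_ (sup_le ((Subgroup.closure_le _).2 ?_) ?_)
    · intro b hb g
      rw [hB g ⟨b, hb⟩, ← hFb ⟨b, hb⟩]
    · intro s hs g
      rw [hS g ⟨s, hs⟩, hFs ⟨s, hs⟩, mul_one]
    · rintro b ⟨hb, -⟩ g
      rw [hB g ⟨b, hb⟩, ← hFb ⟨b, hb⟩]
  exact htop (Subgroup.mem_top h) g

end Extendable

end Cfsg.Agent.Lie
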