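import Mathlib

/-!
Bertrand's postulate with the interval shortened by two.
-/

set_option autoImplicit false

namespace Cfsg.Agent.Lie.BertrandShort

open Nat Finset

theorem small_exp : ∀ L : ℕ, 7 ≤ L → 8 * L + 8 ≤ 2 ^ L := by
  intro L hL
  induction L, hL using Nat.le_induction with
  | base => norm_num
  | succ k hk ih => rw [pow_succ]; omega

theorem main_ineq {x : ℕ} (hx : 1568 ≤ x) :
    x * ((2 * x) ^ (sqrt (2 * x) + 1) * 4 ^ (2 * x / 3)) ≤ 4 ^ x := by
  set s := sqrt (2 * x) with hs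
  have h1 : s * s ≤ 2 * x := Nat.sqrt_le _
  have h2 : 2 * x < (s + 1) * (s + 1) := Nat.lt_succ_sqrt _
  have hs56 : 56 ≤ s := Nat.le_sqrt.2 (by omega)
  set L := s / 8 with hL
  have hL7 : 7 ≤ L := by omega
  have hLs : 8 * L ≤ s := Nat.mul_div_le s 8
  have hpow : s + 1 ≤ 2 ^ L := by have := small_exp L hL7; omega
  have h2x : 2 * x ≤ 2 ^ (2 * L) := by
    rw [two_mul L, pow_add]
    exact h2.le.trans (Nat.mul_le_mul hpow hpow)
  have hexp : 2 * L * (s + 2) + 2 * (2 * x / 3) ≤ 2 * x := by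
    have h3 : 8 * L * (s + 2) ≤ s * (s + 2) := Nat.mul_le_mul_right _ hLs
    have h4 : 2 * x / 3 * 3 ≤ 2 * x := Nat.div_mul_le_self _ _
    have h5 : 56 * s ≤ s * s := Nat.mul_le_mul_right _ hs56
    nlinarith
  calc x * ((2 * x) ^ (s + 1) * 4 ^ (2 * x / 3))
      ≤ 2 ^ (2 * L) * ((2 ^ (2 * L)) ^ (s + 1) * 4 ^ (2 * x / 3)) := by
        refine Nat.mul_le_mul (le_trans (Nat.le_mul_of_pos_left _ two_pos) h2x)
          (Nat.mul_le_mul_right _ (Nat.pow_le_pow_left h2x _))
    _ = 2 ^ (2 * L * (s + 2) + 2 * (2 * x / 3)) := by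
        rw [show (4 : ℕ) = 2 ^ 2 by norm_num, ← pow_mul, ← pow_mul, ← pow_add, ← pow_add]
        ring_nf
    _ ≤ 2 ^ (2 * x) := Nat.pow_le_pow_right two_pos hexp
    _ = 4 ^ x := by rw [pow_mul]; norm_num

theorem upper_bound {n : ℕ} (hn : 2 < n) (hno : ∀ p : ℕ, p.Prime → n < p → 2 * n - 2 < p) :
    centralBinom n ≤ (2 * n) ^ (sqrt (2 * n) + 1) * 4 ^ (2 * n / 3) := by
  classical
  have n2 : 1 ≤ 2 * n := by omega
  let f x := x ^ n.centralBinom.factorization x
  have hsub : insert (2 * n - 1) (range (2 * n / 3 + 1)) ⊆ range (2 * n + 1) := by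
    intro x hx
    rcases Finset.mem_insert.1 hx with rfl | hx
    · exact Finset.mem_range.2 (by omega)
    · exact Finset.mem_range.2 (by have := Finset.mem_range.1 hx; omega)
  have hcb : centralBinom n = f (2 * n - 1) * ∏ p ∈ range (2 * n / 3 + 1), f p := by
    rw [← Finset.prod_insert (f := f) (by simp; omega)]
    refine (Eq.trans ?_ n.prod_pow_factorization_centralBinom).symm
    refine Finset.prod_subset hsub fun x hx h2x => ?_
    rw [Finset.mem_range, Nat.lt_succ_iff] at hx
    simp only [Finset.mem_insert, Finset.mem_range, Nat.lt_succ_iff, not_or, not_le] at h2x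
    obtain ⟨hne, h2x⟩ := h2x
    have h3 : 2 * n < 3 * x := by omega
    obtain h | h : ¬ x.Prime ∨ x ≤ n := by
      by_contra hc
      push Not at hc
      have := hno x hc.1 hc.2
      rcases (show x = 2 * n ∨ x = 2 * n - 1 by omega) with h | h
      · have h2 := (hc.1.eq_one_or_self_of_dvd 2 ⟨n, h⟩).resolve_left (by norm_num)
        omega
      · exact hne h
    · show x ^ _ = 1
      rw [factorization_eq_zero_of_not_prime n.centralBinom h, Nat.pow_zero]
    · show x ^ _ = 1
      rw [factorization_centralBinom_of_two_mul_self_lt_three_mul (by omega) h h3, Nat.pow_zero]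
  let S := {p ∈ range (2 * n / 3 + 1) | Nat.Prime p}
  have hS : ∏ x ∈ S, f x = ∏ x ∈ range (2 * n / 3 + 1), f x := by
    refine Finset.prod_filter_of_ne fun p _ h => ?_
    contrapose h; dsimp only [f]
    rw [factorization_eq_zero_of_not_prime n.centralBinom h, Nat.pow_zero]
  have hle : ∀ p, f p ≤ 2 * n := fun p => pow_factorization_choose_le (by omega)
  rw [hcb, ← hS, ← Finset.prod_filter_mul_prod_filter_not S (· ≤ sqrt (2 * n)), pow_succ', mul_assoc (2 * n)]
  refine Nat.mul_le_mul (hle _) (Nat.mul_le_mul ?_ ?_)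
  · refine (Finset.prod_le_prod' fun p _ => hle p).trans ?_
    have : (Finset.Icc 1 (sqrt (2 * n))).card = sqrt (2 * n) := by rw [card_Icc, Nat.add_sub_cancel]
    rw [Finset.prod_const]
    refine pow_right_mono₀ n2 ((Finset.card_le_card fun x hx => ?_).trans this.le)
    obtain ⟨h1, h2⟩ := Finset.mem_filter.1 hx
    exact Finset.mem_Icc.mpr ⟨(Finset.mem_filter.1 h1).2.one_lt.le, h2⟩
  · refine le_trans ?_ (primorial_le_four_pow (2 * n / 3))
    refine (Finset.prod_le_prod' fun p hp => (?_ : f p ≤ p)).trans ?_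
    · obtain ⟨h1, h2⟩ := Finset.mem_filter.1 hp
      refine (pow_right_mono₀ (Finset.mem_filter.1 h1).2.one_lt.le ?_).trans (pow_one p).le
      exact Nat.factorization_choose_le_one (sqrt_lt'.mp <| not_le.1 h2)
    refine Finset.prod_le_prod_of_subset_of_one_le' (Finset.filter_subset _ _) ?_
    exact fun p hp _ => (Finset.mem_filter.1 hp).2.one_lt.le

theorem step {n : ℕ} (q : ℕ) {p : ℕ} (hp : p.Prime) (hq : p + 2 ≤ 2 * q)
    (H : n < q → ∃ p : ℕ, p.Prime ∧ n < p ∧ p ≤ 2 * n - 2) (hn : n < p) :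
    ∃ p : ℕ, p.Prime ∧ n < p ∧ p ≤ 2 * n - 2 := by
  rcases lt_or_ge n q with h | h
  · exact H h
  · exact ⟨p, hp, hn, by omega⟩

/-- A prime above `n` and below `2 n - 1`. -/
theorem exists_prime (n : ℕ) (hn : 4 ≤ n) : ∃ p : ℕ, p.Prime ∧ n < p ∧ p ≤ 2 * n - 2 := by
  rcases lt_or_ge n 1568 with h | h
  · have h' : n < 1583 := by omega
    revert h'
    refine step 797 (by norm_num) (by norm_num) ?_
    refine step 401 (by norm_num) (by norm_num) ?_
    refine step 211 (by norm_num) (by norm_num) ?_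
    refine step 107 (by norm_num) (by norm_num) ?_
    refine step 59 (by norm_num) (by norm_num) ?_
    refine step 31 (by norm_num) (by norm_num) ?_
    refine step 17 (by norm_num) (by norm_num) ?_
    refine step 11 (by norm_num) (by norm_num) ?_
    refine step 7 (by norm_num) (by norm_num) ?_
    refine step 5 (by norm_num) (by norm_num) ?_
    intro h5
    exact ⟨5, by norm_num, h5, by omega⟩
  · by_contra hcon
    push Not at hcon
    have h1 := Nat.four_pow_lt_mul_centralBinom n (by omega)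
    have h2 := Nat.mul_le_mul_left n (upper_bound (by omega) hcon)
    have h3 := main_ineq h
    omega

end Cfsg.Agent.Lie.BertrandShort
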