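import Cfsg.Agent.Lib.Char.ModularRank
import Mathlib.GroupTheory.Sylow
import Mathlib.GroupTheory.NoncommCoprod
import Mathlib.FieldTheory.IsAlgClosed.Basic
import Mathlib.RingTheory.RootsOfUnity.EnoughRootsOfUnity

/-!
Brauer's count: over an algebraically closed field of characteristic `p` the irreducible
representations of a finite group are as many as its classes of elements of order prime to `p`.
-/

namespace Cfsg.Agent.Lie.BrauerCount

open Cfsg.Agent.Char.CycMod

set_option linter.unusedSectionVars false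
set_option linter.style.haveILetI false

universe u w

variable {G : Type u} [Group G] {k : Type} [Field k]

section trace

variable {V : Type*} [AddCommGroup V] [Module k V] [FiniteDimensional k V]

/-- The trace is additive over an invariant subspace and its quotient. -/
theorem trace_eq_add (W : Submodule k V) (f : V →ₗ[k] V) (hf : ∀ x ∈ W, f x ∈ W) :
    LinearMap.trace k V f = LinearMap.trace k W (f.restrict hf) +
      LinearMap.trace k (V ⧸ W) (W.mapQ W f hf) := by
  obtain ⟨s, hs⟩ := W.mkQ.exists_rightInverse_of_surjective (Submodule.range_mkQ W)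
  have hs' : ∀ x, W.mkQ (s x) = x := fun x => LinearMap.congr_fun hs x
  have hP : ∀ x, x - s (W.mkQ x) ∈ W := fun x => by
    rw [← Submodule.Quotient.mk_eq_zero W, ← Submodule.mkQ_apply, map_sub, hs', sub_self]
  let π : V →ₗ[k] W := (LinearMap.id - s ∘ₗ W.mkQ).codRestrict W hP
  have hsplit : f = (f ∘ₗ W.subtype) ∘ₗ π + (f ∘ₗ s) ∘ₗ W.mkQ := LinearMap.ext fun x => by
    simp [π, ← map_add]
  conv_lhs => rw [hsplit]
  rw [map_add, LinearMap.trace_comp_comm' π (f ∘ₗ W.subtype),
    LinearMap.trace_comp_comm' W.mkQ (f ∘ₗ s)]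
  refine congrArg₂ _ (congrArg _ (LinearMap.ext fun x => Subtype.ext ?_))
    (congrArg _ (LinearMap.ext fun x => ?_))
  · show f x - s (W.mkQ (f x)) = f x
    rw [Submodule.mkQ_apply, (Submodule.Quotient.mk_eq_zero W).2 (hf x x.2), map_zero, sub_zero]
  · show W.mkQ (f (s x)) = _
    conv_rhs => rw [← hs' x]
    rfl

end trace

/-- A functional on traces which kills irreducible representations kills all of them. -/
theorem trace_comb_zero {C : Type*} [Fintype C] (c : C → k) (rep : C → G)
    (h : ∀ (V : Type u) [AddCommGroup V] [Module k V] [FiniteDimensional k V]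
      (ρ : G →* Module.End k V), Irr ρ → ∑ C, c C * LinearMap.trace k V (ρ (rep C)) = 0) :
    ∀ (n : ℕ) (V : Type u) [AddCommGroup V] [Module k V] [FiniteDimensional k V]
      (ρ : G →* Module.End k V), Module.finrank k V ≤ n →
        ∑ C, c C * LinearMap.trace k V (ρ (rep C)) = 0 := by
  intro n
  induction n with
  | zero =>
    intro V _ _ _ ρ hn
    haveI : Subsingleton V := Module.finrank_zero_iff.1 (Nat.le_zero.1 hn)
    refine Finset.sum_eq_zero fun C _ => ?_
    rw [Subsingleton.elim (ρ (rep C)) 0, map_zero, mul_zero]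
  | succ n ih =>
    intro V _ _ _ ρ hn
    by_cases hV : Subsingleton V
    · refine Finset.sum_eq_zero fun C _ => ?_
      rw [Subsingleton.elim (ρ (rep C)) 0, map_zero, mul_zero]
    haveI : Nontrivial V := not_subsingleton_iff_nontrivial.1 hV
    by_cases hirr : Irr ρ
    · exact h V ρ hirr
    obtain ⟨W, hW, hWb, hWt⟩ : ∃ W : Submodule k V, (∀ g, ∀ x ∈ W, ρ g x ∈ W) ∧ W ≠ ⊥ ∧ W ≠ ⊤ := by
      by_contra hc
      exact hirr ⟨inferInstance, fun X hX => or_iff_not_imp_left.2 fun h1 =>
        by_contra fun h2 => hc ⟨X, hX, h1, h2⟩⟩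
    let ρW : G →* Module.End k W :=
      { toFun := fun g => (ρ g).restrict (hW g)
        map_one' := LinearMap.ext fun x => Subtype.ext (by
          show ρ 1 (x : V) = (x : V)
          rw [map_one]; rfl)
        map_mul' := fun g h => LinearMap.ext fun x => Subtype.ext (by
          show ρ (g * h) (x : V) = ρ g (ρ h (x : V))
          rw [map_mul]; rfl) }
    let ρQ : G →* Module.End k (V ⧸ W) :=
      { toFun := fun g => W.mapQ W (ρ g) (hW g)
        map_one' := Submodule.linearMap_qext _ (LinearMap.ext fun x => by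
          show Submodule.Quotient.mk (ρ 1 x) = Submodule.Quotient.mk x
          rw [map_one]; rfl)
        map_mul' := fun g h => Submodule.linearMap_qext _ (LinearMap.ext fun x => by
          show Submodule.Quotient.mk (ρ (g * h) x) = Submodule.Quotient.mk (ρ g (ρ h x))
          rw [map_mul]; rfl) }
    have hW0 : 0 < Module.finrank k W :=
      Nat.pos_of_ne_zero fun e => hWb (Submodule.finrank_eq_zero.1 e)
    have hlt : Module.finrank k W < Module.finrank k V := Submodule.finrank_lt hWt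
    have hQ := W.finrank_quotient_add_finrank
    have e1 := ih W ρW (by omega)
    have e2 := ih (V ⧸ W) ρQ (by omega)
    calc ∑ C, c C * LinearMap.trace k V (ρ (rep C))
        = ∑ C, (c C * LinearMap.trace k W (ρW (rep C)) +
            c C * LinearMap.trace k (V ⧸ W) (ρQ (rep C))) :=
          Finset.sum_congr rfl fun C _ => by
            rw [trace_eq_add W (ρ (rep C)) (hW _), mul_add]
            rfl
      _ = 0 := by rw [Finset.sum_add_distrib, e1, e2, add_zero]

section monomial

variable (E : Subgroup G) (ψ : E →* kˣ)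

/-- The correction between chosen coset representatives. -/
noncomputable def cocycle (g : G) (c : G ⧸ E) : E :=
  ⟨c.out⁻¹ * g * (g⁻¹ • c).out, by
    rw [mul_assoc, ← QuotientGroup.eq, QuotientGroup.out_eq']
    conv_rhs => rw [← smul_eq_mul, MulAction.Quotient.coe_smul_out]
    rw [smul_inv_smul]⟩

theorem cocycle_mul (g h : G) (c : G ⧸ E) :
    cocycle E (g * h) c = cocycle E g c * cocycle E h (g⁻¹ • c) := by
  refine Subtype.ext ?_
  show c.out⁻¹ * (g * h) * ((g * h)⁻¹ • c).out =
    c.out⁻¹ * g * (g⁻¹ • c).out * ((g⁻¹ • c).out⁻¹ * h * (h⁻¹ • g⁻¹ • c).out)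
  rw [← mul_smul, ← _root_.mul_inv_rev]
  group

/-- The representation induced from a linear character. -/
noncomputable def monomial : G →* Module.End k (G ⧸ E → k) where
  toFun g :=
    { toFun := fun f c => (ψ (cocycle E g c) : k) * f (g⁻¹ • c)
      map_add' := fun f f' => funext fun c => mul_add _ _ _
      map_smul' := fun r f => funext fun c => mul_left_comm _ _ _ }
  map_one' := LinearMap.ext fun f => funext fun c => by
    have h1 : cocycle E 1 c = 1 := Subtype.ext (by
      show c.out⁻¹ * 1 * ((1 : G)⁻¹ • c).out = 1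
      rw [inv_one, one_smul, mul_one, inv_mul_cancel])
    show (ψ (cocycle E 1 c) : k) * f ((1 : G)⁻¹ • c) = f c
    rw [h1, map_one, Units.val_one, one_mul, inv_one, one_smul]
  map_mul' g h := LinearMap.ext fun f => funext fun c => by
    show (ψ (cocycle E (g * h) c) : k) * f ((g * h)⁻¹ • c) =
      (ψ (cocycle E g c) : k) * ((ψ (cocycle E h (g⁻¹ • c)) : k) * f (h⁻¹ • g⁻¹ • c))
    rw [cocycle_mul, map_mul, Units.val_mul, mul_assoc, _root_.mul_inv_rev, mul_smul]

open Classical in
theorem trace_monomial [Fintype (G ⧸ E)] (g : G) :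
    LinearMap.trace k _ (monomial E ψ g) = ∑ c : G ⧸ E,
      if h : c.out⁻¹ * g * c.out ∈ E then (ψ ⟨_, h⟩ : k) else 0 := by
  rw [LinearMap.trace_eq_matrix_trace k (Pi.basisFun k (G ⧸ E)), Matrix.trace]
  refine Finset.sum_congr rfl fun c _ => ?_
  rw [Matrix.diag_apply, LinearMap.toMatrix_apply, Pi.basisFun_repr, Pi.basisFun_apply]
  show (ψ (cocycle E g c) : k) * (Pi.single c (1 : k) : G ⧸ E → k) (g⁻¹ • c) = _
  by_cases hc : g⁻¹ • c = c
  · have hval : (cocycle E g c : G) = c.out⁻¹ * g * c.out := by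
      show c.out⁻¹ * g * (g⁻¹ • c).out = _
      rw [hc]
    have hmem : c.out⁻¹ * g * c.out ∈ E := hval ▸ (cocycle E g c).2
    rw [hc, Pi.single_eq_same, mul_one, dif_pos hmem]
    exact congrArg (fun e => (ψ e : k)) (Subtype.ext hval)
  · rw [Pi.single_eq_of_ne hc, mul_zero, dif_neg]
    intro h
    refine hc ?_
    rw [inv_smul_eq_iff]
    conv_rhs => rw [← QuotientGroup.out_eq' c, MulAction.Quotient.smul_mk]
    conv_lhs => rw [← QuotientGroup.out_eq' c]
    rw [QuotientGroup.eq, smul_eq_mul, ← mul_assoc]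
    exact h

end monomial

section count

variable [Fintype G] {p : ℕ} [hp : Fact p.Prime] [CharP k p]

/-- The classes of elements of order prime to `p`. -/
abbrev PClass (G : Type u) [Group G] (p : ℕ) : Type u :=
  {c : ConjClasses G // ∃ g : G, ConjClasses.mk g = c ∧ (orderOf g).Coprime p}

/-- A member of a class. -/
noncomputable def PClass.elt (c : PClass G p) : G := c.2.choose

theorem PClass.mk_elt (c : PClass G p) : ConjClasses.mk c.elt = c.1 := c.2.choose_spec.1

theorem PClass.coprime_elt (c : PClass G p) : (orderOf c.elt).Coprime p := c.2.choose_spec.2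

/-- A combination of traces which vanishes in all representations is trivial. -/
theorem eq_zero_of_trace [IsAlgClosed k] [Fintype (PClass G p)] (c : PClass G p → k)
    (h : ∀ (V : Type u) [AddCommGroup V] [Module k V] [FiniteDimensional k V]
      (ρ : G →* Module.End k V), ∑ C : PClass G p, c C * LinearMap.trace k V (ρ C.elt) = 0) :
    c = 0 := by
  classical
  funext C0
  obtain ⟨y, hy⟩ : ∃ y, y = C0.elt := ⟨_, rfl⟩
  have hyp : (orderOf y).Coprime p := hy ▸ C0.coprime_elt
  obtain ⟨Z, hZ⟩ : ∃ Z : Subgroup G, Z = Subgroup.centralizer ({y} : Set G) := ⟨_, rfl⟩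
  obtain ⟨P⟩ : Nonempty (Sylow p Z) := inferInstance
  obtain ⟨P0, hP0⟩ : ∃ P0 : Subgroup G, P0 = (P : Subgroup Z).map Z.subtype := ⟨_, rfl⟩
  have hP0Z : P0 ≤ Z := hP0 ▸ Subgroup.map_subtype_le _
  have hPp : IsPGroup p P0 := hP0 ▸ P.2.map _
  have hcomm : ∀ (a : Subgroup.zpowers y) (b : P0), Commute (a : G) (b : G) := by
    rintro ⟨a, ha⟩ b
    obtain ⟨i, rfl⟩ := Subgroup.mem_zpowers_iff.1 ha
    exact Commute.zpow_left
      (Subgroup.mem_centralizer_singleton_iff.1 (hZ ▸ hP0Z b.2)).symm i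
  let f : Subgroup.zpowers y × P0 →* G :=
    MonoidHom.noncommCoprod (Subgroup.zpowers y).subtype P0.subtype hcomm
  have hfval : ∀ a b, f (a, b) = (a : G) * (b : G) := fun a b => rfl
  have hco : ∀ b : P0, (orderOf (b : G)).Coprime (orderOf y) := fun b => by
    obtain ⟨m, hm⟩ := IsPGroup.iff_orderOf.1 hPp b
    rw [Subgroup.orderOf_coe, hm]
    exact hyp.symm.pow_left m
  have hfinj : Function.Injective f := by
    refine (injective_iff_map_eq_one f).2 ?_
    rintro ⟨a, b⟩ hab
    rw [hfval] at hab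
    have h1 : orderOf (a : G) ∣ orderOf y := orderOf_dvd_of_mem_zpowers a.2
    have h2 : orderOf (a : G) = orderOf (b : G) := by
      rw [eq_inv_of_mul_eq_one_left hab, orderOf_inv]
    have h3 : orderOf (b : G) = 1 := Nat.eq_one_of_dvd_coprimes (hco b) dvd_rfl (h2 ▸ h1)
    have h4 : b = 1 := Subtype.ext (orderOf_eq_one_iff.1 h3)
    subst h4
    rw [Subgroup.coe_one, mul_one] at hab
    exact Prod.ext (Subtype.ext hab) rfl
  obtain ⟨E, hE⟩ : ∃ E : Subgroup G, E = f.range := ⟨_, rfl⟩
  have hyE : y ∈ E := hE ▸ ⟨(⟨y, Subgroup.mem_zpowers y⟩, 1), by rw [hfval]; simp⟩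
  have hEZ : E ≤ Z := by
    rw [hE]
    rintro _ ⟨⟨a, b⟩, rfl⟩
    rw [hfval]
    refine mul_mem ?_ (hP0Z b.2)
    obtain ⟨i, hi⟩ := Subgroup.mem_zpowers_iff.1 a.2
    rw [← hi, hZ]
    exact zpow_mem (Subgroup.mem_centralizer_singleton_iff.2 rfl) i
  let fst : E →* Subgroup.zpowers y := (MonoidHom.fst _ _).comp
    ((MonoidHom.ofInjective hfinj).trans (MulEquiv.subgroupCongr hE.symm)).symm.toMonoidHom
  -- the part prime to `p` of a member of `E`
  have hfst : ∀ e : E, (orderOf (e : G)).Coprime p → (fst e : G) = e := by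
    rintro ⟨e, he⟩ hep
    obtain ⟨⟨a, b⟩, rfl⟩ := (hE ▸ he : e ∈ f.range)
    have hab : ((MonoidHom.ofInjective hfinj).trans (MulEquiv.subgroupCongr hE.symm)) (a, b) =
        ⟨f (a, b), he⟩ := Subtype.ext rfl
    show ((((MonoidHom.ofInjective hfinj).trans (MulEquiv.subgroupCongr hE.symm)).symm
      ⟨f (a, b), he⟩).1 : G) = f (a, b)
    rw [← hab, MulEquiv.symm_apply_apply]
    obtain ⟨m, hm⟩ := IsPGroup.iff_orderOf.1 hPp b
    have hord : orderOf (b : G) ∣ orderOf (f (a, b)) := by
      rw [orderOf_injective f hfinj, Prod.orderOf]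
      rw [Subgroup.orderOf_coe]
      exact Nat.dvd_lcm_right _ _
    have hb : orderOf (b : G) = 1 := Nat.eq_one_of_dvd_coprimes
      (hep.pow_right m) hord (by rw [Subgroup.orderOf_coe, hm])
    rw [hfval, orderOf_eq_one_iff.1 hb, mul_one]
  -- the linear characters
  obtain ⟨o, ho⟩ : ∃ o, o = orderOf y := ⟨_, rfl⟩
  have ho0 : 0 < o := ho ▸ orderOf_pos y
  have hok : (o : k) ≠ 0 := by
    rw [Ne, CharP.cast_eq_zero_iff k p]
    exact hp.out.coprime_iff_not_dvd.1 (ho ▸ hyp.symm)
  haveI : NeZero (o : k) := ⟨hok⟩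
  obtain ⟨ζ, hζ⟩ : ∃ ζ : k, IsPrimitiveRoot ζ o := HasEnoughRootsOfUnity.exists_primitiveRoot k o
  obtain ⟨ζu, hζu⟩ : ∃ ζu : kˣ, (ζu : k) = ζ :=
    ⟨(hζ.isUnit ho0.ne').unit, rfl⟩
  have hζo : orderOf ζu = o := by
    rw [← orderOf_units, hζu, ← hζ.eq_orderOf]
  let lam : Subgroup.zpowers y →* kˣ :=
    monoidHomOfForallMemZpowers (g := (⟨y, Subgroup.mem_zpowers y⟩ : Subgroup.zpowers y))
      (g' := ζu) (fun x => by
        obtain ⟨i, hi⟩ := Subgroup.mem_zpowers_iff.1 x.2
        exact Subgroup.mem_zpowers_iff.2 ⟨i, Subtype.ext (by rw [← hi]; rfl)⟩)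
      (by rw [hζo, Subgroup.orderOf_mk, ho])
  have hlamy : lam ⟨y, Subgroup.mem_zpowers y⟩ = ζu :=
    monoidHomOfForallMemZpowers_apply_gen _ _
  have hlam : ∀ x : Subgroup.zpowers y, lam x = ζu → (x : G) = y := by
    intro x hx
    obtain ⟨i, hi⟩ := Subgroup.mem_zpowers_iff.1 x.2
    have hxe : x = (⟨y, Subgroup.mem_zpowers y⟩ : Subgroup.zpowers y) ^ i :=
      Subtype.ext (by rw [← hi]; rfl)
    rw [hxe, map_zpow, hlamy] at hx
    have h1 : ζu ^ (i - 1) = 1 := by rw [_root_.zpow_sub, hx, zpow_one, mul_inv_cancel]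
    rw [← orderOf_dvd_iff_zpow_eq_one, hζo, ho, orderOf_dvd_iff_zpow_eq_one, _root_.zpow_sub, zpow_one,
      mul_inv_eq_one] at h1
    rw [← hi, h1]
  haveI : Fintype (G ⧸ E) := Fintype.ofFinite _
  -- the combination of induced characters
  have hsum : ∀ g : G, (orderOf g).Coprime p →
      ∑ j ∈ Finset.range o, ((ζu⁻¹ ^ j : kˣ) : k) *
          LinearMap.trace k _ (monomial E ((powMonoidHom j).comp (lam.comp fst)) g) =
        (o : k) * ((Finset.univ.filter fun q : G ⧸ E => q.out⁻¹ * g * q.out = y).card : k) := by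
    intro g hg
    simp only [trace_monomial, Finset.mul_sum]
    rw [Finset.sum_comm, Finset.natCast_card_filter, Finset.mul_sum]
    refine Finset.sum_congr rfl fun q _ => ?_
    have hord : orderOf (q.out⁻¹ * g * q.out) = orderOf g := by
      have := MulEquiv.orderOf_eq (MulAut.conj q.out⁻¹) g
      rwa [MulAut.conj_apply, inv_inv] at this
    by_cases hm : q.out⁻¹ * g * q.out ∈ E
    · simp only [dif_pos hm]
      have hc := hfst ⟨_, hm⟩ (show (orderOf (q.out⁻¹ * g * q.out)).Coprime p from hord ▸ hg)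
      have key : ∀ j : ℕ, ((ζu⁻¹ ^ j : kˣ) : k) *
          ((((powMonoidHom j).comp (lam.comp fst)) ⟨_, hm⟩ : kˣ) : k) =
          (((ζu⁻¹ * lam (fst ⟨_, hm⟩) : kˣ) : k)) ^ j := fun j => by
        show ((ζu⁻¹ ^ j : kˣ) : k) * (((lam (fst ⟨_, hm⟩)) ^ j : kˣ) : k) = _
        rw [← Units.val_mul, ← mul_pow, Units.val_pow_eq_pow_val]
      rw [Finset.sum_congr rfl fun j _ => key j]
      by_cases he : q.out⁻¹ * g * q.out = y
      · have h1 : lam (fst ⟨_, hm⟩) = ζu := by
          rw [show fst ⟨_, hm⟩ = (⟨y, Subgroup.mem_zpowers y⟩ : Subgroup.zpowers y) from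
            Subtype.ext (hc.trans he), hlamy]
        rw [if_pos he, mul_one, h1, inv_mul_cancel, Units.val_one]
        simp
      · rw [if_neg he, mul_zero]
        have h1 : lam (fst ⟨_, hm⟩) ≠ ζu := fun e => he (hc.symm.trans (hlam _ e))
        set η : kˣ := ζu⁻¹ * lam (fst ⟨_, hm⟩) with hη
        have hη1 : (η : k) ≠ 1 := fun e => h1
          (inv_mul_eq_one.1 (hη ▸ Units.val_eq_one.1 e : ζu⁻¹ * lam (fst ⟨_, hm⟩) = 1)).symm
        have hηo : (η : k) ^ o = 1 := by
          rw [← Units.val_pow_eq_pow_val, mul_pow, inv_pow, ← map_pow, ← hζo, pow_orderOf_eq_one,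
            inv_one, one_mul]
          have : fst ⟨_, hm⟩ ^ orderOf ζu = 1 := by
            rw [hζo, ho, ← orderOf_dvd_iff_pow_eq_one, ← Subgroup.orderOf_coe]
            exact orderOf_dvd_of_mem_zpowers (fst ⟨_, hm⟩).2
          rw [this, map_one, Units.val_one]
        rw [geom_sum_eq hη1, hηo, sub_self, zero_div]
    · have he : q.out⁻¹ * g * q.out ≠ y := fun e => hm (e ▸ hyE)
      simp only [dif_neg hm, mul_zero, Finset.sum_const_zero, if_neg he]
  -- other classes do not contribute
  have hother : ∀ C : PClass G p, C ≠ C0 →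
      (Finset.univ.filter fun q : G ⧸ E => q.out⁻¹ * C.elt * q.out = y) = ∅ := by
    intro C hC
    refine Finset.filter_eq_empty_iff.2 fun q _ e => hC (Subtype.ext ?_)
    rw [← C.mk_elt, ← C0.mk_elt, ← hy, ← e, ConjClasses.mk_eq_mk_iff_isConj, isConj_iff]
    exact ⟨q.out⁻¹, by rw [inv_inv]⟩
  -- the own class contributes a unit
  obtain ⟨N, hN⟩ : ∃ N, N = (Finset.univ.filter fun q : G ⧸ E => q.out⁻¹ * y * q.out = y).card :=
    ⟨_, rfl⟩
  have hNdvd : ¬ p ∣ N := by
    have hNidx : N = E.relIndex Z := by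
      rw [hN, Subgroup.relIndex, Subgroup.index, ← Fintype.card_subtype, ← Nat.card_eq_fintype_card]
      refine (Nat.card_congr (Equiv.ofBijective
        (fun q : Z ⧸ E.subgroupOf Z => (⟨QuotientGroup.mk (q.out : G), ?_⟩ :
          {q : G ⧸ E // q.out⁻¹ * y * q.out = y})) ⟨?_, ?_⟩)).symm
      · obtain ⟨e, he⟩ := QuotientGroup.mk_out_eq_mul E (q.out : G)
        rw [he]
        have hz : ((q.out : Z) : G) * (e : G) ∈ Z := mul_mem q.out.2 (hEZ e.2)
        have h2 := Subgroup.mem_centralizer_singleton_iff.1 (hZ.le hz)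
        rw [mul_assoc, ← h2, inv_mul_cancel_left]
      · intro a b hab
        have h1 : QuotientGroup.mk (s := E) ((a.out : Z) : G) = QuotientGroup.mk ((b.out : Z) : G) :=
          congrArg Subtype.val hab
        rw [← QuotientGroup.out_eq' a, ← QuotientGroup.out_eq' b, QuotientGroup.eq,
          Subgroup.mem_subgroupOf]
        exact QuotientGroup.eq.1 h1
      · rintro ⟨q, hq⟩
        have hqZ : q.out ∈ Z := by
          rw [hZ, Subgroup.mem_centralizer_singleton_iff]
          have h2 : q.out * (q.out⁻¹ * y * q.out) = y * q.out := by group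
          rwa [hq] at h2
        refine ⟨QuotientGroup.mk ⟨q.out, hqZ⟩, Subtype.ext ?_⟩
        obtain ⟨e, he⟩ := QuotientGroup.mk_out_eq_mul (E.subgroupOf Z) (⟨q.out, hqZ⟩ : Z)
        show QuotientGroup.mk (s := E) (_ : G) = q
        rw [he]
        conv_rhs => rw [← QuotientGroup.out_eq' q]
        exact QuotientGroup.mk_mul_of_mem _ e.2
    intro hd
    have hPE : (P : Subgroup Z) ≤ E.subgroupOf Z := by
      intro z hz
      rw [Subgroup.mem_subgroupOf, hE]
      exact ⟨(1, ⟨(z : G), hP0 ▸ Subgroup.mem_map_of_mem _ hz⟩), by rw [hfval]; simp⟩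
    exact P.not_dvd_index (hd.trans (hNidx ▸ Subgroup.index_dvd_of_le hPE))
  have h0 : ∑ j ∈ Finset.range o, ((ζu⁻¹ ^ j : kˣ) : k) * ∑ C : PClass G p,
      c C * LinearMap.trace k _ (monomial E ((powMonoidHom j).comp (lam.comp fst)) C.elt) = 0 :=
    Finset.sum_eq_zero fun j _ => by rw [h, mul_zero]
  simp only [Finset.mul_sum, mul_left_comm _ (c _)] at h0
  rw [Finset.sum_comm] at h0
  simp only [← Finset.mul_sum] at h0
  rw [Finset.sum_eq_single C0 (fun C _ hC => ?_) (fun h' => absurd (Finset.mem_univ _) h')] at h0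
  · rw [hsum _ C0.coprime_elt, ← hy, ← hN] at h0
    refine (mul_eq_zero.1 h0).resolve_right (mul_ne_zero hok ?_)
    rwa [Ne, CharP.cast_eq_zero_iff k p]
  · rw [hsum _ C.coprime_elt, hother C hC, Finset.card_empty, Nat.cast_zero, mul_zero, mul_zero]

/-- **Brauer's count.** -/
theorem card_pClass_eq [IsAlgClosed k] {ι : Type} [Fintype ι] {S : ι → Type w}
    [∀ i, AddCommGroup (S i)] [∀ i, Module k (S i)] [∀ i, FiniteDimensional k (S i)]
    (σ : ∀ i, G →* Module.End k (S i)) (hirr : ∀ i, Irr (σ i))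
    (hhom : ∀ i j, i ≠ j → ∀ f : S i →ₗ[k] S j, Intw (σ i) (σ j) f → f = 0)
    (hall : ∀ (V : Type u) [AddCommGroup V] [Module k V] [FiniteDimensional k V]
      (ρ : G →* Module.End k V), Irr ρ →
        ∃ i, ∀ g, LinearMap.trace k V (ρ g) = LinearMap.trace k (S i) (σ i g)) :
    Nat.card (PClass G p) = Fintype.card ι := by
  classical
  haveI : Fintype (PClass G p) := Fintype.ofFinite _
  let Φ : (PClass G p → k) →ₗ[k] (ι → k) :=
    { toFun := fun c i => ∑ C : PClass G p, c C * LinearMap.trace k (S i) (σ i C.elt)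
      map_add' := fun a b => funext fun i => by
        simp only [Pi.add_apply, add_mul, Finset.sum_add_distrib]
      map_smul' := fun r a => funext fun i => by
        simp only [Pi.smul_apply, smul_eq_mul, mul_assoc, Finset.mul_sum, RingHom.id_apply] }
  have hinj : Function.Injective Φ := by
    refine (injective_iff_map_eq_zero Φ).2 fun c hc => eq_zero_of_trace c fun V _ _ _ ρ => ?_
    refine trace_comb_zero c PClass.elt (fun W _ _ _ τ hτ => ?_) _ V ρ le_rfl
    obtain ⟨i, hi⟩ := hall W τ hτ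
    simp only [hi]
    exact congrFun hc i
  have hsurj : Function.Surjective Φ := by
    rw [← LinearMap.range_eq_top, eq_top_iff, ← (Pi.basisFun k ι).span_eq, Submodule.span_le]
    rintro _ ⟨i, rfl⟩
    obtain ⟨a, ha⟩ := exists_trace_dual σ hirr hhom i
    choose uu vv huv hcomm hu hv huz hvz using
      fun g : G => Cfsg.Agent.Block.exists_pPart_zpowers (p := p) g
    have hvc : ∀ g, (orderOf (vv g)).Coprime p := fun g =>
      ((hp.out.coprime_iff_not_dvd).2 (hv g)).symm
    let cl : G → PClass G p := fun g => ⟨ConjClasses.mk (vv g), vv g, rfl, hvc g⟩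
    refine ⟨fun C => ∑ g ∈ Finset.univ.filter (fun g => cl g = C), a g, funext fun j => ?_⟩
    show ∑ C : PClass G p, (∑ g ∈ Finset.univ.filter (fun g => cl g = C), a g) *
      LinearMap.trace k (S j) (σ j C.elt) = _
    have htr : ∀ g, LinearMap.trace k (S j) (σ j (cl g).elt) = LinearMap.trace k (S j) (σ j g) := by
      intro g
      obtain ⟨m, hm⟩ := hu g
      conv_rhs => rw [← huv g, trace_pPart (σ j) (hcomm g) (a := m) (hm ▸ pow_orderOf_eq_one _)]
      obtain ⟨t, ht⟩ := isConj_iff.1 (ConjClasses.mk_eq_mk_iff_isConj.1 (cl g).mk_elt)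
      rw [← ht, map_mul (σ j) _ t⁻¹, map_mul (σ j) t, LinearMap.trace_mul_comm, ← mul_assoc,
        ← map_mul (σ j), inv_mul_cancel, map_one, one_mul]
    rw [Pi.basisFun_apply, Pi.single_apply, ← ha j]
    rw [act, map_sum]
    rw [← Finset.sum_fiberwise Finset.univ cl]
    refine Finset.sum_congr rfl fun C _ => ?_
    rw [Finset.sum_mul]
    refine Finset.sum_congr rfl fun g hg => ?_
    rw [map_smul, smul_eq_mul, ← htr g, (Finset.mem_filter.1 hg).2]
  rw [Nat.card_eq_fintype_card, ← Module.finrank_fintype_fun_eq_card k,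
    ← Module.finrank_fintype_fun_eq_card k (η := ι)]
  exact (LinearEquiv.ofBijective Φ ⟨hinj, hsurj⟩).finrank_eq

end count

end Cfsg.Agent.Lie.BrauerCount
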