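import Mathlib

/-!
Carmichael's presentation of the alternating groups: elements `x i` with `x i ^ 3 = 1` and
`(x i * x j) ^ 2 = 1` generate a quotient of the alternating group on two further points.
-/

set_option autoImplicit false

namespace Cfsg.Agent.Lie.Carmichael

open Equiv

/-- Two special points and the index set. -/
abbrev Pt (I : Type*) := Option (Option I)

variable {I : Type*} [DecidableEq I]

/-- First special point. -/
def ptU : Pt I := none
/-- Second special point. -/
def ptV : Pt I := some none
/-- The point of an index. -/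
def ptI (i : I) : Pt I := some (some i)

/-- The three-cycle `(u v i)`. -/
def cycP (i : I) : Perm (Pt I) := swap ptU (ptI i) * swap ptU ptV

variable [Fintype I]

theorem cycP_mem (i : I) : cycP i ∈ alternatingGroup (Pt I) := by
  rw [Perm.mem_alternatingGroup, cycP, map_mul, Perm.sign_swap (by simp [ptU, ptI]),
    Perm.sign_swap (by simp [ptU, ptV])]
  rfl

/-- The three-cycle `(u v i)` as an element of the alternating group. -/
def cyc (i : I) : alternatingGroup (Pt I) := ⟨cycP i, cycP_mem i⟩

theorem swap_swap_eq {α : Type*} [DecidableEq α] (a b c : α) (hab : a ≠ b) (hac : a ≠ c) (hbc : b ≠ c) :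
    swap b c = swap a b * swap a c * swap a b := by
  ext x
  simp only [Perm.mul_apply, swap_apply_def]
  split_ifs <;> simp_all

theorem closure_cyc : Subgroup.closure (Set.range (cyc : I → alternatingGroup (Pt I))) = ⊤ := by
  set K := Subgroup.closure (Set.range (cyc : I → alternatingGroup (Pt I)))
  set t : Perm (Pt I) := swap ptU ptV with ht
  have hcyc : ∀ i, cycP i ∈ K.map (alternatingGroup (Pt I)).subtype := fun i =>
    ⟨cyc i, Subgroup.subset_closure ⟨i, rfl⟩, rfl⟩
  set L := K.map (alternatingGroup (Pt I)).subtype
  have htt : t * t = 1 := swap_mul_self _ _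
  -- star transpositions are in `L t`
  have hstar : ∀ a : Pt I, a ≠ ptU → swap ptU a * t ∈ L := by
    intro a ha
    match a, ha with
    | none, ha => exact absurd rfl ha
    | some none, _ => show t * t ∈ L; rw [htt]; exact L.one_mem
    | some (some i), _ => exact hcyc i
  have hpair : ∀ a b : Pt I, a ≠ ptU → b ≠ ptU → swap ptU a * swap ptU b ∈ L := by
    intro a b ha hb
    have h1 := L.mul_mem (hstar a ha) (L.inv_mem (hstar b hb))
    rwa [_root_.mul_inv_rev, Perm.inv_def, Perm.inv_def (swap ptU b), symm_swap, symm_swap, mul_assoc,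
      ← mul_assoc t, htt, one_mul] at h1
  have hodd : ∀ a b : Pt I, a ≠ b → swap a b * t ∈ L := by
    intro a b hab
    rcases eq_or_ne a ptU with rfl | ha
    · exact hstar b (Ne.symm hab)
    rcases eq_or_ne b ptU with rfl | hb
    · rw [swap_comm]; exact hstar a hab
    rw [swap_swap_eq ptU a b (Ne.symm ha) (Ne.symm hb) hab, mul_assoc]
    exact L.mul_mem (hpair a b ha hb) (hstar a ha)
  have hall : ∀ σ : Perm (Pt I), (Perm.sign σ = 1 → σ ∈ L) ∧ (Perm.sign σ = -1 → σ * t ∈ L) := by
    have hflip : ∀ a b : Pt I, a ≠ b → t * swap a b ∈ L := fun a b hab => by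
      have := L.inv_mem (hodd a b hab)
      rwa [_root_.mul_inv_rev, Perm.inv_def, Perm.inv_def (swap a b), symm_swap, symm_swap] at this
    intro σ
    induction σ using Perm.swap_induction_on' with
    | one => exact ⟨fun _ => L.one_mem, fun h => absurd h (by simp)⟩
    | mul_swap σ a b hab ih =>
      rw [map_mul, Perm.sign_swap hab]
      constructor
      · intro h
        have hσ : Perm.sign σ = -1 := by
          rcases Int.units_eq_one_or (Perm.sign σ) with e | e <;> simp_all
        have := L.mul_mem (ih.2 hσ) (hflip a b hab)
        rwa [mul_assoc, ← mul_assoc t, htt, one_mul] at this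
      · intro h
        have hσ : Perm.sign σ = 1 := by
          rcases Int.units_eq_one_or (Perm.sign σ) with e | e <;> simp_all
        rw [mul_assoc]
        exact L.mul_mem (ih.1 hσ) (hodd a b hab)
  refine eq_top_iff.2 fun g _ => ?_
  obtain ⟨k, hk, hkg⟩ := (hall g.1).1 (Perm.mem_alternatingGroup.1 g.2)
  rwa [← Subtype.ext hkg]

theorem card_alt : 2 * Nat.card (alternatingGroup (Pt I)) = (Fintype.card I + 2).factorial := by
  rw [two_mul_nat_card_alternatingGroup, Nat.card_perm, Nat.card_eq_fintype_card, Fintype.card_option,
    Fintype.card_option]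

variable {G : Type*} [Group G] {x : I → G}

section Count

variable (h3 : ∀ i, x i ^ 3 = 1) (h2 : ∀ i j, i ≠ j → (x i * x j) ^ 2 = 1)
include h3 h2

/-- The group generated by the elements with index in `s` has at most half of `(#s + 2)!` elements. -/
theorem card_le (s : Finset I) :
    (Subgroup.closure (x '' (s : Set I)) : Set G).Finite ∧
      2 * Nat.card (Subgroup.closure (x '' (s : Set I))) ≤ (s.card + 2).factorial := by
  classical
  induction s using Finset.induction with
  | empty => simp
  | @insert m s hm ih =>
    obtain ⟨hfin, hcard⟩ := ih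
    set K := Subgroup.closure (x '' (s : Set I))
    set X := x m with hX
    have hx3 : X * (X * X) = 1 := by rw [← pow_two, ← pow_succ']; exact h3 m
    let R : Finset G := {1, X, X * X} ∪ s.image fun j => X * X * x j
    have hR : R.card ≤ (insert m s).card + 2 := by
      rw [Finset.card_insert_of_notMem hm]
      refine le_trans (Finset.card_union_le _ _) ?_
      have := Finset.card_image_le (s := s) (f := fun j => X * X * x j)
      have h3' : ({1, X, X * X} : Finset G).card ≤ 3 := Finset.card_le_three
      omega
    let C : Set G := (fun q : G × G => q.1 * q.2) '' ((K : Set G) ×ˢ (R : Set G))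
    have hstep : ∀ i ∈ insert m s, ∀ r ∈ R, r * x i ∈ C := by
      have mk : ∀ {g k r : G}, k ∈ K → r ∈ R → g = k * r → g ∈ C := fun hk hr e =>
        ⟨(_, _), ⟨hk, hr⟩, e.symm⟩
      have hy : ∀ j ∈ s, x j ∈ K := fun j hj => Subgroup.subset_closure ⟨j, hj, rfl⟩
      have hne : ∀ j ∈ s, j ≠ m := fun j hj e => hm (e ▸ hj)
      have hxi : ∀ j ∈ s, X * x j * X = (x j)⁻¹ := by
        intro j hj
        have := h2 m j (hne j hj).symm
        rw [pow_two] at this
        exact eq_inv_of_mul_eq_one_left (by rw [← hX, mul_assoc] at this; rw [mul_assoc, mul_assoc]; simpa only [mul_assoc] using this)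
      have hyy : ∀ j, x j * x j = (x j)⁻¹ := fun j =>
        (inv_eq_of_mul_eq_one_right (by rw [← pow_two, ← pow_succ']; exact h3 j)).symm
      have hXX : X * X = X⁻¹ := (inv_eq_of_mul_eq_one_right hx3).symm
      intro i hi r hr
      have hR1 : (1 : G) ∈ R := by simp [R]
      have hRX : X ∈ R := by simp [R]
      have hRXX : X * X ∈ R := by simp [R]
      have hRj : ∀ j ∈ s, X * X * x j ∈ R := fun j hj => by
        simp only [R, Finset.mem_union, Finset.mem_image]; exact Or.inr ⟨j, hj, rfl⟩
      simp only [R, Finset.mem_union, Finset.mem_insert, Finset.mem_singleton, Finset.mem_image] at hr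
      rcases Finset.mem_insert.1 hi with rfl | hi
      · rcases hr with (rfl | rfl | rfl) | ⟨j, hj, rfl⟩
        · exact mk K.one_mem hRX rfl
        · exact mk K.one_mem hRXX (one_mul _).symm
        · exact mk K.one_mem hR1 (by rw [mul_assoc, hx3, one_mul])
        · refine mk (K.inv_mem (hy j hj)) (hRj j hj) ?_
          rw [← hX, show (x j)⁻¹ * (X * X * x j) = (X * x j * X) * (X * X * x j) by rw [hxi j hj]]
          calc X * X * x j * X = X * (X * x j * X) := by group
            _ = X * (x j)⁻¹ := by rw [hxi j hj]
            _ = X * (x j * (X * (X * X)) * x j) := by rw [hx3, mul_one, hyy]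
            _ = _ := by group
      · have hyi := hy i hi
        have hxyx := hxi i hi
        rcases hr with (rfl | rfl | rfl) | ⟨j, hj, rfl⟩
        · exact mk hyi hR1 (by rw [one_mul, mul_one])
        · refine mk (K.inv_mem hyi) hRXX ?_
          rw [← hxyx]
          calc X * x i = X * x i * (X * (X * X)) := by rw [hx3, mul_one]
            _ = _ := by group
        · exact mk K.one_mem (hRj i hi) (one_mul _).symm
        · rcases eq_or_ne i j with rfl | hij
          · refine mk hyi hRX ?_
            rw [mul_assoc (X * X), hyy i, ← hxyx]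
            calc X * X * (X * x i * X) = (X * (X * X)) * x i * X := by group
              _ = x i * X := by rw [hx3, one_mul]
          · -- conjugation
            have e1 : x j * x i * (x j)⁻¹ = (x i)⁻¹ * x j := by
              have h := h2 i j hij
              rw [pow_two] at h
              have e : x j * x i = (x i)⁻¹ * (x j)⁻¹ := by
                calc x j * x i = (x i)⁻¹ * (x i * x j * (x i * x j)) * (x j)⁻¹ := by group
                  _ = _ := by rw [h, mul_one]
              rw [e, mul_assoc, ← _root_.mul_inv_rev, hyy, inv_inv]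
            have e2 : X⁻¹ * (x i)⁻¹ = x i * X := by
              rw [← hxyx]; group
            refine mk (K.mul_mem hyi (K.inv_mem (hy j hj))) (hRj j hj) ?_
            calc X * X * x j * x i = X⁻¹ * (x j * x i * (x j)⁻¹) * x j := by rw [hXX]; group
              _ = X⁻¹ * (x i)⁻¹ * x j * x j := by rw [e1]; group
              _ = x i * (X * x j * X) * (X⁻¹ * x j) := by rw [e2]; group
              _ = _ := by rw [hxi j hj, hXX, mul_assoc]
    have hCfin : C.Finite := (hfin.prod R.finite_toSet).image _
    have hsub : (Subgroup.closure (x '' ((insert m s : Finset I) : Set I)) : Set G) ⊆ C := by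
      intro g hg
      have hmul : ∀ c ∈ C, ∀ i ∈ insert m s, c * x i ∈ C := by
        rintro _ ⟨⟨k, r⟩, ⟨hk, hr⟩, rfl⟩ i hi
        obtain ⟨⟨k', r'⟩, ⟨hk', hr'⟩, e⟩ := hstep i hi r hr
        refine ⟨(k * k', r'), ⟨K.mul_mem hk hk', hr'⟩, ?_⟩
        show k * k' * r' = k * r * x i
        rw [mul_assoc, show k' * r' = r * x i from e, mul_assoc]
      induction hg using Subgroup.closure_induction_right with
      | one => exact ⟨(1, 1), ⟨K.one_mem, by simp [R]⟩, one_mul 1⟩
      | mul_right y _ z hz hy =>
        obtain ⟨i, hi, rfl⟩ := hz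
        exact hmul y hy i hi
      | mul_inv_cancel y _ z hz hy =>
        obtain ⟨i, hi, rfl⟩ := hz
        rw [show (x i)⁻¹ = x i * x i from (inv_eq_of_mul_eq_one_right (by rw [← pow_two, ← pow_succ']; exact h3 i)),
          ← mul_assoc]
        exact hmul _ (hmul y hy i hi) i hi
    refine ⟨hCfin.subset hsub, ?_⟩
    haveI : Finite K := hfin.to_subtype
    have h1 : Nat.card (Subgroup.closure (x '' ((insert m s : Finset I) : Set I))) ≤ Nat.card K * R.card := by
      calc Nat.card (Subgroup.closure (x '' ((insert m s : Finset I) : Set I))) ≤ Nat.card C :=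
            Nat.card_mono hCfin hsub
        _ ≤ Nat.card ((K : Set G) ×ˢ (R : Set G) : Set (G × G)) :=
            Nat.card_image_le (hfin.prod R.finite_toSet)
        _ = _ := by
            rw [Nat.card_congr (Equiv.Set.prod _ _), Nat.card_prod]
            congr 1
            exact Nat.card_eq_finsetCard R
    calc 2 * Nat.card (Subgroup.closure (x '' ((insert m s : Finset I) : Set I)))
        ≤ 2 * Nat.card K * R.card := by rw [mul_assoc]; omega
      _ ≤ (s.card + 2).factorial * ((insert m s).card + 2) := Nat.mul_le_mul hcard hR
      _ = _ := by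
          rw [Finset.card_insert_of_notMem hm, show s.card + 1 + 2 = (s.card + 2) + 1 by omega,
            Nat.factorial_succ (s.card + 2), mul_comm]

/-- A group generated by Carmichael's elements, mapped onto them, is the alternating group. -/
theorem bijective (hgen : Subgroup.closure (Set.range x) = ⊤) (π : G →* alternatingGroup (Pt I))
    (hπ : ∀ i, π (x i) = cyc i) : Function.Bijective π := by
  have hs : Function.Surjective π := by
    rw [← MonoidHom.range_eq_top, eq_top_iff, ← closure_cyc, Subgroup.closure_le]
    rintro _ ⟨i, rfl⟩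
    exact ⟨x i, hπ i⟩
  obtain ⟨hfin, hcard⟩ := card_le h3 h2 (Finset.univ : Finset I)
  rw [Finset.coe_univ, Set.image_univ, hgen] at hfin hcard
  haveI : Finite G := Set.finite_univ_iff.1 (by simpa using hfin)
  refine hs.bijective_of_nat_card_le ?_
  rw [Subgroup.card_top, Finset.card_univ, ← card_alt (I := I)] at hcard
  omega

end Count

end Cfsg.Agent.Lie.Carmichael
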