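import Cfsg.Agent.Lib.Lie.HeckeRank
import Cfsg.Agent.Lib.Lie.BNAdjacency
import Cfsg.Agent.Lib.Block.PermCenter

/-!
The Hecke algebra of a finite (B,N)-pair with equal parameters is the specialization of the generic
one: the Casimir and commutator ranks at the parameter are complementary, and the former is the
number of constituents of the permutation character on the chambers.
-/

set_option autoImplicit false

namespace Cfsg.Agent.Lie.HeckeCenter

open Matrix Module Polynomial
open Cfsg.Agent.Block.PermChar (Inv pmat cas center inv_iff_commute mult)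

universe u

variable {G : Type u} [Group G] (P : Cfsg.BNPair G)

theorem exists_rep (w : Weyl P) :
    ∃ y : G ⧸ P.B, rel P ((1 : G) : G ⧸ P.B) y = w := by
  obtain ⟨n, rfl⟩ := proj_surj P w
  exact ⟨((n : G) : G ⧸ P.B), (rel_mk P).2 (by simpa using mem_cell_self P n)⟩

variable [Fintype (G ⧸ P.B)] [DecidableEq (G ⧸ P.B)]

theorem inv_adj (w : Weyl P) : Inv G (G ⧸ P.B) (adj P w) := by
  intro g x y
  simp only [adj, Matrix.of_apply]
  rw [rel_smul]

theorem exists_coeff {M : Matrix (G ⧸ P.B) (G ⧸ P.B) ℂ} (hM : Inv G (G ⧸ P.B) M) :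
    ∃ v : Weyl P → ℂ, ∀ x y, M x y = v (rel P x y) := by
  refine ⟨fun w => M ((1 : G) : G ⧸ P.B) (exists_rep P w).choose, fun x y => ?_⟩
  obtain ⟨a, rfl⟩ := QuotientGroup.mk_surjective x
  obtain ⟨c, rfl⟩ := QuotientGroup.mk_surjective y
  obtain ⟨w, hw⟩ : ∃ w, w = rel P (a : G ⧸ P.B) (c : G ⧸ P.B) := ⟨_, rfl⟩
  rw [← hw]
  beta_reduce
  have hz := (exists_rep P w).choose_spec
  generalize (exists_rep P w).choose = z at hz
  obtain ⟨d, rfl⟩ := QuotientGroup.mk_surjective z
  rw [rel_mk] at hz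
  have hac := (rel_mk P).1 hw.symm
  obtain ⟨n, rfl⟩ := proj_surj P w
  rw [mem_cell_proj] at hz hac
  obtain ⟨b₁, h₁, b₂, h₂, e⟩ := hz
  obtain ⟨b₃, h₃, b₄, h₄, e'⟩ := hac
  rw [inv_one, one_mul] at e
  subst e
  have hc : c = a * (b₃ * n * b₄) := by rw [← e', mul_inv_cancel_left]
  subst hc
  have h := hM (a * b₃ * b₁⁻¹) ((1 : G) : G ⧸ P.B) ((b₁ * n * b₂ : G) : G ⧸ P.B)
  have e1 : (a * b₃ * b₁⁻¹) • ((1 : G) : G ⧸ P.B) = (a : G ⧸ P.B) := by
    show ((a * b₃ * b₁⁻¹ * 1 : G) : G ⧸ P.B) = _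
    refine QuotientGroup.eq.2 ?_
    have : (a * b₃ * b₁⁻¹ * 1)⁻¹ * a = b₁ * b₃⁻¹ := by group
    rw [this]
    exact mul_mem h₁ (inv_mem h₃)
  have e2 : (a * b₃ * b₁⁻¹) • ((b₁ * n * b₂ : G) : G ⧸ P.B) =
      ((a * (b₃ * n * b₄) : G) : G ⧸ P.B) := by
    show ((a * b₃ * b₁⁻¹ * (b₁ * n * b₂) : G) : G ⧸ P.B) = _
    refine QuotientGroup.eq.2 ?_
    have : (a * b₃ * b₁⁻¹ * (b₁ * n * b₂))⁻¹ * (a * (b₃ * n * b₄)) = b₂⁻¹ * b₄ := by group
    rw [this]
    exact mul_mem (inv_mem h₂) h₄
  rw [e1, e2] at h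
  exact h

variable {W : Type*} [Group W] [Fintype W] [DecidableEq W] {k : ℕ} {s : Fin k → W}
variable (e : Weyl P ≃* W)

/-- The element of the centraliser ring with given coefficients. -/
noncomputable def phi : (W → ℂ) →ₗ[ℂ] Matrix (G ⧸ P.B) (G ⧸ P.B) ℂ where
  toFun v := Matrix.of fun x y => v (e (rel P x y))
  map_add' _ _ := rfl
  map_smul' _ _ := rfl

theorem phi_apply (v : W → ℂ) (x y : G ⧸ P.B) : phi P e v x y = v (e (rel P x y)) := rfl

theorem phi_injective : Function.Injective (phi P e) := by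
  intro v v' h
  funext w
  obtain ⟨w', rfl⟩ := e.surjective w
  obtain ⟨y, hy⟩ := exists_rep P w'
  have := congrFun (congrFun h ((1 : G) : G ⧸ P.B)) y
  rwa [phi_apply, phi_apply, hy] at this

theorem phi_inv (v : W → ℂ) : Inv G (G ⧸ P.B) (phi P e v) := by
  intro g x y
  rw [phi_apply, phi_apply, rel_smul]

theorem exists_phi {M : Matrix (G ⧸ P.B) (G ⧸ P.B) ℂ} (hM : Inv G (G ⧸ P.B) M) :
    ∃ v, phi P e v = M := by
  obtain ⟨v, hv⟩ := exists_coeff P hM
  exact ⟨v ∘ e.symm, by ext x y; simp [phi_apply, hv]⟩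

theorem phi_single (w : Weyl P) : phi P e (Pi.single (e w) 1) = adj P w := by
  classical
  ext x y
  simp [phi_apply, adj, Pi.single_apply]

theorem phi_eq_sum (v : W → ℂ) : phi P e v = ∑ w : W, v w • adj P (e.symm w) := by
  conv_lhs => rw [pi_eq_sum_univ' v]
  rw [map_sum]
  refine Finset.sum_congr rfl fun w _ => ?_
  rw [map_smul, ← phi_single P e, e.apply_symm_apply]

variable (hgen : ∀ w, ∃ l : List (Fin k), (l.map s).prod = w)
variable (f : Fin k ≃ P.S) (he : ∀ i, e (refl P (f i)) = s i)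

include he

omit [Fintype (G ⧸ P.B)] [DecidableEq (G ⧸ P.B)] [Fintype W] [DecidableEq W] in
theorem e_wprod (l : List (Fin k)) : e (wprod P (l.map f)) = (l.map s).prod := by
  induction l with
  | nil => simp
  | cons i l ih => rw [List.map_cons, wprod_cons, map_mul, he, ih, List.map_cons, List.prod_cons]

omit [Fintype (G ⧸ P.B)] [DecidableEq (G ⧸ P.B)] [Fintype W] [DecidableEq W] in
theorem ell_eq (w : Weyl P) : HeckeRank.ell s hgen (e w) = len P w := by
  apply le_antisymm
  · obtain ⟨l, hl, rfl⟩ := exists_reduced P w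
    have h := HeckeRank.ell_le s hgen (l.map f.symm)
    have h' := e_wprod P e f he (l.map f.symm)
    simp only [List.map_map, Equiv.self_comp_symm, List.map_id, List.length_map] at h h'
    rw [h'] at *
    omega
  · obtain ⟨h1, h2⟩ := HeckeRank.red_spec s hgen (e w)
    have h3 : wprod P ((HeckeRank.red s hgen (e w)).map f) = w :=
      e.injective (by rw [e_wprod P e f he, h2])
    have := len_le P ((HeckeRank.red s hgen (e w)).map f)
    rw [h3, List.length_map, h1] at this
    exact this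

variable {q : ℕ} (hval : ∀ t, val P t = q)

include hval

theorem phi_Lgen (i : Fin k) (v : W → ℂ) :
    phi P e ((HeckeRank.Lgen s hgen i).map (eval (q : ℂ)) *ᵥ v) =
      adj P (refl P (f i)) * phi P e v := by
  classical
  let T : (W → ℂ) →ₗ[ℂ] Matrix (G ⧸ P.B) (G ⧸ P.B) ℂ :=
    phi P e ∘ₗ ((HeckeRank.Lgen s hgen i).map (eval (q : ℂ))).mulVecLin
  let T' : (W → ℂ) →ₗ[ℂ] Matrix (G ⧸ P.B) (G ⧸ P.B) ℂ :=
    LinearMap.mulLeft ℂ (adj P (refl P (f i))) ∘ₗ phi P e
  suffices h : T = T' from LinearMap.congr_fun h v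
  refine (Pi.basisFun ℂ W).ext fun w => ?_
  obtain ⟨w, rfl⟩ := e.surjective w
  simp only [T, T', LinearMap.comp_apply, Pi.basisFun_apply, Matrix.mulVecLin_apply,
    Matrix.mulVec_single_one, LinearMap.mulLeft_apply, phi_single]
  have hs : s i * e w = e (refl P (f i) * w) := by rw [map_mul, he]
  by_cases hlen : len P w < len P (refl P (f i) * w)
  · have hcol : ((HeckeRank.Lgen s hgen i).map (eval (q : ℂ))).col (e w) =
        Pi.single (e (refl P (f i) * w)) 1 := by
      funext w'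
      have h : HeckeRank.ell s hgen (e w) < HeckeRank.ell s hgen (s i * e w) := by
        rwa [hs, ell_eq P e hgen f he, ell_eq P e hgen f he]
      rw [Matrix.col_apply, Matrix.map_apply, HeckeRank.Lgen, if_pos h, hs]
      simp [Pi.single_apply, apply_ite (eval (q : ℂ))]
    rw [hcol, phi_single, adj_mul P hlen]
  · have hdown : len P (refl P (f i) * w) < len P (refl P (f i) * (refl P (f i) * w)) := by
      rw [refl_cancel]
      have := len_refl_mul_ne P (f i) w
      omega
    have hcol : ((HeckeRank.Lgen s hgen i).map (eval (q : ℂ))).col (e w) =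
        ((q : ℂ) - 1) • Pi.single (e w) 1 + (q : ℂ) • Pi.single (e (refl P (f i) * w)) 1 := by
      funext w'
      have h : ¬ HeckeRank.ell s hgen (e w) < HeckeRank.ell s hgen (s i * e w) := by
        rwa [hs, ell_eq P e hgen f he, ell_eq P e hgen f he]
      rw [Matrix.col_apply, Matrix.map_apply, HeckeRank.Lgen, if_neg h, hs]
      simp [Pi.single_apply, apply_ite (eval (q : ℂ))]
    rw [hcol, map_add, map_smul, map_smul, phi_single, phi_single]
    have h1 := adj_mul P hdown
    rw [refl_cancel] at h1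
    conv_rhs => rw [← h1, ← Matrix.mul_assoc, adj_sq, hval, Matrix.add_mul, Matrix.smul_mul,
      Matrix.smul_mul, Matrix.one_mul, h1]

theorem phi_evL (x : W) (v : W → ℂ) :
    phi P e (HeckeRank.evL s hgen (q : ℂ) x *ᵥ v) = adj P (e.symm x) * phi P e v := by
  obtain ⟨h1, h2⟩ := HeckeRank.red_spec s hgen x
  have key : ∀ (l : List (Fin k)) (v : W → ℂ),
      phi P e ((l.map fun i => (HeckeRank.Lgen s hgen i).map (eval (q : ℂ))).prod *ᵥ v) =
        mprod P (l.map f) * phi P e v := by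
    intro l
    induction l with
    | nil => intro v; simp [mprod]
    | cons i l ih =>
      intro v
      rw [List.map_cons, List.prod_cons, ← Matrix.mulVec_mulVec, phi_Lgen P e hgen f he hval, ih,
        ← Matrix.mul_assoc]
      simp [mprod]
  have h3 : wprod P ((HeckeRank.red s hgen x).map f) = e.symm x :=
    e.injective (by rw [e_wprod P e f he, h2, e.apply_symm_apply])
  have h4 : len P (wprod P ((HeckeRank.red s hgen x).map f)) =
      ((HeckeRank.red s hgen x).map f).length := by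
    rw [← ell_eq P e hgen f he, h3, e.apply_symm_apply, List.length_map, h1]
  rw [HeckeRank.evL_eq, key, mprod_eq P _ h4, h3]

theorem phi_evR (x : W) (v : W → ℂ) :
    phi P e (HeckeRank.evR s hgen (q : ℂ) x *ᵥ v) = phi P e v * adj P (e.symm x) := by
  classical
  have h1 : HeckeRank.evR s hgen (q : ℂ) x *ᵥ v =
      ∑ w : W, v w • (HeckeRank.evL s hgen (q : ℂ) w *ᵥ Pi.single x 1) := by
    funext w'
    rw [Finset.sum_apply, Matrix.mulVec, dotProduct]
    refine Finset.sum_congr rfl fun w _ => ?_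
    rw [Pi.smul_apply, Matrix.mulVec_single_one, smul_eq_mul, mul_comm]
    rfl
  rw [h1, map_sum, phi_eq_sum P e v, Finset.sum_mul]
  refine Finset.sum_congr rfl fun w _ => ?_
  rw [map_smul, phi_evL P e hgen f he hval, Matrix.smul_mul, ← phi_single P e (e.symm x),
    e.apply_symm_apply]

variable [Fintype G]

theorem card_pairs (w : Weyl P) :
    Nat.card {a : (G ⧸ P.B) × (G ⧸ P.B) // rel P a.1 a.2 = w} =
      Fintype.card (G ⧸ P.B) * q ^ len P w := by
  classical
  obtain ⟨l, hl, rfl⟩ := exists_reduced P w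
  have h := trace_norm P l hl.symm
  have hp : (l.map (val P)).prod = q ^ len P (wprod P l) := by
    rw [← hl, show (l.map (val P)) = List.replicate l.length q by
      rw [List.eq_replicate_iff]; simp [hval], List.prod_replicate]
  rw [hp] at h
  have h2 : (adj P (wprod P l) * adj P (wprod P l)⁻¹).trace =
      (Nat.card {a : (G ⧸ P.B) × (G ⧸ P.B) // rel P a.1 a.2 = wprod P l} : ℂ) := by
    rw [Nat.card_eq_fintype_card, Fintype.card_subtype, Finset.natCast_card_filter,
      Fintype.sum_prod_type]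
    simp only [Matrix.trace, Matrix.diag, Matrix.mul_apply]
    refine Finset.sum_congr rfl fun x _ => Finset.sum_congr rfl fun y _ => ?_
    by_cases hxy : rel P x y = wprod P l
    · simp [adj, hxy, rel_swap P hxy]
    · simp [adj, hxy]
  rw [h2] at h
  exact_mod_cast h

/-- The number of group elements carrying one pair of chambers to another. -/
theorem card_move (a y d z : G ⧸ P.B) (h : rel P d z = rel P a y) :
    Nat.card {g : G // g • a = d ∧ g • y = z} *
        (Fintype.card (G ⧸ P.B) * q ^ len P (rel P a y)) = Nat.card G := by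
  classical
  have htrans : ∀ d z : G ⧸ P.B, rel P d z = rel P a y → ∃ g : G, g • a = d ∧ g • y = z := by
    intro d z hr
    by_contra hne
    push Not at hne
    -- the indicator of the orbit of the pair is invariant, hence constant on the relation
    let M : Matrix (G ⧸ P.B) (G ⧸ P.B) ℂ :=
      Matrix.of fun u u' => if ∃ g : G, g • a = u ∧ g • y = u' then 1 else 0
    have hM : Inv G (G ⧸ P.B) M := by
      intro g u u'
      show (if _ then _ else _) = if _ then _ else _
      refine if_congr ⟨fun ⟨g', h1, h2⟩ => ⟨g⁻¹ * g', ?_, ?_⟩, fun ⟨g', h1, h2⟩ =>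
        ⟨g * g', ?_, ?_⟩⟩ rfl rfl
      · rw [mul_smul, h1, inv_smul_smul]
      · rw [mul_smul, h2, inv_smul_smul]
      · rw [mul_smul, h1]
      · rw [mul_smul, h2]
    obtain ⟨v, hv⟩ := exists_coeff P hM
    have e1 := hv a y
    have e2 := hv d z
    rw [hr, ← e1] at e2
    simp only [M, Matrix.of_apply] at e2
    rw [if_neg (fun ⟨g, h1, h2⟩ => hne g h1 h2), if_pos ⟨1, one_smul _ _, one_smul _ _⟩] at e2
    exact zero_ne_one e2
  obtain ⟨F, hF⟩ : ∃ F : (G ⧸ P.B) × (G ⧸ P.B) → ℕ, ∀ b,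
      F b = Nat.card {g : G // g • a = b.1 ∧ g • y = b.2} := ⟨_, fun _ => rfl⟩
  have hconst : ∀ b : {b : (G ⧸ P.B) × (G ⧸ P.B) // rel P b.1 b.2 = rel P a y},
      F b.1 = F (d, z) := by
    rintro ⟨⟨u, u'⟩, hu⟩
    obtain ⟨g₁, h11, h12⟩ := htrans u u' hu
    obtain ⟨g₂, h21, h22⟩ := htrans d z h
    rw [hF, hF]
    refine Nat.card_congr (Equiv.subtypeEquiv (Equiv.mulLeft (g₂ * g₁⁻¹)) fun g => ?_)
    have hu1 : (g₂ * g₁⁻¹) • u = d := by rw [← h11, mul_smul, inv_smul_smul, h21]
    have hu2 : (g₂ * g₁⁻¹) • u' = z := by rw [← h12, mul_smul, inv_smul_smul, h22]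
    rw [Equiv.coe_mulLeft]
    constructor
    · rintro ⟨h1, h2⟩
      exact ⟨by rw [mul_smul, h1, hu1], by rw [mul_smul, h2, hu2]⟩
    · rintro ⟨h1, h2⟩
      exact ⟨smul_left_cancel (g₂ * g₁⁻¹) (by rw [← mul_smul, hu1]; exact h1),
        smul_left_cancel (g₂ * g₁⁻¹) (by rw [← mul_smul, hu2]; exact h2)⟩
  let S := {b : (G ⧸ P.B) × (G ⧸ P.B) // rel P b.1 b.2 = rel P a y}
  let π : G → S := fun g => ⟨(g • a, g • y), rel_smul P g a y⟩
  have hsum : Nat.card G = ∑ b : S, F b.1 := by
    rw [← Nat.card_congr (Equiv.sigmaFiberEquiv π), Nat.card_sigma]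
    refine Finset.sum_congr rfl fun b _ => ?_
    rw [hF]
    refine Nat.card_congr (Equiv.subtypeEquivRight fun g => ?_)
    exact ⟨fun h => ⟨congrArg (fun b : S => b.1.1) h, congrArg (fun b : S => b.1.2) h⟩,
      fun h => Subtype.ext (Prod.ext h.1 h.2)⟩
  rw [hsum, Finset.sum_congr rfl fun b _ => hconst b, Finset.sum_const, Finset.card_univ,
    ← Nat.card_eq_fintype_card (α := S), card_pairs P e f he hval, hF, smul_eq_mul, mul_comm]

theorem cas_eq (M : Matrix (G ⧸ P.B) (G ⧸ P.B) ℂ) :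
    cas G M = ((Nat.card G : ℂ) / Fintype.card (G ⧸ P.B)) •
      ∑ w : W, ((q : ℂ) ^ HeckeRank.ell s hgen w)⁻¹ •
        (adj P (e.symm w) * M * adj P (e.symm w)⁻¹) := by
  classical
  ext a d
  have hL : cas G M a d = ∑ y : G ⧸ P.B, ∑ z : G ⧸ P.B,
      (Nat.card {g : G // g • a = d ∧ g • y = z} : ℂ) * M y z := by
    have h1 : ∀ g : G, ((M * pmat G (G ⧸ P.B) g).trace • pmat G (G ⧸ P.B) g⁻¹) a d =
        ∑ y : G ⧸ P.B, ∑ z : G ⧸ P.B, if g • a = d ∧ g • y = z then M y z else 0 := by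
      intro g
      rw [Matrix.smul_apply, smul_eq_mul, Matrix.trace, Finset.sum_mul]
      refine Finset.sum_congr rfl fun y _ => ?_
      rw [Matrix.diag, Matrix.mul_apply, Finset.sum_mul]
      refine Finset.sum_congr rfl fun z _ => ?_
      rw [Block.PermChar.pmat_apply, Block.PermChar.pmat_apply]
      have hiff : g⁻¹ • d = a ↔ g • a = d := by rw [inv_smul_eq_iff, eq_comm]
      by_cases h1 : g • a = d <;> by_cases h2 : g • y = z <;> simp [h1, h2, hiff]
    simp only [cas]
    rw [Matrix.sum_apply, Finset.sum_congr rfl fun g _ => h1 g, Finset.sum_comm]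
    refine Finset.sum_congr rfl fun y _ => ?_
    rw [Finset.sum_comm]
    refine Finset.sum_congr rfl fun z _ => ?_
    rw [← Finset.sum_filter, Finset.sum_const, nsmul_eq_mul, Nat.card_eq_fintype_card,
      Fintype.card_subtype]
  rw [hL, Matrix.smul_apply, Matrix.sum_apply]
  simp only [Matrix.smul_apply, Matrix.mul_apply, smul_eq_mul, Finset.sum_mul, Finset.mul_sum]
  conv_rhs => rw [Finset.sum_comm]
  conv_lhs => rw [Finset.sum_comm]
  refine Finset.sum_congr rfl fun z _ => ?_
  conv_rhs => rw [Finset.sum_comm]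
  refine Finset.sum_congr rfl fun y _ => ?_
  rw [Finset.sum_eq_single (e (rel P a y))]
  · rw [e.symm_apply_apply, ell_eq P e hgen f he]
    by_cases h : rel P z d = (rel P a y)⁻¹
    · have hdz : rel P d z = rel P a y := by
        have := rel_swap P h
        rwa [inv_inv] at this
      have hc := congrArg (Nat.cast (R := ℂ)) (card_move P e f he hval a y d z hdz)
      push_cast at hc
      have hG : (Nat.card G : ℂ) ≠ 0 := Nat.cast_ne_zero.mpr Nat.card_pos.ne'
      rw [← hc] at hG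
      obtain ⟨-, hB, hq⟩ : (Nat.card {g : G // g • a = d ∧ g • y = z} : ℂ) ≠ 0 ∧
          (Fintype.card (G ⧸ P.B) : ℂ) ≠ 0 ∧ (q : ℂ) ^ len P (rel P a y) ≠ 0 :=
        ⟨left_ne_zero_of_mul hG, left_ne_zero_of_mul (right_ne_zero_of_mul hG),
          right_ne_zero_of_mul (right_ne_zero_of_mul hG)⟩
      simp only [adj, Matrix.of_apply, h, if_true]
      rw [← hc]
      field_simp
    · have : IsEmpty {g : G // g • a = d ∧ g • y = z} := by
        refine ⟨fun g => h ?_⟩
        obtain ⟨g, h1, h2⟩ := g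
        refine rel_swap P ?_
        rw [← h1, ← h2, rel_smul]
      simp [adj, h]
  · intro w _ hw
    have : rel P a y ≠ e.symm w := fun h => hw (by rw [h, e.apply_symm_apply])
    simp [adj, this]
  · simp

theorem phi_K (hq0 : q ≠ 0) (v : W → ℂ) :
    phi P e ((HeckeRank.Kmat s hgen).map (eval (q : ℂ)) *ᵥ v) =
      ((q : ℂ) ^ HeckeRank.top s hgen * Fintype.card (G ⧸ P.B) / Nat.card G) •
        cas G (phi P e v) := by
  have hG : (Nat.card G : ℂ) ≠ 0 := Nat.cast_ne_zero.mpr Nat.card_pos.ne'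
  have hB : (Fintype.card (G ⧸ P.B) : ℂ) ≠ 0 := by
    haveI : Nonempty (G ⧸ P.B) := ⟨((1 : G) : G ⧸ P.B)⟩
    exact Nat.cast_ne_zero.mpr Fintype.card_ne_zero
  rw [cas_eq P e hgen f he hval, smul_smul, Finset.smul_sum, HeckeRank.evK_eq, Matrix.sum_mulVec,
    map_sum]
  refine Finset.sum_congr rfl fun x _ => ?_
  rw [Matrix.smul_mulVec, map_smul, ← Matrix.mulVec_mulVec, phi_evL P e hgen f he hval,
    phi_evR P e hgen f he hval, smul_smul, ← map_inv, Matrix.mul_assoc]
  congr 1
  have hle : HeckeRank.ell s hgen x ≤ HeckeRank.top s hgen :=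
    Finset.le_sup (Finset.mem_univ x)
  have hq : (q : ℂ) ≠ 0 := Nat.cast_ne_zero.mpr hq0
  rw [pow_sub₀ _ hq hle]
  field_simp

theorem good (hq0 : q ≠ 0) :
    ((HeckeRank.Kmat s hgen).map (eval (q : ℂ))).rank +
        ((HeckeRank.Cmat s hgen).map (eval (q : ℂ))).rank = Fintype.card W ∧
      ((HeckeRank.Kmat s hgen).map (eval (q : ℂ))).rank =
        Nat.card {χ : Cfsg.IrrCharacter G // mult G (G ⧸ P.B) (χ : G → ℂ) ≠ 0} := by
  have hker : (LinearMap.ker ((HeckeRank.Cmat s hgen).map (eval (q : ℂ))).mulVecLin).map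
      (phi P e) = center G (G ⧸ P.B) := by
    ext z
    constructor
    · rintro ⟨v, hv, rfl⟩
      refine ⟨phi_inv P e v, fun M hM => ?_⟩
      obtain ⟨u, rfl⟩ := exists_phi P e hM
      rw [SetLike.mem_coe, LinearMap.mem_ker, Matrix.mulVecLin_apply, funext_iff] at hv
      simp only [HeckeRank.evC_mulVec, Pi.zero_apply, sub_eq_zero, Prod.forall] at hv
      rw [phi_eq_sum P e u, Finset.mul_sum, Finset.sum_mul]
      refine Finset.sum_congr rfl fun w _ => ?_
      rw [Matrix.mul_smul, Matrix.smul_mul, ← phi_evL P e hgen f he hval,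
        ← phi_evR P e hgen f he hval, funext (hv w)]
    · rintro ⟨hz, hz'⟩
      obtain ⟨v, rfl⟩ := exists_phi P e hz
      refine ⟨v, ?_, rfl⟩
      rw [SetLike.mem_coe, LinearMap.mem_ker, Matrix.mulVecLin_apply, funext_iff]
      simp only [HeckeRank.evC_mulVec, Pi.zero_apply, sub_eq_zero, Prod.forall]
      intro x
      refine congrFun (phi_injective P e ?_)
      rw [phi_evL P e hgen f he hval, phi_evR P e hgen f he hval, hz' _ (inv_adj P _)]
  have hrange : (LinearMap.range ((HeckeRank.Kmat s hgen).map (eval (q : ℂ))).mulVecLin).map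
      (phi P e) = center G (G ⧸ P.B) := by
    ext z
    constructor
    · rintro ⟨_, ⟨v, rfl⟩, rfl⟩
      rw [Matrix.mulVecLin_apply, phi_K P e hgen f he hval hq0]
      exact Submodule.smul_mem _ _ (Block.PermChar.cas_mem_center (phi_inv P e v))
    · intro hz
      obtain ⟨M, hM, rfl⟩ := Block.PermChar.center_le_cas hz
      obtain ⟨v, rfl⟩ := exists_phi P e hM
      obtain ⟨c, hc⟩ : ∃ c : ℂ,
          c = (q : ℂ) ^ HeckeRank.top s hgen * Fintype.card (G ⧸ P.B) / Nat.card G := ⟨_, rfl⟩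
      have hc0 : c ≠ 0 := by
        haveI : Nonempty (G ⧸ P.B) := ⟨((1 : G) : G ⧸ P.B)⟩
        rw [hc]
        exact div_ne_zero (mul_ne_zero (pow_ne_zero _ (Nat.cast_ne_zero.mpr hq0))
          (Nat.cast_ne_zero.mpr Fintype.card_ne_zero)) (Nat.cast_ne_zero.mpr Nat.card_pos.ne')
      refine ⟨_, LinearMap.mem_range_self _ (c⁻¹ • v), ?_⟩
      rw [map_smul, map_smul, Matrix.mulVecLin_apply, phi_K P e hgen f he hval hq0, ← hc, smul_smul,
        inv_mul_cancel₀ hc0, one_smul]
  have h1 : ∀ U : Submodule ℂ (W → ℂ), finrank ℂ (U.map (phi P e)) = finrank ℂ U := fun U =>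
    (Submodule.equivMapOfInjective _ (phi_injective P e) U).finrank_eq.symm
  have hK : ((HeckeRank.Kmat s hgen).map (eval (q : ℂ))).rank =
      finrank ℂ (center G (G ⧸ P.B)) := by
    rw [Matrix.rank, ← h1, hrange]
  refine ⟨?_, by rw [hK, Block.PermChar.finrank_center]⟩
  have h2 := HeckeRank.rank_C_add s hgen (q : ℂ)
  rw [← h1, hker, ← hK] at h2
  omega

end Cfsg.Agent.Lie.HeckeCenter
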