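import Cfsg.Agent.Lib.Transfer.Fusion
import Cfsg.Agent.Lib.Lie.Chev.TwistF4TwoSimple
import Mathlib.GroupTheory.IndexNormal

/-! Groups of the shape of ²G₂(3): the derived subgroup is simple of order 504. -/

set_option autoImplicit false

namespace Cfsg.Agent.Lie.ReeThreeCore

open scoped commutatorElement

variable {G : Type*} [Group G] [Finite G]

/-- The order of the join with a normal subgroup divides the product of the orders. -/
theorem card_sup_dvd (M L : Subgroup G) [M.Normal] :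
    Nat.card ↥(M ⊔ L) ∣ Nat.card M * Nat.card L := by
  have h1 := Subgroup.card_mul_index (M.subgroupOf (M ⊔ L))
  rw [Nat.card_congr (Subgroup.subgroupOfEquivOfLe (le_sup_left : M ≤ M ⊔ L)).toEquiv] at h1
  have h2 : M.relIndex (M ⊔ L) = M.relIndex L := Subgroup.relIndex_sup_left L M
  rw [← h1, show (M.subgroupOf (M ⊔ L)).index = M.relIndex (M ⊔ L) from rfl, h2]
  exact mul_dvd_mul_left _ (Subgroup.relIndex_dvd_card _ _)

/-- A minimal normal subgroup whose order contains some prime exactly once is simple, provided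
that it is the only one. -/
theorem simple_of_prime_once (D : Subgroup G) [D.Normal] [Nontrivial D]
    (hmin : ∀ N : Subgroup G, N.Normal → N ≠ ⊥ → D ≤ N) {p : ℕ} (hp : p.Prime)
    (h1 : p ∣ Nat.card D) (h2 : ¬ p * p ∣ Nat.card D) : IsSimpleGroup D := by
  haveI := Fact.mk hp
  classical
  -- a proper normal subgroup has order prime to `p`
  have hproper : ∀ K : Subgroup D, K.Normal → K ≠ ⊤ → ¬ p ∣ Nat.card K := by
    intro K hK hne hd
    apply hne
    obtain ⟨k, hk⟩ := exists_prime_orderOf_dvd_card' p hd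
    obtain ⟨S, hS⟩ : ∃ S : Subgroup G, S = Subgroup.closure {g | g ∈ D ∧ g ^ p = 1} := ⟨_, rfl⟩
    have hSn : S.Normal := by
      refine ⟨fun s hs x => ?_⟩
      have hsub : S ≤ S.comap (MulAut.conj x).toMonoidHom := by
        conv_lhs => rw [hS]
        refine (Subgroup.closure_le _).2 fun g hg => ?_
        rw [SetLike.mem_coe, Subgroup.mem_comap, hS]
        refine Subgroup.subset_closure ⟨Subgroup.Normal.conj_mem inferInstance g hg.1 x, ?_⟩
        rw [MulEquiv.coe_toMonoidHom, ← map_pow, hg.2, map_one]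
      simpa using hsub hs
    have hkD : ((k : D) : G) ^ p = 1 := by
      have h := pow_orderOf_eq_one k
      rw [hk] at h
      rw [← Subgroup.coe_pow, ← Subgroup.coe_pow, h]
      rfl
    have hSne : S ≠ ⊥ := fun e => by
      have hm : ((k : D) : G) ∈ S := hS ▸ Subgroup.subset_closure ⟨(k : D).2, hkD⟩
      rw [e, Subgroup.mem_bot] at hm
      have : k = 1 := Subtype.ext (Subtype.ext hm)
      rw [this, orderOf_one] at hk
      exact hp.ne_one hk.symm
    have hfac : (Nat.card D).factorization p = 1 := by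
      have hne : Nat.card D ≠ 0 := Nat.card_pos.ne'
      have a1 := (hp.dvd_iff_one_le_factorization hne).1 h1
      by_contra h
      exact h2 (by
        rw [← sq]
        exact (hp.pow_dvd_iff_le_factorization hne).2 (by omega))
    have hle : S ≤ K.map D.subtype := by
      rw [hS]
      refine (Subgroup.closure_le _).2 fun g hg => ?_
      refine ⟨⟨g, hg.1⟩, ?_, rfl⟩
      by_cases hg1 : (⟨g, hg.1⟩ : D) = 1
      · rw [SetLike.mem_coe, hg1]; exact one_mem _
      have hog : orderOf (⟨g, hg.1⟩ : D) = p := orderOf_eq_prime (Subtype.ext hg.2) hg1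
      have hok : orderOf (k : D) = p := by rw [Subgroup.orderOf_coe, hk]
      let P : Sylow p D := Sylow.ofCard (Subgroup.zpowers (⟨g, hg.1⟩ : D))
        (by rw [Nat.card_zpowers, hog, hfac, pow_one])
      let Q : Sylow p D := Sylow.ofCard (Subgroup.zpowers (k : D))
        (by rw [Nat.card_zpowers, hok, hfac, pow_one])
      obtain ⟨x, hx⟩ := MulAction.exists_smul_eq D Q P
      have hmem : (⟨g, hg.1⟩ : D) ∈ (P : Subgroup D) := Subgroup.mem_zpowers _
      rw [← hx, Sylow.coe_subgroup_smul, Subgroup.mem_pointwise_smul_iff_inv_smul_mem] at hmem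
      have hKle : (Q : Subgroup D) ≤ K := Subgroup.zpowers_le.2 k.2
      have h := hK.conj_mem _ (hKle hmem) x
      simpa [mul_assoc] using h
    have h := (hmin S hSn hSne).trans hle
    rw [eq_top_iff]
    intro d _
    obtain ⟨d', hd', e⟩ := h d.2
    rwa [← Subtype.ext e]
  -- the largest one is normal in the group
  obtain ⟨M, ⟨hMn, hMp⟩, hmax⟩ := (Set.toFinite {K : Subgroup D | K.Normal ∧ ¬ p ∣ Nat.card K}).exists_maximal
    ⟨⊥, Subgroup.normal_bot, by rw [Subgroup.card_bot]; exact hp.not_dvd_one⟩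
  haveI := hMn
  have hgreat : ∀ K : Subgroup D, K.Normal → ¬ p ∣ Nat.card K → K ≤ M := by
    intro K hK hKp
    haveI := hK
    have hm : (M ⊔ K).Normal ∧ ¬ p ∣ Nat.card ↥(M ⊔ K) := by
      refine ⟨inferInstance, fun hd => ?_⟩
      rcases (hp.dvd_mul).1 (hd.trans (card_sup_dvd M K)) with h | h
      · exact hMp h
      · exact hKp h
    exact le_sup_right.trans (hmax hm le_sup_left)
  have hMbot : M = ⊥ := by
    by_contra hne
    have hn : (M.map D.subtype).Normal := by
      refine ⟨?_⟩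
      rintro _ ⟨a, ha, rfl⟩ x
      obtain ⟨φ, hφ⟩ : ∃ φ : D →* D, ∀ d : D, (φ d : G) = x * d * x⁻¹ :=
        ⟨((MulAut.conjNormal x : D ≃* D)).toMonoidHom, fun d => MulAut.conjNormal_apply x d⟩
      have hinj : Function.Injective φ := fun a b e => by
        have e' := congrArg (Subtype.val : D → G) e
        rw [hφ, hφ] at e'
        exact Subtype.ext (mul_left_cancel (mul_right_cancel e'))
      have hsurj : Function.Surjective φ := Finite.injective_iff_surjective.1 hinj
      have hK : (M.map φ).Normal ∧ ¬ p ∣ Nat.card (M.map φ) :=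
        ⟨Subgroup.Normal.map hMn φ hsurj, by rwa [Subgroup.card_map_of_injective hinj]⟩
      exact ⟨φ a, hgreat _ hK.1 hK.2 ⟨a, ha, rfl⟩, hφ a⟩
    have h := hmin _ hn (fun e => hne (by
      rw [Subgroup.map_eq_bot_iff, Subgroup.ker_subtype, le_bot_iff] at e
      exact e))
    have h' := Subgroup.card_dvd_of_le h
    rw [Subgroup.card_map_of_injective (Subgroup.subtype_injective D)] at h'
    exact hMp (h1.trans h')
  refine ⟨fun K hK => ?_⟩
  by_cases h : K = ⊤
  · exact Or.inr h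
  · exact Or.inl (le_bot_iff.1 (hMbot ▸ hgreat K hK (hproper K hK h)))

variable {U B : Subgroup G} {i y a : G}

/-- The derived subgroup of a group of the shape of ²G₂(3). -/
theorem derived_simple_card (hG : Nat.card G = 1512) (hU : Nat.card U = 27) (hUB : U ≤ B)
    (hB : ∀ b ∈ B, ∃ u ∈ U, b = u ∨ b = u * i) (hBU : ∀ b ∈ B, ∀ u ∈ U, b * u * b⁻¹ ∈ U)
    (hy : y ∈ U) (hy9 : orderOf y = 9) (hiy : i * y * i⁻¹ = y⁻¹)
    (ha : a ∈ U) (ha1 : a ≠ 1) (hia : i * a * i⁻¹ = a)
    (hfus : ∀ x ∈ U, x ≠ 1 → ∀ g : G, g * x * g⁻¹ ∈ U → g ∈ B)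
    (hgen : ∀ M : Subgroup G, (∀ g : G, ∀ k : ℕ, g ^ 3 ^ k = 1 → g ∈ M) → M = ⊤)
    (hmax : ∀ M : Subgroup G, B ≤ M → M ≠ B → M = ⊤)
    (hcore : ∀ N : Subgroup G, N.Normal → N ≤ B → N = ⊥) :
    Nat.card (commutator G) = 504 ∧ IsSimpleGroup (commutator G) := by
  classical
  haveI := Fact.mk Nat.prime_three
  obtain ⟨Y, hY⟩ : ∃ Y : Subgroup G, Y = Subgroup.zpowers y := ⟨_, rfl⟩
  have hYU : Y ≤ U := hY ▸ Subgroup.zpowers_le.2 hy
  have hYc : Nat.card Y = 9 := by rw [hY, Nat.card_zpowers, hy9]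
  have hrel : Y.relIndex U = 3 := by
    have h := Subgroup.card_mul_index (Y.subgroupOf U)
    rw [Nat.card_congr (Subgroup.subgroupOfEquivOfLe hYU).toEquiv, hYc, hU] at h
    show (Y.subgroupOf U).index = 3
    omega
  haveI hYn : (Y.subgroupOf U).Normal := Subgroup.normal_of_index_eq_minFac_card (by
    rw [show (Y.subgroupOf U).index = 3 from hrel, hU]; norm_num)
  have hpow9 : y ^ 9 = 1 := hy9 ▸ pow_orderOf_eq_one y
  -- `a` represents a generator of the quotient
  have haY : a ∉ Y := fun h => by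
    rw [hY] at h
    obtain ⟨j, rfl⟩ := Subgroup.mem_zpowers_iff.1 h
    have e : i * y ^ j * i⁻¹ = (y ^ j)⁻¹ := by
      rw [← MulAut.conj_apply, map_zpow, MulAut.conj_apply, hiy, inv_zpow]
    rw [hia] at e
    have h2 : (y ^ j) ^ 2 = 1 := by rw [sq]; nth_rw 2 [e]; exact mul_inv_cancel _
    have h9 : (y ^ j) ^ 9 = 1 := by
      rw [← zpow_natCast, ← zpow_mul, mul_comm, zpow_mul, zpow_natCast, hpow9, one_zpow]
    apply ha1
    rw [← orderOf_eq_one_iff]
    exact Nat.eq_one_of_dvd_coprimes (show Nat.Coprime 2 9 by norm_num)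
      (orderOf_dvd_of_pow_eq_one h2) (orderOf_dvd_of_pow_eq_one h9)
  have hcover : ∀ x ∈ U, ∃ j : ℤ, x * (a ^ j)⁻¹ ∈ Y := by
    intro x hx
    obtain ⟨q, hq⟩ : ∃ q : ↥U →* ↥U ⧸ Y.subgroupOf U, q = QuotientGroup.mk' _ := ⟨_, rfl⟩
    have hcard : Nat.card (↥U ⧸ Y.subgroupOf U) = 3 := hrel
    have hgq : Subgroup.zpowers (q ⟨a, ha⟩) = ⊤ := zpowers_eq_top_of_prime_card hcard (fun e => by
      rw [hq, QuotientGroup.mk'_apply, QuotientGroup.eq_one_iff] at e
      exact haY e)
    obtain ⟨j, hj⟩ := Subgroup.mem_zpowers_iff.1 (hgq ▸ Subgroup.mem_top (q ⟨x, hx⟩))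
    refine ⟨j, ?_⟩
    rw [← map_zpow, eq_comm] at hj
    have h : q (⟨x, hx⟩ * (⟨a, ha⟩ ^ j)⁻¹) = 1 := by rw [map_mul, map_inv, hj, mul_inv_cancel]
    rw [hq, QuotientGroup.mk'_apply, QuotientGroup.eq_one_iff] at h
    exact h
  have hYconj : ∀ u ∈ U, ∀ k ∈ Y, u * k * u⁻¹ ∈ Y := fun u hu k hk => by
    have h := hYn.conj_mem ⟨k, hYU hk⟩ hk ⟨u, hu⟩
    exact h
  have hYcomm : ∀ u ∈ U, ∀ x ∈ U, x⁻¹ * (u * x * u⁻¹) ∈ Y := by
    intro u hu x hx
    obtain ⟨j, hj⟩ := hcover x hx
    obtain ⟨l, hl⟩ := hcover u hu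
    have e : x⁻¹ * (u * x * u⁻¹) = (a ^ j)⁻¹ * ((x * (a ^ j)⁻¹)⁻¹ *
        ((u * (a ^ l)⁻¹) * (a ^ l * (x * (a ^ j)⁻¹) * (a ^ l)⁻¹) *
          (a ^ j * (u * (a ^ l)⁻¹)⁻¹ * (a ^ j)⁻¹))) * a ^ j := by
      have hc : a ^ l * a ^ j = a ^ j * a ^ l := by rw [← zpow_add, ← zpow_add, add_comm]
      calc x⁻¹ * (u * x * u⁻¹) = x⁻¹ * ((u * (a ^ l)⁻¹) * (a ^ l * (x * (a ^ j)⁻¹) * (a ^ l)⁻¹) *
            (a ^ l * a ^ j * (a ^ l)⁻¹) * (u * (a ^ l)⁻¹)⁻¹) := by group
        _ = _ := by rw [hc]; group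
    rw [e]
    have hmem : (x * (a ^ j)⁻¹)⁻¹ * ((u * (a ^ l)⁻¹) * (a ^ l * (x * (a ^ j)⁻¹) * (a ^ l)⁻¹) *
          (a ^ j * (u * (a ^ l)⁻¹)⁻¹ * (a ^ j)⁻¹)) ∈ Y :=
      mul_mem (inv_mem hj) (mul_mem (mul_mem hl (hYconj _ (zpow_mem ha l) _ hj))
        (hYconj _ (zpow_mem ha j) _ (inv_mem hl)))
    have := hYconj _ (inv_mem (zpow_mem ha j)) _ hmem
    rwa [inv_inv] at this
  have hiY : ∀ x ∈ U, x⁻¹ * (i * x * i⁻¹) ∈ Y := by
    intro x hx
    obtain ⟨j, hj⟩ := hcover x hx
    rw [hY] at hj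
    obtain ⟨s, hs⟩ := Subgroup.mem_zpowers_iff.1 hj
    have hx' : x = y ^ s * a ^ j := by rw [hs]; group
    have e : i * x * i⁻¹ = (y ^ s)⁻¹ * a ^ j := by
      rw [hx', ← MulAut.conj_apply, map_mul, map_zpow, map_zpow, MulAut.conj_apply,
        MulAut.conj_apply, hiy, hia, inv_zpow]
    rw [e, hx', show (y ^ s * a ^ j)⁻¹ * ((y ^ s)⁻¹ * a ^ j) =
      (a ^ j)⁻¹ * ((y ^ s)⁻¹ * (y ^ s)⁻¹) * (a ^ j)⁻¹⁻¹ by group]
    refine hYconj _ (inv_mem (zpow_mem ha j)) _ ?_
    rw [hY]
    exact mul_mem (inv_mem (zpow_mem (Subgroup.mem_zpowers y) s))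
      (inv_mem (zpow_mem (Subgroup.mem_zpowers y) s))
  -- the derived subgroup meets the unipotent part in `Y`
  have hfac : (Nat.card G).factorization 3 = 3 := by
    rw [hG, show 1512 = 3 ^ 3 * 56 by norm_num, Nat.factorization_mul (by norm_num) (by norm_num),
      Finsupp.add_apply, Nat.Prime.factorization_pow Nat.prime_three, Finsupp.single_eq_same,
      Nat.factorization_eq_zero_of_not_dvd (show ¬ 3 ∣ 56 by norm_num)]
  let S : Sylow 3 G := Sylow.ofCard U (by rw [hU, hfac]; norm_num)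
  have hinf : commutator G ⊓ U ≤ Y := by
    refine Cfsg.Agent.Transfer.commutator_inf_sylow_le S fun x hx g hg => ?_
    by_cases hx1 : x = 1
    · rw [hx1]; simp
    obtain ⟨u, hu, hgu | hgu⟩ := hB g (hfus x hx hx1 g hg)
    · rw [hgu]; exact hYcomm u hu x hx
    · have hix : i * x * i⁻¹ ∈ U := by
        have hiB : i ∈ B := by
          have := mul_mem (inv_mem (hUB hu)) (hfus x hx hx1 g hg)
          rwa [hgu, inv_mul_cancel_left] at this
        exact hBU i hiB x hx
      rw [hgu, show x⁻¹ * (u * i * x * (u * i)⁻¹) =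
        x⁻¹ * (i * x * i⁻¹) * ((i * x * i⁻¹)⁻¹ * (u * (i * x * i⁻¹) * u⁻¹)) by group]
      exact mul_mem (hiY x hx) (hYcomm u hu _ hix)
  have hyD : y ∈ commutator G := by
    have h := Subgroup.commutator_mem_commutator (H₁ := (⊤ : Subgroup G)) (H₂ := ⊤)
      (Subgroup.mem_top i) (Subgroup.mem_top y)
    rw [commutatorElement_def, hiy] at h
    have h4 := pow_mem h 4
    rw [show y⁻¹ * y⁻¹ = (y ^ 2)⁻¹ by rw [sq, _root_.mul_inv_rev], inv_pow, ← pow_mul,
      show y ^ (2 * 4) = y⁻¹ from eq_inv_of_mul_eq_one_left (by rw [← pow_succ]; exact hpow9),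
      inv_inv] at h4
    exact h4
  have hinf' : commutator G ⊓ U = Y :=
    le_antisymm hinf (le_inf (hY ▸ Subgroup.zpowers_le.2 hyD) hYU)
  have htop : U ⊔ commutator G = ⊤ := by
    have hn : (U ⊔ commutator G).Normal := ⟨fun x hx g => by
      have hc : g * x * g⁻¹ * x⁻¹ ∈ U ⊔ commutator G := Subgroup.mem_sup_right
        (Subgroup.commutator_mem_commutator (Subgroup.mem_top g) (Subgroup.mem_top x))
      simpa using mul_mem hc hx⟩
    refine hgen _ fun g k hk => ?_
    rw [← QuotientGroup.eq_one_iff, ← orderOf_eq_one_iff]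
    have hd1 : orderOf (g : G ⧸ (U ⊔ commutator G)) ∣ 3 ^ k :=
      orderOf_dvd_of_pow_eq_one (by rw [← QuotientGroup.mk_pow, hk, QuotientGroup.mk_one])
    have hd2 : orderOf (g : G ⧸ (U ⊔ commutator G)) ∣ 56 := by
      have hidx : U.index = 56 := by
        have := Subgroup.card_mul_index U
        rw [hG, hU] at this
        omega
      refine (orderOf_dvd_natCard _).trans ?_
      rw [← hidx]
      exact Subgroup.index_dvd_of_le le_sup_left
    exact Nat.eq_one_of_dvd_coprimes (Nat.Coprime.pow_left k (by norm_num)) hd1 hd2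
  have hidx : (commutator G).index = 3 := by
    rw [← Subgroup.relIndex_top_right, ← htop, Subgroup.relIndex_sup_right,
      ← Subgroup.inf_relIndex_right, hinf', hrel]
  have hcard : Nat.card (commutator G) = 504 := by
    have h := Subgroup.card_mul_index (commutator G)
    rw [hidx, hG] at h
    omega
  refine ⟨hcard, ?_⟩
  -- every non-trivial normal subgroup contains the derived subgroup
  have hmin : ∀ N : Subgroup G, N.Normal → N ≠ ⊥ → commutator G ≤ N := by
    intro N hN hne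
    haveI := hN
    have hNB : N ⊔ B = ⊤ := hmax _ le_sup_right fun e => hne (hcore N hN (e ▸ le_sup_left))
    have hnorm : ∀ g : G, ∀ u ∈ U, g * u * g⁻¹ ∈ N ⊔ U := by
      intro g u hu
      obtain ⟨n, hn, b, hb, rfl⟩ :=
        Subgroup.mem_sup_of_normal_left.1 (hNB ▸ Subgroup.mem_top g : g ∈ N ⊔ B)
      rw [show n * b * u * (n * b)⁻¹ = n * (b * u * b⁻¹) * n⁻¹ by group]
      exact mul_mem (mul_mem (Subgroup.mem_sup_left hn) (Subgroup.mem_sup_right (hBU b hb u hu)))
        (inv_mem (Subgroup.mem_sup_left hn))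
    haveI hn : (N ⊔ U).Normal := ⟨fun x hx g => by
      obtain ⟨n, hn, u, hu, rfl⟩ := Subgroup.mem_sup_of_normal_left.1 hx
      rw [show g * (n * u) * g⁻¹ = (g * n * g⁻¹) * (g * u * g⁻¹) by group]
      exact mul_mem (Subgroup.mem_sup_left (hN.conj_mem n hn g)) (hnorm g u hu)⟩
    have hgi : ∀ g : G, g ∈ N ⊔ U ∨ ∃ w ∈ N ⊔ U, g = w * i := by
      intro g
      obtain ⟨n, hn, b, hb, rfl⟩ :=
        Subgroup.mem_sup_of_normal_left.1 (hNB ▸ Subgroup.mem_top g : g ∈ N ⊔ B)
      obtain ⟨u, hu, e | e⟩ := hB b hb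
      · exact Or.inl (mul_mem (Subgroup.mem_sup_left hn) (Subgroup.mem_sup_right (e ▸ hu)))
      · exact Or.inr ⟨n * u, mul_mem (Subgroup.mem_sup_left hn) (Subgroup.mem_sup_right hu), by
          rw [e, mul_assoc]⟩
    have hle : commutator G ≤ N ⊔ U := by
      rw [commutator_def, Subgroup.commutator_le]
      intro g _ h _
      rw [← QuotientGroup.eq_one_iff, ← QuotientGroup.mk'_apply, map_commutatorElement,
        commutatorElement_eq_one_iff_commute]
      have key : ∀ g : G, QuotientGroup.mk' (N ⊔ U) g = 1 ∨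
          QuotientGroup.mk' (N ⊔ U) g = QuotientGroup.mk' (N ⊔ U) i := by
        intro g
        rcases hgi g with hg | ⟨w, hw, rfl⟩
        · exact Or.inl ((QuotientGroup.eq_one_iff g).2 hg)
        · refine Or.inr ?_
          rw [map_mul, QuotientGroup.mk'_apply, (QuotientGroup.eq_one_iff w).2 hw, one_mul]
      rcases key g with e | e <;> rcases key h with e' | e' <;> rw [e, e']
      all_goals first
        | exact Commute.one_left _
        | exact Commute.one_right _
        | exact Commute.refl _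
    have hNU : N ⊔ U = ⊤ := top_le_iff.1 (htop ▸ sup_le le_sup_right hle)
    have hQ : IsPGroup 3 (G ⧸ N) := by
      refine (IsPGroup.of_card (n := 3) (by rw [hU]; norm_num : Nat.card U = 3 ^ 3)).of_surjective
        ((QuotientGroup.mk' N).comp U.subtype) fun q => ?_
      obtain ⟨g, rfl⟩ := QuotientGroup.mk'_surjective N q
      obtain ⟨n, hn', u, hu, rfl⟩ :=
        Subgroup.mem_sup_of_normal_left.1 (hNU ▸ Subgroup.mem_top g : g ∈ N ⊔ U)
      exact ⟨⟨u, hu⟩, by
        show (u : G ⧸ N) = ((n * u : G) : G ⧸ N)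
        rw [QuotientGroup.mk_mul, (QuotientGroup.eq_one_iff n).2 hn', one_mul]⟩
    have hUa : U ≤ commutator G ⊔ Subgroup.zpowers a := fun x hx => by
      obtain ⟨j, hj⟩ := hcover x hx
      have h := mul_mem (Subgroup.mem_sup_left (T := Subgroup.zpowers a)
        ((hinf'.symm ▸ hj : x * (a ^ j)⁻¹ ∈ commutator G ⊓ U).1))
        (Subgroup.mem_sup_right (S := commutator G) (zpow_mem (Subgroup.mem_zpowers a) j))
      rwa [inv_mul_cancel_right] at h
    have hbig : commutator G ⊔ Subgroup.zpowers a = ⊤ :=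
      top_le_iff.1 (htop ▸ sup_le hUa le_sup_left)
    have hmap : (commutator G).map (QuotientGroup.mk' N) = commutator (G ⧸ N) := by
      rw [commutator_def, commutator_def, Subgroup.map_commutator,
        Subgroup.map_top_of_surjective _ (QuotientGroup.mk'_surjective N)]
    have hbot := Cfsg.Agent.Lie.Chev.F4Two.commutator_eq_bot_of_cyclic hQ
      (y := QuotientGroup.mk' N a) (by
        rw [← hmap, ← MonoidHom.map_zpowers, ← Subgroup.map_sup, hbig,
          Subgroup.map_top_of_surjective _ (QuotientGroup.mk'_surjective N)])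
    rw [← hmap, Subgroup.map_eq_bot_iff, QuotientGroup.ker_mk'] at hbot
    exact hbot
  haveI : Nontrivial (commutator G) := Finite.one_lt_card_iff_nontrivial.1 (by omega)
  exact simple_of_prime_once (commutator G) hmin (p := 7) (by norm_num)
    (by rw [hcard]; norm_num) (by rw [hcard]; norm_num)

end Cfsg.Agent.Lie.ReeThreeCore
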