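import Mathlib

/-!
For non-scalar `A, B` in `SL(d, F)`, `d ≥ 3`, the trace of `A` times a conjugate of `B` takes both zero
and non-zero values.
-/

set_option autoImplicit false

namespace Cfsg.Agent.Lie.ClassTrace

open Matrix

variable {F : Type*} [Field F] {d : ℕ}

theorem exists_vec (W : Submodule F (Fin d → F)) {z : Fin d → F} (hz : z ∉ W) :
    ∃ χ : Fin d → F, χ ⬝ᵥ z = 1 ∧ ∀ x ∈ W, χ ⬝ᵥ x = 0 := by
  obtain ⟨f, hfz, hfW⟩ := Submodule.exists_dual_map_eq_bot_of_notMem hz inferInstance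
  refine ⟨(f z)⁻¹ • (dotProductEquiv F (Fin d)).symm f, ?_, fun x hx => ?_⟩
  · rw [smul_dotProduct, ← dotProductEquiv_apply_apply, LinearEquiv.apply_symm_apply, smul_eq_mul,
      inv_mul_cancel₀ hfz]
  · rw [smul_dotProduct, ← dotProductEquiv_apply_apply, LinearEquiv.apply_symm_apply,
      show f x = 0 from (Submodule.eq_bot_iff _).1 hfW _ ⟨x, hx, rfl⟩, smul_zero]

theorem mulVec_transv (z χ x : Fin d → F) :
    (1 + vecMulVec z χ) *ᵥ x = x + (χ ⬝ᵥ x) • z := by
  rw [add_mulVec, one_mulVec, vecMulVec_mulVec, op_smul_eq_smul]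

/-- The transvection attached to a vector and a covector killing it. -/
def transv (z χ : Fin d → F) (h : χ ⬝ᵥ z = 0) : SpecialLinearGroup (Fin d) F :=
  ⟨1 + vecMulVec z χ, by
    rw [vecMulVec_eq Unit, det_one_add_replicateCol_mul_replicateRow, h, add_zero]⟩

theorem transv_coe (z χ : Fin d → F) (h : χ ⬝ᵥ z = 0) :
    (transv z χ h : Matrix (Fin d) (Fin d) F) = 1 + vecMulVec z χ := rfl

theorem transv_inv (z χ : Fin d → F) (h : χ ⬝ᵥ z = 0) :
    (transv z χ h)⁻¹ = transv z (-χ) (by rw [neg_dotProduct, h, neg_zero]) := by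
  refine inv_eq_of_mul_eq_one_right (Subtype.ext ?_)
  show (1 + vecMulVec z χ) * (1 + vecMulVec z (-χ)) = 1
  rw [mul_add, mul_one, add_mul, one_mul, vecMulVec_mul_vecMulVec, h, zero_smul]
  ext i j
  simp [vecMulVec_apply]

variable (hd : 3 ≤ d)
include hd

theorem exists_notMem_span_pair (a b : Fin d → F) : ∃ c, c ∉ Submodule.span F ({a, b} : Set (Fin d → F)) := by
  classical
  by_contra h
  push Not at h
  have ht : Submodule.span F (({a, b} : Finset (Fin d → F)) : Set (Fin d → F)) = ⊤ := by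
    rw [Finset.coe_insert, Finset.coe_singleton]
    exact eq_top_iff.2 fun x _ => h x
  have h1 := finrank_span_finset_le_card (R := F) ({a, b} : Finset (Fin d → F))
  rw [Set.finrank, ht, finrank_top, Module.finrank_fintype_fun_eq_card, Fintype.card_fin] at h1
  have := Finset.card_le_two (a := a) (b := b)
  omega

theorem exists_map {v w : Fin d → F} (hv : v ≠ 0) (hw : w ≠ 0) :
    ∃ g : SpecialLinearGroup (Fin d) F, (g : Matrix (Fin d) (Fin d) F) *ᵥ v = w := by
  have key : ∀ {a b : Fin d → F}, a ≠ 0 → b ∉ Submodule.span F {a} →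
      ∃ g : SpecialLinearGroup (Fin d) F, (g : Matrix (Fin d) (Fin d) F) *ᵥ a = b := by
    intro a b ha hb
    have hn : a ∉ Submodule.span F {b - a} := by
      intro h
      obtain ⟨c, hc⟩ := Submodule.mem_span_singleton.1 h
      rcases eq_or_ne c 0 with rfl | hc0
      · exact ha (by rw [← hc, zero_smul])
      · refine hb (Submodule.mem_span_singleton.2 ⟨c⁻¹ + 1, ?_⟩)
        rw [add_smul, one_smul]
        nth_rewrite 1 [← hc]
        rw [smul_smul, inv_mul_cancel₀ hc0, one_smul, sub_add_cancel]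
    obtain ⟨χ, hχa, hχ⟩ := exists_vec _ hn
    exact ⟨transv (b - a) χ (hχ _ (Submodule.mem_span_singleton_self _)),
      by rw [transv_coe, mulVec_transv, hχa, one_smul, add_sub_cancel]⟩
  obtain ⟨u, hu⟩ := exists_notMem_span_pair hd v w
  have hu0 : u ≠ 0 := fun e => hu (e ▸ Submodule.zero_mem _)
  obtain ⟨g, hg⟩ := key hv (b := u) fun h => hu (Submodule.span_mono (by simp) h)
  obtain ⟨h, hh⟩ := key hu0 (b := w) fun h => by
    obtain ⟨c, hc⟩ := Submodule.mem_span_singleton.1 h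
    have hc0 : c ≠ 0 := fun e => hw (by rw [← hc, e, zero_smul])
    refine hu (Submodule.span_mono (by simp) (Submodule.mem_span_singleton.2 ⟨c⁻¹, ?_⟩ :
      u ∈ Submodule.span F {w}))
    rw [← hc, smul_smul, inv_mul_cancel₀ hc0, one_smul]
  exact ⟨h * g, by rw [Matrix.SpecialLinearGroup.coe_mul, ← mulVec_mulVec, hg, hh]⟩

omit hd in
theorem exists_indep {A : SpecialLinearGroup (Fin d) F} (hA : A ∉ Subgroup.center _) :
    ∃ v : Fin d → F, LinearIndependent F ![v, (A : Matrix (Fin d) (Fin d) F) *ᵥ v] := by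
  by_contra h
  push Not at h
  obtain ⟨a, ha⟩ := LinearMap.exists_eq_smul_id_of_forall_notLinearIndependent
    (f := Matrix.toLin' (A : Matrix (Fin d) (Fin d) F)) (fun v => by rw [toLin'_apply]; exact h v)
  have hsc : scalar (Fin d) a = (A : Matrix (Fin d) (Fin d) F) := by
    refine (Matrix.toLin' (R := F)).injective (LinearMap.ext fun x => ?_)
    rw [ha, toLin'_apply, scalar_apply]
    ext i
    simp [mulVec_diagonal]
  refine hA (Matrix.SpecialLinearGroup.mem_center_iff.2 ⟨a, ?_, hsc⟩)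
  have h1 := A.2
  rwa [← hsc, scalar_apply, det_diagonal, Finset.prod_const, Finset.card_univ] at h1

/-- A conjugate of `B` moving a suitable vector out of a plane of `A`. -/
theorem exists_conj_indep {A B : SpecialLinearGroup (Fin d) F} (hA : A ∉ Subgroup.center _)
    (hB : B ∉ Subgroup.center _) :
    ∃ (g : SpecialLinearGroup (Fin d) F) (v : Fin d → F),
      (A : Matrix (Fin d) (Fin d) F) *ᵥ v ∉ Submodule.span F {v} ∧ v ≠ 0 ∧
      ((g * B * g⁻¹ : SpecialLinearGroup (Fin d) F) : Matrix (Fin d) (Fin d) F) *ᵥ v ∉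
        Submodule.span F ({v, (A : Matrix (Fin d) (Fin d) F) *ᵥ v} : Set (Fin d → F)) := by
  obtain ⟨v, hv⟩ := exists_indep hA
  obtain ⟨w, hw⟩ := exists_indep hB
  rw [LinearIndependent.pair_iff'] at hv hw
  rotate_left
  · exact hw.ne_zero 0
  · exact hv.ne_zero 0
  have hv0 : v ≠ 0 := fun e => hv 0 (by rw [e, zero_smul, mulVec_zero])
  have hw0 : w ≠ 0 := fun e => hw 0 (by rw [e, zero_smul, mulVec_zero])
  set a := (A : Matrix (Fin d) (Fin d) F) *ᵥ v with ha
  set b := (B : Matrix (Fin d) (Fin d) F) *ᵥ w with hb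
  have hbw : b ∉ Submodule.span F {w} := fun h => by
    obtain ⟨c, hc⟩ := Submodule.mem_span_singleton.1 h
    exact hw c hc
  have hav : a ∉ Submodule.span F {v} := fun h => by
    obtain ⟨c, hc⟩ := Submodule.mem_span_singleton.1 h
    exact hv c hc
  -- a map `h` with `h v = w` and `b` outside the image of the plane
  obtain ⟨h, hhv, hhb⟩ : ∃ h : SpecialLinearGroup (Fin d) F, (h : Matrix (Fin d) (Fin d) F) *ᵥ v = w ∧
      b ∉ Submodule.span F ({w, (h : Matrix (Fin d) (Fin d) F) *ᵥ a} : Set (Fin d → F)) := by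
    obtain ⟨h0, h0v⟩ := exists_map hd hv0 hw0
    set a' := (h0 : Matrix (Fin d) (Fin d) F) *ᵥ a with ha'
    by_cases hb0 : b ∈ Submodule.span F ({w, a'} : Set (Fin d → F))
    swap
    · exact ⟨h0, h0v, hb0⟩
    obtain ⟨z, hz⟩ := exists_notMem_span_pair hd w a'
    have ha'n : a' ∉ Submodule.span F ({w, z} : Set (Fin d → F)) := fun h => by
      obtain ⟨c, e, hce⟩ := Submodule.mem_span_pair.1 h
      rcases eq_or_ne e 0 with rfl | he
      · refine hbw ?_
        rw [zero_smul, add_zero] at hce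
        refine Submodule.span_le.2 ?_ hb0
        rintro x (rfl | rfl)
        · exact Submodule.mem_span_singleton_self _
        · exact Submodule.mem_span_singleton.2 ⟨c, hce⟩
      · refine hz (Submodule.mem_span_pair.2 ⟨-(e⁻¹ * c), e⁻¹, ?_⟩)
        rw [← hce, smul_add, smul_smul, smul_smul, inv_mul_cancel₀ he, one_smul]
        module
    obtain ⟨χ, hχa, hχ⟩ := exists_vec _ ha'n
    have hχw : χ ⬝ᵥ w = 0 := hχ _ (Submodule.subset_span (by simp))
    have hχz : χ ⬝ᵥ z = 0 := hχ _ (Submodule.subset_span (by simp))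
    refine ⟨transv z χ hχz * h0, ?_, fun hb1 => ?_⟩
    · rw [Matrix.SpecialLinearGroup.coe_mul, ← mulVec_mulVec, h0v, transv_coe, mulVec_transv, hχw, zero_smul, add_zero]
    rw [Matrix.SpecialLinearGroup.coe_mul, ← mulVec_mulVec, ← ha', transv_coe, mulVec_transv, hχa, one_smul] at hb1
    obtain ⟨c, e, hce⟩ := Submodule.mem_span_pair.1 hb0
    obtain ⟨c', e', hce'⟩ := Submodule.mem_span_pair.1 hb1
    rcases eq_or_ne e' 0 with rfl | he
    · rw [zero_smul, add_zero] at hce'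
      exact hbw (Submodule.mem_span_singleton.2 ⟨c', hce'⟩)
    · refine hz (Submodule.mem_span_pair.2 ⟨e'⁻¹ * (c - c'), e'⁻¹ * (e - e'), ?_⟩)
      have : e' • z = (c - c') • w + (e - e') • a' := by linear_combination (norm := module) hce' - hce
      rw [← smul_smul, ← smul_smul, ← smul_add, ← this, smul_smul, inv_mul_cancel₀ he, one_smul]
  refine ⟨h⁻¹, v, hav, hv0, fun hm => hhb ?_⟩
  obtain ⟨c, e, hce⟩ := Submodule.mem_span_pair.1 hm
  refine Submodule.mem_span_pair.2 ⟨c, e, ?_⟩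
  have h2 := congrArg ((h : Matrix (Fin d) (Fin d) F) *ᵥ ·) hce
  simp only [mulVec_add, mulVec_smul, hhv] at h2
  rw [h2, mulVec_mulVec, ← Matrix.SpecialLinearGroup.coe_mul, inv_inv, show h * (h⁻¹ * B * h) = B * h by group,
    Matrix.SpecialLinearGroup.coe_mul, ← mulVec_mulVec, hhv]

/-- The trace takes both zero and non-zero values. -/
theorem exists_trace {A B : SpecialLinearGroup (Fin d) F} (hA : A ∉ Subgroup.center _)
    (hB : B ∉ Subgroup.center _) :
    ∃ g h : SpecialLinearGroup (Fin d) F,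
      trace ((A * (g * B * g⁻¹) : SpecialLinearGroup (Fin d) F) : Matrix (Fin d) (Fin d) F) = 0 ∧
      trace ((A * (h * B * h⁻¹) : SpecialLinearGroup (Fin d) F) : Matrix (Fin d) (Fin d) F) ≠ 0 := by
  classical
  obtain ⟨g₀, v, hav, hv, hX⟩ := exists_conj_indep hd hA hB
  set M := (A : Matrix (Fin d) (Fin d) F)
  obtain ⟨g, φ, hφv, hc2, hc1⟩ : ∃ (g : SpecialLinearGroup (Fin d) F) (φ : Fin d → F), φ ⬝ᵥ v = 0 ∧
      (φ ⬝ᵥ (((g * B * g⁻¹ : SpecialLinearGroup (Fin d) F) : Matrix (Fin d) (Fin d) F) *ᵥ v) = 0 ∨ φ ⬝ᵥ (M *ᵥ v) = 0) ∧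
      φ ⬝ᵥ (((g * B * g⁻¹ : SpecialLinearGroup (Fin d) F) : Matrix (Fin d) (Fin d) F) *ᵥ (M *ᵥ v) -
        M *ᵥ (((g * B * g⁻¹ : SpecialLinearGroup (Fin d) F) : Matrix (Fin d) (Fin d) F) *ᵥ v)) ≠ 0 := by
    have good : ∀ (X : Matrix (Fin d) (Fin d) F), X *ᵥ v ∉ Submodule.span F ({v, M *ᵥ v} : Set (Fin d → F)) →
        X *ᵥ (M *ᵥ v) - M *ᵥ (X *ᵥ v) ∉ Submodule.span F {v} →
        ∃ φ : Fin d → F, φ ⬝ᵥ v = 0 ∧ (φ ⬝ᵥ (X *ᵥ v) = 0 ∨ φ ⬝ᵥ (M *ᵥ v) = 0) ∧
          φ ⬝ᵥ (X *ᵥ (M *ᵥ v) - M *ᵥ (X *ᵥ v)) ≠ 0 := by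
      intro X hXv hC
      set C := X *ᵥ (M *ᵥ v) - M *ᵥ (X *ᵥ v)
      by_cases h1 : C ∈ Submodule.span F ({v, M *ᵥ v} : Set (Fin d → F))
      · have h2 : C ∉ Submodule.span F ({v, X *ᵥ v} : Set (Fin d → F)) := fun h2 => by
          obtain ⟨c, e, hce⟩ := Submodule.mem_span_pair.1 h2
          rcases eq_or_ne e 0 with rfl | he
          · rw [zero_smul, add_zero] at hce
            exact hC (Submodule.mem_span_singleton.2 ⟨c, hce⟩)
          · refine hXv ((Submodule.smul_mem_iff _ he).1 ?_)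
            rw [show e • X *ᵥ v = C - c • v by rw [← hce]; abel]
            exact Submodule.sub_mem _ h1 (Submodule.smul_mem _ _ (Submodule.subset_span (by simp)))
        obtain ⟨φ, h3, h4⟩ := exists_vec _ h2
        exact ⟨φ, h4 _ (Submodule.subset_span (by simp)), Or.inl (h4 _ (Submodule.subset_span (by simp))),
          by rw [h3]; exact one_ne_zero⟩
      · obtain ⟨φ, h3, h4⟩ := exists_vec _ h1
        exact ⟨φ, h4 _ (Submodule.subset_span (by simp)), Or.inr (h4 _ (Submodule.subset_span (by simp))),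
          by rw [h3]; exact one_ne_zero⟩
    set X := ((g₀ * B * g₀⁻¹ : SpecialLinearGroup (Fin d) F) : Matrix (Fin d) (Fin d) F) with hXd
    by_cases hC : X *ᵥ (M *ᵥ v) - M *ᵥ (X *ᵥ v) ∈ Submodule.span F {v}
    swap
    · exact ⟨g₀, good X hX hC⟩
    -- otherwise move `M v` by a transvection fixing `v` and `X v`
    have hMv : M *ᵥ v ∉ Submodule.span F ({v, X *ᵥ v} : Set (Fin d → F)) := fun h => by
      obtain ⟨c, e, hce⟩ := Submodule.mem_span_pair.1 h
      rcases eq_or_ne e 0 with rfl | he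
      · rw [zero_smul, add_zero] at hce
        exact hav (Submodule.mem_span_singleton.2 ⟨c, hce⟩)
      · refine hX ((Submodule.smul_mem_iff _ he).1 ?_)
        rw [show e • X *ᵥ v = M *ᵥ v - c • v by rw [← hce]; abel]
        exact Submodule.sub_mem _ (Submodule.subset_span (by simp))
          (Submodule.smul_mem _ _ (Submodule.subset_span (by simp)))
    obtain ⟨χ, hχa, hχ⟩ := exists_vec _ hMv
    have hχv : χ ⬝ᵥ v = 0 := hχ _ (Submodule.subset_span (by simp))
    have hχX : χ ⬝ᵥ (X *ᵥ v) = 0 := hχ _ (Submodule.subset_span (by simp))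
    set σ := transv v χ hχv with hσ
    have hY : ∀ x, ((σ * g₀ * B * (σ * g₀)⁻¹ : SpecialLinearGroup (Fin d) F) : Matrix (Fin d) (Fin d) F) *ᵥ x =
        X *ᵥ (x - (χ ⬝ᵥ x) • v) + (χ ⬝ᵥ (X *ᵥ (x - (χ ⬝ᵥ x) • v))) • v := by
      intro x
      rw [show σ * g₀ * B * (σ * g₀)⁻¹ = σ * (g₀ * B * g₀⁻¹) * σ⁻¹ by group, Matrix.SpecialLinearGroup.coe_mul,
        Matrix.SpecialLinearGroup.coe_mul, transv_inv, transv_coe, transv_coe, ← hXd, ← mulVec_mulVec, ← mulVec_mulVec,
        mulVec_transv, mulVec_transv, neg_dotProduct, neg_smul, ← sub_eq_add_neg]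
    refine ⟨σ * g₀, good _ ?_ fun hC' => ?_⟩
    · rwa [hY, hχv, zero_smul, sub_zero, hχX, zero_smul, add_zero]
    refine hX (Submodule.span_mono (by simp) (?_ : X *ᵥ v ∈ Submodule.span F {v}))
    rw [hY, hY, hχa, one_smul, hχv, zero_smul, sub_zero, hχX, zero_smul, add_zero, mulVec_sub] at hC'
    have h1 := Submodule.sub_mem _ hC hC'
    have h2 := Submodule.add_mem _ h1
      (Submodule.smul_mem _ (χ ⬝ᵥ (X *ᵥ (M *ᵥ v) - X *ᵥ v)) (Submodule.mem_span_singleton_self v))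
    convert h2 using 1
    abel
  set X := ((g * B * g⁻¹ : SpecialLinearGroup (Fin d) F) : Matrix (Fin d) (Fin d) F) with hX'
  set f := fun s : F => trace ((A * (transv (s • v) φ (by rw [dotProduct_smul, hφv, smul_zero]) * g * B *
    (transv (s • v) φ (by rw [dotProduct_smul, hφv, smul_zero]) * g)⁻¹) : SpecialLinearGroup (Fin d) F) :
      Matrix (Fin d) (Fin d) F) with hf
  have hlin : ∀ s, f s = trace (M * X) + s * (φ ⬝ᵥ (X *ᵥ (M *ᵥ v) - M *ᵥ (X *ᵥ v))) := by
    intro s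
    simp only [hf]
    have key : ∀ T : SpecialLinearGroup (Fin d) F, T * g * B * (T * g)⁻¹ = T * (g * B * g⁻¹) * T⁻¹ := fun T => by group
    rw [key, Matrix.SpecialLinearGroup.coe_mul, Matrix.SpecialLinearGroup.coe_mul, Matrix.SpecialLinearGroup.coe_mul, transv_inv,
      transv_coe, transv_coe, ← hX', dotProduct_sub]
    have e1 : ∀ (P : Matrix (Fin d) (Fin d) F) (z χ : Fin d → F), trace (P * vecMulVec z χ) = χ ⬝ᵥ (P *ᵥ z) :=
      fun P z χ => by rw [mul_vecMulVec, trace_vecMulVec, dotProduct_comm]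
    have e2 : trace (M * (vecMulVec (s • v) φ * X)) = s * (φ ⬝ᵥ (X *ᵥ (M *ᵥ v))) := by
      rw [← Matrix.mul_assoc, trace_mul_comm, ← Matrix.mul_assoc, e1, ← mulVec_mulVec, mulVec_smul, mulVec_smul,
        dotProduct_smul, smul_eq_mul]
    have e3 : trace (M * (X * vecMulVec (s • v) φ)) = s * (φ ⬝ᵥ (M *ᵥ (X *ᵥ v))) := by
      rw [← Matrix.mul_assoc, e1, ← mulVec_mulVec, mulVec_smul, mulVec_smul, dotProduct_smul, smul_eq_mul]
    have e4 : trace (M * (vecMulVec (s • v) φ * (X * vecMulVec (s • v) φ))) = 0 := by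
      rw [mul_vecMulVec X, vecMulVec_mul_vecMulVec, e1, mulVec_smul, dotProduct_smul,
        mulVec_smul, smul_dotProduct, dotProduct_smul]
      rcases hc2 with h | h <;> simp [h]
    rw [vecMulVec_neg, ← sub_eq_add_neg, Matrix.add_mul, Matrix.one_mul, Matrix.mul_sub, Matrix.mul_one, Matrix.add_mul,
      Matrix.mul_assoc, Matrix.mul_sub, Matrix.mul_add, Matrix.mul_add, trace_sub, trace_add, trace_add, e2, e3, e4]
    ring
  set c1 := φ ⬝ᵥ (X *ᵥ (M *ᵥ v) - M *ᵥ (X *ᵥ v))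
  refine ⟨_, (if trace (M * X) = 0 then transv ((1 : F) • v) φ (by rw [dotProduct_smul, hφv, smul_zero]) * g else g),
    show f (-trace (M * X) / c1) = 0 by rw [hlin, div_mul_cancel₀ _ hc1, add_neg_cancel], ?_⟩
  split_ifs with h
  · show f 1 ≠ 0
    rw [hlin, h, zero_add, one_mul]
    exact hc1
  · rw [Matrix.SpecialLinearGroup.coe_mul, ← hX']
    exact h

end Cfsg.Agent.Lie.ClassTrace
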