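import Cfsg.Agent.Lib.Lie.CurtisTitsSkew

/-! A group built from `SL_m` and an edge of type `D` is a central extension of its image in the
orthogonal group. -/

set_option autoImplicit false
set_option linter.unusedSectionVars false

namespace Cfsg.Agent.Lie.CurtisTitsA

open Matrix Cfsg.Agent.Lie.Chev
open scoped MatrixGroups

variable {F : Type*} [Field F] {m : ℕ}

/-- The torus of `SL₂`. -/
def diag2 (α : Fˣ) : SL(2, F) :=
  ⟨!![(α : F), 0; 0, (↑α⁻¹ : F)], by rw [det_fin_two_of]; simp⟩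

theorem diag2_val (α : Fˣ) :
    (diag2 α : SL(2, F)).1 = !![(α : F), 0; 0, (↑α⁻¹ : F)] := rfl

theorem diag2_inv (α : Fˣ) : (diag2 α)⁻¹ = diag2 α⁻¹ := by
  refine inv_eq_of_mul_eq_one_right (ext_two ?_ ?_ ?_ ?_) <;>
    simp [mul_val, diag2_val, val_oneN, Matrix.mul_apply, Fin.sum_univ_two]

/-- The reflection in `SL₂`. -/
def wTwo : SL(2, F) := upSL 1 * loSL (-1) * upSL 1

/-- An element of `SL₂` as a product over the big cell and the torus. -/
theorem two_cell (h : SL(2, F)) :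
    ∃ (p q p' : F) (α : Fˣ), h = upSL p * loSL q * upSL p' * diag2 α := by
  by_cases hc : h.1 1 0 = 0
  · have hd := det_two h
    rw [hc, mul_zero, sub_zero] at hd
    have ha : h.1 0 0 ≠ 0 := fun e => by simp [e] at hd
    refine ⟨0, 0, h.1 0 1 * h.1 0 0, Units.mk0 _ ha, ?_⟩
    refine ext_two ?_ ?_ ?_ ?_ <;>
      simp [mul_val, upSL_val, loSL_val, diag2_val, Matrix.mul_apply, Fin.sum_univ_two, hc]
    · field_simp
    · exact (eq_inv_of_mul_eq_one_right hd)
  · refine ⟨(h.1 0 0 - 1) / h.1 1 0, h.1 1 0, (h.1 1 1 - 1) / h.1 1 0, 1, ?_⟩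
    have hd := det_two h
    refine ext_two ?_ ?_ ?_ ?_ <;>
      simp [mul_val, upSL_val, loSL_val, diag2_val, Matrix.mul_apply, Fin.sum_univ_two] <;>
      field_simp <;> first | ring1 | linear_combination hd | linear_combination -hd

namespace SkewData

variable {G : Type*} [Group G] (A : SkewData F m G)

/-- The subgroup of the new node. -/
def nd : SL(2, F) →* G := A.ψ.comp dn3

theorem nd_up (t : F) : A.nd (upSL t) = A.x t := by
  show A.ψ (dn3 (upSL t)) = _; rw [dn3_up]; rfl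

theorem nd_lo (t : F) : A.nd (loSL t) = A.dual.x (-t) := by
  rw [← A.dual_dual_x]
  show A.ψ (dn3 (loSL t)) = _; rw [dn3_lo]

theorem stab_nd {g : Matrix.SpecialLinearGroup (Fin m) F} (hg : cg g A.S0 = A.S0)
    (hg' : cg (tauN g) A.S0 = A.S0) (h : SL(2, F)) : Commute (A.Φ g) (A.nd h) := by
  refine (Subgroup.mem_centralizer_singleton_iff.1 (range_le_two (φ := A.nd)
    (Subgroup.centralizer {A.Φ g}) (fun t => ?_) (fun t => ?_) ⟨h, rfl⟩)).symm
  · rw [A.nd_up]
    exact Subgroup.mem_centralizer_singleton_iff.2 (A.stab hg t).eq.symm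
  · rw [A.nd_lo]
    refine Subgroup.mem_centralizer_singleton_iff.2 ?_
    have := A.dual.stab (g := tauN g) hg' (-t)
    rw [show A.dual.Φ (tauN g) = A.Φ g from congrArg A.Φ (tauN_tauN g)] at this
    exact this.eq.symm

theorem dn3_row (h : SL(2, F)) (t s : F) :
    dn3 h * (tvN 0 1 (by decide) t * tvN 0 2 (by decide) s) * (dn3 h)⁻¹ =
      tvN 0 1 (by decide) (t * h.1 1 1 - s * h.1 1 0) *
        tvN 0 2 (by decide) (-(t * h.1 0 1) + s * h.1 0 0) := by
  rw [mul_inv_eq_iff_eq_mul]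
  apply Subtype.ext
  have hd := det_two h
  ext i j
  fin_cases i <;> fin_cases j <;>
    simp [val_mulN, dn3_val, tvN_val, transvection, Matrix.mul_apply, Fin.sum_univ_three,
      Matrix.one_apply]
  · linear_combination -t * hd
  · linear_combination -s * hd

/-- The node on the roots meeting it at a vector `e_k`, in the first position. -/
theorem nd_mixed_a {k : Fin m} (hka : k ≠ A.a) (hkb : k ≠ A.b) (h : SL(2, F)) (t : F) :
    A.nd h * A.Φ (tvN k A.a hka t) * (A.nd h)⁻¹ =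
      A.Φ (tvN k A.a hka (t * h.1 1 1)) * A.X k A.b (-(t * h.1 0 1)) ∧
    A.nd h * A.X k A.b t * (A.nd h)⁻¹ =
      A.Φ (tvN k A.a hka (-(t * h.1 1 0))) * A.X k A.b (t * h.1 0 0) := by
  obtain ⟨g, hτ, ha, hb, hc⟩ := A.exists_move3 (F := F) A.hab hkb (Ne.symm hka)
  have hS : cg g A.S0 = A.S0 := by rw [S0, cg_wB, ha, hb]; rfl
  have hW := A.stab_nd hS (by rw [hτ]; exact hS) h
  have e1 : ∀ t, A.Φ (tvN k A.a hka t) = A.Φ g * A.ψ (tvN 0 1 (by decide) t) * (A.Φ g)⁻¹ := fun t => by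
    rw [← conj_tv g A.hca hka hc (by rw [hτ]; exact ha), map_mul, map_mul, map_inv, ← A.hu, up3_up]
  have e2 : ∀ t, A.X k A.b t = A.Φ g * A.ψ (tvN 0 2 (by decide) t) * (A.Φ g)⁻¹ := fun t => by
    rw [← A.d_cb, ← A.d_cg, cg_smul, cg_wB, hc, hb]; rfl
  have key : ∀ z, A.nd h * (A.Φ g * A.ψ z * (A.Φ g)⁻¹) * (A.nd h)⁻¹ =
      A.Φ g * A.ψ (dn3 h * z * (dn3 h)⁻¹) * (A.Φ g)⁻¹ := fun z => by
    calc A.nd h * (A.Φ g * A.ψ z * (A.Φ g)⁻¹) * (A.nd h)⁻¹
        = (A.nd h * A.Φ g) * A.ψ z * ((A.Φ g)⁻¹ * (A.nd h)⁻¹) := by group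
      _ = (A.Φ g * A.nd h) * A.ψ z * ((A.nd h)⁻¹ * (A.Φ g)⁻¹) := by rw [hW.eq, hW.inv_inv.eq]
      _ = _ := by rw [map_mul, map_mul, map_inv]; show _ = _ * (A.nd h * _ * (A.nd h)⁻¹) * _; group
  constructor
  · have := dn3_row h t 0
    rw [tv3_zero, mul_one] at this
    rw [e1, key, this, e1, e2, map_mul]
    simp only [zero_mul, sub_zero, add_zero]
    group
  · have := dn3_row h 0 t
    rw [tv3_zero, one_mul] at this
    rw [e2, key, this, e1, e2, map_mul]
    simp only [zero_mul, zero_sub, neg_zero, zero_add]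
    group

theorem nd_mixed_b {k : Fin m} (hka : k ≠ A.a) (hkb : k ≠ A.b) (h : SL(2, F)) (t : F) :
    A.nd h * A.Φ (tvN k A.b hkb t) * (A.nd h)⁻¹ =
      A.Φ (tvN k A.b hkb (t * h.1 1 1)) * A.X k A.a (t * h.1 0 1) ∧
    A.nd h * A.X k A.a t * (A.nd h)⁻¹ =
      A.Φ (tvN k A.b hkb (t * h.1 1 0)) * A.X k A.a (t * h.1 0 0) := by
  let r : SL(2, F) := ⟨!![0, -1; 1, 0], by rw [det_fin_two_of]; ring⟩
  have hr : tauN r = r := by
    refine ext_two ?_ ?_ ?_ ?_ <;> rw [tauN_val, inv_val] <;> simp [r, Matrix.adjugate_fin_two]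
  set g := ext2 A.a A.b A.hab r
  have hgτ : tauN g = g := by rw [tau_ext2, hr]
  have ha : g.1 *ᵥ Pi.single A.a 1 = Pi.single A.b 1 := by rw [ext2_fst]; simp [r]
  have hb : g.1 *ᵥ Pi.single A.b 1 = -Pi.single A.a 1 := by rw [ext2_snd]; simp [r]
  have hk : g.1 *ᵥ Pi.single k 1 = Pi.single k 1 := ext2_out _ hka hkb r
  have hneg : ∀ v w : Fin m → F, wedge v (-w) = -wedge v w := fun v w => by
    rw [← neg_one_smul F w, wedge_smul_right, neg_one_smul]
  have hS : cg g A.S0 = A.S0 := by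
    rw [S0, cg_wB, ha, hb, hneg]
    exact (wB_swap A.b A.a).symm
  have hW := A.stab_nd hS (by rw [hgτ]; exact hS) h
  have f1 : ∀ t, A.Φ (tvN k A.b hkb t) = A.Φ g * A.Φ (tvN k A.a hka t) * (A.Φ g)⁻¹ := fun t => by
    rw [← conj_tv g hka hkb hk (by rw [hgτ]; exact ha), map_mul, map_mul, map_inv]
  have f2 : ∀ t, A.X k A.a t = A.Φ g * A.X k A.b (-t) * (A.Φ g)⁻¹ := fun t => by
    rw [X, X, ← A.d_cg, cg_smul, cg_wB, hk, hb, hneg, smul_neg, neg_smul, neg_neg]
    rfl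
  have key : ∀ z, A.nd h * (A.Φ g * z * (A.Φ g)⁻¹) * (A.nd h)⁻¹ =
      A.Φ g * (A.nd h * z * (A.nd h)⁻¹) * (A.Φ g)⁻¹ := fun z => by
    calc A.nd h * (A.Φ g * z * (A.Φ g)⁻¹) * (A.nd h)⁻¹
        = (A.nd h * A.Φ g) * z * ((A.Φ g)⁻¹ * (A.nd h)⁻¹) := by group
      _ = (A.Φ g * A.nd h) * z * ((A.nd h)⁻¹ * (A.Φ g)⁻¹) := by rw [hW.eq, hW.inv_inv.eq]
      _ = _ := by group
  constructor
  · rw [f1, key, (A.nd_mixed_a hka hkb h t).1, f1, f2]
    group
  · rw [f2, key, (A.nd_mixed_a hka hkb h (-t)).2, f1, f2, neg_mul, neg_neg, neg_mul]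
    group

/-- The node and a pair away from it. -/
theorem X_rest_nd {k l : Fin m} (hkl : k ≠ l) (hka : k ≠ A.a) (hkb : k ≠ A.b) (hla : l ≠ A.a)
    (hlb : l ≠ A.b) (t : F) (h : SL(2, F)) : Commute (A.X k l t) (A.nd h) := by
  obtain ⟨c, cadd, cX, ceq⟩ := A.exists_radical
  have hxu : ∀ u : F, A.X A.a A.b u = A.x u := fun u => A.d_x u
  refine (Subgroup.mem_centralizer_singleton_iff.1 (range_le_two (φ := A.nd)
    (Subgroup.centralizer {A.X k l t}) (fun u => ?_) (fun u => ?_) ⟨h, rfl⟩)).symm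
  · rw [A.nd_up, ← hxu]
    exact Subgroup.mem_centralizer_singleton_iff.2 (A.X_commute A.hab hkl u t).eq
  · refine Subgroup.mem_centralizer_singleton_iff.2 ?_
    set y := A.nd (loSL u)
    set Q := A.Φ (tvN l A.b hlb 1)
    set P := A.Φ (tvN k A.a hka (-(t * u)))
    have hsq : Q * A.X k A.b t * Q⁻¹ = A.X k A.b t * A.X k l t := by
      rw [← cX k A.b t hkb, show Q * c (t • wB k A.b) * Q⁻¹ = c (cg (tvN l A.b hlb 1) (t • wB k A.b))
        from ceq _ _ (skew_smul _ (skew_wedge _ _)), ← cX k l t hkl, cadd, cg_smul,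
        cg_wB, tv_mulVec, tv_mulVec, Pi.single_eq_of_ne (Ne.symm hkb), mul_zero, Pi.single_zero,
        add_zero, Pi.single_eq_same, mul_one, wedge_add_right, smul_add]
      rfl
    have hyQ : y * Q * y⁻¹ = Q := by
      rw [(A.nd_mixed_b hla hlb (loSL u) 1).1]
      simp [Q, loSL_val, X_zero]
    have hyX : y * A.X k A.b t * y⁻¹ = P * A.X k A.b t := by
      rw [(A.nd_mixed_a hka hkb (loSL u) t).2]
      simp [P, loSL_val]
    have hPQ : Commute P Q := Commute.map (tv_comm₀ hka hlb (Ne.symm hla) hkb _ _) A.Φ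
    have hPb : P * A.X k A.b t * P⁻¹ = A.X k A.b t := by
      rw [X, ← A.d_cg, cg_smul, cg_wB, tv_mulVec, tv_mulVec, Pi.single_eq_of_ne (Ne.symm hka),
        Pi.single_eq_of_ne A.hab, mul_zero, Pi.single_zero, add_zero, add_zero]
      rfl
    have hPl : P * A.X k l t * P⁻¹ = A.X k l t := by
      rw [X, ← A.d_cg, cg_smul, cg_wB, tv_mulVec, tv_mulVec, Pi.single_eq_of_ne (Ne.symm hka),
        Pi.single_eq_of_ne (Ne.symm hla), mul_zero, Pi.single_zero, add_zero, add_zero]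
      rfl
    have e : y * (A.X k A.b t * A.X k l t) * y⁻¹ = P * (A.X k A.b t * A.X k l t) := by
      rw [← hsq]
      calc y * (Q * A.X k A.b t * Q⁻¹) * y⁻¹
          = (y * Q * y⁻¹) * (y * A.X k A.b t * y⁻¹) * (y * Q * y⁻¹)⁻¹ := by group
        _ = Q * P * (A.X k A.b t * Q⁻¹) := by rw [hyQ, hyX]; group
        _ = _ := by rw [← hPQ.eq]; group
    have e' : y * A.X k l t * y⁻¹ = A.X k l t := by
      have e2 : y * (A.X k A.b t * A.X k l t) * y⁻¹ =
          (P * A.X k A.b t) * (y * A.X k l t * y⁻¹) := by rw [← hyX]; group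
      rw [e] at e2
      calc y * A.X k l t * y⁻¹ = (P * A.X k A.b t)⁻¹ * (P * (A.X k A.b t * A.X k l t)) := by
            rw [e2]; group
        _ = _ := by group
    exact mul_inv_eq_iff_eq_mul.1 e'

theorem dual_nd (h : SL(2, F)) : A.dual.nd h = A.nd (tauN h) :=
  congrArg A.ψ (tau_dn3 h)

theorem dual_range : A.dual.Φ.range = A.Φ.range := by
  refine le_antisymm ?_ ?_
  · rintro _ ⟨g, rfl⟩; exact ⟨tauN g, rfl⟩
  · rintro _ ⟨g, rfl⟩; exact ⟨tauN g, congrArg A.Φ (tauN_tauN g)⟩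

/-- The torus normalises the copy of `SL_m`. -/
theorem diag_norm (α : Fˣ) : A.nd (diag2 α) ∈ Subgroup.normalizer (A.Φ.range : Set G) := by
  have key : ∀ α : Fˣ, ∀ g, A.nd (diag2 α) * A.Φ g * (A.nd (diag2 α))⁻¹ ∈ A.Φ.range := by
    intro α g
    set y := A.nd (diag2 α) with hy
    let P : Subgroup (Matrix.SpecialLinearGroup (Fin m) F) :=
      (A.Φ.range.comap (MulAut.conj y).toMonoidHom).comap A.Φ
    suffices h : (⊤ : Subgroup (Matrix.SpecialLinearGroup (Fin m) F)) ≤ P from h (Subgroup.mem_top g)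
    rw [← Cfsg.Agent.Classical.SL_closure_transvections, Subgroup.closure_le]
    rintro _ ⟨⟨i, j, hij, t⟩, rfl⟩
    show y * A.Φ (tvN i j hij t) * y⁻¹ ∈ A.Φ.range
    have hfix : Commute (A.Φ (tvN i j hij t)) y → y * A.Φ (tvN i j hij t) * y⁻¹ ∈ A.Φ.range :=
      fun h => by rw [← h.eq, mul_inv_cancel_right]; exact ⟨_, rfl⟩
    have hcom : ((i ≠ A.a ∧ i ≠ A.b ∧ j ≠ A.a ∧ j ≠ A.b) ∨ (i = A.a ∧ j = A.b) ∨
        (i = A.b ∧ j = A.a)) → Commute (A.Φ (tvN i j hij t)) y := fun h => by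
      refine (Subgroup.mem_centralizer_singleton_iff.1 (range_le_two (φ := A.nd)
        (Subgroup.centralizer {A.Φ (tvN i j hij t)}) (fun u => ?_) (fun u => ?_) ⟨_, rfl⟩)).symm
      · rw [A.nd_up]; exact Subgroup.mem_centralizer_singleton_iff.2 (A.hcomm i j hij h t u).1.eq.symm
      · rw [A.nd_lo, ← A.dual_dual_x]
        exact Subgroup.mem_centralizer_singleton_iff.2 (A.hcomm i j hij h t u).2.eq.symm
    by_cases hj : j = A.a ∨ j = A.b
    · by_cases hi : i = A.a ∨ i = A.b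
      · exact hfix (hcom (by
          rcases hi with rfl | rfl <;> rcases hj with rfl | rfl
          · exact absurd rfl hij
          · exact Or.inr (Or.inl ⟨rfl, rfl⟩)
          · exact Or.inr (Or.inr ⟨rfl, rfl⟩)
          · exact absurd rfl hij))
      · simp only [not_or] at hi
        rcases hj with rfl | rfl
        · rw [hy, (A.nd_mixed_a hi.1 hi.2 (diag2 α) t).1]
          simp [diag2_val, X_zero]
        · rw [hy, (A.nd_mixed_b hi.1 hi.2 (diag2 α) t).1]
          simp [diag2_val, X_zero]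
    · simp only [not_or] at hj
      by_cases hi : i = A.a ∨ i = A.b
      · have e : A.Φ (tvN i j hij t) = A.dual.Φ (tvN j i hij.symm (-t)) := by
          show _ = A.Φ (tauN _)
          rw [tauN_tv, neg_neg]
        have e' : y = A.dual.nd (diag2 α⁻¹) := by
          rw [A.dual_nd, hy]
          congr 1
          refine ext_two ?_ ?_ ?_ ?_ <;> rw [tauN_val, diag2_inv, inv_inv] <;> simp [diag2_val]
        rw [e, e', ← A.dual_range]
        rcases hi with rfl | rfl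
        · rw [show tvN j A.a hij.symm (-t) = tvN j A.dual.a hij.symm (-t) from rfl,
            (A.dual.nd_mixed_a hj.1 hj.2 (diag2 α⁻¹) (-t)).1]
          simp [diag2_val, X_zero]
        · rw [show tvN j A.b hij.symm (-t) = tvN j A.dual.b hij.symm (-t) from rfl,
            (A.dual.nd_mixed_b hj.1 hj.2 (diag2 α⁻¹) (-t)).1]
          simp [diag2_val, X_zero]
      · simp only [not_or] at hi
        exact hfix (hcom (Or.inl ⟨hi.1, hi.2, hj.1, hj.2⟩))
  refine Subgroup.mem_normalizer_iff.2 fun z => ⟨?_, fun hz => ?_⟩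
  · rintro ⟨g, rfl⟩; exact key α g
  · obtain ⟨g, hg⟩ := hz
    have := key α⁻¹ g
    rw [hg, ← diag2_inv, map_inv, inv_inv] at this
    simpa [mul_assoc] using this

/-- The torus scales the radical. -/
theorem diag_X (α : Fˣ) {i j : Fin m} (hij : i ≠ j) (t : F) :
    ∃ s, A.nd (diag2 α) * A.X i j t * (A.nd (diag2 α))⁻¹ = A.X i j s := by
  have key : ∀ {i j : Fin m}, i ≠ j → (i ≠ A.a ∧ i ≠ A.b) → ∀ t,
      ∃ s, A.nd (diag2 α) * A.X i j t * (A.nd (diag2 α))⁻¹ = A.X i j s := by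
    intro i j hij hi t
    by_cases hja : j = A.a
    · subst hja
      refine ⟨t * α, ?_⟩
      rw [(A.nd_mixed_b hi.1 hi.2 (diag2 α) t).2]
      simp [diag2_val, show tvN i A.b hi.2 (0 : F) = 1 from
        Subtype.ext (by rw [tvN_val, transvection_zero, val_oneN])]
    by_cases hjb : j = A.b
    · subst hjb
      refine ⟨t * α, ?_⟩
      rw [(A.nd_mixed_a hi.1 hi.2 (diag2 α) t).2]
      simp [diag2_val, show tvN i A.a hi.1 (0 : F) = 1 from
        Subtype.ext (by rw [tvN_val, transvection_zero, val_oneN])]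
    exact ⟨t, by rw [← (A.X_rest_nd hij hi.1 hi.2 hja hjb t _).eq, mul_inv_cancel_right]⟩
  by_cases hi : i ≠ A.a ∧ i ≠ A.b
  · exact key hij hi t
  by_cases hj : j ≠ A.a ∧ j ≠ A.b
  · obtain ⟨s, hs⟩ := key hij.symm hj (-t)
    rw [A.X_swap i j (-t), A.X_swap i j s, neg_neg] at hs
    exact ⟨-s, hs⟩
  have hab : (i = A.a ∧ j = A.b) ∨ (i = A.b ∧ j = A.a) := by
    rcases not_and_or.1 hi with h | h <;> rcases not_and_or.1 hj with h' | h' <;>
      simp only [not_not] at h h'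
    · exact absurd (h.trans h'.symm) hij
    · exact Or.inl ⟨h, h'⟩
    · exact Or.inr ⟨h, h'⟩
    · exact absurd (h.trans h'.symm) hij
  have e : ∀ t, A.nd (diag2 α) * A.x t * (A.nd (diag2 α))⁻¹ = A.x ((α : F) * t * α) := fun t => by
    rw [← A.nd_up, ← A.nd_up, ← map_inv, ← map_mul, ← map_mul, diag2_inv]
    congr 1
    refine ext_two ?_ ?_ ?_ ?_ <;>
      simp [mul_val, diag2_val, upSL_val, Matrix.mul_apply, Fin.sum_univ_two]
  rcases hab with ⟨rfl, rfl⟩ | ⟨rfl, rfl⟩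
  · exact ⟨(α : F) * t * α, by rw [X, X]; exact (show _ = _ from by
      rw [show t • wB A.a A.b = t • A.S0 from rfl, show ((α : F) * t * α) • wB A.a A.b =
        ((α : F) * t * α) • A.S0 from rfl, A.d_x, A.d_x, e])⟩
  · refine ⟨(α : F) * t * α, ?_⟩
    rw [A.X_swap A.a A.b, A.X_swap A.a A.b, show ∀ s, A.X A.a A.b s = A.x s from A.d_x, e,
      show ∀ s, A.X A.a A.b s = A.x s from A.d_x]
    congr 1
    ring

end SkewData

end Cfsg.Agent.Lie.CurtisTitsA
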