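import Cfsg.Agent.Lib.Lie.CurtisTitsSkew
import Cfsg.Agent.Lib.Classical.QuadModels
import Cfsg.Agent.Lib.Classical.OrthOmegaIndex

/-! The Levi factor of `O⁺₂ₘ` and the swap of one hyperbolic pair. -/

set_option autoImplicit false
set_option linter.unusedSectionVars false

namespace Cfsg.Agent.Lie.CurtisTitsA

open Matrix Cfsg.Agent.Lie.Chev
open scoped MatrixGroups

variable {F : Type*} [Field F] {m : ℕ}

/-- The orthogonal group of plus type. -/
abbrev OGp (m : ℕ) (F : Type*) [Field F] :=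
  ↥(Cfsg.isometryGroup F (Cfsg.quadFormPlus m F))

/-- The matrix of an isometry. -/
def oVal : OGp m F →* Matrix (Fin m ⊕ Fin m) (Fin m ⊕ Fin m) F :=
  (Units.coeHom _).comp (Subgroup.subtype _)

theorem oVal_injective : Function.Injective (oVal (F := F) (m := m)) :=
  fun _ _ h => Subtype.ext (Units.ext h)

theorem qPlus_eq (v : Fin m ⊕ Fin m → F) :
    Cfsg.quadFormPlus m F v = (v ∘ Sum.inl) ⬝ᵥ (v ∘ Sum.inr) := rfl

theorem mem_og {M : (Matrix (Fin m ⊕ Fin m) (Fin m ⊕ Fin m) F)ˣ}
    (h : ∀ v, Cfsg.quadFormPlus m F (M.1 *ᵥ v) = Cfsg.quadFormPlus m F v) :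
    M ∈ Cfsg.isometryGroup F (Cfsg.quadFormPlus m F) := fun u _ => h u

/-- The matrix of the Levi factor. -/
def levM : Matrix.SpecialLinearGroup (Fin m) F →* Matrix (Fin m ⊕ Fin m) (Fin m ⊕ Fin m) F where
  toFun g := fromBlocks g.1 0 0 (tauN g).1
  map_one' := by rw [map_one, val_oneN, fromBlocks_one]
  map_mul' g h := by rw [map_mul, val_mulN, val_mulN, fromBlocks_multiply]; simp

theorem levM_quad (g : Matrix.SpecialLinearGroup (Fin m) F) (v : Fin m ⊕ Fin m → F) :
    Cfsg.quadFormPlus m F (levM g *ᵥ v) = Cfsg.quadFormPlus m F v := by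
  show Cfsg.quadFormPlus m F (fromBlocks g.1 0 0 (tauN g).1 *ᵥ v) = _
  rw [qPlus_eq, qPlus_eq, fromBlocks_mulVec]
  simp only [zero_mulVec, add_zero, zero_add]
  show (g.1 *ᵥ (v ∘ Sum.inl)) ⬝ᵥ ((tauN g).1 *ᵥ (v ∘ Sum.inr)) = _
  rw [dotProduct_mulVec, tauN_val, vecMul_transpose, mulVec_mulVec, ← val_mulN, inv_mul_cancel,
    val_oneN, one_mulVec]

/-- The Levi factor. -/
def levO : Matrix.SpecialLinearGroup (Fin m) F →* OGp m F :=
  MonoidHom.codRestrict (levM (F := F) (m := m)).toHomUnits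
    (Cfsg.isometryGroup F (Cfsg.quadFormPlus m F)) fun g => mem_og fun v => by
      rw [MonoidHom.coe_toHomUnits]; exact levM_quad g v

theorem oVal_levO (g : Matrix.SpecialLinearGroup (Fin m) F) :
    oVal (levO g) = fromBlocks g.1 0 0 (tauN g).1 := rfl

theorem levO_injective : Function.Injective (levO (F := F) (m := m)) := fun g h e => by
  have := congrArg oVal e
  rw [oVal_levO, oVal_levO, fromBlocks_inj] at this
  exact Subtype.ext this.1

/-- The exchange of `x_b` and `y_b`. -/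
def swE (b : Fin m) : Equiv.Perm (Fin m ⊕ Fin m) := Equiv.swap (Sum.inl b) (Sum.inr b)

theorem swE_quad (b : Fin m) (v : Fin m ⊕ Fin m → F) :
    Cfsg.quadFormPlus m F (v ∘ swE b) = Cfsg.quadFormPlus m F v := by
  unfold Cfsg.quadFormPlus
  refine Finset.sum_congr rfl fun i _ => ?_
  by_cases h : i = b
  · subst h; simp [swE, mul_comm]
  · simp [swE, Equiv.swap_apply_of_ne_of_ne, h]

/-- Conjugation by the exchange, on matrices. -/
def swM (b : Fin m) : Matrix (Fin m ⊕ Fin m) (Fin m ⊕ Fin m) F →*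
    Matrix (Fin m ⊕ Fin m) (Fin m ⊕ Fin m) F where
  toFun M := M.submatrix (swE b) (swE b)
  map_one' := submatrix_one_equiv _
  map_mul' M N := (submatrix_mul_equiv M N _ _ _).symm

/-- Conjugation by the exchange. -/
def swO (b : Fin m) : OGp m F →* OGp m F :=
  ((swM b).comp oVal).toHomUnits.codRestrict _ fun g => mem_og fun v => by
    show Cfsg.quadFormPlus m F ((oVal g).submatrix (swE b) (swE b) *ᵥ v) = _
    rw [submatrix_mulVec_equiv, swE_quad]
    refine (g.2 (v ∘ ⇑(swE b).symm) 0).trans ?_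
    exact (swE_quad b (v ∘ ⇑(swE b).symm)).symm.trans (by
      congr 1; funext k; simp)

theorem oVal_swO (b : Fin m) (g : OGp m F) :
    oVal (swO b g) = (oVal g).submatrix (swE b) (swE b) := rfl

theorem oVal_sw_up {a b : Fin m} (hab : a ≠ b) (t : F) :
    oVal (swO b (levO (tvN a b hab t))) = fromBlocks 1 (t • wB a b) 0 1 := by
  rw [oVal_swO, oVal_levO, tauN_tv]
  ext (i | i) (j | j)
  all_goals
    by_cases hia : i = a <;> by_cases hib : i = b <;> by_cases hja : j = a <;> by_cases hjb : j = b <;>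
      simp_all [swE, Equiv.swap_apply_def, tvN_val, transvection, wB_apply, Matrix.one_apply,
        Matrix.single_apply] <;> grind

theorem oVal_sw_lo {a b : Fin m} (hab : a ≠ b) (t : F) :
    oVal (swO b (levO (tvN b a hab.symm (-t)))) = fromBlocks 1 0 (t • wB a b) 1 := by
  rw [oVal_swO, oVal_levO, tauN_tv, neg_neg]
  ext (i | i) (j | j)
  all_goals
    by_cases hia : i = a <;> by_cases hib : i = b <;> by_cases hja : j = a <;> by_cases hjb : j = b <;>
      simp_all [swE, Equiv.swap_apply_def, tvN_val, transvection, wB_apply, Matrix.one_apply,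
        Matrix.single_apply] <;> grind

/-- Three coordinates as an embedding. -/
def triEmb (i j k : Fin m) (hij : i ≠ j) (hik : i ≠ k) (hjk : j ≠ k) : Fin 3 ↪ Fin m :=
  ⟨![i, j, k], fun x y e => by
    fin_cases x <;> fin_cases y <;> simp_all [Ne.symm hij, Ne.symm hik, Ne.symm hjk]⟩

/-- `SL₃` on three coordinates. -/
def ext3 (i j k : Fin m) (hij : i ≠ j) (hik : i ≠ k) (hjk : j ≠ k) :
    SL(3, F) →* Matrix.SpecialLinearGroup (Fin m) F :=
  SpnPres.extSL (triEmb i j k hij hik hjk)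

theorem ext3_tv {i j k : Fin m} (hij : i ≠ j) (hik : i ≠ k) (hjk : j ≠ k) {x y : Fin 3} (h : x ≠ y)
    (t : F) : ext3 i j k hij hik hjk (tvN x y h t) =
      tvN (triEmb i j k hij hik hjk x) (triEmb i j k hij hik hjk y)
        (fun e => h ((triEmb i j k hij hik hjk).injective e)) t := by
  apply Subtype.ext
  have e : Matrix.single x y t = t • vecMulVec (Pi.single x 1) (Pi.single y 1) := by
    rw [← Matrix.single_eq_single_vecMulVec_single, Matrix.smul_single, smul_eq_mul, mul_one]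
  rw [ext3, SpnPres.extSL_val, tvN_val, tvN_val, SpnPres.extM, Matrix.transvection,
    Matrix.transvection, add_sub_cancel_left, e, Matrix.mul_smul, Matrix.smul_mul, mul_vecMulVec,
    vecMulVec_mul, vecMul_transpose, SpnPres.incM_mulVec_single, SpnPres.incM_mulVec_single,
    ← Matrix.single_eq_single_vecMulVec_single, Matrix.smul_single, smul_eq_mul, mul_one]

theorem ext3_up3 {i j k : Fin m} (hij : i ≠ j) (hik : i ≠ k) (hjk : j ≠ k) :
    (ext3 i j k hij hik hjk).comp (up3 (F := F)) = ext2 i j hij := by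
  refine hom_ext2 (fun t => ?_) (fun t => ?_)
  · show ext3 i j k hij hik hjk (up3 (upSL t)) = _
    rw [up3_up, ext3_tv, ext2_up]; rfl
  · show ext3 i j k hij hik hjk (up3 (loSL t)) = _
    rw [up3_lo, ext3_tv, ext2_lo]; rfl

theorem ext3_dn3 {i j k : Fin m} (hij : i ≠ j) (hik : i ≠ k) (hjk : j ≠ k) :
    (ext3 i j k hij hik hjk).comp (dn3 (F := F)) = ext2 j k hjk := by
  refine hom_ext2 (fun t => ?_) (fun t => ?_)
  · show ext3 i j k hij hik hjk (dn3 (upSL t)) = _
    rw [dn3_up, ext3_tv, ext2_up]; rfl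
  · show ext3 i j k hij hik hjk (dn3 (loSL t)) = _
    rw [dn3_lo, ext3_tv, ext2_lo]; rfl

theorem ext2_commute {i j k l : Fin m} (hij : i ≠ j) (hkl : k ≠ l) (hik : i ≠ k) (hil : i ≠ l)
    (hjk : j ≠ k) (hjl : j ≠ l) (g g' : SL(2, F)) :
    Commute (ext2 i j hij g) (ext2 k l hkl g') := by
  have h1 : ∀ (p q : Fin m) (hpq : p ≠ q), p ≠ k → p ≠ l → q ≠ k → q ≠ l → ∀ t,
      Commute (tvN p q hpq t) (ext2 k l hkl g') := by
    intro p q hpq hpk hpl hqk hql t
    refine (Subgroup.mem_centralizer_singleton_iff.1 (range_le_two (φ := ext2 k l hkl)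
      (Subgroup.centralizer {tvN p q hpq t}) (fun u => ?_) (fun u => ?_) ⟨g', rfl⟩)).symm
    · rw [ext2_up]
      exact Subgroup.mem_centralizer_singleton_iff.2 (tv_comm₀ hkl hpq hpl.symm hqk.symm u t)
    · rw [ext2_lo]
      exact Subgroup.mem_centralizer_singleton_iff.2 (tv_comm₀ hkl.symm hpq hpk.symm hql.symm u t)
  refine Subgroup.mem_centralizer_singleton_iff.1 (range_le_two (φ := ext2 i j hij)
    (Subgroup.centralizer {ext2 k l hkl g'}) (fun u => ?_) (fun u => ?_) ⟨g, rfl⟩)
  · rw [ext2_up]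
    exact Subgroup.mem_centralizer_singleton_iff.2 (h1 i j hij hik hil hjk hjl u).eq
  · rw [ext2_lo]
    exact Subgroup.mem_centralizer_singleton_iff.2 (h1 j i hij.symm hjk hjl hik hil u).eq

end Cfsg.Agent.Lie.CurtisTitsA

namespace Cfsg.Agent.Lie.CurtisTitsA

open Matrix Cfsg.Agent.Lie.Chev
open scoped MatrixGroups

variable {F : Type*} [Field F] {m : ℕ}

theorem sw_fix_tv {b i j : Fin m} (hij : i ≠ j) (hi : i ≠ b) (hj : j ≠ b) (t : F) :
    swO b (levO (tvN i j hij t)) = levO (tvN i j hij t) := by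
  apply oVal_injective
  rw [oVal_swO, oVal_levO, tauN_tv]
  ext (p | p) (q | q)
  all_goals
    by_cases hp : p = b <;> by_cases hq : q = b <;>
      simp_all [swE, Equiv.swap_apply_def, tvN_val, transvection, Matrix.one_apply,
        Matrix.single_apply, eq_comm] <;> grind

theorem sw_fix_ext2 {b i j : Fin m} (hij : i ≠ j) (hi : i ≠ b) (hj : j ≠ b) (g : SL(2, F)) :
    swO b (levO (ext2 i j hij g)) = levO (ext2 i j hij g) := by
  have : (swO (F := F) b).comp (levO.comp (ext2 i j hij)) = (levO (F := F)).comp (ext2 i j hij) := by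
    refine hom_ext2 (fun t => ?_) (fun t => ?_)
    · show swO b (levO (ext2 i j hij (upSL t))) = levO (ext2 i j hij (upSL t))
      rw [ext2_up, sw_fix_tv hij hi hj]
    · show swO b (levO (ext2 i j hij (loSL t))) = levO (ext2 i j hij (loSL t))
      rw [ext2_lo, sw_fix_tv hij.symm hj hi]
  exact DFunLike.congr_fun this g

theorem tv_cg {a b i j : Fin m} (hab : a ≠ b) (hij : i ≠ j)
    (h : (i ≠ a ∧ i ≠ b ∧ j ≠ a ∧ j ≠ b) ∨ (i = a ∧ j = b) ∨ (i = b ∧ j = a)) (t : F) :
    cg (tvN i j hij t) (wB a b : Matrix (Fin m) (Fin m) F) = wB a b := by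
  rw [cg_wB, tv_mulVec, tv_mulVec]
  rcases h with ⟨-, -, hja, hjb⟩ | ⟨rfl, rfl⟩ | ⟨rfl, rfl⟩
  · rw [Pi.single_eq_of_ne hja, Pi.single_eq_of_ne hjb, mul_zero, Pi.single_zero, add_zero, add_zero]
    rfl
  · rw [Pi.single_eq_of_ne (Ne.symm hab), Pi.single_eq_same, mul_zero, Pi.single_zero, add_zero,
      mul_one, wedge_add_right,
      show (Pi.single i t : Fin m → F) = t • Pi.single i 1 by rw [← Pi.single_smul, smul_eq_mul, mul_one],
      wedge_smul_right, wedge_self, smul_zero, add_zero]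
    rfl
  · rw [Pi.single_eq_of_ne hab, Pi.single_eq_same, mul_zero, Pi.single_zero, add_zero, mul_one,
      wedge_add_left,
      show (Pi.single i t : Fin m → F) = t • Pi.single i 1 by rw [← Pi.single_smul, smul_eq_mul, mul_one],
      wedge_smul_left, wedge_self, smul_zero, add_zero]
    rfl

theorem levO_commute {a b : Fin m} (hab : a ≠ b) {g : Matrix.SpecialLinearGroup (Fin m) F}
    (h1 : cg g (wB a b : Matrix (Fin m) (Fin m) F) = wB a b)
    (h2 : cg (tauN g) (wB a b : Matrix (Fin m) (Fin m) F) = wB a b) (u : F) :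
    Commute (levO g) (swO b (levO (tvN a b hab u))) ∧
    Commute (levO g) (swO b (levO (tvN b a hab.symm u))) := by
  have e1 : g.1 * wB a b = wB a b * (tauN g).1 := by
    calc g.1 * wB a b = g.1 * wB a b * (g.1ᵀ * (tauN g).1) := by
          rw [tauN_val, ← transpose_mul, ← val_mulN, inv_mul_cancel, val_oneN, transpose_one, mul_one]
      _ = cg g (wB a b) * (tauN g).1 := by rw [cg]; simp only [Matrix.mul_assoc]
      _ = _ := by rw [h1]
  have e2 : (tauN g).1 * wB a b = wB a b * g.1 := by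
    calc (tauN g).1 * wB a b = (tauN g).1 * wB a b * ((tauN g).1ᵀ * g.1) := by
          rw [tauN_val, transpose_transpose, ← val_mulN, inv_mul_cancel, val_oneN, mul_one]
      _ = cg (tauN g) (wB a b) * g.1 := by rw [cg]; simp only [Matrix.mul_assoc]
      _ = _ := by rw [h2]
  constructor
  · apply oVal_injective
    rw [map_mul, map_mul, oVal_levO, oVal_sw_up hab, fromBlocks_multiply, fromBlocks_multiply]
    simp [e1]
  · apply oVal_injective
    rw [map_mul, map_mul, oVal_levO, show u = -(-u) by rw [neg_neg], oVal_sw_lo hab, fromBlocks_multiply,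
      fromBlocks_multiply]
    simp [e2]

end Cfsg.Agent.Lie.CurtisTitsA
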