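import Cfsg.Agent.Lib.Lie.CurtisTitsBlocks

/-! Two subgroups `SL₂(F)` generating a quotient of `SL₃(F)` with commuting central involutions. -/

set_option autoImplicit false
set_option linter.unusedSectionVars false
set_option linter.unusedSimpArgs false
set_option linter.style.haveILetI false
set_option maxHeartbeats 1000000

namespace Cfsg.Agent.Lie.CurtisTitsA

open Matrix Cfsg.Agent.Lie.Chev
open scoped MatrixGroups

variable {F : Type*} [Field F]

theorem sign_pattern : ∀ a b : Fin 3 → Bool,
    ((a 0 ^^ a 1) ^^ a 2) = false → ((b 0 ^^ b 1) ^^ b 2) = false →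
    (∃ i, a i = true) → (∃ i, b i = true) → (∃ i, a i ≠ b i) →
    ∃ σ : Fin 3 → Fin 3, Function.Injective σ ∧ a (σ 0) = true ∧ a (σ 1) = true ∧ a (σ 2) = false ∧
      b (σ 0) = false ∧ b (σ 1) = true ∧ b (σ 2) = true := by decide

theorem parity (h2 : (2 : F) ≠ 0) (a : Fin 3 → Bool)
    (h : ∏ k, (if a k then (-1 : F) else 1) = 1) : ((a 0 ^^ a 1) ^^ a 2) = false := by
  have hne : (-1 : F) ≠ 1 := fun e => h2 (by linear_combination -e)
  rw [Fin.prod_univ_three] at h
  cases h0 : a 0 <;> cases h1 : a 1 <;> cases h3 : a 2 <;> simp_all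

/-- Two commuting involutions of `SL₃` in diagonal form. -/
theorem exists_diag (h2 : (2 : F) ≠ 0) {Z Z' : SL(3, F)} (hZ : Z * Z = 1) (hZ' : Z' * Z' = 1)
    (hc : Z * Z' = Z' * Z) (h1 : Z ≠ 1) (h1' : Z' ≠ 1) (hne : Z ≠ Z') :
    ∃ g : SL(3, F), g * Z * g⁻¹ = up3 negOne2 ∧ g * Z' * g⁻¹ = dn3 negOne2 := by
  classical
  set P := Z.1
  set Q := Z'.1
  have hP : P * P = 1 := congrArg Subtype.val hZ
  have hQ : Q * Q = 1 := congrArg Subtype.val hZ'
  have hPQ : P * Q = Q * P := congrArg Subtype.val hc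
  let S : Set (Fin 3 → F) := {w | ∃ s t : Bool, P *ᵥ w = (if s then (-1 : F) else 1) • w ∧
    Q *ᵥ w = (if t then (-1 : F) else 1) • w}
  have eP : ∀ v, P *ᵥ (P *ᵥ v) = v := fun v => by rw [mulVec_mulVec, hP, one_mulVec]
  have eQ : ∀ v, Q *ᵥ (Q *ᵥ v) = v := fun v => by rw [mulVec_mulVec, hQ, one_mulVec]
  have ePQ : ∀ v, Q *ᵥ (P *ᵥ v) = P *ᵥ (Q *ᵥ v) := fun v => by
    rw [mulVec_mulVec, mulVec_mulVec, hPQ]
  have hspan : Submodule.span F S = ⊤ := by
    rw [eq_top_iff]
    intro v _
    have hmem : ∀ s t : Bool, v + (if s then (-1 : F) else 1) • P *ᵥ v +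
        (if t then (-1 : F) else 1) • Q *ᵥ v +
        ((if s then (-1 : F) else 1) * (if t then (-1 : F) else 1)) • P *ᵥ (Q *ᵥ v) ∈ S := by
      intro s t
      refine ⟨s, t, ?_, ?_⟩
      · simp only [mulVec_add, mulVec_smul, eP, ePQ]
        cases s <;> cases t <;> simp <;> abel
      · simp only [mulVec_add, mulVec_smul, eQ, ePQ]
        cases s <;> cases t <;> simp <;> abel
    have h4 : (4 : F) • v ∈ Submodule.span F S := by
      have h := Submodule.add_mem (Submodule.span F S)
        (Submodule.add_mem (Submodule.span F S) (Submodule.subset_span (hmem false false))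
        (Submodule.subset_span (hmem false true)))
        (Submodule.add_mem (Submodule.span F S) (Submodule.subset_span (hmem true false))
          (Submodule.subset_span (hmem true true)))
      convert h using 1
      ext i
      simp
      ring
    have h40 : (4 : F) ≠ 0 := by
      intro h
      exact h2 (mul_self_eq_zero.1 (show (2 : F) * 2 = 0 by linear_combination h))
    simpa [smul_smul, inv_mul_cancel₀ h40] using Submodule.smul_mem _ (4 : F)⁻¹ h4
  obtain ⟨b, hbS, hbspan, hbli⟩ := exists_linearIndependent F S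
  haveI : Finite b := hbli.finite
  haveI : Fintype b := Fintype.ofFinite b
  have hB : ⊤ ≤ Submodule.span F (Set.range ((↑) : b → (Fin 3 → F))) := by
    rw [Subtype.range_coe, hbspan, hspan]
  let B := Module.Basis.mk hbli hB
  have hcard : Fintype.card b = 3 := by
    rw [← Module.finrank_eq_card_basis B, Module.finrank_fin_fun]
  let eb := (Fintype.equivFinOfCardEq hcard).symm
  have hli : LinearIndependent F fun k : Fin 3 => (eb k : Fin 3 → F) :=
    hbli.comp eb eb.injective
  choose s t hs ht using fun k : Fin 3 => hbS (eb k).2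
  let M : Matrix (Fin 3) (Fin 3) F := Matrix.of fun i k => (eb k : Fin 3 → F) i
  have hM : IsUnit M := linearIndependent_cols_iff_isUnit.1 hli
  have hMd : M.det ≠ 0 := ((isUnit_iff_isUnit_det M).1 hM).ne_zero
  have hcol : ∀ (R : Matrix (Fin 3) (Fin 3) F) (f : Fin 3 → F),
      (∀ k, R *ᵥ (eb k : Fin 3 → F) = f k • (eb k : Fin 3 → F)) → R * M = M * diagonal f := by
    intro R f h
    ext i k
    rw [mul_diagonal]
    have := congrFun (h k) i
    simp only [Pi.smul_apply, smul_eq_mul, mulVec, dotProduct] at this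
    simpa [M, Matrix.mul_apply, mul_comm (f k)] using this
  have eP' := hcol P _ hs
  have eQ' := hcol Q _ ht
  have hdet : ∀ (R : SL(3, F)) (u : Fin 3 → Bool),
      R.1 * M = M * diagonal (fun k => if u k then (-1 : F) else 1) →
      ((u 0 ^^ u 1) ^^ u 2) = false := by
    intro R u h
    refine parity h2 u ?_
    have h' := congrArg Matrix.det h
    rw [det_mul, det_mul, R.2, one_mul, det_diagonal] at h'
    exact (mul_left_cancel₀ hMd (by rw [mul_one]; exact h')).symm
  have heq : ∀ (R R' : SL(3, F)) (f : Fin 3 → F),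
      R.1 * M = M * diagonal f → R'.1 * M = M * diagonal f → R = R' := by
    intro R R' f h h'
    exact Subtype.ext (hM.mul_right_cancel (h.trans h'.symm))
  have hex : ∀ (R : SL(3, F)) (u : Fin 3 → Bool),
      R.1 * M = M * diagonal (fun k => if u k then (-1 : F) else 1) → R ≠ 1 → ∃ i, u i = true := by
    intro R u h hR
    by_contra hcon
    push Not at hcon
    refine hR (heq R 1 _ h ?_)
    simp [val_oneN, hcon]
  obtain ⟨σ, hσ, a0, a1, a2, b0, b1, b2⟩ := sign_pattern s t (hdet Z s eP') (hdet Z' t eQ')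
    (hex Z s eP' h1) (hex Z' t eQ' h1') (by
      by_contra hcon
      push Not at hcon
      rw [← funext hcon] at eQ'
      exact hne (heq Z Z' _ eP' eQ'))
  let N : Matrix (Fin 3) (Fin 3) F := Matrix.of fun i k => (eb (σ k) : Fin 3 → F) i
  have hN : IsUnit N := linearIndependent_cols_iff_isUnit.1 (hli.comp σ hσ)
  have hNd : N.det ≠ 0 := ((isUnit_iff_isUnit_det N).1 hN).ne_zero
  let D : Matrix (Fin 3) (Fin 3) F := diagonal ![N.det⁻¹, 1, 1]
  let W : SL(3, F) := ⟨N * D, by
    rw [det_mul, det_diagonal, Fin.prod_univ_three]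
    simp [hNd]⟩
  have hcomm : ∀ (R : Matrix (Fin 3) (Fin 3) F) (f f' : Fin 3 → F),
      (∀ k, R *ᵥ (eb k : Fin 3 → F) = f k • (eb k : Fin 3 → F)) → (∀ k, f' k = f (σ k)) →
      R * (N * D) = N * D * diagonal f' := by
    intro R f f' h hf
    have e : R * N = N * diagonal f' := by
      ext i k
      rw [mul_diagonal]
      have := congrFun (h (σ k)) i
      simp only [Pi.smul_apply, smul_eq_mul, mulVec, dotProduct] at this
      simpa [N, Matrix.mul_apply, hf, mul_comm (f (σ k))] using this
    rw [← mul_assoc, e, mul_assoc, mul_assoc]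
    congr 1
    rw [diagonal_mul_diagonal, diagonal_mul_diagonal]
    congr 1
    funext k
    rw [mul_comm]
  have hu : (up3 negOne2 : SL(3, F)).1 = diagonal ![-1, -1, 1] := by
    rw [up3_val, negOne2_val]
    ext i j
    fin_cases i <;> fin_cases j <;> simp
  have hd : (dn3 negOne2 : SL(3, F)).1 = diagonal ![1, -1, -1] := by
    rw [dn3_val, negOne2_val]
    ext i j
    fin_cases i <;> fin_cases j <;> simp
  have h3 : Z * W = W * up3 negOne2 := by
    refine Subtype.ext ?_
    rw [val_mulN, val_mulN, hu]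
    refine hcomm P _ _ hs fun k => ?_
    fin_cases k <;> simp [a0, a1, a2]
  have h4 : Z' * W = W * dn3 negOne2 := by
    refine Subtype.ext ?_
    rw [val_mulN, val_mulN, hd]
    refine hcomm Q _ _ ht fun k => ?_
    fin_cases k <;> simp [b0, b1, b2]
  refine ⟨W⁻¹, ?_, ?_⟩
  · rw [inv_inv, mul_assoc, h3, inv_mul_cancel_left]
  · rw [inv_inv, mul_assoc, h4, inv_mul_cancel_left]

section Hom

variable {G : Type*} [Group G] {π : SL(3, F) →* G} (hker : π.ker ≤ Subgroup.center SL(3, F))

include hker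

theorem cube_ker {c : SL(3, F)} (hc : π c = 1) : c * c * c = 1 := by
  obtain ⟨r, hr, e⟩ := Matrix.SpecialLinearGroup.mem_center_iff.1
    (hker (MonoidHom.mem_ker.2 hc))
  apply Subtype.ext
  rw [val_mulN, val_mulN, val_oneN, ← e, ← map_mul, ← map_mul]
  rw [Fintype.card_fin] at hr
  rw [show r * r * r = r ^ 3 by ring, hr, map_one]

theorem ker_central {c : SL(3, F)} (hc : π c = 1) (x : SL(3, F)) : x * c = c * x :=
  Subgroup.mem_center_iff.1 (hker (MonoidHom.mem_ker.2 hc)) x

theorem lift_invol {x : G} (hx : x ∈ π.range) (h2 : x * x = 1) :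
    ∃ Z, π Z = x ∧ Z * Z = 1 := by
  obtain ⟨Z, rfl⟩ := hx
  refine ⟨Z * Z * Z, ?_, ?_⟩
  · rw [map_mul, map_mul, h2, one_mul]
  · have h := cube_ker hker (c := Z * Z) (by rw [map_mul, h2])
    calc Z * Z * Z * (Z * Z * Z) = Z * Z * (Z * Z) * (Z * Z) := by group
      _ = 1 := h

/-- Commutation with an involution lifts. -/
theorem lift_commute {X Z : SL(3, F)} (hZ : Z * Z = 1) (h : π X * π Z = π Z * π X) :
    X * Z = Z * X := by
  set c := X * Z * X⁻¹ * Z⁻¹
  have hc : π c = 1 := by
    simp only [c, map_mul, map_inv]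
    rw [h]
    group
  have e : X * Z * X⁻¹ = c * Z := by simp only [c]; group
  have h2 : c * c = 1 := by
    have h3 : (X * Z * X⁻¹) * (X * Z * X⁻¹) = 1 := by
      calc (X * Z * X⁻¹) * (X * Z * X⁻¹) = X * (Z * Z) * X⁻¹ := by group
        _ = 1 := by rw [hZ]; group
    rw [e, mul_assoc, ← mul_assoc Z c Z, ker_central hker hc Z, mul_assoc c Z Z, hZ, mul_one] at h3
    exact h3
  have h3 := cube_ker hker hc
  rw [h2, one_mul] at h3
  rw [h3, one_mul] at e
  calc X * Z = X * Z * X⁻¹ * X := by group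
    _ = Z * X := by rw [e]

theorem up3_comp_injective : Function.Injective (π.comp up3) := by
  refine (MonoidHom.ker_eq_bot_iff _).1 (eq_bot_iff.2 fun g hg => Subgroup.mem_bot.2 ?_)
  obtain ⟨r, -, e⟩ := Matrix.SpecialLinearGroup.mem_center_iff.1
    (hker (MonoidHom.mem_ker.2 (MonoidHom.mem_ker.1 hg : π (up3 g) = 1)))
  rw [up3_val] at e
  have e22 := congrFun (congrFun e 2) 2
  have e00 := congrFun (congrFun e 0) 0
  have e01 := congrFun (congrFun e 0) 1
  have e10 := congrFun (congrFun e 1) 0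
  have e11 := congrFun (congrFun e 1) 1
  simp [Matrix.scalar_apply] at e22 e00 e01 e10 e11
  subst e22
  exact ext_two (by simp [← e00, val_oneN]) (by simp [← e01, val_oneN])
    (by simp [← e10, val_oneN]) (by simp [← e11, val_oneN])

theorem dn3_comp_injective : Function.Injective (π.comp dn3) := by
  refine (MonoidHom.ker_eq_bot_iff _).1 (eq_bot_iff.2 fun g hg => Subgroup.mem_bot.2 ?_)
  obtain ⟨r, -, e⟩ := Matrix.SpecialLinearGroup.mem_center_iff.1
    (hker (MonoidHom.mem_ker.2 (MonoidHom.mem_ker.1 hg : π (dn3 g) = 1)))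
  rw [dn3_val] at e
  have e22 := congrFun (congrFun e 0) 0
  have e00 := congrFun (congrFun e 1) 1
  have e01 := congrFun (congrFun e 1) 2
  have e10 := congrFun (congrFun e 2) 1
  have e11 := congrFun (congrFun e 2) 2
  simp [Matrix.scalar_apply] at e22 e00 e01 e10 e11
  subst e22
  exact ext_two (by simp [← e00, val_oneN]) (by simp [← e01, val_oneN])
    (by simp [← e10, val_oneN]) (by simp [← e11, val_oneN])

/-- An element of order `p` of the centralizer of `diag(-1,-1,1)` lies in the block. -/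
theorem mem_range_block (h2 : (2 : F) ≠ 0) (p : ℕ) [Fact p.Prime] [CharP F p] {X : SL(3, F)}
    (hX : X * up3 negOne2 = up3 negOne2 * X) (hp : π X ^ p = 1) :
    π X ∈ (π.comp up3).range := by
  have e := congrArg Subtype.val hX
  rw [val_mulN, val_mulN, up3_val, negOne2_val] at e
  have e02 := congrFun (congrFun e 0) 2
  have e12 := congrFun (congrFun e 1) 2
  have e20 := congrFun (congrFun e 2) 0
  have e21 := congrFun (congrFun e 2) 1
  simp [Matrix.mul_apply, Fin.sum_univ_three] at e02 e12 e20 e21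
  have z02 : X.1 0 2 = 0 :=
    (mul_eq_zero.1 (show (2 : F) * X.1 0 2 = 0 by linear_combination e02)).resolve_left h2
  have z12 : X.1 1 2 = 0 :=
    (mul_eq_zero.1 (show (2 : F) * X.1 1 2 = 0 by linear_combination e12)).resolve_left h2
  have z20 : X.1 2 0 = 0 :=
    (mul_eq_zero.1 (show (2 : F) * X.1 2 0 = 0 by linear_combination -e20)).resolve_left h2
  have z21 : X.1 2 1 = 0 :=
    (mul_eq_zero.1 (show (2 : F) * X.1 2 1 = 0 by linear_combination -e21)).resolve_left h2
  -- the last entry of powers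
  have hpow : ∀ n : ℕ, (X ^ n).1 2 2 = X.1 2 2 ^ n := by
    intro n
    induction n with
    | zero => simp [val_oneN]
    | succ n ih =>
      rw [pow_succ, val_mulN, Matrix.mul_apply, Fin.sum_univ_three, z02, z12, ih, pow_succ]
      ring
  set c := X ^ p
  have hc : π c = 1 := by rw [map_pow, hp]
  obtain ⟨r, hr, er⟩ := Matrix.SpecialLinearGroup.mem_center_iff.1
    (hker (MonoidHom.mem_ker.2 hc))
  rw [Fintype.card_fin] at hr
  have hcv : ∀ j : ℕ, (c ^ j).1 = scalar (Fin 3) (r ^ j) := by
    intro j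
    induction j with
    | zero => simp [val_oneN]
    | succ n ih => rw [pow_succ, val_mulN, ih, ← er, ← map_mul, pow_succ]
  have he : X.1 2 2 ^ p = r := by
    rw [← hpow p]
    show c.1 2 2 = r
    have := congrFun (congrFun er 2) 2
    simpa [Matrix.scalar_apply] using this.symm
  set e := X.1 2 2
  have he3 : e ^ 3 = 1 := by
    have h3 : (e ^ 3) ^ p = (1 : F) ^ p := by rw [← pow_mul, mul_comm, pow_mul, he, hr, one_pow]
    exact frobenius_inj F p h3
  obtain ⟨j, hj⟩ : ∃ j : ℕ, e * r ^ j = 1 := by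
    have hp3 : e ^ p = e ^ (p % 3) := by
      conv_lhs => rw [← Nat.mod_add_div p 3, pow_add, pow_mul, he3, one_pow, mul_one]
    rcases (show p % 3 = 0 ∨ p % 3 = 1 ∨ p % 3 = 2 by omega) with h | h | h <;>
      rw [h, he] at hp3
    · refine ⟨0, ?_⟩
      have h1 : e ^ p = (1 : F) ^ p := by rw [he, hp3, pow_zero, one_pow]
      rw [pow_zero, mul_one]
      exact frobenius_inj F p h1
    · refine ⟨2, ?_⟩
      rw [hp3, pow_one]
      linear_combination he3
    · refine ⟨1, ?_⟩
      rw [hp3]
      linear_combination he3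
  set Y := X * c ^ j
  have hY : π Y = π X := by rw [map_mul, map_pow, hc, one_pow, mul_one]
  have yv : ∀ a b, Y.1 a b = X.1 a b * r ^ j := by
    intro a b
    rw [val_mulN, hcv, Matrix.scalar_apply, mul_diagonal]
  have y22 : Y.1 2 2 = 1 := by rw [yv]; exact hj
  have hYd := Y.2
  rw [det_fin_three] at hYd
  obtain ⟨g, hg⟩ : ∃ g : SL(2, F), g.1 = !![Y.1 0 0, Y.1 0 1; Y.1 1 0, Y.1 1 1] := by
    refine ⟨⟨!![Y.1 0 0, Y.1 0 1; Y.1 1 0, Y.1 1 1], ?_⟩, rfl⟩
    rw [det_fin_two_of]
    simp only [yv 0 2, yv 1 2, yv 2 0, yv 2 1, z02, z12, z20, z21, y22] at hYd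
    linear_combination hYd
  refine ⟨g, ?_⟩
  rw [← hY]
  show π (up3 g) = π Y
  congr 1
  refine Matrix.SpecialLinearGroup.ext _ _ fun a b => ?_
  fin_cases a <;> fin_cases b <;>
    simp [up3_val, hg, yv 0 2, yv 1 2, yv 2 0, yv 2 1, z02, z12, z20, z21, y22]

/-- An `SL₂` with central involution `diag(-1,-1,1)` is the block. -/
theorem range_eq_block [Finite F] (h2 : (2 : F) ≠ 0) (φ : SL(2, F) →* G) (hinj : Function.Injective φ)
    (hle : φ.range ≤ π.range) (hz : φ negOne2 = π (up3 negOne2)) :
    φ.range = (π.comp up3).range := by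
  classical
  obtain ⟨p, hpF⟩ := CharP.exists F
  haveI := hpF
  haveI : Fact p.Prime := ⟨CharP.char_is_prime F p⟩
  have key : ∀ g : SL(2, F), g ^ p = 1 → φ g ∈ (π.comp up3).range := by
    intro g hg
    obtain ⟨X, hX⟩ := hle ⟨g, rfl⟩
    rw [← hX]
    refine mem_range_block hker h2 p (lift_commute hker ?_ ?_) ?_
    · rw [← map_mul, negOne2_sq, map_one]
    · rw [hX, ← hz, ← map_mul, ← map_mul, negOne2_comm]
    · rw [hX, ← map_pow, hg, map_one]
  have hup : ∀ (n : ℕ) (t : F), upSL t ^ n = upSL (n • t) := by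
    intro n t
    induction n with
    | zero => rw [pow_zero, zero_nsmul, upSL_zero]
    | succ n ih => rw [pow_succ, ih, ← upSL_add, succ_nsmul]
  have hlo : ∀ (n : ℕ) (t : F), loSL t ^ n = loSL (n • t) := by
    intro n t
    induction n with
    | zero => rw [pow_zero, zero_nsmul, loSL_zero]
    | succ n ih => rw [pow_succ, ih, ← loSL_add, succ_nsmul]
  have hle2 : φ.range ≤ (π.comp up3).range := by
    have h : (⊤ : Subgroup SL(2, F)) ≤ ((π.comp up3).range).comap φ := by
      rw [← Cfsg.Agent.Classical.SL_closure_transvections, Subgroup.closure_le]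
      rintro _ ⟨⟨i, j, hij, t⟩, rfl⟩
      refine key _ ?_
      fin_cases i <;> fin_cases j
      · exact absurd rfl hij
      · rw [TransvectionStruct.toSpecialLinearGroup_mk,
          show Matrix.SpecialLinearGroup.transvection _ t = upSL t from ext_two
            (by simp [SpecialLinearGroup.transvection, transvection, upSL_val])
            (by simp [SpecialLinearGroup.transvection, transvection, upSL_val])
            (by simp [SpecialLinearGroup.transvection, transvection, upSL_val])
            (by simp [SpecialLinearGroup.transvection, transvection, upSL_val]),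
          hup, nsmul_eq_mul, CharP.cast_eq_zero, zero_mul, upSL_zero]
      · rw [TransvectionStruct.toSpecialLinearGroup_mk,
          show Matrix.SpecialLinearGroup.transvection _ t = loSL t from ext_two
            (by simp [SpecialLinearGroup.transvection, transvection, loSL_val])
            (by simp [SpecialLinearGroup.transvection, transvection, loSL_val])
            (by simp [SpecialLinearGroup.transvection, transvection, loSL_val])
            (by simp [SpecialLinearGroup.transvection, transvection, loSL_val]),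
          hlo, nsmul_eq_mul, CharP.cast_eq_zero, zero_mul, loSL_zero]
      · exact absurd rfl hij
    rintro _ ⟨g, rfl⟩
    exact h (Subgroup.mem_top g)
  refine SetLike.coe_injective (Set.eq_of_subset_of_ncard_le hle2 ?_
    (Set.finite_range (π.comp up3)))
  rw [MonoidHom.coe_range, MonoidHom.coe_range, Set.ncard_range_of_injective hinj,
    Set.ncard_range_of_injective (up3_comp_injective hker)]

end Hom

/-- The rotation of the three coordinates. -/
def rot3 : SL(3, F) := ⟨!![0, 0, 1; 1, 0, 0; 0, 1, 0], by simp [det_fin_three]⟩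

theorem rot3_val : (rot3 : SL(3, F)).1 = !![0, 0, 1; 1, 0, 0; 0, 1, 0] := rfl

theorem rot3_up3 (g : SL(2, F)) : rot3 * up3 g = dn3 g * rot3 := by
  apply Subtype.ext
  ext i j
  fin_cases i <;> fin_cases j <;>
    simp [val_mulN, up3_val, dn3_val, rot3_val, Matrix.mul_apply, Fin.sum_univ_three]

/-- The normal form of a pair. -/
theorem exists_pair [Finite F] (h2 : (2 : F) ≠ 0) {G : Type*} [Group G] (φ φ' : SL(2, F) →* G)
    (hinj : Function.Injective φ) (hinj' : Function.Injective φ')
    (hc : φ negOne2 * φ' negOne2 = φ' negOne2 * φ negOne2)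
    (he : Nonempty (↥(φ.range ⊔ φ'.range) ≃* SL(3, F)) ∨
      Nonempty (↥(φ.range ⊔ φ'.range) ≃* Matrix.ProjectiveSpecialLinearGroup (Fin 3) F)) :
    ∃ π : SL(3, F) →* G, π.ker ≤ Subgroup.center SL(3, F) ∧ π (up3 negOne2) = φ negOne2 ∧
      π (dn3 negOne2) = φ' negOne2 ∧ φ.range = (π.comp up3).range ∧
      φ'.range = (π.comp dn3).range := by
  set H := φ.range ⊔ φ'.range
  obtain ⟨π₀, hker, hrange⟩ : ∃ π₀ : SL(3, F) →* G, π₀.ker ≤ Subgroup.center SL(3, F) ∧
      π₀.range = H := by
    rcases he with he' | he' <;> obtain ⟨e⟩ := he'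
    · refine ⟨H.subtype.comp e.symm.toMonoidHom, fun c hc => ?_, ?_⟩
      · have h1 : e.symm c = 1 := H.subtype_injective (by simpa using hc)
        rw [show c = 1 by simpa using congrArg e h1]
        exact one_mem _
      · rw [MonoidHom.range_comp, MonoidHom.range_eq_top.2 e.symm.surjective,
          ← MonoidHom.range_eq_map, Subgroup.range_subtype]
    · refine ⟨H.subtype.comp (e.symm.toMonoidHom.comp (QuotientGroup.mk' _)),
        fun c hc => ?_, ?_⟩
      · have h1 : e.symm (QuotientGroup.mk' (Subgroup.center SL(3, F)) c) = 1 :=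
          H.subtype_injective (by simpa using hc)
        exact (QuotientGroup.eq_one_iff c).1 (by simpa using congrArg e h1)
      · rw [MonoidHom.range_comp, MonoidHom.range_eq_top.2
          (e.symm.surjective.comp (QuotientGroup.mk'_surjective _)),
          ← MonoidHom.range_eq_map, Subgroup.range_subtype]
  have hsq : ∀ ψ : SL(2, F) →* G, ψ negOne2 * ψ negOne2 = 1 := fun ψ => by
    rw [← map_mul, negOne2_sq, map_one]
  obtain ⟨Z, hZ, hZ2⟩ := lift_invol hker (x := φ negOne2)
    (hrange ▸ Subgroup.mem_sup_left ⟨_, rfl⟩) (hsq φ)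
  obtain ⟨Z', hZ', hZ2'⟩ := lift_invol hker (x := φ' negOne2)
    (hrange ▸ Subgroup.mem_sup_right ⟨_, rfl⟩) (hsq φ')
  have hne1 : ∀ {ψ : SL(2, F) →* G}, Function.Injective ψ → ψ negOne2 ≠ 1 := fun hψ h =>
    negOne2_ne_one h2 (hψ (h.trans (map_one _).symm))
  have hne : Z ≠ Z' := by
    intro h
    have hz : φ negOne2 = φ' negOne2 := by rw [← hZ, h, hZ']
    have hall : ∀ x ∈ H, x * φ negOne2 = φ negOne2 * x := by
      have h' : H ≤ Subgroup.centralizer {φ negOne2} := by
        refine sup_le ?_ ?_ <;> rintro _ ⟨g, rfl⟩ <;>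
          rw [Subgroup.mem_centralizer_singleton_iff]
        · rw [← map_mul, ← map_mul, negOne2_comm]
        · rw [hz, ← map_mul, ← map_mul, negOne2_comm]
      exact fun x hx => Subgroup.mem_centralizer_singleton_iff.1 (h' hx)
    have hZc : Z ∈ Subgroup.center SL(3, F) := Subgroup.mem_center_iff.2 fun X =>
      lift_commute hker hZ2 (by rw [hZ]; exact hall _ (hrange ▸ ⟨X, rfl⟩))
    obtain ⟨r, hr, e⟩ := Matrix.SpecialLinearGroup.mem_center_iff.1 hZc
    rw [Fintype.card_fin] at hr
    have hr2 : r * r = 1 := by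
      have h' := congrFun (congrFun (congrArg Subtype.val hZ2) 0) 0
      rw [val_mulN, ← e, ← map_mul] at h'
      simpa [Matrix.scalar_apply, val_oneN] using h'
    have hr1 : r = 1 := by linear_combination hr - r * hr2
    refine hne1 hinj ?_
    rw [← hZ, show Z = 1 from Subtype.ext (by rw [← e, hr1, map_one]; rfl), map_one]
  obtain ⟨g, hg, hg'⟩ := exists_diag h2 hZ2 hZ2'
    (lift_commute hker hZ2' (by rw [hZ, hZ']; exact hc))
    (fun h => hne1 hinj (by rw [← hZ, h, map_one]))
    (fun h => hne1 hinj' (by rw [← hZ', h, map_one])) hne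
  obtain ⟨π, hπ⟩ : ∃ π : SL(3, F) →* G, ∀ x, π x = π₀ (g⁻¹ * x * g⁻¹⁻¹) :=
    ⟨π₀.comp (MulAut.conj g⁻¹).toMonoidHom, fun x => rfl⟩
  have hπker : π.ker ≤ Subgroup.center SL(3, F) := by
    intro c hcπ
    have h := hker (MonoidHom.mem_ker.2 ((hπ c).symm.trans (MonoidHom.mem_ker.1 hcπ)))
    have h' := Subgroup.mem_center_iff.1 h g
    simp only [inv_inv] at h'
    refine Subgroup.mem_center_iff.2 fun X => ?_
    have h2' := Subgroup.mem_center_iff.1 h (g⁻¹ * X * g)
    simp only [inv_inv] at h2'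
    calc X * c = g * ((g⁻¹ * X * g) * (g⁻¹ * c * g)) * g⁻¹ := by group
      _ = c * X := by rw [h2']; group
  have hπrange : π.range = H := by
    rw [show π = π₀.comp (MulAut.conj g⁻¹).toMonoidHom from MonoidHom.ext hπ,
      MonoidHom.range_comp, MonoidHom.range_eq_top.2 (MulAut.conj g⁻¹).surjective,
      ← MonoidHom.range_eq_map, hrange]
  have e1 : π (up3 negOne2) = φ negOne2 := by
    rw [hπ, ← hZ, ← hg]
    congr 1
    group
  have e2 : π (dn3 negOne2) = φ' negOne2 := by
    rw [hπ, ← hZ', ← hg']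
    congr 1
    group
  refine ⟨π, hπker, e1, e2,
    range_eq_block hπker h2 φ hinj (hπrange ▸ le_sup_left) e1.symm, ?_⟩
  obtain ⟨π', hπ'⟩ : ∃ π' : SL(3, F) →* G, ∀ x, π' x = π (rot3 * x * rot3⁻¹) :=
    ⟨π.comp (MulAut.conj (rot3 : SL(3, F))).toMonoidHom, fun x => rfl⟩
  have hr : ∀ g : SL(2, F), π' (up3 g) = π (dn3 g) := fun g => by
    rw [hπ', rot3_up3, mul_inv_cancel_right]
  have hker' : π'.ker ≤ Subgroup.center SL(3, F) := by
    intro c hcπ
    have h := hπker (MonoidHom.mem_ker.2 ((hπ' c).symm.trans (MonoidHom.mem_ker.1 hcπ)))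
    refine Subgroup.mem_center_iff.2 fun X => ?_
    have h2' := Subgroup.mem_center_iff.1 h (rot3 * X * rot3⁻¹)
    calc X * c = rot3⁻¹ * ((rot3 * X * rot3⁻¹) * (rot3 * c * rot3⁻¹)) * rot3 := by group
      _ = c * X := by rw [h2']; group
  have hrange' : π'.range = H := by
    rw [show π' = π.comp (MulAut.conj rot3).toMonoidHom from MonoidHom.ext hπ',
      MonoidHom.range_comp, MonoidHom.range_eq_top.2 (MulAut.conj rot3).surjective,
      ← MonoidHom.range_eq_map, hπrange]
  rw [range_eq_block hker' h2 φ' hinj' (hrange' ▸ le_sup_right) (by rw [hr, e2]),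
    show π'.comp up3 = π.comp dn3 from MonoidHom.ext hr]

/-- An endomorphism commuting with `ε` extends to the two blocks. -/
theorem exists_ext_upper [Finite F] (h2 : (2 : F) ≠ 0) {θ : SL(2, F) →* SL(2, F)}
    (hinj : Function.Injective θ) {f g : F → F} (hf : ∀ t, θ (upSL t) = upSL (f t))
    (hg : ∀ t, θ (loSL t) = loSL (g t)) :
    ∃ (Δ : SL(3, F) →* SL(3, F)) (θ' : SL(2, F) →* SL(2, F)), Function.Injective Δ ∧
      (∀ x, Δ (up3 x) = up3 (θ x)) ∧ ∀ x, Δ (dn3 x) = dn3 (θ' x) := by
  have hf1 : f 1 ≠ 0 := by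
    intro h
    have : upSL (1 : F) = 1 := hinj (by rw [hf, h, upSL_zero, map_one])
    have e := congrArg (fun x : SL(2, F) => x.1 0 1) this
    simp [upSL_val, val_oneN] at e
  set a : Fˣ := Units.mk0 (f 1) hf1
  let d2 : Fin 2 → Fˣ := ![a⁻¹, 1]
  have eup : ∀ t, (diagConj d2) (upSL t) = upSL (t / f 1) := fun t => by
    refine ext_two ?_ ?_ ?_ ?_ <;>
      simp [diagConj_apply, d2, a, upSL_val, div_eq_inv_mul, hf1]
  have elo : ∀ t, (diagConj d2) (loSL t) = loSL (t * f 1) := fun t => by
    refine ext_two ?_ ?_ ?_ ?_ <;> simp [diagConj_apply, d2, a, loSL_val, mul_comm, hf1]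
  obtain ⟨σ, hσ⟩ := Chev.rank_one_aut (Φ := MonoidHom.id SL(2, F))
    (fun t h => by
      have e := congrArg (fun x : SL(2, F) => x.1 0 1) h
      simpa [upSL_val, val_oneN] using e)
    (fun t c h => by
      have e := congrArg (fun x : SL(2, F) => x.1 1 0) h
      simpa [upSL_val, loSL_val] using e)
    (θ := (diagConj d2).comp θ) ((diagConj_injective d2).comp hinj)
    (f := fun t => f t / f 1) (g := fun t => g t * f 1)
    (fun t => by simp [hf, eup]) (fun t => by simp [hg, elo]) (div_self hf1)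
  let sF : F →+* F := σ.toRingHom
  let d3 : Fin 3 → Fˣ := ![a, 1, 1]
  refine ⟨(diagConj d3).comp (Matrix.SpecialLinearGroup.map (n := Fin 3) sF),
    Matrix.SpecialLinearGroup.map (n := Fin 2) sF, ?_, ?_, ?_⟩
  · refine (diagConj_injective d3).comp fun x y h => ?_
    apply Subtype.ext
    ext i j
    exact σ.injective (congrArg (fun z : SL(3, F) => z.1 i j) h)
  · suffices h : ((diagConj d3).comp (Matrix.SpecialLinearGroup.map (n := Fin 3) sF)).comp up3 =
        up3.comp θ from fun x => DFunLike.congr_fun h x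
    refine hom_ext2 (fun t => ?_) (fun t => ?_)
    · have h1 : f t = f 1 * σ t := by rw [← (hσ t).1]; field_simp
      apply Subtype.ext
      ext i j
      fin_cases i <;> fin_cases j <;>
        simp [diagConj_apply, d3, a, sF, hf, h1, up3_val, upSL_val, hf1]
    · have h1 : g t = σ t * (f 1)⁻¹ := by rw [← (hσ t).2]; field_simp
      apply Subtype.ext
      ext i j
      fin_cases i <;> fin_cases j <;>
        simp [diagConj_apply, d3, a, sF, hg, h1, up3_val, loSL_val, hf1, mul_comm]
  · intro x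
    apply Subtype.ext
    ext i j
    fin_cases i <;> fin_cases j <;> simp [diagConj_apply, d3, a, sF, dn3_val, hf1]

theorem exists_ext [Finite F] (h2 : (2 : F) ≠ 0) {θ : SL(2, F) →* SL(2, F)}
    (hinj : Function.Injective θ) (heps : ∀ x, θ (eps x) = eps (θ x)) :
    ∃ (Δ : SL(3, F) →* SL(3, F)) (θ' : SL(2, F) →* SL(2, F)), Function.Injective Δ ∧
      (∀ x, Δ (up3 x) = up3 (θ x)) ∧ ∀ x, Δ (dn3 x) = dn3 (θ' x) := by
  obtain ⟨p, hpF⟩ := CharP.exists F
  haveI := hpF
  haveI : Fact p.Prime := ⟨CharP.char_is_prime F p⟩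
  -- an element inverted by `ε` of order `p` is a root element
  have hroot : ∀ X : SL(2, F), eps X * X = 1 → X ^ p = 1 →
      (∃ t, X = upSL t) ∨ ∃ t, X = loSL t := by
    intro X hX hp
    have e := congrArg Subtype.val hX
    have e00 := congrFun (congrFun e 0) 0
    have e01 := congrFun (congrFun e 0) 1
    have e10 := congrFun (congrFun e 1) 0
    simp [mul_val, eps_val, val_oneN, Matrix.mul_apply, Fin.sum_univ_two] at e00 e01 e10
    have hd := det_two X
    have had : X.1 0 0 = X.1 1 1 := by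
      by_contra had
      have hb : X.1 0 1 = 0 := (mul_eq_zero.1 (show (X.1 0 0 - X.1 1 1) * X.1 0 1 = 0 by
        linear_combination e01)).resolve_left (sub_ne_zero.2 had)
      have hc : X.1 1 0 = 0 := (mul_eq_zero.1 (show (X.1 0 0 - X.1 1 1) * X.1 1 0 = 0 by
        linear_combination -e10)).resolve_left (sub_ne_zero.2 had)
      have h1 : X.1 0 0 * X.1 0 0 = 1 := by linear_combination e00 + X.1 1 0 * hb
      have h3 : X.1 0 0 * X.1 1 1 = 1 := by linear_combination hd + X.1 1 0 * hb
      exact had (mul_left_cancel₀ (fun h0 => by simp [h0] at h1) (h1.trans h3.symm))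
    set s := X.1 0 0
    have hs : s = 1 := by
      have hch : (X.1 - scalar (Fin 2) s) * (X.1 - scalar (Fin 2) s) =
          scalar (Fin 2) (s * s - 1) := by
        have hd' : X.1 0 1 * X.1 1 0 = s * s - 1 := by linear_combination -hd - s * had
        ext i j
        fin_cases i <;> fin_cases j <;>
          simp [Matrix.mul_apply, Fin.sum_univ_two, Matrix.scalar_apply, ← had,
            show X.1 0 0 = s from rfl, hd', mul_comm (X.1 1 0)]
      have hf : (X.1 - scalar (Fin 2) s) ^ p = scalar (Fin 2) (1 - s ^ p) := by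
        rw [sub_pow_char_of_commute _ (scalar_commute _ (fun x => Commute.all _ _) _).symm,
          ← map_pow, map_sub, map_one]
        congr 1
        exact congrArg Subtype.val hp
      have hsq : scalar (Fin 2) ((s * s - 1) ^ p) = scalar (Fin 2) ((1 - s ^ p) ^ 2) := by
        rw [map_pow, ← hch, map_pow, ← hf, ← pow_two, ← pow_mul, ← pow_mul, mul_comm]
      have hsq' := congrFun (congrFun hsq 0) 0
      simp [Matrix.scalar_apply, sub_pow_char, mul_pow] at hsq'
      have h : (2 : F) * (1 - s ^ p) = 0 := by linear_combination -hsq'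
      have h' : s ^ p = (1 : F) ^ p := by
        rw [one_pow]
        linear_combination -((mul_eq_zero.1 h).resolve_left h2)
      exact frobenius_inj F p h'
    have hbc : X.1 0 1 * X.1 1 0 = 0 := by
      rw [← had] at hd
      rw [hs] at hd
      linear_combination -hd
    rcases mul_eq_zero.1 hbc with h | h
    · exact Or.inr ⟨X.1 1 0, ext_two (by simp [loSL_val]; exact hs)
        (by simp [loSL_val, h]) (by simp [loSL_val]) (by simp [loSL_val, ← had, hs])⟩
    · exact Or.inl ⟨X.1 0 1, ext_two (by simp [upSL_val]; exact hs)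
        (by simp [upSL_val]) (by simp [upSL_val, h]) (by simp [upSL_val, ← had, hs])⟩
  have hup : ∀ (n : ℕ) (t : F), upSL t ^ n = upSL (n • t) := by
    intro n t
    induction n with
    | zero => rw [pow_zero, zero_nsmul, upSL_zero]
    | succ n ih => rw [pow_succ, ih, ← upSL_add, succ_nsmul]
  have hlo : ∀ (n : ℕ) (t : F), loSL t ^ n = loSL (n • t) := by
    intro n t
    induction n with
    | zero => rw [pow_zero, zero_nsmul, loSL_zero]
    | succ n ih => rw [pow_succ, ih, ← loSL_add, succ_nsmul]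
  have hU : ∀ t, (∃ u, θ (upSL t) = upSL u) ∨ ∃ u, θ (upSL t) = loSL u := fun t =>
    hroot _ (by rw [← heps, ← map_mul, eps_up, ← upSL_add, neg_add_cancel, upSL_zero, map_one])
      (by rw [← map_pow, hup, nsmul_eq_mul, CharP.cast_eq_zero, zero_mul, upSL_zero, map_one])
  have hL : ∀ t, (∃ u, θ (loSL t) = upSL u) ∨ ∃ u, θ (loSL t) = loSL u := fun t =>
    hroot _ (by rw [← heps, ← map_mul, eps_lo, ← loSL_add, neg_add_cancel, loSL_zero, map_one])
      (by rw [← map_pow, hlo, nsmul_eq_mul, CharP.cast_eq_zero, zero_mul, loSL_zero, map_one])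
  -- root elements of opposite kinds do not commute
  have hnc : ∀ u v : F, upSL u * loSL v = loSL v * upSL u → u = 0 ∨ v = 0 := by
    intro u v h
    have e := congrArg (fun x : SL(2, F) => x.1 0 0) h
    simpa [mul_val, upSL_val, loSL_val, Matrix.mul_apply, Fin.sum_univ_two] using e
  have hzero : ∀ {t : F}, θ (upSL t) = 1 → t = 0 := fun {t} h => by
    have e := congrArg (fun x : SL(2, F) => x.1 0 1) (hinj (h.trans (map_one θ).symm))
    simpa [upSL_val, val_oneN] using e
  have h11 : ¬ (upSL (1 : F) * loSL 1 = loSL 1 * upSL 1) := fun h => by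
    simpa using hnc 1 1 h
  have hzero' : ∀ {t : F}, θ (loSL t) = 1 → t = 0 := fun {t} h => by
    have e := congrArg (fun x : SL(2, F) => x.1 1 0) (hinj (h.trans (map_one θ).symm))
    simpa [loSL_val, val_oneN] using e
  rcases hU 1 with ⟨u, hu⟩ | ⟨u, hu⟩
  · have hu0 : u ≠ 0 := fun h => one_ne_zero (hzero (hu.trans (by rw [h, upSL_zero])))
    have hU' : ∀ t, ∃ w, θ (upSL t) = upSL w := fun t => by
      rcases hU t with h | ⟨w, hw⟩
      · exact h
      · have h := congrArg θ (show upSL (1 : F) * upSL t = upSL t * upSL 1 by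
          rw [← upSL_add, ← upSL_add, add_comm])
        rw [map_mul, map_mul, hu, hw] at h
        exact ⟨0, by rw [hw, (hnc u w h).resolve_left hu0, loSL_zero, upSL_zero]⟩
    obtain ⟨v, hv⟩ : ∃ v, θ (loSL 1) = loSL v := (hL 1).resolve_left fun ⟨v, hv⟩ =>
      h11 (hinj (by rw [map_mul, map_mul, hu, hv, ← upSL_add, ← upSL_add, add_comm]))
    have hv0 : v ≠ 0 := fun h => one_ne_zero (hzero' (hv.trans (by rw [h, loSL_zero])))
    have hL' : ∀ t, ∃ w, θ (loSL t) = loSL w := fun t => by
      rcases hL t with ⟨w, hw⟩ | h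
      · have h := congrArg θ (show loSL (1 : F) * loSL t = loSL t * loSL 1 by
          rw [← loSL_add, ← loSL_add, add_comm])
        rw [map_mul, map_mul, hv, hw] at h
        exact ⟨0, by rw [hw, (hnc w v h.symm).resolve_right hv0, loSL_zero, upSL_zero]⟩
      · exact h
    choose f hf using hU'
    choose g hg using hL'
    exact exists_ext_upper h2 hinj hf hg
  · have hu0 : u ≠ 0 := fun h => one_ne_zero (hzero (hu.trans (by rw [h, loSL_zero])))
    have hU' : ∀ t, ∃ w, θ (upSL t) = loSL w := fun t => by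
      rcases hU t with ⟨w, hw⟩ | h
      · have h := congrArg θ (show upSL (1 : F) * upSL t = upSL t * upSL 1 by
          rw [← upSL_add, ← upSL_add, add_comm])
        rw [map_mul, map_mul, hu, hw] at h
        exact ⟨0, by rw [hw, (hnc w u h.symm).resolve_right hu0, loSL_zero, upSL_zero]⟩
      · exact h
    obtain ⟨v, hv⟩ : ∃ v, θ (loSL 1) = upSL v := (hL 1).resolve_right fun ⟨v, hv⟩ =>
      h11 (hinj (by rw [map_mul, map_mul, hu, hv, ← loSL_add, ← loSL_add, add_comm]))
    have hv0 : v ≠ 0 := fun h => one_ne_zero (hzero' (hv.trans (by rw [h, upSL_zero])))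
    have hL' : ∀ t, ∃ w, θ (loSL t) = upSL w := fun t => by
      rcases hL t with h | ⟨w, hw⟩
      · exact h
      · have h := congrArg θ (show loSL (1 : F) * loSL t = loSL t * loSL 1 by
          rw [← loSL_add, ← loSL_add, add_comm])
        rw [map_mul, map_mul, hv, hw] at h
        exact ⟨0, by rw [hw, (hnc v w h).resolve_left hv0, loSL_zero, upSL_zero]⟩
    choose f hf using hU'
    choose g hg using hL'
    obtain ⟨Δ, θ', hΔ, hΔu, hΔd⟩ := exists_ext_upper h2 (θ := tauN.comp θ)
      (tauN_injective.comp hinj) (f := fun t => -f t) (g := fun t => -g t)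
      (fun t => by simp [hf, tau_lo]) (fun t => by simp [hg, tau_up])
    refine ⟨tauN.comp Δ, tauN.comp θ', tauN_injective.comp hΔ, fun x => ?_, fun x => ?_⟩
    · show tauN (Δ (up3 x)) = _
      rw [hΔu, tau_up3]
      exact congrArg up3 (tauN_tauN _)
    · show tauN (Δ (dn3 x)) = _
      rw [hΔd, tau_dn3]
      rfl

/-- An identification of the first subgroup extends to the pair. -/
theorem exists_edge [Finite F] (h2 : (2 : F) ≠ 0) {G : Type*} [Group G] (φ φ' : SL(2, F) →* G)
    (hinj : Function.Injective φ) (hinj' : Function.Injective φ')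
    (hc : φ negOne2 * φ' negOne2 = φ' negOne2 * φ negOne2)
    (he : Nonempty (↥(φ.range ⊔ φ'.range) ≃* SL(3, F)) ∨
      Nonempty (↥(φ.range ⊔ φ'.range) ≃* Matrix.ProjectiveSpecialLinearGroup (Fin 3) F))
    (heps : ∀ x, φ' negOne2 * φ x * φ' negOne2 = φ (eps x)) :
    ∃ ψ : SL(3, F) →* G, (∀ x, ψ (up3 x) = φ x) ∧ Function.Injective (ψ.comp dn3) ∧
      (ψ.comp dn3).range = φ'.range := by
  classical
  obtain ⟨π, hker, e1, e2, hr, hr'⟩ := exists_pair h2 φ φ' hinj hinj' hc he
  set α := π.comp up3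
  have hα : Function.Injective α := up3_comp_injective hker
  have hmem : ∀ x, ∃ y, α y = φ x := fun x => by
    have h : φ x ∈ α.range := hr ▸ ⟨x, rfl⟩
    exact h
  choose θf hθf using hmem
  let θ : SL(2, F) →* SL(2, F) :=
    { toFun := θf
      map_one' := hα (by rw [hθf, map_one, map_one])
      map_mul' := fun x y => hα (by rw [hθf, map_mul, map_mul, hθf, hθf]) }
  have hθ : ∀ x, α (θ x) = φ x := hθf
  obtain ⟨Δ, θ', hΔ, hΔu, hΔd⟩ := exists_ext h2 (θ := θ)
    (fun x y h => hinj (by rw [← hθ x, h, hθ y])) (fun x => hα (by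
      rw [hθ, ← heps, ← e2, ← hθ x]
      show π (dn3 negOne2) * π (up3 (θ x)) * π (dn3 negOne2) = π (up3 (eps (θ x)))
      rw [← map_mul, ← map_mul, twist_up3]))
  have hθ'inj : Function.Injective θ' := fun x y h => by
    have h' : dn3 x = dn3 y := hΔ (by rw [hΔd, hΔd, h])
    refine ext_two ?_ ?_ ?_ ?_
    · simpa [dn3_val] using congrArg (fun z : SL(3, F) => z.1 1 1) h'
    · simpa [dn3_val] using congrArg (fun z : SL(3, F) => z.1 1 2) h'
    · simpa [dn3_val] using congrArg (fun z : SL(3, F) => z.1 2 1) h'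
    · simpa [dn3_val] using congrArg (fun z : SL(3, F) => z.1 2 2) h'
  have hcomp : (π.comp Δ).comp dn3 = (π.comp dn3).comp θ' :=
    MonoidHom.ext fun x => congrArg π (hΔd x)
  refine ⟨π.comp Δ, fun x => by rw [← hθ x]; exact congrArg π (hΔu x), ?_, ?_⟩
  · rw [hcomp]
    exact (dn3_comp_injective hker).comp hθ'inj
  · rw [hcomp, MonoidHom.range_comp,
      MonoidHom.range_eq_top.2 (Finite.injective_iff_surjective.1 hθ'inj),
      ← MonoidHom.range_eq_map, hr']

end Cfsg.Agent.Lie.CurtisTitsA
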