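import Cfsg.Agent.Lib.Lie.CurtisTitsBlocks
import Cfsg.Agent.Lib.Lie.SpnPresBase
import Mathlib.LinearAlgebra.Matrix.Permutation

/-! Skew symmetric matrices under congruence, and monomial elements of `SL_m`. -/

set_option autoImplicit false
set_option linter.unusedSectionVars false

namespace Cfsg.Agent.Lie.CurtisTitsA

open Matrix Cfsg.Agent.Lie.Chev

variable {F : Type*} [Field F] {m : ℕ}

/-- The skew matrix of two vectors. -/
def wedge (v w : Fin m → F) : Matrix (Fin m) (Fin m) F := vecMulVec v w - vecMulVec w v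

/-- The skew matrix of two basis vectors. -/
def wB (i j : Fin m) : Matrix (Fin m) (Fin m) F := wedge (Pi.single i 1) (Pi.single j 1)

/-- Congruence. -/
def cg (g : Matrix.SpecialLinearGroup (Fin m) F) (S : Matrix (Fin m) (Fin m) F) :
    Matrix (Fin m) (Fin m) F := g.1 * S * g.1ᵀ

theorem cg_mul (g h : Matrix.SpecialLinearGroup (Fin m) F) (S : Matrix (Fin m) (Fin m) F) :
    cg (g * h) S = cg g (cg h S) := by
  rw [cg, cg, cg, val_mulN, transpose_mul]
  simp only [Matrix.mul_assoc]

theorem cg_one (S : Matrix (Fin m) (Fin m) F) : cg 1 S = S := by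
  rw [cg, val_oneN, one_mul, transpose_one, mul_one]

theorem cg_inv_cg (g : Matrix.SpecialLinearGroup (Fin m) F) (S : Matrix (Fin m) (Fin m) F) :
    cg g⁻¹ (cg g S) = S := by rw [← cg_mul, inv_mul_cancel, cg_one]

theorem cg_add (g : Matrix.SpecialLinearGroup (Fin m) F) (S T : Matrix (Fin m) (Fin m) F) :
    cg g (S + T) = cg g S + cg g T := by simp [cg, Matrix.mul_add, Matrix.add_mul]

theorem cg_smul (g : Matrix.SpecialLinearGroup (Fin m) F) (t : F) (S : Matrix (Fin m) (Fin m) F) :
    cg g (t • S) = t • cg g S := by simp [cg]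

theorem cg_zero (g : Matrix.SpecialLinearGroup (Fin m) F) :
    cg g (0 : Matrix (Fin m) (Fin m) F) = 0 := by simp [cg]

theorem cg_wedge (g : Matrix.SpecialLinearGroup (Fin m) F) (v w : Fin m → F) :
    cg g (wedge v w) = wedge (g.1 *ᵥ v) (g.1 *ᵥ w) := by
  simp [cg, wedge, Matrix.mul_sub, Matrix.sub_mul, mul_vecMulVec, vecMulVec_mul, vecMul_transpose]

theorem cg_wB (g : Matrix.SpecialLinearGroup (Fin m) F) (i j : Fin m) :
    cg g (wB i j) = wedge (g.1 *ᵥ Pi.single i 1) (g.1 *ᵥ Pi.single j 1) := cg_wedge g _ _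

theorem wedge_self (v : Fin m → F) : wedge v v = 0 := sub_self _

theorem wedge_swap (v w : Fin m → F) : wedge w v = -wedge v w := by simp [wedge]

theorem wB_swap (i j : Fin m) : (wB j i : Matrix (Fin m) (Fin m) F) = -wB i j := wedge_swap _ _

theorem wedge_add_left (v v' w : Fin m → F) : wedge (v + v') w = wedge v w + wedge v' w := by
  simp only [wedge, add_vecMulVec, vecMulVec_add]; abel

theorem wedge_add_right (v w w' : Fin m → F) : wedge v (w + w') = wedge v w + wedge v w' := by
  simp only [wedge, add_vecMulVec, vecMulVec_add]; abel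

theorem wedge_smul_left (t : F) (v w : Fin m → F) : wedge (t • v) w = t • wedge v w := by
  simp only [wedge, smul_vecMulVec, vecMulVec_smul, smul_sub]

theorem wedge_smul_right (t : F) (v w : Fin m → F) : wedge v (t • w) = t • wedge v w := by
  simp only [wedge, smul_vecMulVec, vecMulVec_smul, smul_sub]

theorem wB_apply (i j k l : Fin m) : (wB i j : Matrix (Fin m) (Fin m) F) k l =
    (if k = i ∧ l = j then 1 else 0) - (if k = j ∧ l = i then 1 else 0) := by
  simp only [wB, wedge, Matrix.sub_apply, vecMulVec_apply, Pi.single_apply]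
  split_ifs <;> simp_all

theorem wB_ne_zero {i j : Fin m} (h : i ≠ j) : (wB i j : Matrix (Fin m) (Fin m) F) ≠ 0 := by
  intro e
  have := congrFun (congrFun e i) j
  simp [wB_apply, h] at this

/-- A skew symmetric matrix. -/
def IsSkew (S : Matrix (Fin m) (Fin m) F) : Prop := Sᵀ = -S ∧ ∀ i, S i i = 0

theorem isSkew_apply {S : Matrix (Fin m) (Fin m) F} (h : IsSkew S) (i j : Fin m) : S j i = -S i j :=
  congrFun (congrFun h.1 i) j

theorem skew_zero : IsSkew (0 : Matrix (Fin m) (Fin m) F) := ⟨by simp, fun _ => rfl⟩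

theorem skew_add {S T : Matrix (Fin m) (Fin m) F} (hS : IsSkew S) (hT : IsSkew T) : IsSkew (S + T) :=
  ⟨by rw [transpose_add, hS.1, hT.1, neg_add], fun i => by simp [hS.2 i, hT.2 i]⟩

theorem skew_neg {S : Matrix (Fin m) (Fin m) F} (hS : IsSkew S) : IsSkew (-S) :=
  ⟨by rw [transpose_neg, hS.1], fun i => by simp [hS.2 i]⟩

theorem skew_smul {S : Matrix (Fin m) (Fin m) F} (t : F) (hS : IsSkew S) : IsSkew (t • S) :=
  ⟨by rw [transpose_smul, hS.1, smul_neg], fun i => by simp [hS.2 i]⟩

theorem skew_wedge (v w : Fin m → F) : IsSkew (wedge v w) :=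
  ⟨by simp [wedge, transpose_vecMulVec], fun i => by simp [wedge, vecMulVec_apply, mul_comm]⟩

theorem skew_cg (g : Matrix.SpecialLinearGroup (Fin m) F) {S : Matrix (Fin m) (Fin m) F}
    (hS : IsSkew S) : IsSkew (cg g S) := by
  refine ⟨?_, fun i => ?_⟩
  · rw [cg, transpose_mul, transpose_mul, transpose_transpose, hS.1]
    simp [Matrix.mul_assoc]
  · simp only [cg, Matrix.mul_apply, transpose_apply, Finset.sum_mul]
    have key : ∀ (f : Fin m → Fin m → F), (∀ a b, f b a = -f a b) → (∀ a, f a a = 0) →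
        ∑ a, ∑ b, f a b = 0 := by
      intro f h1 h2
      rw [← Finset.sum_product']
      refine Finset.sum_involution (fun x _ => (x.2, x.1)) (fun x _ => ?_) (fun x _ hx e => hx ?_)
        (fun x _ => Finset.mem_univ _) (fun x _ => rfl)
      · rw [h1 x.1 x.2, add_neg_cancel]
      · rw [← congrArg Prod.fst e]; exact h2 _
    refine key _ (fun a b => ?_) (fun a => by rw [hS.2 a]; ring)
    rw [isSkew_apply hS b a]; ring

/-- A skew matrix is the sum of its entries. -/
theorem skew_sum {S : Matrix (Fin m) (Fin m) F} (hS : IsSkew S) :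
    S = ∑ x ∈ Finset.univ.filter (fun x : Fin m × Fin m => x.1 < x.2), S x.1 x.2 • wB x.1 x.2 := by
  ext k l
  rw [Matrix.sum_apply]
  simp only [Matrix.smul_apply, wB_apply, smul_eq_mul]
  rcases lt_trichotomy k l with h | h | h
  · rw [Finset.sum_eq_single (k, l)]
    · simp [h.ne]
    · rintro ⟨x, y⟩ hx hne
      simp only [Finset.mem_filter, Finset.mem_univ, true_and] at hx
      have h1 : ¬(k = x ∧ l = y) := fun e => hne (by rw [e.1, e.2])
      have h2 : ¬(k = y ∧ l = x) := fun e => absurd (e.1 ▸ e.2 ▸ hx) (not_lt.2 h.le)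
      simp [h1, h2]
    · simp [h]
  · subst h
    rw [hS.2 k, Finset.sum_eq_zero]
    rintro ⟨x, y⟩ hx
    simp only [Finset.mem_filter, Finset.mem_univ, true_and] at hx
    have h1 : ¬(k = x ∧ k = y) := fun e => hx.ne (e.1.symm.trans e.2)
    have h2 : ¬(k = y ∧ k = x) := fun e => hx.ne (e.2.symm.trans e.1)
    simp [h1, h2]
  · rw [Finset.sum_eq_single (l, k)]
    · simp [h.ne, h.ne', isSkew_apply hS l k]
    · rintro ⟨x, y⟩ hx hne
      simp only [Finset.mem_filter, Finset.mem_univ, true_and] at hx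
      have h1 : ¬(k = y ∧ l = x) := fun e => hne (by rw [e.1, e.2])
      have h2 : ¬(k = x ∧ l = y) := fun e => absurd (e.1 ▸ e.2 ▸ hx) (not_lt.2 h.le)
      simp [h1, h2]
    · simp [h]

/-- The matrix of a monomial element. -/
def monoM (σ : Equiv.Perm (Fin m)) (k₀ : Fin m) : Matrix (Fin m) (Fin m) F :=
  of fun i k => if i = σ k then (if k = k₀ then ((Equiv.Perm.sign σ : ℤ) : F) else 1) else 0

theorem monoM_det (σ : Equiv.Perm (Fin m)) (k₀ : Fin m) : (monoM σ k₀ : Matrix _ _ F).det = 1 := by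
  have e : (monoM σ k₀ : Matrix _ _ F) = (σ⁻¹).permMatrix F *
      diagonal fun k => if k = k₀ then ((Equiv.Perm.sign σ : ℤ) : F) else 1 := by
    ext i k
    rw [Matrix.mul_diagonal]
    by_cases h : i = σ k
    · simp [monoM, h, Equiv.Perm.permMatrix, PEquiv.toMatrix_apply]
    · have h' : σ.symm i ≠ k := fun e => h (by rw [← e]; simp)
      simp [monoM, h, h', Equiv.Perm.permMatrix, PEquiv.toMatrix_apply]
  rw [e, det_mul, det_permutation, det_diagonal, Finset.prod_ite_eq']
  simp only [Finset.mem_univ, if_true, Equiv.Perm.sign_inv]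
  rw [← Int.cast_mul, ← Units.val_mul, Int.units_mul_self]
  simp

/-- A monomial element of `SL_m`. -/
def monoSL (σ : Equiv.Perm (Fin m)) (k₀ : Fin m) : Matrix.SpecialLinearGroup (Fin m) F :=
  ⟨monoM σ k₀, monoM_det σ k₀⟩

theorem monoSL_apply (σ : Equiv.Perm (Fin m)) {k₀ k : Fin m} (h : k ≠ k₀) :
    (monoSL σ k₀ : Matrix.SpecialLinearGroup (Fin m) F).1 *ᵥ Pi.single k 1 = Pi.single (σ k) 1 := by
  funext i
  simp [monoSL, monoM, h, Pi.single_apply]

theorem monoSL_tau (σ : Equiv.Perm (Fin m)) (k₀ : Fin m) :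
    tauN (monoSL σ k₀ : Matrix.SpecialLinearGroup (Fin m) F) = monoSL σ k₀ := by
  have e : ((monoSL σ k₀ : Matrix.SpecialLinearGroup (Fin m) F)⁻¹).1 = (monoM σ k₀)ᵀ := by
    have h1 : (monoM σ k₀ : Matrix _ _ F)ᵀ * monoM σ k₀ = 1 := by
      ext k l
      rw [Matrix.mul_apply, Finset.sum_eq_single (σ k) (fun i _ hi => by simp [monoM, hi]) (by simp)]
      by_cases hkl : k = l
      · subst hkl
        simp only [transpose_apply, monoM, of_apply, if_true, one_apply_eq]
        split_ifs
        · rw [← Int.cast_mul, ← Units.val_mul, Int.units_mul_self]; simp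
        · simp
      · simp [monoM, hkl, Matrix.one_apply]
    have h2 := congrArg (· * ((monoSL σ k₀ : Matrix.SpecialLinearGroup (Fin m) F)⁻¹).1) h1
    simp only [one_mul, Matrix.mul_assoc] at h2
    rw [← h2, show (monoM σ k₀ : Matrix _ _ F) =
      (monoSL σ k₀ : Matrix.SpecialLinearGroup (Fin m) F).1 from rfl, ← val_mulN, mul_inv_cancel,
      val_oneN, mul_one]
  apply Subtype.ext
  rw [tauN_val, e, transpose_transpose]
  rfl

/-- Moving distinct basis vectors, keeping one index for the sign. -/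
theorem exists_mono {r : ℕ} (f g : Fin r → Fin m) (hf : Function.Injective f)
    (hg : Function.Injective g) (hr : r < m) :
    ∃ x : Matrix.SpecialLinearGroup (Fin m) F, tauN x = x ∧
      ∀ i, x.1 *ᵥ Pi.single (f i) 1 = Pi.single (g i) 1 := by
  classical
  obtain ⟨k₀, hk₀⟩ : ∃ k₀, ∀ i, f i ≠ k₀ := by
    by_contra h
    push Not at h
    have := Fintype.card_le_of_surjective f h
    simp at this
    omega
  set e := (Equiv.ofInjective f hf).symm.trans (Equiv.ofInjective g hg)
  refine ⟨monoSL e.extendSubtype k₀, monoSL_tau _ _, fun i => ?_⟩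
  rw [monoSL_apply _ (hk₀ i), Equiv.extendSubtype_apply_of_mem _ _ ⟨i, rfl⟩]
  congr 1
  simp [e, Equiv.ofInjective_symm_apply hf i]

end Cfsg.Agent.Lie.CurtisTitsA
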