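import Cfsg.Agent.Lib.Lie.Chev.Order
import Mathlib.RingTheory.Polynomial.Cyclotomic.Roots
import Mathlib.RingTheory.Polynomial.Cyclotomic.Expand
import Mathlib.LinearAlgebra.Matrix.Charpoly.Minpoly
import Mathlib.LinearAlgebra.Matrix.ToLinearEquiv
import Mathlib.LinearAlgebra.FreeModule.Finite.CardQuotient
import Mathlib.GroupTheory.SpecificGroups.Cyclic
import Mathlib.GroupTheory.Perm.Cycle.Type
import Mathlib.Algebra.Polynomial.Identities

/-! Integer matrices of finite order whose characteristic polynomial is cyclotomic: the finite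
groups they normalise and the kernels of `q - A`. -/

set_option autoImplicit false

namespace Cfsg.Agent.Lie.CycMatrix

open Polynomial Matrix

variable {ι : Type*} [Fintype ι] [DecidableEq ι]

theorem aeval_mulVec {R : Type*} [CommRing R] (A : Matrix ι ι R) (v : ι → R) (c : R)
    (hv : A *ᵥ v = c • v) (p : R[X]) : (aeval A p) *ᵥ v = p.eval c • v := by
  induction p using Polynomial.induction_on' with
  | add a b ha hb => rw [map_add, Matrix.add_mulVec, ha, hb, eval_add, add_smul]
  | monomial k a =>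
    have hk : (A ^ k) *ᵥ v = c ^ k • v := by
      induction k with
      | zero => simp
      | succ k ih => rw [pow_succ', ← Matrix.mulVec_mulVec, ih, Matrix.mulVec_smul, hv, smul_smul,
          pow_succ]
    rw [aeval_monomial, eval_monomial, ← Algebra.smul_def, Matrix.smul_mulVec, hk, smul_smul]

open scoped Classical in
theorem minpoly_dvd_prod_cyclotomic {k : ℕ} (hk : 0 < k) {A : Matrix ι ι ℚ} (hA : A ^ k = 1) :
    minpoly ℚ A ∣ ∏ d ∈ k.divisors.filter (fun d => cyclotomic d ℚ ∣ minpoly ℚ A),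
      cyclotomic d ℚ := by
  have h : minpoly ℚ A ∣ X ^ k - 1 := minpoly.dvd ℚ A (by simp [hA])
  rw [← prod_cyclotomic_eq_X_pow_sub_one hk,
    ← Finset.prod_filter_mul_prod_filter_not k.divisors
      (fun d => cyclotomic d ℚ ∣ minpoly ℚ A)] at h
  refine IsCoprime.dvd_of_dvd_mul_right ?_ h
  refine IsCoprime.prod_right fun d hd => ?_
  rw [Finset.mem_filter] at hd
  exact ((cyclotomic.irreducible_rat (Nat.pos_of_mem_divisors hd.1)).coprime_iff_not_dvd.2 hd.2).symm

theorem natDegree_dvd_minpoly_le {A : Matrix ι ι ℚ} {p : ℚ[X]} (hp : p ∣ minpoly ℚ A) :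
    p.natDegree ≤ Fintype.card ι := by
  rw [← Matrix.charpoly_natDegree_eq_dim A]
  exact natDegree_le_of_dvd (hp.trans (Matrix.minpoly_dvd_charpoly A))
    (Matrix.charpoly_monic A).ne_zero

/-- An integer matrix of finite order with an eigenvalue of order `n` modulo a large prime has
characteristic polynomial `Φₙ` when its size is `φ(n)`. -/
theorem charpoly_eq_cyclotomic {n r : ℕ} [Fact r.Prime] (hn : n.totient = Fintype.card ι)
    (hrn : ¬ r ∣ n) (hr2 : 2 < r) {q : ℤ}
    (hq : (r : ℤ) ∣ (cyclotomic n ℤ).eval q) {A : Matrix ι ι ℤ} {k : ℕ} (hk : 0 < k)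
    (hA : A ^ k = 1) {e : ι → ZMod r} (he : e ≠ 0)
    (hAe : (A.map (Int.castRingHom (ZMod r))) *ᵥ e = (q : ZMod r) • e) :
    A.charpoly = cyclotomic n ℤ := by
  classical
  set B : Matrix ι ι ℚ := A.map (Int.castRingHom ℚ) with hB
  have hBk : B ^ k = 1 := by
    rw [hB, ← RingHom.mapMatrix_apply, ← map_pow, hA, map_one]
  set S := k.divisors.filter (fun d => cyclotomic d ℚ ∣ minpoly ℚ B) with hS
  have hdvd := minpoly_dvd_prod_cyclotomic hk hBk
  rw [← hS] at hdvd
  -- the product annihilates A over the integers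
  have hprod : aeval A (∏ d ∈ S, cyclotomic d ℤ) = 0 := by
    have h0 : aeval B (∏ d ∈ S, cyclotomic d ℚ) = 0 := by
      obtain ⟨c, hc⟩ := hdvd
      rw [hc, map_mul, minpoly.aeval, zero_mul]
    have hinj : Function.Injective ((Int.castRingHom ℚ).mapMatrix (m := ι)) := fun M N e =>
      Matrix.ext fun i j => Int.cast_injective (congrFun (congrFun e i) j)
    refine hinj ?_
    rw [map_zero, ← h0, aeval_def, aeval_def, Polynomial.hom_eval₂,
      show ∏ d ∈ S, cyclotomic d ℚ = (∏ d ∈ S, cyclotomic d ℤ).map (Int.castRingHom ℚ) by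
        rw [Polynomial.map_prod]; simp [map_cyclotomic],
      eval₂_map]
    congr 1
    exact RingHom.ext_int _ _
  -- reduce modulo r
  have hr0 : ((∏ d ∈ S, cyclotomic d (ZMod r)).eval (q : ZMod r)) = 0 := by
    set C : Matrix ι ι (ZMod r) := A.map (Int.castRingHom (ZMod r)) with hC
    have h0 : aeval C (∏ d ∈ S, cyclotomic d (ZMod r)) = 0 := by
      have h := congrArg (Int.castRingHom (ZMod r)).mapMatrix hprod
      rw [map_zero, aeval_def, Polynomial.hom_eval₂] at h
      rw [← h, aeval_def,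
        show ∏ d ∈ S, cyclotomic d (ZMod r) =
          (∏ d ∈ S, cyclotomic d ℤ).map (Int.castRingHom (ZMod r)) by
          rw [Polynomial.map_prod]; simp [map_cyclotomic],
        eval₂_map]
      congr 1
      exact RingHom.ext_int _ _
    have h1 := aeval_mulVec C e _ hAe (∏ d ∈ S, cyclotomic d (ZMod r))
    rw [h0, Matrix.zero_mulVec] at h1
    exact (smul_eq_zero.1 h1.symm).resolve_right he
  rw [eval_prod, Finset.prod_eq_zero_iff] at hr0
  obtain ⟨d, hdS, hd⟩ := hr0
  rw [hS, Finset.mem_filter] at hdS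
  have hdeg := natDegree_dvd_minpoly_le hdS.2
  rw [natDegree_cyclotomic] at hdeg
  have hd0 : d ≠ 0 := (Nat.pos_of_mem_divisors hdS.1).ne'
  obtain ⟨i, d', hd', rfl⟩ := Nat.exists_eq_pow_mul_and_not_dvd hd0 r (Fact.out : r.Prime).ne_one
  haveI : NeZero (d' : ZMod r) := ⟨fun h => hd' ((ZMod.natCast_eq_zero_iff _ _).1 h)⟩
  haveI : NeZero (n : ZMod r) := ⟨fun h => hrn ((ZMod.natCast_eq_zero_iff _ _).1 h)⟩
  have hprim : IsPrimitiveRoot (q : ZMod r) d' :=
    (isRoot_cyclotomic_prime_pow_mul_iff_of_charP (p := r) (k := i)).1 hd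
  have hprim' : IsPrimitiveRoot (q : ZMod r) n := by
    rw [← isRoot_cyclotomic_iff, IsRoot.def, ← map_cyclotomic n (Int.castRingHom (ZMod r))]
    rw [show (q : ZMod r) = Int.castRingHom (ZMod r) q from rfl, eval_map_apply]
    exact (ZMod.intCast_zmod_eq_zero_iff_dvd _ r).2 hq
  obtain rfl := hprim.unique hprim'
  have hi : i = 0 := by
    by_contra hi
    rw [Nat.totient_mul (Nat.Coprime.pow_left i ((Fact.out : r.Prime).coprime_iff_not_dvd.2 hrn)),
      Nat.totient_prime_pow (Fact.out : r.Prime) (Nat.pos_of_ne_zero hi), hn] at hdeg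
    have h2 : 1 * 2 ≤ r ^ (i - 1) * (r - 1) :=
      Nat.mul_le_mul (Nat.one_le_pow _ _ (Fact.out : r.Prime).pos) (by omega)
    have hn0 : 0 < d' := Nat.pos_of_ne_zero fun h => hrn (h ▸ dvd_zero r)
    have : 0 < Fintype.card ι := hn ▸ Nat.totient_pos.2 hn0
    have h3 := Nat.mul_le_mul_right (Fintype.card ι) h2
    omega
  subst hi
  rw [pow_zero, one_mul] at hdS
  have e : B.charpoly = cyclotomic d' ℚ := by
    refine (eq_of_monic_of_dvd_of_natDegree_le (cyclotomic.monic _ _) (Matrix.charpoly_monic _)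
      (hdS.2.trans (Matrix.minpoly_dvd_charpoly B)) ?_)
    rw [Matrix.charpoly_natDegree_eq_dim, natDegree_cyclotomic, hn]
  refine Polynomial.map_injective (Int.castRingHom ℚ) Int.cast_injective ?_
  rw [← Matrix.charpoly_map, map_cyclotomic]
  exact e

/-- Over `ℚ`, a matrix with irreducible characteristic polynomial commutes only with zero and
invertible matrices. -/
theorem det_ne_zero_of_commute {A : Matrix ι ι ℚ} (hA : Irreducible A.charpoly)
    {P : Matrix ι ι ℚ} (hPA : Commute P A) (hP : P ≠ 0) : P.det ≠ 0 := by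
  intro hdet
  obtain ⟨u, hu, hPu⟩ := Matrix.exists_mulVec_eq_zero_iff.2 hdet
  have hdeg : A.charpoly.natDegree = Fintype.card ι := Matrix.charpoly_natDegree_eq_dim A
  let φ : Polynomial.degreeLT ℚ (Fintype.card ι) →ₗ[ℚ] (ι → ℚ) :=
    { toFun := fun p => (aeval A (p : ℚ[X])) *ᵥ u
      map_add' := fun p p' => by simp [Matrix.add_mulVec]
      map_smul' := fun c p => by simp [Matrix.smul_mulVec] }
  have hinj : Function.Injective φ := by
    refine (injective_iff_map_eq_zero φ).2 fun p hp => ?_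
    by_contra hp0
    have hp0' : (p : ℚ[X]) ≠ 0 := fun e => hp0 (Subtype.ext e)
    have hlt : (p : ℚ[X]).natDegree < Fintype.card ι :=
      (natDegree_lt_iff_degree_lt hp0').2 (Polynomial.mem_degreeLT.1 p.2)
    obtain ⟨a, b, hab⟩ := (hA.coprime_iff_not_dvd (n := (p : ℚ[X]))).2 fun h => by
      have := natDegree_le_of_dvd h hp0'
      omega
    have h := congrArg (fun f : ℚ[X] => (aeval A f) *ᵥ u) hab
    simp only [map_add, map_mul, Matrix.aeval_self_charpoly, mul_zero, zero_add, map_one,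
      Matrix.one_mulVec, ← Matrix.mulVec_mulVec] at h
    rw [show (aeval A (p : ℚ[X])) *ᵥ u = 0 from hp, Matrix.mulVec_zero] at h
    exact hu h.symm
  have hsurj : Function.Surjective φ := by
    haveI : Module.Finite ℚ (Polynomial.degreeLT ℚ (Fintype.card ι)) :=
      Module.Finite.equiv (Polynomial.degreeLTEquiv ℚ _).symm
    refine (LinearMap.injective_iff_surjective_of_finrank_eq_finrank ?_).1 hinj
    rw [(Polynomial.degreeLTEquiv ℚ _).finrank_eq, Module.finrank_fin_fun, Module.finrank_pi]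
  refine hP (Matrix.ext fun i j => ?_)
  obtain ⟨p, hp⟩ := hsurj (Pi.single j 1)
  have h0 : P *ᵥ (φ p) = 0 := by
    show P *ᵥ ((aeval A (p : ℚ[X])) *ᵥ u) = 0
    have hcomm : P * aeval A (p : ℚ[X]) = aeval A (p : ℚ[X]) * P := by
      induction (p : ℚ[X]) using Polynomial.induction_on' with
      | add a b ha hb => rw [map_add, mul_add, add_mul, ha, hb]
      | monomial k a =>
        rw [aeval_monomial, ← mul_assoc, ← Algebra.commutes, mul_assoc, (hPA.pow_right k).eq,
          mul_assoc]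
    rw [Matrix.mulVec_mulVec, hcomm, ← Matrix.mulVec_mulVec, hPu, Matrix.mulVec_zero]
  rw [hp] at h0
  simpa [Matrix.mulVec_single] using congrFun h0 i

/-- An integer matrix of prime order is small or trivial. -/
theorem eq_one_of_pow_prime {r : ℕ} [Fact r.Prime] (hr : Fintype.card ι + 1 < r)
    {M : Matrix ι ι ℤ} (hM : M ^ r = 1) : M = 1 := by
  classical
  set B : Matrix ι ι ℚ := M.map (Int.castRingHom ℚ) with hB
  have hBr : B ^ r = 1 := by rw [hB, ← RingHom.mapMatrix_apply, ← map_pow, hM, map_one]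
  have hr' : r.Prime := Fact.out
  have h := minpoly_dvd_prod_cyclotomic hr'.pos hBr
  have hS : r.divisors.filter (fun d => cyclotomic d ℚ ∣ minpoly ℚ B) ⊆ {1} := by
    intro d hd
    rw [Finset.mem_filter] at hd
    rcases (Nat.dvd_prime hr').1 (Nat.dvd_of_mem_divisors hd.1) with e | e
    · simp [e]
    · exfalso
      have h2 := natDegree_dvd_minpoly_le hd.2
      rw [e, natDegree_cyclotomic, Nat.totient_prime hr'] at h2
      omega
  have h1 : minpoly ℚ B ∣ X - 1 := by
    refine h.trans ((Finset.prod_dvd_prod_of_subset _ _ _ hS).trans ?_)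
    simp [cyclotomic_one]
  have h2 : aeval B (X - 1 : ℚ[X]) = 0 := by
    obtain ⟨c, hc⟩ := h1
    rw [hc, map_mul, minpoly.aeval, zero_mul]
  rw [map_sub, aeval_X, map_one, sub_eq_zero] at h2
  exact Matrix.ext fun i j => Int.cast_injective (α := ℚ) (by
    have := congrFun (congrFun h2 i) j
    simp only [hB, Matrix.map_apply, Int.coe_castRingHom] at this
    rw [this, Matrix.one_apply, Matrix.one_apply]
    split_ifs <;> simp)

/-- In a finite group of integer matrices, an element with irreducible characteristic polynomial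
and an eigenvector modulo a large prime has regular eigenvector. -/
theorem stab_trivial {r : ℕ} [Fact r.Prime] (hr : Fintype.card ι + 1 < r)
    {W : Subgroup (Matrix ι ι ℤ)ˣ} [Finite W] {a : (Matrix ι ι ℤ)ˣ} (ha : a ∈ W)
    (hirr : Irreducible ((a : Matrix ι ι ℤ).map (Int.castRingHom ℚ)).charpoly)
    {e : ι → ZMod r} (he : e ≠ 0) {c : ZMod r} (hc : c ≠ 0)
    (hae : ((a : Matrix ι ι ℤ).map (Int.castRingHom (ZMod r))) *ᵥ e = c • e)
    {b : (Matrix ι ι ℤ)ˣ} (hb : b ∈ W)
    (hbe : ((b : Matrix ι ι ℤ).map (Int.castRingHom (ZMod r))) *ᵥ e = e) : b = 1 := by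
  classical
  set ρ := (Int.castRingHom (ZMod r)).mapMatrix (m := ι) with hρ
  let W₀ : Subgroup (Matrix ι ι ℤ)ˣ :=
    { carrier := {u | u ∈ W ∧ ρ (u : Matrix ι ι ℤ) *ᵥ e = e}
      one_mem' := ⟨one_mem W, by simp⟩
      mul_mem' := fun {u v} hu hv => ⟨mul_mem hu.1 hv.1, by
        rw [Units.val_mul, map_mul, ← Matrix.mulVec_mulVec, hv.2, hu.2]⟩
      inv_mem' := fun {u} hu => ⟨inv_mem hu.1, by
        conv_lhs => rw [← hu.2]
        rw [Matrix.mulVec_mulVec, ← map_mul, Units.inv_mul, map_one, Matrix.one_mulVec]⟩ }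
  haveI : Finite W₀ := Finite.of_injective (fun u : W₀ => (⟨u.1, u.2.1⟩ : W))
    fun u v h => Subtype.ext (congrArg (fun x : W => (x : (Matrix ι ι ℤ)ˣ)) h)
  letI : Fintype W₀ := Fintype.ofFinite _
  have hcard : ((Fintype.card W₀ : ℕ) : ZMod r) ≠ 0 := by
    intro h
    obtain ⟨u, hu⟩ := exists_prime_orderOf_dvd_card (G := W₀) r
      ((ZMod.natCast_eq_zero_iff _ _).1 h)
    have h1 : u = 1 := Subtype.ext (Units.ext (eq_one_of_pow_prime hr (by
      rw [← Units.val_pow_eq_pow_val, ← Subgroup.coe_pow, ← hu, pow_orderOf_eq_one]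
      rfl)))
    rw [h1, orderOf_one] at hu
    exact (Fact.out : r.Prime).ne_one hu.symm
  set P : Matrix ι ι ℤ := ∑ u : W₀, ((u : (Matrix ι ι ℤ)ˣ) : Matrix ι ι ℤ) with hP
  have hPb : P * (b : Matrix ι ι ℤ) = P := by
    rw [hP, Finset.sum_mul]
    exact Fintype.sum_equiv (Equiv.mulRight (⟨b, hb, hbe⟩ : W₀)) _ _ fun u => rfl
  have hnorm : ∀ u : (Matrix ι ι ℤ)ˣ, u ∈ W₀ → a * u * a⁻¹ ∈ W₀ := by
    intro u hu
    refine ⟨mul_mem (mul_mem ha hu.1) (inv_mem ha), ?_⟩
    have h' : ρ ((a⁻¹ : (Matrix ι ι ℤ)ˣ) : Matrix ι ι ℤ) *ᵥ e = c⁻¹ • e := by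
      rw [eq_inv_smul_iff₀ hc, ← Matrix.mulVec_smul, ← hae, Matrix.mulVec_mulVec]
      rw [show ((a : Matrix ι ι ℤ).map (Int.castRingHom (ZMod r))) = ρ a from rfl, ← map_mul,
        Units.inv_mul, map_one, Matrix.one_mulVec]
    rw [Units.val_mul, Units.val_mul, map_mul, map_mul, ← Matrix.mulVec_mulVec,
      ← Matrix.mulVec_mulVec, h', Matrix.mulVec_smul, hu.2, Matrix.mulVec_smul,
      show ρ (a : Matrix ι ι ℤ) *ᵥ e = c • e from hae, smul_smul, inv_mul_cancel₀ hc, one_smul]
  have hPa : (a : Matrix ι ι ℤ) * P = P * (a : Matrix ι ι ℤ) := by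
    have h1 : (a : Matrix ι ι ℤ) * P * ((a⁻¹ : (Matrix ι ι ℤ)ˣ) : Matrix ι ι ℤ) = P := by
      rw [hP, Finset.mul_sum, Finset.sum_mul]
      refine Fintype.sum_bijective (fun u : W₀ => (⟨a * u.1 * a⁻¹, hnorm _ u.2⟩ : W₀))
        (Finite.injective_iff_bijective.1 fun u v h => Subtype.ext ?_) _ _ fun u => ?_
      · exact mul_left_cancel (mul_right_cancel (congrArg Subtype.val h))
      · simp
    conv_rhs => rw [← h1]
    rw [mul_assoc, Units.inv_mul, mul_one]
  have hPe : ρ P *ᵥ e = ((Fintype.card W₀ : ℕ) : ZMod r) • e := by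
    rw [hP, map_sum, Matrix.sum_mulVec, Finset.sum_congr rfl fun u _ => (u : W₀).2.2,
      Finset.sum_const, Finset.card_univ, Nat.cast_smul_eq_nsmul]
  set f := (Int.castRingHom ℚ).mapMatrix (m := ι) with hf
  have hP0 : f P ≠ 0 := by
    intro h
    have : P = 0 := Matrix.ext fun i j => Int.cast_injective (α := ℚ) (by
      have := congrFun (congrFun h i) j
      simpa [hf] using this)
    rw [this, map_zero, Matrix.zero_mulVec] at hPe
    rcases smul_eq_zero.1 hPe.symm with h' | h'
    · exact hcard h'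
    · exact he h'
  have hdet := det_ne_zero_of_commute hirr (P := f P)
    (show f P * f a = f a * f P by rw [← map_mul, ← map_mul, hPa]) hP0
  have h2 : f (b : Matrix ι ι ℤ) = 1 := by
    have hu : IsUnit (f P) := (Matrix.isUnit_iff_isUnit_det _).2 (isUnit_iff_ne_zero.2 hdet)
    have h3 : f P * f (b : Matrix ι ι ℤ) = f P * 1 := by rw [← map_mul, hPb, mul_one]
    exact hu.mul_left_cancel h3
  refine Units.ext (Matrix.ext fun i j => Int.cast_injective (α := ℚ) ?_)
  have := congrFun (congrFun h2 i) j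
  simp only [hf, RingHom.mapMatrix_apply, Matrix.map_apply, Int.coe_castRingHom] at this
  rw [this, Units.val_one, Matrix.one_apply, Matrix.one_apply]
  split_ifs <;> simp

/-- The adjugate vanishes when the kernel has dimension at least two. -/
theorem adjugate_eq_zero {K : Type*} [Field K] {M : Matrix ι ι K} {u v : ι → K}
    (hu : M *ᵥ u = 0) (hv : M *ᵥ v = 0) (huv : LinearIndependent K ![u, v]) :
    M.adjugate = 0 := by
  refine Matrix.ext fun i j => ?_
  rw [Matrix.adjugate_apply, Matrix.zero_apply, ← Matrix.exists_mulVec_eq_zero_iff]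
  obtain ⟨hind⟩ : Nonempty (∀ s t : K, s • u + t • v = 0 → s = 0 ∧ t = 0) :=
    ⟨fun s t h => LinearIndependent.pair_iff.1 huv s t h⟩
  have hker : ∀ w : ι → K, M *ᵥ w = 0 → w i = 0 → (M.updateRow j (Pi.single i 1)) *ᵥ w = 0 := by
    intro w hw hwi
    funext k
    by_cases hk : k = j
    · subst hk
      simp [Matrix.mulVec, hwi]
    · simpa [Matrix.mulVec, hk] using congrFun hw k
  by_cases hui : u i = 0
  · refine ⟨u, fun e => ?_, hker u hu hui⟩
    exact one_ne_zero (hind 1 0 (by simp [e])).1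
  · refine ⟨v i • u + (-u i) • v, fun e => hui (by simpa using (hind _ _ e).2), hker _ ?_ ?_⟩
    · rw [Matrix.mulVec_add, Matrix.mulVec_smul, Matrix.mulVec_smul, hu, hv, smul_zero, smul_zero,
        add_zero]
    · simp [mul_comm]

/-- Modulo a prime with `s² ∤ det M` the kernel has dimension at most one. -/
theorem card_ker_le {s : ℕ} [Fact s.Prime] {M : Matrix ι ι ℤ}
    (hM : ¬ (s : ℤ) ^ 2 ∣ M.det) :
    Nat.card {u : ι → ZMod s // (M.map (Int.castRingHom (ZMod s))) *ᵥ u = 0} ≤ s := by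
  classical
  set C : Matrix ι ι (ZMod s) := M.map (Int.castRingHom (ZMod s)) with hC
  by_contra hgt
  push Not at hgt
  have hs : s.Prime := Fact.out
  obtain ⟨⟨u, hu⟩, hu0⟩ : ∃ u : {u : ι → ZMod s // C *ᵥ u = 0}, u.1 ≠ 0 := by
    by_contra h
    push Not at h
    haveI : Subsingleton {u : ι → ZMod s // C *ᵥ u = 0} :=
      ⟨fun x y => Subtype.ext ((h x).trans (h y).symm)⟩
    have := Finite.card_le_one_iff_subsingleton.2 this
    have := hs.one_lt
    omega
  obtain ⟨⟨v, hv⟩, hv0⟩ : ∃ v : {u : ι → ZMod s // C *ᵥ u = 0}, ∀ t : ZMod s, v.1 ≠ t • u := by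
    by_contra h
    push Not at h
    choose t ht using h
    have hinj : Function.Injective t := fun x y e => Subtype.ext (by rw [ht x, ht y, e])
    have := Nat.card_le_card_of_injective t hinj
    rw [Nat.card_zmod] at this
    omega
  have hind : LinearIndependent (ZMod s) ![u, v] := LinearIndependent.pair_iff.2 fun a b hab => by
    have hb : b = 0 := by
      by_contra hb
      refine hv0 (-(b⁻¹ * a)) ?_
      have h := congrArg (b⁻¹ • ·) hab
      simp only [smul_add, smul_smul, inv_mul_cancel₀ hb, one_smul, smul_zero] at h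
      rw [neg_smul, eq_neg_iff_add_eq_zero, add_comm]
      exact h
    subst hb
    rw [zero_smul, add_zero, smul_eq_zero] at hab
    exact ⟨hab.resolve_right hu0, rfl⟩
  have hadj := adjugate_eq_zero hu hv hind
  have hall : ∀ i j, (s : ℤ) ∣ M.adjugate i j := fun i j => by
    rw [← ZMod.intCast_zmod_eq_zero_iff_dvd]
    have h := RingHom.map_adjugate (Int.castRingHom (ZMod s)) M
    rw [RingHom.mapMatrix_apply, RingHom.mapMatrix_apply, ← hC, hadj] at h
    exact congrFun (congrFun h i) j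
  choose A' hA' using hall
  have hadjM : M.adjugate = (s : ℤ) • (Matrix.of A' : Matrix ι ι ℤ) :=
    Matrix.ext fun i j => hA' i j
  have hdet := Matrix.det_adjugate M
  rw [hadjM, Matrix.det_smul] at hdet
  have hl : 2 ≤ Fintype.card ι := by
    have h := hind.fintype_card_le_finrank
    simpa using h
  have hsp : Prime (s : ℤ) := Nat.prime_iff_prime_int.1 hs
  have h1 : (s : ℤ) ^ Fintype.card ι ∣ M.det ^ (Fintype.card ι - 1) := ⟨_, hdet.symm⟩
  obtain ⟨d, hd⟩ : (s : ℤ) ∣ M.det :=
    hsp.dvd_of_dvd_pow ((dvd_pow_self _ (by omega)).trans h1)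
  refine hM ?_
  rw [hd, mul_pow, show Fintype.card ι = (Fintype.card ι - 1) + 1 by omega, pow_succ] at h1
  simp only [Nat.add_sub_cancel] at h1
  have h2 : (s : ℤ) ∣ d :=
    hsp.dvd_of_dvd_pow ((mul_dvd_mul_iff_left (pow_ne_zero _ hsp.ne_zero)).1 h1)
  rw [hd, sq]
  exact mul_dvd_mul_left _ h2

/-- A finite commutative group with at most `p` solutions of `x^p = 1` for every prime `p` is
cyclic. -/
theorem isCyclic_of_prime_pow_eq_one {G : Type*} [CommGroup G] [Finite G]
    (h : ∀ p : ℕ, p.Prime → Nat.card {x : G // x ^ p = 1} ≤ p) : IsCyclic G := by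
  classical
  letI : Fintype G := Fintype.ofFinite G
  have key : ∀ n : ℕ, 0 < n → Nat.card {x : G // x ^ n = 1} ≤ n := by
    intro n
    induction n using Nat.strong_induction_on with
    | _ n ih =>
    intro hn
    rcases Nat.lt_or_ge n 2 with h1 | h1
    · obtain rfl : n = 1 := by omega
      haveI : Subsingleton {x : G // x ^ 1 = 1} :=
        ⟨fun x y => Subtype.ext (by rw [← pow_one (x : G), x.2, ← pow_one (y : G), y.2])⟩
      exact Finite.card_le_one_iff_subsingleton.2 this
    obtain ⟨p, hp, m, rfl⟩ := Nat.exists_prime_and_dvd (show n ≠ 1 by omega)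
    have hm : 0 < m := Nat.pos_of_mul_pos_left hn
    have hlt : m < p * m := (Nat.lt_mul_iff_one_lt_left hm).2 hp.one_lt
    let f : {x : G // x ^ (p * m) = 1} → {y : G // y ^ p = 1} := fun x =>
      ⟨x.1 ^ m, by rw [← pow_mul, Nat.mul_comm m p]; exact x.2⟩
    have hfib : ∀ y, Nat.card {x // f x = y} ≤ m := by
      intro y
      by_cases hy : ∃ x, f x = y
      · obtain ⟨x₀, hx₀⟩ := hy
        refine le_trans (Nat.card_le_card_of_injective
          (fun x : {x // f x = y} => (⟨x.1.1 * x₀.1⁻¹, by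
            have e := congrArg Subtype.val (x.2.trans hx₀.symm)
            simp only [f] at e
            rw [mul_pow, e, inv_pow, mul_inv_cancel]⟩ : {z : G // z ^ m = 1})) ?_) (ih m hlt hm)
        intro a b e
        exact Subtype.ext (Subtype.ext (mul_right_cancel (congrArg Subtype.val e)))
      · haveI : IsEmpty {x // f x = y} := ⟨fun x => hy ⟨x.1, x.2⟩⟩
        simp
    calc Nat.card {x : G // x ^ (p * m) = 1}
        = Nat.card (Σ y, {x // f x = y}) := Nat.card_congr (Equiv.sigmaFiberEquiv f).symm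
      _ = ∑ y, Nat.card {x // f x = y} := Nat.card_sigma
      _ ≤ ∑ _y : {y : G // y ^ p = 1}, m := Finset.sum_le_sum fun y _ => hfib y
      _ = Nat.card {y : G // y ^ p = 1} * m := by
          rw [Finset.sum_const, Finset.card_univ, Nat.card_eq_fintype_card, smul_eq_mul]
      _ ≤ p * m := Nat.mul_le_mul_right m (h p hp)
  refine isCyclic_of_card_pow_eq_one_le fun n hn => ?_
  rw [← Fintype.card_subtype, ← Nat.card_eq_fintype_card]
  exact key n hn

section Kernel

open Cfsg.Agent.Lie.Chev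

variable {l : ℕ} {G : Type*} [CommGroup G] [Finite G]

theorem mpow_zpow (M : Matrix (Fin l) (Fin l) ℤ) (a : G) (v : Fin l → ℤ) :
    mpow M (fun i => a ^ v i) = fun j => a ^ (v ᵥ* M) j := by
  funext j
  show ∏ i, (a ^ v i) ^ M i j = _
  simp only [← _root_.zpow_mul]
  rw [zpow_sum_eq]
  rfl

/-- The kernel of a power map of a cyclic group is cyclic of order `|det M|`. -/
theorem ker_mpow [IsCyclic G] {M : Matrix (Fin l) (Fin l) ℤ} (hM : M.det ≠ 0)
    (hdvd : M.det.natAbs ∣ Nat.card G)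
    (hs : ∀ s : ℕ, s.Prime → (s : ℤ) ∣ M.det → ∃ M' : Matrix (Fin l) (Fin l) ℤ,
      (∀ i j, (s : ℤ) ∣ M i j - M' i j) ∧ ¬ (s : ℤ) ^ 2 ∣ M'.det) :
    IsCyclic (mpow (G := G) M).ker ∧ Nat.card (mpow (G := G) M).ker = M.det.natAbs := by
  classical
  obtain ⟨g, hg⟩ := IsCyclic.exists_ofOrder_eq_natCard (α := G)
  obtain ⟨Q, hQ⟩ := hdvd
  obtain ⟨N, hN⟩ : ∃ N, N = M.det.natAbs := ⟨_, rfl⟩
  rw [← hN] at hQ
  have hN0 : N ≠ 0 := by rw [hN]; simpa using hM
  have hQ0 : Q ≠ 0 := fun e => Nat.card_pos.ne' (by rw [hQ, e, mul_zero] : Nat.card G = 0)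
  have hone : ∀ e : ℤ, g ^ e = 1 ↔ ((N : ℤ) * Q) ∣ e := fun e => by
    rw [← orderOf_dvd_iff_zpow_eq_one, hg, hQ, Nat.cast_mul]
  have hdN : (N : ℤ) ∣ M.det ∧ M.det ∣ (N : ℤ) :=
    ⟨hN ▸ Int.natAbs_dvd.2 dvd_rfl, hN ▸ Int.dvd_natAbs.2 dvd_rfl⟩
  let Ψ : (Fin l → ℤ) →+ Additive (mpow (G := G) M).ker :=
    { toFun := fun z => Additive.ofMul ⟨fun i => g ^ ((Q : ℤ) * (z ᵥ* M.adjugate) i), by
        rw [MonoidHom.mem_ker, mpow_zpow]
        funext j
        rw [Pi.one_apply, hone,
          show (fun i => (Q : ℤ) * (z ᵥ* M.adjugate) i) = (Q : ℤ) • (z ᵥ* M.adjugate) from rfl,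
          Matrix.smul_vecMul, Matrix.vecMul_vecMul, Matrix.adjugate_mul, Matrix.vecMul_smul,
          Matrix.vecMul_one, Pi.smul_apply, Pi.smul_apply, smul_eq_mul, smul_eq_mul, ← mul_assoc,
          mul_comm (Q : ℤ)]
        exact (mul_dvd_mul hdN.1 dvd_rfl).mul_right _⟩
      map_zero' := by
        refine congrArg Additive.ofMul (Subtype.ext (funext fun i => ?_))
        simp
      map_add' := fun z z' => by
        refine congrArg Additive.ofMul (Subtype.ext (funext fun i => ?_))
        simp [Matrix.add_vecMul, mul_add, _root_.zpow_add] }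
  have hsurj : Function.Surjective Ψ := by
    intro x
    obtain ⟨⟨ξ, hξ⟩, rfl⟩ := Additive.ofMul.surjective x
    have hv : ∀ i, ∃ v : ℤ, g ^ v = ξ i := fun i => by
      have hz : Subgroup.zpowers g = ⊤ :=
        Subgroup.eq_top_of_card_eq _ (by rw [Nat.card_zpowers, hg])
      exact Subgroup.mem_zpowers_iff.1 (hz ▸ Subgroup.mem_top (ξ i))
    choose v hv using hv
    have h1 := MonoidHom.mem_ker.1 hξ
    rw [show ξ = fun i => g ^ v i from funext fun i => (hv i).symm, mpow_zpow] at h1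
    have h2 : ∀ j, (M.det * Q) ∣ (v ᵥ* M) j := fun j =>
      (mul_dvd_mul hdN.2 dvd_rfl).trans ((hone _).1 (congrFun h1 j))
    choose z hz using h2
    refine ⟨z, congrArg Additive.ofMul (Subtype.ext (funext fun i => ?_))⟩
    show g ^ _ = ξ i
    rw [← hv i]
    congr 1
    have e : v ᵥ* M = (M.det * Q) • z := funext fun j => by rw [hz j]; rfl
    have e2 := congrArg (fun w => w ᵥ* M.adjugate) e
    simp only [Matrix.vecMul_vecMul, Matrix.mul_adjugate, Matrix.vecMul_smul, Matrix.vecMul_one,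
      Matrix.smul_vecMul, mul_smul] at e2
    have := congrFun e2 i
    simp only [Pi.smul_apply, smul_eq_mul] at this
    exact (mul_left_cancel₀ hM this).symm
  have hker : Ψ.ker = (Matrix.vecMulLinear M).range.toAddSubgroup := by
    ext z
    rw [AddMonoidHom.mem_ker, Submodule.mem_toAddSubgroup, LinearMap.mem_range]
    constructor
    · intro h
      have h' := congrArg Subtype.val (congrArg Additive.toMul h)
      have h2 : ∀ i, M.det ∣ (z ᵥ* M.adjugate) i := fun i => by
        have h3 := (hone _).1 (congrFun h' i)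
        rw [mul_comm (N : ℤ)] at h3
        exact hdN.2.trans ((mul_dvd_mul_iff_left (by exact_mod_cast hQ0)).1 h3)
      choose w hw using h2
      refine ⟨w, ?_⟩
      have e : z ᵥ* M.adjugate = M.det • w := funext fun i => by rw [hw i]; rfl
      have e2 := congrArg (fun x => x ᵥ* M) e
      simp only [Matrix.vecMul_vecMul, Matrix.adjugate_mul, Matrix.vecMul_smul, Matrix.vecMul_one,
        Matrix.smul_vecMul] at e2
      exact (smul_right_injective (Fin l → ℤ) hM e2).symm
    · rintro ⟨w, rfl⟩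
      refine congrArg Additive.ofMul (Subtype.ext (funext fun i => ?_))
      show g ^ _ = 1
      rw [Matrix.vecMulLinear_apply, Matrix.vecMul_vecMul, Matrix.mul_adjugate, hone,
        Matrix.vecMul_smul, Matrix.vecMul_one, Pi.smul_apply, smul_eq_mul, ← mul_assoc,
        mul_comm (Q : ℤ)]
      exact (mul_dvd_mul hdN.1 dvd_rfl).mul_right _
  have hinj : Function.Injective (Matrix.vecMulLinear M) := by
    refine (injective_iff_map_eq_zero _).2 fun w hw => ?_
    rw [Matrix.vecMulLinear_apply] at hw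
    have := congrArg (fun x => x ᵥ* M.adjugate) hw
    simp only [Matrix.vecMul_vecMul, Matrix.mul_adjugate, Matrix.vecMul_smul, Matrix.vecMul_one,
      Matrix.zero_vecMul] at this
    exact (smul_eq_zero.1 this).resolve_left hM
  have hcard : Nat.card (mpow (G := G) M).ker = N := by
    have h1 : Nat.card (Additive (mpow (G := G) M).ker) = Ψ.ker.index := by
      rw [AddSubgroup.index_ker, AddMonoidHom.range_eq_top.2 hsurj]
      exact AddSubgroup.card_top.symm
    rw [show Nat.card (mpow (G := G) M).ker = Nat.card (Additive (mpow (G := G) M).ker) from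
      Nat.card_congr Additive.ofMul, h1, hker,
      AddSubgroup.index_eq_natAbs_det (Pi.basisFun ℤ (Fin l)) _
        ((Pi.basisFun ℤ (Fin l)).map (LinearEquiv.ofInjective (Matrix.vecMulLinear M) hinj)),
      Module.Basis.det_apply, hN]
    congr 1
    rw [← Matrix.det_transpose M]
    congr 1
    refine Matrix.ext fun i j => ?_
    simp [Module.Basis.toMatrix_apply, Matrix.single_vecMul]
    show (Matrix.vecMulLinear M (Pi.single j 1)) i = M j i
    simp [Matrix.single_vecMul]
  refine ⟨isCyclic_of_prime_pow_eq_one fun s hsp => ?_, hcard.trans hN⟩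
  haveI : Fact s.Prime := ⟨hsp⟩
  by_cases hdvd' : (s : ℤ) ∣ M.det
  · obtain ⟨M', hMM', hM'⟩ := hs s hsp hdvd'
    obtain ⟨m', hm'⟩ : s ∣ N * Q :=
      (hN ▸ Int.natCast_dvd.1 hdvd' : s ∣ N).mul_right Q
    have hm'0 : m' ≠ 0 := fun e => mul_ne_zero hN0 hQ0 (by rw [hm', e, mul_zero])
    -- elements of exponent s are powers of η
    have hη : ∀ e : ℤ, (g ^ (m' : ℤ)) ^ e = 1 ↔ (s : ℤ) ∣ e := fun e => by
      rw [← _root_.zpow_mul, hone, ← Nat.cast_mul, hm', Nat.cast_mul, mul_comm (s : ℤ)]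
      exact mul_dvd_mul_iff_left (by exact_mod_cast hm'0)
    have hlog : ∀ x : G, x ^ s = 1 → ∃ u : ℤ, (g ^ (m' : ℤ)) ^ u = x := by
      intro x hx
      have hz : Subgroup.zpowers g = ⊤ :=
        Subgroup.eq_top_of_card_eq _ (by rw [Nat.card_zpowers, hg])
      obtain ⟨v, rfl⟩ := Subgroup.mem_zpowers_iff.1 (hz ▸ Subgroup.mem_top x)
      rw [← zpow_natCast, ← _root_.zpow_mul, hone, ← Nat.cast_mul, hm', Nat.cast_mul, mul_comm v,
        mul_dvd_mul_iff_left (by exact_mod_cast hsp.ne_zero)] at hx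
      obtain ⟨u, rfl⟩ := hx
      exact ⟨u, by rw [← _root_.zpow_mul]⟩
    refine le_trans ?_ (card_ker_le (M := M'ᵀ) (by rwa [Matrix.det_transpose]))
    have hu : ∀ (x : {x : (mpow (G := G) M).ker // x ^ s = 1}) (i : Fin l),
        ∃ u : ℤ, (g ^ (m' : ℤ)) ^ u = (x.1 : Fin l → G) i := fun x i => hlog _ (by
      have := congrFun (congrArg Subtype.val x.2) i
      simpa using this)
    choose u hu using hu
    refine Nat.card_le_card_of_injective (fun x => ⟨fun i => ((u x i : ℤ) : ZMod s), ?_⟩) ?_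
    · have h1 := MonoidHom.mem_ker.1 x.1.2
      rw [show ((x.1 : (mpow (G := G) M).ker) : Fin l → G) = fun i => (g ^ (m' : ℤ)) ^ u x i from
        funext fun i => (hu x i).symm, mpow_zpow] at h1
      funext j
      have h2 := (hη _).1 (congrFun h1 j)
      rw [← ZMod.intCast_zmod_eq_zero_iff_dvd] at h2
      rw [Pi.zero_apply, ← h2]
      simp only [Matrix.mulVec, Matrix.vecMul, dotProduct, Matrix.map_apply,
        Matrix.transpose_apply, Int.coe_castRingHom, Int.cast_sum, Int.cast_mul]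
      refine Finset.sum_congr rfl fun i _ => ?_
      rw [mul_comm]
      congr 1
      exact ((ZMod.intCast_eq_intCast_iff_dvd_sub _ _ _).2 (hMM' i j))
    · intro x y e
      refine Subtype.ext (Subtype.ext (funext fun i => ?_))
      have := congrFun (congrArg Subtype.val e) i
      rw [ZMod.intCast_eq_intCast_iff_dvd_sub] at this
      rw [← hu x i, ← hu y i, eq_comm, ← mul_inv_eq_one, ← _root_.zpow_sub, hη]
      exact this
  · haveI : Subsingleton {x : (mpow (G := G) M).ker // x ^ s = 1} := by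
      refine ⟨fun x y => Subtype.ext ?_⟩
      have h1 : ∀ x : {x : (mpow (G := G) M).ker // x ^ s = 1}, x.1 = 1 := fun x => by
        have hco : Nat.Coprime s N := hsp.coprime_iff_not_dvd.2 fun h =>
          hdvd' ((Int.natCast_dvd_natCast.2 h).trans hdN.1)
        have h3 : x.1 ^ N = 1 := by rw [← hcard, pow_card_eq_one']
        simpa [hco.gcd_eq_one] using (pow_gcd_eq_one (a := x.1) (m := s) (n := N)).2 ⟨x.2, h3⟩
      rw [h1 x, h1 y]
    exact (Finite.card_le_one_iff_subsingleton.2 this).trans hsp.pos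

end Kernel

/-- For `s ∤ n` some `x ≡ q` modulo `s` has `s² ∤ Φₙ(x)`. -/
theorem exists_sq_not_dvd {n s : ℕ} [Fact s.Prime] (hsn : ¬ s ∣ n) {q : ℤ}
    (hq : (s : ℤ) ∣ (cyclotomic n ℤ).eval q) :
    ∃ j : ℤ, ¬ (s : ℤ) ^ 2 ∣ (cyclotomic n ℤ).eval (q + s * j) := by
  by_contra hall
  push Not at hall
  have h0 := hall 0
  rw [mul_zero, add_zero] at h0
  have h1 := hall 1
  rw [mul_one] at h1
  obtain ⟨k, hk⟩ := Polynomial.binomExpansion (cyclotomic n ℤ) q (s : ℤ)
  rw [hk, dvd_add_left (Dvd.intro_left k rfl), dvd_add_right h0, sq,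
    mul_dvd_mul_iff_right (by exact_mod_cast (Fact.out : s.Prime).ne_zero)] at h1
  haveI : NeZero (n : ZMod s) := ⟨fun h => hsn ((ZMod.natCast_eq_zero_iff _ _).1 h)⟩
  have hroot : (cyclotomic n (ZMod s)).IsRoot (q : ZMod s) := by
    rw [IsRoot.def, ← map_cyclotomic n (Int.castRingHom (ZMod s)),
      show (q : ZMod s) = Int.castRingHom (ZMod s) q from rfl, eval_map_apply]
    exact (ZMod.intCast_zmod_eq_zero_iff_dvd _ s).2 hq
  refine (Polynomial.separable_cyclotomic n (ZMod s)).eval₂_derivative_ne_zero (RingHom.id _)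
    (by rw [eval₂_id]; exact hroot) ?_
  rw [eval₂_id, ← map_cyclotomic n (Int.castRingHom (ZMod s)), derivative_map,
    show (q : ZMod s) = Int.castRingHom (ZMod s) q from rfl, eval_map_apply]
  exact (ZMod.intCast_zmod_eq_zero_iff_dvd _ s).2 h1

end Cfsg.Agent.Lie.CycMatrix
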