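import Cfsg.Agent.Lib.Lie.CycMatrix

/-! In a finite group of integer matrices, what fixes an eigenvector modulo a large prime fixes the
whole rational cyclotomic eigenspace. -/

set_option autoImplicit false

namespace Cfsg.Agent.Lie.CycMatrix

open Polynomial Matrix

variable {ι κ : Type*} [Fintype ι] [DecidableEq ι] [Fintype κ] [DecidableEq κ]

/-- `U` spans the image of `f(C)`, a cyclotomic component of `C`. -/
theorem fix_component {r : ℕ} [Fact r.Prime] (hr : Fintype.card ι + 1 < r)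
    {W : Subgroup (Matrix ι ι ℤ)ˣ} [Finite W] {a : (Matrix ι ι ℤ)ˣ} (ha : a ∈ W)
    {U : Matrix ι κ ℤ} {V : Matrix κ ι ℤ} {C' : Matrix κ κ ℤ}
    (hV : V * (a : Matrix ι ι ℤ) = C' * V) (hU : (a : Matrix ι ι ℤ) * U = U * C')
    {f : ℤ[X]} (hf : aeval (a : Matrix ι ι ℤ) f = U * V)
    {n k : ℕ} (hn : n.totient = Fintype.card κ) (hn0 : 0 < n) (hrn : ¬ r ∣ n) (hk : 0 < k)
    (hC' : C' ^ k = 1) {q : ℤ} (hq : (r : ℤ) ∣ (cyclotomic n ℤ).eval q)
    (hqf : ¬ (r : ℤ) ∣ f.eval q) (hq0 : ¬ (r : ℤ) ∣ q)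
    {e : ι → ZMod r} (he : e ≠ 0)
    (hae : ((a : Matrix ι ι ℤ).map (Int.castRingHom (ZMod r))) *ᵥ e = (q : ZMod r) • e)
    {b : (Matrix ι ι ℤ)ˣ} (hb : b ∈ W)
    (hbe : ((b : Matrix ι ι ℤ).map (Int.castRingHom (ZMod r))) *ᵥ e = e) :
    (b : Matrix ι ι ℤ) * U = U := by
  classical
  set ρ := (Int.castRingHom (ZMod r)).mapMatrix (m := ι) with hρ
  let W₀ : Subgroup (Matrix ι ι ℤ)ˣ :=
    { carrier := {u | u ∈ W ∧ ρ (u : Matrix ι ι ℤ) *ᵥ e = e}
      one_mem' := ⟨one_mem W, by simp⟩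
      mul_mem' := fun {u v} hu hv => ⟨mul_mem hu.1 hv.1, by
        rw [Units.val_mul, map_mul, ← Matrix.mulVec_mulVec, hv.2, hu.2]⟩
      inv_mem' := fun {u} hu => ⟨inv_mem hu.1, by
        conv_lhs => rw [← hu.2]
        rw [Matrix.mulVec_mulVec, ← map_mul, Units.inv_mul, map_one, Matrix.one_mulVec]⟩ }
  haveI : Finite W₀ := Finite.of_injective (fun u : W₀ => (⟨u.1, u.2.1⟩ : W))
    fun u v h => Subtype.ext (congrArg (fun x : W => (x : (Matrix ι ι ℤ)ˣ)) h)
  letI : Fintype W₀ := Fintype.ofFinite _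
  have hcard : ((Fintype.card W₀ : ℕ) : ZMod r) ≠ 0 := by
    intro h
    obtain ⟨u, hu⟩ := exists_prime_orderOf_dvd_card (G := W₀) r
      ((ZMod.natCast_eq_zero_iff _ _).1 h)
    have h1 : u = 1 := Subtype.ext (Units.ext (eq_one_of_pow_prime hr (by
      rw [← Units.val_pow_eq_pow_val, ← Subgroup.coe_pow, ← hu, pow_orderOf_eq_one]
      rfl)))
    rw [h1, orderOf_one] at hu
    exact (Fact.out : r.Prime).ne_one hu.symm
  set P : Matrix ι ι ℤ := ∑ u : W₀, ((u : (Matrix ι ι ℤ)ˣ) : Matrix ι ι ℤ) with hP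
  have hbP : (b : Matrix ι ι ℤ) * P = P := by
    rw [hP, Finset.mul_sum]
    exact Fintype.sum_equiv (Equiv.mulLeft (⟨b, hb, hbe⟩ : W₀)) _ _ fun u => rfl
  have hq0' : (q : ZMod r) ≠ 0 := fun h => hq0 ((ZMod.intCast_zmod_eq_zero_iff_dvd _ r).1 h)
  have hnorm : ∀ u : (Matrix ι ι ℤ)ˣ, u ∈ W₀ → a * u * a⁻¹ ∈ W₀ := by
    intro u hu
    refine ⟨mul_mem (mul_mem ha hu.1) (inv_mem ha), ?_⟩
    have h' : ρ ((a⁻¹ : (Matrix ι ι ℤ)ˣ) : Matrix ι ι ℤ) *ᵥ e = (q : ZMod r)⁻¹ • e := by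
      rw [eq_inv_smul_iff₀ hq0', ← Matrix.mulVec_smul, ← hae, Matrix.mulVec_mulVec]
      rw [show ((a : Matrix ι ι ℤ).map (Int.castRingHom (ZMod r))) = ρ a from rfl, ← map_mul,
        Units.inv_mul, map_one, Matrix.one_mulVec]
    rw [Units.val_mul, Units.val_mul, map_mul, map_mul, ← Matrix.mulVec_mulVec,
      ← Matrix.mulVec_mulVec, h', Matrix.mulVec_smul, hu.2, Matrix.mulVec_smul,
      show ρ (a : Matrix ι ι ℤ) *ᵥ e = (q : ZMod r) • e from hae, smul_smul,
      inv_mul_cancel₀ hq0', one_smul]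
  have hPa : (a : Matrix ι ι ℤ) * P = P * (a : Matrix ι ι ℤ) := by
    have h1 : (a : Matrix ι ι ℤ) * P * ((a⁻¹ : (Matrix ι ι ℤ)ˣ) : Matrix ι ι ℤ) = P := by
      rw [hP, Finset.mul_sum, Finset.sum_mul]
      refine Fintype.sum_bijective (fun u : W₀ => (⟨a * u.1 * a⁻¹, hnorm _ u.2⟩ : W₀))
        (Finite.injective_iff_bijective.1 fun u v h => Subtype.ext ?_) _ _ fun u => ?_
      · exact mul_left_cancel (mul_right_cancel (congrArg Subtype.val h))
      · simp
    conv_rhs => rw [← h1]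
    rw [mul_assoc, Units.inv_mul, mul_one]
  have hPf : P * aeval (a : Matrix ι ι ℤ) f = aeval (a : Matrix ι ι ℤ) f * P :=
    (Algebra.commute_of_mem_adjoin_singleton_of_commute
      (Polynomial.aeval_mem_adjoin_singleton ℤ (a : Matrix ι ι ℤ))
      (show Commute P (a : Matrix ι ι ℤ) from hPa.symm)).eq
  set Q : Matrix κ κ ℤ := V * P * U with hQ
  have hQC : C' * Q = Q * C' := by
    rw [hQ, ← Matrix.mul_assoc, ← Matrix.mul_assoc, ← hV, Matrix.mul_assoc V, hPa,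
      Matrix.mul_assoc (V * P), ← hU]
    simp only [Matrix.mul_assoc]
  -- modulo r
  let cR := Int.castRingHom (ZMod r)
  have hfe : ((U * V).map cR) *ᵥ e = ((f.eval q : ℤ) : ZMod r) • e := by
    rw [← hf]
    have h := aeval_mulVec (ρ (a : Matrix ι ι ℤ)) e (q : ZMod r) hae (f.map cR)
    rw [eval_intCast_map] at h
    refine Eq.trans ?_ h
    congr 1
    show ρ (aeval (a : Matrix ι ι ℤ) f) = _
    rw [aeval_def, Polynomial.hom_eval₂, aeval_def, eval₂_map]
    congr 1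
    exact RingHom.ext_int _ _
  have hqf' : ((f.eval q : ℤ) : ZMod r) ≠ 0 := fun h =>
    hqf ((ZMod.intCast_zmod_eq_zero_iff_dvd _ r).1 h)
  obtain ⟨e', he'⟩ : ∃ e', e' = (V.map cR) *ᵥ e := ⟨_, rfl⟩
  have he'0 : e' ≠ 0 := fun h => by
    rw [Matrix.map_mul, ← Matrix.mulVec_mulVec, ← he', h, Matrix.mulVec_zero] at hfe
    exact (smul_ne_zero hqf' he) hfe.symm
  have hC'e : (C'.map cR) *ᵥ e' = (q : ZMod r) • e' := by
    rw [he', Matrix.mulVec_mulVec, ← Matrix.map_mul, ← hV, Matrix.map_mul, ← Matrix.mulVec_mulVec,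
      show ((a : Matrix ι ι ℤ).map cR) *ᵥ e = (q : ZMod r) • e from hae, Matrix.mulVec_smul]
  have hr2 : 2 < r := by
    haveI : Nonempty ι := by
      by_contra hno
      rw [not_nonempty_iff] at hno
      exact he (funext fun i => isEmptyElim i)
    have := Fintype.card_pos (α := ι)
    omega
  have hchar := charpoly_eq_cyclotomic hn hrn hr2 hq hk hC' he'0 hC'e
  have hirr : Irreducible (C'.map (Int.castRingHom ℚ)).charpoly := by
    rw [Matrix.charpoly_map, hchar, Polynomial.map_cyclotomic]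
    exact Polynomial.cyclotomic.irreducible_rat hn0
  have hQe : (Q.map cR) *ᵥ e' =
      (((f.eval q : ℤ) : ZMod r) * ((Fintype.card W₀ : ℕ) : ZMod r)) • e' := by
    rw [he', hQ, Matrix.mulVec_mulVec, ← Matrix.map_mul, Matrix.mul_assoc (V * P), Matrix.map_mul,
      Matrix.map_mul, ← Matrix.mulVec_mulVec, hfe, Matrix.mulVec_smul, ← Matrix.mulVec_mulVec]
    rw [show (P.map cR) *ᵥ e = ((Fintype.card W₀ : ℕ) : ZMod r) • e by
      show ρ P *ᵥ e = _
      rw [hP, map_sum, Matrix.sum_mulVec, Finset.sum_congr rfl fun u _ => (u : W₀).2.2,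
        Finset.sum_const, Finset.card_univ, Nat.cast_smul_eq_nsmul], Matrix.mulVec_smul, smul_smul]
  set g := (Int.castRingHom ℚ).mapMatrix (m := κ) with hg
  have hQ0 : g Q ≠ 0 := by
    intro h
    have : Q = 0 := Matrix.ext fun i j => Int.cast_injective (α := ℚ) (by
      have := congrFun (congrFun h i) j
      simpa [hg] using this)
    rw [this, Matrix.map_zero _ (map_zero cR), Matrix.zero_mulVec] at hQe
    exact (smul_ne_zero (mul_ne_zero hqf' hcard) he'0) hQe.symm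
  have hdet : Q.det ≠ 0 := by
    have h := det_ne_zero_of_commute hirr (P := g Q)
      (show g Q * g C' = g C' * g Q by rw [← map_mul, ← map_mul, hQC]) hQ0
    rw [← RingHom.map_det] at h
    exact fun h0 => h (by rw [h0, map_zero])
  have h1 : ((b : Matrix ι ι ℤ) * U - U) * Q = 0 := by
    rw [hQ, Matrix.sub_mul, sub_eq_zero]
    rw [show U * (V * P * U) = (U * V) * P * U by simp only [Matrix.mul_assoc],
      show (b : Matrix ι ι ℤ) * U * (V * P * U) = (b : Matrix ι ι ℤ) * ((U * V) * P) * U by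
        simp only [Matrix.mul_assoc], ← hf, ← hPf, ← Matrix.mul_assoc, hbP]
  have h2 := congrArg (· * Q.adjugate) h1
  simp only [Matrix.mul_assoc, Matrix.mul_adjugate, Matrix.zero_mul, Matrix.mul_smul,
    Matrix.mul_one] at h2
  exact sub_eq_zero.1 ((smul_eq_zero.1 h2).resolve_left hdet)

end Cfsg.Agent.Lie.CycMatrix
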