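import Cfsg.Agent.Lib.Lie.EightSubgroupsBase
import Cfsg.Agent.Lib.Block.DegreeSeven
import Cfsg.Agent.Lib.Block.PrimeTwoP.Basic
import Cfsg.Agent.Lib.Transfer.JordanPrimeCycle

/-!
Subgroups of the alternating group of degree eight without solvable normal subgroups.
-/

set_option autoImplicit false

namespace Cfsg.Agent.Lie.EightSub

open Equiv
open scoped Pointwise

theorem orderOf_cycle {α : Type*} [Fintype α] [DecidableEq α] {g : Perm α} {p : ℕ} (hp : p.Prime)
    (hg : orderOf g = p) (hn : Fintype.card α < 2 * p) : g.IsCycle ∧ g.support.card = p := by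
  have hc : g.IsCycle := Equiv.Perm.isCycle_of_prime_order' (hg.symm ▸ hp) (by rw [hg]; exact hn)
  exact ⟨hc, by rw [← hc.orderOf, hg]⟩

/-- A large subgroup of `A₈` is the whole group. -/
theorem eq_alt_of_large (K : Subgroup (Perm (Fin 8))) (hA : K ≤ alternatingGroup (Fin 8))
    (h : 2520 < Nat.card K) : K = alternatingGroup (Fin 8) := by
  haveI : IsSimpleGroup (alternatingGroup (Fin 8)) :=
    alternatingGroup.isSimpleGroup (by rw [Nat.card_eq_fintype_card, Fintype.card_fin]; norm_num)
  have h8 : Nat.card (alternatingGroup (Fin 8)) = 20160 := by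
    have := card_alt 8 (by norm_num)
    rw [show Nat.factorial 8 = 40320 from rfl] at this
    omega
  have hK := Nat.card_congr (Subgroup.subgroupOfEquivOfLe hA).toEquiv
  by_cases ht : K.subgroupOf (alternatingGroup (Fin 8)) = ⊤
  · exact le_antisymm hA (Subgroup.subgroupOf_eq_top.1 ht)
  exfalso
  have hd := Cfsg.Agent.Fus.card_dvd_factorial_index ht
  have hm := Subgroup.card_mul_index (K.subgroupOf (alternatingGroup (Fin 8)))
  rw [hK, h8] at hm
  rw [h8] at hd
  set i := (K.subgroupOf (alternatingGroup (Fin 8))).index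
  have hi : i ≤ 7 := by
    by_contra hh
    have := Nat.mul_le_mul (show 2521 ≤ Nat.card K by omega) (show 8 ≤ i by omega)
    omega
  have := (Nat.factorial_pos i)
  have h2 := Nat.le_of_dvd this hd
  have h3 : i.factorial ≤ Nat.factorial 7 := Nat.factorial_le hi
  rw [show Nat.factorial 7 = 5040 from rfl] at h3
  omega

/-- The kernel of the action on a large orbit vanishes. -/
theorem faithful_orbit (K : Subgroup (Perm (Fin 8))) (h : NoSolv K) (a : Fin 8)
    (ho : 5 ≤ Nat.card (MulAction.orbit K a)) :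
    Function.Injective (MulAction.toPermHom K (MulAction.orbit K a)) := by
  classical
  set O := MulAction.orbit K a with hO
  have hinv : ∀ (k : K) (x : Fin 8), x ∈ O ↔ (k : Perm (Fin 8)) x ∈ O := fun k x => by
    refine ⟨fun hx => MulAction.mem_orbit_of_mem_orbit k hx, fun hx => ?_⟩
    have := MulAction.mem_orbit_of_mem_orbit k⁻¹ hx
    rwa [show k⁻¹ • ((k : Perm (Fin 8)) x) = x from inv_smul_smul k x] at this
  let f := MulAction.toPermHom K O
  let f' : K →* Perm {x : Fin 8 // x ∉ O} :=
    { toFun := fun k => (k : Perm (Fin 8)).subtypePerm (fun x => not_congr (hinv k x).symm)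
      map_one' := by ext x; rfl
      map_mul' := fun k l => by ext x; rfl }
  have hinj : Function.Injective (f'.comp f.ker.subtype) := by
    rw [injective_iff_map_eq_one]
    rintro ⟨k, hk⟩ h2
    apply Subtype.ext
    apply Subtype.ext
    ext x
    by_cases hx : x ∈ O
    · have := DFunLike.congr_fun (MonoidHom.mem_ker.1 hk) ⟨x, hx⟩
      exact congrArg Fin.val (congrArg Subtype.val this)
    · exact congrArg (fun z : {x : Fin 8 // x ∉ O} => (z.1 : ℕ)) (DFunLike.congr_fun h2 (⟨x, hx⟩ : {x : Fin 8 // x ∉ O}))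
  have hc : Nat.card {x : Fin 8 // x ∉ O} ≤ 3 := by
    have h1 := Nat.card_congr (Equiv.sumCompl (fun x : Fin 8 => x ∈ O))
    rw [Nat.card_sum, Nat.card_eq_fintype_card (α := Fin 8), Fintype.card_fin] at h1
    have : Nat.card {x : Fin 8 // x ∈ O} = Nat.card O := rfl
    omega
  have h6 : Nat.card f.ker ≤ 6 := by
    refine (Nat.card_le_card_of_injective _ hinj).trans ?_
    rw [Nat.card_perm]
    exact (Nat.factorial_le hc).trans (by decide)
  have hs : Group.IsSolvable f.ker := solvable_of_card (by omega) (by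
    intro hb
    have hpos : 0 < Nat.card f.ker := Nat.card_pos
    rcases hb with hb | hb | hb | hb | hb | hb <;> have := Nat.le_of_dvd hpos hb <;> omega)
  exact (MonoidHom.ker_eq_bot_iff f).1 (h _ inferInstance hs)

/-- The embedding on a large orbit, with points numbered. -/
theorem exists_orbit_rep (K : Subgroup (Perm (Fin 8))) (h : NoSolv K) (a : Fin 8)
    (ho : 5 ≤ Nat.card (MulAction.orbit K a)) :
    ∃ L : Subgroup (Perm (Fin (Nat.card (MulAction.orbit K a)))), Nonempty (K ≃* L) ∧
      MulAction.IsPretransitive L (Fin (Nat.card (MulAction.orbit K a))) := by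
  classical
  set O := MulAction.orbit K a
  let e := Finite.equivFin O
  let f : K →* Perm (Fin (Nat.card O)) :=
    e.permCongrHom.toMonoidHom.comp (MulAction.toPermHom K O)
  have hf : Function.Injective f := e.permCongrHom.injective.comp (faithful_orbit K h a ho)
  refine ⟨f.range, ⟨MonoidHom.ofInjective hf⟩, ⟨fun x y => ?_⟩⟩
  haveI : MulAction.IsPretransitive K O := MulAction.IsPretransitive.mk fun u v => by
    obtain ⟨k, hk⟩ := u.2
    obtain ⟨l, hl⟩ := v.2
    refine ⟨l * k⁻¹, Subtype.ext ?_⟩
    rw [MulAction.orbit.coe_smul, mul_smul, ← hk, inv_smul_smul]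
    exact hl
  obtain ⟨k, hk⟩ := MulAction.exists_smul_eq K (e.symm x) (e.symm y)
  refine ⟨⟨f k, k, rfl⟩, ?_⟩
  show e (k • e.symm x) = y
  rw [hk, Equiv.apply_symm_apply]

theorem deg_seven (L : Subgroup (Perm (Fin 7))) [MulAction.IsPretransitive L (Fin 7)] (h : NoSolv L)
    (hns : ¬ Group.IsSolvable L) (hle : Nat.card L ≤ 2520) : Listed L := by
  by_cases hA : alternatingGroup (Fin 7) ≤ L
  · have h7 : Nat.card (alternatingGroup (Fin 7)) = 2520 := by
      have := card_alt 7 (by norm_num)
      rw [show Nat.factorial 7 = 5040 from rfl] at this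
      omega
    have := Subgroup.eq_of_le_of_card_ge hA (by omega)
    subst this
    exact .inl ⟨7, by norm_num, by norm_num, ⟨MulEquiv.refl _⟩⟩
  · exact listed_one_sixty_eight h
      (Cfsg.Agent.Block.DegSeven.main (Fintype.card_fin 7) L hns hA).1

theorem primitive_of_five (K : Subgroup (Perm (Fin 8))) [MulAction.IsPretransitive K (Fin 8)]
    (g : K) (hg : orderOf g = 5) : MulAction.IsPreprimitive K (Fin 8) := by
  classical
  obtain ⟨hcyc, hcard⟩ := orderOf_cycle (g := (g : Perm (Fin 8))) (p := 5) (by norm_num)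
    (by rw [Subgroup.orderOf_coe, hg]) (by rw [Fintype.card_fin]; norm_num)
  obtain ⟨a, ha⟩ : ∃ a, a ∈ (g : Perm (Fin 8)).support := Finset.card_pos.1 (by omega)
  refine MulAction.IsPreprimitive.of_isTrivialBlock_base (G := K) a fun {B} haB hB => ?_
  have hne : B.Nonempty := ⟨a, haB⟩
  have hmul := hB.ncard_block_mul_ncard_orbit_eq hne
  rw [Nat.card_eq_fintype_card, Fintype.card_fin] at hmul
  by_cases h1 : B.ncard ≤ 1
  · exact .inl ((Set.ncard_le_one_iff_subsingleton).1 h1)
  -- the five-cycle fixes the block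
  have ho : (MulAction.orbit K B).ncard ≤ 4 := by
    by_contra hh
    have := Nat.mul_le_mul (show 2 ≤ B.ncard by omega) (show 5 ≤ (MulAction.orbit K B).ncard by omega)
    omega
  have hd : Nat.card (MulAction.orbit (Subgroup.zpowers g) B) ∣ 5 := by
    have h2 := MulAction.orbitEquivQuotientStabilizer (Subgroup.zpowers g) B
    rw [Nat.card_congr h2, ← Subgroup.index_eq_card]
    refine (Subgroup.index_dvd_card _).trans (dvd_of_eq ?_)
    rw [Nat.card_zpowers, hg]
  have hle : Nat.card (MulAction.orbit (Subgroup.zpowers g) B) ≤ 4 := by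
    rw [Nat.card_coe_set_eq]
    refine le_trans (Set.ncard_le_ncard ?_ (Set.toFinite _)) ho
    rintro C ⟨k, rfl⟩
    exact ⟨(k : K), rfl⟩
  have h15 := (Nat.dvd_prime (by norm_num : Nat.Prime 5)).1 hd
  have hone : Nat.card (MulAction.orbit (Subgroup.zpowers g) B) = 1 := by omega
  have hgB : ∀ i : ℤ, (g ^ i) • B = B := fun i => by
    haveI := (Nat.card_eq_one_iff_unique.1 hone).1
    exact congrArg Subtype.val (Subsingleton.elim
      (⟨_, ⟨⟨g ^ i, Subgroup.zpow_mem_zpowers g i⟩, rfl⟩⟩ : MulAction.orbit (Subgroup.zpowers g) B)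
      ⟨B, MulAction.mem_orbit_self B⟩)
  have hsub : ↑(g : Perm (Fin 8)).support ⊆ B := by
    intro x hx
    obtain ⟨i, hi⟩ := hcyc.exists_zpow_eq (Perm.mem_support.1 ha) (Perm.mem_support.1 hx)
    rw [← hgB i]
    refine ⟨a, haB, ?_⟩
    rw [← hi]
    rfl
  have h5 : 5 ≤ B.ncard := by
    have := Set.ncard_le_ncard hsub (Set.toFinite _)
    rwa [Set.ncard_coe_finset, hcard] at this
  refine .inr (Set.eq_of_subset_of_ncard_le (Set.subset_univ _) ?_ (Set.toFinite _))
  rw [Set.ncard_univ, Nat.card_eq_fintype_card, Fintype.card_fin]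
  have hpos : 0 < (MulAction.orbit K B).ncard := (Set.ncard_pos (Set.toFinite _)).2 ⟨B, MulAction.mem_orbit_self B⟩
  by_contra hh
  have hdd : B.ncard ∣ 8 := ⟨_, hmul.symm⟩
  have key : ∀ c ∈ Nat.divisors 8, 5 ≤ c → c = 8 := by decide +kernel
  exact hh (key _ (Nat.mem_divisors.2 ⟨hdd, by norm_num⟩) h5).ge

/-- No group of order 42 fixing a point of eight consists of even permutations. -/
theorem no_forty_two (S : Subgroup (Perm (Fin 8))) (a : Fin 8) (hS : ∀ s ∈ S, s a = a)
    (hA : S ≤ alternatingGroup (Fin 8)) (g : Perm (Fin 8)) (hg : orderOf g = 7) (hgS : g ∈ S)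
    (hnorm : ∀ s ∈ S, s * g * s⁻¹ ∈ Subgroup.zpowers g) (h2 : 2 ∣ Nat.card S) : False := by
  classical
  haveI : Fact (Nat.Prime 2) := ⟨Nat.prime_two⟩
  obtain ⟨⟨t, htS⟩, ht⟩ := exists_prime_orderOf_dvd_card' (G := S) 2 h2
  rw [Subgroup.orderOf_mk] at ht
  obtain ⟨hcyc, hcard⟩ := orderOf_cycle (g := g) (p := 7) (by norm_num) hg
    (by rw [Fintype.card_fin]; norm_num)
  have hsupp : ∀ x, g x ≠ x ↔ x ≠ a := by
    have hne : g a = a := hS g hgS
    have : g.support = Finset.univ.erase a := by
      refine Finset.eq_of_subset_of_card_le (fun x hx => ?_) ?_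
      · refine Finset.mem_erase.2 ⟨fun e => ?_, Finset.mem_univ _⟩
        exact Perm.mem_support.1 hx (e ▸ hne)
      · rw [hcard, Finset.card_erase_of_mem (Finset.mem_univ _)]
        simp
    intro x
    rw [← Perm.mem_support, this]
    simp
  -- the involution moves exactly four points
  have hfix : 3 ≤ (Finset.univ.filter fun x => t x = x ∧ x ≠ a).card := by
    have hm : t.cycleType = Multiset.replicate (Multiset.card t.cycleType) 2 := by
      obtain ⟨n, hn⟩ := Perm.cycleType_prime_order (σ := t) (by rw [ht]; exact Nat.prime_two)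
      rw [hn, ht, Multiset.card_replicate]
    set k := Multiset.card t.cycleType with hk
    have hsum : t.support.card = 2 * k := by
      rw [← Perm.sum_cycleType, hm, Multiset.sum_replicate]
      exact Nat.mul_comm _ _
    have hev : Perm.sign t = 1 := Perm.mem_alternatingGroup.1 (hA htS)
    rw [Perm.sign_of_cycleType, hm, Multiset.sum_replicate, Multiset.card_replicate, smul_eq_mul] at hev
    have hta : a ∉ t.support := fun hh => Perm.mem_support.1 hh (hS t htS)
    have hle : t.support.card ≤ 7 := by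
      have : t.support ⊆ Finset.univ.erase a := fun x hx =>
        Finset.mem_erase.2 ⟨fun e => hta (e ▸ hx), Finset.mem_univ _⟩
      have := Finset.card_le_card this
      rwa [Finset.card_erase_of_mem (Finset.mem_univ _), Finset.card_univ, Fintype.card_fin] at this
    have hk2 : k ≤ 2 := by
      by_contra hh
      have h3 : k = 3 := by omega
      rw [h3] at hev
      revert hev
      decide
    have heq : (Finset.univ.filter fun x => t x = x ∧ x ≠ a) = (t.supportᶜ).erase a := by
      ext x
      simp [and_comm]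
    rw [heq, Finset.card_erase_of_mem (by simpa using hS t htS), Finset.card_compl, Fintype.card_fin, hsum]
    omega
  obtain ⟨x, hx, y, hy, hxy⟩ := Finset.one_lt_card.1 (show 1 < (Finset.univ.filter fun x => t x = x ∧ x ≠ a).card by omega)
  simp only [Finset.mem_filter, Finset.mem_univ, true_and] at hx hy
  obtain ⟨r, hr⟩ := Subgroup.mem_zpowers_iff.1 (hnorm t htS)
  obtain ⟨i, hi⟩ := hcyc.exists_zpow_eq ((hsupp x).2 hx.2) ((hsupp y).2 hy.2)
  -- conjugation on powers
  have hpow : ∀ j : ℤ, t * g ^ j = g ^ (r * j) * t := fun j => by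
    rw [zpow_mul, hr, conj_zpow, inv_mul_cancel_right]
  have hfixed : ∀ j : ℤ, (g ^ j) x = x → (7 : ℤ) ∣ j := fun j hj => by
    have hg7 : orderOf g = 7 := hg
    have : g ^ j = 1 := by
      ext z
      by_cases hz : z = a
      · have hga : g ^ j ∈ S := S.zpow_mem hgS j
        rw [hz, hS _ hga, Perm.one_apply]
      · obtain ⟨l, rfl⟩ := hcyc.exists_zpow_eq ((hsupp x).2 hx.2) ((hsupp z).2 hz)
        rw [Perm.one_apply, ← Perm.mul_apply, ← zpow_add, add_comm, zpow_add, Perm.mul_apply, hj]
    have := orderOf_dvd_iff_zpow_eq_one.2 this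
    rwa [hg7] at this
  have h3 : (g ^ (r * i)) x = y := by
    have := DFunLike.congr_fun (hpow i) x
    rw [Perm.mul_apply, Perm.mul_apply, hi, hy.1, hx.1] at this
    exact this.symm
  have h4 : (7 : ℤ) ∣ (r - 1) * i := by
    refine hfixed _ ?_
    rw [sub_mul, one_mul, sub_eq_neg_add, zpow_add, Perm.mul_apply, h3, ← hi, ← Perm.mul_apply,
      ← zpow_add, neg_add_cancel, zpow_zero, Perm.one_apply]
  rcases (Int.Prime.dvd_mul' (by norm_num : Nat.Prime 7) h4) with h5 | h5
  · -- the involution centralises the cycle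
    have hgr : g ^ r = g := by
      conv_rhs => rw [← zpow_one g]
      exact (orderOf_dvd_sub_iff_zpow_eq_zpow).1 (by rw [hg]; exact_mod_cast h5)
    rw [hgr] at hr
    have hone : t = 1 := by
      ext z
      by_cases hz : z = a
      · rw [hz, hS t htS, Perm.one_apply]
      · obtain ⟨j, rfl⟩ := hcyc.exists_zpow_eq ((hsupp x).2 hx.2) ((hsupp z).2 hz)
        have hc : Commute t g := by
          have h6 := congrArg (fun w => w * t) hr
          simp only [inv_mul_cancel_right] at h6
          exact h6.symm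
        rw [Perm.one_apply, ← Perm.mul_apply, (hc.zpow_right j).eq, Perm.mul_apply, hx.1]
    rw [hone, orderOf_one] at ht
    exact absurd ht (by norm_num)
  · have : g ^ i = 1 := orderOf_dvd_iff_zpow_eq_one.1 (by rw [hg]; exact_mod_cast h5)
    rw [this, Perm.one_apply] at hi
    exact hxy hi

theorem deg_eight (K : Subgroup (Perm (Fin 8))) (hA : K ≤ alternatingGroup (Fin 8)) (h : NoSolv K)
    (hns : ¬ Group.IsSolvable K) [MulAction.IsPretransitive K (Fin 8)]
    (hp : 5 ∣ Nat.card K ∨ 7 ∣ Nat.card K) : Listed K ∨ Nat.card K = 1344 := by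
  classical
  have h20 : Nat.card K ∣ 20160 := by
    have h8 := card_alt 8 (by norm_num)
    rw [show Nat.factorial 8 = 40320 from rfl] at h8
    have h9 := Subgroup.card_dvd_of_le hA
    rwa [show Nat.card (alternatingGroup (Fin 8)) = 20160 by omega] at h9
  by_cases h5 : 5 ∣ Nat.card K
  · haveI : Fact (Nat.Prime 5) := ⟨by norm_num⟩
    obtain ⟨g, hg⟩ := exists_prime_orderOf_dvd_card' (G := K) 5 h5
    obtain ⟨hc, hcard⟩ := orderOf_cycle (g := (g : Perm (Fin 8))) (p := 5) (by norm_num)
      (by rw [Subgroup.orderOf_coe, hg]) (by rw [Fintype.card_fin]; norm_num)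
    have halt := Cfsg.Agent.Transfer.JordanPrimeCycle.alternatingGroup_le_of_cycle (primitive_of_five K g hg) (p := 5)
      (by norm_num) (by rw [Fintype.card_fin]) hc hcard g.2
    have := le_antisymm hA halt
    subst this
    exact .inl (.inl ⟨8, by norm_num, le_rfl, ⟨MulEquiv.refl _⟩⟩)
  have h7 := hp.resolve_left h5
  haveI : Fact (Nat.Prime 7) := ⟨by norm_num⟩
  -- a point stabiliser is transitive on the seven other points
  set S := MulAction.stabilizer K (0 : Fin 8) with hSdef
  have hidx : S.index = 8 := by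
    rw [hSdef, MulAction.index_stabilizer_of_transitive, Nat.card_eq_fintype_card, Fintype.card_fin]
  have hmul := Subgroup.card_mul_index S
  rw [hidx] at hmul
  have hS7 : 7 ∣ Nat.card S := by
    rw [← hmul] at h7
    exact (Nat.Coprime.dvd_mul_right (by norm_num)).1 h7
  obtain ⟨g, hg⟩ := exists_prime_orderOf_dvd_card' (G := S) 7 hS7
  have hgP : orderOf ((g : K) : Perm (Fin 8)) = 7 := by rw [Subgroup.orderOf_coe, Subgroup.orderOf_coe, hg]
  obtain ⟨hcyc, hcard⟩ := orderOf_cycle (p := 7) (by norm_num) hgP (by rw [Fintype.card_fin]; norm_num)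
  let f : S →* Perm {x : Fin 8 // x ≠ 0} :=
    { toFun := fun s => ((s : K) : Perm (Fin 8)).subtypePerm (fun x => by
        have hs : ((s : K) : Perm (Fin 8)) 0 = 0 := s.2
        exact not_congr ⟨fun e => by rwa [← hs, EmbeddingLike.apply_eq_iff_eq] at e, fun e => by rw [e, hs]⟩)
      map_one' := by ext x; rfl
      map_mul' := fun s t => by ext x; rfl }
  have hf : Function.Injective f := by
    rw [injective_iff_map_eq_one]
    intro s hs
    apply Subtype.ext
    apply Subtype.ext
    ext x
    by_cases hx : x = 0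
    · subst hx
      exact congrArg Fin.val s.2
    · exact congrArg (fun z : {x : Fin 8 // x ≠ 0} => (z.1 : ℕ)) (DFunLike.congr_fun hs (⟨x, hx⟩ : {x : Fin 8 // x ≠ 0}))
  have hα : Fintype.card {x : Fin 8 // x ≠ 0} = 7 := rfl
  set L := f.range
  let e : S ≃* L := MonoidHom.ofInjective hf
  haveI : MulAction.IsPretransitive L {x : Fin 8 // x ≠ 0} := by
    refine MulAction.IsPretransitive.mk fun x y => ?_
    have hm : ∀ z : {x : Fin 8 // x ≠ 0}, ((g : K) : Perm (Fin 8)) z.1 ≠ z.1 := by
      intro z
      have hs : ((g : K) : Perm (Fin 8)).support = Finset.univ.erase 0 := by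
        refine Finset.eq_of_subset_of_card_le (fun w hw => ?_) ?_
        · refine Finset.mem_erase.2 ⟨fun e => ?_, Finset.mem_univ _⟩
          subst e
          exact Perm.mem_support.1 hw g.2
        · rw [hcard, Finset.card_erase_of_mem (Finset.mem_univ _)]
          simp
      exact Perm.mem_support.1 (hs ▸ Finset.mem_erase.2 ⟨z.2, Finset.mem_univ _⟩)
    obtain ⟨i, hi⟩ := hcyc.exists_zpow_eq (hm x) (hm y)
    refine ⟨⟨f (g ^ i), g ^ i, rfl⟩, Subtype.ext ?_⟩
    show (((g ^ i : S) : K) : Perm (Fin 8)) x.1 = y.1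
    simpa using hi
  have hSL : Nat.card L = Nat.card S := Nat.card_congr e.symm.toEquiv
  by_cases hs : Group.IsSolvable L
  · -- solvable stabiliser
    haveI := hs
    obtain ⟨P⟩ : Nonempty (Sylow 7 L) := inferInstance
    haveI hPn := Cfsg.Agent.Block.PrimeTwoP.normal_of_solvable hα L P
    have h42 : Nat.card S ∣ 42 := by
      have := Cfsg.Agent.Block.primeDeg_card_normalizer_dvd hα L P
      rwa [Subgroup.normalizer_eq_top_iff.2 hPn, Subgroup.card_top, hSL] at this
    have hle := Nat.le_of_dvd (by norm_num) h42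
    have hb := bad_of_not_solvable _ K rfl (by omega) hns
    by_cases h2 : 2 ∣ Nat.card S
    · exfalso
      have hgnorm : ∀ s : S, s * g * s⁻¹ ∈ Subgroup.zpowers g := by
        intro s
        have hPc : Nat.card (P : Subgroup L) = 7 := Cfsg.Agent.Block.primeDeg_card_sylow hα L P
        have hgL : ∀ u : S, orderOf u = 7 → e u ∈ (P : Subgroup L) := by
          intro u hu
          haveI := Sylow.unique_of_normal P hPn
          have hp : IsPGroup 7 (Subgroup.zpowers (e u)) := IsPGroup.of_card (n := 1)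
            (by rw [Nat.card_zpowers, MulEquiv.orderOf_eq, hu, pow_one])
          obtain ⟨T, hT⟩ := hp.exists_le_sylow
          rw [Subsingleton.elim T P] at hT
          exact hT (Subgroup.mem_zpowers _)
        have heq : (Subgroup.zpowers (e g)) = (P : Subgroup L) :=
          Subgroup.eq_of_le_of_card_ge (Subgroup.zpowers_le.2 (hgL g hg))
            (by rw [hPc, Nat.card_zpowers, MulEquiv.orderOf_eq, hg])
        have := hPn.conj_mem _ (hgL g hg) (e s)
        rw [← heq, ← map_inv, ← map_mul, ← map_mul, Subgroup.mem_zpowers_iff] at this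
        obtain ⟨j, hj⟩ := this
        rw [← map_zpow] at hj
        exact ⟨j, e.injective hj⟩
      refine no_forty_two ((S.map K.subtype)) 0 ?_ ((Subgroup.map_subtype_le _).trans hA) _ hgP
        (Subgroup.mem_map_of_mem _ g.2) ?_ (by rwa [Subgroup.card_map_of_injective (Subgroup.subtype_injective _)])
      · rintro _ ⟨s, hs', rfl⟩
        exact hs'
      · rintro _ ⟨s, hs', rfl⟩
        obtain ⟨j, hj⟩ := Subgroup.mem_zpowers_iff.1 (hgnorm ⟨s, hs'⟩)
        refine Subgroup.mem_zpowers_iff.2 ⟨j, ?_⟩
        have := congrArg (fun u : S => ((u : K) : Perm (Fin 8))) hj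
        simpa using this
    · left
      refine listed_one_sixty_eight h ?_
      have hsS : Nat.card S = 7 ∨ Nat.card S = 21 := by
        have key : ∀ c ∈ Nat.divisors 42, 7 ∣ c → ¬ 2 ∣ c → (c = 7 ∨ c = 21) := by decide +kernel
        exact key _ (Nat.mem_divisors.2 ⟨h42, by norm_num⟩) hS7 h2
      rcases hsS with hh | hh
      · exfalso
        rw [show Nat.card K = 56 by omega] at hb
        rcases hb with hb | hb | hb | hb | hb | hb <;> omega
      · omega
  · -- nonsolvable stabiliser
    right
    have hA7 : ¬ alternatingGroup {x : Fin 8 // x ≠ 0} ≤ L := fun hh => h5 (by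
      have h3 := Subgroup.card_dvd_of_le hh
      haveI : Nontrivial {x : Fin 8 // x ≠ 0} := Fintype.one_lt_card_iff_nontrivial.1 (by rw [hα]; norm_num)
      have h4 : Nat.card (alternatingGroup {x : Fin 8 // x ≠ 0}) = 2520 := by
        have := two_mul_card_alternatingGroup (α := {x : Fin 8 // x ≠ 0})
        rw [Fintype.card_perm, hα, show Nat.factorial 7 = 5040 from rfl] at this
        rw [Nat.card_eq_fintype_card]
        omega
      rw [h4, hSL] at h3
      exact ((show 5 ∣ 2520 by norm_num).trans h3).trans (hmul ▸ dvd_mul_right _ _))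
    obtain ⟨h168, -⟩ := Cfsg.Agent.Block.DegSeven.main hα L hs hA7
    omega

theorem eight (K : Subgroup (Perm (Fin 8))) (hA : K ≤ alternatingGroup (Fin 8)) (hne : K ≠ ⊥)
    (h : NoSolv K) : Listed K ∨ Nat.card K = 1344 := by
  classical
  haveI : Nontrivial K := (Subgroup.nontrivial_iff_ne_bot K).2 hne
  have hns := h.not_solvable
  have h20 : Nat.card K ∣ 20160 := by
    have h8 := card_alt 8 (by norm_num)
    rw [show Nat.factorial 8 = 40320 from rfl] at h8
    have h9 := Subgroup.card_dvd_of_le hA
    rwa [show Nat.card (alternatingGroup (Fin 8)) = 20160 by omega] at h9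
  have hp : 5 ∣ Nat.card K ∨ 7 ∣ Nat.card K := by
    by_contra hh
    push Not at hh
    have h576 : Nat.card K ∣ 576 := by
      have hc : (Nat.card K).Coprime 35 := Nat.Coprime.mul_right
        (((Nat.Prime.coprime_iff_not_dvd (by norm_num : Nat.Prime 5)).2 hh.1).symm)
        (((Nat.Prime.coprime_iff_not_dvd (by norm_num : Nat.Prime 7)).2 hh.2).symm)
      exact hc.dvd_of_dvd_mul_right h20
    have hle := Nat.le_of_dvd (by norm_num) h576
    have hb := bad_of_not_solvable _ K rfl (by omega) hns
    have key : ∀ c ∈ Nat.divisors 576, ¬ (60 ∣ c ∨ 168 ∣ c ∨ 360 ∣ c ∨ 504 ∣ c ∨ 660 ∣ c ∨ 1092 ∣ c) := by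
      decide +kernel
    exact key _ (Nat.mem_divisors.2 ⟨h576, by norm_num⟩) hb
  obtain ⟨p, hp', hp57, g, hg⟩ : ∃ p : ℕ, p.Prime ∧ (p = 5 ∨ p = 7) ∧ ∃ g : K, orderOf g = p := by
    rcases hp with hh | hh
    · haveI : Fact (Nat.Prime 5) := ⟨by norm_num⟩
      exact ⟨5, by norm_num, .inl rfl, exists_prime_orderOf_dvd_card' (G := K) 5 hh⟩
    · haveI : Fact (Nat.Prime 7) := ⟨by norm_num⟩
      exact ⟨7, by norm_num, .inr rfl, exists_prime_orderOf_dvd_card' (G := K) 7 hh⟩
  obtain ⟨hcyc, hcard⟩ := orderOf_cycle (g := (g : Perm (Fin 8))) hp' (by rw [Subgroup.orderOf_coe, hg])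
    (by rw [Fintype.card_fin]; omega)
  obtain ⟨a, ha⟩ : ∃ a, a ∈ (g : Perm (Fin 8)).support := Finset.card_pos.1 (by omega)
  have ho : 5 ≤ Nat.card (MulAction.orbit K a) := by
    have hsub : ↑(g : Perm (Fin 8)).support ⊆ MulAction.orbit K a := by
      intro x hx
      obtain ⟨i, hi⟩ := hcyc.exists_zpow_eq (Perm.mem_support.1 ha) (Perm.mem_support.1 hx)
      exact ⟨g ^ i, by rw [← hi]; rfl⟩
    have := Set.ncard_le_ncard hsub (Set.toFinite _)
    rw [Set.ncard_coe_finset, hcard] at this
    rw [Nat.card_coe_set_eq]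
    omega
  obtain ⟨L, ⟨e⟩, hL⟩ := exists_orbit_rep K h a ho
  have hm8 : Nat.card (MulAction.orbit K a) ≤ 8 := by
    rw [Nat.card_coe_set_eq]
    have := Set.ncard_le_ncard (Set.subset_univ (MulAction.orbit K a)) (Set.toFinite _)
    rwa [Set.ncard_univ, Nat.card_eq_fintype_card, Fintype.card_fin] at this
  have hLs : ¬ Group.IsSolvable L := fun hs => hns (Group.isSolvable_of_isSolvable_injective (f := e.toMonoidHom) e.injective)
  have hLn : NoSolv L := h.of_equiv e.symm
  have hcards : Nat.card L = Nat.card K := Nat.card_congr e.symm.toEquiv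
  by_cases h8 : Nat.card (MulAction.orbit K a) = 8
  · haveI : MulAction.IsPretransitive K (Fin 8) := by
      have huniv : MulAction.orbit K a = Set.univ := Set.eq_of_subset_of_ncard_le (Set.subset_univ _)
        (by rw [Set.ncard_univ, Nat.card_eq_fintype_card, Fintype.card_fin, ← Nat.card_coe_set_eq, h8])
        (Set.toFinite _)
      refine (MulAction.isPretransitive_iff_base a).2 fun x => ?_
      show x ∈ MulAction.orbit K a
      rw [huniv]
      trivial
    exact deg_eight K hA h hns hp
  left
  refine Listed.of_equiv e ?_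
  by_cases hK7 : 2520 < Nat.card K
  · refine Listed.of_equiv e.symm ?_
    have := eq_alt_of_large K hA hK7
    subst this
    exact .inl ⟨8, by norm_num, le_rfl, ⟨MulEquiv.refl _⟩⟩
  · generalize Nat.card (MulAction.orbit K a) = m at L e hL ho hm8 hLs hLn hcards h8
    have hm : m = 5 ∨ m = 6 ∨ m = 7 := by omega
    rcases hm with rfl | rfl | rfl
    · exact deg_five L hLn hLs
    · exact deg_six L hLn hLs
    · exact deg_seven L hLn hLs (by omega)

end Cfsg.Agent.Lie.EightSub
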