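import Mathlib

/-! Trace identities in a dihedral Hecke algebra acting on a finite set (Feit–Higman). -/

set_option autoImplicit false

namespace Cfsg.Agent.Lie.FH

open Matrix
open scoped ComplexConjugate ComplexOrder

variable {X : Type*} [Fintype X] [DecidableEq X]

theorem eq_zero_of_trace {A : Matrix X X ℂ} {B : Matrix X X ℂ} (c : ℝ) (hc : 0 < c)
    (h : Aᴴ * A = (-(c : ℂ)) • (Bᴴ * B)) : B = 0 := by
  have key : ∀ M : Matrix X X ℂ,
      (Mᴴ * M).trace = ((∑ i, ∑ j, Complex.normSq (M j i) : ℝ) : ℂ) := by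
    intro M
    simp [Matrix.trace, Matrix.mul_apply, Complex.normSq_eq_conj_mul_self]
  have h2 := congrArg Matrix.trace h
  rw [Matrix.trace_smul, key, key, smul_eq_mul, ← Complex.ofReal_neg, ← Complex.ofReal_mul,
    Complex.ofReal_inj] at h2
  have hA : (0 : ℝ) ≤ ∑ i, ∑ j, Complex.normSq (A j i) :=
    Finset.sum_nonneg fun i _ => Finset.sum_nonneg fun j _ => Complex.normSq_nonneg _
  have hB : (0 : ℝ) ≤ ∑ i, ∑ j, Complex.normSq (B j i) :=
    Finset.sum_nonneg fun i _ => Finset.sum_nonneg fun j _ => Complex.normSq_nonneg _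
  have h0 : ∑ i, ∑ j, Complex.normSq (B j i) = 0 := by nlinarith
  ext i j
  have h1 := (Finset.sum_eq_zero_iff_of_nonneg fun i _ =>
    Finset.sum_nonneg fun j _ => Complex.normSq_nonneg _).1 h0 j (Finset.mem_univ j)
  exact Complex.normSq_eq_zero.1 ((Finset.sum_eq_zero_iff_of_nonneg fun j _ =>
    Complex.normSq_nonneg _).1 h1 i (Finset.mem_univ i))

/-- Projection onto the kernel of a skew-Hermitian matrix, with an inverse on the range. -/
theorem exists_projection {K : Matrix X X ℂ} (hK : Kᴴ = -K) :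
    ∃ P Y : Matrix X X ℂ, P * P = P ∧ K * P = 0 ∧ P * K = 0 ∧ Y * K = 1 - P ∧ K * Y = 1 - P := by
  have hker : ∀ M : Matrix X X ℂ, K * (K * M) = 0 → K * M = 0 := by
    intro M hM
    refine Matrix.conjTranspose_mul_self_eq_zero.1 ?_
    rw [Matrix.conjTranspose_mul, hK]
    simp [mul_assoc, hM]
  have hμ : minpoly ℂ K ≠ 0 := minpoly.ne_zero (Algebra.IsIntegral.isIntegral K)
  obtain ⟨g, hg, hndvd⟩ := Polynomial.exists_eq_pow_rootMultiplicity_mul_and_not_dvd _ hμ 0
  have hg0 : g.coeff 0 ≠ 0 := by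
    simpa [Polynomial.X_dvd_iff] using hndvd
  have h0 : K * Polynomial.aeval K g = 0 := by
    have h := minpoly.aeval ℂ K
    rw [hg] at h
    simp only [map_mul, map_pow, map_sub, Polynomial.aeval_X, map_zero, sub_zero] at h
    generalize (minpoly ℂ K).rootMultiplicity 0 = r at h
    induction r with
    | zero => rw [pow_zero, one_mul] at h; rw [h, mul_zero]
    | succ r ih =>
      cases r with
      | zero => simpa using h
      | succ r =>
        apply ih
        rw [pow_succ', mul_assoc]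
        apply hker
        rw [pow_succ', pow_succ'] at h
        simpa [mul_assoc] using h
  have hg' : Polynomial.aeval K g = g.coeff 0 • (1 : Matrix X X ℂ)
      + K * Polynomial.aeval K g.divX := by
    have e := congrArg (Polynomial.aeval K) (Polynomial.X_mul_divX_add g)
    simp only [map_add, map_mul, Polynomial.aeval_X, Polynomial.aeval_C,
      Algebra.algebraMap_eq_smul_one] at e
    rw [← e, add_comm]
  refine ⟨(g.coeff 0)⁻¹ • Polynomial.aeval K g, -(g.coeff 0)⁻¹ • Polynomial.aeval K g.divX,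
    ?_, ?_, ?_, ?_, ?_⟩
  pick_goal 5
  · rw [mul_smul_comm, hg']
    rw [smul_add, inv_smul_smul₀ hg0, neg_smul]
    abel
  pick_goal 4
  · have hc : Polynomial.aeval K g.divX * K = K * Polynomial.aeval K g.divX := by
      conv_lhs => arg 2; rw [← Polynomial.aeval_X (R := ℂ) K]
      conv_rhs => arg 1; rw [← Polynomial.aeval_X (R := ℂ) K]
      rw [← map_mul, ← map_mul, mul_comm]
    rw [smul_mul_assoc, hc, hg']
    rw [smul_add, inv_smul_smul₀ hg0, neg_smul]
    abel
  pick_goal 2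
  · rw [mul_smul_comm, h0, smul_zero]
  · have hc : Polynomial.aeval K g * K = 0 := by
      have : Polynomial.aeval K g * K = K * Polynomial.aeval K g := by
        conv_lhs => arg 2; rw [← Polynomial.aeval_X (R := ℂ) K]
        conv_rhs => arg 1; rw [← Polynomial.aeval_X (R := ℂ) K]
        rw [← map_mul, ← map_mul, mul_comm]
      rw [this, h0]
    rw [smul_mul_assoc, mul_smul_comm]
    conv_lhs => arg 2; arg 2; arg 2; rw [hg']
    rw [mul_add, mul_smul_comm, mul_one, ← mul_assoc, hc, zero_mul, add_zero, inv_smul_smul₀ hg0]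
  · have : Polynomial.aeval K g * K = K * Polynomial.aeval K g := by
      conv_lhs => arg 2; rw [← Polynomial.aeval_X (R := ℂ) K]
      conv_rhs => arg 1; rw [← Polynomial.aeval_X (R := ℂ) K]
      rw [← map_mul, ← map_mul, mul_comm]
    rw [smul_mul_assoc, this, h0, smul_zero]

/-- The trace of an idempotent is a natural number. -/
theorem exists_nat_trace {E : Matrix X X ℂ} (hE : E * E = E) : ∃ h : ℕ, E.trace = h := by
  have hi : IsIdempotentElem (Matrix.toLin' E) := by
    show Matrix.toLin' E * Matrix.toLin' E = _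
    rw [Module.End.mul_eq_comp, ← Matrix.toLin'_mul, hE]
  exact ⟨_, by rw [← Matrix.trace_toLin'_eq]; exact (LinearMap.IsIdempotentElem.isProj_range _ hi).trace⟩

/-- The standing hypotheses: two adjacency operators of a dihedral Hecke algebra. -/
structure Hecke (a b : Matrix X X ℂ) (p q : ℕ) (v : ℝ) (m : ℕ) : Prop where
  hp : 2 ≤ p
  hq : 2 ≤ q
  hm : m ≠ 0
  hv : 0 < v
  hv2 : v ^ 2 = p * q
  ha : aᴴ = a
  hb : bᴴ = b
  ha2 : a * a = ((p : ℂ) - 1) • a + (p : ℂ) • 1
  hb2 : b * b = ((q : ℂ) - 1) • b + (q : ℂ) • 1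
  sq : ∃ M : Matrix X X ℂ, Mᴴ = M ∧ (a * b) ^ m = M * M
  comm_a : Commute ((a * b) ^ m) a
  comm_b : Commute ((a * b) ^ m) b
  tr_pow : ∀ k, k ≠ 0 → k < m → ((a * b) ^ k).trace = 0
  tr_pow_a : ∀ k, k < m → ((a * b) ^ k * a).trace = 0
  tr_b : b.trace = 0
  tr_top : ((a * b) ^ m).trace = (Fintype.card X : ℂ) * (v : ℂ) ^ m
  tr_top_a : ((a * b) ^ m * a).trace = ((p : ℂ) - 1) * Fintype.card X * (v : ℂ) ^ m
  tr_top_b : ((a * b) ^ m * b).trace = ((q : ℂ) - 1) * Fintype.card X * (v : ℂ) ^ m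

theorem mul_sub_smul {R : Matrix X X ℂ} {t s : ℂ} (h : R * R = t • R + s • 1) :
    R * (R - t • 1) = s • 1 ∧ (R - t • 1) * R = s • 1 := by
  constructor
  · rw [mul_sub, h, mul_smul_comm, mul_one]; abel
  · rw [sub_mul, h, smul_mul_assoc, one_mul]; abel

theorem skew_rel {a b : Matrix X X ℂ} {t s : ℂ} (h : a * a = t • a + s • 1) :
    (a * b - b * a) * a = (t • 1 - a) * (a * b - b * a) ∧
      a * (a * b - b * a) = (a * b - b * a) * (t • 1 - a) := by
  constructor
  · calc (a * b - b * a) * a = a * b * a - b * (a * a) := by noncomm_ring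
      _ = t • (a * b - b * a) - a * a * b + a * b * a := by
        rw [h]
        simp only [mul_add, add_mul, mul_smul_comm, smul_mul_assoc, mul_one, one_mul]
        module
      _ = _ := by
        simp only [sub_mul, mul_sub, smul_mul_assoc, one_mul, mul_assoc, smul_sub]
        abel
  · calc a * (a * b - b * a) = a * a * b - a * b * a := by noncomm_ring
      _ = t • (a * b - b * a) - a * b * a + b * (a * a) := by
        rw [h]
        simp only [mul_add, add_mul, mul_smul_comm, smul_mul_assoc, mul_one, one_mul]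
        module
      _ = _ := by
        simp only [sub_mul, mul_sub, mul_smul_comm, mul_one, mul_assoc, smul_sub]
        abel

theorem eigen_pow {c R : Matrix X X ℂ} {l : ℂ} (h : c * R = l • R) :
    ∀ k : ℕ, c ^ k * R = l ^ k • R
  | 0 => by simp
  | k + 1 => by rw [pow_succ, mul_assoc, h, mul_smul_comm, eigen_pow h k, smul_smul, pow_succ']

variable {a b : Matrix X X ℂ} {p q : ℕ} {v : ℝ} {m : ℕ}

/-- The multiplicity of an eigenvalue of `a * b`. -/
theorem Hecke.multiplicity (H : Hecke a b p q v m) {w : ℂ} (hwm : w ^ m = 1) :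
    ∃ h : ℕ, (m * h : ℂ) * ((v : ℂ) * (w + w⁻¹) - (1 + p * q)) * ((v : ℂ) * (w + w⁻¹) + (p + q)) =
      Fintype.card X * (((v : ℂ) * (w + w⁻¹)) ^ 2 - 4 * (p * q)) := by
  obtain ⟨M, hM, hCM⟩ := H.sq
  set c := a * b with hc
  set t : ℂ := (p : ℂ) - 1 with ht
  set u : ℂ := (q : ℂ) - 1 with hu
  set vc : ℂ := (v : ℂ) with hvc
  have hv0 : vc ≠ 0 := by simp [hvc, H.hv.ne']
  have hv2 : vc ^ 2 = (p : ℂ) * q := by rw [hvc]; exact_mod_cast H.hv2
  set K := a * b - b * a with hKdef
  have hK : Kᴴ = -K := by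
    simp [hKdef, Matrix.conjTranspose_sub, Matrix.conjTranspose_mul, H.ha, H.hb]
  obtain ⟨P, Y, hPP, hKP, hPK, hYK, hKY⟩ := exists_projection hK
  set Q := (1 : Matrix X X ℂ) - P with hQ
  have hQQ : Q * Q = Q := by rw [hQ, sub_mul, one_mul, mul_sub, mul_one, hPP]; abel
  have hKQ : K * Q = K := by rw [hQ, mul_sub, mul_one, hKP, sub_zero]
  obtain ⟨Ka, aK⟩ := skew_rel (b := b) H.ha2
  obtain ⟨Kb', bK'⟩ := skew_rel (b := a) H.hb2
  have Kb : K * b = (u • 1 - b) * K := by
    rw [hKdef, show a * b - b * a = -(b * a - a * b) by abel, neg_mul, mul_neg, Kb']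
  have bK : b * K = K * (u • 1 - b) := by
    rw [hKdef, show a * b - b * a = -(b * a - a * b) by abel, neg_mul, mul_neg, bK']
  have hP : ∀ R : Matrix X X ℂ, ∀ R' : Matrix X X ℂ, K * R = R' * K → R * K = K * R' →
      R * P = P * R := by
    intro R R' h1 h2
    have e1 : R * P = P * (R * P) := by
      have : Q * (R * P) = 0 := by
        rw [← hYK, mul_assoc, ← mul_assoc K, h1, mul_assoc, hKP, mul_zero, mul_zero]
      rwa [hQ, sub_mul, one_mul, sub_eq_zero] at this
    have e2 : P * R = P * (R * P) := by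
      have : P * R * Q = 0 := by
        rw [← hKY, ← mul_assoc, mul_assoc P, h2, ← mul_assoc P, hPK, zero_mul, zero_mul]
      rw [hQ, mul_sub, mul_one, sub_eq_zero] at this
      rwa [mul_assoc] at this
    rw [e1, ← e2]
  have hPa := hP a _ Ka aK
  have hPb := hP b _ Kb bK
  have haQ : a * Q = Q * a := by rw [hQ, mul_sub, sub_mul, hPa, one_mul, mul_one]
  have hbQ : b * Q = Q * b := by rw [hQ, mul_sub, sub_mul, hPb, one_mul, mul_one]
  have hcQ : c * Q = Q * c := by rw [hc, mul_assoc, hbQ, ← mul_assoc, haQ, mul_assoc]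
  -- the central element
  have hCK : c ^ m * K = vc ^ m • K := by
    set e := (t • 1 - a) * (u • 1 - b) with he
    have hKc : K * c = e * K := by
      rw [hc, ← mul_assoc, Ka, mul_assoc, Kb, he, mul_assoc]
    have h1 : e * (b * a) = ((p : ℂ) * q) • 1 := by
      have hb' := (mul_sub_smul H.hb2).2
      have ha' := (mul_sub_smul H.ha2).2
      calc e * (b * a) = (a - t • 1) * ((b - u • 1) * b) * a := by
            rw [he, ← neg_sub a, ← neg_sub b]
            simp only [neg_mul, mul_neg, neg_neg, mul_assoc]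
        _ = _ := by
          rw [hb', mul_smul_comm, mul_one, smul_mul_assoc, ha', smul_smul, mul_comm (p : ℂ)]
    have h2 : (b * a) * e = ((p : ℂ) * q) • 1 := by
      have hb' := (mul_sub_smul H.hb2).1
      have ha' := (mul_sub_smul H.ha2).1
      calc (b * a) * e = b * (a * (a - t • 1)) * (b - u • 1) := by
            rw [he, ← neg_sub a, ← neg_sub b]
            simp only [neg_mul, mul_neg, neg_neg, mul_assoc]
        _ = _ := by rw [ha', mul_smul_comm, mul_one, smul_mul_assoc, hb', smul_smul]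
    have hKcm : K * c ^ m = e ^ m * K := SemiconjBy.pow_right (show SemiconjBy K c e from hKc) m
    have hd : (b * a) ^ m = c ^ m := by
      have e1 : (c ^ m)ᴴ = (b * a) ^ m := by
        rw [Matrix.conjTranspose_pow, hc, Matrix.conjTranspose_mul, H.ha, H.hb]
      rw [← e1, hCM, Matrix.conjTranspose_mul, hM]
    have hde : c ^ m * e ^ m = ((p : ℂ) * q) ^ m • 1 := by
      rw [← hd, ← (show Commute (b * a) e from h2.trans h1.symm).mul_pow, h2, smul_pow, one_pow]
    have hCcomm : c ^ m * K = K * c ^ m := by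
      have := ((H.comm_a.mul_right H.comm_b).sub_right (H.comm_b.mul_right H.comm_a))
      exact this
    have hCCK : c ^ m * (c ^ m * K) = (vc ^ m * vc ^ m) • K := by
      rw [hCcomm, hKcm, ← mul_assoc, hde, smul_mul_assoc, one_mul, ← mul_pow, ← pow_two, hv2]
    have hz : c ^ m * K - vc ^ m • K = 0 := by
      set Z := c ^ m * K - vc ^ m • K with hZ
      refine eq_zero_of_trace (A := M * Z) (v ^ m) (pow_pos H.hv m) ?_
      have hCZ : c ^ m * Z = (-(vc ^ m)) • Z := by
        rw [hZ, mul_sub, hCCK, mul_smul_comm]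
        module
      rw [Matrix.conjTranspose_mul, hM, mul_assoc, ← mul_assoc M, ← hCM, hCZ, mul_smul_comm,
        Complex.ofReal_pow]
    exact sub_eq_zero.1 hz
  have hCQ : c ^ m * Q = vc ^ m • Q := by rw [← hKY, ← mul_assoc, hCK, smul_mul_assoc]
  -- traces on the range part
  have htraQ : 2 * (a * Q).trace = t * Q.trace := by
    have e1 : a * Q = Y * (K * a * Q) := by
      rw [← mul_assoc, ← mul_assoc, hYK, mul_assoc, haQ, ← mul_assoc, hQQ]
    have e2 : (a * Q).trace = ((t • 1 - a) * Q).trace := by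
      rw [e1, Ka, mul_assoc (t • 1 - a), hKQ, Matrix.trace_mul_comm, mul_assoc, hKY]
    rw [sub_mul, smul_mul_assoc, one_mul, Matrix.trace_sub, Matrix.trace_smul, smul_eq_mul] at e2
    linear_combination e2
  have htrbQ : 2 * (b * Q).trace = u * Q.trace := by
    have e1 : b * Q = Y * (K * b * Q) := by
      rw [← mul_assoc, ← mul_assoc, hYK, mul_assoc, hbQ, ← mul_assoc, hQQ]
    have e2 : (b * Q).trace = ((u • 1 - b) * Q).trace := by
      rw [e1, Kb, mul_assoc (u • 1 - b), hKQ, Matrix.trace_mul_comm, mul_assoc, hKY]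
    rw [sub_mul, smul_mul_assoc, one_mul, Matrix.trace_sub, Matrix.trace_smul, smul_eq_mul] at e2
    linear_combination e2
  -- the linear characters
  have hp1 : (p : ℂ) + 1 ≠ 0 := by exact_mod_cast Nat.succ_ne_zero p
  have hq1 : (q : ℂ) + 1 ≠ 0 := by exact_mod_cast Nat.succ_ne_zero q
  set Ea := ((p : ℂ) + 1)⁻¹ • (1 + a) with hEa
  set Eb := ((q : ℂ) + 1)⁻¹ • (1 + b) with hEb
  have haE : a * Ea = (p : ℂ) • Ea := by
    rw [hEa, mul_smul_comm, mul_add, mul_one, H.ha2, smul_comm (p : ℂ)]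
    congr 1
    module
  have haE' : a * (1 - Ea) = (-1 : ℂ) • (1 - Ea) := by
    have h : ((p : ℂ) + 1) • Ea = 1 + a := by rw [hEa, smul_inv_smul₀ hp1]
    rw [mul_sub, mul_one, haE]
    rw [eq_sub_of_add_eq' h.symm]
    module
  have hbE : b * Eb = (q : ℂ) • Eb := by
    rw [hEb, mul_smul_comm, mul_add, mul_one, H.hb2, smul_comm (q : ℂ)]
    congr 1
    module
  have hbE' : b * (1 - Eb) = (-1 : ℂ) • (1 - Eb) := by
    have h : ((q : ℂ) + 1) • Eb = 1 + b := by rw [hEb, smul_inv_smul₀ hq1]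
    rw [mul_sub, mul_one, hbE]
    rw [eq_sub_of_add_eq' h.symm]
    module
  have hbEa : b * Ea * P = Ea * b * P := by
    have h : (a * b - b * a) * P = 0 := hKP
    rw [sub_mul, sub_eq_zero] at h
    rw [hEa]
    simp only [mul_smul_comm, smul_mul_assoc, mul_add, add_mul, one_mul, mul_one, h]
  have hlin : ∀ (E F : Matrix X X ℂ) (la lb : ℂ), a * E = la • E → b * F = lb • F →
      b * E * P = E * b * P → F * P = P * F →
      a * (E * F * P) = la • (E * F * P) ∧ b * (E * F * P) = lb • (E * F * P) ∧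
        ∀ k, c ^ k * (E * F * P) = (la * lb) ^ k • (E * F * P) := by
    intro E F la lb hE hF hbEP hFP
    have h1 : a * (E * F * P) = la • (E * F * P) := by
      rw [← mul_assoc, ← mul_assoc, hE, smul_mul_assoc, smul_mul_assoc]
    have h2 : b * (E * F * P) = lb • (E * F * P) := by
      calc b * (E * F * P) = b * E * P * F := by
            rw [mul_assoc E, hFP]; simp only [mul_assoc]
        _ = E * b * P * F := by rw [hbEP]
        _ = E * (b * F) * P := by
            rw [mul_assoc (E * b), ← hFP]; simp only [mul_assoc]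
        _ = _ := by rw [hF, mul_smul_comm, smul_mul_assoc]
    refine ⟨h1, h2, eigen_pow ?_⟩
    rw [hc, mul_assoc, h2, mul_smul_comm, h1, smul_smul, mul_comm lb]
  have hbEa' : b * (1 - Ea) * P = (1 - Ea) * b * P := by
    simp only [mul_sub, sub_mul, one_mul, mul_one, hbEa]
  have hEbP : Eb * P = P * Eb := by
    simp only [hEb, smul_mul_assoc, mul_smul_comm, add_mul, mul_add, one_mul, mul_one, hPb]
  have hEbP' : (1 - Eb) * P = P * (1 - Eb) := by
    simp only [mul_sub, sub_mul, one_mul, mul_one, hEbP]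
  obtain ⟨a1, b1, c1⟩ := hlin Ea Eb _ _ haE hbE hbEa hEbP
  obtain ⟨a2, b2, c2⟩ := hlin (1 - Ea) (1 - Eb) _ _ haE' hbE' hbEa' hEbP'
  obtain ⟨a3, b3, c3⟩ := hlin Ea (1 - Eb) _ _ haE hbE' hbEa hEbP'
  obtain ⟨a4, b4, c4⟩ := hlin (1 - Ea) Eb _ _ haE' hbE hbEa' hEbP
  set x1 := (Ea * Eb * P).trace
  set x2 := ((1 - Ea) * (1 - Eb) * P).trace
  set x3 := (Ea * (1 - Eb) * P).trace
  set x4 := ((1 - Ea) * Eb * P).trace
  have hsplit : ∀ R : Matrix X X ℂ, R = R * (Ea * Eb * P) + R * ((1 - Ea) * (1 - Eb) * P) +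
      R * (Ea * (1 - Eb) * P) + R * ((1 - Ea) * Eb * P) + R * Q := by
    intro R
    rw [hQ]
    noncomm_ring
  have tr_k : ∀ k : ℕ, (c ^ k).trace = ((p : ℂ) * q) ^ k * x1 + x2 + (-(p : ℂ)) ^ k * x3 +
      (-(q : ℂ)) ^ k * x4 + (c ^ k * Q).trace := by
    intro k
    conv_lhs => rw [hsplit (c ^ k), c1, c2, c3, c4]
    simp only [Matrix.trace_add, Matrix.trace_smul, smul_eq_mul]
    simp [x1, x2, x3, x4]
  have tr_ka : ∀ k : ℕ, (c ^ k * a).trace = (p : ℂ) * ((p : ℂ) * q) ^ k * x1 - x2 +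
      (p : ℂ) * (-(p : ℂ)) ^ k * x3 - (-(q : ℂ)) ^ k * x4 + (c ^ k * (a * Q)).trace := by
    intro k
    conv_lhs => rw [hsplit (c ^ k * a)]
    simp only [mul_assoc (c ^ k) a, a1, a2, a3, a4, mul_smul_comm, c1, c2, c3, c4,
      Matrix.trace_add, Matrix.trace_smul, smul_eq_mul]
    simp [x1, x2, x3, x4]
    ring
  have tr_kb : ∀ k : ℕ, (c ^ k * b).trace = (q : ℂ) * ((p : ℂ) * q) ^ k * x1 - x2 -
      (-(p : ℂ)) ^ k * x3 + (q : ℂ) * (-(q : ℂ)) ^ k * x4 + (c ^ k * (b * Q)).trace := by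
    intro k
    conv_lhs => rw [hsplit (c ^ k * b)]
    simp only [mul_assoc (c ^ k) b, b1, b2, b3, b4, mul_smul_comm, c1, c2, c3, c4,
      Matrix.trace_add, Matrix.trace_smul, smul_eq_mul]
    simp [x1, x2, x3, x4]
    ring
  set N : ℂ := (Fintype.card X : ℂ) with hN
  have hsum : x1 + x2 + x3 + x4 + Q.trace = N := by
    have := tr_k 0
    simp only [pow_zero, one_mul, Matrix.trace_one] at this
    exact this.symm
  have hta : (p : ℂ) * x1 - x2 + (p : ℂ) * x3 - x4 + (a * Q).trace = 0 := by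
    have := tr_ka 0
    rw [H.tr_pow_a 0 (Nat.pos_of_ne_zero H.hm)] at this
    simp only [pow_zero, one_mul, mul_one] at this
    exact this.symm
  have htb : (q : ℂ) * x1 - x2 - x3 + (q : ℂ) * x4 + (b * Q).trace = 0 := by
    have := tr_kb 0
    simp only [pow_zero, one_mul, mul_one, H.tr_b] at this
    exact this.symm
  -- the four unknowns
  set r3 : ℂ := -(p : ℂ) / vc with hr3
  set r4 : ℂ := -(q : ℂ) / vc with hr4
  set y1 := x1 * (vc ^ m - 1) with hy1
  set y2 := x2 * (vc⁻¹ ^ m - 1) with hy2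
  set y3 := x3 * (r3 ^ m - 1) with hy3
  set y4 := x4 * (r4 ^ m - 1) with hy4
  have e1m : vc ^ m * vc ^ m = ((p : ℂ) * q) ^ m := by rw [← hv2, ← mul_pow, pow_two]
  have e2m : vc ^ m * vc⁻¹ ^ m = 1 := by rw [← mul_pow, mul_inv_cancel₀ hv0, one_pow]
  have e3m : vc ^ m * r3 ^ m = (-(p : ℂ)) ^ m := by rw [← mul_pow, hr3]; congr 1; field_simp
  have e4m : vc ^ m * r4 ^ m = (-(q : ℂ)) ^ m := by rw [← mul_pow, hr4]; congr 1; field_simp
  have hvm : vc ^ m ≠ 0 := pow_ne_zero _ hv0
  have hY0 : y1 + y2 + y3 + y4 = 0 := by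
    have h := tr_k m
    rw [H.tr_top, hCQ, Matrix.trace_smul, smul_eq_mul] at h
    refine mul_left_cancel₀ hvm ?_
    rw [hy1, hy2, hy3, hy4]
    linear_combination -h + vc ^ m * (-1 : ℂ) * hsum + x1 * e1m + x2 * e2m + x3 * e3m + x4 * e4m
  have hYa : (p : ℂ) * (y1 + y3) - (y2 + y4) = t * N := by
    have h := tr_ka m
    rw [H.tr_top_a, show c ^ m * (a * Q) = a * (c ^ m * Q) by
      rw [← mul_assoc, H.comm_a.eq, mul_assoc], hCQ, mul_smul_comm, Matrix.trace_smul,
      smul_eq_mul] at h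
    refine mul_left_cancel₀ hvm ?_
    rw [hy1, hy2, hy3, hy4]
    linear_combination -h + vc ^ m * (-1 : ℂ) * hta + (p : ℂ) * x1 * e1m - x2 * e2m
      + (p : ℂ) * x3 * e3m - x4 * e4m
  have hYb : (q : ℂ) * (y1 + y4) - (y2 + y3) = u * N := by
    have h := tr_kb m
    rw [H.tr_top_b, show c ^ m * (b * Q) = b * (c ^ m * Q) by
      rw [← mul_assoc, H.comm_b.eq, mul_assoc], hCQ, mul_smul_comm, Matrix.trace_smul,
      smul_eq_mul] at h
    refine mul_left_cancel₀ hvm ?_
    rw [hy1, hy2, hy3, hy4]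
    linear_combination -h + vc ^ m * (-1 : ℂ) * htb + (q : ℂ) * x1 * e1m - x2 * e2m
      - x3 * e3m + (q : ℂ) * x4 * e4m
  -- sums over powers
  set T := vc⁻¹ • c with hT
  have hTQ : T ^ m * Q = Q := by
    rw [hT, smul_pow, smul_mul_assoc, hCQ, smul_smul, mul_comm, e2m, one_smul]
  set g : ℂ → ℂ → ℂ := fun r z => ∑ k ∈ Finset.range m, (r * z) ^ k with hg
  have hgeo : ∀ z : ℂ, z ^ m = 1 →
      g vc z * (vc * z - 1) = vc ^ m - 1 ∧ g vc⁻¹ z * (vc⁻¹ * z - 1) = vc⁻¹ ^ m - 1 ∧
      g r3 z * (r3 * z - 1) = r3 ^ m - 1 ∧ g r4 z * (r4 * z - 1) = r4 ^ m - 1 := by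
    intro z hz
    simp only [hg, geom_sum_mul]
    simp [mul_pow, hz]
  have hsumk : ∀ z : ℂ, N = x1 * g vc z + x2 * g vc⁻¹ z + x3 * g r3 z + x4 * g r4 z +
      ((∑ k ∈ Finset.range m, (z • T) ^ k) * Q).trace := by
    intro z
    have h1 : N = ∑ k ∈ Finset.range m, (z / vc) ^ k * (c ^ k).trace := by
      rw [Finset.sum_eq_single_of_mem 0 (Finset.mem_range.2 (Nat.pos_of_ne_zero H.hm))]
      · simp [hN, Matrix.trace_one]
      · intro k hk hk0
        rw [H.tr_pow k hk0 (Finset.mem_range.1 hk), mul_zero]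
    rw [h1, Finset.sum_mul, Matrix.trace_sum, hg]
    simp only [Finset.mul_sum, ← Finset.sum_add_distrib]
    refine Finset.sum_congr rfl fun k _ => ?_
    rw [tr_k k, hT, smul_smul, smul_pow, smul_mul_assoc, Matrix.trace_smul, smul_eq_mul]
    simp only [mul_pow, div_pow, inv_pow, hr3, hr4]
    have e : (p : ℂ) ^ k * (q : ℂ) ^ k = vc ^ k * vc ^ k := by
      rw [← mul_pow, ← hv2, ← mul_pow, pow_two]
    rw [e]
    field_simp
  -- no eigenvalue `v` on the range part
  have hS : (∑ k ∈ Finset.range m, T ^ k) * Q = 0 := by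
    set S := (∑ k ∈ Finset.range m, T ^ k) * Q with hSdef
    have hQS : Q * S = S := by
      have hTc : Commute Q (∑ k ∈ Finset.range m, T ^ k) :=
        Commute.sum_right _ _ _ fun k _ => ((show Commute Q c from hcQ.symm).smul_right _).pow_right k
      rw [hSdef, ← mul_assoc, hTc.eq, mul_assoc, hQQ]
    have hTS : c * S = vc • S := by
      have h : (T - 1) * S = 0 := by
        rw [hSdef, ← mul_assoc, mul_geom_sum, sub_mul, hTQ, one_mul, sub_self]
      rw [sub_mul, one_mul, sub_eq_zero, hT, smul_mul_assoc] at h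
      rw [← h, smul_smul, mul_inv_cancel₀ hv0, one_smul]
      rw [h]
    set e' := (b - u • 1) * (a - t • 1) with he'
    have hce : c * e' = ((p : ℂ) * q) • 1 := by
      calc c * e' = a * (b * (b - u • 1)) * (a - t • 1) := by rw [he', hc]; simp only [mul_assoc]
        _ = _ := by
          rw [(mul_sub_smul H.hb2).1, mul_smul_comm, mul_one, smul_mul_assoc,
            (mul_sub_smul H.ha2).1, smul_smul, mul_comm (q : ℂ)]
    have hec : e' * c = ((p : ℂ) * q) • 1 := by
      calc e' * c = (b - u • 1) * ((a - t • 1) * a) * b := by rw [he', hc]; simp only [mul_assoc]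
        _ = _ := by
          rw [(mul_sub_smul H.ha2).2, mul_smul_comm, mul_one, smul_mul_assoc,
            (mul_sub_smul H.hb2).2, smul_smul]
    have he'S : e' * S = vc • S := by
      have : (vc • e') * S = (vc ^ 2) • S := by
        rw [smul_mul_assoc, ← mul_smul_comm, ← hTS, ← mul_assoc, hec, smul_mul_assoc, one_mul, hv2]
      rw [smul_mul_assoc, pow_two, ← smul_smul] at this
      exact smul_right_injective _ hv0 this
    have hZa : a * (c + e') = (c + e') * a := by
      rw [he', hc]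
      simp only [mul_add, add_mul, mul_sub, sub_mul, mul_smul_comm, smul_mul_assoc, mul_one,
        one_mul, ← mul_assoc, H.ha2, smul_sub, smul_smul]
      simp only [mul_assoc, H.ha2, mul_add, add_mul, mul_smul_comm, smul_mul_assoc, mul_one,
        one_mul, smul_add, smul_smul, smul_sub]
      module
    have hZy : (c + e') * (a * S) = (2 * vc) • (a * S) := by
      rw [← mul_assoc, ← hZa, mul_assoc, add_mul, hTS, he'S, ← two_smul ℂ, smul_smul,
        mul_smul_comm]
    have hT2 : (T - 1) * ((T - 1) * (a * S)) = 0 := by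
      have h1 : c * (c * (a * S)) + ((p : ℂ) * q) • (a * S) = (2 * vc) • (c * (a * S)) := by
        conv_rhs => rw [← mul_smul_comm, ← hZy]
        rw [add_mul, mul_add, ← mul_assoc c e', hce, smul_mul_assoc,
          one_mul]
      rw [← hv2] at h1
      rw [hT]
      simp only [sub_mul, mul_sub, one_mul, smul_mul_assoc, mul_smul_comm, smul_smul]
      rw [eq_sub_of_add_eq h1]
      match_scalars <;> field_simp <;> ring
    have hpow : ∀ n : ℕ, T ^ n * (a * S) = a * S + (n : ℂ) • ((T - 1) * (a * S)) := by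
      intro n
      induction n with
      | zero => simp
      | succ n ih =>
        rw [pow_succ', mul_assoc, ih, mul_add, mul_smul_comm]
        rw [show T * ((T - 1) * (a * S)) = (T - 1) * (a * S) by
          rw [← sub_eq_zero, ← hT2, sub_mul T 1 ((T - 1) * (a * S)), one_mul]]
        rw [sub_mul, one_mul]
        push_cast
        module
    have hQy : Q * (a * S) = a * S := by rw [← mul_assoc, ← haQ, mul_assoc, hQS]
    have hy : (T - 1) * (a * S) = 0 := by
      have h := hpow m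
      rw [← hQy, ← mul_assoc, hTQ, hQy] at h
      exact (smul_eq_zero.1 (add_left_cancel (h.symm.trans (add_zero _).symm))).resolve_left
        (by exact_mod_cast H.hm)
    have hca : c * (a * S) = a * (c * S) := by
      rw [sub_mul, one_mul, sub_eq_zero, hT, smul_mul_assoc, inv_smul_eq_iff₀ hv0] at hy
      rw [hy, hTS, mul_smul_comm]
    have hKS : K * S = 0 := by
      have h : a * (K * S) = 0 := by
        rw [hKdef, sub_mul, mul_sub, ← hc, ← hca, hc]
        simp only [mul_assoc, sub_self]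
      have h' : ((a - t • 1) * a) * (K * S) = 0 := by rw [mul_assoc, h, mul_zero]
      rw [(mul_sub_smul H.ha2).2, smul_mul_assoc, one_mul] at h'
      exact (smul_eq_zero.1 h').resolve_left
        (by have := H.hp; exact_mod_cast (by omega : p ≠ 0))
    rw [← hQS, ← hYK, mul_assoc, hKS, mul_zero]
  -- the equations at z = 1
  have hz1 : x1 * g vc 1 + x3 * g r3 1 = N / ((p : ℂ) + 1) := by
    have hA := hsumk 1
    rw [one_smul, hS, Matrix.trace_zero, add_zero] at hA
    have hB : (p : ℂ) * (x1 * g vc 1) - x2 * g vc⁻¹ 1 + (p : ℂ) * (x3 * g r3 1)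
        - x4 * g r4 1 = 0 := by
      have h0 : (∑ k ∈ Finset.range m, T ^ k) * (a * Q) = 0 := by
        rw [haQ, ← mul_assoc, hS, zero_mul]
      have h1 : ∑ k ∈ Finset.range m, vc⁻¹ ^ k * (c ^ k * a).trace = 0 :=
        Finset.sum_eq_zero fun k hk => by rw [H.tr_pow_a k (Finset.mem_range.1 hk), mul_zero]
      have h2 : ∑ k ∈ Finset.range m, vc⁻¹ ^ k * (c ^ k * (a * Q)).trace = 0 := by
        rw [← Matrix.trace_zero (n := X) (R := ℂ), ← h0, Finset.sum_mul, Matrix.trace_sum]
        refine Finset.sum_congr rfl fun k _ => ?_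
        rw [hT, smul_pow, smul_mul_assoc, Matrix.trace_smul, smul_eq_mul]
      rw [← h1, ← add_zero ((p : ℂ) * (x1 * g vc 1) - _ + _ - _)]
      conv_lhs => arg 2; rw [← h2]
      simp only [hg, Finset.mul_sum, ← Finset.sum_sub_distrib, ← Finset.sum_add_distrib]
      refine Finset.sum_congr rfl fun k _ => ?_
      rw [tr_ka k]
      simp only [mul_one, hr3, hr4, div_pow, inv_pow]
      have e : ((p : ℂ) * q) ^ k = vc ^ k * vc ^ k := by rw [← hv2, ← mul_pow, pow_two]
      rw [e]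
      field_simp
    rw [eq_div_iff hp1]
    linear_combination hB - hA
  obtain ⟨g1, -, g3, -⟩ := hgeo 1 (one_pow m)
  set D : ℂ := ((p : ℂ) + 1) * ((q : ℂ) + 1) with hD
  have hp0 : (p : ℂ) ≠ 0 := by have := H.hp; exact_mod_cast (by omega : p ≠ 0)
  have hzr3 : x3 * g r3 1 * (-(p : ℂ) - vc) = vc * y3 := by
    rw [hy3, ← g3, hr3]; field_simp
  have hzr1 : x1 * g vc 1 * (vc - 1) = y1 := by rw [hy1, ← g1, mul_one]; ring
  have hyA : (y1 + y3) * ((p : ℂ) + 1) = t * N := by linear_combination hYa + hY0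
  have hyB : (y1 + y4) * ((q : ℂ) + 1) = u * N := by linear_combination hYb + hY0
  have hyD1 : y1 * D = N * ((p : ℂ) * q - 1) := by
    refine mul_left_cancel₀ hp0 ?_
    have e : (x1 * g vc 1 + x3 * g r3 1) * ((p : ℂ) + 1) = N := by
      rw [hz1, div_mul_cancel₀ _ hp1]
    rw [hD]
    linear_combination (vc - 1) * (-(p : ℂ) - vc) * (-1 : ℂ) * e
      - ((p : ℂ) + 1) * (p + vc) * hzr1 - ((p : ℂ) + 1) * (1 - vc) * hzr3
      + vc * (vc - 1) * hyA - y1 * ((p : ℂ) + 1) * hv2
      + N * ((p : ℂ)) * hv2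
  have hyD3 : y3 * D = N * ((p : ℂ) - q) := by
    rw [hD] at hyD1 ⊢
    linear_combination ((q : ℂ) + 1) * hyA - hyD1
  have hy2' : y2 = -y1 := by
    have hDne : D ≠ 0 := mul_ne_zero hp1 hq1
    refine mul_right_cancel₀ hDne ?_
    rw [hD] at hyD1 ⊢
    linear_combination ((p : ℂ) + 1) * ((q : ℂ) + 1) * hY0 - ((q : ℂ) + 1) * hyA
      - ((p : ℂ) + 1) * hyB + 2 * hyD1
  have hy4' : y4 = -y3 := by linear_combination hY0 - hy2'
  -- the multiplicity
  set Pw := (∑ k ∈ Finset.range m, (w • T) ^ k) * Q with hPw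
  have hwTQ : (w • T) ^ m * Q = Q := by rw [smul_pow, hwm, one_smul, hTQ]
  have hfix : ∀ k : ℕ, (w • T) ^ k * Pw = Pw := by
    have h1 : (w • T) * Pw = Pw := by
      rw [← sub_eq_zero, ← one_mul Pw, ← mul_assoc, mul_one, ← sub_mul, hPw, ← mul_assoc,
        mul_geom_sum, sub_mul, hwTQ, one_mul, sub_self]
    intro k
    induction k with
    | zero => simp
    | succ k ih => rw [pow_succ, mul_assoc, h1, ih]
  have hQPw : Q * Pw = Pw := by
    have hTc : Commute Q (∑ k ∈ Finset.range m, (w • T) ^ k) :=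
      Commute.sum_right _ _ _ fun k _ =>
        (((show Commute Q c from hcQ.symm).smul_right _).smul_right _).pow_right k
    rw [hPw, ← mul_assoc, hTc.eq, mul_assoc, hQQ]
  have hm0 : (m : ℂ) ≠ 0 := by exact_mod_cast H.hm
  have hidem : ((m : ℂ)⁻¹ • Pw) * ((m : ℂ)⁻¹ • Pw) = (m : ℂ)⁻¹ • Pw := by
    have h : Pw * Pw = (m : ℂ) • Pw := by
      conv_lhs => arg 1; rw [hPw]
      rw [mul_assoc, hQPw, Finset.sum_mul]
      simp only [hfix, Finset.sum_const, Finset.card_range]
      exact (Nat.cast_smul_eq_nsmul ℂ m _).symm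
    rw [smul_mul_assoc, mul_smul_comm, h, inv_smul_smul₀ hm0]
  obtain ⟨h, hh⟩ := exists_nat_trace hidem
  refine ⟨h, ?_⟩
  rw [Matrix.trace_smul, smul_eq_mul, inv_mul_eq_iff_eq_mul₀ hm0] at hh
  have hN' := hsumk w
  rw [hh] at hN'
  have hw0 : w ≠ 0 := by
    rintro rfl
    rw [zero_pow H.hm] at hwm
    exact zero_ne_one hwm
  set θ := vc * (w + w⁻¹) with hθ
  obtain ⟨k1, k2, k3, k4⟩ := hgeo w hwm
  have hθw : θ * w = vc * (w * w + 1) := by rw [hθ]; field_simp
  have hz12 : (x1 * g vc w + x2 * g vc⁻¹ w) * (θ - (1 + p * q)) = y1 * (1 - p * q) := by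
    have l1 : x1 * g vc w * (vc * w - 1) = y1 := by rw [mul_assoc, k1]
    have l2 : x2 * g vc⁻¹ w * (w - vc) = -(vc * y1) := by
      rw [← neg_mul_eq_neg_mul] at *
      have : x2 * g vc⁻¹ w * (vc⁻¹ * w - 1) = -y1 := by rw [mul_assoc, k2]; exact hy2'
      calc x2 * g vc⁻¹ w * (w - vc) = vc * (x2 * g vc⁻¹ w * (vc⁻¹ * w - 1)) := by field_simp
        _ = _ := by rw [this]; ring
    refine mul_left_cancel₀ hw0 ?_
    linear_combination (x1 * g vc w + x2 * g vc⁻¹ w) * hθw + (w - vc) * l1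
      + (vc * w - 1) * l2 + (w * (x1 * g vc w + x2 * g vc⁻¹ w) - w * y1) * hv2
  have hz34 : (x3 * g r3 w + x4 * g r4 w) * (θ + (p + q)) = y3 * (p - q) := by
    have l3 : x3 * g r3 w * (-(p : ℂ) * w - vc) = vc * y3 := by
      rw [hy3, ← k3, hr3]; field_simp
    have l4 : x4 * g r4 w * (-(q : ℂ) * w - vc) = -(vc * y3) := by
      rw [show -(vc * y3) = vc * y4 by rw [hy4']; ring, hy4, ← k4, hr4]; field_simp
    refine mul_left_cancel₀ (mul_ne_zero hv0 hw0) ?_
    linear_combination vc * (x3 * g r3 w + x4 * g r4 w) * hθw - (q * w + vc) * l3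
      - (p * w + vc) * l4 + (w * w * (x3 * g r3 w + x4 * g r4 w)) * hv2
  refine mul_right_cancel₀ (mul_ne_zero hp1 hq1) ?_
  rw [hD] at hyD1 hyD3
  linear_combination (-(θ - (1 + p * q)) * (θ + (p + q)) * (((p : ℂ) + 1) * (q + 1))) * hN'
    - (θ + (p + q)) * (((p : ℂ) + 1) * (q + 1)) * hz12
    - (θ - (1 + p * q)) * (((p : ℂ) + 1) * (q + 1)) * hz34
    - (θ + (p + q)) * (1 - p * q) * hyD1 - (θ - (1 + p * q)) * (p - q) * hyD3

end Cfsg.Agent.Lie.FH
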