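import Mathlib
import Cfsg.Agent.Lib.Lie.BNAdjacency
import Cfsg.Agent.Lib.Lie.BNDihedral
import Cfsg.Agent.Lib.Lie.HeckeTrace

/-! The theorem of Feit and Higman for (B,N)-pairs of rank two. -/

set_option autoImplicit false

namespace Cfsg.Agent.Lie

open Matrix

variable {G : Type*} [Group G] [Finite G] (P : Cfsg.BNPair G) {r s : P.S}
  [Fintype (G ⧸ P.B)] [DecidableEq (G ⧸ P.B)]

theorem mprod_alt (r s : P.S) : ∀ k : ℕ,
    mprod P (alt r s (2 * k)) = (adj P (refl P r) * adj P (refl P s)) ^ k ∧
      mprod P (alt r s (2 * k + 1)) =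
        (adj P (refl P r) * adj P (refl P s)) ^ k * adj P (refl P r) := by
  intro k
  induction k with
  | zero => simp [alt, mprod]
  | succ k ih =>
    have e : ∀ n, mprod P (alt r s (n + 2)) =
        adj P (refl P r) * adj P (refl P s) * mprod P (alt r s n) := by
      intro n
      simp [alt, mprod, mul_assoc]
    constructor
    · rw [show 2 * (k + 1) = 2 * k + 2 by ring, e, ih.1, pow_succ']
    · rw [show 2 * (k + 1) + 1 = 2 * k + 1 + 2 by ring, e, ih.2, pow_succ']
      simp only [mul_assoc]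

/-- The operator of the longest element. -/
noncomputable def topAdj (r s : P.S) : Matrix (G ⧸ P.B) (G ⧸ P.B) ℂ :=
  adj P (wprod P (alt r s (orderOf (refl P r * refl P s))))

theorem mprod_top (hS : ∀ x : P.S, x = r ∨ x = s) :
    mprod P (alt r s (orderOf (refl P r * refl P s))) = topAdj P r s ∧
      mprod P (alt s r (orderOf (refl P r * refl P s))) = topAdj P r s := by
  constructor
  · exact mprod_eq P _ (by rw [len_alt P hS _ le_rfl, alt_length])
  · rw [topAdj, braid]
    refine mprod_eq P _ ?_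
    rw [len_alt P (r := s) (s := r) (fun x => (hS x).symm) _ (order_comm P r s).ge, alt_length]

theorem trace_mprod_alt (hS : ∀ x : P.S, x = r ∨ x = s) {L : ℕ} (h1 : L ≠ 0)
    (h2 : L < 2 * orderOf (refl P r * refl P s)) : (mprod P (alt r s L)).trace = 0 := by
  set m := orderOf (refl P r * refl P s) with hm
  rcases le_or_gt L m with h | h
  · rw [mprod_eq P _ (by rw [len_alt P hS _ h, alt_length])]
    refine trace_adj P fun e => h1 ?_
    rw [← len_alt P hS _ h, e, len_one]
  · obtain ⟨j, rfl⟩ : ∃ j, L = m + j := ⟨L - m, by omega⟩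
    rw [alt_append, mprod_append, (mprod_top P hS).1]
    have hj : ∀ x y : P.S, (∀ z : P.S, z = x ∨ z = y) →
        orderOf (refl P x * refl P y) = m →
        (topAdj P r s * mprod P (alt x y j)).trace = 0 := by
      intro x y hxy hord
      have hlen := len_alt P hxy j (by omega)
      rw [mprod_eq P _ (by rw [hlen, alt_length]), topAdj]
      refine trace_adj_mul P fun e => ?_
      rw [e, top_inv, len_alt P hS _ le_rfl] at hlen
      omega
    split_ifs
    · exact hj r s hS rfl
    · exact hj s r (fun z => (hS z).symm) (order_comm P r s)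

theorem top_comm (hS : ∀ x : P.S, x = r ∨ x = s) :
    adj P (refl P r) * topAdj P r s = topAdj P r s *
        adj P (refl P (if Even (orderOf (refl P r * refl P s)) then r else s)) ∧
      adj P (refl P s) * topAdj P r s = topAdj P r s *
        adj P (refl P (if Even (orderOf (refl P r * refl P s)) then s else r)) := by
  set m := orderOf (refl P r * refl P s)
  have key : ∀ x y : P.S, mprod P (alt x y m) = topAdj P r s →
      mprod P (alt y x m) = topAdj P r s →
      adj P (refl P x) * topAdj P r s =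
        topAdj P r s * adj P (refl P (if Even m then x else y)) := by
    intro x y hxy hyx
    have h : mprod P (alt x y (m + 1)) = adj P (refl P x) * topAdj P r s := by
      rw [← hyx]; simp [alt, mprod]
    rw [← h, alt_append, mprod_append, hxy]
    congr 1
    split_ifs <;> simp [alt, mprod]
  exact ⟨key r s (mprod_top P hS).1 (mprod_top P hS).2,
    key s r (mprod_top P hS).2 (mprod_top P hS).1⟩

theorem top_conjTranspose (r s : P.S) : (topAdj P r s)ᴴ = topAdj P r s := by
  rw [topAdj, adj_conjTranspose, top_inv]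

theorem trace_top_sq (hS : ∀ x : P.S, x = r ∨ x = s) :
    (topAdj P r s * topAdj P r s).trace = Fintype.card (G ⧸ P.B) *
      (((alt r s (orderOf (refl P r * refl P s))).map (val P)).prod : ℕ) := by
  rw [← trace_norm P _ (by rw [len_alt P hS _ le_rfl, alt_length]), top_inv]
  rfl

theorem trace_top_mul (hS : ∀ x : P.S, x = r ∨ x = s) (x : P.S) :
    (topAdj P r s * topAdj P r s * adj P (refl P x)).trace =
      ((val P x : ℂ) - 1) * (topAdj P r s * topAdj P r s).trace := by
  set m := orderOf (refl P r * refl P s) with hm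
  have hm1 : 1 ≤ m := order_pos P r s
  obtain ⟨n, hn⟩ : ∃ n, m = n + 1 := ⟨m - 1, by omega⟩
  obtain ⟨u, w, huw, hord, htop, hlast⟩ : ∃ u w : P.S, (∀ z : P.S, z = u ∨ z = w) ∧
      orderOf (refl P u * refl P w) = m ∧ mprod P (alt u w m) = topAdj P r s ∧
      alt u w m = alt u w n ++ [x] := by
    have e1 := alt_append n 1 r s
    have e2 := alt_append n 1 s r
    rw [← hn] at e1 e2
    by_cases hev : Even n <;> simp only [hev, if_true, if_false, alt] at e1 e2 <;>
      rcases hS x with rfl | rfl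
    · exact ⟨_, _, hS, rfl, (mprod_top P hS).1, e1⟩
    · exact ⟨_, _, fun z => (hS z).symm, order_comm P r x, (mprod_top P hS).2, e2⟩
    · exact ⟨_, _, fun z => (hS z).symm, order_comm P x s, (mprod_top P hS).2, e2⟩
    · exact ⟨_, _, hS, rfl, (mprod_top P hS).1, e1⟩
  have hlen := len_alt P huw n (by omega)
  have hM : topAdj P r s = adj P (wprod P (alt u w n)) * adj P (refl P x) := by
    rw [← htop, hlast, mprod_append, mprod_singleton,
      mprod_eq P _ (by rw [hlen, alt_length])]
  have hzero : (topAdj P r s * adj P (wprod P (alt u w n))).trace = 0 := by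
    rw [topAdj]
    refine trace_adj_mul P fun e => ?_
    rw [e, top_inv, len_alt P hS _ le_rfl] at hlen
    omega
  conv_lhs => arg 1; rw [mul_assoc]; arg 2; rw [hM, mul_assoc, adj_sq, mul_add, mul_smul_comm,
    mul_smul_comm, mul_one, ← hM]
  rw [mul_add, mul_smul_comm, mul_smul_comm, Matrix.trace_add, Matrix.trace_smul,
    Matrix.trace_smul, hzero, smul_zero, add_zero, smul_eq_mul]

theorem val_eq_of_odd (hS : ∀ x : P.S, x = r ∨ x = s)
    (hodd : ¬ Even (orderOf (refl P r * refl P s))) : val P r = val P s := by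
  set M := topAdj P r s with hM
  set a := adj P (refl P r)
  set b := adj P (refl P s)
  have h1 : a * M = M * b := by
    have := (top_comm P hS).1
    rw [if_neg hodd] at this
    exact this
  have h2 : a * a * M = M * (b * b) := by rw [mul_assoc, h1, ← mul_assoc, h1, mul_assoc]
  rw [adj_sq, adj_sq, add_mul, mul_add, smul_mul_assoc, smul_mul_assoc, one_mul, mul_smul_comm,
    mul_smul_comm, mul_one, ← h1] at h2
  have h3 := congrArg (fun A => (M * A).trace) h2
  simp only [mul_add, mul_smul_comm, Matrix.trace_add, Matrix.trace_smul, smul_eq_mul] at h3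
  have h4 : (M * (a * M)).trace = ((val P r : ℂ) - 1) * (M * M).trace := by
    rw [Matrix.trace_mul_comm, mul_assoc, Matrix.trace_mul_comm]
    exact trace_top_mul P hS r
  have h5 : (M * M).trace ≠ 0 := by
    rw [hM, trace_top_sq P hS]
    refine mul_ne_zero (Nat.cast_ne_zero.2 Fintype.card_ne_zero) (Nat.cast_ne_zero.2 ?_)
    refine List.prod_ne_zero fun h => ?_
    obtain ⟨x, -, hx⟩ := List.mem_map.1 h
    have := two_le_val P x
    omega
  rw [h4] at h3
  have h6 : (((val P r : ℂ) - val P s) * val P r) * (M * M).trace = 0 := by linear_combination h3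
  rcases mul_eq_zero.1 ((mul_eq_zero.1 h6).resolve_right h5) with h | h
  · exact_mod_cast sub_eq_zero.1 h
  · have := two_le_val P r
    exact absurd (by exact_mod_cast h : val P r = 0) (by omega)

theorem alt_val_prod {r s : P.S} : ∀ i : ℕ,
    ((alt r s (2 * i)).map (val P)).prod = (val P r * val P s) ^ i ∧
      ((alt r s (2 * i + 1)).map (val P)).prod = (val P r * val P s) ^ i * val P r := by
  intro i
  induction i with
  | zero => simp [alt]
  | succ i ih =>
    have e : ∀ n, ((alt r s (n + 2)).map (val P)).prod =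
        val P r * val P s * ((alt r s n).map (val P)).prod := by
      intro n; simp [alt, mul_assoc]
    constructor
    · rw [show 2 * (i + 1) = 2 * i + 2 by ring, e, ih.1, pow_succ']
    · rw [show 2 * (i + 1) + 1 = 2 * i + 1 + 2 by ring, e, ih.2, pow_succ']
      ring

theorem hecke (hS : ∀ x : P.S, x = r ∨ x = s) :
    FH.Hecke (adj P (refl P r)) (adj P (refl P s)) (val P r) (val P s)
      (Real.sqrt ((val P r : ℝ) * val P s)) (orderOf (refl P r * refl P s)) := by
  set m := orderOf (refl P r * refl P s) with hm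
  have hr := two_le_val P r
  have hs := two_le_val P s
  set M := topAdj P r s with hM
  have hsq : (adj P (refl P r) * adj P (refl P s)) ^ m = M * M := by
    rw [← (mprod_alt P r s m).1, show 2 * m = m + m by omega, alt_append, mprod_append,
      (mprod_top P hS).1]
    split_ifs
    · rw [(mprod_top P hS).1]
    · rw [(mprod_top P hS).2]
  have hv : ((Real.sqrt ((val P r : ℝ) * val P s)) : ℂ) ^ m =
      (((alt r s m).map (val P)).prod : ℕ) := by
    have h2 : ((Real.sqrt ((val P r : ℝ) * val P s)) : ℂ) ^ 2 = (val P r : ℂ) * val P s := by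
      rw [← Complex.ofReal_pow, Real.sq_sqrt (by positivity)]; push_cast; rfl
    rcases Nat.even_or_odd' m with ⟨i, e | e⟩ <;> rw [e]
    · rw [(alt_val_prod P i).1, pow_mul, h2]; push_cast; rfl
    · have hpq := val_eq_of_odd P hS (by rw [← hm, e]; simp)
      rw [(alt_val_prod P i).2, pow_succ, pow_mul, h2, hpq,
        Real.sqrt_mul_self (Nat.cast_nonneg _)]
      push_cast; rfl
  have htt := trace_top_sq P hS
  rw [← hm, ← hM, ← hv] at htt
  refine
    { hp := hr, hq := hs, hm := (order_pos P r s).ne', hv := ?_, hv2 := ?_, ha := ?_, hb := ?_,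
      ha2 := adj_sq P r, hb2 := adj_sq P s, sq := ⟨M, top_conjTranspose P r s, hsq⟩,
      comm_a := ?_, comm_b := ?_, tr_pow := ?_, tr_pow_a := ?_,
      tr_b := trace_adj P (refl_ne_one P s), tr_top := by rw [hsq, htt],
      tr_top_a := ?_, tr_top_b := ?_ }
  · refine Real.sqrt_pos.2 (mul_pos ?_ ?_) <;> exact_mod_cast (by omega)
  · exact Real.sq_sqrt (by positivity)
  · rw [adj_conjTranspose, refl_inv]
  · rw [adj_conjTranspose, refl_inv]
  · rw [hsq]
    obtain ⟨h1, h2⟩ := top_comm P hS
    show M * M * _ = _ * (M * M)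
    rw [← mul_assoc, h1, mul_assoc M]
    rw [← hM] at h1 h2
    split_ifs at h1 h2 ⊢ with hev
    · rw [mul_assoc, h1]
    · rw [mul_assoc, h2]
  · rw [hsq]
    obtain ⟨h1, h2⟩ := top_comm P hS
    show M * M * _ = _ * (M * M)
    rw [← mul_assoc, h2, mul_assoc M]
    rw [← hM] at h1 h2
    split_ifs at h1 h2 ⊢ with hev
    · rw [mul_assoc, h2]
    · rw [mul_assoc, h1]
  · intro k hk hk'
    rw [← (mprod_alt P r s k).1]
    exact trace_mprod_alt P hS (by omega) (by omega)
  · intro k hk
    rw [← (mprod_alt P r s k).2]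
    exact trace_mprod_alt P hS (by omega) (by omega)
  · rw [hsq, trace_top_mul P hS r, htt]; ring
  · rw [hsq, trace_top_mul P hS s, htt]; ring

/-- A root of both eigenvalue equations is rational. -/
theorem rational_of_two {p q : ℕ} (hp : 2 ≤ p) (hq : 2 ≤ q) {θ : ℝ} {r r' : ℚ}
    (hθ : θ ^ 2 < 4 * (p * q))
    (h1 : (r : ℝ) * (θ - (1 + p * q)) * (θ + (p + q)) = θ ^ 2 - 4 * (p * q))
    (h2 : (r' : ℝ) * (θ + (1 + p * q)) * (θ - (p + q)) = θ ^ 2 - 4 * (p * q)) :
    ∃ x : ℚ, θ = x := by
  have hp' : (2 : ℝ) ≤ p := by exact_mod_cast hp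
  have hq' : (2 : ℝ) ≤ q := by exact_mod_cast hq
  set A : ℝ := 1 + p * q with hA
  set B : ℝ := p + q with hB
  have hBA : B - A < 0 := by nlinarith
  have hAB : 4 * ((p : ℝ) * q) - A * B < 0 := by
    nlinarith [sq_nonneg ((p : ℝ) - q)]
  have hlin : θ * ((B - A) * (r * (r' - 1) + r' * (r - 1))) + (4 * (p * q) - A * B) * (r' - r) = 0 := by
    linear_combination ((r' : ℝ) - 1) * h1 - ((r : ℝ) - 1) * h2
  by_cases hL : r * (r' - 1) + r' * (r - 1) = 0
  · have hL' : (r : ℝ) * (r' - 1) + r' * (r - 1) = 0 := by exact_mod_cast hL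
    rw [hL', mul_zero, mul_zero, zero_add] at hlin
    have hrr : (r' : ℝ) = r := sub_eq_zero.1 ((mul_eq_zero.1 hlin).resolve_left hAB.ne)
    have hrr' : r' = r := by exact_mod_cast hrr
    subst hrr'
    rcases mul_eq_zero.1 (show r' * (r' - 1) = 0 by linarith) with h | h
    · subst h
      rw [Rat.cast_zero, zero_mul, zero_mul] at h1
      linarith
    · rw [show r' = 1 by linarith, Rat.cast_one] at h1
      refine ⟨-(4 * ((p : ℚ) * q) - (1 + p * q) * (p + q)) / ((p + q : ℚ) - (1 + p * q)), ?_⟩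
      push_cast
      rw [eq_div_iff hBA.ne]
      linear_combination h1
  · refine ⟨-((4 * ((p : ℚ) * q) - (1 + p * q) * (p + q)) * (r' - r)) /
      ((((p + q : ℚ)) - (1 + p * q)) * (r * (r' - 1) + r' * (r - 1))), ?_⟩
    push_cast
    rw [eq_div_iff (mul_ne_zero hBA.ne (by exact_mod_cast hL))]
    linear_combination hlin

theorem order_cases (hS : ∀ x : P.S, x = r ∨ x = s) :
    orderOf (refl P r * refl P s) ≤ 4 ∨
      orderOf (refl P r * refl P s) = 6 ∨ orderOf (refl P r * refl P s) = 8 := by
  classical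
  set m := orderOf (refl P r * refl P s) with hm
  by_contra hcon
  push Not at hcon
  obtain ⟨hm5, hm6, hm8⟩ := hcon
  set p := val P r with hp
  set q := val P s with hq
  have hp2 := two_le_val P r
  have hq2 := two_le_val P s
  set v := Real.sqrt ((p : ℝ) * q) with hvdef
  have H := hecke P hS
  have hv := H.hv
  have hv2 := H.hv2
  rw [← hp, ← hq, ← hvdef] at hv hv2
  have hN : (0 : ℝ) < Fintype.card (G ⧸ P.B) := by exact_mod_cast Fintype.card_pos
  -- rationality of the eigenvalues
  have key : ∀ j : ℕ, 0 < j → 2 * j < m → ∃ x : ℚ, 2 * v * Real.cos (2 * Real.pi * j / m) = x := by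
    intro j hj hjm
    set φ := 2 * Real.pi * j / m with hφ
    set θ := 2 * v * Real.cos φ with hθ
    have hmR : (0 : ℝ) < m := by exact_mod_cast (by omega : 0 < m)
    have hφ0 : 0 < φ := by
      have : (0 : ℝ) < j := by exact_mod_cast hj
      positivity
    have hφπ : φ < Real.pi := by
      rw [hφ, div_lt_iff₀ hmR]
      have : (2 : ℝ) * j < m := by exact_mod_cast hjm
      nlinarith [Real.pi_pos]
    have hθlt : θ ^ 2 < 4 * ((p : ℝ) * q) := by
      have h1 := Real.sin_pos_of_pos_of_lt_pi hφ0 hφπ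
      rw [hθ, ← hv2]
      nlinarith [Real.sin_sq_add_cos_sq φ, mul_pos (mul_pos hv hv) (mul_pos h1 h1)]
    have hroot : ∀ w : ℂ, w ^ m = 1 → ∀ θ' : ℝ, (v : ℂ) * (w + w⁻¹) = θ' →
        ∃ r : ℚ, (r : ℝ) * (θ' - (1 + p * q)) * (θ' + (p + q)) = θ' ^ 2 - 4 * (p * q) := by
      intro w hw θ' hθ'
      obtain ⟨h, hh⟩ := H.multiplicity hw
      rw [hθ'] at hh
      refine ⟨(m * h : ℚ) / Fintype.card (G ⧸ P.B), ?_⟩
      have hh' : ((m : ℝ) * h) * (θ' - (1 + p * q)) * (θ' + (p + q)) =
          Fintype.card (G ⧸ P.B) * (θ' ^ 2 - 4 * (p * q)) := by exact_mod_cast hh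
      push_cast
      field_simp
      linear_combination hh'
    set w := Complex.exp ((φ : ℂ) * Complex.I) with hwdef
    have hwm : w ^ m = 1 := by
      rw [hwdef, ← Complex.exp_nat_mul, Complex.exp_eq_one_iff]
      refine ⟨(j : ℤ), ?_⟩
      rw [hφ]
      push_cast
      have : (m : ℂ) ≠ 0 := by exact_mod_cast (by omega : m ≠ 0)
      field_simp
    have hwθ : (v : ℂ) * (w + w⁻¹) = (θ : ℂ) := by
      rw [hwdef, ← Complex.exp_neg, ← neg_mul, hθ]
      push_cast
      rw [Complex.cos]
      ring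
    obtain ⟨r₁, h₁⟩ := hroot w hwm θ hwθ
    rcases Nat.even_or_odd m with hev | hodd
    · obtain ⟨r₂, h₂⟩ := hroot (-w) (by rw [hev.neg_pow, hwm]) (-θ)
        (by push_cast; rw [← hwθ, inv_neg]; ring)
      exact rational_of_two hp2 hq2 (r' := r₂) hθlt h₁ (by linear_combination h₂)
    · have hpq : p = q := val_eq_of_odd P hS (by rw [← hm]; exact Nat.not_even_iff_odd.2 hodd)
      rw [← hpq] at h₁ hθlt
      have hne : θ + ((p : ℝ) + p) ≠ 0 := by
        intro h
        rw [eq_neg_of_add_eq_zero_left h] at hθlt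
        nlinarith
      have h3 : ((r₁ : ℝ) - 1) * θ = r₁ * (1 + p * p) - 2 * p := by
        refine mul_right_cancel₀ hne ?_
        linear_combination h₁
      by_cases hr1 : r₁ = 1
      · rw [hr1, Rat.cast_one] at h3
        have : (2 : ℝ) ≤ p := by exact_mod_cast hp2
        nlinarith
      · refine ⟨(r₁ * (1 + p * p) - 2 * p) / (r₁ - 1), ?_⟩
        push_cast
        rw [eq_div_iff (sub_ne_zero.2 (by exact_mod_cast hr1))]
        linear_combination h3
  obtain ⟨x₁, hx₁⟩ := key 1 one_pos (by omega)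
  rw [Nat.cast_one, mul_one] at hx₁
  have hmR : (5 : ℝ) ≤ m := by exact_mod_cast (by omega : 5 ≤ m)
  set φ := 2 * Real.pi / m with hφ
  have hcos : ∃ x : ℚ, Real.cos (2 * φ) = x := by
    refine ⟨x₁ ^ 2 / (2 * (p * q)) - 1, ?_⟩
    have hpq0 : (0 : ℝ) < (p : ℝ) * q := hv2 ▸ pow_pos hv 2
    push_cast
    rw [Real.cos_two_mul, ← hx₁, mul_pow, mul_pow, hv2]
    have hp0 : (p : ℝ) ≠ 0 := (left_ne_zero_of_mul hpq0.ne')
    have hq0 : (q : ℝ) ≠ 0 := (right_ne_zero_of_mul hpq0.ne')
    field_simp
  have hπ := Real.pi_pos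
  have hrange : 0 < 2 * φ ∧ 2 * φ < Real.pi := by
    constructor
    · positivity
    · rw [hφ, ← mul_div_assoc, div_lt_iff₀ (by linarith)]
      nlinarith
  have hinj : ∀ y, 0 ≤ y → y ≤ Real.pi → Real.cos (2 * φ) = Real.cos y → 2 * φ = y := fun y h0 h1 h =>
    Real.injOn_cos ⟨hrange.1.le, hrange.2.le⟩ ⟨h0, h1⟩ h
  have hsolve : ∀ k : ℕ, 2 * φ = 4 * Real.pi / k → m = k := by
    intro k hk
    rcases Nat.eq_zero_or_pos k with rfl | hk0
    · simp at hk; linarith [hrange.1]
    have hk' : (k : ℝ) ≠ 0 := by exact_mod_cast hk0.ne'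
    rw [hφ] at hk
    field_simp at hk
    exact_mod_cast (by nlinarith : (m : ℝ) = k)
  rcases niven (θ := 2 * φ) ⟨4 / m, by rw [hφ]; push_cast; ring⟩ hcos with h | h | h | h | h
  · have := hinj Real.pi hπ.le le_rfl (by rw [h, Real.cos_pi])
    linarith [hrange.2]
  · have := hinj (2 * Real.pi / 3) (by positivity) (by linarith)
      (by rw [h, show 2 * Real.pi / 3 = Real.pi - Real.pi / 3 by ring, Real.cos_pi_sub,
        Real.cos_pi_div_three]; ring)
    exact hm6 (hsolve 6 (by rw [this]; push_cast; ring))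
  · have := hinj (Real.pi / 2) (by positivity) (by linarith) (by rw [h, Real.cos_pi_div_two])
    exact hm8 (hsolve 8 (by rw [this]; push_cast; ring))
  · have := hinj (Real.pi / 3) (by positivity) (by linarith)
      (by rw [h, Real.cos_pi_div_three])
    have h12 : m = 12 := hsolve 12 (by rw [this]; push_cast; ring)
    obtain ⟨x₂, hx₂⟩ := key 2 two_pos (by omega)
    have e1 : φ = Real.pi / 6 := by rw [hφ, h12]; push_cast; ring
    rw [h12, show 2 * Real.pi * ((2 : ℕ) : ℝ) / ((12 : ℕ) : ℝ) = Real.pi / 3 by push_cast; ring,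
      Real.cos_pi_div_three] at hx₂
    rw [e1, Real.cos_pi_div_six] at hx₁
    have hirr := Nat.prime_three.irrational_sqrt
    refine hirr ⟨x₁ / x₂, ?_⟩
    push_cast
    rw [← hx₁, ← hx₂]
    field_simp
  · have := hinj 0 le_rfl hπ.le (by rw [h, Real.cos_zero])
    linarith [hrange.1]

end Cfsg.Agent.Lie
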