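import Cfsg.Agent.Lib.Lie.GLWreath
import Cfsg.Agent.Lib.Lie.TwoRankSL
import Cfsg.Prelude.Def_Transfer

/-!
Normal elementary abelian subgroups of a Sylow `2`-subgroup of `GL_n(q)`, `q` odd.
-/

set_option autoImplicit false
set_option linter.unusedSectionVars false

namespace Cfsg.Agent.Lie.GLNormalTwoRank

open Matrix GLWreath

variable {F : Type*} [Field F] [Fintype F] {n : ℕ}

/-- The scalar signs of the blocks. -/
noncomputable def signs (e k r : ℕ) (F : Type*) [Field F] : (Fin k → ℤˣ) × (Fin r → ℤˣ) →* W e k r F where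
  toFun s := (SemidirectProduct.inl fun i => if s.1 i = 1 then 1 else -1,
    Units.map (Matrix.diagonalRingHom (Fin r) F).toMonoidHom
      (MulEquiv.piUnits.symm fun i => if s.2 i = 1 then 1 else -1))
  map_one' := by
    refine Prod.ext ?_ (Units.ext ?_)
    · show SemidirectProduct.inl _ = 1
      rw [← map_one (SemidirectProduct.inl : (Fin k → GL (Fin e) F) →* _)]
      exact congrArg _ (funext fun i => if_pos rfl)
    · show Matrix.diagonal _ = 1
      rw [← Matrix.diagonal_one]
      refine congrArg Matrix.diagonal (funext fun i => ?_)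
      show ((if ((1 : (Fin k → ℤˣ) × (Fin r → ℤˣ)).2 i = 1) then 1 else -1 : Fˣ) : F) = 1
      exact (congrArg Units.val (if_pos rfl)).trans Units.val_one
  map_mul' s t := by
    refine Prod.ext ?_ (Units.ext ?_)
    · show SemidirectProduct.inl _ = SemidirectProduct.inl _ * SemidirectProduct.inl _
      rw [← map_mul]
      refine congrArg _ (funext fun i => ?_)
      rcases Int.units_eq_one_or (s.1 i) with hs | hs <;> rcases Int.units_eq_one_or (t.1 i) with ht | ht <;>
        simp [hs, ht]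
    · show Matrix.diagonal _ = Matrix.diagonal _ * Matrix.diagonal _
      rw [Matrix.diagonal_mul_diagonal]
      refine congrArg Matrix.diagonal (funext fun i => ?_)
      show (((if (s.2 * t.2) i = 1 then 1 else -1 : Fˣ)) : F) = _
      rcases Int.units_eq_one_or (s.2 i) with hs | hs <;> rcases Int.units_eq_one_or (t.2 i) with ht | ht <;>
        simp [hs, ht]

theorem signs_injective {e k r : ℕ} (he : 0 < e) (h2 : (2 : F) ≠ 0) : Function.Injective (signs e k r F) := by
  have hne : (1 : F) ≠ -1 := fun h => h2 (by linear_combination h)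
  have hne' : (1 : GL (Fin e) F) ≠ -1 := fun h => hne (by
    have h' := congrFun₂ (congrArg (fun x : GL (Fin e) F => (x : Matrix (Fin e) (Fin e) F)) h) ⟨0, he⟩ ⟨0, he⟩
    simpa using h')
  intro s t h
  refine Prod.ext (funext fun i => ?_) (funext fun i => ?_)
  · have h' := congrFun (SemidirectProduct.inl_injective (congrArg Prod.fst h)) i
    rcases Int.units_eq_one_or (s.1 i) with hs | hs <;> rcases Int.units_eq_one_or (t.1 i) with ht | ht <;>
      simp [hs, ht, hne', hne'.symm] at h' ⊢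
  · have h' : (((if s.2 i = 1 then 1 else -1 : Fˣ)) : F) = (((if t.2 i = 1 then 1 else -1 : Fˣ)) : F) := by
      have := congrFun₂ (congrArg (fun x : GL (Fin r) F => (x : Matrix (Fin r) (Fin r) F)) (congrArg Prod.snd h)) i i
      simpa [signs] using this
    rcases Int.units_eq_one_or (s.2 i) with hs | hs <;> rcases Int.units_eq_one_or (t.2 i) with ht | ht <;>
      simp [hs, ht, hne, hne.symm] at h' ⊢

theorem signs_normal {e k r : ℕ} (hr : r ≤ 1) : (signs e k r F).range.Normal := by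
  constructor
  rintro _ ⟨s, rfl⟩ x
  refine ⟨(fun i => s.1 (x.1.right.symm i), s.2), ?_⟩
  rw [eq_mul_inv_iff_mul_eq]
  refine Prod.ext ?_ (Units.ext ?_)
  · refine SemidirectProduct.ext ?_ ?_
    · funext i
      simp only [signs, MonoidHom.coe_mk, OneHom.coe_mk, Prod.fst_mul, SemidirectProduct.mul_left,
        SemidirectProduct.left_inl, SemidirectProduct.right_inl, map_one, MulAut.one_apply, Pi.mul_apply]
      show _ = x.1.left i * if s.1 (x.1.right.symm i) = 1 then 1 else -1
      split_ifs <;> simp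
    · simp [signs]
  · haveI : Subsingleton (Fin r) := Fin.subsingleton_iff_le_one.2 hr
    show ((signs e k r F (fun i => s.1 (x.1.right.symm i), s.2)).2 : Matrix (Fin r) (Fin r) F) *
      (x.2 : Matrix (Fin r) (Fin r) F) = (x.2 : Matrix (Fin r) (Fin r) F) * _
    ext i j
    obtain rfl := Subsingleton.elim i j
    simp only [Matrix.mul_apply, Fintype.sum_subsingleton _ i]
    exact mul_comm _ _

/-- The lower bound from a stabiliser of odd index. -/
theorem exists_normal {e k r : ℕ} (he : 0 < e) (hr : r ≤ 1) (h : e * k + r = n) (h2 : (2 : F) ≠ 0)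
    (hv : padicValNat 2 (Nat.card (W e k r F)) = padicValNat 2 (Nat.card (GL (Fin n) F)))
    (S : Sylow 2 (GL (Fin n) F)) :
    ∃ E : Subgroup (S : Subgroup (GL (Fin n) F)), E.Normal ∧ Cfsg.IsElementaryAbelian 2 E ∧
      2 ^ (k + r) ≤ Nat.card E := by
  classical
  obtain ⟨Φ⟩ := exists_coords (F := F) h
  set w := wHom Φ
  have hw := wHom_injective he Φ
  have hDn := signs_normal (F := F) (e := e) (k := k) hr
  set D₀ := (signs e k r F).range with hD₀
  have hsq : ∀ s : (Fin k → ℤˣ) × (Fin r → ℤˣ), s ^ 2 = 1 := fun s =>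
    Prod.ext (funext fun i => Int.units_sq (s.1 i)) (funext fun i => Int.units_sq (s.2 i))
  have hD0p : IsPGroup 2 D₀ := fun x => ⟨1, by
    obtain ⟨_, s, rfl⟩ := x
    refine Subtype.ext ?_
    show signs e k r F s ^ 2 ^ 1 = 1
    rw [pow_one, ← map_pow, hsq, map_one]⟩
  have : Finite (W e k r F) := Finite.of_injective w hw
  let Q : Sylow 2 (W e k r F) := default
  have hDQ : D₀ ≤ Q := hD0p.le_sylow_of_normal Q
  let Q' : Sylow 2 (GL (Fin n) F) := Sylow.ofCard ((Q : Subgroup _).map w) (by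
    rw [← Nat.card_congr ((Q : Subgroup _).equivMapOfInjective w hw).toEquiv, Sylow.card_eq_multiplicity,
      Nat.factorization_def _ Nat.prime_two, Nat.factorization_def _ Nat.prime_two, hv])
  obtain ⟨g, hg⟩ := MulAction.exists_smul_eq (GL (Fin n) F) Q' S
  set T := (D₀.map w).map (MulAut.conj g).toMonoidHom with hT
  have hS : (S : Subgroup (GL (Fin n) F)) = ((Q : Subgroup _).map w).map (MulAut.conj g).toMonoidHom := by
    rw [← hg]; rfl
  have hTS : T ≤ S := hS.symm ▸ Subgroup.map_mono (Subgroup.map_mono hDQ)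
  have hmem : ∀ x ∈ T, ∃ s, x = MulAut.conj g (w (signs e k r F s)) := by
    rintro _ ⟨_, ⟨_, ⟨s, rfl⟩, rfl⟩, rfl⟩
    exact ⟨s, rfl⟩
  refine ⟨T.subgroupOf S, ⟨?_⟩, ⟨⟨⟨?_⟩⟩, ?_⟩, ?_⟩
  · rintro ⟨x, hx⟩ hxT ⟨y, hy⟩
    rw [hS] at hy
    obtain ⟨_, ⟨q, hq, rfl⟩, rfl⟩ := hy
    obtain ⟨_, ⟨d, hd, rfl⟩, hdx⟩ := (hxT : x ∈ T)
    refine ⟨w (q * d * q⁻¹), ⟨q * d * q⁻¹, hDn.conj_mem d hd q, rfl⟩, ?_⟩
    show _ = (MulAut.conj g).toMonoidHom (w q) * x * ((MulAut.conj g).toMonoidHom (w q))⁻¹
    rw [show x = (MulAut.conj g).toMonoidHom (w d) from hdx.symm, map_mul, map_mul, map_mul, map_mul, map_inv,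
      map_inv]
  · rintro ⟨⟨x, _⟩, hx⟩ ⟨⟨y, _⟩, hy⟩
    obtain ⟨s, hs⟩ := hmem x hx
    obtain ⟨t, ht⟩ := hmem y hy
    refine Subtype.ext (Subtype.ext ?_)
    show x * y = y * x
    rw [hs, ht, ← map_mul, ← map_mul, ← map_mul, ← map_mul, ← map_mul, ← map_mul, mul_comm]
  · rintro ⟨x, _⟩ hx
    obtain ⟨s, hs⟩ := hmem x hx
    refine Subtype.ext ?_
    show x ^ 2 = 1
    rw [hs, ← map_pow, ← map_pow, ← map_pow, hsq, map_one, map_one, map_one]
  · rw [Nat.card_congr (Subgroup.subgroupOfEquivOfLe hTS).toEquiv, hT,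
      ← Nat.card_congr ((D₀.map w).equivMapOfInjective _ (MulAut.conj g).injective).toEquiv,
      ← Nat.card_congr (D₀.equivMapOfInjective w hw).toEquiv, hD₀,
      ← Nat.card_congr (MonoidHom.ofInjective (signs_injective he h2)).toEquiv]
    simp [pow_add]

/-- The general bound `n`. -/
theorem card_le (h2 : (2 : F) ≠ 0) (A : Subgroup (GL (Fin n) F)) (hc : ∀ a ∈ A, ∀ b ∈ A, a * b = b * a)
    (hsq : ∀ a ∈ A, a * a = 1) : Nat.card A ≤ 2 ^ n := by
  classical
  let M' : GL (Fin n) F → Matrix (Fin n ⊕ Fin 1) (Fin n ⊕ Fin 1) F := fun g =>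
    Matrix.fromBlocks (g : Matrix (Fin n) (Fin n) F) 0 0 ((((Matrix.GeneralLinearGroup.det g)⁻¹ : Fˣ) : F) • 1)
  have hd : ∀ g, (Matrix.reindex finSumFinEquiv finSumFinEquiv (M' g)).det = 1 := fun g => by
    rw [Matrix.det_reindex_self, Matrix.det_fromBlocks_zero₂₁, Matrix.det_smul, Matrix.det_one, Fintype.card_fin,
      pow_one, mul_one, ← Matrix.GeneralLinearGroup.val_det_apply, ← Units.val_mul, mul_inv_cancel, Units.val_one]
  let φ : GL (Fin n) F →* Matrix.SpecialLinearGroup (Fin (n + 1)) F :=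
    MonoidHom.mk' (fun g => ⟨_, hd g⟩) fun g h => Subtype.ext (by
      show Matrix.reindex finSumFinEquiv finSumFinEquiv (M' (g * h)) =
        Matrix.reindex finSumFinEquiv finSumFinEquiv (M' g) * Matrix.reindex finSumFinEquiv finSumFinEquiv (M' h)
      rw [Matrix.reindex_apply, Matrix.reindex_apply, Matrix.reindex_apply, Matrix.submatrix_mul_equiv,
        Matrix.fromBlocks_multiply]
      simp only [M', map_mul, mul_inv, Units.val_mul]
      simp [smul_smul, mul_comm])
  have hφ : Function.Injective φ := fun g h e => Units.ext (Matrix.fromBlocks_inj.1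
    ((Matrix.reindex finSumFinEquiv finSumFinEquiv).injective (congrArg Subtype.val e))).1
  rw [Nat.card_congr (A.equivMapOfInjective φ hφ).toEquiv]
  have h := TwoRankSL.card_le h2 (Nat.succ_pos n) (A.map φ) (by
    rintro _ ⟨a, ha, rfl⟩ _ ⟨b, hb, rfl⟩
    rw [← map_mul, ← map_mul, hc a ha b hb]) (by
    rintro _ ⟨a, ha, rfl⟩
    rw [← map_mul, hsq a ha, map_one])
  simpa using h

set_option maxHeartbeats 1000000 in
/-- The bound for `q ≡ 3 (mod 4)`. -/
theorem card_normal_le (hq : Odd (Fintype.card F)) (h3 : Fintype.card F % 4 = 3)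
    (S : Sylow 2 (GL (Fin n) F)) (A : Subgroup (GL (Fin n) F))
    (hn : ∀ g ∈ (S : Subgroup (GL (Fin n) F)), ∀ a ∈ A, g⁻¹ * a * g ∈ A)
    (hc : ∀ a ∈ A, ∀ b ∈ A, a * b = b * a) (hsq : ∀ a ∈ A, a * a = 1) :
    Nat.card A ≤ 2 ^ ((n + 1) / 2) := by
  classical
  have h2 : (2 : F) ≠ 0 := Ring.two_ne_zero fun h => by
    have := FiniteField.even_card_of_char_two h
    rw [Nat.odd_iff] at hq
    omega
  have hne : (1 : F) ≠ -1 := fun h => h2 (by linear_combination h)
  letI : Fintype A := Fintype.ofFinite A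
  let 𝒮 : Finset (Matrix (Fin n) (Fin n) F) := Finset.univ.image fun a : A => (a.1 : Matrix (Fin n) (Fin n) F)
  have hspan := TwoRankSL.span_common_eigen h2 𝒮 (by
    simp only [𝒮, Finset.mem_image]
    rintro _ ⟨a, -, rfl⟩
    exact congrArg Units.val (hsq a.1 a.2)) (by
    simp only [𝒮, Finset.mem_image]
    rintro _ ⟨a, -, rfl⟩ _ ⟨b, -, rfl⟩
    exact congrArg Units.val (hc a.1 a.2 b.1 b.2))
  obtain ⟨T, hT, hTs, hTi⟩ := exists_linearIndependent F
    {v : Fin n → F | ∀ M ∈ 𝒮, M *ᵥ v = v ∨ M *ᵥ v = -v}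
  rw [hspan] at hTs
  haveI : Fintype T := hTi.setFinite.fintype
  let b₀ : Module.Basis T F (Fin n → F) := Module.Basis.mk hTi (by rw [Subtype.range_coe, hTs])
  let b : Module.Basis (Fin n) F (Fin n → F) :=
    b₀.reindex (Fintype.equivOfCardEq (by
      rw [Fintype.card_fin, ← Module.finrank_eq_card_basis b₀, Module.finrank_fintype_fun_eq_card, Fintype.card_fin]))
  have hb : ∀ i, b i ∈ T := fun i => by
    rw [Module.Basis.reindex_apply, Module.Basis.mk_apply]
    exact Subtype.coe_prop _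
  have hex : ∀ (a : A) i, ∃ s : Bool, (a.1 : Matrix (Fin n) (Fin n) F) *ᵥ b i = (cond s (1 : F) (-1)) • b i := by
    intro a i
    rcases hT (hb i) _ (Finset.mem_image_of_mem _ (Finset.mem_univ a)) with e | e
    · exact ⟨true, by rw [e, Bool.cond_true, one_smul]⟩
    · exact ⟨false, by rw [e, Bool.cond_false, neg_one_smul]⟩
  choose ε hε using hex
  let c : Fin n → A → Bool := fun i a => ε a i
  have hcond : ∀ s t : Bool, cond s (1 : F) (-1) = cond t 1 (-1) → s = t := by
    intro s t; cases s <;> cases t <;> simp [hne, hne.symm]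
  -- the number of eigen-characters bounds the rank
  have hcard : Nat.card A ≤ 2 ^ (Finset.univ.image c).card := by
    have hinj : Function.Injective fun a : A => fun χ : (Finset.univ.image c) => χ.1 a := fun a a' h => by
      have hall : ∀ i, ε a i = ε a' i := fun i =>
        congrFun h ⟨c i, Finset.mem_image_of_mem c (Finset.mem_univ i)⟩
      refine Subtype.ext (Units.ext (Matrix.toLin'.injective (b.ext fun i => ?_)))
      rw [Matrix.toLin'_apply, Matrix.toLin'_apply, hε, hε, hall]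
    have := Fintype.card_le_of_injective _ hinj
    rwa [Fintype.card_fun, Fintype.card_bool, Fintype.card_coe, ← Nat.card_eq_fintype_card] at this
  let Z : Finset (Fin n) := Finset.univ.filter fun i => ∀ j, c j = c i → j = i
  have hZ : ∀ i, i ∈ Z ↔ ∀ j, c j = c i → j = i := fun i => by simp [Z]
  -- counting
  have hcount : 2 * (Finset.univ.image c).card ≤ n + Z.card := by
    have h1 : ∀ χ ∈ Finset.univ.image c, 2 ≤ (Finset.univ.filter fun i => c i = χ).card +
        (Z.filter fun i => c i = χ).card := by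
      intro χ hχ
      obtain ⟨i, -, rfl⟩ := Finset.mem_image.1 hχ
      have hi : i ∈ Finset.univ.filter fun j => c j = c i := by simp
      by_cases hiZ : i ∈ Z
      · have hi' : i ∈ Z.filter fun j => c j = c i := by simp [hiZ]
        have := Finset.card_pos.2 ⟨i, hi⟩
        have := Finset.card_pos.2 ⟨i, hi'⟩
        omega
      · rw [hZ] at hiZ
        push Not at hiZ
        obtain ⟨j, hj, hji⟩ := hiZ
        have : 1 < (Finset.univ.filter fun l => c l = c i).card :=
          Finset.one_lt_card.2 ⟨j, by simp [hj], i, hi, hji⟩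
        omega
    have h := Finset.sum_le_sum h1
    rw [Finset.sum_const, smul_eq_mul, Finset.sum_add_distrib,
      ← Finset.card_eq_sum_card_fiberwise (fun i _ => Finset.mem_image_of_mem c (Finset.mem_univ i)),
      ← Finset.card_eq_sum_card_fiberwise (fun i _ => Finset.mem_image_of_mem c (Finset.mem_univ i)),
      Finset.card_univ, Fintype.card_fin] at h
    omega
  suffices hZ1 : Z.card ≤ 1 by
    exact hcard.trans (Nat.pow_le_pow_right two_pos (by omega))
  by_contra hm
  push Not at hm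
  -- the Sylow subgroup stabilises the singleton eigenlines and their complement
  let tw : ∀ g : GL (Fin n) F, g ∈ (S : Subgroup (GL (Fin n) F)) → Fin n → A → Bool :=
    fun g hg i a => c i ⟨g⁻¹ * a.1 * g, hn g hg a.1 a.2⟩
  have hsupp : ∀ g, ∀ (hg : g ∈ (S : Subgroup (GL (Fin n) F))), ∀ i, ∃ χ : A → Bool, ∀ j,
      b.repr ((g : Matrix (Fin n) (Fin n) F) *ᵥ b i) j ≠ 0 → c j = χ ∧ χ = tw g hg i := by
    intro g hg i
    refine ⟨tw g hg i, fun j hj => ⟨funext fun a => ?_, rfl⟩⟩
    show c j a = c i ⟨g⁻¹ * a.1 * g, hn g hg a.1 a.2⟩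
    have h1 : (a.1 : Matrix (Fin n) (Fin n) F) *ᵥ ((g : Matrix (Fin n) (Fin n) F) *ᵥ b i) =
        (cond (c i ⟨g⁻¹ * a.1 * g, hn g hg a.1 a.2⟩) (1 : F) (-1)) • ((g : Matrix (Fin n) (Fin n) F) *ᵥ b i) := by
      rw [Matrix.mulVec_mulVec, ← Units.val_mul, show a.1 * g = g * (g⁻¹ * a.1 * g) by group, Units.val_mul,
        ← Matrix.mulVec_mulVec, hε ⟨g⁻¹ * a.1 * g, hn g hg a.1 a.2⟩ i, Matrix.mulVec_smul]
    have h2' := congrArg (fun v => b.repr v j) h1
    simp only [map_smul, Finsupp.smul_apply, smul_eq_mul] at h2'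
    conv_lhs at h2' => rw [← b.sum_repr ((g : Matrix (Fin n) (Fin n) F) *ᵥ b i)]
    simp only [Matrix.mulVec_sum, Matrix.mulVec_smul, hε, smul_smul, b.repr_sum_self] at h2'
    rw [mul_comm] at h2'
    exact hcond _ _ (mul_right_cancel₀ hj h2')
  have hexists : ∀ (g : GL (Fin n) F) i, ∃ j, b.repr ((g : Matrix (Fin n) (Fin n) F) *ᵥ b i) j ≠ 0 := by
    intro g i
    by_contra h
    push Not at h
    have h0 : (g : Matrix (Fin n) (Fin n) F) *ᵥ b i = 0 := b.repr.injective (by rw [map_zero]; exact Finsupp.ext h)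
    refine b.ne_zero i ?_
    have := congrArg (fun v => ((g⁻¹ : GL (Fin n) F) : Matrix (Fin n) (Fin n) F) *ᵥ v) h0
    simpa [Matrix.mulVec_mulVec] using this
  -- images of singleton lines
  have hline : ∀ g ∈ (S : Subgroup (GL (Fin n) F)), ∀ i ∈ Z, ∃ j ∈ Z,
      ∀ l, b.repr ((g : Matrix (Fin n) (Fin n) F) *ᵥ b i) l ≠ 0 → l = j := by
    intro g hg i hi
    have hgi : g⁻¹ ∈ (S : Subgroup (GL (Fin n) F)) := Subgroup.inv_mem _ hg
    obtain ⟨χ, hχ⟩ := hsupp g hg i
    obtain ⟨j, hj⟩ := hexists g i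
    have key : ∀ l, c l = χ → l = j := by
      -- all of the image class is carried back to the line of `i`
      have hback : ∀ l, c l = χ →
          ((g⁻¹ : GL (Fin n) F) : Matrix (Fin n) (Fin n) F) *ᵥ b l =
            (b.repr (((g⁻¹ : GL (Fin n) F) : Matrix (Fin n) (Fin n) F) *ᵥ b l) i) • b i := by
        intro l hl
        obtain ⟨ψ, hψ⟩ := hsupp g⁻¹ hgi l
        conv_lhs => rw [← b.sum_repr (((g⁻¹ : GL (Fin n) F) : Matrix (Fin n) (Fin n) F) *ᵥ b l)]
        refine Finset.sum_eq_single i (fun u _ hu => ?_) (by simp)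
        by_contra h0
        have hu0 : b.repr (((g⁻¹ : GL (Fin n) F) : Matrix (Fin n) (Fin n) F) *ᵥ b l) u ≠ 0 := fun e0 =>
          h0 (by rw [e0, zero_smul])
        obtain ⟨e1, e2⟩ := hψ u hu0
        refine hu ((hZ i).1 hi u ?_)
        rw [e1, e2]
        funext a
        show c l ⟨g⁻¹⁻¹ * a.1 * g⁻¹, hn g⁻¹ hgi a.1 a.2⟩ = c i a
        rw [hl, (hχ j hj).2]
        show c i _ = c i a
        congr 1
        exact Subtype.ext (by
          show g⁻¹ * (g⁻¹⁻¹ * a.1 * g⁻¹) * g = a.1
          group)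
      intro l hl
      by_contra hlj
      have h1 := hback l hl
      have h2' := hback j (hχ j hj).1
      set x := b.repr (((g⁻¹ : GL (Fin n) F) : Matrix (Fin n) (Fin n) F) *ᵥ b l) i
      set y := b.repr (((g⁻¹ : GL (Fin n) F) : Matrix (Fin n) (Fin n) F) *ᵥ b j) i
      have hy : y ≠ 0 := fun e => b.ne_zero j (by
        have := congrArg (fun v => (g : Matrix (Fin n) (Fin n) F) *ᵥ v) h2'
        rw [e, zero_smul, Matrix.mulVec_zero] at this
        simpa [Matrix.mulVec_mulVec] using this)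
      have h3 : y • b l - x • b j = 0 := by
        have := congrArg (fun v => (g : Matrix (Fin n) (Fin n) F) *ᵥ v)
          (show y • (((g⁻¹ : GL (Fin n) F) : Matrix (Fin n) (Fin n) F) *ᵥ b l) -
            x • (((g⁻¹ : GL (Fin n) F) : Matrix (Fin n) (Fin n) F) *ᵥ b j) = 0 by
            rw [h1, h2', smul_smul, smul_smul, mul_comm, sub_self])
        simpa [Matrix.mulVec_sub, Matrix.mulVec_smul, Matrix.mulVec_mulVec] using this
      have h4 := congrArg (fun v => b.repr v l) h3
      simp [Finsupp.single_apply, Ne.symm hlj, hy] at h4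
    refine ⟨j, (hZ j).2 fun l hl => key l (hl.trans (hχ j hj).1), fun l hl => key l (hχ l hl).1⟩
  have hrest : ∀ g ∈ (S : Subgroup (GL (Fin n) F)), ∀ i ∉ Z, ∀ j ∈ Z,
      b.repr ((g : Matrix (Fin n) (Fin n) F) *ᵥ b i) j = 0 := by
    intro g hg i hi j hj
    by_contra h0
    obtain ⟨χ, hχ⟩ := hsupp g hg i
    have hall : ∀ l, b.repr ((g : Matrix (Fin n) (Fin n) F) *ᵥ b i) l ≠ 0 → l = j := fun l hl =>
      (hZ j).1 hj l ((hχ l hl).1.trans (hχ j h0).1.symm)
    obtain ⟨u, hu, huall⟩ := hline g⁻¹ (Subgroup.inv_mem _ hg) j hj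
    have e1 : (g : Matrix (Fin n) (Fin n) F) *ᵥ b i = b.repr ((g : Matrix (Fin n) (Fin n) F) *ᵥ b i) j • b j := by
      conv_lhs => rw [← b.sum_repr ((g : Matrix (Fin n) (Fin n) F) *ᵥ b i)]
      exact Finset.sum_eq_single j (fun l _ hl => by
        rw [show b.repr ((g : Matrix (Fin n) (Fin n) F) *ᵥ b i) l = 0 from by_contra fun e => hl (hall l e), zero_smul]) (by simp)
    have e2 := congrArg (fun v => b.repr (((g⁻¹ : GL (Fin n) F) : Matrix (Fin n) (Fin n) F) *ᵥ v) i) e1
    simp only [Matrix.mulVec_mulVec, ← Units.val_mul, inv_mul_cancel, Units.val_one, Matrix.one_mulVec,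
      Matrix.mulVec_smul, map_smul, Finsupp.smul_apply, smul_eq_mul, b.repr_self, Finsupp.single_eq_same] at e2
    by_cases hz : b.repr (((g⁻¹ : GL (Fin n) F) : Matrix (Fin n) (Fin n) F) *ᵥ b j) i = 0
    · rw [hz, mul_zero] at e2; exact one_ne_zero e2
    · exact hi (huall i hz ▸ hu)
  -- coordinates
  set m := Z.card
  set r := Zᶜ.card
  have hmr : m + r = n := by rw [Finset.card_add_card_compl, Fintype.card_fin]
  let eZ : Fin m ≃ Z := Z.equivFin.symm
  let eR : Fin r ≃ (Zᶜ : Finset (Fin n)) := (Zᶜ).equivFin.symm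
  let Ψ : Space 1 m r F →ₗ[F] (Fin n → F) :=
    ((Fintype.linearCombination F fun i => b (eZ i)).comp
        (LinearMap.pi fun i => (LinearMap.proj (R := F) (φ := fun _ : Fin 1 => F) 0).comp
          (LinearMap.proj (R := F) (φ := fun _ : Fin m => Fin 1 → F) i))).coprod
      (Fintype.linearCombination F fun i => b (eR i))
  have hΨ : ∀ v, Ψ v = ∑ i, v.1 i 0 • b (eZ i) + ∑ i, v.2 i • b (eR i) := fun v => by
    simp [Ψ, Fintype.linearCombination_apply]
  have hsum : ∀ (f : Fin n → (Fin n → F)), ∑ i, f (eZ i) + ∑ i, f (eR i) = ∑ i, f i := fun f => by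
    rw [← Finset.sum_add_sum_compl Z f]
    congr 1
    · rw [← Finset.sum_coe_sort Z f]; exact Fintype.sum_equiv eZ _ _ fun i => rfl
    · rw [← Finset.sum_coe_sort Zᶜ f]; exact Fintype.sum_equiv eR _ _ fun i => rfl
  have hsurj : Function.Surjective Ψ := fun v =>
    ⟨(fun i _ => b.repr v (eZ i), fun i => b.repr v (eR i)), by
      rw [hΨ, hsum fun l => b.repr v l • b l, b.sum_repr]⟩
  have hdim : Module.finrank F (Space 1 m r F) = Module.finrank F (Fin n → F) := by
    rw [Module.finrank_prod, Module.finrank_pi_fintype, Module.finrank_fin_fun, Module.finrank_fin_fun]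
    simp [Module.finrank_fin_fun, hmr]
  let Φ : Space 1 m r F ≃ₗ[F] (Fin n → F) := LinearEquiv.ofBijective Ψ
    ⟨(LinearMap.injective_iff_surjective_of_finrank_eq_finrank hdim).2 hsurj, hsurj⟩
  have hΦ : ∀ v, Φ v = Ψ v := fun v => rfl
  have hSle : (S : Subgroup (GL (Fin n) F)) ≤ (wHom Φ).range := by
    intro g hg
    have hz : ∀ i : Fin m, ∃ (j : Fin m) (a : F), a ≠ 0 ∧
        (g : Matrix (Fin n) (Fin n) F) *ᵥ b (eZ i) = a • b (eZ j) := fun i => by
      obtain ⟨j, hj, hall⟩ := hline g hg (eZ i) (eZ i).2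
      obtain ⟨l, hl⟩ := hexists g (eZ i)
      refine ⟨eZ.symm ⟨j, hj⟩, b.repr ((g : Matrix (Fin n) (Fin n) F) *ᵥ b (eZ i)) j, hall l hl ▸ hl, ?_⟩
      rw [Equiv.apply_symm_apply]
      conv_lhs => rw [← b.sum_repr ((g : Matrix (Fin n) (Fin n) F) *ᵥ b (eZ i))]
      exact Finset.sum_eq_single j (fun u _ hu => by
        rw [show b.repr ((g : Matrix (Fin n) (Fin n) F) *ᵥ b (eZ i)) u = 0 from by_contra fun e => hu (hall u e), zero_smul])
        (by simp)
    choose π a ha hga using hz
    have hπ : Function.Injective π := fun i j hij => by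
      by_contra hne'
      have h := congrArg (fun v => ((g⁻¹ : GL (Fin n) F) : Matrix (Fin n) (Fin n) F) *ᵥ v)
        (show a j • ((g : Matrix (Fin n) (Fin n) F) *ᵥ b (eZ i)) - a i • ((g : Matrix (Fin n) (Fin n) F) *ᵥ b (eZ j)) = 0 by
          rw [hga, hga, hij, smul_smul, smul_smul, mul_comm, sub_self])
      simp [Matrix.mulVec_sub, Matrix.mulVec_smul, Matrix.mulVec_mulVec] at h
      have h4 := congrArg (fun v => b.repr v (eZ i)) h
      simp [Finsupp.single_apply, ha, Ne.symm hne', Subtype.ext_iff.not.1 (fun e => hne' (eZ.injective e))] at h4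
    let σ : Equiv.Perm (Fin m) := Equiv.ofBijective π (Finite.injective_iff_bijective.1 hπ)
    let C : Matrix (Fin r) (Fin r) F := Matrix.of fun i j => b.repr ((g : Matrix (Fin n) (Fin n) F) *ᵥ b (eR j)) (eR i)
    have hR : ∀ j, (g : Matrix (Fin n) (Fin n) F) *ᵥ b (eR j) = ∑ i, C i j • b (eR i) := fun j => by
      conv_lhs => rw [← b.sum_repr ((g : Matrix (Fin n) (Fin n) F) *ᵥ b (eR j)),
        ← hsum fun l => b.repr ((g : Matrix (Fin n) (Fin n) F) *ᵥ b (eR j)) l • b l]
      rw [Finset.sum_eq_zero (fun i _ => by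
        rw [hrest g hg (eR j) (Finset.mem_compl.1 (eR j).2) (eZ i) (eZ i).2, zero_smul]), zero_add]
      rfl
    have hC : IsUnit C := by
      refine Matrix.mulVec_injective_iff_isUnit.1 fun u w huw => ?_
      have key : ∀ u, (g : Matrix (Fin n) (Fin n) F) *ᵥ Φ (0, u) = Φ (0, C *ᵥ u) := fun u => by
        simp only [hΦ, hΨ, Matrix.mulVec_add, Matrix.mulVec_sum, Matrix.mulVec_smul, hR, Pi.zero_apply, zero_smul,
          Finset.sum_const_zero, zero_add, Finset.smul_sum, smul_smul, Matrix.mulVec, dotProduct, Finset.sum_smul]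
        rw [Finset.sum_comm]
        exact Finset.sum_congr rfl fun i _ => Finset.sum_congr rfl fun j _ => by rw [mul_comm]
      have h := (key u).trans ((congrArg (fun z => Φ (0, z)) huw).trans (key w).symm)
      exact congrArg Prod.snd (Φ.injective (Matrix.mulVec_injective_of_isUnit g.isUnit h))
    let f : Fin m → GL (Fin 1) F := fun i =>
      Units.map (Matrix.scalar (Fin 1)).toMonoidHom (Units.mk0 (a (σ.symm i)) (ha _))
    refine ⟨(⟨f, σ⟩, hC.unit), Units.ext (Matrix.toLin'.injective (LinearMap.ext fun v => ?_))⟩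
    obtain ⟨v, rfl⟩ := Φ.surjective v
    rw [Matrix.toLin'_apply, Matrix.toLin'_apply, wHom_mulVec]
    simp only [hΦ, hΨ, act_apply, Matrix.mulVec_add, Matrix.mulVec_sum, Matrix.mulVec_smul, hR, hga]
    congr 1
    · refine (Fintype.sum_equiv σ _ _ fun i => ?_).symm
      show v.1 i 0 • a i • b (eZ (π i)) = _
      rw [show π i = σ i from rfl]
      simp [f, smul_smul, Matrix.mulVec, dotProduct, Matrix.scalar_apply]
      rw [mul_comm]
    · rw [IsUnit.unit_spec]
      simp only [Matrix.mulVec, dotProduct, Finset.sum_smul, Finset.smul_sum, smul_smul]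
      rw [Finset.sum_comm]
      exact Finset.sum_congr rfl fun i _ => Finset.sum_congr rfl fun j _ => by rw [mul_comm]
  -- comparison of 2-parts
  have hinjW : Function.Injective (wHom Φ) := wHom_injective one_pos Φ
  haveI : Finite (W 1 m r F) := Finite.of_injective _ hinjW
  have hWdvd : Nat.card S ∣ Nat.card (W 1 m r F) := by
    rw [Nat.card_congr (MonoidHom.ofInjective hinjW).toEquiv]
    exact Subgroup.card_dvd_of_le hSle
  have hv1 : padicValNat 2 (Nat.card (GL (Fin n) F)) ≤ padicValNat 2 (Nat.card (W 1 m r F)) := by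
    rw [Sylow.card_eq_multiplicity, Nat.factorization_def _ Nat.prime_two] at hWdvd
    exact (padicValNat_dvd_iff_le Nat.card_pos.ne').1 hWdvd
  obtain ⟨Φ'⟩ := exists_coords (F := F) (e := m) (k := 1) (r := r) (n := n) (by omega)
  haveI : Finite (W m 1 r F) := Finite.of_injective _ (wHom_injective (by omega : 0 < m) Φ')
  have hv2 : padicValNat 2 (Nat.card (W m 1 r F)) ≤ padicValNat 2 (Nat.card (GL (Fin n) F)) := by
    refine (padicValNat_dvd_iff_le Nat.card_pos.ne').1 (dvd_trans pow_padicValNat_dvd ?_)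
    rw [Nat.card_congr (MonoidHom.ofInjective (wHom_injective (by omega : 0 < m) Φ')).toEquiv]
    exact Subgroup.card_subgroup_dvd_card _
  rw [padicValNat_natCard_W, padicValNat_card_GL hq 1, padicValNat_factorial_le m] at hv1
  rw [padicValNat_natCard_W, padicValNat_card_GL hq m] at hv2
  have hva : padicValNat 2 (Fintype.card F - 1) = 1 := by
    have hd : Fintype.card F - 1 = 2 * ((Fintype.card F - 1) / 2) := by omega
    rw [hd, padicValNat.mul (by norm_num) (by omega), padicValNat_self, padicValNat.eq_zero_of_not_dvd (by omega)]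
  have hvb : 2 ≤ padicValNat 2 (Fintype.card F + 1) :=
    (padicValNat_dvd_iff_le (by omega)).1 (by norm_num; omega)
  have hm2 : 1 ≤ m / 2 := by omega
  have := Nat.mul_le_mul_left (m / 2) hvb
  simp at hv1 hv2
  rw [hva] at hv1 hv2
  omega

end Cfsg.Agent.Lie.GLNormalTwoRank
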