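import Cfsg.Agent.Lib.Transfer.OmegaMetacyclic

/-!
An odd `p`-group acting faithfully on an elementary abelian `q`-group with all stabilisers of non-zero vectors of
the same order is cyclic and acts without fixed points.
-/

set_option autoImplicit false
set_option linter.unusedSectionVars false

namespace Cfsg.Agent.Lie.HalfTransitive

open MulAction

variable {P V : Type*} [Group P] [Finite P] [AddCommGroup V] [DistribMulAction P V]
  {p q : ℕ} [hp : Fact p.Prime]

/-- The sum of the translates by a subgroup. -/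
noncomputable def tr (H : Subgroup P) (v : V) : V :=
  letI := Fintype.ofFinite H
  ∑ h : H, (h : P) • v

theorem tr_fixed (H : Subgroup P) (v : V) {g : P} (hg : g ∈ H) : g • tr H v = tr H v := by
  letI := Fintype.ofFinite H
  rw [tr, Finset.smul_sum]
  exact Fintype.sum_equiv (Equiv.mulLeft (⟨g, hg⟩ : H)) _ (fun h : H => (h : P) • v)
    fun h => (mul_smul g (h : P) v).symm

theorem tr_of_fixed (H : Subgroup P) {v : V} (hv : ∀ g ∈ H, g • v = v) : tr H v = Nat.card H • v := by
  letI := Fintype.ofFinite H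
  rw [tr, Finset.sum_congr rfl (fun (h : H) _ => hv h.1 h.2), Finset.sum_const, Finset.card_univ, Nat.card_eq_fintype_card]

theorem tr_add (H : Subgroup P) (v w : V) : tr H (v + w) = tr H v + tr H w := by
  simp only [tr, smul_add, Finset.sum_add_distrib]

theorem tr_zero (H : Subgroup P) : tr H (0 : V) = 0 := by
  simp [tr]

theorem tr_nsmul (H : Subgroup P) (k : ℕ) (v : V) : tr H (k • v) = k • tr H v := by
  induction k with
  | zero => simp [tr_zero]
  | succ k ih => rw [succ_nsmul, tr_add, ih, succ_nsmul]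

theorem tr_normal (N : Subgroup P) [N.Normal] (g : P) (v : V) : tr N (g • v) = g • tr N v := by
  letI := Fintype.ofFinite N
  rw [tr, tr, Finset.smul_sum]
  refine Fintype.sum_equiv
    { toFun := fun h : N => (⟨g⁻¹ * h * g, by simpa using (inferInstance : N.Normal).conj_mem h h.2 g⁻¹⟩ : N)
      invFun := fun h : N => (⟨g * h * g⁻¹, (inferInstance : N.Normal).conj_mem h h.2 g⟩ : N)
      left_inv := fun h => Subtype.ext (show g * (g⁻¹ * (h : P) * g) * g⁻¹ = h by group)
      right_inv := fun h => Subtype.ext (show g⁻¹ * (g * (h : P) * g⁻¹) * g = h by group) } _ _ fun h => ?_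
  show (h : P) • g • v = g • (g⁻¹ * h * g) • v
  rw [← mul_smul, ← mul_smul]
  congr 1
  group

section Coprime

variable (hP : IsPGroup p P) (hq : q.Prime) (hV : ∀ v : V, q • v = 0) (hpq : p ≠ q)
include hP hq hV hpq

theorem smul_cancel (j : ℕ) {v w : V} (h : p ^ j • v = p ^ j • w) : v = w := by
  have hc : Nat.Coprime (p ^ j) q := Nat.Coprime.pow_left _ ((Nat.coprime_primes hp.out hq).2 hpq)
  obtain ⟨a, -, b⟩ := Nat.exists_mul_mod_eq_one_of_coprime hc hq.one_lt
  have key : ∀ x : V, (p ^ j * a) • x = x := fun x => by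
    rw [← Nat.div_add_mod (p ^ j * a) q, b, add_nsmul, mul_comm q, mul_nsmul', hV, nsmul_zero, zero_add, one_nsmul]
  rw [← key v, ← key w, mul_comm, mul_nsmul', mul_nsmul', h]

theorem card_cancel (H : Subgroup P) {v w : V} (h : Nat.card H • v = Nat.card H • w) : v = w := by
  obtain ⟨j, hj⟩ := IsPGroup.iff_card.1 (hP.to_subgroup H)
  rw [hj] at h
  exact smul_cancel hP hq hV hpq j h

variable [FaithfulSMul P V]
variable (hconst : ∀ a b : V, a ≠ 0 → b ≠ 0 → Nat.card (stabilizer P a) = Nat.card (stabilizer P b))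
include hconst

omit hP hq hV hpq in
theorem fpf_of_stab {w : V} (hw : w ≠ 0) (h : stabilizer P w = ⊥) {g : P} {a : V} (hga : g • a = a) (ha : a ≠ 0) :
    g = 1 := by
  have h1 := hconst a w ha hw
  rw [h, Subgroup.card_bot, Subgroup.card_eq_one] at h1
  exact Subgroup.mem_bot.1 (h1 ▸ (mem_stabilizer_iff.2 hga))

omit hP hq hV hpq in
theorem stab_eq_bot_of_forall {w : V} (h : ∀ g ∈ stabilizer P w, ∀ v : V, g • v = v) : stabilizer P w = ⊥ :=
  (Subgroup.eq_bot_iff_forall _).2 fun g hg => eq_of_smul_eq_smul (α := V) fun v => by rw [h g hg v, one_smul]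

omit hP hq hV hpq in
theorem stab_eq_of_pair {v w : V} (hv : v ≠ 0) (hw : w ≠ 0) (hvw : v + w ≠ 0)
    (h : ∀ g : P, g • (v + w) = v + w → g • v = v ∧ g • w = w) : stabilizer P v = stabilizer P w := by
  have h1 : stabilizer P (v + w) ≤ stabilizer P v := fun g hg => (h g hg).1
  have h2 : stabilizer P (v + w) ≤ stabilizer P w := fun g hg => (h g hg).2
  rw [← Subgroup.eq_of_le_of_card_ge h1 (hconst _ _ hv hvw).le,
    ← Subgroup.eq_of_le_of_card_ge h2 (hconst _ _ hw hvw).le]

/-- A non-trivial normal subgroup fixing a non-zero vector forces all stabilisers to be trivial. -/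
theorem stab_bot_of_normal (N : Subgroup P) [N.Normal] (hN : N ≠ ⊥) {w : V} (hw : w ≠ 0)
    (hfix : ∀ g ∈ N, g • w = w) : stabilizer P w = ⊥ := by
  refine stab_eq_bot_of_forall hconst fun g hg v => ?_
  -- comparing stabilisers on the two summands
  have pair : ∀ w₁ : V, w₁ ≠ 0 → (∀ g ∈ N, g • w₁ = w₁) → ∀ u : V, u ≠ 0 → tr N u = 0 →
      stabilizer P w₁ = stabilizer P u := fun w₁ h₁ f₁ u hu htu => by
    have hsum : tr N (w₁ + u) = Nat.card N • w₁ := by rw [tr_add, htu, add_zero, tr_of_fixed N f₁]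
    refine stab_eq_of_pair hconst h₁ hu (fun h0 => h₁ (card_cancel hP hq hV hpq N ?_)) fun k hk => ?_
    · rw [← hsum, h0, tr_zero, nsmul_zero]
    · have h := congrArg (tr N) hk
      rw [tr_normal, hsum, smul_comm] at h
      have hw₁ := card_cancel hP hq hV hpq N h
      rw [smul_add, hw₁] at hk
      exact ⟨hw₁, add_left_cancel hk⟩
  obtain ⟨u, hu0, htu⟩ : ∃ u : V, u ≠ 0 ∧ tr N u = 0 := by
    by_contra hcon
    push Not at hcon
    refine hN ((Subgroup.eq_bot_iff_forall _).2 fun k hk => eq_of_smul_eq_smul (α := V) fun x => ?_)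
    rw [one_smul]
    refine card_cancel hP hq hV hpq N ?_
    have hz : Nat.card N • x - tr N x = 0 := by
      by_contra hne
      refine hcon _ hne ?_
      have := tr_add N (Nat.card N • x - tr N x) (tr N x)
      rw [sub_add_cancel, tr_nsmul, tr_of_fixed N (v := tr N x) fun k hk => tr_fixed N x hk] at this
      simpa using this.symm
    rw [sub_eq_zero] at hz
    rw [smul_comm, hz, tr_fixed N x hk]
  have hS : ∀ x : V, ((∀ k ∈ N, k • x = x) ∨ tr N x = 0) → g • x = x := fun x hx => by
    by_cases hx0 : x = 0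
    · rw [hx0, smul_zero]
    rcases hx with hx | hx
    · rwa [← mem_stabilizer_iff, pair x hx0 hx u hu0 htu, ← pair w hw hfix u hu0 htu]
    · rwa [← mem_stabilizer_iff, ← pair w hw hfix x hx0 hx]
  refine card_cancel hP hq hV hpq N ?_
  have h0 : tr N (Nat.card N • v - tr N v) = 0 := by
    have := tr_add N (Nat.card N • v - tr N v) (tr N v)
    rw [sub_add_cancel, tr_nsmul, tr_of_fixed N (v := tr N v) fun k hk => tr_fixed N v hk] at this
    simpa using this.symm
  have h1 := hS _ (Or.inr h0)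
  rw [smul_sub, hS _ (Or.inl fun k hk => tr_fixed N v hk), sub_left_inj, smul_comm] at h1
  exact h1

/-- In a normal subgroup of type `(p, p)`. -/
theorem not_normal_square (hp2 : p ≠ 2) [Nontrivial V] (E : Subgroup P) [E.Normal]
    (hE : Cfsg.IsElementaryAbelian p E) (hEc : Nat.card E = p ^ 2) : False := by
  classical
  have hp0 := hp.out.pos
  have hEne : E ≠ ⊥ := fun h => by
    rw [h, Subgroup.card_bot] at hEc
    exact (Nat.one_lt_pow two_ne_zero hp.out.one_lt).ne hEc
  have hEcomm : ∀ a ∈ E, ∀ b ∈ E, Commute a b := fun a ha b hb =>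
    congrArg Subtype.val (hE.1.is_comm.comm ⟨a, ha⟩ ⟨b, hb⟩)
  -- no vector is fixed by all of `E`
  have hC : ∀ w : V, (∀ g ∈ E, g • w = w) → w = 0 := fun w hw => by
    by_contra hw0
    have hb := stab_bot_of_normal hP hq hV hpq hconst E hEne hw0 hw
    exact hEne ((Subgroup.eq_bot_iff_forall _).2 fun g hg => fpf_of_stab hconst hw0 hb (hw g hg) hw0)
  have horder : ∀ x ∈ E, x ≠ 1 → Nat.card (Subgroup.zpowers x) = p := fun x hx h1 => by
    rw [Nat.card_zpowers]
    exact orderOf_eq_prime (hE.2 x hx) h1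
  -- two different lines generate
  have hgen : ∀ x ∈ E, ∀ y ∈ E, x ≠ 1 → y ∉ Subgroup.zpowers x → ∀ w : V, x • w = w → y • w = w → w = 0 :=
    fun x hx y hy hx1 hyx w hxw hyw => by
      refine hC w fun g hg => ?_
      have hle : Subgroup.closure {x, y} = E := by
        have hc : Subgroup.closure {x, y} ≤ E := by
          rw [Subgroup.closure_le]
          rintro z (rfl | rfl) <;> assumption
        have hxc : Subgroup.zpowers x ≤ Subgroup.closure {x, y} :=
          Subgroup.zpowers_le.2 (Subgroup.subset_closure (Or.inl rfl))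
        refine Subgroup.eq_of_le_of_card_ge hc ?_
        obtain ⟨j, hj⟩ := IsPGroup.iff_card.1 (hP.to_subgroup (Subgroup.closure {x, y}))
        rw [hj, hEc]
        refine Nat.pow_le_pow_right hp0 ?_
        by_contra hlt
        refine hyx ?_
        have heq : Subgroup.zpowers x = Subgroup.closure {x, y} := Subgroup.eq_of_le_of_card_ge hxc (by
          rw [hj, horder x hx hx1]
          exact le_trans (Nat.pow_le_pow_right hp0 (by omega : j ≤ 1)) (pow_one p).le)
        rw [heq]
        exact Subgroup.subset_closure (Or.inr rfl)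
      have hsub : Subgroup.closure {x, y} ≤ stabilizer P w := by
        rw [Subgroup.closure_le]
        rintro z (rfl | rfl) <;> assumption
      exact hsub (hle ▸ hg)
  have hfix : ∀ (x : P) (w : V), x • w = w → ∀ g ∈ Subgroup.zpowers x, g • w = w := fun x w h g hg =>
    (Subgroup.zpowers_le.2 (mem_stabilizer_iff.2 h) : Subgroup.zpowers x ≤ stabilizer P w) hg
  -- projections
  have htr0 : ∀ x ∈ E, ∀ y ∈ E, x ≠ 1 → y ∉ Subgroup.zpowers x → ∀ w : V, y • w = w →
      tr (Subgroup.zpowers x) w = 0 := fun x hx y hy hx1 hyx w hyw => by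
    refine hgen x hx y hy hx1 hyx _ (tr_fixed _ _ (Subgroup.mem_zpowers x)) ?_
    letI := Fintype.ofFinite (Subgroup.zpowers x)
    rw [tr, Finset.smul_sum]
    refine Finset.sum_congr rfl fun h _ => ?_
    rw [← mul_smul, (hEcomm y hy h (Subgroup.zpowers_le.2 hx h.2)).eq, mul_smul, hyw]
  have htrp : ∀ x ∈ E, x ≠ 1 → ∀ w : V, x • w = w → tr (Subgroup.zpowers x) w = p • w := fun x hx hx1 w hw => by
    rw [tr_of_fixed _ (hfix x w hw), horder x hx hx1]
  have pc : ∀ {v w : V}, p • v = p • w → v = w := fun {v w} h =>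
    smul_cancel hP hq hV hpq 1 (by rwa [pow_one])
  -- conjugation normalising a line centralises it
  have hnorm : ∀ x ∈ E, ∀ g : P, g * x * g⁻¹ ∈ Subgroup.zpowers x → g * x * g⁻¹ = x := fun x hx g hg => by
    by_cases hx1 : x = 1
    · simp [hx1]
    obtain ⟨k, hk⟩ := (mem_powers_iff_mem_zpowers.2 hg)
    have hiter : ∀ m : ℕ, g ^ m * x * (g ^ m)⁻¹ = x ^ (k ^ m) := fun m => by
      induction m with
      | zero => simp
      | succ m ih =>
        rw [pow_succ' g, show g * g ^ m * x * (g * g ^ m)⁻¹ = g * (g ^ m * x * (g ^ m)⁻¹) * g⁻¹ by group, ih,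
          ← conj_pow, show g * x * g⁻¹ = x ^ k from hk.symm, ← pow_mul, pow_succ']
    obtain ⟨j, hj⟩ := hP g
    have h1 := hiter (p ^ j)
    rw [hj, one_mul, inv_one, mul_one] at h1
    have ho : orderOf x = p := orderOf_eq_prime (hE.2 x hx) hx1
    have h2 : ((k : ZMod p)) ^ (p ^ j) = 1 := by
      have : k ^ (p ^ j) ≡ 1 [MOD p] := by
        have := pow_eq_pow_iff_modEq.1 (h1.symm.trans (pow_one x).symm)
        rwa [ho] at this
      simpa using (ZMod.natCast_eq_natCast_iff _ _ _).2 this
    rw [ZMod.pow_card_pow] at h2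
    have h3 : k ≡ 1 [MOD p] := (ZMod.natCast_eq_natCast_iff _ _ _).1 (by simpa using h2)
    show g * x * g⁻¹ = x
    rw [← show x ^ k = g * x * g⁻¹ from hk]
    calc x ^ k = x ^ 1 := pow_eq_pow_iff_modEq.2 (ho ▸ h3)
      _ = x := pow_one x
  -- vectors in two different lines have equal stabilisers
  have pair : ∀ x ∈ E, ∀ y ∈ E, x ≠ 1 → y ≠ 1 → y ∉ Subgroup.zpowers x → ∀ v w : V, v ≠ 0 → w ≠ 0 →
      x • v = v → y • w = w → stabilizer P v = stabilizer P w := by
    intro x hx y hy hx1 hy1 hyx v w hv hw hxv hyw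
    have hxy : x ∉ Subgroup.zpowers y := fun h => hyx <| by
      have e := Subgroup.eq_of_le_of_card_ge (Subgroup.zpowers_le.2 h) (by rw [horder x hx hx1, horder y hy hy1])
      rw [e]; exact Subgroup.mem_zpowers y
    have s1 : tr (Subgroup.zpowers x) (v + w) = p • v := by
      rw [tr_add, htrp x hx hx1 v hxv, htr0 x hx y hy hx1 hyx w hyw, add_zero]
    have s2 : tr (Subgroup.zpowers y) (v + w) = p • w := by
      rw [tr_add, htrp y hy hy1 w hyw, htr0 y hy x hx hy1 hxy v hxv, zero_add]
    refine stab_eq_of_pair hconst hv hw (fun h0 => hv (pc (by rw [← s1, h0, tr_zero, nsmul_zero]))) fun g hg => ?_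
    have hnE : ∀ z ∈ E, g * z * g⁻¹ ∈ E := fun z hz => (inferInstance : E.Normal).conj_mem z hz g
    have hgf : ∀ (z : P) (u : V), z • u = u → (g * z * g⁻¹) • g • u = g • u := fun z u h => by
      rw [← mul_smul, inv_mul_cancel_right, mul_smul, h]
    rw [smul_add] at hg
    have cases : ∀ z ∈ E, z ≠ 1 → ∀ u : V, u ≠ 0 → tr (Subgroup.zpowers z) (v + w) = p • u →
        g * x * g⁻¹ ∈ Subgroup.zpowers z ∨ g * y * g⁻¹ ∈ Subgroup.zpowers z := fun z hz hz1 u hu hs => by
      by_contra hcon
      push Not at hcon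
      rw [← hg, tr_add, htr0 z hz _ (hnE x hx) hz1 hcon.1 _ (hgf x v hxv),
        htr0 z hz _ (hnE y hy) hz1 hcon.2 _ (hgf y w hyw), add_zero] at hs
      exact hu (pc (by rw [← hs, nsmul_zero]))
    have same : g * x * g⁻¹ ∈ Subgroup.zpowers x := by
      rcases cases x hx hx1 v hv s1 with h | h
      · exact h
      rcases cases y hy hy1 w hw s2 with h' | h'
      · -- the two lines cannot be interchanged
        have h2 : g ^ 2 * x * (g ^ 2)⁻¹ ∈ Subgroup.zpowers x := by
          obtain ⟨i, hi⟩ := Subgroup.mem_zpowers_iff.1 h'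
          rw [show g ^ 2 * x * (g ^ 2)⁻¹ = g * (g * x * g⁻¹) * g⁻¹ by rw [pow_two, mul_inv_rev]; simp only [mul_assoc], ← hi, ← conj_zpow]
          exact (Subgroup.zpowers x).zpow_mem h i
        have hodd : g ∈ Subgroup.zpowers (g ^ 2) := by
          obtain ⟨j, hj⟩ := hP g
          have ho : Odd (p ^ j) := (hp.out.odd_of_ne_two hp2).pow
          obtain ⟨i, hi⟩ := ho
          refine ⟨((i + 1 : ℕ) : ℤ), ?_⟩
          show (g ^ 2) ^ ((i + 1 : ℕ) : ℤ) = g
          rw [zpow_natCast, ← pow_mul, show 2 * (i + 1) = p ^ j + 1 by omega, pow_succ, hj, one_mul]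
        have hcent : g * x * g⁻¹ = x := by
          have hc : g ^ 2 ∈ Subgroup.centralizer ({x} : Set P) :=
            Subgroup.mem_centralizer_singleton_iff.2 (mul_inv_eq_iff_eq_mul.1 (hnorm x hx _ h2))
          have := Subgroup.mem_centralizer_singleton_iff.1 (Subgroup.zpowers_le.2 hc hodd)
          rw [mul_inv_eq_iff_eq_mul]; exact this
        rw [hcent]; exact Subgroup.mem_zpowers x
      · exfalso
        have hg1 : g * y * g⁻¹ ≠ 1 := fun e => hy1 (by simpa using e)
        have e1 := Subgroup.eq_of_le_of_card_ge (Subgroup.zpowers_le.2 h)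
          (by rw [horder x hx hx1, horder _ (hnE y hy) hg1])
        have e2 := Subgroup.eq_of_le_of_card_ge (Subgroup.zpowers_le.2 h')
          (by rw [horder y hy hy1, horder _ (hnE y hy) hg1])
        exact hyx (e1 ▸ e2 ▸ Subgroup.mem_zpowers y)
    have hgx : g * x * g⁻¹ = x := hnorm x hx g same
    have hy' : g * y * g⁻¹ ∉ Subgroup.zpowers x := fun h => hyx <| by
      obtain ⟨i, hi⟩ := Subgroup.mem_zpowers_iff.1 h
      rw [← hgx, conj_zpow] at hi
      rw [← mul_left_cancel (mul_right_cancel hi)]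
      exact zpow_mem (Subgroup.mem_zpowers x) i
    have hv' : g • v = v := by
      have h := congrArg (tr (Subgroup.zpowers x)) hg
      rw [s1, tr_add, htrp x hx hx1 (g • v) (by have := hgf x v hxv; rwa [hgx] at this),
        htr0 x hx _ (hnE y hy) hx1 hy' _ (hgf y w hyw), add_zero] at h
      exact pc h
    rw [hv'] at hg
    exact ⟨hv', add_left_cancel hg⟩
  -- the decomposition along the lines
  obtain ⟨a, ha, ha1⟩ : ∃ a ∈ E, a ≠ 1 := (Subgroup.ne_bot_iff_exists_ne_one.1 hEne).imp' (↑)
    (fun a h => ⟨a.2, fun e => h (Subtype.ext e)⟩)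
  obtain ⟨b, hb, hba⟩ : ∃ b ∈ E, b ∉ Subgroup.zpowers a := by
    by_contra hcon
    push Not at hcon
    have := Subgroup.card_le_of_le (show E ≤ Subgroup.zpowers a from hcon)
    rw [hEc, horder a ha ha1, pow_two] at this
    exact absurd this (not_le.2 (lt_mul_of_one_lt_left hp0 hp.out.one_lt))
  have hb1 : b ≠ 1 := fun h => hba (h ▸ one_mem _)
  let pw : P → ZMod p → P := fun x i => x ^ i.val
  have pw_add : ∀ x ∈ E, ∀ i j, pw x (i + j) = pw x i * pw x j := fun x hx i j => by
    show x ^ (i + j).val = x ^ i.val * x ^ j.val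
    rw [← pow_add, ZMod.val_add, ← pow_eq_pow_mod _ (hE.2 x hx)]
  have pw_mem : ∀ x ∈ E, ∀ i, pw x i ∈ E := fun x hx i => E.pow_mem hx _
  let f : V → ZMod p → ZMod p → V := fun v i j => (pw a i * pw b j) • v
  let L : V → Option (ZMod p) → V := fun v o => o.elim (∑ j, f v 0 j) fun j => ∑ i, f v i (i * j)
  have hsum : ∀ v, ∑ o, L v o = p • v := fun v => by
    have htot : ∑ i, ∑ j, f v i j = 0 := by
      have e1 : ∀ i₀, pw a i₀ • (∑ i, ∑ j, f v i j) = ∑ i, ∑ j, f v i j := fun i₀ => by
        simp only [Finset.smul_sum]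
        refine Fintype.sum_equiv (Equiv.addLeft i₀) _ _ fun i => Finset.sum_congr rfl fun j _ => ?_
        show pw a i₀ • f v i j = f v (i₀ + i) j
        simp only [f, ← mul_smul, pw_add a ha, mul_assoc]
      have e2 : ∀ j₀, pw b j₀ • (∑ i, ∑ j, f v i j) = ∑ i, ∑ j, f v i j := fun j₀ => by
        simp only [Finset.smul_sum]
        refine Finset.sum_congr rfl fun i _ => Fintype.sum_equiv (Equiv.addLeft j₀) _ _ fun j => ?_
        show pw b j₀ • f v i j = f v i (j₀ + j)
        simp only [f, ← mul_smul, pw_add b hb]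
        rw [← mul_assoc, (hEcomm _ (pw_mem b hb j₀) _ (pw_mem a ha i)).eq, mul_assoc]
      haveI : Fact (1 < p) := ⟨hp.out.one_lt⟩
      refine hgen a ha b hb ha1 hba _ ?_ ?_
      · simpa [pw, ZMod.val_one] using e1 1
      · simpa [pw, ZMod.val_one] using e2 1
    have hf0 : f v 0 0 = v := by simp [f, pw]
    have hin : ∀ i : ZMod p, ∑ j, f v i (i * j) + (if i = 0 then ∑ j, f v i j else 0) =
        (if i = 0 then p • v else 0) + ∑ j, f v i j := fun i => by
      by_cases hi : i = 0
      · subst hi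
        simp [hf0]
      · rw [if_neg hi, if_neg hi, add_zero, zero_add]
        exact Fintype.sum_equiv (Equiv.mulLeft₀ i hi) _ _ fun j => rfl
    have h := Finset.sum_congr rfl (fun i (_ : i ∈ (Finset.univ : Finset (ZMod p))) => hin i)
    rw [Finset.sum_add_distrib, Finset.sum_add_distrib, Finset.sum_comm, htot, add_zero, Finset.sum_ite_eq',
      Finset.sum_ite_eq', if_pos (Finset.mem_univ _), if_pos (Finset.mem_univ _)] at h
    rw [Fintype.sum_option]
    show ∑ j, f v 0 j + ∑ j, ∑ i, f v i (i * j) = _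
    rw [add_comm, h]
  let z : Option (ZMod p) → P := fun o => o.elim b fun j => a * pw b j
  have hzE : ∀ o, z o ∈ E := fun o => by cases o <;> [exact hb; exact E.mul_mem ha (pw_mem b hb _)]
  have hz1 : ∀ o, z o ≠ 1 := fun o => by
    cases o with
    | none => exact hb1
    | some j =>
      intro h
      by_cases hj : j = 0
      · exact ha1 (by simpa [z, hj, pw] using h)
      · refine hba ?_
        have hbz : pw b j = a⁻¹ := eq_inv_of_mul_eq_one_right h
        have hmem : pw b j ∈ Subgroup.zpowers a := hbz ▸ inv_mem (Subgroup.mem_zpowers a)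
        have e := Subgroup.eq_of_le_of_card_ge (Subgroup.zpowers_le.2 hmem) (by
          rw [horder a ha ha1, horder _ (pw_mem b hb j) (fun e => ha1 (by rw [e] at hbz; exact inv_eq_one.1 hbz.symm))])
        have hb' : Subgroup.zpowers (pw b j) = Subgroup.zpowers b := by
          refine Subgroup.eq_of_le_of_card_ge (Subgroup.zpowers_le.2 (Subgroup.pow_mem _ (Subgroup.mem_zpowers b) _)) ?_
          rw [horder b hb hb1, horder _ (pw_mem b hb j) (fun e => ha1 (by rw [e] at hbz; exact inv_eq_one.1 hbz.symm))]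
        rw [← e, hb']
        exact Subgroup.mem_zpowers b
  have hzfix : ∀ v o, z o • L v o = L v o := fun v o => by
    haveI : Fact (1 < p) := ⟨hp.out.one_lt⟩
    cases o with
    | none =>
      show b • (∑ j, f v 0 j) = _
      rw [Finset.smul_sum]
      refine Fintype.sum_equiv (Equiv.addLeft 1) _ _ fun j => ?_
      show b • f v 0 j = f v 0 (1 + j)
      simp only [f, ← mul_smul, pw_add b hb]
      simp [pw, ZMod.val_one]
    | some j =>
      show (a * pw b j) • (∑ i, f v i (i * j)) = _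
      rw [Finset.smul_sum]
      refine Fintype.sum_equiv (Equiv.addLeft 1) _ _ fun i => ?_
      show (a * pw b j) • f v i (i * j) = f v (1 + i) ((1 + i) * j)
      simp only [f, ← mul_smul, pw_add a ha, add_mul, one_mul, pw_add b hb]
      rw [show pw a 1 = a by simp [pw, ZMod.val_one]]
      congr 1
      exact (hEcomm _ (pw_mem b hb j) _ (pw_mem a ha i)).mul_mul_mul_comm a (pw b (i * j))
  -- two different lines occur
  obtain ⟨v, hv⟩ := exists_ne (0 : V)
  obtain ⟨o, ho⟩ : ∃ o, L v o ≠ 0 := by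
    by_contra hcon
    push Not at hcon
    have := hsum v
    rw [Finset.sum_eq_zero (fun o _ => hcon o)] at this
    exact hv (pc (by rw [nsmul_zero, ← this]))
  set x := z o
  have hx := hzE o
  have hx1 := hz1 o
  set v₁ := L v o
  have hxv : x • v₁ = v₁ := hzfix v o
  obtain ⟨y, hy, hy1, hyx, v₂, hv₂, hyv⟩ : ∃ y ∈ E, y ≠ 1 ∧ y ∉ Subgroup.zpowers x ∧ ∃ v₂ : V, v₂ ≠ 0 ∧ y • v₂ = v₂ := by
    by_contra hcon
    push Not at hcon
    refine hx1 (eq_of_smul_eq_smul (α := V) fun u => ?_)
    rw [one_smul]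
    refine pc ?_
    rw [smul_comm, ← hsum u, Finset.smul_sum]
    refine Finset.sum_congr rfl fun o' _ => ?_
    by_cases h0 : L u o' = 0
    · rw [h0, smul_zero]
    by_cases hline : z o' ∈ Subgroup.zpowers x
    · have e := Subgroup.eq_of_le_of_card_ge (Subgroup.zpowers_le.2 hline)
        (by rw [horder x hx hx1, horder _ (hzE o') (hz1 o')])
      exact hfix _ _ (hzfix u o') x (e ▸ Subgroup.mem_zpowers x)
    · exact absurd (hzfix u o') (hcon _ (hzE o') (hz1 o') hline _ h0)
  have h12 := pair x hx y hy hx1 hy1 hyx v₁ v₂ ho hv₂ hxv hyv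
  have hbot : stabilizer P v₁ = ⊥ := by
    refine stab_eq_bot_of_forall hconst fun g hg u => pc ?_
    rw [smul_comm, ← hsum u, Finset.smul_sum]
    refine Finset.sum_congr rfl fun o' _ => ?_
    by_cases h0 : L u o' = 0
    · rw [h0, smul_zero]
    rw [← mem_stabilizer_iff]
    by_cases hline : z o' ∈ Subgroup.zpowers x
    · have hyz : y ∉ Subgroup.zpowers (z o') := fun h => hyx (Subgroup.zpowers_le.2 hline h)
      rwa [pair (z o') (hzE o') y hy (hz1 o') hy1 hyz _ v₂ h0 hv₂ (hzfix u o') hyv, ← h12]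
    · rwa [← pair x hx (z o') (hzE o') hx1 (hz1 o') hline v₁ _ ho h0 hxv (hzfix u o')]
  exact hx1 (fpf_of_stab hconst ho hbot hxv ho)

end Coprime

end Cfsg.Agent.Lie.HalfTransitive
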