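import Mathlib

/-!
The generic Hecke algebra of a finite group with generators, in coordinates: the Casimir matrix and
the commutator matrix as polynomial matrices, and the constancy of their ranks at the parameters
where they are complementary (Tits deformation).
-/

set_option autoImplicit false

namespace Cfsg.Agent.Lie.HeckeRank

open Polynomial Matrix

section rank

variable {m n : Type*} [Fintype m] [Fintype n]

/-- Matrices cutting out an identity of the size of the rank. -/
theorem exists_cut (M : Matrix m n ℂ) :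
    ∃ (U : Matrix (Fin M.rank) m ℂ) (V : Matrix n (Fin M.rank) ℂ), U * M * V = 1 := by
  classical
  let b : Module.Basis (Fin M.rank) ℂ (LinearMap.range M.mulVecLin) := Module.finBasis ℂ _
  have hpre : ∀ i : Fin M.rank, ∃ v, M.mulVecLin v = (b i : m → ℂ) := fun i => (b i).2
  choose v hv using hpre
  let Vt : (Fin M.rank → ℂ) →ₗ[ℂ] (n → ℂ) := (Pi.basisFun ℂ _).constr ℂ v
  have hVt : ∀ i, Vt (Pi.basisFun ℂ _ i) = v i := fun i => Module.Basis.constr_basis _ _ _ i
  have hinj : LinearMap.ker (M.mulVecLin ∘ₗ Vt) = ⊥ := by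
    have e : M.mulVecLin ∘ₗ Vt = (LinearMap.range M.mulVecLin).subtype ∘ₗ
        b.equivFun.symm.toLinearMap := by
      refine (Pi.basisFun ℂ (Fin M.rank)).ext fun i => ?_
      rw [LinearMap.comp_apply, hVt, hv, LinearMap.comp_apply, Pi.basisFun_apply]
      simp [Module.Basis.equivFun_symm_apply, Pi.single_apply]
    rw [e, LinearMap.ker_comp, Submodule.ker_subtype, Submodule.comap_bot]
    exact b.equivFun.symm.ker
  obtain ⟨g, hg⟩ := (M.mulVecLin ∘ₗ Vt).exists_leftInverse_of_injective hinj
  refine ⟨LinearMap.toMatrix' g, LinearMap.toMatrix' Vt, ?_⟩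
  rw [← LinearMap.toMatrix'_id, ← hg, LinearMap.toMatrix'_comp, LinearMap.toMatrix'_comp,
    ← Matrix.toLin'_apply', LinearMap.toMatrix'_toLin', Matrix.mul_assoc]

theorem le_rank_of_cut {r : ℕ} (M : Matrix m n ℂ) (U : Matrix (Fin r) m ℂ)
    (V : Matrix n (Fin r) ℂ) (h : (U * M * V).det ≠ 0) : r ≤ M.rank := by
  have h1 := Matrix.rank_of_isUnit (U * M * V)
    ((Matrix.isUnit_iff_isUnit_det _).2 (isUnit_iff_ne_zero.2 h))
  have h2 : (U * M * V).rank ≤ M.rank :=
    (Matrix.rank_mul_le_left _ _).trans (Matrix.rank_mul_le_right _ _)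
  rw [h1, Fintype.card_fin] at h2
  exact h2

/-- A rank bound at one point holds at all but finitely many points. -/
theorem finite_rank_lt (M : Matrix m n ℂ[X]) (a : ℂ) :
    {t : ℂ | (M.map (eval t)).rank < (M.map (eval a)).rank}.Finite := by
  classical
  obtain ⟨U, V, hUV⟩ := exists_cut (M.map (eval a))
  obtain ⟨d, hd⟩ : ∃ d : ℂ[X], d = (U.map C * M * V.map C).det := ⟨_, rfl⟩
  have hev : ∀ t, d.eval t = (U * M.map (eval t) * V).det := by
    intro t
    rw [hd, ← Polynomial.coe_evalRingHom, RingHom.map_det, RingHom.mapMatrix_apply,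
      Matrix.map_mul, Matrix.map_mul, Matrix.map_map, Matrix.map_map]
    congr 3
    · ext i j; simp
    · ext i j; simp
  have hd0 : d ≠ 0 := fun e => by
    have := hev a
    rw [e, eval_zero, hUV, Matrix.det_one] at this
    exact one_ne_zero this.symm
  refine (finite_setOf_isRoot hd0).subset fun t ht => ?_
  by_contra h
  refine absurd (le_rank_of_cut (M.map (eval t)) U V ?_) (not_le.2 ht)
  rw [← hev]
  exact h

end rank

/-- Two complementary ranks at infinitely many points are constant at complementary points. -/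
theorem rank_eq_of_good {m n m' n' : Type*} [Fintype m] [Fintype n] [Fintype m'] [Fintype n']
    (K : Matrix m n ℂ[X]) (C : Matrix m' n' ℂ[X]) (N : ℕ) (a b : ℂ)
    (ha : (K.map (eval a)).rank + (C.map (eval a)).rank = N)
    (hb : (K.map (eval b)).rank + (C.map (eval b)).rank = N)
    (hinf : {t : ℂ | (K.map (eval t)).rank + (C.map (eval t)).rank = N}.Infinite) :
    (K.map (eval a)).rank = (K.map (eval b)).rank := by
  have hfin := ((finite_rank_lt K a).union (finite_rank_lt K b)).union
    ((finite_rank_lt C a).union (finite_rank_lt C b))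
  obtain ⟨t, ht, hnot⟩ := hinf.exists_notMem_finset hfin.toFinset
  rw [Set.Finite.mem_toFinset] at hnot
  simp only [Set.mem_union, Set.mem_setOf_eq, not_or, not_lt] at hnot
  rw [Set.mem_setOf_eq] at ht
  omega

section group

variable {W : Type*} [Group W] {k : ℕ} (s : Fin k → W)
variable (hgen : ∀ w, ∃ l : List (Fin k), (l.map s).prod = w)

open Classical in
/-- The length of an element. -/
noncomputable def ell (w : W) : ℕ :=
  Nat.find (p := fun j => ∃ l : List (Fin k), l.length = j ∧ (l.map s).prod = w)
    (let ⟨l, hl⟩ := hgen w; ⟨l.length, l, rfl, hl⟩)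

theorem exists_red (w : W) :
    ∃ l : List (Fin k), l.length = ell s hgen w ∧ (l.map s).prod = w := by
  classical
  exact Nat.find_spec (p := fun j => ∃ l : List (Fin k), l.length = j ∧ (l.map s).prod = w)
    (let ⟨l, hl⟩ := hgen w; ⟨l.length, l, rfl, hl⟩)

theorem ell_le (l : List (Fin k)) : ell s hgen (l.map s).prod ≤ l.length := by
  classical
  exact Nat.find_min' _ ⟨l, rfl, rfl⟩

/-- A shortest word. -/
noncomputable def red (w : W) : List (Fin k) := (exists_red s hgen w).choose

theorem red_spec (w : W) :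
    (red s hgen w).length = ell s hgen w ∧ ((red s hgen w).map s).prod = w :=
  (exists_red s hgen w).choose_spec

variable [Fintype W] [DecidableEq W]

/-- Multiplication by a generator. -/
noncomputable def Lgen (i : Fin k) : Matrix W W ℂ[X] := fun w' w =>
  if ell s hgen w < ell s hgen (s i * w) then (if w' = s i * w then 1 else 0)
  else (X - 1) * (if w' = w then 1 else 0) + X * (if w' = s i * w then 1 else 0)

/-- Multiplication by a basis element on the left. -/
noncomputable def Lx (x : W) : Matrix W W ℂ[X] := ((red s hgen x).map (Lgen s hgen)).prod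

/-- Multiplication by a basis element on the right. -/
noncomputable def Rx (x : W) : Matrix W W ℂ[X] := fun w' w => Lx s hgen w w' x

/-- The commutators with the basis elements. -/
noncomputable def Cmat : Matrix (W × W) W ℂ[X] := fun a w =>
  (Lx s hgen a.1 - Rx s hgen a.1) a.2 w

/-- A bound on the lengths. -/
noncomputable def top : ℕ := Finset.univ.sup (ell s hgen)

/-- The Casimir matrix. -/
noncomputable def Kmat : Matrix W W ℂ[X] :=
  ∑ x : W, (X ^ (top s hgen - ell s hgen x) : ℂ[X]) • (Lx s hgen x * Rx s hgen x⁻¹)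

/-- The evaluated left multiplication. -/
noncomputable def evL (t : ℂ) (x : W) : Matrix W W ℂ := (Lx s hgen x).map (eval t)

/-- The evaluated right multiplication. -/
noncomputable def evR (t : ℂ) (x : W) : Matrix W W ℂ := (Rx s hgen x).map (eval t)

theorem evL_eq (t : ℂ) (x : W) :
    evL s hgen t x = ((red s hgen x).map fun i => (Lgen s hgen i).map (eval t)).prod := by
  rw [evL, Lx, ← Polynomial.coe_evalRingHom, ← RingHom.mapMatrix_apply, map_list_prod, List.map_map]
  rfl

theorem evK_eq (t : ℂ) :
    (Kmat s hgen).map (eval t) =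
      ∑ x : W, t ^ (top s hgen - ell s hgen x) • (evL s hgen t x * evR s hgen t x⁻¹) := by
  rw [Kmat, ← Polynomial.coe_evalRingHom, ← RingHom.mapMatrix_apply, map_sum]
  refine Finset.sum_congr rfl fun x _ => ?_
  rw [RingHom.mapMatrix_apply]
  ext i j
  simp [evL, evR, Matrix.mul_apply, eval_finsetSum]

theorem evC_mulVec (t : ℂ) (v : W → ℂ) (a : W × W) :
    ((Cmat s hgen).map (eval t) *ᵥ v) a =
      (evL s hgen t a.1 *ᵥ v) a.2 - (evR s hgen t a.1 *ᵥ v) a.2 := by
  simp only [Cmat, evL, evR, Matrix.mulVec, dotProduct, Matrix.map_apply, Matrix.sub_apply,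
    eval_sub, sub_mul, Finset.sum_sub_distrib]

theorem rank_C_add (t : ℂ) :
    ((Cmat s hgen).map (eval t)).rank +
      Module.finrank ℂ (LinearMap.ker ((Cmat s hgen).map (eval t)).mulVecLin) = Fintype.card W := by
  rw [Matrix.rank, LinearMap.finrank_range_add_finrank_ker, Module.finrank_fintype_fun_eq_card]

/-! ### The parameter `1` -/

theorem evL_one (x : W) (v : W → ℂ) (w : W) : (evL s hgen 1 x *ᵥ v) w = v (x⁻¹ * w) := by
  have key : ∀ l : List (Fin k), ∀ (v : W → ℂ) (w : W),
      ((l.map fun i => (Lgen s hgen i).map (eval 1)).prod *ᵥ v) w = v ((l.map s).prod⁻¹ * w) := by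
    intro l
    induction l with
    | nil => intro v w; simp
    | cons i l ih =>
      intro v w
      have hgen1 : ∀ w' w, ((Lgen s hgen i).map (eval 1)) w' w = if w = (s i)⁻¹ * w' then 1 else 0 := by
        intro w' w
        rw [Matrix.map_apply, Lgen]
        simp only [apply_ite (eval (1 : ℂ)), eval_one, eval_zero, eval_add, eval_mul, eval_sub,
          eval_X, sub_self, zero_mul, zero_add, one_mul, ite_self]
        refine if_congr ?_ rfl rfl
        rw [eq_inv_mul_iff_mul_eq, eq_comm]
      rw [List.map_cons, List.prod_cons, ← Matrix.mulVec_mulVec]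
      show ∑ u, _ * _ = _
      simp only [hgen1, ite_mul, one_mul, zero_mul, Finset.sum_ite_eq', Finset.mem_univ, if_true]
      rw [ih, List.map_cons, List.prod_cons, _root_.mul_inv_rev, mul_assoc]
  rw [evL_eq, key, (red_spec s hgen x).2]

theorem evR_one (x : W) (v : W → ℂ) (w : W) : (evR s hgen 1 x *ᵥ v) w = v (w * x⁻¹) := by
  have hentry : ∀ u, evR s hgen 1 x w u = if u = w * x⁻¹ then 1 else 0 := by
    intro u
    have h := evL_one s hgen u (fun y => if y = x then 1 else 0) w
    simp only [Matrix.mulVec, dotProduct, mul_ite, mul_one, mul_zero, Finset.sum_ite_eq',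
      Finset.mem_univ, if_true] at h
    show evL s hgen 1 u w x = _
    rw [h]
    refine if_congr ?_ rfl rfl
    rw [inv_mul_eq_iff_eq_mul, eq_mul_inv_iff_mul_eq, eq_comm]
  show ∑ u, _ * _ = _
  simp [hentry]

theorem mem_ker_C_one (v : W → ℂ) :
    v ∈ LinearMap.ker ((Cmat s hgen).map (eval 1)).mulVecLin ↔
      ∀ a b, v (a * b * a⁻¹) = v b := by
  rw [LinearMap.mem_ker, Matrix.mulVecLin_apply, funext_iff]
  simp only [evC_mulVec, evL_one, evR_one, Pi.zero_apply, sub_eq_zero, Prod.forall]
  constructor
  · intro h a b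
    have h1 := h a⁻¹ (b * a⁻¹)
    simp only [inv_inv] at h1
    rw [← mul_assoc, inv_mul_cancel_right] at h1
    exact h1
  · intro h a b
    have h1 := h a⁻¹ (b * a⁻¹)
    simp only [inv_inv] at h1
    exact h1.symm ▸ congrArg v (by group)

theorem evK_one (v : W → ℂ) (w : W) :
    ((Kmat s hgen).map (eval 1) *ᵥ v) w = ∑ x : W, v (x⁻¹ * w * x) := by
  rw [evK_eq]
  simp only [one_pow, one_smul, Matrix.sum_mulVec, Finset.sum_apply, ← Matrix.mulVec_mulVec,
    evL_one, evR_one, inv_inv]

/-- The kernel and range at `1` are the class functions. -/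
theorem good_one :
    ((Kmat s hgen).map (eval 1)).rank + ((Cmat s hgen).map (eval 1)).rank = Fintype.card W ∧
      ((Kmat s hgen).map (eval 1)).rank = Nat.card (ConjClasses W) := by
  classical
  have hrange : LinearMap.range ((Kmat s hgen).map (eval 1)).mulVecLin =
      LinearMap.ker ((Cmat s hgen).map (eval 1)).mulVecLin := by
    refine le_antisymm ?_ fun v hv => ?_
    · rintro _ ⟨v, rfl⟩
      rw [mem_ker_C_one]
      intro a b
      simp only [Matrix.mulVecLin_apply, evK_one]
      refine Fintype.sum_equiv (Equiv.mulLeft a⁻¹) _ _ fun x => ?_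
      rw [Equiv.coe_mulLeft]
      exact congrArg v (by group)
    · rw [mem_ker_C_one] at hv
      refine ⟨(Fintype.card W : ℂ)⁻¹ • v, funext fun w => ?_⟩
      rw [Matrix.mulVecLin_apply, evK_one]
      have : ∀ x : W, ((Fintype.card W : ℂ)⁻¹ • v) (x⁻¹ * w * x) =
          (Fintype.card W : ℂ)⁻¹ * v w := fun x => by
        have h := hv x⁻¹ w
        rw [inv_inv] at h
        rw [Pi.smul_apply, smul_eq_mul, h]
      rw [Finset.sum_congr rfl fun x _ => this x, Finset.sum_const, Finset.card_univ, nsmul_eq_mul,
        ← mul_assoc, mul_inv_cancel₀ (Nat.cast_ne_zero.2 Fintype.card_ne_zero), one_mul]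
  have hdim : Module.finrank ℂ (LinearMap.ker ((Cmat s hgen).map (eval 1)).mulVecLin) =
      Nat.card (ConjClasses W) := by
    let ι : (ConjClasses W → ℂ) →ₗ[ℂ] (W → ℂ) := LinearMap.funLeft ℂ ℂ ConjClasses.mk
    have hι : Function.Injective ι :=
      LinearMap.funLeft_injective_of_surjective _ _ _ ConjClasses.mk_surjective
    have hr : LinearMap.range ι = LinearMap.ker ((Cmat s hgen).map (eval 1)).mulVecLin := by
      ext v
      rw [mem_ker_C_one]
      constructor
      · rintro ⟨g, rfl⟩ a b
        show g _ = g _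
        exact congrArg g (ConjClasses.mk_eq_mk_iff_isConj.2
          (isConj_iff.2 ⟨a⁻¹, by group⟩))
      · intro hv
        refine ⟨Quotient.lift v fun a b hab => ?_, rfl⟩
        obtain ⟨c, rfl⟩ := isConj_iff.1 hab
        exact (hv c a).symm
    rw [← hr, LinearMap.finrank_range_of_inj hι, Module.finrank_fintype_fun_eq_card,
      Nat.card_eq_fintype_card]
  refine ⟨?_, by rw [Matrix.rank, hrange, hdim]⟩
  have := rank_C_add s hgen 1
  rw [Matrix.rank, hrange]
  omega

end group

end Cfsg.Agent.Lie.HeckeRank
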