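import Cfsg.Agent.Lib.Lie.L33FlagData

/-! The commutation graph of the 52 root subgroups of `SL(3, 3)` has at most 11232 automorphisms. -/

set_option autoImplicit false
set_option maxRecDepth 8000

namespace Cfsg.Agent.Lie.L33

/-- Commutation of two root subgroups. -/
def adjB (u v : Fin 52) : Bool := Nat.testBit (adjCode u) v

theorem mem_nbr : ∀ u w : Fin 52, adjB u w = true → w ≠ u → w ∈ nbr u := by decide +kernel

theorem adjB_self : ∀ u : Fin 52, adjB u u = true := by decide +kernel

theorem adjB_ext : ∀ u v : Fin 52, adjCode u = adjCode v → u = v := by decide +kernel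

theorem adjCode_lt : ∀ u : Fin 52, adjCode u < 2 ^ 52 := by decide +kernel

theorem row_ext {u v : Fin 52} (h : ∀ k, adjB u k = adjB v k) : u = v := by
  refine adjB_ext u v (Nat.eq_of_testBit_eq fun i => ?_)
  rcases lt_or_ge i 52 with hi | hi
  · exact h ⟨i, hi⟩
  · rw [Nat.testBit_eq_false_of_lt ((adjCode_lt u).trans_le (Nat.pow_le_pow_right two_pos hi)),
      Nat.testBit_eq_false_of_lt ((adjCode_lt v).trans_le (Nat.pow_le_pow_right two_pos hi))]

/-- Extensions of a partial image by one vertex. -/
def extend (j : ℕ) (pat : List Bool) (t : List (Fin 52)) : List (List (Fin 52)) :=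
  ((nbr (t.getD j 0)).filter fun w => (t.map fun u => adjB u w) == pat).map fun w => t ++ [w]

/-- The possible images of the base. -/
def build : List (ℕ × Fin 52) → List (Fin 52) → List (List (Fin 52)) → List (List (Fin 52))
  | [], _, L => L
  | (j, v) :: r, b, L => build r (b ++ [v]) (L.flatMap (extend j (b.map fun u => adjB u v)))

/-- The base. -/
def base : List (Fin 52) := 0 :: steps.map Prod.snd

theorem steps_ok : ∀ i < steps.length, (steps.getD i (0, 0)).1 < i + 1 ∧
    adjB (base.getD (steps.getD i (0, 0)).1 0) (base.getD (i + 1) 0) = true ∧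
    base.getD (i + 1) 0 ≠ base.getD (steps.getD i (0, 0)).1 0 := by decide +kernel

theorem build_length : (build steps [0] [[0]]).length ≤ 216 := by decide +kernel

theorem base_resolves : ∀ v w : Fin 52,
    (base.map fun b => adjB v b) = (base.map fun b => adjB w b) → v = w := by decide +kernel

variable (σ : Equiv.Perm (Fin 52))

/-- Automorphisms of the graph. -/
def IsGraphAut : Prop := ∀ u v, adjB (σ u) (σ v) = adjB u v

theorem mem_build (hσ : IsGraphAut σ) : ∀ (r : List (ℕ × Fin 52)) (b : List (Fin 52))
    (L : List (List (Fin 52))), b.map σ ∈ L →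
    (∀ i < r.length, (r.getD i (0, 0)).1 < b.length + i ∧
      adjB ((b ++ r.map Prod.snd).getD (r.getD i (0, 0)).1 0) ((b ++ r.map Prod.snd).getD (b.length + i) 0) = true ∧
      (b ++ r.map Prod.snd).getD (b.length + i) 0 ≠ (b ++ r.map Prod.snd).getD (r.getD i (0, 0)).1 0) →
    (b ++ r.map Prod.snd).map σ ∈ build r b L := by
  intro r
  induction r with
  | nil => intro b L h _; simpa [build] using h
  | cons a r ih =>
    obtain ⟨j, v⟩ := a
    intro b L h hok
    obtain ⟨hj, ha, hne⟩ := hok 0 (by simp)
    simp only [List.getD_cons_zero, Nat.add_zero] at hj ha hne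
    have hb : ((b ++ ((j, v) :: r).map Prod.snd).getD b.length 0) = v := by simp
    have hbj : ((b ++ ((j, v) :: r).map Prod.snd).getD j 0) = b.getD j 0 := by
      rw [List.getD_append _ _ _ _ hj]
    rw [hb, hbj] at ha hne
    have := ih (b ++ [v]) (L.flatMap (extend j (b.map fun u => adjB u v)))
      (List.mem_flatMap.2 ⟨_, h, by
        simp only [extend, List.mem_map, List.mem_filter]
        refine ⟨σ v, ⟨?_, ?_⟩, by simp⟩
        · have e : (b.map σ).getD j 0 = σ (b.getD j 0) := by
            rw [List.getD_eq_getElem _ _ (by simpa using hj), List.getD_eq_getElem _ _ hj, List.getElem_map]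
          rw [e]
          exact mem_nbr _ _ (by rw [hσ]; exact ha) (σ.injective.ne hne)
        · simp [List.map_map, Function.comp_def, hσ _ _]⟩)
      (fun i hi => by
        have h' := hok (i + 1) (by simp; omega)
        simpa [List.append_assoc, Nat.add_comm 1, Nat.add_left_comm, Nat.add_assoc] using h')
    simpa [build, List.append_assoc] using this

theorem eq_of_base {σ τ : Equiv.Perm (Fin 52)} (hσ : IsGraphAut σ) (hτ : IsGraphAut τ)
    (h : base.map σ = base.map τ) : σ = τ := by
  refine Equiv.ext fun v => ?_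
  obtain ⟨w, hw⟩ := τ.surjective (σ v)
  rw [← hw]
  refine congrArg τ (base_resolves w v (List.map_inj_left.2 fun b hb => ?_))
  rw [← hτ w b, hw, ← List.map_inj_left.1 h b hb, hσ]

/-- The group of automorphisms. -/
def graphAut : Subgroup (Equiv.Perm (Fin 52)) where
  carrier := {σ | IsGraphAut σ}
  one_mem' _ _ := rfl
  mul_mem' {a b} ha hb u v := (ha (b u) (b v)).trans (hb u v)
  inv_mem' {a} ha u v := by
    have := ha (a⁻¹ u) (a⁻¹ v)
    simpa using this.symm

theorem card_graphAut : Nat.card graphAut ≤ 11232 := by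
  classical
  haveI := Fintype.ofFinite graphAut
  rw [Nat.card_eq_fintype_card, ← Finset.card_univ]
  have hfib : ∀ v ∈ (Finset.univ : Finset (Fin 52)),
      (Finset.univ.filter fun σ : graphAut => (σ : Equiv.Perm (Fin 52)) 0 = v).card ≤ 216 := by
    intro v _
    rcases Finset.eq_empty_or_nonempty
      (Finset.univ.filter fun σ : graphAut => (σ : Equiv.Perm (Fin 52)) 0 = v) with e | ⟨s₀, hs₀⟩
    · rw [e]; simp
    refine le_trans (Finset.card_le_card_of_injOn
      (fun σ : graphAut => base.map ((s₀⁻¹ * σ : graphAut) : Equiv.Perm (Fin 52))) (t := (build steps [0] [[0]]).toFinset)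
      (fun σ hσ => ?_) fun σ _ τ _ e => ?_)
      ((List.toFinset_card_le _).trans build_length)
    · simp only [Finset.coe_filter, Finset.mem_univ, true_and, Set.mem_setOf_eq,
        Finset.mem_filter] at hσ hs₀
      rw [List.coe_toFinset, Set.mem_setOf_eq]
      refine mem_build _ (s₀⁻¹ * σ : graphAut).2 steps [0] [[0]] ?_ (fun i hi => ?_)
      · have : ((s₀ : Equiv.Perm (Fin 52))⁻¹ * σ) 0 = 0 := by
          rw [Equiv.Perm.mul_apply, hσ, ← hs₀, Equiv.Perm.inv_def, Equiv.symm_apply_apply]
        simpa using this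
      · have := steps_ok i hi
        simpa [base, Nat.add_comm] using this
    · exact mul_left_cancel (Subtype.ext (eq_of_base (s₀⁻¹ * σ : graphAut).2
        (s₀⁻¹ * τ : graphAut).2 e))
  exact le_trans (Finset.card_le_mul_card_image_of_maps_to
    (f := fun σ : graphAut => (σ : Equiv.Perm (Fin 52)) 0) (fun _ _ => Finset.mem_univ _) 216 hfib)
    (le_of_eq (by simp))

end Cfsg.Agent.Lie.L33
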