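import Cfsg.Agent.Lib.Lie.L33FlagMat
import Cfsg.Agent.Lib.Lie.L33FlagGraph
import Cfsg.Agent.Lib.Recog.SpectrumSL3Three

/-! A finite group with the commuting graph of `SL(3, 3)` is isomorphic to it. -/

set_option autoImplicit false
set_option linter.style.haveILetI false

namespace Cfsg.Agent.Lie.L33

open Matrix

theorem card_S3 : Nat.card S3 = 5616 := by
  have h := Cfsg.Agent.Classical.natCard_GL_eq_SL_mul (F := ZMod 3) 3 (by norm_num)
  rw [Matrix.card_GL_field, Cfsg.Agent.Classical.natCard_units_field, ZMod.card] at h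
  norm_num [Fin.prod_univ_three] at h
  rw [← Nat.card_eq_fintype_card] at h
  show Nat.card (Matrix.SpecialLinearGroup (Fin 3) (ZMod 3)) = 5616
  omega

theorem center_S3 : Subgroup.center S3 = ⊥ := by
  have := Cfsg.Agent.SpectrumSL3Three.mk_injective (F := ZMod 3) (ZMod.card 3)
  rw [Subgroup.eq_bot_iff_forall]
  exact fun g hg => this ((QuotientGroup.eq_one_iff g).2 hg)

theorem simple_S3 : IsSimpleGroup S3 := by
  haveI := Cfsg.Agent.Classical.PSL_simple_of_three_le (F := ZMod 3) (ι := Fin 3) (by simp)
  let e : S3 ≃* Matrix.ProjectiveSpecialLinearGroup (Fin 3) (ZMod 3) :=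
    MulEquiv.ofBijective (QuotientGroup.mk' _)
      ⟨Cfsg.Agent.SpectrumSL3Three.mk_injective (ZMod.card 3), QuotientGroup.mk'_surjective _⟩
  exact MulEquiv.isSimpleGroup e

theorem emat_rep : ∀ k, ∃ i b, rmat i b = emat k := by decide +kernel

theorem rep_ne_one (i : Fin 52) : rep i false ≠ 1 := by
  obtain ⟨w, hw⟩ := exists_wit i
  intro e
  rw [e, conj_eq_one_iff] at hw
  exact z_ne (congrArg Subtype.val hw)

theorem card_centralizer_conj {G : Type*} [Group G] (g x : G) :
    Nat.card (Subgroup.centralizer ({g * x * g⁻¹} : Set G)) =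
      Nat.card (Subgroup.centralizer ({x} : Set G)) := by
  refine (Nat.card_congr ((MulAut.conj g).toEquiv.subtypeEquiv fun y => ?_)).symm
  rw [Subgroup.mem_centralizer_singleton_iff, Subgroup.mem_centralizer_singleton_iff]
  show y * x = x * y ↔ g * y * g⁻¹ * (g * x * g⁻¹) = g * x * g⁻¹ * (g * y * g⁻¹)
  rw [show g * y * g⁻¹ * (g * x * g⁻¹) = g * (y * x) * g⁻¹ by group,
    show g * x * g⁻¹ * (g * y * g⁻¹) = g * (x * y) * g⁻¹ by group]
  exact ⟨fun h => by rw [h], fun h => mul_left_cancel (mul_right_cancel h)⟩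

theorem emat_zero : (!![1, 1, 0; 0, 1, 0; 0, 0, 1] : Matrix (Fin 3) (Fin 3) (ZMod 3)) = emat 0 := by
  decide +kernel

theorem emat_three : (!![1, 0, 0; 0, 1, 1; 0, 0, 1] : Matrix (Fin 3) (Fin 3) (ZMod 3)) = emat 3 := by
  decide +kernel

/-- The transvections are the elements centralizing a Sylow 3-subgroup. -/
theorem tset_iff (t : S3) :
    t ∈ tset ↔ t ≠ 1 ∧ 27 ∣ Nat.card (Subgroup.centralizer ({t} : Set S3)) := by
  classical
  haveI : Fact (Nat.Prime 3) := ⟨Nat.prime_three⟩
  haveI : Finite S3 := Subtype.finite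
  let u : ZMod 3 × ZMod 3 × ZMod 3 → S3 := fun p =>
    ⟨!![1, p.1, p.2.1; 0, 1, p.2.2; 0, 0, 1], (z_form _ _ _).1⟩
  have hui : Function.Injective u := fun p q e => by
    have e' := congrArg Subtype.val e
    exact Prod.ext (congrFun (congrFun e' 0) 1)
      (Prod.ext (congrFun (congrFun e' 0) 2) (congrFun (congrFun e' 1) 2))
  let U : Subgroup S3 :=
    { carrier := Set.range u
      one_mem' := ⟨0, Subtype.ext (by
        show (!![1, 0, 0; 0, 1, 0; 0, 0, 1] : Matrix (Fin 3) (Fin 3) (ZMod 3)) = 1
        exact Matrix.one_fin_three.symm)⟩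
      mul_mem' := by
        rintro _ _ ⟨p, rfl⟩ ⟨q, rfl⟩
        refine ⟨(p.1 + q.1, q.2.1 + p.1 * q.2.2 + p.2.1, p.2.2 + q.2.2), Subtype.ext ?_⟩
        show _ = !![1, p.1, p.2.1; 0, 1, p.2.2; 0, 0, 1] * !![1, q.1, q.2.1; 0, 1, q.2.2; 0, 0, 1]
        ext i j
        fin_cases i <;> fin_cases j <;> simp [u, Matrix.mul_apply, Fin.sum_univ_three] <;> ring
      inv_mem' := by
        rintro _ ⟨p, rfl⟩
        refine ⟨(-p.1, -p.2.1 + p.1 * p.2.2, -p.2.2), ?_⟩
        symm
        refine inv_eq_of_mul_eq_one_right ?_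
        refine Subtype.ext ?_
        show !![1, p.1, p.2.1; 0, 1, p.2.2; 0, 0, 1] *
          !![1, -p.1, -p.2.1 + p.1 * p.2.2; 0, 1, -p.2.2; 0, 0, 1] = 1
        rw [Matrix.one_fin_three]
        ext i j
        fin_cases i <;> fin_cases j <;> simp [Matrix.mul_apply, Fin.sum_univ_three] <;> ring }
  have hU : Nat.card U = 27 := by
    show Nat.card (Set.range u) = 27
    rw [Nat.card_range_of_injective hui]
    simp
  have hfac : (Nat.card S3).factorization 3 = 3 := by
    rw [card_S3, show 5616 = 208 * 3 ^ 3 by norm_num,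
      Nat.factorization_mul (by norm_num) (by norm_num), Finsupp.add_apply,
      Nat.factorization_eq_zero_of_not_dvd (show ¬ 3 ∣ 208 by decide), zero_add,
      Nat.Prime.factorization_pow Nat.prime_three, Finsupp.single_eq_same]
  have hz : 27 ∣ Nat.card (Subgroup.centralizer ({rep 0 false} : Set S3)) := by
    rw [← hU]
    refine Subgroup.card_dvd_of_le ?_
    rintro _ ⟨p, rfl⟩
    rw [Subgroup.mem_centralizer_singleton_iff]
    exact Subtype.ext (z_form _ _ _).2
  constructor
  · rintro ⟨i, b, rfl⟩
    obtain ⟨w, hw⟩ := exists_wit i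
    have h1 : 27 ∣ Nat.card (Subgroup.centralizer ({rep i false} : Set S3)) := by
      rw [← hw, card_centralizer_conj]; exact hz
    cases b
    · exact ⟨rep_ne_one i, h1⟩
    · rw [← rep_inv]
      refine ⟨inv_ne_one.2 (rep_ne_one i), ?_⟩
      have e : Subgroup.centralizer ({(rep i false)⁻¹} : Set S3) =
          Subgroup.centralizer ({rep i false} : Set S3) := Subgroup.ext fun y => by
        rw [Subgroup.mem_centralizer_singleton_iff, Subgroup.mem_centralizer_singleton_iff]
        exact Commute.inv_right_iff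
      rw [e]; exact h1
  · rintro ⟨hne, hdvd⟩
    obtain ⟨R, hR⟩ := Sylow.exists_subgroup_card_pow_prime 3 (n := 3)
      (G := Subgroup.centralizer ({t} : Set S3)) (by simpa using hdvd)
    let P : Sylow 3 S3 := Sylow.ofCard (R.map (Subgroup.centralizer ({t} : Set S3)).subtype) (by
      rw [hfac, Subgroup.card_map_of_injective (Subgroup.subtype_injective _), hR])
    let Q : Sylow 3 S3 := Sylow.ofCard U (by rw [hU, hfac]; norm_num)
    obtain ⟨c, hc⟩ := MulAction.exists_smul_eq S3 Q P
    have hcomm : ∀ y ∈ U, y * (c⁻¹ * t * c) = c⁻¹ * t * c * y := by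
      intro y hy
      have h1 : c * y * c⁻¹ ∈ (P : Subgroup S3) := by rw [← hc]; exact ⟨y, hy, rfl⟩
      obtain ⟨r, -, hr⟩ := h1
      have h2 := Subgroup.mem_centralizer_singleton_iff.1 r.2
      rw [show ((r : Subgroup.centralizer ({t} : Set S3)) : S3) = c * y * c⁻¹ from hr] at h2
      calc y * (c⁻¹ * t * c) = c⁻¹ * (c * y * c⁻¹ * t) * c := by group
        _ = c⁻¹ * t * c * y := by rw [h2]; group
    have e0 : u (1, 0, 0) = ⟨emat 0, emat_det 0⟩ := Subtype.ext (by
      exact emat_zero)
    have e3 : u (0, 0, 1) = ⟨emat 3, emat_det 3⟩ := Subtype.ext (by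
      exact emat_three)
    have h0 := hcomm _ ⟨(1, 0, 0), e0⟩
    have h3 := hcomm _ ⟨(0, 0, 1), e3⟩
    have hcases := cent_U (c⁻¹ * t * c).2 (congrArg Subtype.val h0).symm (congrArg Subtype.val h3).symm
    have hmem : c⁻¹ * t * c ∈ tset := by
      rcases hcases with h | h | h
      · exfalso
        apply hne
        have : c⁻¹ * t * c = 1 := Subtype.ext h
        rw [show t = c * (c⁻¹ * t * c) * c⁻¹ by group, this]
        group
      · exact ⟨0, false, (Subtype.ext h.symm)⟩
      · exact ⟨0, true, (Subtype.ext h.symm)⟩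
    have := conj_mem_tset c hmem
    rwa [show c * (c⁻¹ * t * c) * c⁻¹ = t by group] at this

variable {H : Type*} [Group H] [Finite H] (F : H ≃ S3)
  (hF : ∀ x y, x * y = y * x ↔ F x * F y = F y * F x)

include hF

theorem F_one : F 1 = 1 := by
  refine Subgroup.mem_bot.1 (center_S3 ▸ Subgroup.mem_center_iff.2 fun y => ?_)
  obtain ⟨x, rfl⟩ := F.surjective y
  exact (hF x 1).1 (by simp)

theorem card_centralizer (h : H) : Nat.card (Subgroup.centralizer ({h} : Set H)) =
    Nat.card (Subgroup.centralizer ({F h} : Set S3)) :=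
  Nat.card_congr (F.subtypeEquiv fun y => by
    simp only [Subgroup.mem_centralizer_singleton_iff]
    exact hF y h)

theorem conj_mem (g h : H) (hh : F h ∈ tset) : F (g * h * g⁻¹) ∈ tset := by
  rw [tset_iff] at hh ⊢
  refine ⟨fun e => hh.1 ?_, ?_⟩
  · rw [← F_one F hF] at e
    have := F.injective e
    rw [conj_eq_one_iff] at this
    rw [this]; exact F_one F hF
  · rw [← card_centralizer F hF, card_centralizer_conj, card_centralizer F hF]
    exact hh.2

omit [Group H] [Finite H] hF in
/-- The element of a root subgroup. -/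
theorem F_xp (i : Fin 52) : F (F.symm (rep i false)) = rep i false := F.apply_symm_apply _

theorem comm_x {h : H} {j : Fin 52} {b : Bool} (e : F h = rep j b) (k : Fin 52) :
    h * F.symm (rep k false) = F.symm (rep k false) * h ↔ adjB j k = true := by
  rw [hF, F.apply_symm_apply, e, comm_iff]
  rfl

theorem exists_flag (g : H) (i : Fin 52) : ∃ j, ∀ k,
    (g * F.symm (rep i false) * g⁻¹) * F.symm (rep k false) =
      F.symm (rep k false) * (g * F.symm (rep i false) * g⁻¹) ↔ adjB j k = true := by
  obtain ⟨j, b, e⟩ := conj_mem F hF g (F.symm (rep i false))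
    (by rw [F.apply_symm_apply]; exact ⟨_, _, rfl⟩)
  exact ⟨j, comm_x F hF e.symm⟩

/-- The action on the root subgroups. -/
noncomputable def act (g : H) (i : Fin 52) : Fin 52 := (exists_flag F hF g i).choose

theorem act_spec (g : H) (i : Fin 52) {b : Bool} {h : H} (e : F h = rep i b) :
    ∃ c, F (g * h * g⁻¹) = rep (act F hF g i) c := by
  obtain ⟨j, c, hc⟩ := conj_mem F hF g h (e ▸ ⟨_, _, rfl⟩)
  refine ⟨c, ?_⟩
  suffices j = act F hF g i by rw [← this, hc]
  refine row_ext fun k => Bool.eq_iff_iff.2 ?_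
  unfold act
  rw [← comm_x F hF hc.symm k, ← (exists_flag F hF g i).choose_spec k]
  obtain ⟨l, d, hl⟩ := conj_mem F hF g⁻¹ (F.symm (rep k false))
    (by rw [F.apply_symm_apply]; exact ⟨_, _, rfl⟩)
  rw [inv_inv] at hl
  have key : ∀ z : H, (g * z * g⁻¹) * F.symm (rep k false) = F.symm (rep k false) * (g * z * g⁻¹) ↔
      z * (g⁻¹ * F.symm (rep k false) * g) = g⁻¹ * F.symm (rep k false) * g * z := by
    intro z
    constructor <;> intro hz
    · have := congrArg (fun y => g⁻¹ * y * g) hz
      simpa [mul_assoc] using this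
    · have := congrArg (fun y => g * y * g⁻¹) hz
      simpa [mul_assoc] using this
  rw [key, key, hF, hF, ← hl, e, F.apply_symm_apply, comm_iff, comm_iff]

theorem act_one (i : Fin 52) : act F hF 1 i = i := by
  obtain ⟨c, hc⟩ := act_spec F hF 1 i (F.apply_symm_apply (rep i false))
  rw [one_mul, inv_one, mul_one, F.apply_symm_apply] at hc
  refine row_ext fun k => Bool.eq_iff_iff.2 ?_
  rw [← comm_x F hF (show F (F.symm (rep i false)) = rep (act F hF 1 i) c by
    rw [F.apply_symm_apply, hc]) k, comm_x F hF (F.apply_symm_apply _) k]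

theorem act_mul (g g' : H) (i : Fin 52) : act F hF (g * g') i = act F hF g (act F hF g' i) := by
  obtain ⟨c, hc⟩ := act_spec F hF g' i (F.apply_symm_apply (rep i false))
  obtain ⟨d, hd⟩ := act_spec F hF g _ hc
  obtain ⟨d', hd'⟩ := act_spec F hF (g * g') i (F.apply_symm_apply (rep i false))
  rw [show g * g' * F.symm (rep i false) * (g * g')⁻¹ =
    g * (g' * F.symm (rep i false) * g'⁻¹) * g⁻¹ by group, hd] at hd'
  refine row_ext fun k => Bool.eq_iff_iff.2 ?_
  rw [← comm_x F hF (F.apply_symm_apply (rep (act F hF (g * g') i) d')) k, ← hd']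
  rw [comm_x F hF (F.apply_symm_apply _) k]

/-- The permutation representation. -/
noncomputable def permHom : H →* Equiv.Perm (Fin 52) :=
  MonoidHom.mk' (fun g => ⟨act F hF g, act F hF g⁻¹,
    fun i => by rw [← act_mul F hF, inv_mul_cancel, act_one F hF],
    fun i => by rw [← act_mul F hF, mul_inv_cancel, act_one F hF]⟩)
    fun g g' => Equiv.ext fun i => act_mul F hF g g' i

theorem permHom_mem (g : H) : permHom F hF g ∈ graphAut := by
  intro u v
  obtain ⟨b, hb⟩ := act_spec F hF g u (F.apply_symm_apply (rep u false))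
  obtain ⟨c, hc⟩ := act_spec F hF g v (F.apply_symm_apply (rep v false))
  show adjB (act F hF g u) (act F hF g v) = adjB u v
  refine Bool.eq_iff_iff.2 ?_
  show Nat.testBit _ _ = true ↔ Nat.testBit _ _ = true
  rw [← comm_iff _ _ b c, ← comm_iff u v false false, ← hb, ← hc, ← hF]
  rw [show g * F.symm (rep u false) * g⁻¹ * (g * F.symm (rep v false) * g⁻¹) =
      g * (F.symm (rep u false) * F.symm (rep v false)) * g⁻¹ by group,
    show g * F.symm (rep v false) * g⁻¹ * (g * F.symm (rep u false) * g⁻¹) =
      g * (F.symm (rep v false) * F.symm (rep u false)) * g⁻¹ by group]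
  constructor
  · intro h
    have := (hF _ _).1 (mul_left_cancel (mul_right_cancel h))
    rwa [F.apply_symm_apply, F.apply_symm_apply] at this
  · intro h
    rw [(hF (F.symm (rep u false)) (F.symm (rep v false))).2
      (by rwa [F.apply_symm_apply, F.apply_symm_apply])]

theorem sq_eq_one {g : H} (hg : g ∈ (permHom F hF).ker) : g ^ 2 = 1 := by
  have hfix : ∀ i, act F hF g i = i := fun i => Equiv.ext_iff.1 hg i
  have hc : ∀ i, g ^ 2 * F.symm (rep i false) = F.symm (rep i false) * g ^ 2 := by
    intro i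
    set x := F.symm (rep i false)
    set x' := F.symm (rep i true)
    have h1 : g * x * g⁻¹ = x ∨ g * x * g⁻¹ = x' := by
      obtain ⟨c, hc⟩ := act_spec F hF g i (F.apply_symm_apply (rep i false))
      rw [hfix] at hc
      cases c
      · left; exact F.injective (hc.trans (F.apply_symm_apply _).symm)
      · right; exact F.injective (hc.trans (F.apply_symm_apply _).symm)
    have h2 : g * x' * g⁻¹ = x ∨ g * x' * g⁻¹ = x' := by
      obtain ⟨c, hc⟩ := act_spec F hF g i (F.apply_symm_apply (rep i true))
      rw [hfix] at hc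
      cases c
      · left; exact F.injective (hc.trans (F.apply_symm_apply _).symm)
      · right; exact F.injective (hc.trans (F.apply_symm_apply _).symm)
    have e : g ^ 2 * x * (g ^ 2)⁻¹ = x := by
      rw [show g ^ 2 * x * (g ^ 2)⁻¹ = g * (g * x * g⁻¹) * g⁻¹ by rw [sq]; group]
      rcases h1 with h | h
      · rw [h, h]
      · rw [h]
        rcases h2 with k | k
        · exact k
        · have hxx : x = x' := mul_left_cancel (mul_right_cancel (h.trans k.symm))
          rw [k, ← hxx]
    exact mul_inv_eq_iff_eq_mul.1 e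
  refine F.injective ?_
  rw [F_one F hF]
  refine Subgroup.mem_bot.1 (center_S3 ▸ ?_)
  have htop : Subgroup.centralizer ({F (g ^ 2)} : Set S3) = ⊤ := top_of_gens fun k => by
    obtain ⟨i, b, hib⟩ := emat_rep k
    rw [Subgroup.mem_centralizer_singleton_iff, show egen k = rep i b from Subtype.ext hib.symm]
    have := ((hF _ _).1 (hc i)).symm
    rw [F.apply_symm_apply] at this
    cases b
    · exact this
    · rw [← rep_inv]
      exact (show Commute (rep i false) (F (g ^ 2)) from this).inv_left
  refine Subgroup.mem_center_iff.2 fun y => ?_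
  exact Subgroup.mem_centralizer_singleton_iff.1 (htop ▸ Subgroup.mem_top y)

/-- No element has at most twelve conjugates, or fourteen or fifteen. -/
theorem small_class {h : H} (h1 : h ≠ 1)
    (hn : (Subgroup.centralizer ({h} : Set H)).index ≤ 15) :
    (Subgroup.centralizer ({h} : Set H)).index = 13 := by
  classical
  haveI := simple_S3
  haveI : Finite S3 := Subtype.finite
  set C := Subgroup.centralizer ({F h} : Set S3)
  have hCi : C.index = (Subgroup.centralizer ({h} : Set H)).index := by
    have e1 := C.card_mul_index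
    have e2 := (Subgroup.centralizer ({h} : Set H)).card_mul_index
    rw [← card_centralizer F hF] at e1
    rw [Nat.card_congr F, ← e1] at e2
    exact (Nat.eq_of_mul_eq_mul_left Nat.card_pos e2).symm
  rw [← hCi] at hn ⊢
  have hne : C ≠ ⊤ := fun e => h1 (F.injective (by
    rw [F_one F hF]
    refine Subgroup.mem_bot.1 (center_S3 ▸ Subgroup.mem_center_iff.2 fun y => ?_)
    exact Subgroup.mem_centralizer_singleton_iff.1 (show y ∈ C by rw [e]; exact Subgroup.mem_top y)))
  haveI : Fintype (S3 ⧸ C) := Fintype.ofFinite _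
  have hinj : Function.Injective (MulAction.toPermHom S3 (S3 ⧸ C)) := by
    rw [← MonoidHom.ker_eq_bot_iff, ← Subgroup.normalCore_eq_ker]
    rcases (C.normalCore_normal).eq_bot_or_eq_top with h | h
    · exact h
    · exact absurd (eq_top_iff.2 (h ▸ C.normalCore_le)) hne
  have hd := Subgroup.card_dvd_of_injective _ hinj
  rw [card_S3, Nat.card_perm, ← Subgroup.index_eq_card] at hd
  have hdvd := C.index_dvd_card
  rw [card_S3] at hdvd
  interval_cases h : C.index <;> revert hd hdvd <;> decide +kernel

theorem permHom_injective : Function.Injective (permHom F hF) := by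
  classical
  rw [← MonoidHom.ker_eq_bot_iff, Subgroup.eq_bot_iff_forall]
  set K := (permHom F hF).ker
  intro h hh
  by_contra h1
  have hK2 : IsPGroup 2 K := fun g => ⟨1, Subtype.ext (by simpa using sq_eq_one F hF g.2)⟩
  haveI : Fact (Nat.Prime 2) := ⟨Nat.prime_two⟩
  obtain ⟨n, hn⟩ := hK2.exists_card_eq
  have hK16 : Nat.card K ≤ 16 := by
    have hd := K.card_subgroup_dvd_card
    rw [Nat.card_congr F, card_S3, hn] at hd
    have : n ≤ 4 := by
      by_contra hc
      exact absurd ((pow_dvd_pow 2 (by omega : 5 ≤ n)).trans hd) (by decide)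
    rw [hn]
    exact (Nat.pow_le_pow_right two_pos this).trans (by norm_num)
  haveI : Fintype K := Fintype.ofFinite K
  rw [Nat.card_eq_fintype_card] at hK16
  let cls : K → Finset K := fun a => Finset.univ.filter fun b => IsConj (a : H) b
  have hsize : ∀ a : K, a ≠ 1 → (Subgroup.centralizer ({(a : H)} : Set H)).index ≤ (cls a).card ∧
      1 ∉ cls a := by
    intro a ha
    refine ⟨?_, fun hm => ha (Subtype.ext ?_)⟩
    · rw [Subgroup.index_eq_card, ← Fintype.card_coe, ← Nat.card_eq_fintype_card]
      refine Nat.card_le_card_of_injective (fun q => (⟨⟨q.out * (a : H) * q.out⁻¹,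
        MonoidHom.normal_ker (permHom F hF) |>.conj_mem _ a.2 _⟩, Finset.mem_filter.2
          ⟨Finset.mem_univ _, isConj_iff.2 ⟨q.out, rfl⟩⟩⟩ : ↥(cls a))) fun q q' e => ?_
      have e' : q.out * (a : H) * q.out⁻¹ = q'.out * (a : H) * q'.out⁻¹ :=
        congrArg (fun z : ↥(cls a) => ((z : K) : H)) e
      rw [← QuotientGroup.out_eq' q, ← QuotientGroup.out_eq' q', QuotientGroup.eq,
        Subgroup.mem_centralizer_singleton_iff]
      calc q.out⁻¹ * q'.out * (a : H) = q.out⁻¹ * (q'.out * (a : H) * q'.out⁻¹) * q'.out := by group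
        _ = (a : H) * (q.out⁻¹ * q'.out) := by rw [← e']; group
    · have := (Finset.mem_filter.1 hm).2
      exact isConj_one_right.1 this.symm
  have big : ∀ a : K, a ≠ 1 → 13 ≤ (cls a).card := by
    intro a ha
    obtain ⟨h2, h3⟩ := hsize a ha
    have h4 : (cls a).card ≤ 15 := by
      have := Finset.card_le_card (show cls a ⊆ Finset.univ.erase 1 from fun b hb =>
        Finset.mem_erase.2 ⟨fun e => h3 (e ▸ hb), Finset.mem_univ _⟩)
      rw [Finset.card_erase_of_mem (Finset.mem_univ _), Finset.card_univ] at this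
      omega
    have := small_class F hF (fun e => ha (Subtype.ext e)) (h2.trans h4)
    omega
  set a : K := ⟨h, hh⟩
  have ha : a ≠ 1 := fun e => h1 (congrArg Subtype.val e)
  have h13 := big a ha
  obtain ⟨b, hb1, hb⟩ : ∃ b : K, b ≠ 1 ∧ b ∉ cls a := by
    by_contra! hc
    have hd : Fintype.card K = 2 ^ n := by rw [← Nat.card_eq_fintype_card, hn]
    have h2 : cls a = Finset.univ.erase 1 := Finset.ext fun b => by
      refine ⟨fun hb => Finset.mem_erase.2 ⟨fun e => (hsize a ha).2 (e ▸ hb), Finset.mem_univ _⟩,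
        fun hb => hc b (Finset.mem_erase.1 hb).1⟩
    have h3 := congrArg Finset.card h2
    rw [Finset.card_erase_of_mem (Finset.mem_univ _), Finset.card_univ] at h3
    -- all of `K \ {1}` is one class of thirteen
    have hle : (cls a).card ≤ (Subgroup.centralizer ({(a : H)} : Set H)).index := by
      rw [Subgroup.index_eq_card, ← Fintype.card_coe, ← Nat.card_eq_fintype_card]
      have hex : ∀ z : ↥(cls a), ∃ c : H, c * (a : H) * c⁻¹ = ((z : K) : H) :=
        fun z => isConj_iff.1 (Finset.mem_filter.1 z.2).2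
      choose c hc' using hex
      refine Nat.card_le_card_of_injective (fun z => (QuotientGroup.mk (c z) : H ⧸ _)) fun z z' e => ?_
      rw [QuotientGroup.eq, Subgroup.mem_centralizer_singleton_iff] at e
      refine Subtype.ext (Subtype.ext ?_)
      rw [← hc' z, ← hc' z']
      calc c z * (a : H) * (c z)⁻¹ = c z * ((a : H) * ((c z)⁻¹ * c z')) * (c z')⁻¹ := by group
        _ = c z' * (a : H) * (c z')⁻¹ := by rw [← e]; group
    have h5 := small_class F hF (fun e => ha (Subtype.ext e))
      ((hsize a ha).1.trans (by omega))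
    have : n ≤ 4 := by
      by_contra hcn
      have := Nat.pow_le_pow_right two_pos (by omega : 5 ≤ n)
      omega
    interval_cases n <;> omega
  have hdisj : Disjoint (cls a) (cls b) := Finset.disjoint_left.2 fun z hz hz' => hb
    (Finset.mem_filter.2 ⟨Finset.mem_univ _,
      (Finset.mem_filter.1 hz).2.trans (Finset.mem_filter.1 hz').2.symm⟩)
  have := big b hb1
  have := Finset.card_le_univ (cls a ∪ cls b)
  rw [Finset.card_union_of_disjoint hdisj] at this
  omega

/-- The commuting graph determines the group. -/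
theorem mulEquiv_of_commuting : Nonempty (H ≃* S3) := by
  classical
  haveI := simple_S3
  haveI : Finite S3 := Subtype.finite
  have hid : ∀ x y : S3, x * y = y * x ↔ Equiv.refl S3 x * Equiv.refl S3 y =
      Equiv.refl S3 y * Equiv.refl S3 x := fun _ _ => Iff.rfl
  set φ := permHom F hF
  set ψ := permHom (Equiv.refl S3) hid
  have hφ : Nat.card φ.range = 5616 := by
    rw [← Nat.card_congr (MonoidHom.ofInjective (permHom_injective F hF)).toEquiv,
      Nat.card_congr F, card_S3]
  have hψ : Nat.card ψ.range = 5616 := by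
    rw [← Nat.card_congr (MonoidHom.ofInjective (permHom_injective _ hid)).toEquiv, card_S3]
  have hψA : ψ.range ≤ graphAut := by rintro _ ⟨g, rfl⟩; exact permHom_mem _ hid g
  have hφA : φ.range ≤ graphAut := by rintro _ ⟨g, rfl⟩; exact permHom_mem F hF g
  have hA := card_graphAut
  -- `ψ.range` has index at most two
  have hr : φ.range.relIndex ψ.range ≤ φ.range.relIndex graphAut :=
    Subgroup.relIndex_le_of_le_right hψA (by
      rw [Subgroup.relIndex]; exact Subgroup.index_ne_zero_of_finite)
  have h2 : φ.range.relIndex graphAut ≤ 2 := by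
    have := Subgroup.relIndex_mul_relIndex ⊥ φ.range graphAut bot_le hφA
    rw [Subgroup.relIndex_bot_left, Subgroup.relIndex_bot_left, hφ] at this
    omega
  have hnorm : (φ.range.subgroupOf ψ.range).Normal := by
    have hidx : (φ.range.subgroupOf ψ.range).index ≤ 2 := hr.trans h2
    have hpos : (φ.range.subgroupOf ψ.range).index ≠ 0 := Subgroup.index_ne_zero_of_finite
    rcases (show (φ.range.subgroupOf ψ.range).index = 1 ∨ (φ.range.subgroupOf ψ.range).index = 2
      by omega) with e | e
    · rw [Subgroup.index_eq_one.1 e]; infer_instance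
    · exact Subgroup.normal_of_index_eq_two e
  haveI : IsSimpleGroup ↥ψ.range := by
    haveI : Nontrivial ↥ψ.range := Finite.one_lt_card_iff_nontrivial.1 (by rw [hψ]; norm_num)
    exact (MonoidHom.ofInjective (permHom_injective _ hid)).symm.isSimpleGroup
  have htop : φ.range.subgroupOf ψ.range = ⊤ := by
    rcases hnorm.eq_bot_or_eq_top with e | e
    · exfalso
      have hidx : (φ.range.subgroupOf ψ.range).index ≤ 2 := hr.trans h2
      rw [e, Subgroup.index_bot, hψ] at hidx
      omega
    · exact e
  have heq : ψ.range = φ.range := Subgroup.eq_of_le_of_card_ge (Subgroup.subgroupOf_eq_top.1 htop)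
    (by rw [hφ, hψ])
  exact ⟨(MonoidHom.ofInjective (permHom_injective F hF)).trans
    ((MulEquiv.subgroupCongr heq.symm).trans
      (MonoidHom.ofInjective (permHom_injective _ hid)).symm)⟩

end Cfsg.Agent.Lie.L33
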