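import Mathlib

/-! Tables for the 52 root subgroups of `SL(3, 3)`. -/

set_option autoImplicit false

namespace Cfsg.Agent.Lie.L33

def cen : Fin 52 → Fin 3 → ZMod 3 :=
  ![![1, 0, 0],
    ![0, 0, 1],
    ![0, 0, 1],
    ![0, 0, 1],
    ![0, 0, 1],
    ![0, 1, 0],
    ![0, 1, 0],
    ![0, 1, 0],
    ![0, 1, 0],
    ![0, 1, 1],
    ![0, 1, 1],
    ![0, 1, 1],
    ![0, 1, 1],
    ![0, 1, 2],
    ![0, 1, 2],
    ![0, 1, 2],
    ![0, 1, 2],
    ![1, 0, 0],
    ![1, 0, 0],
    ![1, 0, 0],
    ![1, 0, 1],
    ![1, 0, 1],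
    ![1, 0, 1],
    ![1, 0, 1],
    ![1, 0, 2],
    ![1, 0, 2],
    ![1, 0, 2],
    ![1, 0, 2],
    ![1, 1, 0],
    ![1, 1, 0],
    ![1, 1, 0],
    ![1, 1, 0],
    ![1, 1, 1],
    ![1, 1, 1],
    ![1, 1, 1],
    ![1, 1, 1],
    ![1, 1, 2],
    ![1, 1, 2],
    ![1, 1, 2],
    ![1, 1, 2],
    ![1, 2, 0],
    ![1, 2, 0],
    ![1, 2, 0],
    ![1, 2, 0],
    ![1, 2, 1],
    ![1, 2, 1],
    ![1, 2, 1],
    ![1, 2, 1],
    ![1, 2, 2],
    ![1, 2, 2],
    ![1, 2, 2],
    ![1, 2, 2]]

def axs : Fin 52 → Fin 3 → ZMod 3 :=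
  ![![0, 0, 1],
    ![0, 1, 0],
    ![1, 0, 0],
    ![1, 1, 0],
    ![1, 2, 0],
    ![0, 0, 1],
    ![1, 0, 0],
    ![1, 0, 1],
    ![1, 0, 2],
    ![0, 1, 2],
    ![1, 0, 0],
    ![1, 1, 2],
    ![1, 2, 1],
    ![0, 1, 1],
    ![1, 0, 0],
    ![1, 1, 1],
    ![1, 2, 2],
    ![0, 1, 0],
    ![0, 1, 1],
    ![0, 1, 2],
    ![0, 1, 0],
    ![1, 0, 2],
    ![1, 1, 2],
    ![1, 2, 2],
    ![0, 1, 0],
    ![1, 0, 1],
    ![1, 1, 1],
    ![1, 2, 1],
    ![0, 0, 1],
    ![1, 2, 0],
    ![1, 2, 1],
    ![1, 2, 2],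
    ![0, 1, 2],
    ![1, 0, 2],
    ![1, 1, 1],
    ![1, 2, 0],
    ![0, 1, 1],
    ![1, 0, 1],
    ![1, 1, 2],
    ![1, 2, 0],
    ![0, 0, 1],
    ![1, 1, 0],
    ![1, 1, 1],
    ![1, 1, 2],
    ![0, 1, 1],
    ![1, 0, 2],
    ![1, 1, 0],
    ![1, 2, 1],
    ![0, 1, 2],
    ![1, 0, 1],
    ![1, 1, 0],
    ![1, 2, 2]]

def wit : Fin 52 → Fin 3 → Fin 3 → ZMod 3 :=
  ![![![1, 0, 0], ![0, 1, 0], ![0, 0, 1]],
    ![![0, 1, 0], ![0, 0, 2], ![2, 1, 1]],
    ![![0, 0, 2], ![0, 2, 0], ![2, 1, 1]],
    ![![0, 1, 1], ![0, 2, 0], ![1, 0, 1]],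
    ![![0, 2, 0], ![0, 2, 1], ![2, 1, 1]],
    ![![0, 2, 0], ![1, 1, 0], ![0, 0, 1]],
    ![![0, 0, 1], ![1, 1, 0], ![0, 1, 1]],
    ![![0, 2, 0], ![1, 1, 0], ![0, 1, 1]],
    ![![0, 1, 0], ![2, 1, 0], ![0, 1, 1]],
    ![![0, 1, 0], ![2, 1, 0], ![2, 1, 1]],
    ![![0, 0, 1], ![1, 1, 0], ![1, 2, 1]],
    ![![0, 1, 0], ![2, 1, 0], ![2, 2, 1]],
    ![![0, 2, 0], ![1, 0, 0], ![1, 1, 1]],
    ![![0, 2, 1], ![2, 2, 1], ![1, 1, 1]],
    ![![0, 0, 1], ![1, 1, 0], ![2, 0, 1]],
    ![![0, 2, 0], ![1, 0, 0], ![2, 1, 1]],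
    ![![0, 1, 0], ![2, 1, 0], ![1, 0, 1]],
    ![![1, 0, 0], ![0, 0, 1], ![0, 2, 1]],
    ![![1, 0, 0], ![0, 1, 0], ![0, 2, 1]],
    ![![2, 1, 0], ![0, 2, 0], ![0, 2, 1]],
    ![![1, 0, 0], ![0, 0, 1], ![1, 2, 1]],
    ![![2, 1, 0], ![0, 2, 0], ![2, 1, 1]],
    ![![1, 2, 1], ![0, 2, 1], ![1, 1, 1]],
    ![![1, 0, 0], ![0, 2, 1], ![1, 1, 1]],
    ![![1, 0, 0], ![0, 0, 1], ![2, 2, 1]],
    ![![2, 0, 1], ![0, 1, 0], ![1, 0, 1]],
    ![![1, 1, 0], ![0, 1, 0], ![2, 1, 1]],
    ![![2, 1, 1], ![0, 1, 0], ![1, 0, 1]],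
    ![![1, 0, 0], ![1, 1, 0], ![0, 0, 1]],
    ![![1, 1, 1], ![1, 1, 0], ![0, 1, 1]],
    ![![1, 0, 0], ![1, 1, 0], ![0, 1, 1]],
    ![![1, 0, 0], ![1, 2, 1], ![0, 1, 1]],
    ![![2, 1, 0], ![2, 0, 0], ![2, 0, 1]],
    ![![1, 0, 0], ![1, 2, 1], ![1, 0, 2]],
    ![![1, 1, 0], ![1, 2, 0], ![1, 0, 1]],
    ![![1, 1, 1], ![1, 1, 0], ![1, 2, 2]],
    ![![1, 0, 0], ![1, 1, 0], ![2, 2, 1]],
    ![![1, 0, 0], ![1, 1, 0], ![2, 0, 1]],
    ![![2, 1, 0], ![2, 0, 0], ![1, 1, 1]],
    ![![2, 1, 0], ![2, 1, 1], ![1, 0, 1]],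
    ![![1, 0, 0], ![2, 1, 0], ![0, 0, 1]],
    ![![1, 2, 1], ![2, 1, 0], ![0, 2, 1]],
    ![![1, 0, 0], ![2, 1, 0], ![0, 2, 1]],
    ![![2, 1, 0], ![1, 1, 0], ![0, 2, 1]],
    ![![1, 0, 0], ![2, 1, 0], ![1, 2, 1]],
    ![![2, 1, 0], ![1, 1, 0], ![2, 1, 1]],
    ![![1, 1, 0], ![2, 2, 1], ![1, 0, 1]],
    ![![1, 0, 0], ![2, 1, 0], ![1, 1, 1]],
    ![![2, 1, 0], ![1, 1, 0], ![1, 1, 1]],
    ![![2, 0, 1], ![1, 1, 0], ![1, 0, 1]],
    ![![2, 2, 1], ![1, 1, 1], ![1, 0, 1]],
    ![![2, 1, 0], ![1, 1, 0], ![1, 0, 1]]]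

def nbr : Fin 52 → List (Fin 52) :=
  ![[5, 17, 18, 19, 28, 40],
    [2, 3, 4, 17, 20, 24],
    [1, 3, 4, 6, 10, 14],
    [1, 2, 4, 41, 46, 50],
    [1, 2, 3, 29, 35, 39],
    [0, 6, 7, 8, 28, 40],
    [2, 5, 7, 8, 10, 14],
    [5, 6, 8, 25, 37, 49],
    [5, 6, 7, 21, 33, 45],
    [10, 11, 12, 19, 32, 48],
    [2, 6, 9, 11, 12, 14],
    [9, 10, 12, 22, 38, 43],
    [9, 10, 11, 27, 30, 47],
    [14, 15, 16, 18, 36, 44],
    [2, 6, 10, 13, 15, 16],
    [13, 14, 16, 26, 34, 42],
    [13, 14, 15, 23, 31, 51],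
    [0, 1, 18, 19, 20, 24],
    [0, 13, 17, 19, 36, 44],
    [0, 9, 17, 18, 32, 48],
    [1, 17, 21, 22, 23, 24],
    [8, 20, 22, 23, 33, 45],
    [11, 20, 21, 23, 38, 43],
    [16, 20, 21, 22, 31, 51],
    [1, 17, 20, 25, 26, 27],
    [7, 24, 26, 27, 37, 49],
    [15, 24, 25, 27, 34, 42],
    [12, 24, 25, 26, 30, 47],
    [0, 5, 29, 30, 31, 40],
    [4, 28, 30, 31, 35, 39],
    [12, 27, 28, 29, 31, 47],
    [16, 23, 28, 29, 30, 51],
    [9, 19, 33, 34, 35, 48],
    [8, 21, 32, 34, 35, 45],
    [15, 26, 32, 33, 35, 42],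
    [4, 29, 32, 33, 34, 39],
    [13, 18, 37, 38, 39, 44],
    [7, 25, 36, 38, 39, 49],
    [11, 22, 36, 37, 39, 43],
    [4, 29, 35, 36, 37, 38],
    [0, 5, 28, 41, 42, 43],
    [3, 40, 42, 43, 46, 50],
    [15, 26, 34, 40, 41, 43],
    [11, 22, 38, 40, 41, 42],
    [13, 18, 36, 45, 46, 47],
    [8, 21, 33, 44, 46, 47],
    [3, 41, 44, 45, 47, 50],
    [12, 27, 30, 44, 45, 46],
    [9, 19, 32, 49, 50, 51],
    [7, 25, 37, 48, 50, 51],
    [3, 41, 46, 48, 49, 51],
    [16, 23, 31, 48, 49, 50]]

def adjCode : Fin 52 → ℕ :=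
  ![1099780980769,
    17956894,
    17502,
    1198467674275870,
    584652423198,
    1099780063713,
    17892,
    563087425929696,
    35192964121056,
    281479272209920,
    24132,
    9070975131136,
    140738696322560,
    17660905906176,
    123972,
    4415293612032,
    2251801969680384,
    18743299,
    17660906446849,
    281479272595969,
    32636930,
    35192977752320,
    9070986659840,
    2251801976963072,
    252837890,
    563087644033152,
    4415478071296,
    140738813759488,
    1103538159649,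
    588142084112,
    140741649108992,
    2251803848671232,
    281539401744896,
    35248798695680,
    4462538162176,
    614717194256,
    18622978465792,
    563980779126912,
    9826889369600,
    1065688760336,
    16492942852129,
    1212761325436936,
    16509921427456,
    16767556519936,
    263951510413312,
    263891382698240,
    1391981720764424,
    263883998629888,
    4222128946151936,
    4222262123167872,
    4294692418093064,
    4222126806597632]

def genTab : Fin 6 → Fin 52 → Fin 52 × Bool :=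
  ![![(0, false), (1, false), (4, false), (2, false), (3, false), (28, false), (29, false), (30, false), (31, false), (32, false), (35, false), (33, false), (34, false), (36, false), (39, false), (37, false), (38, false), (17, false), (18, false), (19, false), (20, false), (23, false), (21, false), (22, false), (24, false), (27, false), (25, false), (26, false), (40, true), (41, true), (42, true), (43, true), (48, true), (51, true), (49, true), (50, true), (44, true), (47, true), (45, true), (46, true), (5, true), (6, true), (7, true), (8, true), (13, true), (16, true), (14, true), (15, true), (9, true), (12, true), (10, true), (11, true)],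
    ![(0, false), (20, false), (21, false), (22, false), (23, false), (5, false), (8, false), (6, false), (7, false), (32, false), (33, false), (34, false), (35, false), (44, true), (45, true), (46, true), (47, true), (17, false), (18, false), (19, false), (24, true), (25, true), (26, true), (27, true), (1, true), (2, true), (3, true), (4, true), (28, false), (31, false), (29, false), (30, false), (48, true), (49, true), (50, true), (51, true), (13, false), (14, false), (15, false), (16, false), (40, false), (43, false), (41, false), (42, false), (36, true), (37, true), (38, true), (39, true), (9, true), (10, true), (11, true), (12, true)],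
    ![(28, false), (4, true), (2, false), (1, false), (3, true), (5, false), (6, false), (7, false), (8, false), (12, true), (10, false), (9, false), (11, true), (16, true), (14, false), (13, false), (15, true), (29, true), (31, true), (30, true), (35, true), (33, false), (32, false), (34, true), (39, true), (37, false), (36, false), (38, true), (40, false), (41, true), (43, true), (42, true), (47, true), (45, false), (44, false), (46, true), (51, true), (49, false), (48, false), (50, true), (0, false), (17, false), (18, false), (19, false), (23, true), (21, false), (20, false), (22, true), (27, true), (25, false), (24, false), (26, true)],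
    ![(0, false), (9, false), (10, false), (11, false), (12, false), (5, false), (6, false), (7, false), (8, false), (13, true), (14, true), (15, true), (16, true), (1, true), (2, true), (3, true), (4, true), (19, false), (17, false), (18, false), (32, false), (33, false), (34, false), (35, false), (48, false), (49, false), (50, false), (51, false), (28, false), (30, false), (31, false), (29, false), (44, false), (45, false), (46, false), (47, false), (24, false), (25, false), (26, false), (27, false), (40, false), (43, false), (41, false), (42, false), (20, false), (21, false), (22, false), (23, false), (36, false), (37, false), (38, false), (39, false)],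
    ![(21, true), (1, false), (2, false), (3, false), (4, false), (8, true), (6, false), (5, false), (7, true), (11, false), (10, false), (12, true), (9, true), (16, true), (14, false), (13, false), (15, true), (20, false), (23, true), (22, false), (24, false), (25, true), (27, true), (26, true), (17, false), (0, false), (18, false), (19, true), (33, true), (35, false), (32, true), (34, true), (38, false), (37, true), (36, false), (39, false), (31, true), (28, false), (30, true), (29, false), (45, true), (46, false), (44, false), (47, true), (51, true), (49, true), (50, false), (48, true), (43, false), (40, false), (41, false), (42, true)],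
    ![(19, true), (1, false), (2, false), (3, false), (4, false), (9, true), (10, false), (12, false), (11, false), (13, true), (14, false), (16, false), (15, false), (5, false), (6, false), (7, false), (8, false), (17, false), (0, false), (18, true), (20, false), (22, false), (23, false), (21, false), (24, false), (27, false), (25, false), (26, false), (32, true), (35, false), (34, false), (33, false), (36, true), (38, false), (37, false), (39, false), (28, false), (30, false), (31, false), (29, false), (48, true), (50, false), (49, false), (51, false), (40, false), (43, false), (41, false), (42, false), (44, true), (47, false), (46, false), (45, false)]]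

def steps : List (ℕ × Fin 52) :=
  [(0, 19), (1, 18), (2, 13), (3, 14), (1, 17), (0, 5), (6, 6), (7, 10), (8, 2), (9, 1), (6, 7), (5, 24), (11, 25), (7, 8), (1, 9), (12, 20), (2, 44), (14, 45), (8, 12), (13, 27), (17, 47), (15, 11), (16, 23), (3, 16), (3, 36), (18, 46), (16, 21), (27, 22), (27, 33), (22, 38), (20, 30), (3, 15), (24, 51)]

end Cfsg.Agent.Lie.L33
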