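import Mathlib
import Cfsg.Agent.Lib.Lie.L33FlagData
import Cfsg.Agent.Lib.Classical.SLGroup

/-! The 104 transvections of `SL(3, 3)`: their matrices, commutation and conjugation. -/

set_option autoImplicit false
set_option maxRecDepth 8000

namespace Cfsg.Agent.Lie.L33

open Matrix

abbrev S3 := Matrix.SpecialLinearGroup (Fin 3) (ZMod 3)

/-- A transvection. -/
def rmat (i : Fin 52) (b : Bool) : Matrix (Fin 3) (Fin 3) (ZMod 3) :=
  1 + Matrix.of fun x y => (if b then 2 else 1) * (cen i x * axs i y)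

theorem rmat_det : ∀ i b, (rmat i b).det = 1 := by decide +kernel

/-- A transvection as a group element. -/
def rep (i : Fin 52) (b : Bool) : S3 := ⟨rmat i b, rmat_det i b⟩

theorem rmat_inv : ∀ i, rmat i true * rmat i false = 1 := by decide +kernel

theorem rep_inv (i : Fin 52) : (rep i false)⁻¹ = rep i true :=
  inv_eq_of_mul_eq_one_left (Subtype.ext (rmat_inv i))

theorem rmat_comm : ∀ i j, (rmat i false * rmat j false == rmat j false * rmat i false) =
    Nat.testBit (adjCode i) j := by decide +kernel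

theorem comm_iff (i j : Fin 52) (b c : Bool) :
    rep i b * rep j c = rep j c * rep i b ↔ Nat.testBit (adjCode i) j = true := by
  have h : rep i false * rep j false = rep j false * rep i false ↔
      Nat.testBit (adjCode i) j = true := by
    rw [← rmat_comm, beq_iff_eq]
    exact Subtype.ext_iff
  rw [← h]
  show Commute (rep i b) (rep j c) ↔ Commute (rep i false) (rep j false)
  cases b <;> cases c <;> simp only [← rep_inv, Commute.inv_left_iff, Commute.inv_right_iff]

/-- The six elementary transvections. -/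
def emat (k : Fin 6) : Matrix (Fin 3) (Fin 3) (ZMod 3) :=
  let p : Fin 6 → Fin 3 × Fin 3 := ![(0, 1), (0, 2), (1, 0), (1, 2), (2, 0), (2, 1)]
  Matrix.transvection (p k).1 (p k).2 1

theorem gen_ok : ∀ k i, emat k * rmat i false = rmat (genTab k i).1 (genTab k i).2 * emat k := by
  decide +kernel

theorem emat_det : ∀ k, (emat k).det = 1 := by decide +kernel

/-- The six elementary transvections as group elements. -/
def egen (k : Fin 6) : S3 := ⟨emat k, emat_det k⟩

theorem wit_det : ∀ i, (Matrix.of (wit i)).det = 1 := by decide +kernel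

theorem wit_ok : ∀ i, Matrix.of (wit i) * rmat 0 false = rmat i false * Matrix.of (wit i) := by
  decide +kernel

theorem exists_wit (i : Fin 52) : ∃ w : S3, w * rep 0 false * w⁻¹ = rep i false :=
  ⟨⟨Matrix.of (wit i), wit_det i⟩, mul_inv_eq_iff_eq_mul.2 (Subtype.ext (wit_ok i))⟩

theorem egen_pair : ∀ {x y : Fin 3}, x ≠ y → ∃ k, emat k = Matrix.transvection x y 1 := by
  decide +kernel

theorem trans_mem {H : Subgroup S3} (hH : ∀ k, egen k ∈ H) {x y : Fin 3} (h : x ≠ y) (c : ZMod 3) :
    Matrix.SpecialLinearGroup.transvection h c ∈ H := by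
  obtain ⟨k, hk⟩ := egen_pair h
  have e : Matrix.SpecialLinearGroup.transvection h (1 : ZMod 3) = egen k := Subtype.ext
    ((Matrix.SpecialLinearGroup.transvection_coe h 1).trans hk.symm)
  obtain rfl | rfl | rfl : c = 0 ∨ c = 1 ∨ c = 2 := by revert c; decide
  · convert H.one_mem
    exact Subtype.ext (by simp [Matrix.SpecialLinearGroup.transvection_coe])
  · rw [e]; exact hH k
  · convert H.mul_mem (hH k) (hH k)
    rw [← e]
    refine Subtype.ext ?_
    rw [Matrix.SpecialLinearGroup.coe_mul, Matrix.SpecialLinearGroup.transvection_coe,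
      Matrix.SpecialLinearGroup.transvection_coe]
    show Matrix.transvection x y (2 : ZMod 3) = Matrix.transvection x y 1 * Matrix.transvection x y 1
    rw [Matrix.transvection_mul_transvection_same _ _ h]
    rfl

theorem top_of_gens {H : Subgroup S3} (hH : ∀ k, egen k ∈ H) : H = ⊤ := by
  refine eq_top_iff.2 ?_
  rw [← Cfsg.Agent.Classical.SL_closure_transvections, Subgroup.closure_le]
  rintro _ ⟨⟨x, y, h, c⟩, rfl⟩
  exact trans_mem hH h c

/-- The set of transvections. -/
def tset : Set S3 := {t | ∃ i b, rep i b = t}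

theorem inv_mem_tset {t : S3} (h : t ∈ tset) : t⁻¹ ∈ tset := by
  obtain ⟨i, b, rfl⟩ := h
  cases b
  · exact ⟨i, true, (rep_inv i).symm⟩
  · exact ⟨i, false, by rw [← rep_inv, inv_inv]⟩

theorem conj_mem_tset (g : S3) {t : S3} (ht : t ∈ tset) : g * t * g⁻¹ ∈ tset := by
  classical
  let H : Subgroup S3 :=
    { carrier := {g | ∀ t, g * t * g⁻¹ ∈ tset ↔ t ∈ tset}
      one_mem' := fun t => by simp
      mul_mem' := fun {a b} ha hb t => by
        rw [show a * b * t * (a * b)⁻¹ = a * (b * t * b⁻¹) * a⁻¹ by group, ha, hb]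
      inv_mem' := fun {a} ha t => by
        rw [← ha (a⁻¹ * t * a⁻¹⁻¹), show a * (a⁻¹ * t * a⁻¹⁻¹) * a⁻¹ = t by group] }
  suffices h : H = ⊤ from ((eq_top_iff.1 h (Subgroup.mem_top g)) t).2 ht
  refine top_of_gens fun k => ?_
  have h1 : ∀ t ∈ tset, egen k * t * (egen k)⁻¹ ∈ tset := by
    rintro _ ⟨i, b, rfl⟩
    have e : egen k * rep i false * (egen k)⁻¹ = rep (genTab k i).1 (genTab k i).2 :=
      mul_inv_eq_iff_eq_mul.2 (Subtype.ext (gen_ok k i))
    cases b
    · exact ⟨_, _, e.symm⟩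
    · rw [← rep_inv, show egen k * (rep i false)⁻¹ * (egen k)⁻¹ =
        (egen k * rep i false * (egen k)⁻¹)⁻¹ by group, e]
      exact inv_mem_tset ⟨_, _, rfl⟩
  intro t
  refine ⟨fun h => ?_, h1 t⟩
  have hfin := Set.toFinite (tset : Set S3)
  have := (Set.Finite.surjOn_iff_bijOn_of_mapsTo (f := fun t => egen k * t * (egen k)⁻¹) hfin h1)
  obtain ⟨s, hs, e⟩ : ∃ s ∈ tset, egen k * s * (egen k)⁻¹ = egen k * t * (egen k)⁻¹ := by
    obtain ⟨⟨s, hs⟩, e⟩ := (Finite.injective_iff_surjective.1
      (show Function.Injective (fun s : tset => (⟨egen k * s.1 * (egen k)⁻¹, h1 _ s.2⟩ : tset)) from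
        fun a b e => Subtype.ext (mul_left_cancel (mul_right_cancel (congrArg Subtype.val e))))) ⟨_, h⟩
    exact ⟨s, hs, congrArg Subtype.val e⟩
  rwa [← mul_left_cancel (mul_right_cancel e)]

/-- An element centralizing `x₁₂` and `x₂₃` is scalar times a power of `x₁₃`. -/
theorem cent_U {M : Matrix (Fin 3) (Fin 3) (ZMod 3)} (hd : M.det = 1)
    (h1 : M * emat 0 = emat 0 * M) (h2 : M * emat 3 = emat 3 * M) :
    M = 1 ∨ M = rmat 0 false ∨ M = rmat 0 true := by
  have e0 : emat 0 = !![1, 1, 0; 0, 1, 0; 0, 0, 1] := by decide +kernel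
  have e3 : emat 3 = !![1, 0, 0; 0, 1, 1; 0, 0, 1] := by decide +kernel
  rw [e0] at h1
  rw [e3] at h2
  have a10 := congrFun (congrFun h1 0) 0
  have a11 := congrFun (congrFun h1 0) 1
  have a12 := congrFun (congrFun h1 0) 2
  have a20 := congrFun (congrFun h1 2) 1
  have b10 := congrFun (congrFun h2 1) 2
  have b00 := congrFun (congrFun h2 0) 2
  have b21 := congrFun (congrFun h2 1) 1
  simp [Matrix.mul_apply, Fin.sum_univ_three] at a10 a11 a12 a20 b10 b00 b21
  have hM : M = !![M 0 0, 0, M 0 2; 0, M 0 0, 0; 0, 0, M 0 0] := by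
    have := congrFun (congrFun h2 1) 0
    simp [Matrix.mul_apply, Fin.sum_univ_three] at this
    ext i j
    fin_cases i <;> fin_cases j <;> simp_all
  rw [hM, Matrix.det_fin_three] at hd
  simp at hd
  have key : ∀ a c : ZMod 3, a * a * a = 1 →
      !![a, 0, c; 0, a, 0; 0, 0, a] = 1 ∨ !![a, 0, c; 0, a, 0; 0, 0, a] = rmat 0 false ∨
        !![a, 0, c; 0, a, 0; 0, 0, a] = rmat 0 true := by decide +kernel
  rw [hM]
  exact key _ _ hd

theorem z_form : ∀ a b c : ZMod 3, (!![1, a, b; 0, 1, c; 0, 0, 1] : Matrix (Fin 3) (Fin 3) (ZMod 3)).det = 1 ∧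
    !![1, a, b; 0, 1, c; 0, 0, 1] * rmat 0 false = rmat 0 false * !![1, a, b; 0, 1, c; 0, 0, 1] := by
  decide +kernel

theorem z_ne : rmat 0 false ≠ 1 := by decide +kernel

end Cfsg.Agent.Lie.L33
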