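import Mathlib

/-! A linear group over a large finite field with a one-parameter diagonal subgroup having a unique
highest and lowest weight, and one element in general position for it, satisfies no given law. -/

set_option autoImplicit false

namespace Cfsg.Agent.Lie.Law

open Matrix Polynomial

variable {ι : Type*} [Fintype ι] [DecidableEq ι] {F : Type*} [Field F]

/-- Diagonal units as invertible matrices. -/
def dgu : (ι → Fˣ) →* GL ι F :=
  (Units.map (Matrix.diagonalRingHom ι F).toMonoidHom).comp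
    (MulEquiv.piUnits (M := fun _ : ι => F)).symm.toMonoidHom

@[simp] theorem dgu_val (v : ι → Fˣ) :
    ((dgu v : GL ι F) : Matrix ι ι F) = diagonal fun i => (v i : F) := rfl

/-- The one-parameter diagonal subgroup with weights `d`. -/
def tor (d : ι → ℤ) (z : Fˣ) : GL ι F := dgu fun i => z ^ d i

theorem tor_zpow_val (d : ι → ℤ) (z : Fˣ) (k : ℤ) :
    ((tor d z ^ k : GL ι F) : Matrix ι ι F) = diagonal fun i => ((z ^ (k * d i) : Fˣ) : F) := by
  rw [tor, ← map_zpow, dgu_val]
  congr 1
  ext i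
  rw [Pi.pow_apply, ← _root_.zpow_mul, mul_comm]

/-- `G` times `z ^ n` is polynomial in `z` of degree at most `2 * n` with leading coefficient `T`. -/
def Good (G : Fˣ → GL ι F) (n : ℕ) (T : Matrix ι ι F) : Prop :=
  ∃ Q : Matrix ι ι F[X], (∀ i j, (Q i j).natDegree ≤ 2 * n ∧ (Q i j).coeff (2 * n) = T i j) ∧
    ∀ z : Fˣ, Q.map (Polynomial.eval (z : F)) = (z : F) ^ n • (G z : Matrix ι ι F)

theorem Good.mul {G G' : Fˣ → GL ι F} {n n' : ℕ} {T T' : Matrix ι ι F} (h : Good G n T)
    (h' : Good G' n' T') : Good (fun z => G z * G' z) (n + n') (T * T') := by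
  obtain ⟨Q, hQ, hev⟩ := h
  obtain ⟨Q', hQ', hev'⟩ := h'
  refine ⟨Q * Q', fun i j => ⟨?_, ?_⟩, fun z => ?_⟩
  · rw [Matrix.mul_apply]
    refine natDegree_sum_le_of_forall_le _ _ fun k _ => natDegree_mul_le.trans ?_
    have := (hQ i k).1; have := (hQ' k j).1
    omega
  · rw [Matrix.mul_apply, Matrix.mul_apply, finsetSum_coeff]
    refine Finset.sum_congr rfl fun k _ => ?_
    rw [mul_add, coeff_mul_add_eq_of_natDegree_le (hQ i k).1 (hQ' k j).1, (hQ i k).2,
      (hQ' k j).2]
  · have e : (Q * Q').map (Polynomial.eval (z : F)) =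
        Q.map (Polynomial.eval (z : F)) * Q'.map (Polynomial.eval (z : F)) :=
      Matrix.map_mul (f := Polynomial.evalRingHom (z : F))
    rw [e, hev z, hev' z, smul_mul_smul_comm, ← pow_add, Units.val_mul]

theorem good_const (c : GL ι F) : Good (fun _ => c) 0 (c : Matrix ι ι F) := by
  refine ⟨(c : Matrix ι ι F).map Polynomial.C, fun i j => ?_, fun z => ?_⟩
  · simp
  · ext i j; simp

variable {d : ι → ℤ} {M : ℕ} {jp jn : ι}

/-- The weight space of the top weight of the `k`-th power. -/
def topIdx (jp jn : ι) (k : ℤ) : ι := if 0 < k then jp else jn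

omit [Fintype ι] [DecidableEq ι] in
theorem topIdx_cases (jp jn : ι) (k : ℤ) : topIdx jp jn k = jp ∨ topIdx jp jn k = jn := by
  unfold topIdx; split_ifs <;> simp

variable (hd : ∀ i, -(M : ℤ) ≤ d i ∧ d i ≤ M) (hjp : ∀ i, d i = M ↔ i = jp)
  (hjn : ∀ i, d i = -(M : ℤ) ↔ i = jn)
include hd hjp hjn

theorem good_zpow {k : ℤ} (hk : k ≠ 0) :
    Good (fun z : Fˣ => tor d z ^ k) (k.natAbs * M)
      (Matrix.single (topIdx jp jn k) (topIdx jp jn k) (1 : F)) := by
  have hb : ∀ i, 0 ≤ ((k.natAbs * M : ℕ) : ℤ) + k * d i ∧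
      ((k.natAbs * M : ℕ) : ℤ) + k * d i ≤ 2 * (k.natAbs * M : ℕ) ∧
      (((k.natAbs * M : ℕ) : ℤ) + k * d i = 2 * (k.natAbs * M : ℕ) ↔ i = topIdx jp jn k) := by
    intro i
    obtain ⟨h1, h2⟩ := hd i
    push_cast
    rcases lt_or_gt_of_ne hk with hneg | hpos
    · rw [abs_of_neg hneg, topIdx, if_neg (by omega)]
      refine ⟨by nlinarith, by nlinarith, ?_⟩
      constructor
      · intro e
        refine (hjn i).1 (mul_left_cancel₀ hk ?_)
        linarith
      · intro e
        rw [(hjn i).2 e]; ring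
    · rw [abs_of_pos hpos, topIdx, if_pos hpos]
      refine ⟨by nlinarith, by nlinarith, ?_⟩
      constructor
      · intro e
        refine (hjp i).1 (mul_left_cancel₀ hk ?_)
        linarith
      · intro e
        rw [(hjp i).2 e]; ring
  refine ⟨diagonal fun i => X ^ (((k.natAbs * M : ℕ) : ℤ) + k * d i).toNat, fun i j => ?_,
    fun z => ?_⟩
  · by_cases e : i = j
    · subst e
      obtain ⟨h0, h1, h2⟩ := hb i
      rw [Matrix.diagonal_apply_eq, natDegree_X_pow, coeff_X_pow]
      refine ⟨by omega, ?_⟩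
      by_cases ht : i = topIdx jp jn k
      · subst ht
        rw [Matrix.single_apply_same, if_pos]
        have := h2.2 rfl
        omega
      · rw [Matrix.single_apply_of_ne _ _ _ _ _ fun hh => ht hh.1.symm, if_neg]
        intro he
        exact ht (h2.1 (by omega))
    · rw [Matrix.diagonal_apply_ne _ e, natDegree_zero, coeff_zero,
        Matrix.single_apply_of_ne _ _ _ _ _ fun hh => e (hh.1.symm.trans hh.2)]
      exact ⟨Nat.zero_le _, rfl⟩
  · rw [tor_zpow_val, Matrix.diagonal_map eval_zero, ← Matrix.diagonal_smul]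
    congr 1
    ext i
    rw [Pi.smul_apply, smul_eq_mul, eval_pow, eval_X, ← Units.val_pow_eq_pow_val,
      ← Units.val_pow_eq_pow_val, ← Units.val_mul, ← zpow_natCast z, ← zpow_natCast z, ← _root_.zpow_add,
      Int.toNat_of_nonneg (hb i).1]

omit hd hjp hjn

/-- The exponent of the letter. -/
def sgn (b : Bool) : ℤ := bif b then 1 else -1

/-- The element substituted for a letter. -/
def letter (d : ι → ℤ) (g : GL ι F) (z : Fˣ) (x : ℕ × Bool) : GL ι F :=
  tor d z ^ (x.1 : ℤ) * g * tor d z ^ sgn x.2 * g⁻¹ * tor d z ^ (-(x.1 : ℤ))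

/-- A bound for the degree attached to a word. -/
def weight (L : List (ℕ × Bool)) : ℕ := (L.map fun x => 2 * x.1 + 1).sum

variable {g : GL ι F}
  (hg : ∀ a ∈ [jp, jn], ∀ b ∈ [jp, jn],
    (g : Matrix ι ι F) a b ≠ 0 ∧ ((g⁻¹ : GL ι F) : Matrix ι ι F) a b ≠ 0)
include hd hjp hjn hg

theorem topIdx_mem (k : ℤ) : topIdx jp jn k ∈ [jp, jn] := by
  simpa using topIdx_cases jp jn k

theorem good_tail : ∀ (L : List (ℕ × Bool)) (x : ℕ × Bool), FreeGroup.IsReduced (x :: L) →
    ∃ (n : ℕ) (T : Matrix ι ι F), M ≤ n ∧ n + x.1 * M ≤ weight (x :: L) * M ∧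
      Good (fun z => g⁻¹ * tor d z ^ (-(x.1 : ℤ)) * ((x :: L).map (letter d g z)).prod) n T ∧
      (∀ r c, r ≠ topIdx jp jn (sgn x.2) → T r c = 0) ∧
      ∃ c, T (topIdx jp jn (sgn x.2)) c ≠ 0 := by
  intro L
  induction L with
  | nil =>
    rintro ⟨i, b⟩ -
    have hs : sgn b ≠ 0 := by cases b <;> simp [sgn]
    have hsa : (sgn b).natAbs = 1 := by cases b <;> simp [sgn]
    have h1 := good_zpow (F := F) hd hjp hjn hs
    rw [hsa, one_mul] at h1
    have h2 := h1.mul (good_const g⁻¹)
    have hrow : ∀ r c, r ≠ topIdx jp jn (sgn b) →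
        (Matrix.single (topIdx jp jn (sgn b)) (topIdx jp jn (sgn b)) (1 : F) *
          ((g⁻¹ : GL ι F) : Matrix ι ι F)) r c = 0 := fun r c hr =>
      Matrix.single_mul_apply_of_ne _ _ _ _ _ hr _
    have hne : ∀ c ∈ [jp, jn], (Matrix.single (topIdx jp jn (sgn b)) (topIdx jp jn (sgn b)) (1 : F) *
          ((g⁻¹ : GL ι F) : Matrix ι ι F)) (topIdx jp jn (sgn b)) c ≠ 0 := fun c hc => by
      rw [Matrix.single_mul_apply_same, one_mul]
      exact (hg _ (topIdx_mem hd hjp hjn hg _) _ hc).2
    by_cases hi : i = 0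
    · subst hi
      refine ⟨M + 0, _, by omega, by simp [weight], ?_, hrow, jp, hne jp (by simp)⟩
      convert h2 using 2 with z
      simp [letter, mul_assoc]
    · have h3 := h2.mul (good_zpow (F := F) hd hjp hjn (k := -(i : ℤ)) (by omega))
      refine ⟨M + 0 + (-(i : ℤ)).natAbs * M,
        Matrix.single (topIdx jp jn (sgn b)) (topIdx jp jn (sgn b)) (1 : F) *
          ((g⁻¹ : GL ι F) : Matrix ι ι F) *
          Matrix.single (topIdx jp jn (-(i : ℤ))) (topIdx jp jn (-(i : ℤ))) (1 : F), by omega, ?_, ?_, fun r c hr => ?_,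
        topIdx jp jn (-(i : ℤ)), ?_⟩
      · simp [weight]; ring_nf; omega
      · convert h3 using 2 with z
        simp [letter, mul_assoc]
      · rw [Matrix.mul_apply]
        exact Finset.sum_eq_zero fun k _ => by rw [hrow r k hr, zero_mul]
      · rw [Matrix.mul_single_apply_same, mul_one]
        exact hne _ (topIdx_mem hd hjp hjn hg _)
  | cons y L ih =>
    rintro ⟨i, b⟩ hred
    rw [FreeGroup.isReduced_cons_cons] at hred
    obtain ⟨n, T, hn, hle, hgood, hrow, c₀, hc₀⟩ := ih y hred.2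
    obtain ⟨i', b'⟩ := y
    simp only at hred hle hgood hrow hc₀
    set j := topIdx jp jn (sgn b) with hj
    set j' := topIdx jp jn (sgn b') with hj'
    obtain ⟨nm, Tm, hnm, hmgood, hTm⟩ : ∃ (nm : ℕ) (Tm : Matrix ι ι F), nm ≤ (i + i') * M ∧
        Good (fun z => g⁻¹ * tor d z ^ ((i' : ℤ) - i) * g) nm Tm ∧ Tm j j' ≠ 0 := by
      by_cases hii : i = i'
      · refine ⟨0, 1, Nat.zero_le _, ?_, ?_⟩
        · convert good_const (1 : GL ι F) using 2 with z
          all_goals simp [hii]
        · rw [hj, hj', hred.1 hii, Matrix.one_apply_eq]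
          exact one_ne_zero
      · have h := ((good_const g⁻¹).mul (good_zpow (F := F) hd hjp hjn
          (k := (i' : ℤ) - i) (by omega))).mul (good_const g)
        refine ⟨0 + ((i' : ℤ) - i).natAbs * M + 0, _, ?_, h, ?_⟩
        · have : ((i' : ℤ) - i).natAbs * M ≤ (i + i') * M := Nat.mul_le_mul_right _ (by omega)
          omega
        · rw [Matrix.mul_apply, Finset.sum_eq_single (topIdx jp jn ((i' : ℤ) - i))]
          · rw [Matrix.mul_single_apply_same, mul_one]
            exact mul_ne_zero (hg _ (topIdx_mem hd hjp hjn hg _) _ (topIdx_mem hd hjp hjn hg _)).2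
              (hg _ (topIdx_mem hd hjp hjn hg _) _ (topIdx_mem hd hjp hjn hg _)).1
          · intro k _ hk
            rw [Matrix.mul_single_apply_of_ne _ _ _ _ _ hk, zero_mul]
          · simp
    have hs : sgn b ≠ 0 := by cases b <;> simp [sgn]
    have hsa : (sgn b).natAbs = 1 := by cases b <;> simp [sgn]
    have h1 := good_zpow (F := F) hd hjp hjn hs
    rw [hsa, one_mul] at h1
    refine ⟨M + nm + n, Matrix.single j j (1 : F) * Tm * T, ?_, ?_, ?_, fun r c hr => ?_, c₀, ?_⟩
    rotate_left 2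
    · convert (h1.mul hmgood).mul hgood using 2 with z
      simp only [List.map_cons, List.prod_cons, letter]
      group
    · rw [mul_assoc, Matrix.single_mul_apply_of_ne _ _ _ _ _ hr]
    · rw [mul_assoc, Matrix.single_mul_apply_same, one_mul, Matrix.mul_apply,
        Finset.sum_eq_single j']
      · exact mul_ne_zero hTm hc₀
      · intro k _ hk
        rw [hrow k c₀ hk, mul_zero]
      · simp
    · omega
    · simp only [weight, List.map_cons, List.sum_cons] at hle ⊢
      nlinarith

/-- Some substitution of the elements of `H` does not satisfy the law `w`. -/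
theorem exists_lift_ne_one [Fintype F] (hM : 0 < M) {H : Subgroup (GL ι F)}
    (htor : ∀ z : Fˣ, tor d z ∈ H) (hgH : g ∈ H) {w : FreeGroup ℕ} (hw : w ≠ 1)
    (hq : 2 * (weight w.toWord * M) + 1 < Fintype.card F) :
    ∃ f : ℕ → ↥H, FreeGroup.lift f w ≠ 1 := by
  by_contra hcon
  push Not at hcon
  have hfix : ∀ z : Fˣ, (w.toWord.map (letter d g z)).prod = 1 := by
    intro z
    have h := hcon fun i => ⟨tor d z ^ (i : ℤ) * g * tor d z * g⁻¹ * tor d z ^ (-(i : ℤ)),
      by refine mul_mem (mul_mem (mul_mem (mul_mem ?_ hgH) (htor z)) (inv_mem hgH)) ?_ <;>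
        exact zpow_mem (htor z) _⟩
    have h' := congrArg H.subtype h
    rw [← MonoidHom.comp_apply, map_one, ← FreeGroup.mk_toWord (x := w), MonoidHom.comp_apply,
      FreeGroup.lift_mk, map_list_prod, List.map_map] at h'
    rw [← h']
    congr 1
    refine List.map_congr_left fun x _ => ?_
    rcases x with ⟨i, b⟩
    cases b <;> simp [letter, sgn, mul_assoc]
  obtain ⟨x, L, hL⟩ : ∃ x L, w.toWord = x :: L :=
    List.exists_cons_of_ne_nil fun e => hw (FreeGroup.toWord_eq_nil_iff.1 e)
  have hred : FreeGroup.IsReduced (x :: L) := hL ▸ FreeGroup.isReduced_toWord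
  obtain ⟨n, T, hn, hle, hgood, hrow, c, hc⟩ := good_tail hd hjp hjn hg L x hred
  obtain ⟨N, T', a, hN, hNle, hgood', hne⟩ : ∃ (N : ℕ) (T' : Matrix ι ι F) (a : ι), 0 < N ∧
      N ≤ weight (x :: L) * M ∧
      Good (fun z => ((x :: L).map (letter d g z)).prod) N T' ∧ T' a c ≠ 0 := by
    have hgr : ∀ a ∈ [jp, jn], ((g : Matrix ι ι F) * T) a c ≠ 0 := fun a ha => by
      rw [Matrix.mul_apply, Finset.sum_eq_single (topIdx jp jn (sgn x.2))]
      · exact mul_ne_zero (hg a ha _ (topIdx_mem hd hjp hjn hg _)).1 hc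
      · intro k _ hk
        rw [hrow k c hk, mul_zero]
      · simp
    by_cases hi : x.1 = 0
    · refine ⟨0 + n, _, jp, ?_, ?_, ?_, hgr jp (by simp)⟩
      rotate_left 2
      · convert (good_const g).mul hgood using 2 with z
        simp [hi]
      all_goals omega
    · have h := good_zpow (F := F) hd hjp hjn (k := (x.1 : ℤ)) (by omega)
      refine ⟨(x.1 : ℤ).natAbs * M + 0 + n,
        Matrix.single (topIdx jp jn (x.1 : ℤ)) (topIdx jp jn (x.1 : ℤ)) (1 : F) * (g : Matrix ι ι F) * T,
        topIdx jp jn (x.1 : ℤ), ?_, ?_, ?_, ?_⟩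
      rotate_left 2
      · convert (h.mul (good_const g)).mul hgood using 2 with z
        group
      · rw [mul_assoc, Matrix.single_mul_apply_same, one_mul]
        exact hgr _ (topIdx_mem hd hjp hjn hg _)
      · omega
      · simp only [Int.natAbs_natCast]
        omega
  obtain ⟨Q, hQ, hev⟩ := hgood'
  set δ : F := (1 : Matrix ι ι F) a c
  set p : F[X] := X * (Q a c - Polynomial.C δ * X ^ N) with hp
  have hp0 : p = 0 := by
    refine eq_zero_of_natDegree_lt_card_of_eval_eq_zero p (f := id) Function.injective_id ?_ ?_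
    · intro y
      by_cases hy : y = 0
      · simp [hp, hy]
      · have h := congrFun (congrFun (hev (Units.mk0 y hy)) a) c
        simp only [] at h
        rw [← hL, hfix, Units.val_one, Matrix.map_apply, Units.val_mk0, Matrix.smul_apply,
          smul_eq_mul] at h
        rw [hp, eval_mul, eval_sub, eval_mul, eval_C, eval_pow, eval_X, id_eq, h]
        ring
    · rw [hL] at hq
      refine lt_of_le_of_lt (natDegree_mul_le.trans ?_) hq
      have h1 : (Q a c - Polynomial.C δ * X ^ N).natDegree ≤ 2 * N :=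
        (natDegree_sub_le _ _).trans
          (max_le (hQ a c).1 ((natDegree_C_mul_X_pow_le δ N).trans (by omega)))
      rw [natDegree_X]
      omega
  have h2 : (Q a c - Polynomial.C δ * X ^ N) = 0 :=
    (mul_eq_zero.1 hp0).resolve_left X_ne_zero
  have h3 := congrArg (fun q : F[X] => q.coeff (2 * N)) h2
  simp only [coeff_sub, coeff_C_mul, coeff_X_pow, coeff_zero, if_neg (show ¬ 2 * N = N by omega),
    mul_zero, sub_zero] at h3
  exact hne ((hQ a c).2 ▸ h3)

omit hd hjp hjn hg

/-- A nontrivial word has a nontrivial commutator with a fresh generator. -/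
theorem exists_commutator_ne_one {w : FreeGroup ℕ} (hw : w ≠ 1) :
    ∃ n : ℕ, w * FreeGroup.of n * w⁻¹ * (FreeGroup.of n)⁻¹ ≠ 1 := by
  obtain ⟨x, L, hL⟩ : ∃ x L, w.toWord = x :: L :=
    List.exists_cons_of_ne_nil fun e => hw (FreeGroup.toWord_eq_nil_iff.1 e)
  obtain ⟨n, hn⟩ : ∃ n : ℕ, ∀ y ∈ w.toWord, y.1 < n :=
    ⟨(w.toWord.map Prod.fst).sum + 1, fun y hy => by
      have := List.le_sum_of_mem (List.mem_map_of_mem (f := Prod.fst) hy)
      omega⟩
  refine ⟨n, fun h => ?_⟩
  have h' : w * FreeGroup.of n = FreeGroup.of n * w := by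
    rwa [mul_inv_eq_one, mul_inv_eq_iff_eq_mul] at h
  have h1 := congrArg FreeGroup.toWord h'
  have hr : ∀ (y : ℕ × Bool), y ∈ w.toWord → y.1 ≠ n := fun y hy => (hn y hy).ne
  rw [FreeGroup.toWord_mul, FreeGroup.toWord_mul, FreeGroup.toWord_of] at h1
  have e1 : FreeGroup.reduce (w.toWord ++ [(n, true)]) = w.toWord ++ [(n, true)] := by
    refine FreeGroup.isReduced_iff_reduce_eq.1 (List.isChain_append.2
      ⟨FreeGroup.isReduced_toWord, List.isChain_singleton _, ?_⟩)
    intro y hy z hz e
    simp only [List.head?_cons, Option.mem_def, Option.some.injEq] at hz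
    subst hz
    exact absurd e (hr y (List.mem_of_mem_getLast? hy))
  have e2 : FreeGroup.reduce ([(n, true)] ++ w.toWord) = [(n, true)] ++ w.toWord := by
    refine FreeGroup.isReduced_iff_reduce_eq.1 ?_
    rw [hL, List.singleton_append, FreeGroup.isReduced_cons_cons]
    exact ⟨fun e => absurd e.symm (hr x (by simp [hL])), hL ▸ FreeGroup.isReduced_toWord⟩
  rw [e1, e2, hL] at h1
  simp only [List.cons_append, List.nil_append, List.cons.injEq] at h1
  exact hr x (by simp [hL]) (congrArg Prod.fst h1.1)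

/-- If a law fails in a central extension after a commutator, it fails in the quotient. -/
theorem exists_lift_ne_one_of_center {G P : Type*} [Group G] [Group P] (π : G →* P)
    (hker : π.ker ≤ Subgroup.center G) {w : FreeGroup ℕ} {n : ℕ} {f : ℕ → G}
    (h : FreeGroup.lift f (w * FreeGroup.of n * w⁻¹ * (FreeGroup.of n)⁻¹) ≠ 1) :
    FreeGroup.lift (fun i => π (f i)) w ≠ 1 := by
  intro e
  have hk : FreeGroup.lift f w ∈ Subgroup.center G := hker (MonoidHom.mem_ker.2 (by
    rw [← e, show FreeGroup.lift (fun i => π (f i)) = π.comp (FreeGroup.lift f) from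
      FreeGroup.ext_hom _ _ fun i => by simp, MonoidHom.comp_apply]))
  refine h ?_
  rw [map_mul, map_mul, map_mul, map_inv, map_inv, FreeGroup.lift_apply_of,
    ← Subgroup.mem_center_iff.1 hk (f n), mul_inv_cancel_right, mul_inv_cancel]

end Cfsg.Agent.Lie.Law
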