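import Cfsg.Agent.Lib.Lie.LawPSL
import Cfsg.Agent.Lib.Classical.SLNormal
import Cfsg.Agent.Lib.Classical.SympBlocks
import Cfsg.Agent.Lib.Classical.UnitCenter
import Cfsg.Prelude.Def_Classical

/-! Embeddings of `SL₂` and of symmetric groups in the classical groups. -/

set_option autoImplicit false

namespace Cfsg.Agent.Lie.Law

open Matrix Cfsg.Agent.Classical

/-- A law failing in a subgroup fails in the ambient group modulo centre, for the commutator. -/
theorem fails_of_embedding {X H : Type*} [Group X] [Group H] (φ : X →* H)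
    (hφ : Function.Injective φ) {w : FreeGroup ℕ} {n : ℕ} {f : ℕ → X}
    (h : FreeGroup.lift f (w * FreeGroup.of n * w⁻¹ * (FreeGroup.of n)⁻¹) ≠ 1) :
    ∃ g : ℕ → H ⧸ Subgroup.center H, FreeGroup.lift g w ≠ 1 := by
  refine ⟨fun i => QuotientGroup.mk' (Subgroup.center H) (φ (f i)),
    exists_lift_ne_one_of_center (f := fun i => φ (f i)) (n := n) _ (QuotientGroup.ker_mk' _).le
      fun e => h (hφ ?_)⟩
  rw [map_one, ← e, show FreeGroup.lift (fun i => φ (f i)) = φ.comp (FreeGroup.lift f) from
    FreeGroup.ext_hom _ _ fun i => by simp, MonoidHom.comp_apply]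

/-- A perfect group maps into the commutator subgroup. -/
def toCommutator {X H : Type*} [Group X] [Group H] (φ : X →* H) (hX : commutator X = ⊤) :
    X →* ↥(commutator H) :=
  φ.codRestrict _ fun x => by
    have hx : φ x ∈ (commutator X).map φ := Subgroup.mem_map_of_mem _ (by
      rw [hX]; exact Subgroup.mem_top x)
    rw [commutator_def, Subgroup.map_commutator] at hx
    rw [commutator_def]
    exact Subgroup.commutator_mono le_top le_top hx

theorem toCommutator_injective {X H : Type*} [Group X] [Group H] (φ : X →* H)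
    (hφ : Function.Injective φ) (hX : commutator X = ⊤) :
    Function.Injective (toCommutator φ hX) := fun _ _ h => hφ (congrArg Subtype.val h)

variable {F : Type*} [Field F] {m : ℕ}

/-- Block embedding in the top left corner. -/
def blockMat2 (r : ℕ) : Matrix (Fin 2) (Fin 2) F →* Matrix (Fin (2 + r)) (Fin (2 + r)) F where
  toFun A := Matrix.reindexAlgEquiv F F finSumFinEquiv (Matrix.fromBlocks A 0 0 1)
  map_one' := by rw [Matrix.fromBlocks_one, map_one]
  map_mul' A B := by rw [← map_mul, Matrix.fromBlocks_multiply]; simp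

theorem blockMat2_det (r : ℕ) (A : Matrix (Fin 2) (Fin 2) F) : (blockMat2 r A).det = A.det := by
  show (Matrix.reindexAlgEquiv F F finSumFinEquiv (Matrix.fromBlocks A 0 0 1)).det = _
  rw [Matrix.det_reindexAlgEquiv, Matrix.det_fromBlocks_zero₂₁, Matrix.det_one, mul_one]

theorem blockMat2_injective (r : ℕ) : Function.Injective (blockMat2 (F := F) r) := fun A B h =>
  (Matrix.fromBlocks_inj.1 ((Matrix.reindexAlgEquiv F F finSumFinEquiv).injective h)).1

/-- `SL₂` inside `SL_{2+r}`. -/
def slBlock (r : ℕ) : Matrix.SpecialLinearGroup (Fin 2) F →* Matrix.SpecialLinearGroup (Fin (2 + r)) F where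
  toFun A := ⟨blockMat2 r A.1, by rw [blockMat2_det]; exact A.2⟩
  map_one' := Subtype.ext (map_one _)
  map_mul' A B := Subtype.ext (map_mul (blockMat2 r) A.1 B.1)

theorem slBlock_injective (r : ℕ) : Function.Injective (slBlock (F := F) r) := fun _ _ h =>
  Subtype.ext (blockMat2_injective r (congrArg Subtype.val h))

/-- Even permutations as matrices of determinant one. -/
def altMat (m : ℕ) : alternatingGroup (Fin m) →* Matrix.SpecialLinearGroup (Fin m) F where
  toFun σ := ⟨((σ : Equiv.Perm (Fin m))⁻¹).permMatrix F, by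
    rw [Matrix.det_permutation, map_inv, Equiv.Perm.mem_alternatingGroup.1 σ.2]; simp⟩
  map_one' := Subtype.ext (by simp)
  map_mul' σ τ := Subtype.ext (by
    show ((((σ * τ : alternatingGroup (Fin m)) : Equiv.Perm (Fin m)))⁻¹).permMatrix F =
      ((σ : Equiv.Perm (Fin m))⁻¹).permMatrix F * ((τ : Equiv.Perm (Fin m))⁻¹).permMatrix F
    rw [← Matrix.permMatrix_mul, Subgroup.coe_mul, _root_.mul_inv_rev])

theorem altMat_val (m : ℕ) (σ : alternatingGroup (Fin m)) :
    (altMat (F := F) m σ).1 = ((σ : Equiv.Perm (Fin m))⁻¹).permMatrix F := rfl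

theorem altMat_injective (m : ℕ) : Function.Injective (altMat (F := F) m) := by
  intro σ τ h
  have h1 := congrArg Subtype.val h
  rw [altMat_val, altMat_val] at h1
  refine Subtype.ext (inv_injective (Equiv.ext fun i => ?_))
  have h2 := PEquiv.toMatrix_injective h1
  have h3 := DFunLike.congr_fun h2 i
  simpa [Equiv.toPEquiv] using h3

/-- `GL_m` acting on two dual totally singular subspaces. -/
def dualMat (m : ℕ) : GL (Fin m) F →* Matrix (Fin m ⊕ Fin m) (Fin m ⊕ Fin m) F where
  toFun g := Matrix.fromBlocks (g : Matrix _ _ F) 0 0 ((g⁻¹ : GL (Fin m) F) : Matrix _ _ F)ᵀ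
  map_one' := by simp [Matrix.fromBlocks_one]
  map_mul' g h := by simp [Matrix.fromBlocks_multiply, Matrix.transpose_mul]

theorem dual_sum (g : GL (Fin m) F) (x y : Fin m → F) :
    ∑ i, ((g : Matrix _ _ F) *ᵥ x) i * (((g⁻¹ : GL (Fin m) F) : Matrix (Fin m) (Fin m) F)ᵀ *ᵥ y) i =
      ∑ i, x i * y i := by
  show ((g : Matrix _ _ F) *ᵥ x) ⬝ᵥ (((g⁻¹ : GL (Fin m) F) : Matrix (Fin m) (Fin m) F)ᵀ *ᵥ y) = x ⬝ᵥ y
  rw [Matrix.dotProduct_mulVec, Matrix.vecMul_transpose, Matrix.mulVec_mulVec, ← Units.val_mul,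
    inv_mul_cancel, Units.val_one, Matrix.one_mulVec]

theorem dualMat_mulVec_inl (g : GL (Fin m) F) (v : Fin m ⊕ Fin m → F) (i : Fin m) :
    (dualMat m g *ᵥ v) (Sum.inl i) = ((g : Matrix _ _ F) *ᵥ (v ∘ Sum.inl)) i := by
  simp [dualMat, Matrix.fromBlocks_mulVec]

theorem dualMat_mulVec_inr (g : GL (Fin m) F) (v : Fin m ⊕ Fin m → F) (i : Fin m) :
    (dualMat m g *ᵥ v) (Sum.inr i) =
      (((g⁻¹ : GL (Fin m) F) : Matrix (Fin m) (Fin m) F)ᵀ *ᵥ (v ∘ Sum.inr)) i := by
  simp [dualMat, Matrix.fromBlocks_mulVec]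

theorem quadPlus_dual (g : GL (Fin m) F) (v : Fin m ⊕ Fin m → F) :
    quadFormPlus m F (dualMat m g *ᵥ v) = quadFormPlus m F v := by
  simp only [quadFormPlus, dualMat_mulVec_inl, dualMat_mulVec_inr]
  exact dual_sum g _ _

/-- A monoid map to matrices as a map to invertible matrices. -/
def toGLU {ι : Type} [Fintype ι] [DecidableEq ι] {G : Type*} [Group G] (f : G →* Matrix ι ι F)
    (g : G) : GL ι F :=
  ⟨f g, f g⁻¹, by rw [← map_mul, mul_inv_cancel, map_one], by
    rw [← map_mul, inv_mul_cancel, map_one]⟩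

theorem toGLU_mem {ι : Type} [Fintype ι] [DecidableEq ι] {G : Type*} [Group G]
    (f : G →* Matrix ι ι F) {Q : (ι → F) → F} (h : ∀ g u, Q (f g *ᵥ u) = Q u) (g : G) :
    toGLU f g ∈ isometryGroup F Q := fun u _ => h g u

/-- A monoid map preserving a form as a map to the isometry group. -/
def toIso {ι : Type} [Fintype ι] [DecidableEq ι] {G : Type*} [Group G] (f : G →* Matrix ι ι F)
    (Q : (ι → F) → F) (h : ∀ g u, Q (f g *ᵥ u) = Q u) : G →* ↥(isometryGroup F Q) where
  toFun g := ⟨toGLU f g, toGLU_mem f h g⟩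
  map_one' := Subtype.ext (Units.ext (map_one f))
  map_mul' g g' := Subtype.ext (Units.ext (map_mul f g g'))

theorem toIso_injective {ι : Type} [Fintype ι] [DecidableEq ι] {G : Type*} [Group G]
    {f : G →* Matrix ι ι F} {Q : (ι → F) → F} {h : ∀ g u, Q (f g *ᵥ u) = Q u}
    (hf : Function.Injective f) : Function.Injective (toIso f Q h) :=
  fun _ _ e => hf (congrArg Units.val (congrArg Subtype.val e))

/-- The extension by a fixed summand on the left. -/
def oddMat (m : ℕ) : GL (Fin m) F →* Matrix (Unit ⊕ (Fin m ⊕ Fin m)) (Unit ⊕ (Fin m ⊕ Fin m)) F where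
  toFun g := Matrix.fromBlocks (1 : Matrix Unit Unit F) 0 0 (dualMat m g)
  map_one' := by simp [Matrix.fromBlocks_one]
  map_mul' g h := by simp [Matrix.fromBlocks_multiply]

/-- The extension by a fixed summand on the right. -/
def minusMat (m : ℕ) : GL (Fin m) F →* Matrix ((Fin m ⊕ Fin m) ⊕ Fin 2) ((Fin m ⊕ Fin m) ⊕ Fin 2) F where
  toFun g := Matrix.fromBlocks (dualMat m g) 0 0 (1 : Matrix (Fin 2) (Fin 2) F)
  map_one' := by simp [Matrix.fromBlocks_one]
  map_mul' g h := by simp [Matrix.fromBlocks_multiply]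

theorem quadOdd_dual (g : GL (Fin m) F) (u : Unit ⊕ (Fin m ⊕ Fin m) → F) :
    quadFormOdd m F (oddMat m g *ᵥ u) = quadFormOdd m F u := by
  simp only [oddMat, MonoidHom.coe_mk, OneHom.coe_mk, quadFormOdd, Matrix.fromBlocks_mulVec,
    Sum.elim_inl, Sum.elim_inr, Matrix.zero_mulVec, add_zero, zero_add, Matrix.one_mulVec,
    Function.comp_apply, dualMat_mulVec_inl, dualMat_mulVec_inr]
  rw [dual_sum]
  rfl

theorem quadMinus_dual (a b : F) (g : GL (Fin m) F) (u : (Fin m ⊕ Fin m) ⊕ Fin 2 → F) :
    quadFormMinus m F a b (minusMat m g *ᵥ u) = quadFormMinus m F a b u := by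
  simp only [minusMat, MonoidHom.coe_mk, OneHom.coe_mk, quadFormMinus, Matrix.fromBlocks_mulVec,
    Sum.elim_inl, Sum.elim_inr, Matrix.zero_mulVec, add_zero, zero_add, Matrix.one_mulVec,
    Function.comp_apply, dualMat_mulVec_inl, dualMat_mulVec_inr]
  rw [dual_sum]
  rfl

/-- `GL_m` in the orthogonal group of plus type. -/
def toOPlus (m : ℕ) : GL (Fin m) F →* ↥(isometryGroup F (quadFormPlus m F)) :=
  toIso (dualMat m) _ quadPlus_dual

/-- `GL_m` in the orthogonal group of odd dimension. -/
def toOOdd (m : ℕ) : GL (Fin m) F →* ↥(isometryGroup F (quadFormOdd m F)) :=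
  toIso (oddMat m) _ quadOdd_dual

/-- `GL_m` in the orthogonal group of minus type. -/
def toOMinus (m : ℕ) (a b : F) : GL (Fin m) F →* ↥(isometryGroup F (quadFormMinus m F a b)) :=
  toIso (minusMat m) _ (quadMinus_dual a b)

theorem dualMat_injective (m : ℕ) : Function.Injective (dualMat (F := F) m) := fun _ _ h =>
  Units.ext (Matrix.fromBlocks_inj.1 h).1

theorem toOPlus_injective (m : ℕ) : Function.Injective (toOPlus (F := F) m) :=
  toIso_injective (dualMat_injective m)

theorem toOOdd_injective (m : ℕ) : Function.Injective (toOOdd (F := F) m) :=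
  toIso_injective fun _ _ h => dualMat_injective m (Matrix.fromBlocks_inj.1 h).2.2.2

theorem toOMinus_injective (m : ℕ) (a b : F) : Function.Injective (toOMinus (F := F) m a b) :=
  toIso_injective fun _ _ h => dualMat_injective m (Matrix.fromBlocks_inj.1 h).1

/-- Even permutations are unitary. -/
theorem altMat_unitary [Fintype F] {q : ℕ} (hF : Fintype.card F = q ^ 2)
    (σ : alternatingGroup (Fin m)) :
    ((altMat (F := F) m σ).1)ᵀ * ((altMat (F := F) m σ).1).map (qFrob hF) = 1 := by
  have h : ((altMat (F := F) m σ).1).map (qFrob hF) = (altMat (F := F) m σ).1 := by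
    ext i j
    rw [altMat_val, Matrix.map_apply, Equiv.Perm.permMatrix, PEquiv.toMatrix_apply, apply_ite (qFrob hF),
      map_one, map_zero]
  rw [h]
  simp [altMat_val, Matrix.transpose_permMatrix, ← Matrix.permMatrix_mul, Matrix.permMatrix_one]

/-- `Aₘ` inside `SUₘ`. -/
def altSU [Fintype F] {q : ℕ} (hF : Fintype.card F = q ^ 2) (m : ℕ) :
    alternatingGroup (Fin m) →* SU m F q :=
  (altMat m).codRestrict _ fun σ u v => preserves_of_transpose_mul hF (altMat_unitary hF σ) u v

theorem altSU_injective [Fintype F] {q : ℕ} (hF : Fintype.card F = q ^ 2) (m : ℕ) :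
    Function.Injective (altSU hF m) := fun _ _ h => altMat_injective m (congrArg Subtype.val h)

/-- The fixed field of the involution. -/
def fixF [Fintype F] {q : ℕ} (hF : Fintype.card F = q ^ 2) : Subfield F :=
  RingHom.eqLocusField (qFrob hF) (RingHom.id F)

theorem card_fixF [Fintype F] {q : ℕ} (hF : Fintype.card F = q ^ 2) :
    Nat.card (fixF hF) = q := by
  classical
  have h2 := two_le_q hF
  have hker := IsCyclic.card_powMonoidHom_ker (G := Fˣ) (q - 1)
  rw [Nat.card_units, Nat.card_eq_fintype_card (α := F), hF, Nat.gcd_eq_right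
    (by simpa using Nat.sub_dvd_pow_sub_pow q 1 2)] at hker
  let e : (fixF hF : Subfield F) ≃ Option (powMonoidHom (q - 1) : Fˣ →* Fˣ).ker :=
    { toFun := fun x => if h : (x : F) = 0 then none else some ⟨Units.mk0 x h, Units.ext (by
        show (x : F) ^ (q - 1) = 1
        refine mul_left_cancel₀ h ?_
        rw [mul_one, ← pow_succ', Nat.sub_add_cancel (by omega)]
        exact x.2)⟩
      invFun := fun o => o.elim ⟨0, map_zero _⟩ fun u => ⟨((u : Fˣ) : F), by
        show ((u : Fˣ) : F) ^ q = ((u : Fˣ) : F)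
        calc ((u : Fˣ) : F) ^ q = ((u : Fˣ) : F) ^ (q - 1 + 1) := congrArg _ (by omega)
          _ = _ := by
            rw [pow_succ, ← Units.val_pow_eq_pow_val, show (u : Fˣ) ^ (q - 1) = 1 from u.2,
              Units.val_one, one_mul]⟩
      left_inv := fun x => by
        by_cases h : (x : F) = 0
        · simp [h]; exact Subtype.ext h.symm
        · simp [h]
      right_inv := fun o => by
        cases o with
        | none => simp
        | some u => simp }
  rw [Nat.card_congr e, Finite.card_option, hker]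
  omega

theorem exists_isotropic_basis [Fintype F] {q : ℕ} (hF : Fintype.card F = q ^ 2) :
    ∃ (P : Matrix (Fin 2) (Fin 2) F) (c : F), c ≠ 0 ∧ P.det ≠ 0 ∧
      Pᵀ * P.map (qFrob hF) = !![0, c; -c, 0] := by
  classical
  obtain ⟨x, hx⟩ : ∃ x : F, qFrob hF x ≠ x := by
    by_contra h
    push Not at h
    exact qFrob_ne_id hF (RingHom.ext fun x => h x)
  set c := x - qFrob hF x with hc
  have hc0 : c ≠ 0 := sub_ne_zero.2 (Ne.symm hx)
  have hcq : qFrob hF c = -c := by rw [hc, map_sub, qFrob_qFrob]; ring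
  have hcard := natCard_norm_eq hF (t := (-1 : F))
    (by rw [← qFrob_apply hF, map_neg, map_one]) (neg_ne_zero.2 one_ne_zero)
  have h2 := two_le_q hF
  rw [Nat.card_eq_fintype_card] at hcard
  obtain ⟨⟨ε, hε⟩, ⟨ε', hε'⟩, hne⟩ := Fintype.exists_pair_of_one_lt_card
    (α := {c : F // c ^ (q + 1) = -1}) (by omega)
  replace hne : ε ≠ ε' := fun e => hne (Subtype.ext e)
  rw [pow_succ', ← qFrob_apply hF] at hε hε'
  have hd : 1 + ε * qFrob hF ε' ≠ 0 := by
    intro h
    have hε'0 : qFrob hF ε' ≠ 0 := fun e => by simp [e] at hε'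
    exact hne (mul_right_cancel₀ hε'0 (by linear_combination h - hε'))
  set l := qFrob hF (c / (1 + ε * qFrob hF ε')) with hl
  have hl0 : l ≠ 0 := (map_ne_zero _).2 (div_ne_zero hc0 hd)
  have hlc : qFrob hF l * (1 + ε * qFrob hF ε') = c := by
    rw [hl, qFrob_qFrob, div_mul_cancel₀ _ hd]
  refine ⟨!![1, l; ε, l * ε'], c, hc0, ?_, ?_⟩
  · rw [Matrix.det_fin_two_of,
      show (1 : F) * (l * ε') - l * ε = l * (ε' - ε) by ring]
    exact mul_ne_zero hl0 (sub_ne_zero.2 hne.symm)
  · have hlc' : l * (1 + qFrob hF ε * ε') = -c := by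
      rw [← hcq, ← hlc, map_mul, qFrob_qFrob, map_add, map_one, map_mul, qFrob_qFrob]
    ext i j
    fin_cases i <;> fin_cases j <;>
      simp [Matrix.mul_apply, Fin.sum_univ_two]
    · linear_combination hε
    · linear_combination hlc
    · linear_combination hlc'
    · linear_combination (l * qFrob hF l) * hε'

/-- `SL₂` over the fixed field inside `SU_{2+r}`. -/
theorem exists_sl2_SU [Fintype F] {q : ℕ} (hF : Fintype.card F = q ^ 2) (r : ℕ) :
    ∃ φ : Matrix.SpecialLinearGroup (Fin 2) (fixF hF) →* SU (2 + r) F q, Function.Injective φ := by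
  classical
  obtain ⟨P, c, hc, hP, hPP⟩ := exists_isotropic_basis hF
  let Pu : GL (Fin 2) F := Matrix.GeneralLinearGroup.mkOfDetNeZero P hP
  let ψ : Matrix.SpecialLinearGroup (Fin 2) (fixF hF) →* Matrix.SpecialLinearGroup (Fin 2) F :=
    { toFun := fun a => ⟨(Pu : Matrix _ _ F) * (a.1).map (Subtype.val : fixF hF → F) *
        ((Pu⁻¹ : GL (Fin 2) F) : Matrix _ _ F), by
        rw [Matrix.det_units_conj, show (Subtype.val : fixF hF → F) = (fixF hF).subtype from rfl,
          ← RingHom.mapMatrix_apply, ← RingHom.map_det, a.2, map_one]⟩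
      map_one' := Subtype.ext (by
        show (Pu : Matrix (Fin 2) (Fin 2) F) * _ * _ = 1
        rw [Matrix.SpecialLinearGroup.coe_one, Matrix.map_one _ rfl rfl, mul_one, ← Units.val_mul,
          mul_inv_cancel, Units.val_one])
      map_mul' := fun a b => Subtype.ext (by
        show (Pu : Matrix (Fin 2) (Fin 2) F) * _ * _ = _ * _ * _ * (_ * _ * _)
        rw [Matrix.SpecialLinearGroup.coe_mul,
          show (Subtype.val : fixF hF → F) = (fixF hF).subtype from rfl, Matrix.map_mul]
        simp [mul_assoc]) }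
  refine ⟨((slBlock r).comp ψ).codRestrict _ fun a u v => ?_, ?_⟩
  · refine preserves_of_transpose_mul hF ?_ u v
    set A : Matrix (Fin 2) (Fin 2) F := (a.1).map (Subtype.val : fixF hF → F) with hA
    have hfix : A.map (qFrob hF) = A := by
      ext i j; exact (a.1 i j).2
    have hJ : Aᵀ * !![0, c; -c, 0] * A = !![0, c; -c, 0] := by
      have hd : A.det = 1 := by
        rw [hA, show (Subtype.val : fixF hF → F) = (fixF hF).subtype from rfl,
          ← RingHom.mapMatrix_apply, ← RingHom.map_det, a.2, map_one]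
      rw [Matrix.det_fin_two] at hd
      ext i j
      fin_cases i <;> fin_cases j <;> simp [Matrix.mul_apply, Fin.sum_univ_two]
      · ring
      · linear_combination c * hd
      · linear_combination (-c) * hd
      · ring
    set B : Matrix (Fin 2) (Fin 2) F :=
      (Pu : Matrix _ _ F) * A * ((Pu⁻¹ : GL (Fin 2) F) : Matrix _ _ F) with hB
    have hBu : Bᵀ * B.map (qFrob hF) = 1 := by
      set Q := ((Pu⁻¹ : GL (Fin 2) F) : Matrix (Fin 2) (Fin 2) F) with hQ
      have hPQ : P * Q = 1 := Pu.mul_inv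
      rw [hB, Matrix.transpose_mul, Matrix.transpose_mul, Matrix.map_mul, Matrix.map_mul, hfix,
        show (Pu : Matrix _ _ F) = P from rfl]
      calc Qᵀ * (Aᵀ * Pᵀ) * (P.map (qFrob hF) * A * Q.map (qFrob hF))
          = Qᵀ * (Aᵀ * (Pᵀ * P.map (qFrob hF)) * A) * Q.map (qFrob hF) := by
            simp only [mul_assoc]
        _ = Qᵀ * Pᵀ * (P.map (qFrob hF) * Q.map (qFrob hF)) := by
            rw [hPP, hJ, ← hPP]; simp only [mul_assoc]
        _ = _ := by
            rw [← Matrix.transpose_mul, ← Matrix.map_mul, hPQ, Matrix.transpose_one,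
              Matrix.map_one _ (map_zero _) (map_one _), one_mul]
    show (blockMat2 r B)ᵀ * (blockMat2 r B).map (qFrob hF) = 1
    have e1 : (blockMat2 r B)ᵀ = blockMat2 r Bᵀ := by
      simp [blockMat2, Matrix.coe_reindexAlgEquiv, Matrix.fromBlocks_transpose]
    have e2 : (blockMat2 r B).map (qFrob hF) = blockMat2 r (B.map (qFrob hF)) := by
      simp [blockMat2, Matrix.coe_reindexAlgEquiv, ← Matrix.submatrix_map, Matrix.fromBlocks_map]
    rw [e1, e2, ← map_mul, hBu, map_one]
  · intro a b h
    have h1 := congrArg Subtype.val (slBlock_injective r (congrArg Subtype.val h))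
    replace h1 : (Pu : Matrix (Fin 2) (Fin 2) F) * (a.1).map (Subtype.val : fixF hF → F) *
        ((Pu⁻¹ : GL (Fin 2) F) : Matrix (Fin 2) (Fin 2) F) = (Pu : Matrix (Fin 2) (Fin 2) F) *
          (b.1).map (Subtype.val : fixF hF → F) *
        ((Pu⁻¹ : GL (Fin 2) F) : Matrix (Fin 2) (Fin 2) F) := h1
    rw [Units.mul_left_inj, Units.mul_right_inj] at h1
    exact Subtype.ext (Matrix.map_injective Subtype.val_injective h1)

end Cfsg.Agent.Lie.Law

namespace Cfsg.Agent.Lie.Law

open Matrix Cfsg.Agent.Classical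

/-- A finite group embeds in the alternating groups of twice its degree. -/
theorem exists_alt_embedding (X : Type*) [Group X] [Finite X] {n : ℕ} (hn : Nat.card X * 2 ≤ n) :
    ∃ θ : X →* alternatingGroup (Fin n), Function.Injective θ := by
  classical
  letI : Fintype X := Fintype.ofFinite X
  obtain ⟨e⟩ := Function.Embedding.nonempty_of_card_le (α := X × Bool) (β := Fin n)
    (by rw [Fintype.card_prod, Fintype.card_bool, Fintype.card_fin, ← Nat.card_eq_fintype_card]
        exact hn)
  let σ : X →* Equiv.Perm (X × Bool) :=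
    MonoidHom.mk' (fun x => Equiv.prodCongrLeft fun _ : Bool => Equiv.mulLeft x)
      fun x y => Equiv.ext fun ⟨z, b⟩ => by simp [Equiv.prodCongrLeft, mul_assoc]
  let θ : X →* Equiv.Perm (Fin n) := (Equiv.Perm.extendDomainHom e.toEquivRange).comp σ
  have hθ : ∀ x, θ x ∈ alternatingGroup (Fin n) := by
    intro x
    show Equiv.Perm.sign _ = 1
    simp [θ, σ, Equiv.Perm.sign_prodCongrLeft]
  refine ⟨θ.codRestrict _ hθ, fun x y h => ?_⟩
  have h2 := DFunLike.congr_fun (Equiv.Perm.extendDomainHom_injective e.toEquivRange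
    (congrArg Subtype.val h : θ x = θ y)) (1, true)
  simpa [σ, Equiv.prodCongrLeft] using h2

/-- A bound on the size of a subquotient of a matrix group. -/
theorem natCard_le_matrix {G H ι F : Type*} [Group H] [Fintype ι] [Field F] [Fintype F]
    (s : H → G) (hs : Function.Surjective s) (e : H → Matrix ι ι F) (he : Function.Injective e) :
    Nat.card G ≤ Fintype.card F ^ (Fintype.card ι * Fintype.card ι) := by
  classical
  haveI : Finite H := Finite.of_injective e he
  refine (Nat.card_le_card_of_surjective s hs).trans ((Nat.card_le_card_of_injective e he).trans ?_)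
  rw [Nat.card_eq_fintype_card]
  exact le_of_eq (show Fintype.card (ι → ι → F) = _ by rw [Fintype.card_fun, Fintype.card_fun, ← pow_mul])

theorem sl_injective_toMat {n : ℕ} {F : Type*} [Field F] :
    Function.Injective fun g : Matrix.SpecialLinearGroup (Fin n) F => g.1 := Subtype.val_injective

end Cfsg.Agent.Lie.Law
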