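import Cfsg.Agent.Lib.Lie.Law

/-! No law holds in the projective special linear groups of degree two over large finite fields. -/

set_option autoImplicit false

namespace Cfsg.Agent.Lie.Law

open Matrix

theorem psl_two_no_law (w : FreeGroup ℕ) (hw : w ≠ 1) :
    ∃ N : ℕ, ∀ (F : Type*) [Field F] [Fintype F], N ≤ Fintype.card F →
      ∃ f : ℕ → Matrix.ProjectiveSpecialLinearGroup (Fin 2) F, FreeGroup.lift f w ≠ 1 := by
  obtain ⟨n, hn⟩ := exists_commutator_ne_one hw
  set w' := w * FreeGroup.of n * w⁻¹ * (FreeGroup.of n)⁻¹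
  refine ⟨max 3 (2 * weight w'.toWord + 2), fun F _ _ hF => ?_⟩
  classical
  obtain ⟨x, hx⟩ : ∃ x : F, x ∉ ({0, -1} : Finset F) := by
    by_contra h
    push Not at h
    have := (Finset.card_le_card (fun y (_ : y ∈ (Finset.univ : Finset F)) => h y)).trans
      (Finset.card_le_two (a := (0 : F)) (b := -1))
    rw [Finset.card_univ] at this
    omega
  simp only [Finset.mem_insert, Finset.mem_singleton, not_or] at hx
  obtain ⟨hx0, hx1⟩ := hx
  have hx2 : (1 : F) + x ≠ 0 := fun e => hx1 (eq_neg_of_add_eq_zero_right e)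
  let ι' : Matrix.SpecialLinearGroup (Fin 2) F →* GL (Fin 2) F := Matrix.SpecialLinearGroup.toGL
  let s : Matrix.SpecialLinearGroup (Fin 2) F :=
    ⟨!![1, 1; x, 1 + x], by rw [Matrix.det_fin_two_of]; ring⟩
  have hval : ((ι' s : GL (Fin 2) F) : Matrix (Fin 2) (Fin 2) F) = !![1, 1; x, 1 + x] := rfl
  have hinv : (((ι' s)⁻¹ : GL (Fin 2) F) : Matrix (Fin 2) (Fin 2) F) = !![1 + x, -1; -x, 1] := by
    rw [← map_inv]
    show ((s⁻¹ : Matrix.SpecialLinearGroup (Fin 2) F) : Matrix (Fin 2) (Fin 2) F) = _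
    rw [Matrix.SpecialLinearGroup.coe_inv, Matrix.adjugate_fin_two]
    simp [s]
  obtain ⟨f, hf⟩ := exists_lift_ne_one (d := ![1, -1]) (M := 1) (jp := (0 : Fin 2)) (jn := 1)
    (g := ι' s) (H := ι'.range) (w := w')
    (by intro i; fin_cases i <;> simp) (by intro i; fin_cases i <;> simp)
    (by intro i; fin_cases i <;> simp)
    (by
      intro a ha b hb
      rw [hval, hinv]
      fin_cases a <;> fin_cases b <;> simp [hx0, hx2])
    Nat.one_pos
    (fun z => ⟨⟨Matrix.diagonal ![(z : F), ((z⁻¹ : Fˣ) : F)], by simp [Fin.prod_univ_two]⟩,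
      Units.ext (by
        show Matrix.diagonal _ = _
        rw [tor, dgu_val]
        congr 1
        ext i
        fin_cases i <;> simp)⟩)
    ⟨s, rfl⟩ hn (by omega)
  choose f' hf' using fun i => (f i).2
  have h : FreeGroup.lift f' w' ≠ 1 := by
    intro e
    apply hf
    have h1 : ι'.range.subtype.comp (FreeGroup.lift f) = ι'.comp (FreeGroup.lift f') :=
      FreeGroup.ext_hom _ _ fun i => by simp [hf']
    have h2 := DFunLike.congr_fun h1 w'
    rw [MonoidHom.comp_apply, MonoidHom.comp_apply, e, map_one] at h2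
    exact Subtype.ext h2
  exact ⟨fun i => QuotientGroup.mk' _ (f' i),
    exists_lift_ne_one_of_center _ (QuotientGroup.ker_mk' _).le h⟩

end Cfsg.Agent.Lie.Law
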