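import Mathlib

/-! Actions of an abelian group in which all non-identity elements fix equally many points, with fewer
points than twice the order of the group. -/

set_option autoImplicit false

namespace Cfsg.Agent.Lie.MinIndex

open MulAction Finset

variable {Q Ω : Type*} [CommGroup Q] [Finite Q] [MulAction Q Ω] [Finite Ω]

/-- Double counting of the fixed points of a subgroup. -/
theorem sum_card_inf_stabilizer [Fintype Ω] (M : Subgroup Q) {f : ℕ}
    (hf : ∀ x : Q, x ≠ 1 → Nat.card (fixedBy Ω x) = f) :
    ∑ b : Ω, Nat.card ↥(M ⊓ stabilizer Q b) + f = Fintype.card Ω + Nat.card M * f := by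
  classical
  have : Fintype Q := Fintype.ofFinite Q
  have h1 : ∑ b : Ω, Nat.card ↥(M ⊓ stabilizer Q b) =
      ∑ x ∈ univ.filter (fun x : Q => x ∈ M), Nat.card (fixedBy Ω x) := by
    have e1 : ∀ b : Ω, Nat.card ↥(M ⊓ stabilizer Q b) =
        ((univ.filter fun x : Q => x ∈ M).filter fun x : Q => x • b = b).card := fun b => by
      rw [Finset.filter_filter, Nat.card_eq_fintype_card, ← Fintype.card_subtype]
      exact Fintype.card_congr (Equiv.subtypeEquivRight fun x => by
        simp [Subgroup.mem_inf, mem_stabilizer_iff])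
    have e2 : ∀ x : Q, Nat.card (fixedBy Ω x) = (univ.filter fun b : Ω => x • b = b).card := fun x => by
      rw [Nat.card_eq_fintype_card, ← Fintype.card_subtype]
      exact Fintype.card_congr (Equiv.subtypeEquivRight fun b => by simp [mem_fixedBy])
    simp_rw [e1, e2]
    simp only [Finset.card_filter]
    exact Finset.sum_comm
  have hcardM : (univ.filter fun x : Q => x ∈ M).card = Nat.card M := by
    rw [Nat.card_eq_fintype_card, ← Fintype.card_subtype]
  have h1M : (1 : Q) ∈ univ.filter (fun x : Q => x ∈ M) := by simp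
  rw [h1, ← Finset.add_sum_erase _ _ h1M,
    Finset.sum_congr rfl (fun x hx => hf x (Finset.ne_of_mem_erase hx)), Finset.sum_const,
    Finset.card_erase_of_mem h1M, hcardM, smul_eq_mul, fixedBy_one_eq_univ, Nat.card_univ,
    Nat.card_eq_fintype_card]
  have : 1 ≤ Nat.card M := Nat.card_pos
  calc Fintype.card Ω + (Nat.card M - 1) * f + f = Fintype.card Ω + (Nat.card M - 1 + 1) * f := by ring
    _ = _ := by rw [Nat.sub_add_cancel this]

/-- The sum of the orders of the stabilisers is a multiple of the group order. -/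
theorem dvd_sum_card_stabilizer [Fintype Ω] :
    Nat.card Q ∣ ∑ b : Ω, Nat.card (stabilizer Q b) := by
  classical
  have : Fintype Q := Fintype.ofFinite Q
  rw [← Finset.sum_fiberwise Finset.univ (fun b : Ω => (Quotient.mk'' b : orbitRel.Quotient Q Ω))]
  refine Finset.dvd_sum fun o _ => ?_
  induction o using Quotient.inductionOn' with
  | h a =>
    refine Dvd.intro 1 ?_
    rw [mul_one]
    have hst : ∀ b ∈ univ.filter (fun b : Ω => (Quotient.mk'' b : orbitRel.Quotient Q Ω) = Quotient.mk'' a),
        Nat.card (stabilizer Q b) = Nat.card (stabilizer Q a) := fun b hb => by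
      rw [Finset.mem_filter, Quotient.eq''] at hb
      obtain ⟨g, rfl⟩ := hb.2
      congr 2
      ext x
      simp [mem_stabilizer_iff, smul_smul, mul_comm x g]
    rw [Finset.sum_congr rfl hst, Finset.sum_const, smul_eq_mul,
      ← (stabilizer Q a).index_mul_card, index_stabilizer]
    congr 1
    rw [Set.ncard_eq_toFinset_card']
    congr 1
    ext b
    simp [Quotient.eq'', orbitRel_apply]

omit [Finite Q] in
theorem relIndex_mul_card {H K : Subgroup Q} (h : H ≤ K) :
    H.relIndex K * Nat.card H = Nat.card K := by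
  rw [← Subgroup.relIndex_bot_left H, ← Subgroup.relIndex_bot_left K, mul_comm]
  exact Subgroup.relIndex_mul_relIndex ⊥ H K bot_le h

variable [Fintype Ω] {f : ℕ} (hf : ∀ x : Q, x ≠ 1 → Nat.card (fixedBy Ω x) = f)
  (hN : Fintype.card Ω < 2 * Nat.card Q) (hmove : ∃ (x : Q) (b : Ω), x • b ≠ b)
include hf hN hmove

theorem card_eq : Fintype.card Ω = f + Nat.card Q := by
  classical
  obtain ⟨x, b, hxb⟩ := hmove
  have hlt : f < Fintype.card Ω := by
    rw [← hf x (fun h => hxb (by rw [h, one_smul]))]
    rw [Nat.card_eq_fintype_card]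
    exact Fintype.card_subtype_lt (x := b) (by simpa [mem_fixedBy] using hxb)
  have h := sum_card_inf_stabilizer (⊤ : Subgroup Q) hf
  simp only [top_inf_eq, Subgroup.card_top] at h
  obtain ⟨r, hr⟩ := dvd_sum_card_stabilizer (Q := Q) (Ω := Ω)
  rw [hr] at h
  have hQ : 1 ≤ Nat.card Q := Nat.card_pos
  rcases le_or_gt r f with hle | hgt
  · have := Nat.mul_le_mul_left (Nat.card Q) hle
    omega
  · have h1 := Nat.mul_le_mul_left (Nat.card Q) hgt
    rw [Nat.mul_succ] at h1
    rcases le_or_gt r (f + 1) with h2 | h2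
    · rw [show r = f + 1 by omega, Nat.mul_succ] at h; omega
    · have h3 := Nat.mul_le_mul_left (Nat.card Q) h2
      rw [Nat.mul_succ, Nat.mul_succ] at h3
      omega

theorem sum_card_stabilizer :
    ∑ b : Ω, Nat.card (stabilizer Q b) = Nat.card Q * (f + 1) := by
  have h := sum_card_inf_stabilizer (⊤ : Subgroup Q) hf
  simp only [top_inf_eq, Subgroup.card_top] at h
  rw [card_eq hf hN hmove] at h
  rw [Nat.mul_succ]
  omega

/-- Moved points in different orbits have stabilisers generating the whole group. -/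
theorem sup_stabilizer_eq_top {a b : Ω} (hb : b ∉ orbit Q a) :
    stabilizer Q a ⊔ stabilizer Q b = ⊤ := by
  classical
  set K := stabilizer Q a
  set O := univ.filter (fun c : Ω => c ∈ orbit Q a)
  set R := univ.filter (fun c : Ω => c ∉ orbit Q a)
  have hO : ∀ c ∈ O, stabilizer Q c = K := fun c hc => by
    obtain ⟨g, rfl⟩ := (Finset.mem_filter.1 hc).2
    ext x
    simp [K, mem_stabilizer_iff, smul_smul, mul_comm x g]
  have hcardO : O.card * Nat.card K = Nat.card Q := by
    rw [← (stabilizer Q a).index_mul_card, index_stabilizer, Set.ncard_eq_toFinset_card']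
    congr 2
    ext c; simp [O]
  have hsplit : ∀ e : Ω → ℕ, ∑ c, e c = ∑ c ∈ O, e c + ∑ c ∈ R, e c := fun e =>
    (Finset.sum_filter_add_sum_filter_not univ _ e).symm
  have e1 := sum_card_stabilizer hf hN hmove
  rw [hsplit, Finset.sum_congr rfl (fun c hc => by rw [hO c hc] : ∀ c ∈ O, Nat.card (stabilizer Q c) = Nat.card K),
    Finset.sum_const, smul_eq_mul, hcardO, Nat.mul_succ, add_comm] at e1
  have e1' : ∑ c ∈ R, Nat.card (stabilizer Q c) = Nat.card Q * f := by omega
  have e2 := sum_card_inf_stabilizer K hf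
  rw [hsplit, Finset.sum_congr rfl (fun c hc => by rw [hO c hc, inf_idem] :
    ∀ c ∈ O, Nat.card ↥(K ⊓ stabilizer Q c) = Nat.card K),
    Finset.sum_const, smul_eq_mul, hcardO, card_eq hf hN hmove] at e2
  have e2' : ∑ c ∈ R, Nat.card ↥(K ⊓ stabilizer Q c) = Nat.card K * f := by omega
  have hle : ∀ c : Ω, Nat.card K * Nat.card (stabilizer Q c) ≤
      Nat.card Q * Nat.card ↥(K ⊓ stabilizer Q c) := fun c => by
    have h := relIndex_mul_card (H := K ⊓ stabilizer Q c) (K := stabilizer Q c) inf_le_right
    have h' : (K ⊓ stabilizer Q c).relIndex (stabilizer Q c) ≤ K.index := by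
      rw [Subgroup.inf_relIndex_right]
      rw [← Subgroup.relIndex_top_right K]
      exact Subgroup.relIndex_le_of_le_right le_top (by rw [Subgroup.relIndex_top_right]; exact Subgroup.FiniteIndex.index_ne_zero)
    rw [← h, ← K.index_mul_card]
    calc Nat.card K * ((K ⊓ stabilizer Q c).relIndex (stabilizer Q c) * Nat.card ↥(K ⊓ stabilizer Q c))
        ≤ Nat.card K * (K.index * Nat.card ↥(K ⊓ stabilizer Q c)) := by gcongr
      _ = _ := by ring
  have hall := (Finset.sum_eq_sum_iff_of_le (s := R) (fun c _ => hle c)).1 (by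
    rw [← Finset.mul_sum, ← Finset.mul_sum, e1', e2']; ring) b (by simp [R, hb])
  rw [← Subgroup.index_eq_one]
  have h := relIndex_mul_card (H := K ⊓ stabilizer Q b) (K := stabilizer Q b) inf_le_right
  rw [← h, ← K.index_mul_card, Subgroup.inf_relIndex_right] at hall
  have hpos : 0 < Nat.card ↥K * Nat.card ↥(K ⊓ stabilizer Q b) := Nat.mul_pos Nat.card_pos Nat.card_pos
  have h2 : K.relIndex (stabilizer Q b) = K.index := Nat.eq_of_mul_eq_mul_left hpos (by
    calc _ = Nat.card K * (K.relIndex (stabilizer Q b) * Nat.card ↥(K ⊓ stabilizer Q b)) := by ring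
      _ = _ := hall
      _ = _ := by ring)
  rw [← Subgroup.relIndex_sup_right] at h2
  have h3 := Subgroup.relIndex_mul_index (H := K) (K := K ⊔ stabilizer Q b) le_sup_left
  have hK : K.index ≠ 0 := Subgroup.FiniteIndex.index_ne_zero
  rw [sup_comm K, h2] at h3
  rw [sup_comm K]
  exact mul_left_cancel₀ hK (h3.trans (mul_one _).symm)

end Cfsg.Agent.Lie.MinIndex
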