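import Cfsg.Agent.Lib.Recog.SpFourOrders
import Cfsg.Agent.Lib.Fus.PSUFourTwo
import Cfsg.Agent.S0280
import Mathlib.GroupTheory.Transfer

/-!
`PSU_4(2)` has no subgroup of index 24.
-/

set_option autoImplicit false
set_option linter.unusedSectionVars false
set_option maxHeartbeats 1000000

namespace Cfsg.Agent.Lie.MinIndexFourTwo

open Cfsg Subgroup

attribute [local instance 10] _root_.Classical.propDecidable

theorem exists_comm {G : Type*} [Group G] [Finite G] {p : ℕ} [Fact p.Prime] {y : G} (hy : y ^ p = 1)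
    (R : Subgroup G) (hyR : ∀ x ∈ R, y * x * y⁻¹ ∈ R) (hR : ¬ p ∣ Nat.card R - 1) :
    ∃ x ∈ R, x ≠ 1 ∧ Commute x y := by
  classical
  have : Fintype R := Fintype.ofFinite R
  have hmem : ∀ x : {x : R // x ≠ 1}, (⟨y * (x.1 : G) * y⁻¹, hyR _ x.1.2⟩ : R) ≠ 1 := fun x e0 => x.2 (Subtype.ext (by
    have h1 : y * (x.1 : G) * y⁻¹ = 1 := congrArg Subtype.val e0
    rwa [mul_inv_eq_one, mul_eq_left] at h1))
  let f : {x : R // x ≠ 1} → {x : R // x ≠ 1} := fun x => ⟨_, hmem x⟩
  have hf : Function.Injective f := fun a b hab => by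
    have h1 : y * (a.1 : G) * y⁻¹ = y * (b.1 : G) * y⁻¹ := congrArg (fun z => ((z.1 : R) : G)) hab
    exact Subtype.ext (Subtype.ext (mul_left_cancel (mul_right_cancel h1)))
  let σ : Equiv.Perm {x : R // x ≠ 1} := Equiv.ofBijective f (Finite.injective_iff_bijective.1 hf)
  have hpow : ∀ (k : ℕ) (x : {x : R // x ≠ 1}), (((σ ^ k) x).1 : G) = y ^ k * (x.1 : G) * (y ^ k)⁻¹ := by
    intro k
    induction k with
    | zero => intro x; simp
    | succ k ih =>
      intro x
      rw [pow_succ', Equiv.Perm.mul_apply]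
      show y * (((σ ^ k) x).1 : G) * y⁻¹ = _
      rw [ih, pow_succ']
      group
  have hσ : σ ^ p ^ 1 = 1 := Equiv.ext fun x => Subtype.ext (Subtype.ext (by
    rw [hpow, pow_one, hy]; simp))
  have hc : ¬ p ∣ Fintype.card {x : R // x ≠ 1} := by
    rw [Fintype.card_subtype_compl, Fintype.card_subtype_eq, ← Nat.card_eq_fintype_card]
    exact hR
  obtain ⟨x, hx⟩ := Equiv.Perm.exists_fixed_point_of_prime hc hσ
  have h1 : y * (x.1 : G) * y⁻¹ = (x.1 : G) := congrArg (fun z => ((z.1 : R) : G)) hx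
  refine ⟨x.1, x.1.2, fun e0 => x.2 (Subtype.ext e0), ?_⟩
  exact (mul_inv_eq_iff_eq_mul.1 h1).symm

theorem fac {p e m n : ℕ} (hp : p.Prime) (hm : ¬ p ∣ m) (hn : n = p ^ e * m) : n.factorization p = e := by
  have hm0 : m ≠ 0 := fun e0 => hm (e0 ▸ dvd_zero p)
  subst hn
  rw [Nat.factorization_mul (pow_ne_zero _ hp.ne_zero) hm0, Finsupp.add_apply, hp.factorization_pow,
    Finsupp.single_eq_same, Nat.factorization_eq_zero_of_not_dvd hm, add_zero]

/-- A finite group of order 1080 has an element of order divisible by 10 or 15. -/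
theorem exists_ten {H : Type*} [Group H] [Finite H] (hH : Nat.card H = 1080) :
    ∃ x y : H, Commute x y ∧ orderOf y = 5 ∧ (orderOf x ∣ 8 ∨ orderOf x = 3) ∧ x ≠ 1 := by
  classical
  haveI : Fact (Nat.Prime 5) := ⟨by norm_num⟩
  haveI : Fact (Nat.Prime 3) := ⟨Nat.prime_three⟩
  haveI : Fact (Nat.Prime 2) := ⟨Nat.prime_two⟩
  obtain ⟨P⟩ := Sylow.nonempty (p := 5) (G := H)
  have hP : Nat.card (P : Subgroup H) = 5 := by
    rw [P.card_eq_multiplicity, hH]
    have : (1080 : ℕ).factorization 5 = 1 := fac (p := 5) (e := 1) (m := 216) (by norm_num) (by norm_num) (by norm_num)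
    rw [this, pow_one]
  have hn : Nat.card (Sylow 5 H) ∣ 216 := by
    have h1 := (P : Subgroup H).card_mul_index
    rw [hP, hH] at h1
    exact (Sylow.card_dvd_index P).trans (dvd_of_eq (by omega))
  have hmod := card_sylow_modEq_one 5 H
  have hN := (Subgroup.normalizer (P : Set H)).card_mul_index
  rw [← Sylow.card_eq_index_normalizer P, hH] at hN
  by_cases h3 : 3 ∣ Nat.card (Subgroup.normalizer (P : Set H))
  · obtain ⟨z, hz⟩ := exists_prime_orderOf_dvd_card' 3 h3
    obtain ⟨a, ha, ha1, hc⟩ := exists_comm (p := 3) (y := (z : H))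
      (by rw [← SubmonoidClass.coe_pow, ← hz, pow_orderOf_eq_one]; rfl) (P : Subgroup H)
      (fun x hx => (Subgroup.mem_normalizer_iff.1 z.2 x).1 hx) (by rw [hP]; norm_num)
    refine ⟨z, a, hc.symm, ?_, Or.inr (by rw [Subgroup.orderOf_coe, hz]), fun e0 => ?_⟩
    · have h1 := (P : Subgroup H).orderOf_dvd_natCard ha
      rw [hP] at h1
      exact ((Nat.dvd_prime (by norm_num)).1 h1).resolve_left fun e1 => ha1 (orderOf_eq_one_iff.1 e1)
    · have : z = 1 := Subtype.ext e0
      rw [this, orderOf_one] at hz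
      omega
  have hNP : Subgroup.normalizer (P : Set H) = P := by
    refine (Subgroup.eq_of_le_of_card_ge (Subgroup.le_normalizer) ?_).symm
    rw [hP]
    obtain ⟨t, ht⟩ : ∃ t, Nat.card (Sylow 5 H) = t := ⟨_, rfl⟩
    rw [ht] at hn hmod hN
    have ht' : t ≤ 216 := Nat.le_of_dvd (by norm_num) hn
    have hcases : t = 1 ∨ t = 6 ∨ t = 36 ∨ t = 216 := by
      have : ∀ t ≤ 216, t ∣ 216 → t % 5 = 1 → t = 1 ∨ t = 6 ∨ t = 36 ∨ t = 216 := by decide +kernel
      exact this t ht' hn hmod
    change _ * t = 1080 at hN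
    show Nat.card (Subgroup.normalizer (P : Set H)) ≤ 5
    rcases hcases with rfl | rfl | rfl | rfl <;> omega
  have hcent : Subgroup.normalizer (P : Set H) ≤ Subgroup.centralizer ((P : Subgroup H) : Set H) := by
    rw [hNP]
    haveI := isCyclic_of_prime_card hP
    intro a ha b hb
    exact congrArg Subtype.val (Std.Commutative.comm (op := fun x y : (P : Subgroup H) => x * y) ⟨b, hb⟩ ⟨a, ha⟩)
  have hC := MonoidHom.ker_transferSylow_isComplement' P hcent
  set K := (MonoidHom.transferSylow P hcent).ker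
  have hK : Nat.card K = 216 := by
    have h1 := hC.card_mul_card
    rw [hP, hH] at h1
    omega
  obtain ⟨R⟩ := Sylow.nonempty (p := 2) (G := K)
  have hR : Nat.card ((R : Subgroup K).map K.subtype) = 8 := by
    rw [← Nat.card_congr ((R : Subgroup K).equivMapOfInjective _ K.subtype_injective).toEquiv, R.card_eq_multiplicity,
      hK]
    have : (216 : ℕ).factorization 2 = 3 := fac (p := 2) (e := 3) (m := 27) (by norm_num) (by norm_num) (by norm_num)
    rw [this]
    norm_num
  have h5 : 5 ∣ Nat.card (Subgroup.normalizer (((R : Subgroup K).map K.subtype) : Set H)) := by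
    by_contra hcon
    have htop := Sylow.normalizer_sup_eq_top R
    have hle : Subgroup.normalizer (((R : Subgroup K).map K.subtype) : Set H) ≤ K := by
      intro x hx
      rw [← QuotientGroup.eq_one_iff, ← orderOf_eq_one_iff]
      have h1 : orderOf (x : H ⧸ K) ∣ 5 := by
        refine orderOf_dvd_natCard (x : H ⧸ K) |>.trans (dvd_of_eq ?_)
        have h2 := K.card_mul_index
        rw [hK, hH] at h2
        rw [← K.index_eq_card]
        omega
      rcases (Nat.dvd_prime (by norm_num : Nat.Prime 5)).1 h1 with h3 | h3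
      · exact h3
      · exfalso
        refine hcon (h3 ▸ ?_)
        exact (orderOf_map_dvd (QuotientGroup.mk' K) x).trans (Subgroup.orderOf_dvd_natCard _ hx)
    rw [sup_eq_right.2 hle] at htop
    rw [htop, Subgroup.card_top, hH] at hK
    omega
  obtain ⟨y, hy⟩ := exists_prime_orderOf_dvd_card' 5 h5
  obtain ⟨x, hx, hx1, hc⟩ := exists_comm (p := 5) (y := (y : H))
    (by rw [← SubmonoidClass.coe_pow, ← hy, pow_orderOf_eq_one]; rfl) ((R : Subgroup K).map K.subtype)
    (fun x hx => (Subgroup.mem_normalizer_iff.1 y.2 x).1 hx) (by rw [hR]; norm_num)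
  exact ⟨x, y, hc, by rw [Subgroup.orderOf_coe, hy], Or.inl (hR ▸ Subgroup.orderOf_dvd_natCard _ hx), hx1⟩

/-- There is no subgroup of index 24. -/
theorem index_ne {F : Type*} [Field F] [Fintype F] (hF : Fintype.card F = 2 ^ 2) (H : Subgroup (PSU 4 F 2)) :
    H.index ≠ 24 := by
  intro hH
  haveI : Fact (Nat.Prime 3) := ⟨Nat.prime_three⟩
  have hcard : Nat.card (PSU 4 F 2) = 25920 := by
    have h1 := Cfsg.Agent.S0280.result hF 4 (by norm_num)
    simp [Finset.prod_range_succ, Nat.even_iff] at h1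
    norm_num at h1
    rw [Nat.card_eq_fintype_card]
    omega
  haveI : Finite (PSU 4 F 2) := Nat.finite_of_card_ne_zero (by rw [hcard]; norm_num)
  have hHc : Nat.card H = 1080 := by
    have h1 := H.card_mul_index
    rw [hH, hcard] at h1
    omega
  obtain ⟨x, y, hc, hy, hx, hx1⟩ := exists_ten hHc
  obtain ⟨E⟩ := Cfsg.Agent.Fus.PSUFourTwo.nonempty_equiv (F := F) (K := ZMod 3) (by rw [hF]; norm_num) (ZMod.card 3)
  obtain ⟨N, hN, hpow⟩ := Cfsg.Agent.Recog.SpFourOrd.upper 3 (E ((x * y : H) : PSU 4 F 2))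
  have hpow' : (x * y : H) ^ N = 1 := by
    refine Subtype.ext (E.injective ?_)
    rw [SubmonoidClass.coe_pow, map_pow, hpow, Subgroup.coe_one, map_one]
  have hN' : N = 6 ∨ N = 12 ∨ N = 4 ∨ N = 5 ∨ N = 9 := by
    rw [Cfsg.Agent.Recog.SpFourOrd.OrdList, if_neg (by norm_num), ZMod.card] at hN
    rcases hN with h | h | h | h | ⟨-, h⟩ <;> omega
  have hx' : orderOf x = 2 ∨ orderOf x = 4 ∨ orderOf x = 8 ∨ orderOf x = 3 := by
    rcases hx with h | h
    · have h0 : orderOf x ≠ 1 := fun e0 => hx1 (orderOf_eq_one_iff.1 e0)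
      have : ∀ t ≤ 8, t ∣ 8 → t = 1 ∨ t = 2 ∨ t = 4 ∨ t = 8 := by decide
      rcases this _ (Nat.le_of_dvd (by norm_num) h) h with e | e | e | e <;> tauto
    · tauto
  have hd := orderOf_dvd_of_pow_eq_one hpow'
  rw [hc.orderOf_mul_eq_mul_orderOf_of_coprime (by rw [hy]; rcases hx' with e | e | e | e <;> rw [e] <;> norm_num),
    hy] at hd
  rcases hx' with e | e | e | e <;> rw [e] at hd <;> rcases hN' with rfl | rfl | rfl | rfl | rfl <;> norm_num at hd

end Cfsg.Agent.Lie.MinIndexFourTwo
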