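import Cfsg.Agent.Lib.Lie.MinIndexFourLine
import Cfsg.Agent.Lib.Lie.MinIndexFourTwo
import Cfsg.Agent.Lib.Fus.UnitParabolic
import Cfsg.Agent.Lib.Classical.HermTotIsoLines

/-!
The smallest index of a proper subgroup of `PSU_4(q)`.
-/

set_option autoImplicit false
set_option linter.unusedSectionVars false
set_option maxHeartbeats 1000000

namespace Cfsg.Agent.Lie.MinIndexFour

open Matrix Finset MulAction Module Cfsg Cfsg.Agent.Classical Cfsg.Agent.Classical.PSUAut Cfsg.Agent.Lie.MinIndexUnit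
  Cfsg.Agent.Fus.UnitStab Cfsg.Agent.UnitDiagonalOut

attribute [local instance 10] _root_.Classical.propDecidable

variable {F : Type*} [Field F] [Fintype F] {q : ℕ}

local notation "V" => (Fin 4 → F)

variable (hF : Fintype.card F = q ^ 2)

local notation "h" => hermForm 4 F q

include hF

theorem exists_data : Nonempty (Data hF) := by
  obtain ⟨e, he0, hee⟩ := exists_isotropic (n := 4) hF (by omega)
  obtain ⟨f, P⟩ := exists_pair hF he0 hee
  obtain ⟨c0, hc00, hc0⟩ := exists_trace_zero hF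
  obtain ⟨χ, hχ⟩ := (AddChar.exists_apply_ne_zero (α := skew hF) (a := ⟨c0, hc0⟩)).2
    fun e1 => hc00 (congrArg Subtype.val e1)
  exact ⟨⟨e, f, P, c0, hc00, hc0, χ, hχ⟩⟩

/-- Every proper subgroup has index above `q ^ 4 + q ^ 3 + q`. -/
theorem index_ge {H : Subgroup (PSU 4 F q)} (hH : H ≠ ⊤) : (q + 1) * (q ^ 3 + 1) ≤ H.index := by
  obtain ⟨D⟩ := exists_data hF
  set H' := H.comap (suToPSU 4 F q)
  have hidx : H'.index = H.index := Subgroup.index_comap_of_surjective H pi_surjective
  by_contra hcon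
  letI : Fintype (SU 4 F q ⧸ H') := Fintype.ofFinite _
  have hcard : Fintype.card (SU 4 F q ⧸ H') = H.index := by
    rw [← Nat.card_eq_fintype_card, ← hidx]; rfl
  have h0 : H'.index ≠ 0 := Subgroup.index_ne_zero_of_finite
  have h1 : H.index ≠ 1 := fun e1 => hH (Subgroup.index_eq_one.1 e1)
  haveI : Nontrivial (SU 4 F q ⧸ H') := Fintype.one_lt_card_iff_nontrivial.1 (by omega)
  have hsmall : Small q (SU 4 F q ⧸ H') := by
    rw [Small, hcard]
    have e : (q + 1) * (q ^ 3 + 1) = q ^ 4 + q ^ 3 + q + 1 := by ring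
    omega
  rcases Nat.lt_or_ge q 3 with hq | hq
  · obtain rfl : q = 2 := by have := two_le_q hF; omega
    have h2 := card_eq hF D hsmall
    rw [hcard] at h2
    exact MinIndexFourTwo.index_ne hF H (h2.trans (by norm_num))
  · exact not_small hF D hsmall hq

/-- The stabiliser of a totally isotropic plane. -/
theorem exists_index : ∃ H : Subgroup (PSU 4 F q), H.index = (q + 1) * (q ^ 3 + 1) := by
  obtain ⟨D⟩ := exists_data hF
  obtain ⟨u, u', hu, hu', Pu⟩ := exists_wPair hF D.pair
  let f0 : Fin 2 → V := ![D.e, u]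
  have hf0h : ∀ i j, h (f0 i) (f0 j) = 0 := by
    intro i j
    fin_cases i <;> fin_cases j <;> simp [f0, D.pair.ee, Pu.ee, hu.1, h_comm_zero hF hu.1]
  have hf0 : LinearIndependent F f0 := by
    refine LinearIndependent.pair_iff.2 fun s t hst => ?_
    have h1 := congrArg (fun z => h z D.f) hst
    have h2 := congrArg (fun z => h z u') hst
    simp only [h_add_left, h_smul_left, D.pair.ef, hu.2, Pu.ef, h_comm_zero hF hu'.1, h_zero_left, mul_one, mul_zero,
      add_zero, zero_add] at h1 h2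
    exact ⟨h1, h2⟩
  set W0 := Submodule.span F (Set.range f0) with hW0
  let L : SU 4 F q → V →ₗ[F] V := fun s => Matrix.mulVecLin (suVal s)
  have hL : ∀ (s t : SU 4 F q) (W : Submodule F V), W.map (L (s * t)) = (W.map (L t)).map (L s) := fun s t W => by
    rw [← Submodule.map_comp, ← Matrix.mulVecLin_mul, ← suVal_mul]
  have hL1 : ∀ W : Submodule F V, W.map (L 1) = W := fun W => by
    show W.map (Matrix.mulVecLin (1 : Matrix (Fin 4) (Fin 4) F)) = W
    rw [Matrix.mulVecLin_one, Submodule.map_id]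
  let S : Subgroup (SU 4 F q) :=
    { carrier := {s | W0.map (L s) = W0}
      one_mem' := hL1 W0
      mul_mem' := by
        intro s t hs ht
        show W0.map (L (s * t)) = W0
        rw [hL, ht, hs]
      inv_mem' := by
        intro s hs
        show W0.map (L s⁻¹) = W0
        conv_lhs => rw [← hs, ← hL, inv_mul_cancel, hL1] }
  refine ⟨S.map (suToPSU 4 F q), ?_⟩
  rw [Subgroup.index_map_eq S pi_surjective fun s hs => by
    obtain ⟨l, hl⟩ := (pi_eq_one_iff hF).1 hs
    have hl0 : l ≠ 0 := fun e1 => D.pair.ne_zero (su_injective s (by rw [hl, e1, zero_smul, Matrix.zero_mulVec]))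
    have hLs : ∀ x, L s x = l • x := fun x => by
      show suVal s *ᵥ x = _
      rw [hl, Matrix.smul_mulVec, Matrix.one_mulVec]
    show W0.map (L s) = W0
    ext x
    rw [Submodule.mem_map]
    exact ⟨fun ⟨y, hy, e1⟩ => e1 ▸ (hLs y).symm ▸ W0.smul_mem l hy,
      fun hx => ⟨l⁻¹ • x, W0.smul_mem _ hx, by rw [hLs, smul_inv_smul₀ hl0]⟩⟩]
  rw [← HermTotIsoLines.count_four hF]
  let φ : SU 4 F q ⧸ S → {W : Submodule F V // finrank F W = 2 ∧ ∀ a ∈ W, ∀ b ∈ W, h a b = 0} := fun x =>
    ⟨W0.map (L x.out), by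
      rw [← (Submodule.equivMapOfInjective (L x.out)
        (fun a b hab => sub_eq_zero.1 (su_injective x.out (by rw [Matrix.mulVec_sub]; exact sub_eq_zero.2 hab))) W0).finrank_eq,
        hW0, finrank_span_eq_card hf0, Fintype.card_fin],
      by
      rintro _ ⟨a, ha, rfl⟩ _ ⟨b, hb, rfl⟩
      show h (suVal x.out *ᵥ a) (suVal x.out *ᵥ b) = 0
      rw [su_form]
      rw [SetLike.mem_coe, hW0, Submodule.mem_span_range_iff_exists_fun] at ha hb
      obtain ⟨ca, rfl⟩ := ha
      obtain ⟨cb, rfl⟩ := hb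
      simp only [Fin.sum_univ_two, h_add_left, h_add_right hF, h_smul_left, h_smul_right hF, hf0h]
      ring⟩
  refine Nat.card_eq_of_bijective φ ⟨fun x y hxy => ?_, ?_⟩
  · have h1 : W0.map (L x.out) = W0.map (L y.out) := congrArg Subtype.val hxy
    rw [← QuotientGroup.out_eq' x, ← QuotientGroup.out_eq' y, QuotientGroup.eq]
    show W0.map (L (x.out⁻¹ * y.out)) = W0
    rw [hL, ← h1, ← hL, inv_mul_cancel, hL1]
  rintro ⟨W, hW2, hWiso⟩
  -- a frame of the plane
  let b := Module.finBasisOfFinrankEq F W hW2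
  let f1 : Fin 2 → V := fun i => (b i : V)
  have hf1 : LinearIndependent F f1 := b.linearIndependent.map' W.subtype W.ker_subtype
  have hW1 : Submodule.span F (Set.range f1) = W := by
    rw [show Set.range f1 = W.subtype '' Set.range b from Set.range_comp W.subtype b,
      Submodule.span_image, b.span_eq, Submodule.map_top, Submodule.range_subtype]
  obtain ⟨g, hg⟩ := exists_gu_map hF (⟨f0, hf0, hf0h⟩ : Cfsg.Agent.Fus.FrameCount.Frame F h 2)
    ⟨f1, hf1, fun i j => hWiso _ (b i).2 _ (b j).2⟩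
  obtain ⟨g', hg'W, hg'd⟩ := exists_det hF (by omega) W0 (by
    intro a ha b hb
    rw [hW0, Submodule.mem_span_range_iff_exists_fun] at ha hb
    obtain ⟨ca, rfl⟩ := ha
    obtain ⟨cb, rfl⟩ := hb
    simp only [Fin.sum_univ_two, h_add_left, h_add_right hF, h_smul_left, h_smul_right hF, hf0h]
    ring) (guDet hF g)⁻¹
  have hdet : (guVal (g * g')).det = 1 := by
    rw [← coe_guDet hF, map_mul, hg'd, mul_inv_cancel]
    rfl
  let s : SU 4 F q := ⟨⟨guVal (g * g'), hdet⟩, (g * g').2⟩
  have hs : W0.map (L s) = W := by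
    have e1 : L s = (Matrix.mulVecLin (guVal g)).comp (Matrix.mulVecLin (guVal g')) := by
      rw [← Matrix.mulVecLin_mul]; rfl
    have e2 : W0.map (Matrix.mulVecLin (guVal g')) = W0 := by
      refine Submodule.eq_of_le_of_finrank_eq ?_ ?_
      · rintro _ ⟨x, hx, rfl⟩
        exact (hg'W x).1 hx
      · have hinj : Function.Injective (Matrix.mulVecLin (guVal g')) := by
          refine Matrix.mulVec_injective_iff_isUnit.2 ?_
          exact ⟨g'.1, rfl⟩
        exact (Submodule.equivMapOfInjective _ hinj W0).finrank_eq.symm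
    rw [e1, Submodule.map_comp, e2, hW0, Submodule.map_span, ← Set.range_comp, ← hW1]
    congr 2
    funext i
    exact hg i
  refine ⟨QuotientGroup.mk s, Subtype.ext ?_⟩
  have hmem : ((QuotientGroup.mk s : SU 4 F q ⧸ S).out)⁻¹ * s ∈ S := QuotientGroup.eq.1 (QuotientGroup.out_eq' _)
  set x : SU 4 F q ⧸ S := QuotientGroup.mk s
  show W0.map (L x.out) = W
  conv_lhs => rw [← show W0.map (L (x.out⁻¹ * s)) = W0 from hmem, ← hL, mul_inv_cancel_left]
  exact hs

/-- The minimal index. -/
theorem min_index_four : (∀ H : Subgroup (PSU 4 F q), H ≠ ⊤ → (q + 1) * (q ^ 3 + 1) ≤ H.index) ∧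
    ∃ H : Subgroup (PSU 4 F q), H.index = (q + 1) * (q ^ 3 + 1) :=
  ⟨fun _ hH => index_ge hF hH, exists_index hF⟩

end Cfsg.Agent.Lie.MinIndexFour
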