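import Cfsg.Agent.Lib.Lie.MinIndexFourFew
import Cfsg.Agent.Lib.Classical.UnitDiagonalOut

/-!
A nontrivial action of `SU_4(q)`: a transvection moves more than `q ^ 4` points.
-/

set_option autoImplicit false
set_option linter.unusedSectionVars false
set_option maxHeartbeats 1000000

namespace Cfsg.Agent.Lie.MinIndexFour

open Matrix Finset MulAction Cfsg Cfsg.Agent.Classical Cfsg.Agent.Classical.PSUAut Cfsg.Agent.Lie.MinIndexUnit Cfsg.Agent.UnitDiagonalOut

universe u

attribute [local instance 10] _root_.Classical.propDecidable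

variable {F : Type*} [Field F] [Fintype F] {q : ℕ}

local notation "V" => (Fin 4 → F)

variable (hF : Fintype.card F = q ^ 2)

local notation "h" => hermForm 4 F q
local notation "cj" => qFrob hF

variable (D : Data hF) {Ω : Type u} [Fintype Ω] [MulAction (SU 4 F q) Ω]

namespace Data

variable {hF}

/-- The points of an orbit of the Heisenberg group. -/
noncomputable def orb (b : Ω) : Finset Ω := Finset.univ.filter fun x => x ∈ orbit D.Q b

/-- The vectors of a norm in an annihilator. -/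
noncomputable def cnt (r : F) (b : Ω) : ℕ :=
  (Finset.univ.filter fun w : D.W => hermForm 4 F q (w : Fin 4 → F) (w : Fin 4 → F) = r ∧ (w : Fin 4 → F) ∈ D.A b).card

end Data

open Data

include hF

/-! ### Orbits of the Heisenberg group -/

theorem mem_orb {b x : Ω} : x ∈ D.orb b ↔ x ∈ orbit D.Q b := by simp [Data.orb]

theorem orb_eq_iff {b x : Ω} : D.orb x = D.orb b ↔ x ∈ D.orb b := by
  refine ⟨fun e0 => e0 ▸ (mem_orb hF D).2 (mem_orbit_self x), fun hx => ?_⟩
  ext y
  rw [mem_orb hF D, mem_orb hF D, orbit_eq_iff.2 ((mem_orb hF D).1 hx)]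

theorem card_orb (b : Ω) : (D.orb b).card * Nat.card (D.stQ b) = q ^ 4 * q := by
  rw [← orbit_sum hF D b, Nat.card_eq_fintype_card (α := {x : Ω // x ∈ orbit D.Q b}), Fintype.card_subtype]
  rfl

theorem orb_subset {b : Ω} (hb : b ∈ D.M) : D.orb b ⊆ D.M := fun x hx => by
  obtain ⟨y, hy, rfl⟩ := smul_mem_of_orbit hF D ((mem_orb hF D).1 hx)
  exact M_smul hF D (Q_fix hF D hy) hb

theorem card_stQ_mul_A (b : Ω) : Nat.card (D.stQ b) * Nat.card (D.A b) = Nat.card (D.C b) * q ^ 4 := by
  rw [card_stQ hF D, mul_assoc, mul_comm (Nat.card (D.S b)), card_A hF D]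

/-- The central weight of an orbit. -/
theorem orb_weight (b : Ω) : ∑ x ∈ D.orb b, Nat.card (D.C x) = q * Nat.card (D.A b) := by
  rw [Finset.sum_congr rfl (fun x hx => by
    obtain ⟨y, hy, rfl⟩ := smul_mem_of_orbit hF D ((mem_orb hF D).1 hx)
    rw [C_smul hF D (Q_fix hF D hy)] : ∀ x ∈ D.orb b, Nat.card (D.C x) = Nat.card (D.C b)),
    Finset.sum_const, smul_eq_mul]
  have h1 := card_orb hF D b
  have h2 := card_stQ_mul_A hF D b
  have hq := two_le_q hF
  refine Nat.eq_of_mul_eq_mul_left (pow_pos (show 0 < q by omega) 4) ?_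
  calc q ^ 4 * ((D.orb b).card * Nat.card (D.C b)) = (D.orb b).card * (Nat.card (D.C b) * q ^ 4) := by ring
    _ = (D.orb b).card * Nat.card (D.stQ b) * Nat.card (D.A b) := by rw [← h2]; ring
    _ = _ := by rw [h1]; ring

theorem sq_le_A {b : Ω} (hb : b ∈ D.M) : q ^ 2 ≤ Nat.card (D.A b) := by
  have h1 := sq_card_A hF D hb
  rw [show q ^ 4 = q ^ 2 * q ^ 2 by ring] at h1
  exact Nat.mul_self_le_mul_self_iff.1 h1

omit D in
theorem exists_prime_pow : ∃ p k : ℕ, p.Prime ∧ 0 < k ∧ q = p ^ k := by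
  obtain ⟨p, hp⟩ := CharP.exists F
  have : Fact p.Prime := ⟨CharP.char_is_prime F p⟩
  obtain ⟨⟨n, hn0⟩, -, hn⟩ := FiniteField.card F p
  rw [hF] at hn
  obtain ⟨k, -, hk⟩ := (Nat.dvd_prime_pow (Fact.out : p.Prime)).1 (hn ▸ dvd_pow_self q (n := 2) (by omega))
  refine ⟨p, k, Fact.out, Nat.pos_of_ne_zero fun e0 => ?_, hk⟩
  have := two_le_q hF
  rw [e0, pow_zero] at hk
  omega

/-- A large annihilator is a multiple of `q ^ 2`, of `p * q ^ 2` if larger. -/
theorem dvd_A {p k : ℕ} (hp : p.Prime) (hq : q = p ^ k) {b : Ω} (hb : b ∈ D.M) :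
    q ^ 2 ∣ Nat.card (D.A b) ∧ (Nat.card (D.A b) ≠ q ^ 2 → p * q ^ 2 ∣ Nat.card (D.A b)) := by
  have h1 : Nat.card (D.A b) ∣ p ^ (k * 4) := by
    rw [pow_mul, ← hq, ← card_A hF D b]
    exact dvd_mul_right _ _
  obtain ⟨i, -, hi⟩ := (Nat.dvd_prime_pow hp).1 h1
  have h2 := sq_le_A hF D hb
  rw [hi, hq, ← pow_mul] at h2 ⊢
  have h3 : k * 2 ≤ i := (Nat.pow_le_pow_iff_right hp.one_lt).1 h2
  refine ⟨pow_dvd_pow p h3, fun hne => ?_⟩
  have h4 : k * 2 ≠ i := fun e0 => hne (by rw [e0])
  rw [← pow_succ']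
  exact pow_dvd_pow p (by omega)

theorem q3_dvd_m : q ^ 3 ∣ D.m Ω := by
  obtain ⟨p, k, hp, -, hq⟩ := exists_prime_pow hF (q := q) (F := F)
  rw [Data.m, ← Finset.sum_fiberwise_of_maps_to (g := D.orb) (t := (D.M (Ω := Ω)).image D.orb)
    (fun b hb => Finset.mem_image_of_mem _ hb)]
  refine Finset.dvd_sum fun O hO => ?_
  obtain ⟨b, hb, rfl⟩ := Finset.mem_image.1 hO
  rw [show (D.M (Ω := Ω)).filter (fun x => D.orb x = D.orb b) = D.orb b by
    ext x
    rw [Finset.mem_filter, orb_eq_iff hF D]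
    exact ⟨fun hx => hx.2, fun hx => ⟨orb_subset hF D hb hx, hx⟩⟩, orb_weight hF D]
  rw [show q ^ 3 = q * q ^ 2 by ring]
  exact mul_dvd_mul_left _ (dvd_A hF D hp hq hb).1

/-- Orbits with different coordinate groups. -/
theorem card_family {ι : Type*} [Fintype ι] (g : ι → AddSubgroup V) (hg : Function.Injective g)
    (hreal : ∀ i, ∃ b ∈ (D.M (Ω := Ω)), D.S b = g i) : Fintype.card ι * q ^ 3 ≤ D.m Ω := by
  choose b hb hS using hreal
  have hdisj : ((univ : Finset ι) : Set ι).PairwiseDisjoint fun i => D.orb (b i) := fun i _ j _ hij => by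
    refine Finset.disjoint_left.2 fun x hx hx' => hij (hg ?_)
    obtain ⟨y, hy, rfl⟩ := smul_mem_of_orbit hF D ((mem_orb hF D).1 hx)
    obtain ⟨z, hz, e1⟩ := smul_mem_of_orbit hF D ((mem_orb hF D).1 hx')
    rw [← hS i, ← hS j, ← S_smul_Q hF D hy, ← e1, S_smul_Q hF D hz]
  rw [Data.m]
  refine le_trans ?_ (Finset.sum_le_sum_of_subset (s := (univ : Finset ι).disjiUnion (fun i => D.orb (b i)) hdisj)
    fun x hx => ?_)
  · rw [Finset.sum_disjiUnion, ← Finset.card_univ, ← smul_eq_mul, ← Finset.sum_const]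
    refine Finset.sum_le_sum fun i _ => ?_
    rw [orb_weight hF D, show q ^ 3 = q * q ^ 2 by ring]
    exact Nat.mul_le_mul_left _ (sq_le_A hF D (hb i))
  · obtain ⟨i, -, hi⟩ := Finset.mem_disjiUnion.1 hx
    exact orb_subset hF D (hb i) hi

/-! ### The anisotropic classes -/

theorem card_A_filter (b : Ω) : Nat.card (D.A b) = (univ.filter fun w : D.W => (w : V) ∈ D.A b).card := by
  rw [← Fintype.card_subtype, ← Nat.card_eq_fintype_card]
  exact Nat.card_congr
    { toFun := fun v => ⟨⟨v.1, v.2.1⟩, v.2⟩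
      invFun := fun v => ⟨v.1.1, v.2⟩
      left_inv := fun _ => rfl
      right_inv := fun _ => rfl }

/-- A covered norm class is covered by weight. -/
theorem class_weight {r : F} (hr0 : r ≠ 0) {b0 : Ω} (hb0 : b0 ∈ D.M) {v : V} (hv : v ∈ D.A b0) (hvr : h v v = r) :
    q ^ 4 * q * (q ^ 3 - q) ≤ ∑ b ∈ (D.M (Ω := Ω)), D.cnt r b * Nat.card (D.stQ b) := by
  classical
  have hcount : (univ.filter fun w : D.W => h (w : V) (w : V) = r).card = q ^ 3 - q := by
    rw [← Fintype.card_subtype, ← Nat.card_eq_fintype_card]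
    have h1 := wCount_four hF D.pair (hvr ▸ cj_h_self hF v : cj r = r) hr0
    rw [wCount] at h1
    exact Nat.eq_sub_of_add_eq h1
  have hone : ∀ w : D.W, h (w : V) (w : V) = r →
      q ^ 4 * q ≤ ∑ b ∈ (D.M (Ω := Ω)).filter (fun b => (w : V) ∈ D.A b), Nat.card (D.stQ b) := by
    intro w hw
    obtain ⟨g, hg, e1⟩ := plane_transitive hF D.pair hv.1 (hvr.symm ▸ hr0) w.2 (hw.trans hvr.symm)
    have hb1 : g • b0 ∈ D.M := M_smul hF D hg.1 hb0
    refine qN_le_sum hF D hb1 _ fun x hx => ?_
    obtain ⟨y, hy, rfl⟩ := smul_mem_of_orbit hF D hx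
    rw [A_smul_Q hF D hy, A_smul_gW hF D hg, ← e1]
    exact mem_mapA hF hv
  calc q ^ 4 * q * (q ^ 3 - q) = ∑ w ∈ (univ.filter fun w : D.W => h (w : V) (w : V) = r), q ^ 4 * q := by
        rw [Finset.sum_const, hcount, smul_eq_mul, mul_comm]
    _ ≤ ∑ w ∈ (univ.filter fun w : D.W => h (w : V) (w : V) = r),
          ∑ b ∈ (D.M (Ω := Ω)).filter (fun b => (w : V) ∈ D.A b), Nat.card (D.stQ b) :=
        Finset.sum_le_sum fun w hw => hone w (Finset.mem_filter.1 hw).2
    _ = _ := by
        simp only [Finset.sum_filter]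
        rw [← Finset.sum_filter, Finset.sum_comm]
        refine Finset.sum_congr rfl fun b _ => ?_
        rw [← Finset.sum_filter, Finset.sum_const, smul_eq_mul, Data.cnt, Finset.filter_filter]

theorem weight_eq : ∑ b ∈ (D.M (Ω := Ω)), Nat.card (D.A b) * Nat.card (D.stQ b) = q ^ 4 * D.m Ω := by
  rw [Data.m, Finset.mul_sum]
  refine Finset.sum_congr rfl fun b _ => ?_
  rw [mul_comm, card_stQ_mul_A hF D, mul_comm]

theorem cnt_add_le (b : Ω) {r r' : F} (hne : r ≠ r') : D.cnt r b + D.cnt r' b ≤ Nat.card (D.A b) := by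
  rw [Data.cnt, Data.cnt, card_A_filter hF D, ← Finset.card_union_of_disjoint
    (Finset.disjoint_left.2 fun w hw hw' => hne (by
      rw [← (Finset.mem_filter.1 hw).2.1, (Finset.mem_filter.1 hw').2.1]))]
  refine Finset.card_le_card fun w hw => ?_
  rcases Finset.mem_union.1 hw with hw | hw <;>
    exact Finset.mem_filter.2 ⟨Finset.mem_univ _, (Finset.mem_filter.1 hw).2.2⟩

omit D in
/-- A group of vectors with norms among zero and one value has many isotropic vectors. -/
theorem card_le_four_zero {A : AddSubgroup V} {r : F} (hA : ∀ a ∈ A, h a a = 0 ∨ h a a = r) :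
    Nat.card A ≤ 4 * Nat.card {a : A // h (a : V) (a : V) = 0} := by
  classical
  set Z := Nat.card {a : A // h (a : V) (a : V) = 0} with hZ
  by_cases hex : ∃ a : A, h (a : V) (a : V) ≠ 0
  swap
  · push Not at hex
    have : Z = Nat.card A := Nat.card_congr (Equiv.subtypeUnivEquiv hex)
    omega
  obtain ⟨⟨x, hx⟩, hxx⟩ := hex
  have hxr : h x x = r := (hA x hx).resolve_left hxx
  have hr0 : r ≠ 0 := hxr ▸ hxx
  let β : A →+ F :=
    { toFun := fun y => h (y : V) x + h x (y : V)
      map_zero' := by simp [h_zero_left, h_zero_right hF]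
      map_add' := fun y z => by simp only [AddSubgroup.coe_add, h_add_left, h_add_right hF]; ring }
  have hβ : ∀ y : A, β y = h ((y : V) + x) ((y : V) + x) - h (y : V) (y : V) - r := fun y => by
    show h (y : V) x + h x (y : V) = _
    rw [h_add_left, h_add_right hF, h_add_right hF, hxr]; ring
  have hrange : ∀ z ∈ β.range, z ∈ ({-r, 0, -(r + r)} : Finset F) := by
    rintro z ⟨y, rfl⟩
    rw [hβ]
    simp only [Finset.mem_insert, Finset.mem_singleton]
    rcases hA _ (A.add_mem y.2 hx) with e1 | e1 <;> rcases hA _ y.2 with e2 | e2 <;> rw [e1, e2]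
    · exact Or.inl (by ring)
    · exact Or.inr (Or.inr (by ring))
    · exact Or.inr (Or.inl (by ring))
    · exact Or.inl (by ring)
  have hmul : Nat.card A = Nat.card β.ker * Nat.card β.range := by
    rw [← AddSubgroup.card_mul_index β.ker, AddSubgroup.index_ker]
  have hr3 : Nat.card β.range ≤ ({-r, 0, -(r + r)} : Finset F).card := by
    rw [← Nat.card_eq_finsetCard ({-r, 0, -(r + r)} : Finset F)]
    exact Nat.card_le_card_of_injective (fun z => ⟨z.1, hrange z.1 z.2⟩) fun a b hab =>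
      Subtype.ext (congrArg Subtype.val hab :)
  have hker : ∀ y : β.ker, h ((y.1 : V) + x) ((y.1 : V) + x) = h (y.1 : V) (y.1 : V) + r := fun y => by
    have h1 : β y.1 = 0 := y.2
    rw [hβ] at h1
    linear_combination h1
  by_cases h2 : r + r = 0
  · -- translation by the vector exchanges the two values
    have hr3' : Nat.card β.range ≤ 2 := hr3.trans (by
      rw [h2, neg_zero]
      exact (Finset.card_insert_le _ _).trans (by simp))
    have hk : Nat.card β.ker ≤ 2 * Z := by
      have hxk : (⟨x, hx⟩ : A) ∈ β.ker := by show h x x + h x x = 0; rw [hxr]; exact h2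
      have hz1 : Nat.card {y : β.ker // h (y.1 : V) (y.1 : V) = 0} ≤ Z :=
        Nat.card_le_card_of_injective (fun y => ⟨y.1.1, y.2⟩) fun a b hab =>
          Subtype.ext (Subtype.ext (congrArg Subtype.val hab :))
      have hz2 : Nat.card {y : β.ker // ¬ h (y.1 : V) (y.1 : V) = 0} ≤ Z :=
        Nat.card_le_card_of_injective (fun y => ⟨y.1.1 + ⟨x, hx⟩, by
          show h ((y.1.1 : V) + x) ((y.1.1 : V) + x) = 0
          rw [hker, (hA _ y.1.1.2).resolve_left y.2, h2]⟩) fun a b hab =>
          Subtype.ext (Subtype.ext (add_right_cancel (congrArg Subtype.val hab :)))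
      have h3 := Nat.card_congr (Equiv.sumCompl fun y : β.ker => h (y.1 : V) (y.1 : V) = 0)
      rw [Nat.card_sum] at h3
      omega
    calc Nat.card A = Nat.card β.ker * Nat.card β.range := hmul
      _ ≤ 2 * Z * 2 := Nat.mul_le_mul hk hr3'
      _ = _ := by ring
  · have hk : Nat.card β.ker ≤ Z :=
      Nat.card_le_card_of_injective (fun y => ⟨y.1, by
        rcases hA _ y.1.2 with e1 | e1
        · exact e1
        rcases hA _ (A.add_mem y.1.2 hx) with e2 | e2 <;> rw [hker, e1] at e2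
        · exact absurd e2 h2
        · exact absurd (by linear_combination e2) hr0⟩) fun a b hab => Subtype.ext (congrArg Subtype.val hab :)
    calc Nat.card A = Nat.card β.ker * Nat.card β.range := hmul
      _ ≤ Z * 4 := Nat.mul_le_mul hk (hr3.trans ((Finset.card_le_three).trans (by norm_num)))
      _ = _ := by ring

theorem cnt_le {r : F} (hr0 : r ≠ 0) {b : Ω} (hA : ∀ a ∈ D.A b, h a a = 0 ∨ h a a = r) :
    4 * D.cnt r b ≤ 3 * Nat.card (D.A b) := by
  classical
  have h1 := card_le_four_zero hF hA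
  have h2 := cnt_add_le hF D b hr0
  have h3 : Nat.card {a : D.A b // h (a : V) (a : V) = 0} = D.cnt 0 b := by
    rw [Data.cnt, ← Fintype.card_subtype, ← Nat.card_eq_fintype_card]
    exact Nat.card_congr
      { toFun := fun v => ⟨⟨v.1.1, v.1.2.1⟩, v.2, v.1.2⟩
        invFun := fun v => ⟨⟨v.1.1, v.2.2⟩, v.2.1⟩
        left_inv := fun _ => rfl
        right_inv := fun _ => rfl }
  omega

theorem S_le {b : Ω} {s : V} (hs : s ∈ D.S b) : s ∈ D.W :=
  img_le hF D.pair (le_refl D.W) (St := D.stQ b) inf_le_left hs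

theorem comm_S {b : Ω} {x y : V} (hx : x ∈ D.S b) (hy : y ∈ D.S b) :
    ∃ c ∈ D.C b, (c : F) = h x y - h y x := by
  obtain ⟨c, hc, e1⟩ := comm_mem_ctr hF D.pair (le_refl D.W) (St := D.stQ b) inf_le_left hx hy
  exact ⟨c, hc.2, e1⟩

theorem smul_S_le {b : Ω} (hb : b ∈ D.M) {s : V} (hs : s ∈ D.S b) : D.c0⁻¹ • s ∈ D.A b :=
  ⟨D.W.smul_mem _ (S_le hF D hs), fun s' hs' =>
    psi_img hF D.pair (le_refl D.W) (St := D.stQ b) inf_le_left D.c0_ne D.c0_skew
      (fun c hc => (mem_M hF D).1 hb c (ctr_stQ hF D b ▸ hc)) hs hs'⟩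

/-- A smallest annihilator comes from the coordinates. -/
theorem A_eq {b : Ω} (hb : b ∈ D.M) (hA : Nat.card (D.A b) = q ^ 2) :
    Nat.card (D.S b) = q ^ 2 ∧ ∀ a ∈ D.A b, D.c0 • a ∈ D.S b := by
  have hq := two_le_q hF
  have h1 := card_A hF D b
  rw [hA, show q ^ 4 = q ^ 2 * q ^ 2 by ring] at h1
  have hS : Nat.card (D.S b) = q ^ 2 := Nat.eq_of_mul_eq_mul_left (pow_pos (by omega) 2) h1
  refine ⟨hS, fun a ha => ?_⟩
  obtain ⟨⟨s, hs⟩, e1⟩ := ((Nat.bijective_iff_injective_and_card
    (fun s : D.S b => (⟨D.c0⁻¹ • (s : V), smul_S_le hF D hb s.2⟩ : D.A b))).2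
    ⟨fun s t hst => Subtype.ext (smul_right_injective V (inv_ne_zero D.c0_ne) (congrArg Subtype.val hst :)),
      by rw [hS, hA]⟩).2 ⟨a, ha⟩
  rw [← show D.c0⁻¹ • s = a from congrArg Subtype.val e1, smul_inv_smul₀ D.c0_ne]
  exact hs

/-- Over the field with four elements no annihilator is three quarters anisotropic. -/
theorem cnt_lt_two (hq2 : q = 2) {r : F} (hr0 : r ≠ 0) {b : Ω} (hb : b ∈ D.M) :
    4 * D.cnt r b < 3 * Nat.card (D.A b) := by
  classical
  have hsk : Nat.card (skew hF) = 2 := by rw [card_skew hF, hq2]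
  have hC : ∀ c ∈ D.C b, c = 0 := fun c hc => by
    by_contra hne
    have h1 : (⟨D.c0, D.c0_skew⟩ : skew hF) ≠ 0 := fun e0 => D.c0_ne (congrArg Subtype.val e0)
    obtain ⟨a, a', haa, huniv⟩ := Nat.card_eq_two_iff.1 hsk
    have hm : ∀ z : skew hF, z = a ∨ z = a' := fun z => by
      have : z ∈ ({a, a'} : Set (skew hF)) := huniv ▸ Set.mem_univ z
      simpa using this
    have : c = ⟨D.c0, D.c0_skew⟩ := by
      rcases hm c with e1 | e1 <;> rcases hm ⟨D.c0, D.c0_skew⟩ with e2 | e2 <;> rcases hm 0 with e3 | e3 <;>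
        simp_all
    exact D.χ_ne (this ▸ (mem_M hF D).1 hb c hc)
  have hA4 := sq_le_A hF D hb
  have hdvd : Nat.card (D.A b) ∣ 2 ^ 4 := ⟨_, ((card_A hF D b).trans (by rw [hq2])).symm⟩
  obtain ⟨i, hi, hiA⟩ := (Nat.dvd_prime_pow Nat.prime_two).1 hdvd
  have hclass : (univ.filter fun w : D.W => h (w : V) (w : V) = r).card ≤ 6 := by
    by_cases hr : cj r = r
    · rw [← Fintype.card_subtype, ← Nat.card_eq_fintype_card]
      have h1 := wCount_four hF D.pair hr hr0
      rw [wCount] at h1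
      exact (Nat.eq_sub_of_add_eq h1).le.trans (by rw [hq2]; norm_num)
    · rw [Finset.card_eq_zero.2 (Finset.filter_eq_empty_iff.2 fun w _ e0 => hr (by rw [← e0]; exact cj_h_self hF _))]
      omega
  have hsub : (univ.filter fun w : D.W => h (w : V) (w : V) = r ∧ (w : V) ∈ D.A b) ⊆
      univ.filter fun w : D.W => h (w : V) (w : V) = r := fun w hw =>
    Finset.mem_filter.2 ⟨Finset.mem_univ _, (Finset.mem_filter.1 hw).2.1⟩
  have h6 : D.cnt r b ≤ 6 := le_trans (Finset.card_le_card hsub) hclass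
  have hi2 : 2 ≤ i := (Nat.pow_le_pow_iff_right (show 1 < 2 by norm_num)).1 (by rw [← hiA]; simpa [hq2] using hA4)
  interval_cases i
  · -- half of a smallest annihilator is isotropic
    obtain ⟨-, hAS⟩ := A_eq hF D hb (by rw [hiA, hq2])
    have hc1 : cj D.c0 = D.c0 := by
      have h2 : (2 : F) = 0 := by
        obtain ⟨p, hp⟩ := CharP.exists F
        have hpp := CharP.char_is_prime F p
        have := FiniteField.card F p
        obtain ⟨m, -, hm⟩ := this
        rw [hF, hq2] at hm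
        have : p ∣ 2 := hpp.dvd_of_dvd_pow (n := 2) (by rw [hm]; exact dvd_pow_self p m.pos.ne')
        rw [(Nat.prime_dvd_prime_iff_eq hpp Nat.prime_two).1 this] at hp
        exact_mod_cast CharP.cast_eq_zero F 2
      linear_combination D.c0_skew - D.c0 * h2
    have hsym : ∀ a ∈ D.A b, ∀ a' ∈ D.A b, h a a' = h a' a := fun a ha a' ha' => by
      obtain ⟨c, hc, e1⟩ := comm_S hF D (hAS a ha) (hAS a' ha')
      rw [hC c hc, ZeroMemClass.coe_zero, eq_comm, sub_eq_zero, h_smul_left, h_smul_left, h_smul_right hF,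
        h_smul_right hF, hc1] at e1
      exact mul_left_cancel₀ D.c0_ne (mul_left_cancel₀ D.c0_ne e1)
    have hone : ∀ (a : D.A b), h (a : V) (a : V) = r → ∀ a' : D.A b, h (a' : V) (a' : V) = r →
        h ((a + a' : D.A b) : V) ((a + a' : D.A b) : V) = 0 := fun a ha a' ha' => by
      rw [AddSubgroup.coe_add, h_add_left, h_add_right hF, h_add_right hF, hsym a' a'.2 a a.2, ha, ha']
      have h2 : (2 : F) * D.c0 = 0 := by
        have h3 := D.c0_skew
        rw [hc1] at h3
        linear_combination h3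
      have : (2 : F) = 0 := (mul_eq_zero.1 h2).resolve_right D.c0_ne
      linear_combination (r + h (a : V) (a' : V)) * this
    by_cases h0 : D.cnt r b = 0
    · rw [h0, hiA]; norm_num
    obtain ⟨w0, hw0⟩ := Finset.card_pos.1 (Nat.pos_of_ne_zero h0)
    obtain ⟨-, hw0r, hw0A⟩ := Finset.mem_filter.1 hw0
    have h7 : D.cnt r b ≤ D.cnt 0 b := by
      refine Finset.card_le_card_of_injOn (fun w => w + w0) (fun w hw => ?_) fun a _ a' _ e0 => add_right_cancel e0
      obtain ⟨-, hwr, hwA⟩ := Finset.mem_filter.1 hw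
      exact Finset.mem_filter.2 ⟨Finset.mem_univ _, hone ⟨_, hwA⟩ hwr ⟨_, hw0A⟩ hw0r, (D.A b).add_mem hwA hw0A⟩
    have h8 := cnt_add_le hF D b hr0
    rw [hiA] at h8 ⊢
    norm_num at h8 ⊢
    omega
  · -- a larger one does not contain a whole class
    by_contra hcon
    rw [hiA] at hcon
    have h9 : D.cnt r b = 6 := by norm_num at hcon; omega
    have hall : ∀ w : D.W, h (w : V) (w : V) = r → (w : V) ∈ D.A b := fun w hw => by
      have heq := Finset.eq_of_subset_of_card_le hsub (by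
        show _ ≤ D.cnt r b
        omega)
      have : w ∈ univ.filter fun w : D.W => h (w : V) (w : V) = r := Finset.mem_filter.2 ⟨Finset.mem_univ _, hw⟩
      rw [← heq] at this
      exact (Finset.mem_filter.1 this).2.2
    obtain ⟨w0, hw0⟩ := Finset.card_pos.1 (show 0 < D.cnt r b by omega)
    obtain ⟨-, hw0r, -⟩ := Finset.mem_filter.1 hw0
    obtain ⟨y, hy, hyw, hyy⟩ := exists_perp_aniso hF D.pair w0.2 (hw0r.symm ▸ hr0)
    have hnorm : ∀ {z : F}, z ≠ 0 → z * cj z = 1 := fun {z} hz => by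
      rw [← cj_pow hF, ← pow_succ', show q + 1 = Fintype.card F - 1 by rw [hF, hq2]; norm_num]
      exact FiniteField.pow_card_sub_one_eq_one z hz
    have hyr : h y y = r := by
      obtain ⟨t, ht⟩ := exists_norm hF (a := r / h y y) (by
        rw [map_div₀, cj_h_self hF, ← hw0r, cj_h_self hF])
      have ht0 : t ≠ 0 := fun e0 => by
        rw [e0, zero_mul, eq_comm, div_eq_zero_iff] at ht
        exact ht.elim hr0 hyy
      rw [hnorm ht0] at ht
      field_simp at ht
      exact ht
    have hline : ∀ {x : V}, x ∈ D.W → h x x = r → ∀ l : F, l • x ∈ D.A b := fun {x} hx hxr l => by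
      rcases eq_or_ne l 0 with rfl | hl
      · rw [zero_smul]; exact (D.A b).zero_mem
      exact hall ⟨l • x, D.W.smul_mem l hx⟩ (by
        show h (l • x) (l • x) = r
        rw [h_smul_left, h_smul_right hF, hxr, ← mul_assoc, hnorm hl, one_mul])
    let φ : F × F → D.A b := fun p => ⟨p.1 • (w0 : V) + p.2 • y,
      (D.A b).add_mem (hline w0.2 hw0r p.1) (hline hy hyr p.2)⟩
    have hinj : Function.Injective φ := fun p p' hpp => by
      have e4 : p.1 • (w0 : V) + p.2 • y = p'.1 • (w0 : V) + p'.2 • y := congrArg Subtype.val hpp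
      have e5 := congrArg (fun t => h t (w0 : V)) e4
      have e6 := congrArg (fun t => h t y) e4
      simp only [h_add_left, h_smul_left, hyw, h_comm_zero hF hyw, hw0r, hyr, mul_zero, add_zero, zero_add] at e5 e6
      exact Prod.ext (mul_right_cancel₀ hr0 e5) (mul_right_cancel₀ hr0 e6)
    have h10 := Nat.card_le_card_of_injective φ hinj
    rw [Nat.card_prod, Nat.card_eq_fintype_card, hF, hiA, hq2] at h10
    norm_num at h10
  · rw [hiA]; norm_num; omega

/-- Annihilators with anisotropic vectors give a large weight. -/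
theorem big_of_aniso {b0 : Ω} (hb0 : b0 ∈ D.M) {v : V} (hv : v ∈ D.A b0) (hvv : h v v ≠ 0) : q ^ 4 < D.m Ω := by
  classical
  have hq := two_le_q hF
  have hq3 : q ≤ q ^ 3 := Nat.le_self_pow (by norm_num) q
  set r := h v v with hr
  have h1 := class_weight hF D hvv hb0 hv rfl
  have h2 := weight_eq hF D (Ω := Ω)
  by_cases hone : ∀ b ∈ (D.M (Ω := Ω)), ∀ a ∈ D.A b, h a a = 0 ∨ h a a = r
  · have h3 : 4 * (q ^ 4 * q * (q ^ 3 - q)) ≤ 3 * (q ^ 4 * D.m Ω) := by
      rw [← h2, Finset.mul_sum]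
      refine (Nat.mul_le_mul_left 4 h1).trans ?_
      rw [Finset.mul_sum]
      refine Finset.sum_le_sum fun b hb => ?_
      rw [← mul_assoc, ← mul_assoc]
      exact Nat.mul_le_mul_right _ (cnt_le hF D hvv (hone b hb))
    have h4 : 4 * (q * (q ^ 3 - q)) ≤ 3 * D.m Ω :=
      Nat.le_of_mul_le_mul_left (le_trans (le_of_eq (by ring)) (h3.trans (le_of_eq (by ring))))
        (pow_pos (show 0 < q by omega) 4)
    rcases eq_or_lt_of_le hq with hq2 | hq2
    · have h5 : 4 * (q ^ 4 * q * (q ^ 3 - q)) < 3 * (q ^ 4 * D.m Ω) := by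
        rw [← h2, Finset.mul_sum]
        refine (Nat.mul_le_mul_left 4 h1).trans_lt ?_
        rw [Finset.mul_sum]
        refine Finset.sum_lt_sum_of_nonempty ⟨b0, hb0⟩ fun b hb => ?_
        rw [← mul_assoc, ← mul_assoc]
        exact Nat.mul_lt_mul_of_pos_right (cnt_lt_two hF D hq2.symm hvv hb) Nat.card_pos
      simp only [show q ^ 4 = 16 by rw [← hq2]; norm_num, show q ^ 3 = 8 by rw [← hq2]; norm_num, show 8 - q = 6 by rw [← hq2]] at h5 ⊢
      omega
    · by_contra hcon
      zify [hq3] at h4 hcon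
      nlinarith [mul_le_mul_of_nonneg_left (show (9 : ℤ) ≤ (q : ℤ) ^ 2 by nlinarith) (sq_nonneg (q : ℤ))]
  · push Not at hone
    obtain ⟨b1, hb1, a, ha, ha0, har⟩ := hone
    have h3 := class_weight hF D ha0 hb1 ha rfl
    have h4 : 2 * (q ^ 4 * q * (q ^ 3 - q)) ≤ q ^ 4 * D.m Ω := by
      rw [← h2, two_mul]
      refine (Nat.add_le_add h1 h3).trans ?_
      rw [← Finset.sum_add_distrib]
      refine Finset.sum_le_sum fun b hb => ?_
      rw [← add_mul]
      exact Nat.mul_le_mul_right _ (cnt_add_le hF D b (Ne.symm har))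
    have h5 : 2 * (q * (q ^ 3 - q)) ≤ D.m Ω :=
      Nat.le_of_mul_le_mul_left (le_trans (le_of_eq (by ring)) h4) (pow_pos (show 0 < q by omega) 4)
    by_contra hcon
    zify [hq3] at h5 hcon
    nlinarith [mul_le_mul_of_nonneg_left (show (4 : ℤ) ≤ (q : ℤ) ^ 2 by nlinarith) (sq_nonneg (q : ℤ))]

/-! ### Singular annihilators -/

/-- A transvection carries an isotropic line to another. -/
theorem exists_move {w1 w2 : V} (h1 : w1 ∈ D.W) (h2 : w2 ∈ D.W) (h10 : w1 ≠ 0) (h20 : w2 ≠ 0)
    (h11 : h w1 w1 = 0) (h22 : h w2 w2 = 0) :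
    ∃ g ∈ gW q D.e D.f, ∃ l : F, l ≠ 0 ∧ suVal g *ᵥ w1 = l • w2 := by
  obtain ⟨y, hy, hyy, hwy⟩ := wSub_partner hF D.pair h1 h10 h11
  by_cases ha : h w2 w1 = 0
  · have e1 := perp_eq hF D.pair h1 hy ⟨h11, hyy, hwy⟩ h2 ha
    have hne : h w2 y ≠ 0 := fun e0 => h20 (by rw [e1, e0, zero_smul])
    refine ⟨1, one_mem _, (h w2 y)⁻¹, inv_ne_zero hne, ?_⟩
    rw [show suVal (1 : SU 4 F q) = 1 from rfl, Matrix.one_mulVec]
    conv_rhs => arg 2; rw [e1]
    rw [smul_smul, inv_mul_cancel₀ hne, one_smul]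
  have ha' : h w1 w2 ≠ 0 := fun e0 => ha (h_comm_zero hF e0)
  obtain ⟨c, hc0, hc⟩ := exists_trace_zero hF
  set μ := c / h w2 w1 with hμ
  have hμa : μ * h w2 w1 = c := div_mul_cancel₀ _ ha
  have hcμ : cj μ * h w1 w2 = -c := by
    rw [← cj_h hF w2 w1, ← map_mul, hμa, eq_neg_of_add_eq_zero_right hc]
  set w := w1 + μ • w2
  have hw : w ∈ D.W := D.W.add_mem h1 (D.W.smul_mem μ h2)
  have hww : h w w = 0 := by
    simp only [w, h_add_left, h_add_right hF, h_smul_left, h_smul_right hF, h11, h22]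
    linear_combination hμa + hcμ
  have hwd : h w1 w = -c := by
    simp only [w, h_add_right hF, h_smul_right hF, h11, zero_add]
    exact hcμ
  have hd : (1 / c : F) + cj (1 / c) = 0 := by
    rw [map_div₀, map_one, eq_neg_of_add_eq_zero_right hc, div_neg, add_neg_cancel]
  refine ⟨eSU hF (eOK_transvection hF hww hd), tv_mem_gW hF hw _, -μ,
    neg_ne_zero.2 (div_ne_zero hc0 ha), ?_⟩
  rw [suVal_eSU, tv_apply' hF, hwd, one_div, mul_neg, inv_mul_cancel₀ hc0]
  simp only [w]
  module

/-- Totally singular annihilators give a large weight. -/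
theorem big_of_singular {b0 : Ω} (hb0 : b0 ∈ D.M) (hall : ∀ a ∈ D.A b0, h a a = 0) : q ^ 4 < D.m Ω := by
  classical
  have hq := two_le_q hF
  have hqm : q ^ 4 < (q + 1) * q ^ 3 := by
    rw [show (q + 1) * q ^ 3 = q ^ 4 + q ^ 3 by ring]
    exact Nat.lt_add_of_pos_right (pow_pos (by omega) 3)
  have hA : Nat.card (D.A b0) = q ^ 2 := by
    have h1 := sq_card_singular_le hF (nondeg_wSub hF D.pair) (S := D.A b0) (fun a ha => ha.1) hall
    rw [card_plane hF D.pair, show q ^ 4 = q ^ 2 * q ^ 2 by ring] at h1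
    exact le_antisymm (Nat.mul_self_le_mul_self_iff.1 h1) (sq_le_A hF D hb0)
  obtain ⟨hScard, -⟩ := A_eq hF D hb0 hA
  set S := D.S b0
  have hS0 : ∀ s ∈ S, h s s = 0 := fun s hs => by
    have h1 := hall _ (smul_S_le hF D hb0 hs)
    rw [h_smul_left, h_smul_right hF] at h1
    rcases mul_eq_zero.1 h1 with h1 | h1
    · exact absurd h1 (inv_ne_zero D.c0_ne)
    · exact (mul_eq_zero.1 h1).resolve_left ((map_ne_zero _).2 (inv_ne_zero D.c0_ne))
  have hskew : ∀ x ∈ S, ∀ y ∈ S, h x y + cj (h x y) = 0 := fun x hx y hy => by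
    have h1 := hS0 _ (S.add_mem hx hy)
    rw [h_add_left, h_add_right hF, h_add_right hF, hS0 x hx, hS0 y hy, ← cj_h hF x y] at h1
    linear_combination h1
  by_cases hex : ∃ x ∈ S, ∃ y ∈ S, h x y ≠ 0
  · obtain ⟨x, hx, y, hy, hxy⟩ := hex
    by_cases h2 : (2 : F) = 0
    · -- the scalars of norm one move the group
      have hneg : ∀ z : F, -z = z := fun z => by linear_combination (-z) * h2
      have hreal : ∀ {z : F}, z + cj z = 0 → cj z = z := fun {z} hz => by
        rw [eq_neg_of_add_eq_zero_right hz, hneg]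
      have hnorm : ∀ ε : normOne F q, (ε.1 : F) * cj (ε.1 : F) = 1 := fun ε => by
        rw [qFrob_apply, ← pow_succ']
        exact congrArg Units.val (show ε.1 ^ (q + 1) = 1 from ε.2)
      let g : normOne F q → AddSubgroup V := fun ε =>
        S.map (DistribSMul.toAddMonoidHom V (ε.1 : F))
      have hmem : ∀ (ε : normOne F q) {s : V}, s ∈ S → (ε.1 : F) • s ∈ g ε := fun ε s hs =>
        AddSubgroup.mem_map_of_mem _ hs
      have hg : Function.Injective g := fun ε ε' he => by
        obtain ⟨s, hs, e1⟩ : (ε.1 : F) • y ∈ g ε' := he ▸ hmem ε hy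
        change (ε'.1 : F) • s = (ε.1 : F) • y at e1
        set μ := (ε.1 : F) * cj (ε'.1 : F) with hμ
        have hs' : s = μ • y := by
          rw [hμ, mul_comm, ← smul_smul, ← e1, smul_smul, mul_comm, hnorm, one_smul]
        have h3 := hreal (hskew s hs x hx)
        have h4 := hreal (hskew y hy x hx)
        rw [hs', h_smul_left, map_mul, h4] at h3
        have hyx : h y x ≠ 0 := fun e0 => hxy (h_comm_zero hF e0)
        have h5 : cj μ = μ := mul_right_cancel₀ hyx h3
        have h6 : μ * μ = 1 := by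
          nth_rw 2 [← h5]
          rw [hμ, map_mul, cj_cj]
          linear_combination (cj (ε'.1 : F) * (ε'.1 : F)) * hnorm ε + hnorm ε'
        have h7 : μ = 1 := by
          have h8 : (μ - 1) * (μ - 1) = 0 := by linear_combination h6 + (1 - μ) * h2
          exact sub_eq_zero.1 (mul_self_eq_zero.1 h8)
        refine Subtype.ext (Units.ext ?_)
        rw [hμ] at h7
        linear_combination (ε'.1 : F) * h7 - (ε.1 : F) * hnorm ε'
      refine hqm.trans_le ?_
      rw [← natCard_normOne hF, Nat.card_eq_fintype_card]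
      refine card_family hF D g hg fun ε => ?_
      -- a square root
      obtain ⟨t, ht⟩ : ∃ t : F, t * t = (ε.1 : F) := by
        have hinj : Function.Injective fun z : F => z * z := fun a b hab => by
          have h3 : (a - b) * (a - b) = 0 := by
            simp only at hab
            linear_combination hab + (b * b - a * b) * h2
          exact sub_eq_zero.1 (mul_self_eq_zero.1 h3)
        exact (Finite.injective_iff_surjective.1 hinj) _
      have htn : t * cj t = 1 := by
        have h3 : (t * cj t - 1) * (t * cj t - 1) = 0 := by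
          have h4 := hnorm ε
          rw [← ht, map_mul] at h4
          linear_combination h4 + (1 - t * cj t) * h2
        exact sub_eq_zero.1 (mul_self_eq_zero.1 h3)
      obtain ⟨d, de, dW⟩ := exists_scalar hF D.pair (a := cj t) (by rw [cj_cj, mul_comm, htn])
      rw [cj_cj] at dW
      refine ⟨d • b0, ?_, ?_⟩
      · rw [mem_M hF D]
        intro c hc
        refine (mem_M hF D).1 hb0 c ?_
        have e1 : d * D.z c * d⁻¹ = D.z c := suVal_ext (by
          rw [suVal_mul, suVal_mul, suVal_tv, eMat_conj hF, Matrix.mulVec_zero, de, tv_smul hF, cj_cj,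
            mul_comm (cj t), htn, one_mul])
        show D.z c • b0 = b0
        have h5 : D.z c • d • b0 = d • b0 := hc
        rw [smul_smul, ← mul_inv_eq_iff_eq_mul.1 e1, mul_smul, smul_left_cancel_iff] at h5
        exact h5
      · have hconj : ∀ {s : SU 4 F q}, s ∈ D.Q → d * s * d⁻¹ ∈ D.Q ∧
            wOf D.e D.f (d * s * d⁻¹) = (ε.1 : F) • wOf D.e D.f s := by
          intro s hs
          obtain ⟨hw, H, e1⟩ := heisX_eq hF D.pair (le_refl D.W) hs
          have hw' : (ε.1 : F) • wOf D.e D.f s ∈ D.W := D.W.smul_mem _ hw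
          have H' : EOK (q := q) D.e ((ε.1 : F) • wOf D.e D.f s) (cOf D.f s) := ⟨D.pair.ee,
            by rw [h_smul_left, H.we, mul_zero], by
              rw [h_smul_left, h_smul_right hF, ← mul_assoc, hnorm, one_mul]; exact H.cc⟩
          have e2 : suVal (d * s * d⁻¹) = eMat q D.e ((ε.1 : F) • wOf D.e D.f s) (cOf D.f s) := by
            conv_lhs => rw [e1]
            rw [suVal_mul, suVal_mul, suVal_eSU, eMat_conj hF, de, dW _ hw, PSUAut.eMat_smul hF, cj_cj,
              smul_smul, ht, mul_comm (cj t), htn, one_mul]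
          exact ⟨⟨_, hw', _, H', e2⟩, (wOf_cOf hF D.pair hw' e2).1⟩
        have hle : S.map (DistribSMul.toAddMonoidHom V (ε.1 : F)) ≤ D.S (d • b0) := by
          rintro _ ⟨_, ⟨s, hs, rfl⟩, rfl⟩
          obtain ⟨h3, h4⟩ := hconj hs.1
          refine ⟨_, ⟨h3, ?_⟩, h4⟩
          show d * s * d⁻¹ ∈ stabilizer (SU 4 F q) (d • b0)
          rw [mem_stabilizer_iff, mul_smul, mul_smul, inv_smul_smul, mem_stabilizer_iff.1 hs.2]
        refine le_antisymm (fun w hw => ?_) hle
        obtain ⟨s', ⟨hs'Q, hs'b⟩, rfl⟩ := hw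
        have hdQ : d⁻¹ * s' * d ∈ D.Q := by
          obtain ⟨hw, H, e1⟩ := heisX_eq hF D.pair (le_refl D.W) hs'Q
          have de' : suVal d⁻¹ *ᵥ D.e = t • D.e := by
            have h3 := congrArg (fun z => suVal d⁻¹ *ᵥ z) de
            simp only [Matrix.mulVec_mulVec, suVal_inv_mul, Matrix.one_mulVec, Matrix.mulVec_smul] at h3
            conv_rhs => rw [h3, smul_smul, htn, one_smul]
          have hw' : cj t • (cj t • wOf D.e D.f s') ∈ D.W := D.W.smul_mem _ (D.W.smul_mem _ hw)
          have dW' : suVal d⁻¹ *ᵥ wOf D.e D.f s' = cj t • wOf D.e D.f s' := by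
            have h3 := congrArg (fun z => suVal d⁻¹ *ᵥ z) (dW _ hw)
            simp only [Matrix.mulVec_mulVec, suVal_inv_mul, Matrix.one_mulVec, Matrix.mulVec_smul] at h3
            conv_rhs => rw [h3, smul_smul, mul_comm, htn, one_smul]
          have e2 : suVal (d⁻¹ * s' * d) = eMat q D.e (cj t • (cj t • wOf D.e D.f s')) (cOf D.f s') := by
            have h6 := eMat_conj hF d⁻¹ D.e (wOf D.e D.f s') (cOf D.f s')
            rw [inv_inv, de', dW', PSUAut.eMat_smul hF, htn, one_mul] at h6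
            rw [← h6]
            conv_lhs => rw [e1, suVal_mul, suVal_mul, suVal_eSU]
          exact ⟨_, hw', _, ⟨D.pair.ee, by rw [h_smul_left, h_smul_left, H.we, mul_zero, mul_zero], by
            rw [h_smul_left, h_smul_left, h_smul_right hF, h_smul_right hF, cj_cj]
            linear_combination H.cc + (t * cj t + 1) * h (wOf D.e D.f s') (wOf D.e D.f s') * htn⟩, e2⟩
        obtain ⟨-, h4⟩ := hconj hdQ
        rw [show d * (d⁻¹ * s' * d) * d⁻¹ = s' by group] at h4
        rw [h4]
        refine AddSubgroup.mem_map_of_mem _ ⟨_, ⟨hdQ, ?_⟩, rfl⟩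
        show d⁻¹ * s' * d ∈ stabilizer (SU 4 F q) b0
        rw [mem_stabilizer_iff, mul_smul, mul_smul, inv_smul_eq_iff]
        exact hs'b
    · -- otherwise the commutators fill the transvection group
      exfalso
      have hyx : h y x ≠ 0 := fun e0 => hxy (h_comm_zero hF e0)
      refine D.χ_ne ((mem_M hF D).1 hb0 _ ?_)
      set c := D.c0 / (2 * (h x y * h y x)) with hc
      set z := (c * h x y) • y
      have hzs : ∀ s ∈ S, h z s + cj (h z s) = 0 := fun s hs => by
        have hc' : cj c = -c := by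
          rw [hc, map_div₀, map_mul, map_mul, map_ofNat, cj_h hF, cj_h hF,
            eq_neg_of_add_eq_zero_right D.c0_skew, mul_comm (h y x), neg_div]
        rw [h_smul_left, map_mul, map_mul, hc', eq_neg_of_add_eq_zero_right (hskew x hx y hy),
          eq_neg_of_add_eq_zero_right (hskew y hy s hs)]
        ring
      have hzz : h z z = 0 := by rw [h_smul_left, h_smul_right hF, hS0 y hy]; ring
      have hzW : z ∈ D.W := D.W.smul_mem _ (S_le hF D hy)
      have hzx : h z x = c * h x y * h y x := h_smul_left _ _ _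
      clear_value z
      set T := S ⊔ AddSubgroup.zmultiples z
      have hT : ∀ w ∈ T, h w w = 0 := fun w hw => by
        obtain ⟨s, hs, t, ht, rfl⟩ := AddSubgroup.mem_sup.1 hw
        obtain ⟨k, rfl⟩ := AddSubgroup.mem_zmultiples_iff.1 ht
        rw [← Int.cast_smul_eq_zsmul F k z, h_add_left, h_add_right hF, h_add_right hF, h_smul_left, h_smul_left,
          h_smul_right hF, h_smul_right hF, hS0 s hs, hzz, map_intCast, ← cj_h hF z s]
        linear_combination (k : F) * hzs s hs
      have hTW : ∀ w ∈ T, w ∈ D.W := fun w hw => by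
        obtain ⟨s, hs, t, ht, rfl⟩ := AddSubgroup.mem_sup.1 hw
        obtain ⟨k, rfl⟩ := AddSubgroup.mem_zmultiples_iff.1 ht
        exact D.W.add_mem (S_le hF D hs) (D.W.smul_of_tower_mem k hzW)
      have hTcard : Nat.card T ≤ q ^ 2 := by
        have h1 := sq_card_singular_le hF (nondeg_wSub hF D.pair) (S := T) hTW hT
        rw [card_plane hF D.pair, show q ^ 4 = q ^ 2 * q ^ 2 by ring] at h1
        exact Nat.mul_self_le_mul_self_iff.1 h1
      have hzS : z ∈ S := by
        have := AddSubgroup.eq_of_le_of_card_ge (H := S) (K := T) le_sup_left (by rwa [hScard])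
        rw [this]
        exact AddSubgroup.mem_sup_right (AddSubgroup.mem_zmultiples z)
      obtain ⟨c', hc', e1⟩ := comm_S hF D hzS hx
      convert hc'
      refine Subtype.ext ?_
      rw [e1, ← cj_h hF z x, eq_neg_of_add_eq_zero_right (hskew z hzS x hx), hzx, hc]
      field_simp
      ring
  · -- totally isotropic: the images under the elements fixing the pair
    push Not at hex
    obtain ⟨s0, hs0, hs00⟩ : ∃ s ∈ S, s ≠ 0 := by
      by_contra hcon
      push Not at hcon
      have h3 : Nat.card S ≤ 1 := Finite.card_le_one_iff_subsingleton.2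
        ⟨fun a b => Subtype.ext ((hcon a a.2).trans (hcon b b.2).symm)⟩
      rw [hScard] at h3
      have := Nat.one_lt_pow two_ne_zero (show 1 < q by omega)
      omega
    obtain ⟨y0, hy0, hy00, hsy⟩ := wSub_partner hF D.pair (S_le hF D hs0) hs00 (hS0 s0 hs0)
    have hSline : ∀ x, x ∈ S ↔ ∃ l : F, x = l • s0 := by
      let φ : S → F := fun s => h (s : V) y0
      have hφ : ∀ s : S, (s : V) = φ s • s0 := fun s =>
        perp_eq hF D.pair (S_le hF D hs0) hy0 ⟨hS0 s0 hs0, hy00, hsy⟩ (S_le hF D s.2) (hex _ s.2 _ hs0)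
      have hb := (Nat.bijective_iff_injective_and_card φ).2
        ⟨fun a b hab => Subtype.ext (by rw [hφ a, hφ b, hab]), by rw [hScard, Nat.card_eq_fintype_card, hF]⟩
      intro x
      refine ⟨fun hx => ⟨φ ⟨x, hx⟩, hφ ⟨x, hx⟩⟩, ?_⟩
      rintro ⟨l, rfl⟩
      obtain ⟨s, hs⟩ := hb.2 l
      rw [← hs, ← hφ]
      exact s.2
    let u1 : V := s0
    let vec : Option (skew hF) → V := fun o => o.elim y0 fun c => u1 + (c : F) • y0
    have hvec : ∀ o, vec o ∈ D.W ∧ vec o ≠ 0 ∧ h (vec o) (vec o) = 0 := by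
      intro o
      rcases o with _ | c
      · exact ⟨hy0, fun e0 => by simp [show y0 = 0 from e0, h_zero_right hF] at hsy, hy00⟩
      · refine ⟨D.W.add_mem (S_le hF D hs0) (D.W.smul_mem _ hy0), fun e0 => ?_, ?_⟩
        · have h3 := congrArg (fun z => h z y0) e0
          simp only [vec, u1, Option.elim, h_add_left, h_smul_left, hsy, hy00, h_zero_left, mul_zero, add_zero] at h3
          exact one_ne_zero h3
        · simp only [vec, u1, Option.elim, h_add_left, h_add_right hF, h_smul_left, h_smul_right hF, hS0 s0 hs0,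
            hy00, hsy, ← cj_h hF s0 y0, map_one, mul_one]
          linear_combination (mem_skew hF).1 c.2
    let g : Option (skew hF) → AddSubgroup V := fun o => (F ∙ vec o).toAddSubgroup
    have hg : Function.Injective g := fun o o' he => by
      have hm : vec o ∈ g o' := by rw [← he]; exact Submodule.mem_span_singleton_self (vec o)
      obtain ⟨l, hl⟩ := Submodule.mem_span_singleton.1 hm
      have h3 := congrArg (fun z => h z y0) hl
      have h4 := congrArg (fun z => h z s0) hl
      rcases o with _ | c <;> rcases o' with _ | c' <;>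
        simp only [vec, u1, Option.elim, h_add_left, h_smul_left, hS0 s0 hs0, hy00, hsy, ← cj_h hF s0 y0,
          map_one, mul_zero, mul_one, add_zero, zero_add] at h3 h4
      · rfl
      · rw [h3, zero_mul] at h4
        exact absurd h4 zero_ne_one
      · exact absurd h3 zero_ne_one
      · rw [h3, one_mul] at h4
        exact congrArg some (Subtype.ext h4.symm)
    refine hqm.trans_le ?_
    have hcard : Fintype.card (Option (skew hF)) = q + 1 := by
      rw [Fintype.card_option, ← Nat.card_eq_fintype_card, card_skew hF]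
    rw [← hcard]
    refine card_family hF D g hg fun o => ?_
    obtain ⟨ow, on, oo⟩ := hvec o
    obtain ⟨k, hk, l, hl, e1⟩ := exists_move hF D (S_le hF D hs0) ow hs00 on (hS0 s0 hs0) oo
    refine ⟨k • b0, M_smul hF D hk.1 hb0, ?_⟩
    rw [S_smul_gW hF D hk]
    ext x
    constructor
    · rintro ⟨s, hs, rfl⟩
      obtain ⟨a, rfl⟩ := (hSline s).1 hs
      refine Submodule.mem_span_singleton.2 ⟨a * l, ?_⟩
      show _ = suVal k *ᵥ (a • s0)
      rw [Matrix.mulVec_smul, e1, smul_smul]
    · intro hx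
      obtain ⟨a, rfl⟩ := Submodule.mem_span_singleton.1 hx
      refine ⟨(a / l) • s0, (hSline _).2 ⟨_, rfl⟩, ?_⟩
      show suVal k *ᵥ ((a / l) • s0) = _
      rw [Matrix.mulVec_smul, e1, smul_smul, div_mul_cancel₀ _ hl]

variable [IsPretransitive (SU 4 F q) Ω] [Nontrivial Ω]

theorem exists_skew_ne (D : Data hF) : ∃ a : skew hF, a ≠ 0 :=
  ⟨⟨D.c0, D.c0_skew⟩, fun e0 => D.c0_ne (congrArg Subtype.val e0)⟩

theorem M_nonempty : (D.M (Ω := Ω)).Nonempty := by
  obtain ⟨a, ha⟩ := exists_skew_ne hF D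
  have h1 := m_eq hF D (Ω := Ω) ha
  have h2 := fixN_lt hF D (Ω := Ω) ha
  by_contra hcon
  rw [Finset.not_nonempty_iff_eq_empty] at hcon
  rw [Data.m, hcon, Finset.sum_empty] at h1
  omega

/-- A transvection moves at least `q ^ 4 + q ^ 3` points. -/
theorem m_ge : q ^ 4 + q ^ 3 ≤ D.m Ω := by
  have h1 : q ^ 4 < D.m Ω := by
    obtain ⟨b0, hb0⟩ := M_nonempty hF D (Ω := Ω)
    by_cases hall : ∀ a ∈ D.A b0, h a a = 0
    · exact big_of_singular hF D hb0 hall
    · push Not at hall
      obtain ⟨v, hv, hvv⟩ := hall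
      exact big_of_aniso hF D hb0 hv hvv
  obtain ⟨j, hj⟩ := q3_dvd_m hF D (Ω := Ω)
  rw [hj, show q ^ 4 = q ^ 3 * q by ring] at h1 ⊢
  have h2 : q + 1 ≤ j := Nat.lt_of_mul_lt_mul_left h1
  calc q ^ 3 * q + q ^ 3 = q ^ 3 * (q + 1) := by ring
    _ ≤ _ := Nat.mul_le_mul_left _ h2

end Cfsg.Agent.Lie.MinIndexFour
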