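import Cfsg.Agent.Lib.Lie.MinIndexFourGeom
import Cfsg.Agent.Lib.Classical.UnitTwoGenEmbed

/-! `SU_4(q)` acting on few points: orbits of the Heisenberg group and their annihilators. -/

set_option autoImplicit false
set_option linter.unusedSectionVars false
set_option maxHeartbeats 1000000

namespace Cfsg.Agent.Lie.MinIndexFour

open Matrix Finset MulAction Cfsg Cfsg.Agent.Classical Cfsg.Agent.Classical.PSUAut Cfsg.Agent.Lie.MinIndexUnit

universe u

attribute [local instance 10] _root_.Classical.propDecidable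

variable {F : Type*} [Field F] [Fintype F] {q : ℕ}

local notation "V" => (Fin 4 → F)

/-- The data: a hyperbolic pair and a character. -/
structure Data (hF : Fintype.card F = q ^ 2) where
  /-- the first vector of the pair -/
  e : Fin 4 → F
  /-- the second vector of the pair -/
  f : Fin 4 → F
  pair : IsPair (q := q) e f
  /-- an element of trace zero -/
  c0 : F
  c0_ne : c0 ≠ 0
  c0_skew : c0 + qFrob hF c0 = 0
  /-- a character of the elements of trace zero -/
  χ : AddChar (skew hF) ℂ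
  χ_ne : χ ⟨c0, c0_skew⟩ ≠ 1

variable (hF : Fintype.card F = q ^ 2)

local notation "h" => hermForm 4 F q
local notation "cj" => qFrob hF

variable (D : Data hF) {Ω : Type u} [Fintype Ω] [MulAction (SU 4 F q) Ω]

namespace Data

variable {hF}

/-- The orthogonal space. -/
abbrev W : Submodule F (Fin 4 → F) := wSub q D.e D.f

/-- The transvection group of the first vector. -/
abbrev z (c : skew hF) : SU 4 F q := tv hF D.pair.ee c

/-- The Heisenberg group. -/
abbrev Q : Subgroup (SU 4 F q) := heisX hF D.pair.ee D.W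

/-- The stabiliser in the Heisenberg group. -/
abbrev stQ (b : Ω) : Subgroup (SU 4 F q) := D.Q ⊓ stabilizer (SU 4 F q) b

/-- The central part of a stabiliser. -/
abbrev C (b : Ω) : AddSubgroup (skew hF) := ctr hF D.pair.ee (stabilizer (SU 4 F q) b)

/-- The orthogonal part of a stabiliser. -/
noncomputable abbrev S (b : Ω) : AddSubgroup (Fin 4 → F) :=
  img hF D.pair (le_refl D.W) (St := D.stQ b) inf_le_left

/-- The annihilator. -/
noncomputable abbrev A (b : Ω) : AddSubgroup (Fin 4 → F) := ann q (psi hF D.c0_skew D.χ) D.W (D.S b)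

/-- The points whose central stabiliser lies in the kernel of the character. -/
def InM (b : Ω) : Prop := ∀ c ∈ D.C b, D.χ c = 1

/-- These points. -/
noncomputable def M : Finset Ω := Finset.univ.filter fun b => D.InM b

/-- Their total central weight. -/
noncomputable def m (Ω : Type u) [Fintype Ω] [MulAction (SU 4 F q) Ω] : ℕ :=
  ∑ b ∈ D.M (Ω := Ω), Nat.card (D.C b)

/-- The number of points fixed by a transvection. -/
noncomputable def fixN (Ω : Type u) [Fintype Ω] [MulAction (SU 4 F q) Ω] (c : skew hF) : ℕ :=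
  Nat.card {b : Ω // D.z c • b = b}

/-- The image of an annihilator. -/
def mapA (g : SU 4 F q) (A : AddSubgroup (Fin 4 → F)) : AddSubgroup (Fin 4 → F) :=
  A.map (Matrix.mulVecLin (suVal g)).toAddMonoidHom

end Data

open Data

include hF

theorem mem_M {b : Ω} : b ∈ D.M ↔ D.InM b := by
  classical
  simp [Data.M]

theorem mapA_mul (g g' : SU 4 F q) (A : AddSubgroup V) : mapA (g * g') A = mapA g (mapA g' A) := by
  rw [mapA, mapA, mapA, AddSubgroup.map_map]
  congr 1
  refine AddMonoidHom.ext fun x => ?_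
  show suVal (g * g') *ᵥ x = suVal g *ᵥ (suVal g' *ᵥ x)
  rw [suVal_mul, Matrix.mulVec_mulVec]

theorem mapA_one (A : AddSubgroup V) : mapA (1 : SU 4 F q) A = A := by
  rw [mapA]
  convert AddSubgroup.map_id A
  refine AddMonoidHom.ext fun x => ?_
  exact Matrix.one_mulVec x

theorem mem_mapA {g : SU 4 F q} {A : AddSubgroup V} {x : V} (hx : x ∈ A) : suVal g *ᵥ x ∈ mapA g A :=
  AddSubgroup.mem_map_of_mem _ hx

theorem mapA_injective (g : SU 4 F q) : Function.Injective (mapA g : AddSubgroup V → AddSubgroup V) := fun a b hab => by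
  have := congrArg (mapA g⁻¹) hab
  rwa [← mapA_mul hF, ← mapA_mul hF, inv_mul_cancel, mapA_one hF, mapA_one hF] at this

/-- An element fixing the first vector commutes with the transvections. -/
theorem tv_conj {g : SU 4 F q} (hg : suVal g *ᵥ D.e = D.e) (c : skew hF) : g * D.z c * g⁻¹ = D.z c :=
  suVal_ext (by
    rw [suVal_mul, suVal_mul, suVal_tv, eMat_conj hF, Matrix.mulVec_zero, hg])

theorem tv_comm_of_fix {g : SU 4 F q} (hg : suVal g *ᵥ D.e = D.e) (c : skew hF) : g * D.z c = D.z c * g :=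
  mul_inv_eq_iff_eq_mul.1 (tv_conj hF D hg c)

theorem Q_fix {x : SU 4 F q} (hx : x ∈ D.Q) : suVal x *ᵥ D.e = D.e := by
  obtain ⟨w, hw, c, H, hs⟩ := hx
  rw [hs, eMat_mulVec, D.pair.ee, H.ew hF]
  simp

theorem tv_mem_Q (c : skew hF) : D.z c ∈ D.Q := ⟨0, D.W.zero_mem, c, eOK_transvection hF D.pair.ee ((mem_skew hF).1 c.2), rfl⟩

theorem C_smul {g : SU 4 F q} (hg : suVal g *ᵥ D.e = D.e) (b : Ω) : D.C (g • b) = D.C b := by
  ext c
  show D.z c • g • b = g • b ↔ D.z c • b = b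
  rw [smul_smul, ← tv_comm_of_fix hF D hg, mul_smul, smul_left_cancel_iff]

theorem ctr_stQ (b : Ω) : ctr hF D.pair.ee (D.stQ b) = D.C b := by
  ext c
  exact ⟨fun h1 => h1.2, fun h1 => ⟨tv_mem_Q hF D c, h1⟩⟩

theorem card_stQ (b : Ω) : Nat.card (D.stQ b) = Nat.card (D.C b) * Nat.card (D.S b) := by
  rw [card_st hF D.pair (le_refl D.W) (St := D.stQ b) inf_le_left, ctr_stQ hF D]

theorem card_Q : Nat.card D.Q = q ^ 4 * q := by
  rw [card_heisX hF D.pair (le_refl D.W), card_plane hF D.pair]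

theorem wOf_conj {g : SU 4 F q} (hg : g ∈ gW q D.e D.f) {s : SU 4 F q} (hs : s ∈ D.Q) :
    g * s * g⁻¹ ∈ D.Q ∧ wOf D.e D.f (g * s * g⁻¹) = suVal g *ᵥ wOf D.e D.f s := by
  obtain ⟨hw, H, e1⟩ := heisX_eq hF D.pair (le_refl D.W) hs
  have hw' := gW_mem_wSub hg hw
  have e2 : suVal (g * s * g⁻¹) = eMat q D.e (suVal g *ᵥ wOf D.e D.f s) (cOf D.f s) := by
    conv_lhs => rw [e1, eSU_conj hF, suVal_eSU, hg.1]
  exact ⟨⟨_, hw', _, by have := H.map (q := q) (su_form g); rwa [hg.1] at this, e2⟩,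
    (wOf_cOf hF D.pair hw' e2).1⟩

theorem S_smul_gW {g : SU 4 F q} (hg : g ∈ gW q D.e D.f) (b : Ω) : D.S (g • b) = mapA g (D.S b) := by
  ext w
  constructor
  · rintro ⟨s, ⟨hsQ, hsb⟩, rfl⟩
    obtain ⟨h1, h2⟩ := wOf_conj hF D (inv_mem hg) hsQ
    have hst : g⁻¹ * s * g⁻¹⁻¹ ∈ stabilizer (SU 4 F q) b := by
      rw [mem_stabilizer_iff, inv_inv, mul_smul, mul_smul, mem_stabilizer_iff.1 hsb, inv_smul_smul]
    have := mem_mapA hF (g := g) (show wOf D.e D.f (g⁻¹ * s * g⁻¹⁻¹) ∈ D.S b from ⟨_, ⟨h1, hst⟩, rfl⟩)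
    rwa [h2, Matrix.mulVec_mulVec, suVal_mul_inv, Matrix.one_mulVec] at this
  · rintro ⟨x, ⟨s, ⟨hsQ, hsb⟩, rfl⟩, rfl⟩
    obtain ⟨h1, h2⟩ := wOf_conj hF D hg hsQ
    refine ⟨_, ⟨h1, ?_⟩, h2⟩
    show g * s * g⁻¹ ∈ stabilizer (SU 4 F q) (g • b)
    rw [mem_stabilizer_iff, mul_smul, mul_smul, inv_smul_smul, mem_stabilizer_iff.1 hsb]

theorem S_smul_Q {x : SU 4 F q} (hx : x ∈ D.Q) (b : Ω) : D.S (x • b) = D.S b := by
  have key : ∀ {y : SU 4 F q}, y ∈ D.Q → ∀ c : Ω, D.S c ≤ D.S (y • c) := by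
    rintro y hy c _ ⟨s, ⟨hsQ, hsb⟩, rfl⟩
    refine ⟨y * s * y⁻¹, ⟨D.Q.mul_mem (D.Q.mul_mem hy hsQ) (D.Q.inv_mem hy), ?_⟩, ?_⟩
    · show y * s * y⁻¹ ∈ stabilizer (SU 4 F q) (y • c)
      rw [mem_stabilizer_iff, mul_smul, mul_smul, inv_smul_smul, mem_stabilizer_iff.1 hsb]
    · have e1 := wOf_mul hF D.pair (le_refl D.W) (D.Q.mul_mem (D.Q.mul_mem hy hsQ) (D.Q.inv_mem hy)) hy
      rw [inv_mul_cancel_right, wOf_mul hF D.pair (le_refl D.W) hy hsQ, add_comm] at e1
      exact (add_right_cancel e1).symm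
  refine le_antisymm ?_ (key hx b)
  have := key (inv_mem hx) (x • b)
  rwa [inv_smul_smul] at this

theorem A_smul_gW {g : SU 4 F q} (hg : g ∈ gW q D.e D.f) (b : Ω) : D.A (g • b) = mapA g (D.A b) := by
  ext v
  constructor
  · rintro ⟨hv, hv'⟩
    refine ⟨suVal g⁻¹ *ᵥ v, ⟨gW_mem_wSub (inv_mem hg) hv, fun s hs => ?_⟩, ?_⟩
    · have := hv' (suVal g *ᵥ s) (by rw [S_smul_gW hF D hg b]; exact mem_mapA hF hs)
      rw [← su_form g, Matrix.mulVec_mulVec, suVal_mul_inv, Matrix.one_mulVec]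
      exact this
    · show suVal g *ᵥ (suVal g⁻¹ *ᵥ v) = v
      rw [Matrix.mulVec_mulVec, suVal_mul_inv, Matrix.one_mulVec]
  · rintro ⟨x, ⟨hx, hx'⟩, rfl⟩
    refine ⟨gW_mem_wSub hg hx, fun s hs => ?_⟩
    rw [S_smul_gW hF D hg b] at hs
    obtain ⟨y, hy, rfl⟩ := hs
    show psi hF D.c0_skew D.χ (h (suVal g *ᵥ x) (suVal g *ᵥ y)) = 1
    rw [su_form]
    exact hx' y hy

theorem M_smul {g : SU 4 F q} (hg : suVal g *ᵥ D.e = D.e) {b : Ω} (hb : b ∈ D.M) : g • b ∈ D.M := by
  rw [mem_M hF D] at hb ⊢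
  rw [Data.InM, C_smul hF D hg]
  exact hb

theorem A_smul_Q {x : SU 4 F q} (hx : x ∈ D.Q) (b : Ω) : D.A (x • b) = D.A b := by
  rw [Data.A, Data.A, S_smul_Q hF D hx]

theorem card_A (b : Ω) : Nat.card (D.A b) * Nat.card (D.S b) = q ^ 4 := by
  rw [← card_plane hF D.pair]
  exact card_ann hF D.c0_skew D.χ D.c0_ne D.χ_ne (nondeg_wSub hF D.pair)
    fun s hs => img_le hF D.pair (le_refl D.W) (St := D.stQ b) inf_le_left hs

theorem sq_card_A {b : Ω} (hb : b ∈ D.M) : q ^ 4 ≤ Nat.card (D.A b) * Nat.card (D.A b) := by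
  classical
  rw [← card_A hF D b]
  refine Nat.mul_le_mul_left _ (Nat.card_le_card_of_injective (fun s : D.S b =>
    (⟨D.c0⁻¹ • (s : V), D.W.smul_mem _ (img_le hF D.pair (le_refl D.W) (St := D.stQ b) inf_le_left s.2),
      fun s' hs' => psi_img hF D.pair (le_refl D.W) (St := D.stQ b) inf_le_left D.c0_ne D.c0_skew
        (fun c hc => (mem_M hF D).1 hb c (ctr_stQ hF D b ▸ hc)) s.2 hs'⟩ : D.A b))
    fun a a' haa => Subtype.ext ?_)
  exact smul_right_injective V (inv_ne_zero D.c0_ne) (congrArg Subtype.val haa)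

/-- The points in the orbit of a point under the Heisenberg group. -/
theorem orbit_sum (b : Ω) :
    Nat.card {x : Ω // x ∈ orbit D.Q b} * Nat.card (D.stQ b) = q ^ 4 * q := by
  rw [← card_Q hF D, Nat.card_congr (Subgroup.subgroupOfEquivOfLe (inf_le_left : D.stQ b ≤ D.Q)).symm.toEquiv,
    show (D.stQ b).subgroupOf D.Q = stabilizer D.Q b by
      ext x
      exact ⟨fun h1 => h1.2, fun h1 => ⟨x.2, h1⟩⟩,
    ← Subgroup.index_mul_card (stabilizer D.Q b), index_stabilizer, Nat.card_coe_set_eq]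

theorem smul_mem_of_orbit {b x : Ω} (hx : x ∈ orbit D.Q b) : ∃ y ∈ D.Q, y • b = x := by
  obtain ⟨y, rfl⟩ := hx
  exact ⟨y, y.2, rfl⟩

/-- The sum of the orders of the stabilisers over an orbit. -/
theorem qN_le_sum {b : Ω} (hb : b ∈ D.M) (p : Ω → Prop) [DecidablePred p]
    (hp : ∀ x ∈ orbit D.Q b, p x) :
    q ^ 4 * q ≤ ∑ x ∈ (D.M).filter p, Nat.card (D.stQ x) := by
  classical
  have hconst : ∀ x ∈ univ.filter (fun x => x ∈ orbit D.Q b), Nat.card (D.stQ x) = Nat.card (D.stQ b) :=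
    fun x hx => by
      obtain ⟨y, hy, rfl⟩ := smul_mem_of_orbit hF D (Finset.mem_filter.1 hx).2
      rw [card_stQ hF D, card_stQ hF D, C_smul hF D (Q_fix hF D hy), S_smul_Q hF D hy]
  calc q ^ 4 * q = ∑ x ∈ univ.filter (fun x => x ∈ orbit D.Q b), Nat.card (D.stQ x) := by
        rw [Finset.sum_congr rfl hconst, Finset.sum_const, smul_eq_mul, ← Fintype.card_subtype, ← Nat.card_eq_fintype_card,
          orbit_sum hF D]
    _ ≤ _ := Finset.sum_le_sum_of_subset fun x hx => by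
        obtain ⟨y, hy, rfl⟩ := smul_mem_of_orbit hF D (Finset.mem_filter.1 hx).2
        exact Finset.mem_filter.2 ⟨M_smul hF D (Q_fix hF D hy) hb, hp _ (Finset.mem_filter.1 hx).2⟩

theorem sum_mu :
    ∑ v : D.W, ∑ b ∈ (D.M (Ω := Ω)), (if (v : V) ∈ D.A b then Nat.card (D.stQ b) else 0) =
      q ^ 4 * D.m Ω := by
  classical
  rw [Finset.sum_comm, Data.m, Finset.mul_sum]
  refine Finset.sum_congr rfl fun b _ => ?_
  rw [← Finset.sum_filter, Finset.sum_const, smul_eq_mul, ← Fintype.card_subtype, ← Nat.card_eq_fintype_card,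
    Nat.card_congr
      ({ toFun := fun v => ⟨v.1.1, v.2⟩
         invFun := fun v => ⟨⟨v.1, v.2.1⟩, v.2⟩
         left_inv := fun _ => rfl
         right_inv := fun _ => rfl } : {v : D.W // (v : V) ∈ D.A b} ≃ D.A b),
    card_stQ hF D, ← card_A hF D b]
  ring

variable [IsPretransitive (SU 4 F q) Ω] [Nontrivial Ω]

/-- All non-trivial transvections fix equally many points. -/
theorem fixN_eq {a c : skew hF} (ha : a ≠ 0) (hc : c ≠ 0) : D.fixN Ω a = D.fixN Ω c := by
  have hn : 3 ≤ 4 := by omega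
  have hc0 : (c : F) ≠ 0 := fun e0 => hc (Subtype.ext e0)
  have ha0 : (a : F) ≠ 0 := fun e0 => ha (Subtype.ext e0)
  obtain ⟨l, hl⟩ := exists_norm hF (a := (c : F) / a) (real_div_skew hF ((mem_skew hF).1 c.2) ((mem_skew hF).1 a.2))
  have hl0 : l ≠ 0 := fun e0 => by rw [e0, zero_mul, eq_comm, div_eq_zero_iff] at hl; exact hl.elim hc0 ha0
  have P' : IsPair (q := q) (l • D.e) ((cj l)⁻¹ • D.f) :=
    ⟨by rw [h_smul_left, h_smul_right hF, D.pair.ee]; ring,
     by rw [h_smul_left, h_smul_right hF, D.pair.ff]; ring,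
     by rw [h_smul_left, h_smul_right hF, map_inv₀, cj_cj, D.pair.ef, mul_one, mul_inv_cancel₀ hl0]⟩
  obtain ⟨s, hs, -⟩ := exists_su_pair hF hn D.pair P'
  have e1 : s * D.z a * s⁻¹ = D.z c := suVal_ext (by
    rw [suVal_mul, suVal_mul, suVal_tv, eMat_conj hF, Matrix.mulVec_zero, hs, tv_smul hF, hl,
      div_mul_cancel₀ _ ha0]
    rfl)
  exact Nat.card_congr
    { toFun := fun b => ⟨s • b.1, by rw [← e1, mul_smul, mul_smul, inv_smul_smul, b.2]⟩
      invFun := fun b => ⟨s⁻¹ • b.1, by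
        have : D.z a = s⁻¹ * D.z c * s := by rw [← e1]; group
        rw [this, mul_smul, mul_smul, smul_inv_smul, b.2]⟩
      left_inv := fun b => Subtype.ext (inv_smul_smul _ _)
      right_inv := fun b => Subtype.ext (smul_inv_smul _ _) }

/-- A non-trivial transvection moves a point. -/
theorem fixN_lt {a : skew hF} (ha : a ≠ 0) : D.fixN Ω a < Fintype.card Ω := by
  have hn : 3 ≤ 4 := by omega
  by_contra hcon
  have hall : ∀ (c : skew hF) (b : Ω), D.z c • b = b := by
    intro c b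
    rcases eq_or_ne c 0 with rfl | hc
    · rw [Data.z, tv_zero, one_smul]
    have h1 : Fintype.card {x : Ω // D.z c • x = x} = Fintype.card Ω := by
      classical
      rw [fixN_eq hF D ha hc, Data.fixN, Nat.card_eq_fintype_card] at hcon
      exact le_antisymm (Fintype.card_subtype_le _) (not_lt.1 hcon)
    by_contra hne
    exact (Fintype.card_subtype_lt (p := fun x => D.z c • x = x) hne).ne h1
  have hker : ∀ g : SU 4 F q, g ∈ (MulAction.toPermHom (SU 4 F q) Ω).ker := by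
    intro g
    rw [Cfsg.Agent.Classical.UnitTwoGen.top_of_transvections hF (G := (MulAction.toPermHom (SU 4 F q) Ω).ker) hn
      (by omega) fun v c H => ?_]
    · trivial
    rw [MonoidHom.mem_ker]
    refine Equiv.ext fun b => ?_
    show eSU hF H • b = b
    rcases eq_or_ne v 0 with rfl | hv
    · rw [show eSU hF H = 1 from suVal_ext (Matrix.ext_iff_mulVec.2 fun x => by
        rw [suVal_eSU, tv_apply' hF, smul_zero, add_zero]; exact (Matrix.one_mulVec x).symm), one_smul]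
    obtain ⟨s, hs⟩ := su_transitive hF hn D.pair.ne_zero D.pair.ee hv H.ee
    have hc : c + cj c = 0 := by
      have := H.cc
      rwa [cj_pow hF, h_zero_left, add_zero] at this
    have e1 : eSU hF H = s * D.z ⟨c, hc⟩ * s⁻¹ := suVal_ext (by
      rw [suVal_mul, suVal_mul, suVal_tv, eMat_conj hF, Matrix.mulVec_zero, hs]; rfl)
    rw [e1, mul_smul, mul_smul, hall, smul_inv_smul]
  obtain ⟨x, y, hxy⟩ := exists_pair_ne Ω
  obtain ⟨g, hg⟩ := MulAction.exists_smul_eq (SU 4 F q) x y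
  refine hxy ?_
  rw [← hg]
  exact (DFunLike.congr_fun (MonoidHom.mem_ker.1 (hker g)) x).symm

/-- The central weight is the number of moved points. -/
theorem m_eq {a : skew hF} (ha : a ≠ 0) : D.m Ω + D.fixN Ω a = Fintype.card Ω := by
  classical
  have e1 : ∀ c : skew hF, (D.fixN Ω c : ℂ) = ∑ b : Ω, if c ∈ D.C b then (1 : ℂ) else 0 := fun c => by
    rw [Finset.sum_boole, Data.fixN, Nat.card_eq_fintype_card, Fintype.card_subtype]
    rfl
  have e2 : ∀ b : Ω, ∑ c : skew hF, (if c ∈ D.C b then D.χ c else 0) =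
      if b ∈ D.M then (Nat.card (D.C b) : ℂ) else 0 := by
    intro b
    rw [← Finset.sum_filter, Finset.sum_subtype (p := fun c => c ∈ D.C b) (F := inferInstance) _ (fun c => by simp)]
    split_ifs with hb
    · rw [Finset.sum_congr rfl (fun c _ => (mem_M hF D).1 hb c.1 c.2), Finset.sum_const, Finset.card_univ,
        nsmul_one, Nat.card_eq_fintype_card]
    · refine AddChar.sum_eq_zero_of_ne_one (ψ := D.χ.compAddMonoidHom (D.C b).subtype) fun e0 => hb ?_
      exact (mem_M hF D).2 fun c hc => DFunLike.congr_fun e0 ⟨c, hc⟩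
  have h0 : ∑ c : skew hF, D.χ c = 0 :=
    AddChar.sum_eq_zero_of_ne_one fun e0 => D.χ_ne (DFunLike.congr_fun e0 _)
  have e3 : ∑ c : skew hF, D.χ c * (D.fixN Ω c : ℂ) = (Fintype.card Ω : ℂ) - (D.fixN Ω a : ℂ) := by
    have hz : D.fixN Ω (0 : skew hF) = Fintype.card Ω := by
      rw [Data.fixN, ← Nat.card_eq_fintype_card]
      exact Nat.card_congr (Equiv.subtypeUnivEquiv fun b => by rw [Data.z, tv_zero, one_smul])
    calc ∑ c : skew hF, D.χ c * (D.fixN Ω c : ℂ)
        = ∑ c : skew hF, (D.χ c * (D.fixN Ω a : ℂ) +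
          if c = 0 then (Fintype.card Ω : ℂ) - (D.fixN Ω a : ℂ) else 0) := by
          refine Finset.sum_congr rfl fun c _ => ?_
          by_cases hc : c = 0
          · subst hc
            rw [if_pos rfl, hz, AddChar.map_zero_eq_one]; ring
          · rw [if_neg hc, fixN_eq hF D hc ha, add_zero]
      _ = _ := by
          rw [Finset.sum_add_distrib, ← Finset.sum_mul, h0, zero_mul, zero_add, Finset.sum_ite_eq',
            if_pos (Finset.mem_univ _)]
  have h4 : ∑ c : skew hF, D.χ c * (D.fixN Ω c : ℂ) = (D.m Ω : ℂ) := by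
    simp only [e1, Finset.mul_sum, mul_ite, mul_one, mul_zero]
    rw [Finset.sum_comm, Finset.sum_congr rfl (fun b _ => e2 b), ← Finset.sum_filter,
      Finset.filter_mem_eq_inter, Finset.univ_inter, Data.m, Nat.cast_sum]
  rw [h4, eq_sub_iff_add_eq] at e3
  exact_mod_cast e3

end Cfsg.Agent.Lie.MinIndexFour
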