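import Cfsg.Agent.Lib.Lie.MinIndexFourCount

/-!
An action of `SU_4(q)` on fewer points than totally isotropic lines: no transvection fixes a point.
-/

set_option autoImplicit false
set_option linter.unusedSectionVars false
set_option maxHeartbeats 1000000

namespace Cfsg.Agent.Lie.MinIndexFour

open Matrix Finset MulAction Cfsg Cfsg.Agent.Classical Cfsg.Agent.Classical.PSUAut Cfsg.Agent.Lie.MinIndexUnit

universe u

attribute [local instance 10] _root_.Classical.propDecidable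

variable {F : Type*} [Field F] [Fintype F] {q : ℕ}

local notation "V" => (Fin 4 → F)

variable (hF : Fintype.card F = q ^ 2)

local notation "h" => hermForm 4 F q
local notation "cj" => qFrob hF

variable (D : Data hF) {Ω : Type u} [Fintype Ω] [MulAction (SU 4 F q) Ω]

include hF

omit D in
/-- The number of nonzero scalar multiples divides the size of a closed set of nonzero vectors. -/
theorem dvd_of_closed (T : Finset V) (h0 : (0 : V) ∉ T) (hT : ∀ v ∈ T, ∀ l : F, l ≠ 0 → l • v ∈ T) :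
    q ^ 2 - 1 ∣ T.card := by
  classical
  rw [Finset.card_eq_sum_ones, ← Finset.sum_fiberwise_of_maps_to (g := fun v => (F ∙ v : Submodule F V))
    (t := T.image fun v => (F ∙ v : Submodule F V)) (fun v hv => Finset.mem_image_of_mem _ hv)]
  refine Finset.dvd_sum fun L hL => ?_
  obtain ⟨v, hv, rfl⟩ := Finset.mem_image.1 hL
  have hv0 : v ≠ 0 := fun e0 => h0 (e0 ▸ hv)
  rw [← Finset.card_eq_sum_ones]
  refine dvd_of_eq ?_
  rw [← hF, ← Nat.card_eq_fintype_card, ← Nat.card_units, ← Nat.card_eq_finsetCard]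
  refine Nat.card_eq_of_bijective (fun l : Fˣ => ⟨(l : F) • v, Finset.mem_filter.2
    ⟨hT v hv l l.ne_zero, Submodule.span_singleton_smul_eq l.isUnit v⟩⟩) ⟨fun a b hab => ?_, fun x => ?_⟩
  · exact Units.ext (smul_left_injective F hv0 (congrArg Subtype.val hab :))
  · obtain ⟨hx, hspan⟩ := Finset.mem_filter.1 x.2
    obtain ⟨l, hl⟩ := Submodule.mem_span_singleton.1 (hspan ▸ Submodule.mem_span_singleton_self (x : V))
    exact ⟨Units.mk0 l fun e0 => h0 (by rw [← show (x : V) = 0 by rw [← hl, e0, zero_smul]]; exact hx),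
      Subtype.ext hl⟩

omit D hF in
/-- The only solution of the counting equation. -/
theorem phi_zero {q φ R : ℕ} (hq : 2 ≤ q) (hφ : φ ≤ q)
    (hR : φ * ((q ^ 2 + 1) * (q ^ 3 + 1)) = (q ^ 4 + q ^ 3 + φ) * R) : φ = 0 := by
  by_contra hne
  have hφ1 : (1 : ℤ) ≤ φ := by exact_mod_cast (Nat.pos_of_ne_zero hne)
  have hq' : (2 : ℤ) ≤ q := by exact_mod_cast hq
  have hφq : (φ : ℤ) ≤ q := by exact_mod_cast hφ
  have hR' : (φ : ℤ) * (((q : ℤ) ^ 2 + 1) * ((q : ℤ) ^ 3 + 1)) = ((q : ℤ) ^ 4 + (q : ℤ) ^ 3 + φ) * R := by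
    exact_mod_cast hR
  set T : ℤ := (q : ℤ) ^ 4 + (q : ℤ) ^ 3 + φ with hT
  set k : ℤ := (R : ℤ) - φ * ((q : ℤ) - 1) with hk
  have key : T * k = φ * (2 * (q : ℤ) ^ 3 + (q : ℤ) ^ 2 + 1 - φ * q + φ) := by
    rw [hk, mul_sub, ← hR', hT]; ring
  have hTpos : 0 < T := by positivity
  have hq3 : (q : ℤ) ^ 3 ≥ 4 * q := by nlinarith
  have h1 : 0 < T * k := by
    rw [key]
    refine mul_pos (by linarith) ?_
    nlinarith [mul_le_mul hφq (le_refl (q : ℤ)) (by linarith) (by linarith)]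
  have h2 : T * k < T * 2 := by
    rw [key, hT]
    nlinarith [mul_le_mul_of_nonneg_right hφq (show 0 ≤ 2 * (q : ℤ) ^ 3 + (q : ℤ) ^ 2 + 1 by positivity),
      mul_nonneg (mul_self_nonneg (φ : ℤ)) (show (0 : ℤ) ≤ q - 1 by linarith)]
  have hk0 : 0 < k := pos_of_mul_pos_right h1 hTpos.le
  have hk2 : k < 2 := lt_of_mul_lt_mul_left h2 hTpos.le
  have hk1 : k = 1 := by omega
  rw [hk1, mul_one, hT] at key
  rcases le_or_gt (2 * (φ : ℤ)) q with h3 | h3
  · nlinarith [mul_le_mul_of_nonneg_right h3 (show 0 ≤ 2 * (q : ℤ) ^ 3 + (q : ℤ) ^ 2 by positivity),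
      mul_nonneg (mul_self_nonneg (φ : ℤ)) (show (0 : ℤ) ≤ q - 1 by linarith)]
  · have h4 : (q : ℤ) + 1 ≤ 2 * φ := by omega
    nlinarith [mul_le_mul_of_nonneg_right h4 (show 0 ≤ 2 * (q : ℤ) ^ 3 + (q : ℤ) ^ 2 - q * ((q : ℤ) - 1) by nlinarith),
      mul_nonneg (mul_nonneg (show (0 : ℤ) ≤ φ by linarith) (show (0 : ℤ) ≤ q - φ by linarith))
        (show (0 : ℤ) ≤ q - 1 by linarith)]

/-- An action on fewer points than totally isotropic lines. -/
def Small (q : ℕ) (Ω : Type u) [Fintype Ω] : Prop := Fintype.card Ω ≤ q ^ 4 + q ^ 3 + q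

variable [IsPretransitive (SU 4 F q) Ω] [Nontrivial Ω] (hsmall : Small q Ω)

include hsmall

theorem m_val : D.m Ω = q ^ 4 + q ^ 3 := by
  obtain ⟨a, ha⟩ := exists_skew_ne hF D
  have h1 := m_ge hF D (Ω := Ω)
  have h2 := m_eq hF D (Ω := Ω) ha
  obtain ⟨j, hj⟩ := q3_dvd_m hF D (Ω := Ω)
  have hq := two_le_q hF
  have h3 : q < q ^ 3 := lt_self_pow₀ (by omega) (by norm_num)
  have h4 : q ^ 3 * j < q ^ 3 * (q + 2) := by
    have e : q ^ 3 * (q + 2) = q ^ 4 + q ^ 3 + q ^ 3 := by ring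
    rw [← hj, e]
    have := hsmall
    rw [Small] at this
    omega
  have h5 := Nat.lt_of_mul_lt_mul_left h4
  have h6 : q ^ 3 * j ≤ q ^ 3 * (q + 1) := Nat.mul_le_mul_left _ (by omega)
  have e : q ^ 3 * (q + 1) = q ^ 4 + q ^ 3 := by ring
  omega

theorem fixN_le {a : skew hF} (ha : a ≠ 0) : D.fixN Ω a ≤ q := by
  have h1 := m_eq hF D (Ω := Ω) ha
  rw [m_val hF D hsmall] at h1
  have := hsmall
  rw [Small] at this
  omega

theorem C_bot {b : Ω} (hb : b ∈ D.M) {a : skew hF} (ha : a ∈ D.C b) : a = 0 := by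
  by_contra hne
  have h1 : (D.orb b).card ≤ D.fixN Ω a := by
    rw [Data.fixN, Nat.card_eq_fintype_card, Fintype.card_subtype]
    refine Finset.card_le_card fun x hx => Finset.mem_filter.2 ⟨Finset.mem_univ _, ?_⟩
    obtain ⟨y, hy, rfl⟩ := smul_mem_of_orbit hF D ((mem_orb hF D).1 hx)
    rw [smul_smul, ← tv_comm_of_fix hF D (Q_fix hF D hy), mul_smul, show D.z a • b = b from ha]
  have h2 := h1.trans (fixN_le hF D hsmall hne)
  have h3 := orb_weight hF D b
  rw [Finset.sum_congr rfl (fun x hx => by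
    obtain ⟨y, hy, rfl⟩ := smul_mem_of_orbit hF D ((mem_orb hF D).1 hx)
    rw [C_smul hF D (Q_fix hF D hy)] : ∀ x ∈ D.orb b, Nat.card (D.C x) = Nat.card (D.C b)),
    Finset.sum_const, smul_eq_mul] at h3
  have h4 : Nat.card (D.C b) ≤ q := by
    exact (AddSubgroup.card_le_card_addGroup _).trans (card_skew hF).le
  have h5 : q * q ^ 2 ≤ q * q := by
    calc q * q ^ 2 ≤ q * Nat.card (D.A b) := Nat.mul_le_mul_left _ (sq_le_A hF D hb)
      _ = (D.orb b).card * Nat.card (D.C b) := h3.symm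
      _ ≤ _ := Nat.mul_le_mul h2 h4
  have hq := two_le_q hF
  have := Nat.le_of_mul_le_mul_left h5 (by omega)
  nlinarith

theorem card_M : (D.M (Ω := Ω)).card = q ^ 4 + q ^ 3 := by
  rw [← m_val hF D hsmall, Data.m, Finset.card_eq_sum_ones]
  refine Finset.sum_congr rfl fun b hb => ?_
  rw [show D.C b = ⊥ from (AddSubgroup.eq_bot_iff_forall _).2 fun a ha => C_bot hF D hsmall hb ha,
    AddSubgroup.card_bot]

theorem fix_iff {a : skew hF} (ha : a ≠ 0) {b : Ω} : D.z a • b = b ↔ b ∉ D.M := by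
  have hsub : (univ.filter fun x : Ω => D.z a • x = x) ⊆ (D.M (Ω := Ω))ᶜ := fun x hx =>
    Finset.mem_compl.2 fun hxM => ha (C_bot hF D hsmall hxM (Finset.mem_filter.1 hx).2)
  have hcard : ((D.M (Ω := Ω))ᶜ).card ≤ (univ.filter fun x : Ω => D.z a • x = x).card := by
    have h1 := m_eq hF D (Ω := Ω) ha
    rw [m_val hF D hsmall, Data.fixN, Nat.card_eq_fintype_card, Fintype.card_subtype] at h1
    rw [Finset.card_compl, card_M hF D hsmall]
    omega
  rw [← Finset.mem_compl, ← Finset.eq_of_subset_of_card_le hsub hcard]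
  simp

include D in
/-- Every point is moved. -/
theorem card_eq : Fintype.card Ω = q ^ 4 + q ^ 3 := by
  classical
  obtain ⟨a, ha⟩ := exists_skew_ne hF D
  set φ := ((D.M (Ω := Ω))ᶜ).card with hφ
  have hcardΩ : Fintype.card Ω = q ^ 4 + q ^ 3 + φ := by
    rw [hφ, ← card_M hF D hsmall, Finset.card_add_card_compl]
  have hφq : φ ≤ q := by
    have := hsmall
    rw [Small, hcardΩ] at this
    omega
  let Pt : V → Ω → Prop := fun v b => ∀ hv : h v v = 0, ∀ c : skew hF, tv hF hv c • b = b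
  let V0 : Finset V := univ.filter fun v => v ≠ 0 ∧ h v v = 0
  have hPe : ∀ b : Ω, Pt D.e b ↔ b ∉ D.M := fun b => by
    refine ⟨fun hP => (fix_iff hF D hsmall ha).1 (hP D.pair.ee a), fun hb hv c => ?_⟩
    rcases eq_or_ne c 0 with rfl | hc
    · rw [tv_zero, one_smul]
    · exact (fix_iff hF D hsmall hc).2 hb
  have hconj : ∀ (s : SU 4 F q) {v : V} (b : Ω), Pt v b → Pt (suVal s *ᵥ v) (s • b) := by
    intro s v b hP hv c
    have hv' : h v v = 0 := by rwa [su_form] at hv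
    have e1 : tv hF hv c = s * tv hF hv' c * s⁻¹ := suVal_ext (by
      rw [suVal_mul, suVal_mul, suVal_tv, suVal_tv, eMat_conj hF, Matrix.mulVec_zero])
    rw [e1, mul_smul, mul_smul, inv_smul_smul, hP hv' c]
  have hcol : ∀ v ∈ V0, (univ.filter fun b => Pt v b).card = φ := by
    intro v hv
    obtain ⟨-, hv0, hvv⟩ := Finset.mem_filter.1 hv
    obtain ⟨s, hs⟩ := su_transitive hF (show 3 ≤ 4 by omega) D.pair.ne_zero D.pair.ee hv0 hvv
    rw [hφ, show (D.M (Ω := Ω))ᶜ = univ.filter fun b => Pt D.e b by ext b; simp [hPe b]]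
    refine (Finset.card_bij (fun b _ => s • b) (fun b hb => ?_) (fun b _ b' _ hbb => MulAction.injective s hbb)
      fun b hb => ⟨s⁻¹ • b, ?_, smul_inv_smul s b⟩).symm
    · rw [← hs]
      exact Finset.mem_filter.2 ⟨Finset.mem_univ _, hconj s b (Finset.mem_filter.1 hb).2⟩
    · refine Finset.mem_filter.2 ⟨Finset.mem_univ _, ?_⟩
      have h1 := hconj s⁻¹ b (Finset.mem_filter.1 hb).2
      rwa [← hs, Matrix.mulVec_mulVec, suVal_inv_mul, Matrix.one_mulVec] at h1
  obtain ⟨b0⟩ : Nonempty Ω := inferInstance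
  have hrow : ∀ b : Ω, (V0.filter fun v => Pt v b).card = (V0.filter fun v => Pt v b0).card := by
    intro b
    obtain ⟨g, rfl⟩ := MulAction.exists_smul_eq (SU 4 F q) b0 b
    refine (Finset.card_bij (fun v _ => suVal g *ᵥ v) (fun v hv => ?_) (fun v _ v' _ hvv => ?_) fun v hv =>
      ⟨suVal g⁻¹ *ᵥ v, ?_, by rw [Matrix.mulVec_mulVec, suVal_mul_inv, Matrix.one_mulVec]⟩).symm
    · obtain ⟨hv1, hv2⟩ := Finset.mem_filter.1 hv
      obtain ⟨-, hv0, hvv⟩ := Finset.mem_filter.1 hv1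
      exact Finset.mem_filter.2 ⟨Finset.mem_filter.2 ⟨Finset.mem_univ _, fun e0 => hv0 (su_injective g e0),
        by rw [su_form]; exact hvv⟩, hconj g b0 hv2⟩
    · have h1 := congrArg (fun z => suVal g⁻¹ *ᵥ z) hvv
      simpa only [Matrix.mulVec_mulVec, suVal_inv_mul, Matrix.one_mulVec] using h1
    · obtain ⟨hv1, hv2⟩ := Finset.mem_filter.1 hv
      obtain ⟨-, hv0, hvv⟩ := Finset.mem_filter.1 hv1
      refine Finset.mem_filter.2 ⟨Finset.mem_filter.2 ⟨Finset.mem_univ _, fun e0 => hv0 (su_injective g⁻¹ e0),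
        by rw [su_form]; exact hvv⟩, ?_⟩
      have h1 := hconj g⁻¹ (g • b0) hv2
      rwa [inv_smul_smul] at h1
  obtain ⟨R, hR⟩ : q ^ 2 - 1 ∣ (V0.filter fun v => Pt v b0).card := by
    refine dvd_of_closed hF _ (fun h0 => (Finset.mem_filter.1 (Finset.mem_filter.1 h0).1).2.1 rfl) fun v hv l hl => ?_
    obtain ⟨hv1, hv2⟩ := Finset.mem_filter.1 hv
    obtain ⟨-, hv0, hvv⟩ := Finset.mem_filter.1 hv1
    refine Finset.mem_filter.2 ⟨Finset.mem_filter.2 ⟨Finset.mem_univ _, smul_ne_zero hl hv0, by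
      rw [h_smul_left, h_smul_right hF, hvv]; ring⟩, fun hv' c => ?_⟩
    have hc' : l * cj l * c + cj (l * cj l * c) = 0 :=
      real_mul_skew hF (by rw [map_mul, cj_cj, mul_comm]) ((mem_skew hF).1 c.2)
    rw [show tv hF hv' c = tv hF hvv ⟨_, hc'⟩ from suVal_ext (by rw [suVal_tv, suVal_tv, tv_smul hF]; rfl)]
    exact hv2 hvv _
  have hV0 : V0.card = (q ^ 4 - 1) * (q ^ 3 + 1) := by
    rw [← isoNum_four hF, isoNum, normCount, Nat.card_eq_fintype_card, Fintype.card_subtype,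
      ← Finset.card_erase_of_mem (a := (0 : V)) (Finset.mem_filter.2 ⟨Finset.mem_univ _, by rw [h_zero_left]⟩)]
    refine congrArg Finset.card (Finset.ext fun w => ?_)
    simp [V0]
  have hdc : V0.card * φ = Fintype.card Ω * ((q ^ 2 - 1) * R) := by
    rw [← hR, ← smul_eq_mul, ← Finset.sum_const, ← Finset.sum_congr rfl hcol, ← smul_eq_mul, ← Finset.card_univ,
      ← Finset.sum_const, ← Finset.sum_congr rfl fun b _ => hrow b]
    simp only [Finset.card_eq_sum_ones, Finset.sum_filter]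
    exact Finset.sum_comm
  have hq := two_le_q hF
  have h41 : q ^ 4 - 1 = (q ^ 2 - 1) * (q ^ 2 + 1) := by
    have : 1 ≤ q ^ 2 := Nat.one_le_pow _ _ (by omega)
    zify [this, Nat.one_le_pow 4 q (by omega)]
    ring
  rw [hV0, h41, hcardΩ] at hdc
  have h7 : φ = 0 := phi_zero hq hφq (R := R) (Nat.eq_of_mul_eq_mul_left
    (show 0 < q ^ 2 - 1 by have : 2 ^ 2 ≤ q ^ 2 := Nat.pow_le_pow_left hq 2; omega)
    (by ring_nf at hdc ⊢; linarith))
  omega

include D in
theorem M_univ (b : Ω) : b ∈ D.M := by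
  rw [Finset.eq_univ_of_card _ ((card_M hF D hsmall).trans (card_eq hF D hsmall).symm)]
  exact Finset.mem_univ b

include D in
/-- No transvection fixes a point. -/
theorem free {v : V} (hv : v ≠ 0) (hvv : h v v = 0) {c : skew hF} (hc : c ≠ 0) (b : Ω) :
    tv hF hvv c • b ≠ b := by
  intro hb
  obtain ⟨s, hs⟩ := su_transitive hF (show 3 ≤ 4 by omega) hv hvv D.pair.ne_zero D.pair.ee
  have e1 : s * tv hF hvv c * s⁻¹ = D.z c := suVal_ext (by
    rw [suVal_mul, suVal_mul, suVal_tv, eMat_conj hF, Matrix.mulVec_zero, hs]; rfl)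
  refine (fix_iff hF D hsmall hc).1 ?_ (M_univ hF D hsmall (s • b))
  rw [← e1, mul_smul, mul_smul, inv_smul_smul, hb]

end Cfsg.Agent.Lie.MinIndexFour
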