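import Cfsg.Agent.Lib.Lie.MinIndexUnitBound

/-!
The plane orthogonal to a hyperbolic pair in the four-dimensional Hermitian space.
-/

set_option autoImplicit false
set_option linter.unusedSectionVars false
set_option maxHeartbeats 1000000

namespace Cfsg.Agent.Lie.MinIndexFour

open Matrix Finset Cfsg Cfsg.Agent.Classical Cfsg.Agent.Classical.PSUAut Cfsg.Agent.Lie.MinIndexUnit

attribute [local instance 10] _root_.Classical.propDecidable

variable {F : Type*} [Field F] [Fintype F] {q : ℕ}

local notation "V" => (Fin 4 → F)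

variable (hF : Fintype.card F = q ^ 2)

local notation "h" => hermForm 4 F q
local notation "cj" => qFrob hF

include hF

variable {e f : Fin 4 → F} (P : IsPair (q := q) e f)

include P

theorem card_plane : Nat.card (wSub q e f) = q ^ 4 := card_wSub hF P (d := 2) rfl

theorem wCount_four_zero : wCount q e f (0 : F) + q = q ^ 3 + q ^ 2 := by
  have h1 := wCount_zero hF P (d := 2) rfl
  have hq := two_le_q hF
  have h2 : ((wCount q e f (0 : F) + q : ℕ) : ℤ) * q = ((q ^ 3 + q ^ 2 : ℕ) : ℤ) * q := by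
    push_cast
    linear_combination h1
  exact_mod_cast mul_right_cancel₀ (show (q : ℤ) ≠ 0 by omega) h2

/-- The number of vectors of a nonzero norm in the plane. -/
theorem wCount_four {r : F} (hr : cj r = r) (hr0 : r ≠ 0) : wCount q e f r + q = q ^ 3 := by
  have h1 := wCount_ne_zero hF P (d := 2) rfl hr hr0
  have h2 := congrArg (Nat.cast : ℕ → ℤ) (wCount_four_zero hF P)
  push_cast at h2
  have hq := two_le_q hF
  have h3 : ((q : ℤ) - 1) * ((wCount q e f r + q : ℕ) : ℤ) = ((q : ℤ) - 1) * ((q ^ 3 : ℕ) : ℤ) := by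
    push_cast
    linear_combination h1 - h2
  exact_mod_cast mul_left_cancel₀ (show (q : ℤ) - 1 ≠ 0 by omega) h3

/-- A hyperbolic pair in the plane. -/
theorem exists_wPair : ∃ u u' : V, u ∈ wSub q e f ∧ u' ∈ wSub q e f ∧ IsPair (q := q) u u' := by
  have hq := two_le_q hF
  have h1 := wCount_four_zero hF P
  have h2 : 1 < wCount q e f (0 : F) := by nlinarith [Nat.mul_le_mul hq (Nat.mul_le_mul hq hq)]
  obtain ⟨⟨u, hu⟩, hne⟩ : ∃ w : {w : wSub q e f // h (w : V) (w : V) = 0}, (w.1 : V) ≠ 0 := by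
    by_contra hcon
    push Not at hcon
    have : Subsingleton {w : wSub q e f // h (w : V) (w : V) = 0} :=
      ⟨fun a b => Subtype.ext (Subtype.ext ((hcon a).trans (hcon b).symm))⟩
    have h3 : Nat.card {w : wSub q e f // h (w : V) (w : V) = 0} ≤ 1 := Finite.card_le_one_iff_subsingleton.2 this
    exact absurd h3 (not_le.2 h2)
  obtain ⟨y, hy, hyy, huy⟩ := wSub_partner hF P u.2 hne hu
  exact ⟨u, y, u.2, hy, hu, hyy, huy⟩

variable {u u' : Fin 4 → F} (hu : u ∈ wSub q e f) (hu' : u' ∈ wSub q e f) (P' : IsPair (q := q) u u')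

include hu hu' P'

/-- Coordinates in the plane. -/
theorem plane_eq {w : V} (hw : w ∈ wSub q e f) : w = h w u' • u + h w u • u' := by
  let φ : F × F → wSub q e f := fun p => ⟨p.1 • u + p.2 • u', Submodule.add_mem _ (Submodule.smul_mem _ _ hu)
    (Submodule.smul_mem _ _ hu')⟩
  have hco : ∀ a b : F, h (a • u + b • u') u' = a ∧ h (a • u + b • u') u = b := fun a b => by
    constructor <;> rw [h_add_left, h_smul_left, h_smul_left]
    · rw [P'.ef, P'.ff]; ring
    · rw [P'.ee, P'.fe hF]; ring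
  have hinj : Function.Injective φ := fun p p' hpp => by
    have e1 : p.1 • u + p.2 • u' = p'.1 • u + p'.2 • u' := congrArg Subtype.val hpp
    exact Prod.ext (by rw [← (hco p.1 p.2).1, e1, (hco _ _).1]) (by rw [← (hco p.1 p.2).2, e1, (hco _ _).2])
  have hb := (Nat.bijective_iff_injective_and_card φ).2 ⟨hinj, by
    rw [Nat.card_prod, Nat.card_eq_fintype_card, hF, card_plane hF P]; ring⟩
  obtain ⟨⟨a, b⟩, hab⟩ := hb.2 ⟨w, hw⟩
  have e1 : a • u + b • u' = w := congrArg Subtype.val hab
  rw [← e1, (hco a b).1, (hco a b).2]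

/-- The vectors orthogonal to an isotropic vector are its multiples. -/
theorem perp_eq {w : V} (hw : w ∈ wSub q e f) (h0 : h w u = 0) : w = h w u' • u := by
  conv_lhs => rw [plane_eq hF P hu hu' P' hw, h0, zero_smul, add_zero]

omit hu hu' P'

/-- An anisotropic vector orthogonal to an anisotropic one. -/
theorem exists_perp_aniso {w : V} (hw : w ∈ wSub q e f) (hww : h w w ≠ 0) :
    ∃ y ∈ wSub q e f, h y w = 0 ∧ h y y ≠ 0 := by
  obtain ⟨u, u', hu, hu', P'⟩ := exists_wPair hF P
  refine ⟨h w w • u - h u w • w, Submodule.sub_mem _ (Submodule.smul_mem _ _ hu) (Submodule.smul_mem _ _ hw),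
    by rw [h_sub_left, h_smul_left, h_smul_left]; ring, fun h0 => ?_⟩
  rw [h_sub_left, h_sub_right hF, h_sub_right hF, h_smul_left, h_smul_left, h_smul_left, h_smul_left,
    h_smul_right hF, h_smul_right hF, h_smul_right hF, h_smul_right hF, P'.ee] at h0
  simp only [cj_h hF] at h0
  have h1 : h u w * h w u = 0 := mul_left_cancel₀ hww (by linear_combination -h0)
  rcases mul_eq_zero.1 h1 with h2 | h2
  · exact hww (by rw [perp_eq hF P hu hu' P' hw (h_comm_zero hF h2), h_smul_left, h_smul_right hF, P'.ee]; ring)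
  · exact hww (by rw [perp_eq hF P hu hu' P' hw h2, h_smul_left, h_smul_right hF, P'.ee]; ring)

/-- The elements fixing the pair are transitive on the vectors of a nonzero norm in the plane. -/
theorem plane_transitive {w w' : V} (hw : w ∈ wSub q e f) (hww : h w w ≠ 0) (hw' : w' ∈ wSub q e f)
    (hn : h w' w' = h w w) : ∃ g ∈ gW q e f, suVal g *ᵥ w = w' := by
  classical
  obtain ⟨y, hy, hyw, hyy⟩ := exists_perp_aniso hF P hw hww
  obtain ⟨y', hy', hyw', hyy'⟩ := exists_perp_aniso hF P hw' (hn.symm ▸ hww)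
  obtain ⟨l, hl⟩ := exists_norm hF (a := h y y / h y' y') (by rw [map_div₀, cj_h_self hF, cj_h_self hF])
  set z := l • y'
  have hz : z ∈ wSub q e f := Submodule.smul_mem _ _ hy'
  have hzz : h z z = h y y := by
    rw [h_smul_left, h_smul_right hF, ← mul_assoc, hl, div_mul_cancel₀ _ hyy']
  have hzw : h z w' = 0 := by rw [h_smul_left, hyw', mul_zero]
  -- the map
  let L : V →ₗ[F] V :=
    { toFun := fun x => h x f • e + h x e • f + (h x w / h w w) • w' + (h x y / h y y) • z
      map_add' := fun a b => by simp only [h_add_left, add_div]; module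
      map_smul' := fun a b => by simp only [h_smul_left, RingHom.id_apply, mul_div_assoc]; module }
  have hexp : ∀ x : V, x = h x f • e + h x e • f + (h x w / h w w) • w + (h x y / h y y) • y := by
    intro x
    set x' := x - (h x f • e + h x e • f + (h x w / h w w) • w + (h x y / h y y) • y) with hx'
    suffices h' : x' = 0 by rw [hx', sub_eq_zero] at h'; exact h'
    have hew : h e w = 0 := h_comm_zero hF hw.1
    have hfw : h f w = 0 := h_comm_zero hF hw.2
    have hey : h e y = 0 := h_comm_zero hF hy.1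
    have hfy : h f y = 0 := h_comm_zero hF hy.2
    have hwy : h w y = 0 := h_comm_zero hF hyw
    have e1 : h x' w = 0 := by
      simp only [hx', h_sub_left, h_add_left, h_smul_left, hew, hfw, hyw]
      field_simp
      ring
    have e2 : h x' y = 0 := by
      simp only [hx', h_sub_left, h_add_left, h_smul_left, hey, hfy, hwy]
      field_simp
      ring
    have e3 : x' ∈ wSub q e f := by
      constructor <;> simp only [hx', h_sub_left, h_add_left, h_smul_left, hw.1, hy.1, hw.2, hy.2, P.ee, P.ef,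
        P.fe hF, P.ff] <;> ring
    -- the plane is spanned by `w` and `y`
    let φ : F × F → wSub q e f := fun p => ⟨p.1 • w + p.2 • y, Submodule.add_mem _ (Submodule.smul_mem _ _ hw)
      (Submodule.smul_mem _ _ hy)⟩
    have hinj : Function.Injective φ := fun p p' hpp => by
      have e4 : p.1 • w + p.2 • y = p'.1 • w + p'.2 • y := congrArg Subtype.val hpp
      have e5 := congrArg (fun t => h t w) e4
      have e6 := congrArg (fun t => h t y) e4
      simp only [h_add_left, h_smul_left, hyw, hwy, mul_zero, add_zero, zero_add] at e5 e6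
      exact Prod.ext (mul_right_cancel₀ hww e5) (mul_right_cancel₀ hyy e6)
    obtain ⟨⟨a, b⟩, hab⟩ := ((Nat.bijective_iff_injective_and_card φ).2 ⟨hinj, by
      rw [Nat.card_prod, Nat.card_eq_fintype_card, hF, card_plane hF P]; ring⟩).2 ⟨x', e3⟩
    have e4 : a • w + b • y = x' := congrArg Subtype.val hab
    rw [← e4, h_add_left, h_smul_left, h_smul_left, hyw, mul_zero, add_zero] at e1
    rw [← e4, h_add_left, h_smul_left, h_smul_left, hwy, mul_zero, zero_add] at e2
    rw [← e4, (mul_eq_zero.1 e1).resolve_right hww, (mul_eq_zero.1 e2).resolve_right hyy, zero_smul, zero_smul,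
      add_zero]
  have hform : ∀ a b : V, h (L a) (L b) = h a b := by
    intro a b
    conv_rhs => rw [hexp a, hexp b]
    simp only [L, LinearMap.coe_mk, AddHom.coe_mk, h_add_left, h_add_right hF, h_smul_left, h_smul_right hF,
      P.ee, P.ef, P.ff, P.fe hF, hw.1, hw.2, hw'.1, hw'.2, hy.1, hy.2, hz.1, hz.2, h_comm_zero hF hw.1,
      h_comm_zero hF hw.2, h_comm_zero hF hw'.1, h_comm_zero hF hw'.2, h_comm_zero hF hy.1, h_comm_zero hF hy.2,
      h_comm_zero hF hz.1, h_comm_zero hF hz.2, hyw, h_comm_zero hF hyw, hzw, h_comm_zero hF hzw, hzz, hn]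
  set M := LinearMap.toMatrix' L
  have hM : ∀ x, M *ᵥ x = L x := fun x => by rw [LinearMap.toMatrix'_mulVec]
  have hMinj : Function.Injective M.mulVec := fun a b hab => by
    have h0 : L (a - b) = 0 := by rw [map_sub, ← hM, ← hM]; exact sub_eq_zero.2 hab
    refine sub_eq_zero.1 (eq_zero_of_h hF fun v => ?_)
    rw [← hform, h0, h_zero_left]
  have hu : IsUnit M.det := by
    rw [← Matrix.isUnit_iff_isUnit_det]
    exact Matrix.mulVec_injective_iff_isUnit.1 hMinj
  set G : GL (Fin 4) F := Matrix.GeneralLinearGroup.mk'' _ hu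
  have hG : G ∈ GU 4 F q := fun a b => by
    show h (M *ᵥ a) (M *ᵥ b) = h a b
    rw [hM, hM]; exact hform a b
  have hδ : M.det * cj M.det = 1 := det_norm_one hF hG
  obtain ⟨R, hR, hRdet, hRv⟩ := exists_reflection hF hyy (a := M.det⁻¹)
    (by rw [map_inv₀, ← mul_inv, hδ, inv_one])
  have hδ0 : M.det ≠ 0 := fun h0 => by simp [h0] at hδ
  let s : SU 4 F q := ⟨⟨M * (R : Matrix (Fin 4) (Fin 4) F), by rw [Matrix.det_mul, hRdet, mul_inv_cancel₀ hδ0]⟩,
    fun a b => by
      show h ((M * (R : Matrix (Fin 4) (Fin 4) F)) *ᵥ a) ((M * (R : Matrix (Fin 4) (Fin 4) F)) *ᵥ b) = h a b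
      rw [← Matrix.mulVec_mulVec, ← Matrix.mulVec_mulVec, hM, hM, hform]
      exact hR a b⟩
  have hs : ∀ x, h x y = 0 → suVal s *ᵥ x = L x := fun x hx => by
    show (M * (R : Matrix (Fin 4) (Fin 4) F)) *ᵥ x = L x
    rw [← Matrix.mulVec_mulVec, hRv, hx, mul_zero, zero_div, zero_smul, add_zero, hM]
  refine ⟨s, ⟨?_, ?_⟩, ?_⟩
  · rw [hs e (h_comm_zero hF hy.1)]
    simp [L, P.ef, P.ee, h_comm_zero hF hw.1, h_comm_zero hF hy.1]
  · rw [hs f (h_comm_zero hF hy.2)]
    simp [L, P.ff, P.fe hF, h_comm_zero hF hw.2, h_comm_zero hF hy.2]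
  · rw [hs w (h_comm_zero hF hyw)]
    simp [L, hw.1, hw.2, h_comm_zero hF hyw, hww]

/-- The element scaling the pair and the plane. -/
theorem exists_scalar {a : F} (ha : a * cj a = 1) :
    ∃ d : SU 4 F q, suVal d *ᵥ e = a • e ∧ ∀ w ∈ wSub q e f, suVal d *ᵥ w = cj a • w := by
  have hα : a * a * cj (a * a) = 1 := by rw [map_mul]; linear_combination (a * cj a + 1) * ha
  obtain ⟨τ, hτ⟩ : ∃ τ : F, τ + cj τ = 1 := exists_trace_eq hF (map_one cj)
  set p1 := e + τ • f with hp1
  set p2 := e - cj τ • f with hp2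
  have h11 : h p1 p1 = 1 := by
    simp only [hp1, h_add_left, h_add_right hF, h_smul_left, h_smul_right hF, P.ee, P.ef, P.fe hF, P.ff]
    linear_combination hτ
  have h22 : h p2 p2 = -1 := by
    simp only [hp2, h_sub_left, h_sub_right hF, h_smul_left, h_smul_right hF, P.ee, P.ef, P.fe hF, P.ff, cj_cj]
    linear_combination -hτ
  have h12 : h p2 p1 = 0 := by
    simp only [hp1, hp2, h_add_right hF, h_sub_left, h_smul_left, h_smul_right hF, P.ee, P.ef, P.fe hF, P.ff]
    ring
  have he1 : h e p1 = cj τ := by simp [hp1, h_add_right hF, h_smul_right hF, P.ee, P.ef]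
  have he2 : h e p2 = -τ := by simp [hp2, h_sub_right hF, h_smul_right hF, P.ee, P.ef, cj_cj]
  obtain ⟨R1, hR1, d1, f1⟩ := exists_reflection hF (u := p1) (by rw [h11]; exact one_ne_zero) hα
  obtain ⟨R2, hR2, d2, f2⟩ := exists_reflection hF (u := p2) (by rw [h22]; simp) hα
  let M : Matrix (Fin 4) (Fin 4) F := cj a • ((R1 : Matrix (Fin 4) (Fin 4) F) * (R2 : Matrix (Fin 4) (Fin 4) F))
  have hM : M.det = 1 := by
    rw [Matrix.det_smul, Matrix.det_mul, d1, d2, Fintype.card_fin]
    linear_combination (a * cj a + 1) * ((a * cj a) ^ 2 + 1) * ha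
  let t : SU 4 F q := ⟨⟨M, hM⟩, fun x z => by
    show h (M *ᵥ x) (M *ᵥ z) = h x z
    rw [Matrix.smul_mulVec, Matrix.smul_mulVec, h_smul_left, h_smul_right hF, ← Matrix.mulVec_mulVec,
      ← Matrix.mulVec_mulVec, ← mul_assoc, cj_cj, mul_comm (cj a), ha, one_mul]
    exact (hR1 _ _).trans (hR2 x z)⟩
  refine ⟨t, ?_, fun w hw => ?_⟩
  · show M *ᵥ e = _
    rw [Matrix.smul_mulVec, ← Matrix.mulVec_mulVec, f2, f1, he2, h22, h_add_left, h_smul_left, he1, h12, h11]
    simp only [hp1, hp2, mul_zero, add_zero, div_neg, div_one]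
    match_scalars <;> first
      | linear_combination cj a * ((a * a - 1) * hτ) + a * ha
      | linear_combination (0 : F) * ha
      | ring1
  · show M *ᵥ w = _
    have w1 : h w p1 = 0 := by rw [hp1, h_add_right hF, h_smul_right hF, hw.1, hw.2]; ring
    have w2 : h w p2 = 0 := by rw [hp2, h_sub_right hF, h_smul_right hF, hw.1, hw.2]; ring
    rw [Matrix.smul_mulVec, ← Matrix.mulVec_mulVec, f2, w2, mul_zero, zero_div, zero_smul, add_zero, f1, w1,
      mul_zero, zero_div, zero_smul, add_zero]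

omit P

/-- A transvection centred on a line through two orthogonal isotropic vectors. -/
theorem tv_split {e u : V} (huu : h u u = 0) (hue : h u e = 0) {c μ : F} (hc : c + cj c = 0) :
    eMat q (u + μ • e) 0 c = eMat q u 0 c * eMat q e ((c * cj μ) • u) (c * (μ * cj μ)) := by
  refine Matrix.ext_iff_mulVec.2 fun x => ?_
  rw [← Matrix.mulVec_mulVec, eMat_mulVec e, tv_apply' hF, tv_apply' hF]
  simp only [h_add_left, h_sub_left, h_smul_left, h_add_right hF, h_smul_right hF, map_mul, cj_cj, huu,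
    h_comm_zero hF hue, eq_neg_of_add_eq_zero_right hc]
  module

/-- The isotropic vectors of the four-dimensional space. -/
theorem isoNum_four : isoNum 4 F q = (q ^ 4 - 1) * (q ^ 3 + 1) := by
  have h1 := normCount_zero hF 4
  have hq := two_le_q hF
  have h2 : (normCount 4 F q (0 : F) : ℤ) = (q : ℤ) ^ 7 + (q : ℤ) ^ 4 - (q : ℤ) ^ 3 :=
    mul_right_cancel₀ (show (q : ℤ) ≠ 0 by omega) (h1.trans (by ring))
  have h3 : 1 ≤ normCount 4 F q (0 : F) := Nat.card_pos_iff.2 ⟨⟨⟨0, by simp [hermForm]⟩⟩, inferInstance⟩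
  rw [isoNum]
  zify [h3, Nat.one_le_pow 4 q (by omega)]
  rw [h2]
  ring

end Cfsg.Agent.Lie.MinIndexFour
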