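import Cfsg.Agent.Lib.Lie.MinIndexFourFree
import Mathlib.Analysis.Fourier.FiniteAbelian.PontryaginDuality

/-!
An action of `SU_4(q)` on fewer points than totally isotropic lines does not exist for `q > 2`.
-/

set_option autoImplicit false
set_option linter.unusedSectionVars false
set_option maxHeartbeats 1000000

namespace Cfsg.Agent.Lie.MinIndexFour

open Matrix Finset MulAction Cfsg Cfsg.Agent.Classical Cfsg.Agent.Classical.PSUAut Cfsg.Agent.Lie.MinIndexUnit

universe u

attribute [local instance 10] _root_.Classical.propDecidable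

variable {F : Type*} [Field F] [Fintype F] {q : ℕ}

local notation "V" => (Fin 4 → F)

variable (hF : Fintype.card F = q ^ 2)

local notation "h" => hermForm 4 F q
local notation "cj" => qFrob hF

variable (D : Data hF) {Ω : Type u} [Fintype Ω] [MulAction (SU 4 F q) Ω]

namespace Data

variable {hF}

/-- The transvections of a vector of the plane stabilise the orbit of a point. -/
def Inv (b : Ω) (v : Fin 4 → F) : Prop :=
  ∀ c : F, c + qFrob hF c = 0 → ∃ w ∈ D.W, ∃ (k : F) (g : SU 4 F q),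
    EOK (q := q) D.e w k ∧ suVal g = eMat q D.e w k * eMat q v 0 c ∧ g • b = b

end Data

open Data

include hF

theorem inv_smul_vec {b : Ω} {v : V} (hv : D.Inv b v) (l : F) : D.Inv b (l • v) := by
  intro c hc
  obtain ⟨w, hw, k, g, H, e1, e2⟩ := hv (l * cj l * c) (real_mul_skew hF (by rw [map_mul, cj_cj, mul_comm]) hc)
  exact ⟨w, hw, k, g, H, by rw [tv_smul hF, e1], e2⟩

theorem mem_S_of_fix {b : Ω} {s : V} (hs : s ∈ D.W) {k : F} (H : EOK (q := q) D.e s k) (hfix : eSU hF H • b = b) :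
    s ∈ D.S b :=
  ⟨eSU hF H, ⟨⟨s, hs, k, H, rfl⟩, hfix⟩, (wOf_cOf hF D.pair hs (suVal_eSU hF H)).1⟩

variable [IsPretransitive (SU 4 F q) Ω] [Nontrivial Ω] (hsmall : Small q Ω)

include hsmall

theorem C_triv {b : Ω} {c : skew hF} (hc : D.z c • b = b) : c = 0 :=
  C_bot hF D hsmall (M_univ hF D hsmall b) hc

theorem lift_unique {b : Ω} {s : V} {k k' : F} (H : EOK (q := q) D.e s k) (H' : EOK (q := q) D.e s k')
    (h1 : eSU hF H • b = b) (h2 : eSU hF H' • b = b) : k = k' := by
  have e1 := H.cc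
  have e2 := H'.cc
  rw [cj_pow hF] at e1 e2
  have hd : (k' - k) + cj (k' - k) = 0 := by rw [map_sub]; linear_combination e2 - e1
  have e3 : D.z ⟨k' - k, hd⟩ * eSU hF H = eSU hF H' := suVal_ext (by
    rw [suVal_mul, suVal_eSU, suVal_eSU, suVal_tv, eMat_mul hF (eOK_transvection hF D.pair.ee hd) H, zero_add,
      h_zero_right hF, sub_zero, sub_add_cancel])
  rw [← e3, mul_smul, h1] at h2
  have := congrArg Subtype.val (C_triv hF D hsmall h2)
  exact (sub_eq_zero.1 this).symm

/-- The coefficient over the coordinates. -/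
theorem exists_phi (b : Ω) : ∃ φ : V → F, (∀ s ∈ D.S b, ∃ H : EOK (q := q) D.e s (φ s), eSU hF H • b = b) ∧
    ∀ x ∈ D.S b, ∀ y ∈ D.S b, φ (x + y) = φ x + φ y - h y x ∧ h x y = h y x := by
  have hl : ∀ s ∈ D.S b, ∃ k, ∃ H : EOK (q := q) D.e s k, eSU hF H • b = b := by
    rintro _ ⟨g, ⟨hgQ, hgb⟩, rfl⟩
    obtain ⟨-, H, e1⟩ := heisX_eq hF D.pair (le_refl D.W) hgQ
    exact ⟨_, H, by rw [← e1]; exact hgb⟩
  choose! φ hφ using hl
  refine ⟨φ, hφ, fun x hx y hy => ⟨?_, ?_⟩⟩
  · obtain ⟨Hx, hxb⟩ := hφ x hx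
    obtain ⟨Hy, hyb⟩ := hφ y hy
    obtain ⟨Hxy, hxyb⟩ := hφ _ ((D.S b).add_mem hx hy)
    exact lift_unique hF D hsmall Hxy (Hx.mul hF Hy) hxyb (by rw [← eSU_mul hF Hx Hy, mul_smul, hyb, hxb])
  · obtain ⟨c, hc, e1⟩ := comm_S hF D hx hy
    rw [C_triv hF D hsmall hc, ZeroMemClass.coe_zero, eq_comm, sub_eq_zero] at e1
    exact e1

/-- The effect of the transvections on the coordinates. -/
theorem conj_fact {b : Ω} {v : V} (hv : v ∈ D.W) (hvv : h v v = 0) {φ : V → F}
    (hφ : ∀ s ∈ D.S b, ∃ H : EOK (q := q) D.e s (φ s), eSU hF H • b = b) {c : F} (hc : c + cj c = 0)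
    {w : V} (hw : w ∈ D.W) {k : F} (Hw : EOK (q := q) D.e w k) {g : SU 4 F q}
    (eg : suVal g = eMat q D.e w k * eMat q v 0 c) (hgb : g • b = b) {s : V} (hs : s ∈ D.S b) :
    s + (c * h s v) • v ∈ D.S b ∧
      φ (s + (c * h s v) • v) = φ s + h w (s + (c * h s v) • v) - h (s + (c * h s v) • v) w := by
  obtain ⟨H, hsb⟩ := hφ s hs
  set s' := s + (c * h s v) • v with hs'
  have hs'W : s' ∈ D.W := D.W.add_mem (S_le hF D hs) (D.W.smul_mem _ hv)
  set T := eSU hF (eOK_transvection hF hvv hc) with hT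
  have hg : g = eSU hF Hw * T := suVal_ext (by rw [eg, suVal_mul]; rfl)
  have hTe : suVal T *ᵥ D.e = D.e := by
    rw [hT, suVal_eSU, tv_apply' hF, h_comm_zero hF hv.1, mul_zero, zero_smul, add_zero]
  have hTs : suVal T *ᵥ s = s' := by rw [hT, suVal_eSU, tv_apply' hF]
  have H1 : EOK (q := q) D.e s' (φ s) := by
    have := H.map (q := q) (su_form T)
    rwa [hTe, hTs] at this
  have H2 : EOK (q := q) D.e s' (φ s + h w s' - h s' w) := ⟨D.pair.ee, hs'W.1, by
    have := H1.cc
    rw [cj_pow hF] at this ⊢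
    rw [map_sub, map_add, cj_h hF, cj_h hF]
    linear_combination this⟩
  have e1 : T * eSU hF H * T⁻¹ = eSU hF H1 := suVal_ext (by
    rw [suVal_mul, suVal_mul, show suVal (eSU hF H) = eMat q D.e s (φ s) from rfl, eMat_conj hF, hTe, hTs]; rfl)
  have e2 : eSU hF Hw * eSU hF H1 = eSU hF H2 * eSU hF Hw := suVal_ext (by
    rw [suVal_mul, suVal_mul, suVal_eSU, suVal_eSU, suVal_eSU, eMat_mul hF Hw H1, eMat_mul hF H2 Hw, add_comm w]
    congr 1
    ring)
  have hfix : eSU hF H2 • b = b := by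
    have e3 : g * eSU hF H * g⁻¹ = eSU hF H2 := by
      rw [hg, _root_.mul_inv_rev, ← mul_assoc, ← mul_inv_eq_iff_eq_mul.2 e2, ← e1]
      group
    rw [← e3, mul_smul, mul_smul, show g⁻¹ • b = b from inv_smul_eq_iff.2 hgb.symm, hsb, hgb]
  have hmem := mem_S_of_fix hF D hs'W H2 hfix
  obtain ⟨H3, h3b⟩ := hφ s' hmem
  exact ⟨hmem, lift_unique hF D hsmall H3 H2 h3b hfix⟩

/-- An orbit of the Heisenberg group stable under the transvections of a vector of the plane. -/
theorem exists_orbit {v : V} (hv : v ∈ D.W) (hvv : h v v = 0) :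
    ∃ b : Ω, Nat.card (D.S b) = q ^ 2 ∧ D.Inv b v := by
  classical
  obtain ⟨p, k, hp, hk, hqp⟩ := exists_prime_pow hF (q := q) (F := F)
  have : Fact p.Prime := ⟨hp⟩
  have hq := two_le_q hF
  have hC : ∀ b : Ω, Nat.card (D.C b) = 1 := fun b => by
    rw [show D.C b = ⊥ from (AddSubgroup.eq_bot_iff_forall _).2 fun c hc => C_triv hF D hsmall hc,
      AddSubgroup.card_bot]
  have hcard : ∀ b : Ω, (D.orb b).card = q * Nat.card (D.A b) := fun b => by
    rw [← orb_weight hF D b, Finset.sum_congr rfl (fun x _ => hC x), Finset.card_eq_sum_ones]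
  set 𝒪 := ((univ : Finset Ω).image D.orb) with hO
  set N := 𝒪.filter fun O => O.card = q ^ 3 with hN
  have hNp : ¬ p ∣ N.card := by
    intro hdvd
    have h1 : Fintype.card Ω = ∑ O ∈ 𝒪, O.card := by
      rw [← Finset.card_univ, Finset.card_eq_sum_ones,
        ← Finset.sum_fiberwise_of_maps_to (g := D.orb) (fun x hx => Finset.mem_image_of_mem _ hx)]
      refine Finset.sum_congr rfl fun O hO => ?_
      obtain ⟨b, -, rfl⟩ := Finset.mem_image.1 hO
      rw [Finset.card_eq_sum_ones]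
      refine Finset.sum_congr (Finset.ext fun x => ?_) fun _ _ => rfl
      simp [orb_eq_iff hF D]
    have h2 : p * q ^ 3 ∣ Fintype.card Ω := by
      rw [h1, ← Finset.sum_filter_add_sum_filter_not 𝒪 fun O => O.card = q ^ 3]
      refine Nat.dvd_add ?_ (Finset.dvd_sum fun O hO => ?_)
      · rw [Finset.sum_congr rfl (fun O hO => (Finset.mem_filter.1 hO).2), Finset.sum_const, smul_eq_mul]
        exact Nat.mul_dvd_mul_right hdvd _
      · obtain ⟨hO1, hO2⟩ := Finset.mem_filter.1 hO
        obtain ⟨b, -, rfl⟩ := Finset.mem_image.1 hO1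
        rw [hcard, show q ^ 3 = q * q ^ 2 by ring] at hO2 ⊢
        rw [mul_left_comm]
        exact mul_dvd_mul_left _ ((dvd_A hF D hp hqp (M_univ hF D hsmall b)).2 fun e0 => hO2 (by rw [e0]))
    rw [card_eq hF D hsmall, show q ^ 4 + q ^ 3 = (q + 1) * q ^ 3 by ring] at h2
    have h3 := Nat.dvd_of_mul_dvd_mul_right (pow_pos (by omega) 3) h2
    rw [Nat.dvd_add_right (hqp ▸ dvd_pow_self p (by omega)), Nat.dvd_one] at h3
    exact hp.one_lt.ne' h3
  let t : skew hF → SU 4 F q := fun c => tv hF hvv c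
  have hte : ∀ c, suVal (t c) *ᵥ D.e = D.e := fun c => by
    rw [suVal_tv, tv_apply' hF, h_comm_zero hF hv.1, mul_zero, zero_smul, add_zero]
  have htQ : ∀ c, ∀ {y : SU 4 F q}, y ∈ D.Q → t c * y * (t c)⁻¹ ∈ D.Q := fun c y hy =>
    (wOf_conj hF D (tv_mem_gW hF hv (eOK_transvection hF hvv ((mem_skew hF).1 c.2))) hy).1
  have horb : ∀ (c : skew hF) (b : Ω), (D.orb b).image (t c • ·) = D.orb (t c • b) := by
    intro c b
    ext x
    rw [Finset.mem_image, mem_orb hF D]
    constructor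
    · rintro ⟨x, hx, rfl⟩
      obtain ⟨y, hy, rfl⟩ := smul_mem_of_orbit hF D ((mem_orb hF D).1 hx)
      exact ⟨⟨_, htQ c hy⟩, by
        show (t c * y * (t c)⁻¹) • t c • b = t c • y • b
        rw [mul_smul, mul_smul, inv_smul_smul]⟩
    · intro hx
      obtain ⟨y, hy, rfl⟩ := smul_mem_of_orbit hF D hx
      refine ⟨(t (-c) * y * (t (-c))⁻¹) • b, (mem_orb hF D).2 ⟨⟨_, htQ (-c) hy⟩, rfl⟩, ?_⟩
      rw [show t (-c) = (t c)⁻¹ from tv_neg hF hvv c, inv_inv, ← mul_smul, ← mul_smul]
      group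
  let act : MulAction (Multiplicative (skew hF)) {O : Finset Ω // O ∈ N} :=
    { smul := fun c O => ⟨O.1.image (t c.toAdd • ·), by
        obtain ⟨hO1, hO2⟩ := Finset.mem_filter.1 O.2
        obtain ⟨b, -, e1⟩ := Finset.mem_image.1 hO1
        refine Finset.mem_filter.2 ⟨?_, by rw [Finset.card_image_of_injective _ (MulAction.injective _), hO2]⟩
        rw [← e1, horb]
        exact Finset.mem_image_of_mem _ (Finset.mem_univ _)⟩
      one_smul := fun O => Subtype.ext (by
        show O.1.image (t 0 • ·) = O.1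
        simp [t, tv_zero])
      mul_smul := fun c c' O => Subtype.ext (by
        show O.1.image (t (c.toAdd + c'.toAdd) • ·) = (O.1.image (t c'.toAdd • ·)).image (t c.toAdd • ·)
        rw [Finset.image_image]
        refine Finset.image_congr fun x _ => ?_
        show t (c.toAdd + c'.toAdd) • x = t c.toAdd • t c'.toAdd • x
        rw [← mul_smul, ← tv_add]) }
  obtain ⟨⟨O, hO⟩, hfix⟩ := (IsPGroup.of_card (p := p) (n := k) (G := Multiplicative (skew hF))
    (by rw [Nat.card_congr Multiplicative.toAdd, card_skew hF, hqp])).nonempty_fixed_point_of_prime_not_dvd_card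
    {O : Finset Ω // O ∈ N} (by rwa [Nat.card_eq_finsetCard])
  obtain ⟨hO1, hO2⟩ := Finset.mem_filter.1 hO
  obtain ⟨b, -, rfl⟩ := Finset.mem_image.1 hO1
  refine ⟨b, (A_eq hF D (M_univ hF D hsmall b) ?_).1, fun c hc => ?_⟩
  · rw [hcard, show q ^ 3 = q * q ^ 2 by ring] at hO2
    exact Nat.eq_of_mul_eq_mul_left (by omega) hO2
  · have h1 : (D.orb b).image (t ⟨c, hc⟩ • ·) = D.orb b :=
      congrArg Subtype.val (hfix (Multiplicative.ofAdd ⟨c, hc⟩))
    rw [horb, orb_eq_iff hF D, mem_orb hF D] at h1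
    obtain ⟨y, hy, e1⟩ := smul_mem_of_orbit hF D h1
    obtain ⟨hw, H, e2⟩ := heisX_eq hF D.pair (le_refl D.W) (D.Q.inv_mem hy)
    refine ⟨_, hw, _, y⁻¹ * t ⟨c, hc⟩, H, ?_, by rw [mul_smul, ← e1, inv_smul_smul]⟩
    rw [suVal_mul]
    conv_lhs => rw [e2]
    rfl

/-- A stable line meets the coordinates in vectors orthogonal to it. -/
theorem perp_of_inv (hq3 : 3 ≤ q) {b : Ω} (hS : Nat.card (D.S b) = q ^ 2) {v : V} (hv : v ∈ D.W)
    (hvv : h v v = 0) (hI : D.Inv b v) {s : V} (hs : s ∈ D.S b) : h s v = 0 := by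
  classical
  obtain ⟨φ, hφ, hadd⟩ := exists_phi hF D hsmall b
  by_contra hne
  -- the multiples in the coordinates
  have hmul : ∀ c : F, c + cj c = 0 → ∀ {x : V}, x ∈ D.S b → (c * h x v) • v ∈ D.S b := by
    intro c hc x hx
    obtain ⟨w, hwW, k, g, Hw, eg, hgb⟩ := hI c hc
    have h1 := (D.S b).sub_mem (conj_fact hF D hsmall hv hvv hφ hc hwW Hw eg hgb hx).1 hx
    rwa [add_sub_cancel_left] at h1
  have h2 : (2 : F) = 0 := by
    by_contra h2
    have h1 := (hadd _ (hmul _ D.c0_skew hs) _ hs).2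
    rw [h_smul_left, h_smul_right hF, map_mul, eq_neg_of_add_eq_zero_right D.c0_skew, cj_h hF] at h1
    have h3 : (2 * D.c0) * (h s v * h v s) = 0 := by linear_combination h1
    rcases mul_eq_zero.1 h3 with h4 | h4
    · exact mul_ne_zero h2 D.c0_ne h4
    · exact mul_ne_zero hne (fun e0 => hne (h_comm_zero hF e0)) h4
  have hneg : ∀ z : F, -z = z := fun z => by linear_combination (-z) * h2
  -- rescale
  set u := (cj (h s v))⁻¹ • v with hu
  have huW : u ∈ D.W := D.W.smul_mem _ hv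
  have huu : h u u = 0 := by rw [hu, h_smul_left, h_smul_right hF, hvv]; ring
  have hIu : D.Inv b u := inv_smul_vec hF D hI _
  have hsu : h s u = 1 := by
    rw [hu, h_smul_right hF, map_inv₀, cj_cj, inv_mul_cancel₀ hne]
  clear_value u
  obtain ⟨f', hf', hf'0, huf⟩ := wSub_partner hF D.pair huW
    (fun e0 => by rw [e0, h_zero_right hF] at hsu; exact zero_ne_one hsu) huu
  have Pu : IsPair (q := q) u f' := ⟨huu, hf'0, huf⟩
  have hskew : ∀ c : F, cj c = c → c + cj c = 0 := fun c hc => by rw [hc]; linear_combination c * h2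
  have hu1 : ∀ c : F, cj c = c → c • u ∈ D.S b := fun c hc => by
    obtain ⟨w, hwW, k, g, Hw, eg, hgb⟩ := hIu c (hskew c hc)
    have h1 := (D.S b).sub_mem (conj_fact hF D hsmall huW huu hφ (hskew c hc) hwW Hw eg hgb hs).1 hs
    rwa [add_sub_cancel_left, hsu, mul_one] at h1
  have huS : u ∈ D.S b := by simpa using hu1 1 (map_one cj)
  have hus : h u s = 1 := by rw [(hadd _ huS _ hs).2, hsu]
  have hreal : ∀ {x : V}, x ∈ D.S b → cj (h x u) = h x u := fun hx => by
    rw [cj_h hF]
    exact (hadd _ huS _ hx).2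
  -- the multiples of the vector in the coordinates
  have hker : ∀ {x : V}, x ∈ D.S b → h x u = 0 → cj (h x f') = h x f' ∧ x = h x f' • u := by
    intro x hx h0
    have e1 := perp_eq hF D.pair huW hf' Pu (S_le hF D hx) h0
    refine ⟨?_, e1⟩
    have e2 : h x s = h x f' := by
      conv_lhs => rw [e1, h_smul_left, hus, mul_one]
    have e3 := (hadd _ hx _ hs).2
    rw [← e2, cj_h hF, ← e3]
  -- every real number is a product
  have hsurj : ∀ r : F, cj r = r → ∃ x ∈ D.S b, h x u = r := by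
    let α : D.S b →+ F :=
      { toFun := fun x => h (x : V) u
        map_zero' := h_zero_left u
        map_add' := fun x y => h_add_left _ _ u }
    have hk : Nat.card α.ker ≤ q := by
      refine le_trans ?_ (card_fixed hF).le
      exact Nat.card_le_card_of_injective (fun x => ⟨h (x.1 : V) f', (hker x.1.2 x.2).1⟩) fun x y hxy =>
        Subtype.ext (Subtype.ext (by
          rw [(hker x.1.2 x.2).2, (hker y.1.2 y.2).2, show h (x.1 : V) f' = _ from congrArg Subtype.val hxy]))
    have hc := AddSubgroup.card_mul_index α.ker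
    rw [AddSubgroup.index_ker, hS] at hc
    have hr : q ≤ Nat.card α.range := by
      refine Nat.le_of_mul_le_mul_left ?_ (show 0 < q by omega)
      calc q * q = Nat.card α.ker * Nat.card α.range := by rw [hc]; ring
        _ ≤ _ := Nat.mul_le_mul_right _ hk
    let ι : α.range → {a : F // cj a = a} := fun r => ⟨r.1, by
      obtain ⟨x, hx⟩ := r.2
      rw [← hx]
      exact hreal x.2⟩
    have hinj : Function.Injective ι := fun a a' haa => Subtype.ext (congrArg Subtype.val haa :)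
    have hb := (Nat.bijective_iff_injective_and_card ι).2 ⟨hinj, le_antisymm (Nat.card_le_card_of_injective ι hinj)
      (by rw [card_fixed hF]; exact hr)⟩
    intro r hr
    obtain ⟨⟨_, x, rfl⟩, hx⟩ := hb.2 ⟨r, hr⟩
    exact ⟨x, x.2, congrArg Subtype.val hx⟩
  -- a quadratic relation
  set K : F := φ ((1 : F) • u)
  have hmain : ∀ c : F, cj c = c → ∃ m : F, ∀ r : F, cj r = r →
      φ ((c * r) • u) = c * r * r + r * m := by
    intro c hc
    obtain ⟨w, hwW, k, g, Hw, eg, hgb⟩ := hIu c (hskew c hc)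
    have hw := fun (x : V) (hx : x ∈ D.S b) => conj_fact hF D hsmall huW huu hφ (hskew c hc) hwW Hw eg hgb hx
    refine ⟨h w s - h s w, fun r hr => ?_⟩
    obtain ⟨x, hx, hxr⟩ := hsurj r hr
    obtain ⟨-, hwu⟩ := hw u huS
    rw [huu, mul_zero, zero_smul, add_zero] at hwu
    have hTu : h w u - h u w = 0 := by linear_combination -hwu
    obtain ⟨hx', e1⟩ := hw x hx
    rw [hxr] at hx' e1
    have hcr : cj (c * r) = c * r := by rw [map_mul, hc, hr]
    have hcru := hu1 _ hcr
    rw [(hadd _ hx _ hcru).1] at e1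
    -- the difference with a multiple
    have hrs : h (x - r • s) u = 0 := by rw [h_sub_left, h_smul_left, hxr, hsu, mul_one, sub_self]
    have e2 := perp_eq hF D.pair huW hf' Pu (D.W.sub_mem (S_le hF D hx) (D.W.smul_mem _ (S_le hF D hs))) hrs
    set κ := h (x - r • s) f'
    clear_value κ
    have e3 : x = r • s + κ • u := by rw [← e2]; abel
    have hκ : cj κ = κ := by
      have e4 : h x s = r * h s s + κ := by rw [e3, h_add_left, h_smul_left, h_smul_left, hus, mul_one]
      have e5 := (hadd _ hx _ hs).2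
      have e6 : cj (h x s) = h x s := by rw [cj_h hF, e5]
      rw [e4, map_add, map_mul, hr, cj_h_self hF] at e6
      linear_combination e6
    have e7 : h x w = r * h s w + κ * h u w := by rw [e3, h_add_left, h_smul_left, h_smul_left]
    have e8 : h w x = r * h w s + κ * h w u := by
      rw [e3, h_add_right hF, h_smul_right hF, h_smul_right hF, hr, hκ]
    have e9 : h (( c * r) • u) x = c * r * r := by
      rw [h_smul_left, (hadd _ huS _ hx).2, hxr]
    rw [e9, h_add_right hF, h_add_left, h_smul_right hF, h_smul_left, hcr, e7, e8] at e1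
    linear_combination e1 + (κ + c * r) * hTu
  -- the contradiction
  obtain ⟨m1, hm1⟩ := hmain 1 (map_one cj)
  obtain ⟨c, hc, hc0, hc1⟩ : ∃ c : F, cj c = c ∧ c ≠ 0 ∧ c ≠ 1 := by
    by_contra hcon
    push Not at hcon
    have h1 : Nat.card {a : F // cj a = a} ≤ ({0, 1} : Finset F).card := by
      rw [← Nat.card_eq_finsetCard ({0, 1} : Finset F)]
      refine Nat.card_le_card_of_injective (fun a => ⟨a.1, ?_⟩) fun a a' haa => Subtype.ext (congrArg Subtype.val haa :)
      simp only [Finset.mem_insert, Finset.mem_singleton]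
      exact or_iff_not_imp_left.2 (hcon a.1 a.2)
    rw [card_fixed hF] at h1
    have := Finset.card_le_two (a := (0 : F)) (b := 1)
    omega
  obtain ⟨mc, hmc⟩ := hmain c hc
  have hcc : cj (c * c) = c * c := by rw [map_mul, hc]
  have e1 := hmc c hc
  have e2 := hm1 (c * c) hcc
  have e3 := hmc 1 (map_one cj)
  have e4 := hm1 c hc
  rw [one_mul] at e2 e4
  rw [mul_one, mul_one] at e3
  have h5 : (c * (c - 1)) * (c * (c - 1)) = 0 := by
    linear_combination e1 - e2 - c * (e3 - e4)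
  exact mul_ne_zero hc0 (sub_ne_zero.2 hc1) (mul_self_eq_zero.1 h5)

omit hsmall in
/-- The characters of the elements of trace zero. -/
theorem exists_real_coeff (D : Data hF) (ψ : AddChar (skew hF) ℂ) :
    ∃ (g : F) (hg : cj g = g), ∀ c : skew hF, ψ c = D.χ ⟨g * c, real_mul_skew hF hg ((mem_skew hF).1 c.2)⟩ := by
  classical
  let f : {a : F // cj a = a} → AddChar (skew hF) ℂ := fun r =>
    { toFun := fun c => D.χ ⟨r.1 * c, real_mul_skew hF r.2 ((mem_skew hF).1 c.2)⟩
      map_zero_eq_one' := by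
        rw [show (⟨r.1 * ((0 : skew hF) : F), real_mul_skew hF r.2 ((mem_skew hF).1 (0 : skew hF).2)⟩ : skew hF) = 0
          from Subtype.ext (mul_zero r.1), AddChar.map_zero_eq_one]
      map_add_eq_mul' := fun a b => by
        rw [← AddChar.map_add_eq_mul]
        exact congrArg D.χ (Subtype.ext (mul_add r.1 (a : F) (b : F))) }
  have hinj : Function.Injective f := fun r r' hrr => by
    by_contra hne
    have hd : r.1 - r'.1 ≠ 0 := fun e0 => hne (Subtype.ext (sub_eq_zero.1 e0))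
    have hdr : cj (r.1 - r'.1) = r.1 - r'.1 := by rw [map_sub, r.2, r'.2]
    have hc : (r.1 - r'.1)⁻¹ * D.c0 + cj ((r.1 - r'.1)⁻¹ * D.c0) = 0 :=
      real_mul_skew hF (by rw [map_inv₀, hdr]) D.c0_skew
    have h1 := DFunLike.congr_fun hrr ⟨_, hc⟩
    change D.χ ⟨r.1 * _, _⟩ = D.χ ⟨r'.1 * _, _⟩ at h1
    refine D.χ_ne (mul_left_cancel₀ ?_ ?_ (a := D.χ ⟨r'.1 * ((r.1 - r'.1)⁻¹ * D.c0), real_mul_skew hF r'.2 hc⟩))
    · exact ((AddChar.val_isUnit D.χ _)).ne_zero
    rw [mul_one, ← AddChar.map_add_eq_mul]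
    refine Eq.trans (congrArg D.χ (Subtype.ext ?_)) h1
    show r'.1 * ((r.1 - r'.1)⁻¹ * D.c0) + D.c0 = r.1 * ((r.1 - r'.1)⁻¹ * D.c0)
    field_simp
    ring
  have hb := (Nat.bijective_iff_injective_and_card f).2 ⟨hinj, by
    rw [card_fixed hF, Nat.card_eq_fintype_card, AddChar.card_eq, ← Nat.card_eq_fintype_card, card_skew hF]⟩
  obtain ⟨⟨g, hg⟩, e1⟩ := hb.2 ψ
  exact ⟨g, hg, fun c => (DFunLike.congr_fun e1 c).symm⟩

omit hsmall in
/-- The characters of the field. -/
theorem exists_field_coeff (D : Data hF) (ψ : AddChar F ℂ) :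
    ∃ a : F, ∀ x : F, ψ x = psi hF D.c0_skew D.χ (a * x) := by
  classical
  let f : F → AddChar F ℂ := fun a => (psi hF D.c0_skew D.χ).compAddMonoidHom (AddMonoidHom.mulLeft a)
  have hinj : Function.Injective f := fun a a' haa => by
    by_contra hne
    obtain ⟨x, hx⟩ := psi_ne hF D.c0_skew D.χ D.c0_ne D.χ_ne
    have h1 : psi hF D.c0_skew D.χ (a * ((a - a')⁻¹ * x)) = psi hF D.c0_skew D.χ (a' * ((a - a')⁻¹ * x)) :=
      DFunLike.congr_fun haa _
    rw [show a * ((a - a')⁻¹ * x) = a' * ((a - a')⁻¹ * x) + x by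
      field_simp [sub_ne_zero.2 hne]; ring, AddChar.map_add_eq_mul] at h1
    exact hx (mul_eq_left₀ (AddChar.val_isUnit _ _).ne_zero |>.1 h1)
  have hb := (Nat.bijective_iff_injective_and_card f).2 ⟨hinj, by
    rw [Nat.card_eq_fintype_card, Nat.card_eq_fintype_card, AddChar.card_eq]⟩
  obtain ⟨a, e1⟩ := hb.2 ψ
  exact ⟨a, fun x => (DFunLike.congr_fun e1 x).symm⟩

include D in
/-- There is no such action when the field has more than four elements. -/
theorem not_small (hq3 : 3 ≤ q) : False := by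
  classical
  obtain ⟨u, u', hu, hu', Pu⟩ := exists_wPair hF D.pair
  obtain ⟨b, hScard, hI⟩ := exists_orbit hF D hsmall hu Pu.ee
  obtain ⟨φ, hφ, hadd⟩ := exists_phi hF D hsmall b
  have hu0 : u ≠ 0 := Pu.ne_zero
  have hline : ∀ l : F, l • u ∈ D.S b := by
    have hS : ∀ s : D.S b, (s : V) = h (s : V) u' • u := fun s =>
      perp_eq hF D.pair hu hu' Pu (S_le hF D s.2) (perp_of_inv hF D hsmall hq3 hScard hu Pu.ee hI s.2)
    have hb := (Nat.bijective_iff_injective_and_card (fun s : D.S b => h (s : V) u')).2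
      ⟨fun x y hxy => Subtype.ext (by rw [hS x, hS y, show h (x : V) u' = _ from hxy]),
        by rw [hScard, Nat.card_eq_fintype_card, hF]⟩
    intro l
    obtain ⟨s, hs⟩ := hb.2 l
    rw [← show h (s : V) u' = l from hs, ← hS]
    exact s.2
  have hφs : ∀ l : F, φ (l • u) + cj (φ (l • u)) = 0 := fun l => by
    obtain ⟨H, -⟩ := hφ _ (hline l)
    have := H.cc
    rwa [cj_pow hF, h_smul_left, h_smul_right hF, Pu.ee, mul_zero, mul_zero, add_zero] at this
  let Φ : F →+ skew hF := AddMonoidHom.mk' (fun l => ⟨φ (l • u), hφs l⟩) fun x y => Subtype.ext (by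
    show φ ((x + y) • u) = φ (x • u) + φ (y • u)
    rw [add_smul, (hadd _ (hline x) _ (hline y)).1, h_smul_left, h_smul_right hF, Pu.ee, mul_zero, mul_zero,
      sub_zero])
  let E : F → SU 4 F q := fun l => eSU hF (e := D.e) (w := l • u) (c := φ (l • u))
    ⟨D.pair.ee, (D.W.smul_mem l hu).1, by
      rw [cj_pow hF, h_smul_left, h_smul_right hF, Pu.ee, mul_zero, mul_zero, add_zero]; exact hφs l⟩
  have hEb : ∀ l, E l • b = b := fun l => by
    obtain ⟨H, hb⟩ := hφ _ (hline l)
    exact hb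
  let t : skew hF → SU 4 F q := fun c => tv hF Pu.ee c
  have htz : ∀ c d, t c * D.z d = D.z d * t c := fun c d => tv_comm_of_fix hF D (by
    rw [suVal_tv, tv_apply' hF, h_comm_zero hF hu.1, mul_zero, zero_smul, add_zero]) d
  have hEz : ∀ l d, E l * D.z d = D.z d * E l := fun l d => tv_comm_of_fix hF D
    (Q_fix hF D (eSU_mem_heisX hF (D.W.smul_mem l hu) _)) d
  have hγ : ∀ c : skew hF, ∃ γ : skew hF, (D.z γ * t c) • b = b := by
    intro c
    obtain ⟨w', hw', k, g, Hk, eg, hgb⟩ := hI c ((mem_skew hF).1 c.2)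
    have hperp : ∀ l : F, cj l * h w' u = l * h u w' := by
      intro l
      obtain ⟨-, h1⟩ := conj_fact hF D hsmall hu Pu.ee hφ ((mem_skew hF).1 c.2) hw' Hk eg hgb (hline l)
      rw [h_smul_left, Pu.ee, mul_zero, mul_zero, zero_smul, add_zero, h_smul_right hF, h_smul_left] at h1
      linear_combination -h1
    obtain ⟨l, hl⟩ : ∃ l : F, cj l ≠ l := by
      by_contra hcon
      push Not at hcon
      exact qFrob_ne_id hF (RingHom.ext hcon)
    have e1 := hperp 1
    have e2 := hperp l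
    rw [map_one, one_mul, one_mul] at e1
    rw [← e1] at e2
    have hwu : h w' u = 0 := (mul_eq_zero.1 (show (cj l - l) * h w' u = 0 by linear_combination e2)).resolve_left
      (sub_ne_zero.2 hl)
    set κ := h w' u'
    have hw'e : w' = κ • u := perp_eq hF D.pair hu hu' Pu hw' hwu
    have hd : (k - φ (κ • u)) + cj (k - φ (κ • u)) = 0 := by
      have := Hk.cc
      rw [cj_pow hF, hw'e, h_smul_left, h_smul_right hF, Pu.ee, mul_zero, mul_zero, add_zero] at this
      rw [map_sub]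
      linear_combination this - hφs κ
    refine ⟨⟨_, hd⟩, ?_⟩
    have e3 : g = E κ * (D.z ⟨_, hd⟩ * t c) := suVal_ext (by
      rw [eg, suVal_mul, suVal_mul, suVal_eSU, show suVal (D.z ⟨_, hd⟩) = eMat q D.e 0 (k - φ (κ • u)) from rfl,
        suVal_tv, ← Matrix.mul_assoc,
        eMat_mul hF ⟨D.pair.ee, (D.W.smul_mem κ hu).1, by
          rw [cj_pow hF, h_smul_left, h_smul_right hF, Pu.ee]; linear_combination hφs κ⟩
          (eOK_transvection hF D.pair.ee hd), add_zero, h_zero_left, sub_zero, add_sub_cancel, ← hw'e])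
    rw [e3, mul_smul] at hgb
    have h3 := congrArg ((E κ)⁻¹ • ·) hgb
    simp only [inv_smul_smul] at h3
    rw [h3, inv_smul_eq_iff, hEb]
  choose γ hγb using hγ
  let Γ : skew hF →+ skew hF := AddMonoidHom.mk' γ fun c c' => by
    have e1 : (D.z (γ c + γ c') * t (c + c')) • b = b := by
      rw [show t (c + c') = t c * t c' from tv_add hF _ c c', show D.z (γ c + γ c') = D.z (γ c) * D.z (γ c') from
        tv_add hF _ _ _, mul_assoc, ← mul_assoc (D.z (γ c')), ← htz, mul_assoc, ← mul_assoc, mul_smul, hγb, hγb]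
    have e2 := hγb (c + c')
    have e3 : D.z (γ (c + c') - (γ c + γ c')) • b = b := by
      conv_lhs => arg 2; rw [← e1]
      rw [← mul_smul, ← mul_assoc, ← tv_add, sub_add_cancel, e2]
    exact sub_eq_zero.1 (C_triv hF D hsmall e3)
  -- the choice of the centre
  obtain ⟨g, hgr, hg⟩ := exists_real_coeff hF D (D.χ.compAddMonoidHom Γ)
  obtain ⟨a, ha⟩ := exists_field_coeff hF D (D.χ.compAddMonoidHom Φ)
  obtain ⟨ν, hν⟩ := exists_norm hF (a := g + D.c0 * a * cj (D.c0 * a)) (by
    rw [map_add, hgr, map_mul, cj_cj, mul_comm (cj (D.c0 * a))])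
  set μ := D.c0 * a + ν with hμ
  have hN : cj (μ * cj μ) = μ * cj μ := by rw [map_mul, cj_cj, mul_comm]
  let L : skew hF →+ skew hF := AddMonoidHom.mk'
    (fun c => Γ c + Φ ((c : F) * cj μ) - ⟨μ * cj μ * c, real_mul_skew hF hN ((mem_skew hF).1 c.2)⟩)
    fun x y => by
      refine Subtype.ext ?_
      simp only [map_add, AddSubgroup.coe_add, AddSubgroupClass.coe_sub, add_mul]
      ring
  have hLχ : ∀ c, D.χ (L c) = 1 := by
    intro c
    have e1 : D.χ (Γ c) = _ := hg c
    have e2 : D.χ (Φ ((c : F) * cj μ)) = psi hF D.c0_skew D.χ (a * ((c : F) * cj μ)) := ha _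
    have e3 : psi hF D.c0_skew D.χ (a * ((c : F) * cj μ)) = D.χ ⟨_, _⟩ := rfl
    show D.χ (_ - _) = 1
    rw [sub_eq_add_neg, AddChar.map_add_eq_mul, AddChar.map_add_eq_mul, e1, e2, e3, ← AddChar.map_add_eq_mul,
      ← AddChar.map_add_eq_mul]
    convert AddChar.map_zero_eq_one D.χ
    refine Subtype.ext ?_
    simp only [AddSubgroup.coe_add, NegMemClass.coe_neg, ZeroMemClass.coe_zero, map_mul, map_neg, cj_cj, hμ, map_add,
      eq_neg_of_add_eq_zero_right D.c0_skew, eq_neg_of_add_eq_zero_right ((mem_skew hF).1 c.2)] at hν ⊢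
    linear_combination -(c : F) * hν
  have hinj : Function.Injective L := by
    refine (injective_iff_map_eq_zero L).2 fun c hc => ?_
    by_contra hne
    have hcc : (c : F) + cj c = 0 := (mem_skew hF).1 c.2
    have hv0 : u + μ • D.e ≠ 0 := fun e0 => by
      have h1 := congrArg (fun z => h z u') e0
      simp only [h_add_left, h_smul_left, Pu.ef, h_comm_zero hF hu'.1, h_zero_left, mul_zero, add_zero] at h1
      exact one_ne_zero h1
    have hvv : h (u + μ • D.e) (u + μ • D.e) = 0 := by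
      simp only [h_add_left, h_add_right hF, h_smul_left, h_smul_right hF, Pu.ee, D.pair.ee, hu.1,
        h_comm_zero hF hu.1]
      ring
    refine free hF D hsmall hv0 hvv hne b ?_
    set l := (c : F) * cj μ
    have hd : μ * cj μ * (c : F) - φ (l • u) = (γ c : F) := by
      have h1 := congrArg Subtype.val hc
      change ((γ c : F) + φ (l • u)) - μ * cj μ * (c : F) = 0 at h1
      linear_combination -h1
    have e1 : tv hF hvv c = (D.z (γ c) * t c) * E l := suVal_ext (by
      rw [← htz, mul_assoc, ← hEz, suVal_mul, suVal_mul, suVal_tv, suVal_tv, suVal_eSU, suVal_tv,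
        tv_split hF Pu.ee hu.1 hcc, eMat_mul hF ⟨D.pair.ee, (D.W.smul_mem l hu).1, by
          rw [cj_pow hF, h_smul_left, h_smul_right hF, Pu.ee]; linear_combination hφs l⟩
          (eOK_transvection hF D.pair.ee ((mem_skew hF).1 (γ c).2)), add_zero, h_zero_left, sub_zero, ← hd,
        add_sub_cancel, mul_comm (μ * cj μ)])
    rw [e1, mul_smul, hEb, hγb]
  obtain ⟨c, hc⟩ := (Finite.injective_iff_surjective.1 hinj) ⟨D.c0, D.c0_skew⟩
  exact D.χ_ne (hc ▸ hLχ c)

end Cfsg.Agent.Lie.MinIndexFour
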