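import Cfsg.Agent.Lib.Lie.MinIndexOrthCount

/-! If few orbits pass through an anisotropic vector, the characters of each of them are a part of its line or
everything. -/

set_option autoImplicit false
set_option linter.unusedSectionVars false
set_option quotPrecheck false

namespace Cfsg.Agent.Lie.MinIndexOrth

open Cfsg Matrix Module MulAction Cfsg.Agent.Classical Cfsg.Agent.Classical.OrthAut

universe u

theorem perm_three : ∀ a b : Equiv.Perm (Fin 3),
    a ^ 2 = 1 → b ^ 2 = 1 → (a * b * a⁻¹ * b⁻¹) ^ 2 = 1 → a * b * a⁻¹ * b⁻¹ = 1 := by decide +kernel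

theorem perm_four : ∀ a b : Equiv.Perm (Fin 4),
    a ^ 3 = 1 → b ^ 3 = 1 → (a * b * a⁻¹ * b⁻¹) ^ 3 = 1 → a * b * a⁻¹ * b⁻¹ = 1 := by decide +kernel

variable {F : Type*} [Field F] [Fintype F] {ι : Type} [Fintype ι] [DecidableEq ι]
  {Q : QuadraticForm F (ι → F)}

local notation "V" => (ι → F)
local notation "B" => QuadraticMap.polar ⇑Q
local notation "GG" => (↥(Omega F ⇑Q))
local notation "q" => Fintype.card F

variable {X : Type u} [MulAction (Omega F ⇑Q) X] [Fintype X] {e f : ι → F} {χ : AddChar F ℂ}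

variable (D : Set2 Q e f χ)
include D

/-- The stabiliser of the pair and of a vector. -/
def stab3 (D : Set2 Q e f χ) (v : ι → F) : Subgroup (Omega F ⇑Q) where
  carrier := {g | gV g *ᵥ e = e ∧ gV g *ᵥ f = f ∧ gV g *ᵥ v = v}
  one_mem' := ⟨by rw [gV_one, Matrix.one_mulVec], by rw [gV_one, Matrix.one_mulVec],
    by rw [gV_one, Matrix.one_mulVec]⟩
  mul_mem' := by
    rintro a b ⟨h1, h2, h3⟩ ⟨k1, k2, k3⟩
    exact ⟨by rw [gV_mul_vec, k1, h1], by rw [gV_mul_vec, k2, h2], by rw [gV_mul_vec, k3, h3]⟩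
  inv_mem' := by
    rintro a ⟨h1, h2, h3⟩
    exact ⟨by conv_lhs => rw [← h1, gV_inv_cancel], by conv_lhs => rw [← h2, gV_inv_cancel],
      by conv_lhs => rw [← h3, gV_inv_cancel]⟩

theorem stab3_lev {v : V} (g : stab3 D v) : Lev e f 1 (g : GG) :=
  ⟨one_ne_zero, by rw [one_smul]; exact g.2.1, by rw [inv_one, one_smul]; exact g.2.2.1⟩

theorem stab3_image {v : V} (g : stab3 D v) {o : Orb X D} {x : V} (hx : x ∈ oA D o) :
    gV (g : GG) *ᵥ x ∈ oA D (oMove D (stab3_lev D g) o) := by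
  have h := (stab3_lev D g).mem_oA D hx
  rwa [inv_one, one_smul] at h

/-- The action on the orbits through `v`. -/
noncomputable def stabMap (X : Type u) [MulAction (Omega F ⇑Q) X] [Fintype X] (D : Set2 Q e f χ) (v : ι → F)
    (g : stab3 D v) (o : {o : Orb X D // v ∈ oA D o}) : {o : Orb X D // v ∈ oA D o} :=
  ⟨oMove D (stab3_lev D g) o.1, by
    have h := stab3_image D g o.2
    rwa [g.2.2.2] at h⟩

theorem stabMap_val {v : V} (g : stab3 D v) (o : {o : Orb X D // v ∈ oA D o}) {x : X} (hx : orbOf D x = o.1) :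
    (stabMap X D v g o).1 = orbOf D ((g : GG) • x) := by
  rw [stabMap, ← oMove_orbOf D (stab3_lev D g), hx]

theorem stabMap_bijective {v : V} (g : stab3 D v) : Function.Bijective (stabMap X D v g) :=
  Finite.injective_iff_bijective.1 fun _ _ h =>
    Subtype.ext (oMove_injective D (stab3_lev D g) (congrArg Subtype.val h))

/-- The action as permutations. -/
noncomputable def stabAct (X : Type u) [MulAction (Omega F ⇑Q) X] [Fintype X] (D : Set2 Q e f χ) (v : ι → F) :
    stab3 D v →* Equiv.Perm {o : Orb X D // v ∈ oA D o} :=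
  MonoidHom.mk' (fun g => Equiv.ofBijective (stabMap X D v g) (stabMap_bijective D g)) fun g h =>
    Equiv.ext fun o => Subtype.ext (by
      obtain ⟨x, hx⟩ := orbOf_surj D o.1
      rw [Equiv.Perm.mul_apply, Equiv.ofBijective_apply, Equiv.ofBijective_apply, Equiv.ofBijective_apply,
        stabMap_val D (g * h) o hx, stabMap_val D g _ (x := (h : GG) • x) (stabMap_val D h o hx).symm,
        Subgroup.coe_mul, mul_smul])

theorem stabAct_fix {v : V} {g : stab3 D v} (hg : stabAct X D v g = 1) {o : Orb X D} (ho : v ∈ oA D o) {x : V}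
    (hx : x ∈ oA D o) : gV (g : GG) *ᵥ x ∈ oA D o := by
  have h := stab3_image D g hx
  have h1 := congrArg (fun σ : Equiv.Perm {o : Orb X D // v ∈ oA D o} => (σ ⟨o, ho⟩).1) hg
  rwa [show oMove D (stab3_lev D g) o = o from h1] at h

theorem card_through (v : V) :
    Nat.card {o : Orb X D // v ∈ oA D o} = (through X D v).card := by
  classical
  rw [Nat.card_eq_fintype_card, Fintype.card_subtype]
  exact Finset.card_bij (fun o _ => o) (fun o ho => mem_through D |>.2 (Finset.mem_filter.1 ho).2)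
    (fun _ _ _ _ h => h) (fun o ho => ⟨o, Finset.mem_filter.2 ⟨Finset.mem_univ _, (mem_through D).1 ho⟩, rfl⟩)

theorem elt_stab3 {a w v : V} (hav : B a v = 0) (hwv : B w v = 0) (hea : B e a = 0) (hfa : B f a = 0)
    (hew : B e w = 0) (hfw : B f w = 0) (h : OK Q a w) : elt (Q := Q) a w ∈ stab3 D v := by
  refine ⟨?_, ?_, ?_⟩ <;> rw [elt_apply D.hyp h]
  · rw [QuadraticMap.polar_comm _ a e, hea, QuadraticMap.polar_comm _ w e, hew]; simp
  · rw [QuadraticMap.polar_comm _ a f, hfa, QuadraticMap.polar_comm _ w f, hfw]; simp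
  · rw [hav, hwv]; simp

/-- The vectors `b` with `E(u,b)` fixing every orbit through `v`. -/
def Inv (X : Type u) [MulAction (Omega F ⇑Q) X] [Fintype X] (D : Set2 Q e f χ) (v u b : ι → F) : Prop :=
  OK Q u b ∧ ∀ o : Orb X D, v ∈ oA D o → ∀ x ∈ oA D o, gV (elt (Q := Q) u b) *ᵥ x ∈ oA D o

theorem Inv.step {v u b : V} (h : Inv X D v u b) {o : Orb X D} (ho : v ∈ oA D o) {x : V} (hx : x ∈ oA D o) :
    B u x • b - (B b x + Q b * B u x) • u ∈ oA D o := by
  have h1 := (oA D o).sub_mem (h.2 o ho x hx) hx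
  rw [elt_apply D.hyp h.1] at h1
  convert h1 using 1
  abel

theorem Inv.add {v u b b' : V} (h : Inv X D v u b) (h' : Inv X D v u b') : Inv X D v u (b + b') :=
  ⟨h.1.add h'.1, fun o ho x hx => by
    rw [elt_add D.hyp h.1 h'.1, gV_mul_vec]; exact h.2 o ho _ (h'.2 o ho x hx)⟩

theorem inv_of_lt {p : ℕ} [CharP F p] (hp : p.Prime) {v u b : V} (hk : (through X D v).card < p)
    (hu : Perp Q e f u) (huv : B u v = 0) (hb : Perp Q e f b) (hbv : B b v = 0) (h : OK Q u b) :
    Inv X D v u b := by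
  classical
  refine ⟨h, fun o ho x hx => ?_⟩
  set g : stab3 D v := ⟨_, elt_stab3 D huv hbv hu.1 hu.2 hb.1 hb.2 h⟩
  refine stabAct_fix D (g := g) ?_ ho hx
  set σ := stabAct X D v g
  have hσ : σ ^ p = 1 := by
    rw [← map_pow, show g ^ p = 1 from Subtype.ext (by
      rw [SubmonoidClass.coe_pow, OneMemClass.coe_one]; exact elt_pow_char D.hyp h), map_one]
  haveI : Fact p.Prime := ⟨hp⟩
  by_contra hne
  have h1 : orderOf σ = p := orderOf_eq_prime hσ hne
  have h2 := orderOf_dvd_card (x := σ)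
  rw [h1, Fintype.card_perm, ← Nat.card_eq_fintype_card, card_through D, hp.dvd_factorial] at h2
  omega

theorem inv_of_comm {v : ι → F} (hs : (CharP F 2 ∧ (through X D v).card ≤ 3) ∨ (CharP F 3 ∧ (through X D v).card ≤ 4))
    {u a z y : V} (hu : Perp Q e f u) (huv : B u v = 0) (ha : Perp Q e f a) (hav : B a v = 0)
    (hz : Perp Q e f z) (hzv : B z v = 0) (hy : Perp Q e f y) (hyv : B y v = 0)
    (hua : B a u = 0) (huz : B z u = 0) (hg : OK Q a z) (ht : OK Q u y) :
    Inv X D v u (B a y • z - (B z y + Q z * B a y) • a) := by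
  classical
  set b := B a y • z - (B z y + Q z * B a y) • a
  set g : stab3 D v := ⟨_, elt_stab3 D hav hzv ha.1 ha.2 hz.1 hz.2 hg⟩
  set t : stab3 D v := ⟨_, elt_stab3 D huv hyv hu.1 hu.2 hy.1 hy.2 ht⟩
  have hb : OK Q u b := ⟨ht.1, by
    rw [QuadraticMap.polar_comm, show b = B a y • z + (-(B z y + Q z * B a y)) • a by
      show _ - _ = _; module, polar_add_l, polar_smul_l, polar_smul_l, huz, hua]; ring⟩
  have hc : (g * t * g⁻¹ * t⁻¹ : stab3 D v).1 = elt (Q := Q) u b := by
    show elt (Q := Q) a z * elt u y * (elt a z)⁻¹ * (elt u y)⁻¹ = _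
    have hgu : gV (elt (Q := Q) a z) *ᵥ u = u := by
      rw [elt_apply D.hyp hg, hua, huz]; simp
    rw [elt_conj D.hyp _ ht, hgu, ← elt_neg D.hyp ht]
    have h' : OK Q u (gV (elt (Q := Q) a z) *ᵥ y) := ⟨ht.1, by
      conv_lhs => rw [← hgu]
      rw [gV_polar, ht.2]⟩
    rw [← elt_add D.hyp h' (by simpa using ht.smul (-1)), elt_apply D.hyp hg]
    congr 1
    show _ = B a y • z - _
    abel
  refine ⟨hb, fun o ho x hx => ?_⟩
  rw [← hc]
  refine stabAct_fix D (g := g * t * g⁻¹ * t⁻¹) ?_ ho hx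
  set K := {o : Orb X D // v ∈ oA D o}
  have hpow : ∀ (p : ℕ) [CharP F p] (s : stab3 D v) (a' b' : V), OK Q a' b' → (s : GG) = elt (Q := Q) a' b' →
      stabAct X D v s ^ p = 1 := by
    intro p _ s a' b' h e1
    rw [← map_pow, show s ^ p = 1 from Subtype.ext (by
      rw [SubmonoidClass.coe_pow, OneMemClass.coe_one, e1]; exact elt_pow_char D.hyp h), map_one]
  rw [map_mul, map_mul, map_mul, map_inv, map_inv]
  rcases hs with ⟨hp, hk⟩ | ⟨hp, hk⟩
  · obtain ⟨em⟩ := Function.Embedding.nonempty_of_card_le (α := K) (β := Fin 3)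
      (by rw [Fintype.card_fin, ← Nat.card_eq_fintype_card, card_through D]; exact hk)
    refine Equiv.Perm.viaEmbeddingHom_injective em ?_
    simp only [map_mul, map_inv, map_one]
    refine perm_three _ _ ?_ ?_ ?_
    · rw [← map_pow, hpow 2 g a z hg rfl, map_one]
    · rw [← map_pow, hpow 2 t u y ht rfl, map_one]
    · simp only [← map_inv, ← map_mul, ← map_pow]
      rw [map_pow (stabAct X D v), hpow 2 _ u b hb hc, map_one]
  · obtain ⟨em⟩ := Function.Embedding.nonempty_of_card_le (α := K) (β := Fin 4)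
      (by rw [Fintype.card_fin, ← Nat.card_eq_fintype_card, card_through D]; exact hk)
    refine Equiv.Perm.viaEmbeddingHom_injective em ?_
    simp only [map_mul, map_inv, map_one]
    refine perm_four _ _ ?_ ?_ ?_
    · rw [← map_pow, hpow 3 g a z hg rfl, map_one]
    · rw [← map_pow, hpow 3 t u y ht rfl, map_one]
    · simp only [← map_inv, ← map_mul, ← map_pow]
      rw [map_pow (stabAct X D v), hpow 3 _ u b hb hc, map_one]

/-! ### Vectors orthogonal to two pairs and `v` -/

/-- The orthogonal space of two pairs and a vector. -/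
def perp5 (Q : QuadraticForm F (ι → F)) (e f u u' v : ι → F) : Submodule F (ι → F) :=
  ⨅ i : Fin 5, LinearMap.ker (QuadraticMap.polarBilin Q (![e, f, u, u', v] i))

omit D in
theorem mem_perp5 {u u' v b : V} :
    b ∈ perp5 Q e f u u' v ↔ Perp Q e f b ∧ Perp Q u u' b ∧ B v b = 0 := by
  simp only [perp5, Submodule.mem_iInf, LinearMap.mem_ker, Fin.forall_fin_succ, IsEmpty.forall_iff, and_true]
  exact ⟨fun ⟨h1, h2, h3, h4, h5⟩ => ⟨⟨h1, h2⟩, ⟨h3, h4⟩, h5⟩,
    fun ⟨⟨h1, h2⟩, ⟨h3, h4⟩, h5⟩ => ⟨h1, h2, h3, h4, h5⟩⟩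

omit D in
theorem finrank_kernels {k : ℕ} (z : Fin k → V) :
    Fintype.card ι - k ≤ finrank F ↥(⨅ i, LinearMap.ker (QuadraticMap.polarBilin Q (z i))) := by
  let L : V →ₗ[F] (Fin k → F) := LinearMap.pi fun i => QuadraticMap.polarBilin Q (z i)
  have e1 : LinearMap.ker L = ⨅ i, LinearMap.ker (QuadraticMap.polarBilin Q (z i)) := LinearMap.ker_pi _
  rw [← e1]
  have h := LinearMap.finrank_range_add_finrank_ker L
  have h2 := Submodule.finrank_le (LinearMap.range L)
  rw [Module.finrank_pi] at h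
  rw [Module.finrank_pi, Fintype.card_fin] at h2
  omega

/-- Partners inside the orthogonal space. -/
theorem exists_partner5 {u u' v b : V} (Pu : Pair Q u u') (hu : Perp Q e f u) (hu' : Perp Q e f u')
    (hv : Perp Q e f v) (hv' : Perp Q u u' v) (hb : b ∈ perp5 Q e f u u' v) (hbv : ∀ c : F, b ≠ c • v)
    (hv0 : v ≠ 0) : ∃ b' ∈ perp5 Q e f u u' v, B b b' = 1 := by
  obtain ⟨hb1, hb2, -⟩ := mem_perp5.1 hb
  have li : LinearIndependent F ![b, e, f, u, u', v] := by
    rw [Fintype.linearIndependent_iff]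
    intro g hg
    simp [Fin.sum_univ_six] at hg
    have P := D.pair
    have e1 := congrArg (B e) hg
    have e2 := congrArg (B f) hg
    have e3 := congrArg (B u) hg
    have e4 := congrArg (B u') hg
    simp [QuadraticMap.polar_add_right, QuadraticMap.polar_smul_right, hb1.1, hb1.2, hb2.1, hb2.2, hv.1, hv.2,
      hv'.1, hv'.2, hu.1, hu.2, hu'.1, hu'.2, P.2.2, Pu.2.2, polar_self' P.1, polar_self' P.2.1,
      polar_self' Pu.1, polar_self' Pu.2.1, QuadraticMap.polar_comm _ f e, QuadraticMap.polar_comm _ u' u,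
      QuadraticMap.polar_comm _ u e, QuadraticMap.polar_comm _ u f, QuadraticMap.polar_comm _ u' e,
      QuadraticMap.polar_comm _ u' f] at e1 e2 e3 e4
    rw [e1, e2, e3, e4] at hg
    simp only [zero_smul, add_zero] at hg
    have h0 : g 0 = 0 := by
      by_contra h0
      refine hbv (-(g 0)⁻¹ * g 5) ?_
      linear_combination (norm := skip) (g 0)⁻¹ • hg
      match_scalars <;> field_simp <;> ring
    rw [h0, zero_smul, zero_add, smul_eq_zero] at hg
    intro i
    fin_cases i
    · exact h0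
    · exact e2
    · exact e1
    · exact e4
    · exact e3
    · exact hg.resolve_right hv0
  obtain ⟨z, hz⟩ := exists_polar D.hyp.nd li ![1, 0, 0, 0, 0, 0]
  exact ⟨z, mem_perp5.2 ⟨⟨hz 1, hz 2⟩, ⟨hz 3, hz 4⟩, hz 5⟩, hz 0⟩

/-- Scaled admissible vectors. -/
def Good (X : Type u) [MulAction (Omega F ⇑Q) X] [Fintype X] (D : Set2 Q e f χ) (v u b : ι → F) : Prop :=
  ∀ c : F, Inv X D v u (c • b)

/-- Every pair orthogonal to `v` has two admissible vectors that are not orthogonal. -/
def Rich (X : Type u) [MulAction (Omega F ⇑Q) X] [Fintype X] (D : Set2 Q e f χ) (v : ι → F) : Prop :=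
  ∀ u u' : ι → F, Pair Q u u' → Perp Q e f u → Perp Q e f u' → B u v = 0 → B u' v = 0 →
    ∃ b b', Good X D v u b ∧ Good X D v u b' ∧ B b b' ≠ 0

/-- Few orbits through `v`: fewer than the characteristic, or few enough that commutators act trivially. -/
def Small (X : Type u) [MulAction (Omega F ⇑Q) X] [Fintype X] (D : Set2 Q e f χ) (v : ι → F) : Prop :=
  (∃ p : ℕ, p.Prime ∧ CharP F p ∧ (through X D v).card < p) ∨
    (8 ≤ Fintype.card ι ∧ ((CharP F 2 ∧ (through X D v).card ≤ 3) ∨ (CharP F 3 ∧ (through X D v).card ≤ 4))) ∨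
    Rich X D v

theorem exists_outside {u u' v : V} :
    ∃ b ∈ perp5 Q e f u u' v, ∀ c : F, b ≠ c • v := by
  by_contra hcon
  push Not at hcon
  have h1 : perp5 Q e f u u' v ≤ Submodule.span F {v} := fun b hb => by
    obtain ⟨c, rfl⟩ := hcon b hb
    exact Submodule.smul_mem _ _ (Submodule.mem_span_singleton_self v)
  have h2 := (Submodule.finrank_mono h1).trans (finrank_span_le_card ({v} : Set V))
  have h3 : Fintype.card ι - 5 ≤ finrank F (perp5 Q e f u u' v) := finrank_kernels _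
  have := D.hyp.seven
  simp at h2
  omega

/-- Two admissible vectors that are not orthogonal. -/
theorem exists_rich {v : ι → F} (hS : Small X D v) (hv : Perp Q e f v) (hvv : Q v ≠ 0) {u u' : V} (Pu : Pair Q u u')
    (hu : Perp Q e f u) (hu' : Perp Q e f u') (huv : B u v = 0) (hu'v : B u' v = 0) :
    ∃ b b', Good X D v u b ∧ Good X D v u b' ∧ B b b' ≠ 0 := by
  have hv0 : v ≠ 0 := fun h0 => hvv (by rw [h0, QuadraticMap.map_zero])
  obtain ⟨y, hy, hy'⟩ := exists_outside D (u := u) (u' := u') (v := v)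
  rcases hS with ⟨p, hp, hc, hk⟩ | ⟨h8, hS⟩ | hrich
  rotate_right
  · exact hrich u u' Pu hu hu' huv hu'v
  · obtain ⟨y', hy1, hyy⟩ := exists_partner5 D Pu hu hu' hv ⟨huv, hu'v⟩ hy hy' hv0
    have good : ∀ b ∈ perp5 Q e f u u' v, Good X D v u b := by
      intro b hb c
      obtain ⟨h1, h2, h3⟩ := mem_perp5.1 hb
      exact inv_of_lt D hp hk hu huv (h1.smul c)
        (by rw [polar_smul_l, QuadraticMap.polar_comm, h3, mul_zero]) ⟨Pu.1, by rw [polar_smul_r, h2.1, mul_zero]⟩
    exact ⟨y, y', good y hy, good y' hy1, by rw [hyy]; exact one_ne_zero⟩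
  have gd : ∀ {a a' z : V}, Pair Q a a' → a ∈ perp5 Q e f u u' v → a' ∈ perp5 Q e f u u' v →
      Perp Q e f z → B z v = 0 → B z u = 0 → Perp Q a a' z → Good X D v u (z - Q z • a) := by
    intro a a' z Pa ha ha' hz hzv hzu hza c
    obtain ⟨a1, a2, a3⟩ := mem_perp5.1 ha
    obtain ⟨b1, b2, b3⟩ := mem_perp5.1 ha'
    have h := inv_of_comm D hS hu huv a1 (by rw [QuadraticMap.polar_comm]; exact a3) hz hzv (b1.smul c)
      (by rw [polar_smul_l, QuadraticMap.polar_comm, b3, mul_zero])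
      (by rw [QuadraticMap.polar_comm]; exact a2.1) hzu ⟨Pa.1, hza.1⟩
      ⟨Pu.1, by rw [polar_smul_r, b2.1, mul_zero]⟩
    rwa [polar_smul_r, polar_smul_r, Pa.2.2, QuadraticMap.polar_comm _ z a', hza.2,
      show (c * (1 : F)) • z - (c * 0 + Q z * (c * 1)) • a = c • (z - Q z • a) by module] at h
  have getPartner : ∀ {a : V}, a ∈ perp5 Q e f u u' v → Q a = 0 → (∀ c : F, a ≠ c • v) →
      ∃ a', Pair Q a a' ∧ a' ∈ perp5 Q e f u u' v := by
    intro a ha haa hav
    obtain ⟨z, hz, h1⟩ := exists_partner5 D Pu hu hu' hv ⟨huv, hu'v⟩ ha hav hv0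
    refine ⟨z + (-Q z) • a, ⟨haa, ?_, ?_⟩, add_mem hz (Submodule.smul_mem _ _ ha)⟩
    · rw [quad_add_smul, haa, QuadraticMap.polar_comm, h1]; ring
    · rw [QuadraticMap.polar_add_right, h1, polar_smul_r, polar_self' haa, mul_zero, add_zero]
  by_cases h2 : (2 : F) = 0
  · -- the radical vector
    haveI : CharP F 2 := CharTwo.of_one_ne_zero_of_two_eq_zero one_ne_zero h2
    have hvv2 : B v v = 0 := by rw [polar_self2, h2, zero_mul]
    have hvK : v ∈ perp5 Q e f u u' v := mem_perp5.2 ⟨hv, ⟨huv, hu'v⟩, hvv2⟩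
    obtain ⟨c, hc⟩ := FiniteField.isSquare_of_char_two (ringChar.eq F 2) (Q y / Q v)
    have hc' : Q y = c * c * Q v := by rw [← hc, div_mul_cancel₀ _ hvv]
    set a := y + c • v
    have ha : a ∈ perp5 Q e f u u' v := add_mem hy (Submodule.smul_mem _ _ hvK)
    have haa : Q a = 0 := by
      rw [quad_add_smul, hc', QuadraticMap.polar_comm, (mem_perp5.1 hy).2.2]
      linear_combination (c * c * Q v) * h2
    have hav : ∀ k : F, a ≠ k • v := fun k hk => hy' (k - c) (by
      linear_combination (norm := module) hk)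
    obtain ⟨a', Pa, ha'⟩ := getPartner ha haa hav
    obtain ⟨-, -, a3⟩ := mem_perp5.1 ha
    obtain ⟨-, -, b3⟩ := mem_perp5.1 ha'
    refine ⟨v - Q v • a, v - Q v • a', gd Pa ha ha' hv hvv2 (by rw [QuadraticMap.polar_comm]; exact huv)
      ⟨by rw [QuadraticMap.polar_comm]; exact a3, by rw [QuadraticMap.polar_comm]; exact b3⟩,
      gd Pa.symm ha' ha hv hvv2 (by rw [QuadraticMap.polar_comm]; exact huv)
      ⟨by rw [QuadraticMap.polar_comm]; exact b3, by rw [QuadraticMap.polar_comm]; exact a3⟩, ?_⟩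
    rw [QuadraticMap.polar_sub_left, QuadraticMap.polar_sub_right, QuadraticMap.polar_sub_right, polar_smul_l,
      polar_smul_l, polar_smul_r, polar_smul_r, hvv2, QuadraticMap.polar_comm _ a v, a3, b3, Pa.2.2]
    simpa using mul_ne_zero hvv hvv
  -- an isotropic vector in odd characteristic
  have hKnd : ∀ w ∈ perp5 Q e f u u' v, w ≠ 0 → ∃ z ∈ perp5 Q e f u u' v, B w z = 1 := fun w hw hw0 =>
    exists_partner5 D Pu hu hu' hv ⟨huv, hu'v⟩ hw (fun c e0 => by
      have h1 := (mem_perp5.1 hw).2.2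
      rw [e0, polar_smul_r, polar_self2, mul_eq_zero] at h1
      exact hw0 (by rw [e0, h1.resolve_right (mul_ne_zero h2 hvv), zero_smul])) hv0
  obtain ⟨y, hy, hyy⟩ : ∃ y ∈ perp5 Q e f u u' v, Q y ≠ 0 := by
    obtain ⟨z, hz, hyz⟩ := hKnd y hy (fun e0 => hy' 0 (by rw [e0, zero_smul]))
    by_contra hcon
    push Not at hcon
    rw [QuadraticMap.polar, hcon _ (add_mem hy hz), hcon _ hy, hcon _ hz] at hyz
    simp at hyz
  set K' := perp5 Q e f u u' v ⊓ LinearMap.ker (QuadraticMap.polarBilin Q y)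
  have hK'nd : ∀ w ∈ K', w ≠ 0 → ∃ z ∈ K', B w z ≠ 0 := by
    rintro w ⟨hw, hwy⟩ hw0
    obtain ⟨z, hz, hwz⟩ := hKnd w hw hw0
    refine ⟨z - (B y z / B y y) • y, ⟨sub_mem hz (Submodule.smul_mem _ _ hy), ?_⟩, ?_⟩
    · show B y _ = 0
      rw [QuadraticMap.polar_sub_right, polar_smul_r, polar_self2, div_mul_cancel₀ _ (mul_ne_zero h2 hyy), sub_self]
    · rw [QuadraticMap.polar_sub_right, polar_smul_r, hwz, QuadraticMap.polar_comm _ w y,
        show B y w = 0 from hwy, mul_zero, sub_zero]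
      exact one_ne_zero
  have hd : 2 ≤ finrank F K' := by
    have h1 : K' = ⨅ i : Fin 6, LinearMap.ker (QuadraticMap.polarBilin Q (![e, f, u, u', v, y] i)) := by
      ext w
      simp only [K', Submodule.mem_inf, mem_perp5, Submodule.mem_iInf, Fin.forall_fin_succ, IsEmpty.forall_iff,
        and_true, LinearMap.mem_ker]
      exact ⟨fun ⟨⟨⟨h1, h2⟩, ⟨h3, h4⟩, h5⟩, h6⟩ => ⟨h1, h2, h3, h4, h5, h6⟩,
        fun ⟨h1, h2, h3, h4, h5, h6⟩ => ⟨⟨⟨h1, h2⟩, ⟨h3, h4⟩, h5⟩, h6⟩⟩
    rw [h1]
    exact le_trans (by omega : 2 ≤ Fintype.card ι - 6) (finrank_kernels (Q := Q) ![e, f, u, u', v, y])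
  obtain ⟨w, hw, hwQ⟩ := exists_value_in D.hyp.nd h2 hK'nd hd (-Q y)
  have ha : y + w ∈ perp5 Q e f u u' v := add_mem hy hw.1
  have haa : Q (y + w) = 0 := by rw [quad_add, hwQ, show B y w = 0 from hw.2]; ring
  have hay : B y (y + w) = 2 * Q y := by
    rw [QuadraticMap.polar_add_right, show B y w = 0 from hw.2, polar_self2, add_zero]
  have hav : ∀ k : F, y + w ≠ k • v := fun k hk => mul_ne_zero h2 hyy (by
    rw [← hay, hk, polar_smul_r, QuadraticMap.polar_comm, (mem_perp5.1 hy).2.2, mul_zero])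
  obtain ⟨a', Pa, ha'⟩ := getPartner ha haa hav
  set a := y + w
  -- an anisotropic vector orthogonal to the pair
  obtain ⟨z, hz, hzQ, hza⟩ : ∃ z ∈ perp5 Q e f u u' v, Q z ≠ 0 ∧ Perp Q a a' z := by
    by_contra hcon
    push Not at hcon
    have hno : ∀ s ∈ perp5 Q e f u u' v, Perp Q a a' s → Q s = 0 := fun s hs hs' => by
      by_contra hsQ
      exact hcon s hs hsQ hs'
    have hproj : ∀ s ∈ perp5 Q e f u u' v, proj Q a a' s ∈ perp5 Q e f u u' v := fun s hs =>
      sub_mem (sub_mem hs (Submodule.smul_mem _ _ ha)) (Submodule.smul_mem _ _ ha')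
    obtain ⟨z, hz, hz1, hz2⟩ : ∃ z ∈ perp5 Q e f u u' v, Perp Q a a' z ∧ z ≠ 0 := by
      by_contra hcon2
      push Not at hcon2
      have hle : perp5 Q e f u u' v ≤ Submodule.span F {a} ⊔ Submodule.span F {a'} := fun x hx => by
        rw [pair_decomp Pa x, hcon2 _ (hproj x hx) (perp_proj Pa x), add_zero]
        exact Submodule.add_mem_sup (Submodule.smul_mem _ _ (Submodule.mem_span_singleton_self a))
          (Submodule.smul_mem _ _ (Submodule.mem_span_singleton_self a'))
      have h4 := Submodule.finrank_mono hle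
      have h4' := Submodule.finrank_add_le_finrank_add_finrank (Submodule.span F {a}) (Submodule.span F {a'})
      have h6 := finrank_span_le_card (R := F) ({a} : Set V)
      have h6' := finrank_span_le_card (R := F) ({a'} : Set V)
      simp at h6 h6'
      have h5 : Fintype.card ι - 5 ≤ finrank F (perp5 Q e f u u' v) := finrank_kernels _
      omega
    obtain ⟨t, ht, hzt⟩ := hKnd z hz hz2
    have h7 : B z (proj Q a a' t) = 1 := by rw [polar_proj hz1, hzt]
    rw [QuadraticMap.polar, hno _ (add_mem hz (hproj t ht)) (hz1.add (perp_proj Pa t)), hno _ hz hz1,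
      hno _ (hproj t ht) (perp_proj Pa t)] at h7
    simp at h7
  obtain ⟨z1, z2, z3⟩ := mem_perp5.1 hz
  have g1 := gd Pa ha ha' z1 (by rw [QuadraticMap.polar_comm]; exact z3) (by rw [QuadraticMap.polar_comm]; exact z2.1) hza
  have g2 := gd Pa.symm ha' ha z1 (by rw [QuadraticMap.polar_comm]; exact z3)
    (by rw [QuadraticMap.polar_comm]; exact z2.1) ⟨hza.2, hza.1⟩
  have g3 := gd Pa.symm ha' ha z1.neg (by rw [QuadraticMap.polar_neg_left, QuadraticMap.polar_comm, z3, neg_zero])
    (by rw [QuadraticMap.polar_neg_left, QuadraticMap.polar_comm, z2.1, neg_zero])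
    ⟨by rw [QuadraticMap.polar_neg_right, hza.2, neg_zero], by rw [QuadraticMap.polar_neg_right, hza.1, neg_zero]⟩
  by_cases hB : B (z - Q z • a) (z - Q z • a') ≠ 0
  · exact ⟨_, _, g1, g2, hB⟩
  push Not at hB
  refine ⟨_, _, g1, g3, fun hB' => ?_⟩
  simp only [QuadraticMap.polar_sub_left, QuadraticMap.polar_sub_right, polar_smul_l, polar_smul_r,
    QuadraticMap.map_neg, QuadraticMap.polar_neg_right, polar_self2, hza.1, hza.2,
    QuadraticMap.polar_comm _ z a', Pa.2.2] at hB hB'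
  exact mul_ne_zero (mul_ne_zero h2 h2) hzQ (by linear_combination hB - hB')

/-- The characters of an orbit through `v` and through another line contain `v⊥`. -/
theorem perp_le {v : ι → F} (hS : Small X D v) (hv : Perp Q e f v) (hvv : Q v ≠ 0) {o : Orb X D} (ho : v ∈ oA D o) {x : V}
    (hx : x ∈ oA D o) (hxv : ∀ c : F, x ≠ c • v) {y : V} (hy : Perp Q e f y) (hyv : B v y = 0) :
    y ∈ oA D o := by
  have hv0 : v ≠ 0 := fun h0 => hvv (by rw [h0, QuadraticMap.map_zero])
  have key : ∀ {u u' s : V}, Pair Q u u' → Perp Q e f u → Perp Q e f u' → B u v = 0 → B u' v = 0 →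
      s ∈ oA D o → B u s ≠ 0 → ∀ t : F, t • u ∈ oA D o := by
    intro u u' s Pu hu hu' huv hu'v hs hus t
    obtain ⟨b, b', hb, hb', hbb⟩ := exists_rich D hS hv hvv Pu hu hu' huv hu'v
    set c := -t / (B b b' * B u s)
    have h1 := Inv.step D (Inv.add D (hb c) (hb' 1)) ho hs
    have h2 := Inv.step D (hb c) ho hs
    have h3 := Inv.step D (hb' 1) ho hs
    have h4 := (oA D o).sub_mem ((oA D o).sub_mem h1 h2) h3
    rw [one_smul, quad_add, polar_add_l] at h4
    convert h4 using 1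
    have hc : c * B b b' * B u s = -t := by simp only [c]; field_simp
    clear_value c
    obtain rfl : t = -(c * B b b' * B u s) := by rw [hc, neg_neg]
    simp only [polar_smul_l]
    module
  obtain ⟨u₀, u₀', P₀, h₀, h₀', k₀, k₀'⟩ := exists_pair_perp D.hyp D.pair hv hv0
  -- singular vectors of `v⊥`
  have sing : ∀ {u : V}, u ≠ 0 → Q u = 0 → Perp Q e f u → B u v = 0 →
      ∃ u', Pair Q u u' ∧ Perp Q e f u' ∧ B u' v = 0 := by
    intro u hu0 huu hu huv
    obtain ⟨z, hz⟩ := exists_polar D.hyp.nd (v := ![u, e, f, v]) (li4 (fun k1 k2 k3 k4 h0 => by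
      have P := D.pair
      have e1 := congrArg (B e) h0
      have e2 := congrArg (B f) h0
      simp [QuadraticMap.polar_add_right, QuadraticMap.polar_smul_right, hu.1, hu.2, hv.1, hv.2, P.2.2,
        polar_self' P.1, polar_self' P.2.1, QuadraticMap.polar_comm _ f e] at e1 e2
      subst e1 e2
      simp only [zero_smul, add_zero] at h0
      have e3 : Q (k4 • v) = 0 := by
        rw [show k4 • v = (-k1) • u by linear_combination (norm := module) h0, QuadraticMap.map_smul, huu, smul_zero]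
      rw [QuadraticMap.map_smul, smul_eq_mul, mul_eq_zero] at e3
      have hk4 : k4 = 0 := mul_self_eq_zero.1 (e3.resolve_right hvv)
      subst hk4
      simp only [zero_smul, add_zero, smul_eq_zero] at h0
      exact ⟨h0.resolve_right hu0, rfl, rfl, rfl⟩)) ![1, 0, 0, 0]
    refine ⟨z + (-Q z) • u, ⟨huu, ?_, ?_⟩, ⟨?_, ?_⟩, ?_⟩
    · rw [quad_add_smul, huu, QuadraticMap.polar_comm, show B u z = 1 from hz 0]; ring
    · rw [QuadraticMap.polar_add_right, show B u z = 1 from hz 0, polar_smul_r, polar_self' huu, mul_zero, add_zero]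
    · rw [QuadraticMap.polar_add_right, show B e z = 0 from hz 1, polar_smul_r, hu.1, mul_zero, add_zero]
    · rw [QuadraticMap.polar_add_right, show B f z = 0 from hz 2, polar_smul_r, hu.2, mul_zero, add_zero]
    · rw [polar_add_l, QuadraticMap.polar_comm, show B v z = 0 from hz 3, polar_smul_l, huv, mul_zero, add_zero]
  -- a decomposition into singular vectors
  have span : ∀ {s : V}, Perp Q e f s → B v s = 0 →
      (∀ u, Q u = 0 → Perp Q e f u → B u v = 0 → ∀ t : F, t • u ∈ oA D o) → s ∈ oA D o := by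
    intro s hs hsv hall
    set z := proj Q u₀ u₀' s
    have hz : Perp Q e f z := by
      constructor <;> simp [z, proj, QuadraticMap.polar_sub_right, QuadraticMap.polar_smul_right, hs.1, hs.2,
        h₀.1, h₀.2, h₀'.1, h₀'.2]
    have hzv : B z v = 0 := by
      simp [z, proj, QuadraticMap.polar_sub_left, QuadraticMap.polar_smul_left, k₀, k₀',
        QuadraticMap.polar_comm _ s v, hsv]
    have hzp := perp_proj P₀ s
    set w := z + u₀ + (-Q z) • u₀'
    have hw : Q w = 0 := by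
      rw [quad_add_smul, quad_add, P₀.1, P₀.2.1, polar_add_l, QuadraticMap.polar_comm _ z u₀, hzp.1, P₀.2.2,
        QuadraticMap.polar_comm _ z u₀', hzp.2]
      ring
    have e1 := hall w hw ((hz.add h₀).add (h₀'.smul _))
      (by rw [polar_add_l, polar_add_l, polar_smul_l, hzv, k₀, k₀']; simp) 1
    have e2 := hall u₀ P₀.1 h₀ k₀ (B u₀' s - 1)
    have e3 := hall u₀' P₀.2.1 h₀' k₀' (B u₀ s + Q z)
    have e4 := (oA D o).add_mem ((oA D o).add_mem e1 e2) e3
    convert e4 using 1
    rw [one_smul]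
    conv_lhs => rw [pair_decomp P₀ s]
    module
  refine span hy hyv fun u huu hu huv t => ?_
  -- a first singular vector not orthogonal to `x`
  by_cases hu0 : u = 0
  · rw [hu0, smul_zero]; exact (oA D o).zero_mem
  obtain ⟨u₁, hu₁Q, hu₁, hu₁v, hu₁x⟩ : ∃ u₁, Q u₁ = 0 ∧ Perp Q e f u₁ ∧ B u₁ v = 0 ∧ B u₁ x ≠ 0 := by
    by_contra hcon
    push Not at hcon
    have horth : ∀ s, Perp Q e f s → B v s = 0 → B s x = 0 := by
      intro s hs hsv
      set z := proj Q u₀ u₀' s
      have hz : Perp Q e f z := by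
        constructor <;> simp [z, proj, QuadraticMap.polar_sub_right, QuadraticMap.polar_smul_right, hs.1, hs.2,
          h₀.1, h₀.2, h₀'.1, h₀'.2]
      have hzv : B z v = 0 := by
        simp [z, proj, QuadraticMap.polar_sub_left, QuadraticMap.polar_smul_left, k₀, k₀',
          QuadraticMap.polar_comm _ s v, hsv]
      have hzp := perp_proj P₀ s
      have hw : Q (z + u₀ + (-Q z) • u₀') = 0 := by
        rw [quad_add_smul, quad_add, P₀.1, P₀.2.1, polar_add_l, QuadraticMap.polar_comm _ z u₀, hzp.1, P₀.2.2,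
          QuadraticMap.polar_comm _ z u₀', hzp.2]
        ring
      have e1 := hcon _ hw ((hz.add h₀).add (h₀'.smul _))
        (by rw [polar_add_l, polar_add_l, polar_smul_l, hzv, k₀, k₀']; simp)
      have e2 := hcon u₀ P₀.1 h₀ k₀
      have e3 := hcon u₀' P₀.2.1 h₀' k₀'
      rw [polar_add_l, polar_add_l, polar_smul_l, e2, e3, mul_zero, add_zero, add_zero] at e1
      rw [pair_decomp P₀ s, polar_add_l, polar_add_l, polar_smul_l, polar_smul_l, e1, e2, e3]; simp
    obtain ⟨y₀, hy₀, hvy⟩ := perp_nondeg D hv hv0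
    have hx' := oA_perp D hx
    have hd : x - B y₀ x • v = 0 := by
      by_contra hne
      obtain ⟨y₁, hy₁, h1⟩ := perp_nondeg D ((perpG Q e f).sub_mem hx' (hv.smul _)) hne
      have h2 := horth (y₁ - B v y₁ • y₀) ((perpG Q e f).sub_mem hy₁ (hy₀.smul _))
        (by rw [QuadraticMap.polar_sub_right, polar_smul_r, hvy, mul_one, sub_self])
      rw [QuadraticMap.polar_sub_left, polar_smul_l] at h1 h2
      rw [QuadraticMap.polar_comm _ y₁ x, QuadraticMap.polar_comm _ y₀ x] at h2
      rw [QuadraticMap.polar_comm _ y₀ x] at h1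
      exact one_ne_zero (α := F) (by linear_combination h2 - h1)
    exact hxv _ (sub_eq_zero.1 hd)
  obtain ⟨u₁', P₁, h₁', k₁'⟩ := sing (fun e0 => hu₁x (by rw [e0, QuadraticMap.polar_comm, polar_zero_r])) hu₁Q hu₁ hu₁v
  have A₁ := key P₁ hu₁ h₁' hu₁v k₁' hx hu₁x
  have hu1mem : u₁ ∈ oA D o := by simpa using A₁ 1
  have A₁' : ∀ t : F, t • u₁' ∈ oA D o :=
    key P₁.symm h₁' hu₁ k₁' hu₁v hu1mem (by rw [QuadraticMap.polar_comm, P₁.2.2]; exact one_ne_zero)
  -- every other
  have gen : ∀ {a : V}, Q a = 0 → Perp Q e f a → B a v = 0 → (B a u₁ ≠ 0 ∨ B a u₁' ≠ 0) →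
      ∀ t : F, t • a ∈ oA D o := by
    intro a haa ha hav hne
    have ha0 : a ≠ 0 := fun e0 => by
      rw [e0, QuadraticMap.polar_comm, polar_zero_r, QuadraticMap.polar_comm, polar_zero_r] at hne
      simp at hne
    obtain ⟨a', Pa, ha', hav'⟩ := sing ha0 haa ha hav
    rcases hne with hne | hne
    · exact key Pa ha ha' hav hav' hu1mem hne
    · exact key Pa ha ha' hav hav' (by simpa using A₁' 1) hne
  by_cases h1 : B u u₁ = 0 ∧ B u u₁' = 0
  · have h2 := gen (a := u + u₁) (by rw [quad_add, huu, hu₁Q, h1.1]; ring) (hu.add hu₁)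
      (by rw [polar_add_l, huv, hu₁v, add_zero])
      (Or.inr (by rw [polar_add_l, h1.2, P₁.2.2, zero_add]; exact one_ne_zero)) t
    have h3 := (oA D o).sub_mem h2 (A₁ t)
    rwa [smul_add, add_sub_cancel_right] at h3
  · exact gen huu hu huv (by rwa [not_and_or] at h1) t

/-- An orbit through two lines, one anisotropic, has all characters. -/
theorem oA_eq_top (hS : ∀ v, Perp Q e f v → Q v ≠ 0 → Small X D v) {v : V} (hvv : Q v ≠ 0) {o : Orb X D}
    (ho : v ∈ oA D o) {x : V} (hx : x ∈ oA D o) (hxv : ∀ c : F, x ≠ c • v) : oA D o = perpG Q e f := by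
  have hv := oA_perp D ho
  have hv0 : v ≠ 0 := fun h0 => hvv (by rw [h0, QuadraticMap.map_zero])
  refine le_antisymm (ann_le _) fun y hy => ?_
  have step := fun {w : V} (hw : Perp Q e f w) (hwv : B v w = 0) =>
    perp_le D (hS v hv hvv) hv hvv ho hx hxv hw hwv
  obtain ⟨a, a', Pa, ha, ha', hav, hav'⟩ := exists_pair_perp D.hyp D.pair hv hv0
  set v' := v + a
  have hv'Q : Q v' = Q v := by rw [quad_add, Pa.1, QuadraticMap.polar_comm, hav]; ring
  have hv'A : v' ∈ oA D o := (oA D o).add_mem ho (step ha (by rw [QuadraticMap.polar_comm]; exact hav))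
  have hv' : Perp Q e f v' := hv.add ha
  have hnv : ∀ c : F, v ≠ c • v' := fun c hc => by
    have h1 := congrArg (B a') hc
    rw [hav', polar_smul_r, QuadraticMap.polar_add_right, hav', QuadraticMap.polar_comm _ a' a, Pa.2.2, zero_add,
      mul_one] at h1
    rw [← h1, zero_smul] at hc
    exact hv0 hc
  obtain ⟨z, hz⟩ := exists_polar D.hyp.nd (v := ![v, v', e, f]) (li4 (fun k1 k2 k3 k4 h0 => by
    have P := D.pair
    have e1 := congrArg (B e) h0
    have e2 := congrArg (B f) h0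
    simp [QuadraticMap.polar_add_right, QuadraticMap.polar_smul_right, hv.1, hv.2, hv'.1, hv'.2, P.2.2,
      polar_self' P.1, polar_self' P.2.1, QuadraticMap.polar_comm _ f e] at e1 e2
    subst e1 e2
    simp only [zero_smul, add_zero] at h0
    have h1 := congrArg (B a') h0
    rw [QuadraticMap.polar_add_right, polar_smul_r, polar_smul_r, hav', QuadraticMap.polar_add_right, hav',
      QuadraticMap.polar_comm _ a' a, Pa.2.2, mul_zero, zero_add, zero_add, mul_one, polar_zero_r] at h1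
    subst h1
    rw [zero_smul, add_zero, smul_eq_zero] at h0
    exact ⟨h0.resolve_right hv0, rfl, rfl, rfl⟩)) ![1, 0, 0, 0]
  have z1 : B v z = 1 := hz 0
  have h4 : B v y • z ∈ oA D o := perp_le D (hS v' hv' (by rw [hv'Q]; exact hvv)) hv' (by rw [hv'Q]; exact hvv)
    hv'A ho hnv ((show Perp Q e f z from ⟨hz 2, hz 3⟩).smul _)
    (by rw [polar_smul_r, show B v' z = 0 from hz 1, mul_zero])
  have h5 := step (w := y - B v y • z) ((perpG Q e f).sub_mem hy ((show Perp Q e f z from ⟨hz 2, hz 3⟩).smul _))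
    (by rw [QuadraticMap.polar_sub_right, polar_smul_r, z1, mul_one, sub_self])
  simpa using (oA D o).add_mem h5 h4

end Cfsg.Agent.Lie.MinIndexOrth
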