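import Cfsg.Agent.Lib.Classical.OrthSpinor
import Cfsg.Agent.Lib.Classical.OrthGenTrans
import Cfsg.Agent.Lib.Classical.OrthSimple
import Cfsg.Agent.Lib.Lie.OrthOmegaGen

/-! The elements of `Ω(Q)` used for the minimal index of a subgroup: the abelian unipotent radical of the
stabiliser of a singular point, and enough elements of a Levi complement. -/

set_option autoImplicit false
set_option linter.unusedSectionVars false
set_option quotPrecheck false

namespace Cfsg.Agent.Lie.MinIndexOrth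

open Cfsg Matrix Module Cfsg.Agent.Classical Cfsg.Agent.Classical.OrthAut

variable {F : Type*} [Field F] [Fintype F] {ι : Type} [Fintype ι] [DecidableEq ι]
  {Q : QuadraticForm F (ι → F)}

local notation "V" => (ι → F)
local notation "B" => QuadraticMap.polar ⇑Q
local notation "OG" => isometryGroup F ⇑Q
local notation "GG" => (↥(Omega F ⇑Q))
local notation "q" => Fintype.card F

/-- Non-degenerate, with a totally singular space of dimension three, in dimension at least seven. -/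
structure Hyp (Q : QuadraticForm F (ι → F)) : Prop where
  nd : (QuadraticMap.polarBilin Q).Nondegenerate
  tri : Tri Q
  seven : 7 ≤ Fintype.card ι

/-- The matrix of an element of `Ω`. -/
def gV (g : GG) : Matrix ι ι F := ogVal (g : OG)

theorem gV_mul (g k : GG) : gV (g * k) = gV g * gV k := rfl

theorem gV_one : gV (1 : GG) = 1 := rfl

theorem gV_mul_vec (g k : GG) (x : V) : gV (g * k) *ᵥ x = gV g *ᵥ (gV k *ᵥ x) := by
  rw [gV_mul, Matrix.mulVec_mulVec]

theorem gV_quad (g : GG) (x : V) : Q (gV g *ᵥ x) = Q x := ogVal_quad _ x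

theorem gV_polar (g : GG) (x y : V) : B (gV g *ᵥ x) (gV g *ᵥ y) = B x y := isometry_polar (gV_quad g) x y

theorem gV_inv_cancel (g : GG) (x : V) : gV g⁻¹ *ᵥ (gV g *ᵥ x) = x := ogVal_inv_cancel _ x

theorem gV_cancel_inv (g : GG) (x : V) : gV g *ᵥ (gV g⁻¹ *ᵥ x) = x := ogVal_cancel_inv _ x

theorem gV_ext {g k : GG} (h : ∀ x : V, gV g *ᵥ x = gV k *ᵥ x) : g = k :=
  Subtype.ext (ogVal_ext (Matrix.ext_iff_mulVec.2 h))

theorem gV_injective (g : GG) : Function.Injective fun x : V => gV g *ᵥ x := fun x y h => by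
  rw [← gV_inv_cancel g x, ← gV_inv_cancel g y]
  exact congrArg _ h

theorem Hyp.genQ (H : Hyp Q) : GenQ F ι := genQ_of_card (Or.inr (by have := H.seven; omega))

theorem polar_add_l (x x' y : V) : B (x + x') y = B x y + B x' y := QuadraticMap.polar_add_left _ _ _ _

theorem polar_smul_l (c : F) (x y : V) : B (c • x) y = c * B x y := by
  rw [QuadraticMap.polar_smul_left, smul_eq_mul]

theorem polar_smul_r (c : F) (x y : V) : B x (c • y) = c * B x y := by
  rw [QuadraticMap.polar_smul_right, smul_eq_mul]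

theorem polar_zero_r (x : V) : B x 0 = 0 := by simp

/-! ### The radical of a point -/

open scoped _root_.Classical in
/-- The element `E(e,w)` of `Ω`, trivial for inadmissible vectors. -/
noncomputable def elt (e w : ι → F) : Omega F ⇑Q :=
  if h : Hyp Q ∧ OK Q e w then ⟨eOG h.2, sR_le_omega h.1.nd h.1.tri (eOG_mem h.1.nd h.1.tri h.2)⟩ else 1

variable (H : Hyp Q)
include H

theorem elt_val {e w : V} (h : OK Q e w) : gV (elt (Q := Q) e w) = eMat Q e w := by
  rw [elt, dif_pos ⟨H, h⟩]; exact eOG_val h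

theorem elt_apply {e w : V} (h : OK Q e w) (x : V) :
    gV (elt (Q := Q) e w) *ᵥ x = x + B e x • w - (B w x + Q w * B e x) • e := by
  rw [elt_val H h, eMat_mulVec]; module

theorem elt_add {e w w' : V} (h : OK Q e w) (h' : OK Q e w') :
    elt (Q := Q) e (w + w') = elt e w * elt e w' :=
  Subtype.ext (ogVal_ext (by
    show gV (elt (Q := Q) e (w + w')) = gV (elt (Q := Q) e w * elt e w')
    rw [gV_mul, elt_val H h, elt_val H h', elt_val H (h.add h'), eMat_mul h h']))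

theorem elt_zero {e : V} (he : Q e = 0) : elt (Q := Q) e (0 : V) = 1 :=
  Subtype.ext (ogVal_ext (by
    show gV (elt (Q := Q) e 0) = gV (1 : GG)
    rw [elt_val H (OK.zero he), eMat_zero, gV_one]))

theorem elt_neg {e w : V} (h : OK Q e w) : elt (Q := Q) e (-w) = (elt e w)⁻¹ := by
  have h' : OK Q e (-w) := by simpa using h.smul (-1)
  refine eq_inv_of_mul_eq_one_left ?_
  rw [← elt_add H h' h, neg_add_cancel, elt_zero H h.1]

theorem elt_shift {e w : V} (h : OK Q e w) (t : F) : elt (Q := Q) e (w + t • e) = elt e w := by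
  have h' : OK Q e (w + t • e) := ⟨h.1, by
    rw [QuadraticMap.polar_add_right, h.2, polar_smul_r, polar_self' h.1, mul_zero, add_zero]⟩
  refine Subtype.ext (ogVal_ext ?_)
  show gV (elt (Q := Q) e (w + t • e)) = gV (elt (Q := Q) e w)
  rw [elt_val H h', elt_val H h, eMat_add_self h]

theorem elt_smul_left {e w : V} (h : OK Q e w) (c : F) : elt (Q := Q) (c • e) w = elt e (c • w) := by
  have h' : OK Q (c • e) w := ⟨by rw [QuadraticMap.map_smul, h.1, smul_zero], by rw [polar_smul_l, h.2, mul_zero]⟩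
  refine Subtype.ext (ogVal_ext ?_)
  show gV (elt (Q := Q) (c • e) w) = gV (elt (Q := Q) e (c • w))
  rw [elt_val H h', elt_val H (h.smul c), eMat_smul_left]

/-- A long root element read from its other end. -/
theorem elt_swap {e w : V} (h : OK Q e w) (hw : Q w = 0) : elt (Q := Q) e w = elt w (-e) := by
  have h' : OK Q w (-e) := ⟨hw, by rw [QuadraticMap.polar_neg_right, QuadraticMap.polar_comm, h.2, neg_zero]⟩
  refine gV_ext fun x => ?_
  rw [elt_apply H h, elt_apply H h', QuadraticMap.map_neg, h.1, hw, QuadraticMap.polar_neg_left]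
  module

theorem elt_conj (g : GG) {e w : V} (h : OK Q e w) :
    g * elt e w * g⁻¹ = elt (gV g *ᵥ e) (gV g *ᵥ w) := by
  have h' : OK Q (gV g *ᵥ e) (gV g *ᵥ w) := ⟨by rw [gV_quad]; exact h.1, by rw [gV_polar]; exact h.2⟩
  refine gV_ext fun x => ?_
  obtain ⟨y, rfl⟩ : ∃ y, x = gV g *ᵥ y := ⟨gV g⁻¹ *ᵥ x, (gV_cancel_inv g x).symm⟩
  rw [gV_mul_vec, gV_mul_vec, gV_inv_cancel, elt_apply H h, elt_apply H h', gV_polar, gV_polar, gV_quad,
    Matrix.mulVec_sub, Matrix.mulVec_add, Matrix.mulVec_smul, Matrix.mulVec_smul]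

theorem elt_pow {e w : V} (h : OK Q e w) (k : ℕ) : elt (Q := Q) e w ^ k = elt e (k • w) := by
  induction k with
  | zero => rw [pow_zero, zero_smul, elt_zero H h.1]
  | succ k ih =>
    rw [pow_succ, ih, succ_nsmul, elt_add H ?_ h]
    rw [← Nat.cast_smul_eq_nsmul F]
    exact h.smul _

theorem elt_pow_char {p : ℕ} [CharP F p] {e w : V} (h : OK Q e w) : elt (Q := Q) e w ^ p = 1 := by
  rw [elt_pow H h, ← Nat.cast_smul_eq_nsmul F, CharP.cast_eq_zero, zero_smul, elt_zero H h.1]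

/-! ### Vectors -/

theorem exists_two_pairs {e f : V} (P : Pair Q e f) :
    ∃ u u' w w', Pair Q u u' ∧ Pair Q w w' ∧ Perp Q e f u ∧ Perp Q e f u' ∧ Perp Q e f w ∧ Perp Q e f w' ∧
      Perp Q u u' w ∧ Perp Q u u' w' := by
  obtain ⟨u, u', hu, h1, h1'⟩ := exists_frame H.nd H.tri P
  obtain ⟨w, hw0, hw, h2, h3⟩ := exists_singular_perp2 H.nd H.tri P hu h1 h1'
  obtain ⟨w', hw', h4, h5⟩ := exists_partner2 H.nd P hu h1 h1' h2 h3 hw0 hw
  exact ⟨u, u', w, w', hu, hw', h1, h1', h2, h4, h3, h5⟩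

/-- A hyperbolic pair orthogonal to a given pair and a given vector. -/
theorem exists_pair_perp {e f v : V} (P : Pair Q e f) (hv : Perp Q e f v) (hv0 : v ≠ 0) :
    ∃ a b, Pair Q a b ∧ Perp Q e f a ∧ Perp Q e f b ∧ B a v = 0 ∧ B b v = 0 := by
  by_cases hvv : Q v = 0
  · obtain ⟨v', hv', hp'⟩ := exists_partner H.nd P hv hv0 hvv
    obtain ⟨a, ha0, ha, h1, h2⟩ := exists_singular_perp2 H.nd H.tri P hv' hv hp'
    obtain ⟨b, hb, h3, h4⟩ := exists_partner2 H.nd P hv' hv hp' h1 h2 ha0 ha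
    exact ⟨a, b, hb, h1, h3, by rw [QuadraticMap.polar_comm]; exact h2.1,
      by rw [QuadraticMap.polar_comm]; exact h4.1⟩
  obtain ⟨u, u', w, w', hu, hw, hu1, -, hw1, -, huw, -⟩ := exists_two_pairs H P
  obtain ⟨s, t, hst, hker⟩ : ∃ s t : F, (s ≠ 0 ∨ t ≠ 0) ∧ s * B u v + t * B w v = 0 := by
    by_cases h0 : B w v = 0
    · exact ⟨0, 1, Or.inr one_ne_zero, by rw [h0]; ring⟩
    · exact ⟨B w v, -B u v, Or.inl h0, by ring⟩
  set a := s • u + t • w with ha_def
  have ha : Q a = 0 := by rw [ha_def, quad_lin, hu.1, hw.1, huw.1]; ring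
  have hav : B a v = 0 := by rw [ha_def, polar_lin_left]; exact hker
  have hea : B e a = 0 := by rw [ha_def, polar_lin_right, hu1.1, hw1.1]; ring
  have hfa : B f a = 0 := by rw [ha_def, polar_lin_right, hu1.2, hw1.2]; ring
  have ha0 : a ≠ 0 := by
    intro h0
    have h1 := congrArg (B u') h0
    rw [ha_def, polar_lin_right, QuadraticMap.polar_comm _ u' u, hu.2.2, huw.2, polar_zero_r] at h1
    have hs : s = 0 := by linear_combination h1
    rw [ha_def, hs, zero_smul, zero_add, smul_eq_zero] at h0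
    exact (hst.resolve_left (not_not.2 hs)) (h0.resolve_right hw.ne)
  obtain ⟨z, hz⟩ := exists_polar H.nd (v := ![a, e, f, v]) (li4 (fun k1 k2 k3 k4 h0 => by
    have e1 := congrArg (B e) h0
    have e2 := congrArg (B f) h0
    simp [QuadraticMap.polar_add_right, QuadraticMap.polar_smul_right, hea, hfa, hv.1, hv.2, P.2.2,
      polar_self' P.1, polar_self' P.2.1, QuadraticMap.polar_comm _ f e] at e1 e2
    subst e1 e2
    simp only [zero_smul, add_zero] at h0
    have e3 : Q (k4 • v) = 0 := by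
      rw [show k4 • v = (-k1) • a by linear_combination (norm := module) h0, QuadraticMap.map_smul, ha, smul_zero]
    rw [QuadraticMap.map_smul, smul_eq_mul, mul_eq_zero] at e3
    have hk4 : k4 = 0 := by
      rcases e3 with e3 | e3
      · exact mul_self_eq_zero.1 e3
      · exact absurd e3 hvv
    subst hk4
    simp only [zero_smul, add_zero, smul_eq_zero] at h0
    exact ⟨h0.resolve_right ha0, rfl, rfl, rfl⟩)) ![1, 0, 0, 0]
  have z1 : B a z = 1 := hz 0
  have z2 : B e z = 0 := hz 1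
  have z3 : B f z = 0 := hz 2
  have z4 : B v z = 0 := hz 3
  refine ⟨a, z + (-Q z) • a, ⟨ha, ?_, ?_⟩, ⟨hea, hfa⟩, ⟨?_, ?_⟩, hav, ?_⟩
  · rw [quad_add_smul, ha, QuadraticMap.polar_comm, z1]; ring
  · rw [QuadraticMap.polar_add_right, z1, polar_smul_r, polar_self' ha, mul_zero, add_zero]
  · rw [QuadraticMap.polar_add_right, z2, polar_smul_r, hea, mul_zero, add_zero]
  · rw [QuadraticMap.polar_add_right, z3, polar_smul_r, hfa, mul_zero, add_zero]
  · rw [polar_add_l, QuadraticMap.polar_comm _ z v, z4, polar_smul_l, hav, mul_zero, add_zero]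

/-- An anisotropic vector orthogonal to three orthogonal pairs. -/
theorem exists_aniso_perp {e f a a' c c' : V} (P : Pair Q e f) (Pa : Pair Q a a') (Pc : Pair Q c c')
    (ha : Perp Q e f a) (ha' : Perp Q e f a') (hc : Perp Q e f c) (hc' : Perp Q e f c')
    (hac : Perp Q a a' c) (hac' : Perp Q a a' c') :
    ∃ z, Q z ≠ 0 ∧ Perp Q e f z ∧ Perp Q a a' z ∧ Perp Q c c' z := by
  let π : V → V := fun y => proj Q c c' (proj Q a a' (proj Q e f y))
  have hπ : ∀ y, Perp Q e f (π y) ∧ Perp Q a a' (π y) ∧ Perp Q c c' (π y) := by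
    intro y
    have h1 := perp_proj P y
    have h2 := perp_proj Pa (proj Q e f y)
    refine ⟨⟨?_, ?_⟩, ⟨?_, ?_⟩, perp_proj Pc _⟩ <;>
      simp [π, proj, QuadraticMap.polar_sub_right, QuadraticMap.polar_smul_right, ha.1, ha.2, ha'.1, ha'.2,
        hc.1, hc.2, hc'.1, hc'.2, hac.1, hac.2, hac'.1, hac'.2, P.2.2, Pa.2.2, polar_self' P.1,
        polar_self' P.2.1, polar_self' Pa.1, polar_self' Pa.2.1, QuadraticMap.polar_comm _ f e,
        QuadraticMap.polar_comm _ a' a]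
  obtain ⟨y, hy⟩ : ∃ y, π y ≠ 0 := by
    by_contra hcon
    push Not at hcon
    have hs : Function.Surjective (fun p : (F × F) × (F × F) × (F × F) =>
        p.1.1 • e + p.1.2 • f + (p.2.1.1 • a + p.2.1.2 • a') + (p.2.2.1 • c + p.2.2.2 • c')) := fun y => by
      refine ⟨((B f y, B e y), (B a' (proj Q e f y), B a (proj Q e f y)),
        (B c' (proj Q a a' (proj Q e f y)), B c (proj Q a a' (proj Q e f y)))), ?_⟩
      have h0 : proj Q c c' (proj Q a a' (proj Q e f y)) = 0 := hcon y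
      conv_rhs => rw [pair_decomp P y, pair_decomp Pa (proj Q e f y),
        pair_decomp Pc (proj Q a a' (proj Q e f y)), h0, add_zero]
      module
    have h1 := Nat.card_le_card_of_surjective _ hs
    simp only [Nat.card_prod, Nat.card_eq_fintype_card, Fintype.card_fun] at h1
    have h7 := H.seven
    have h2 : 2 ≤ Fintype.card F := Fintype.one_lt_card
    have h3 : q ^ 7 ≤ q ^ Fintype.card ι := Nat.pow_le_pow_right (by omega) h7
    have h4 : q ^ 6 < q ^ 7 := Nat.pow_lt_pow_right (by omega) (by omega)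
    have h5 : q ^ Fintype.card ι ≤ q ^ 6 := le_trans h1 (le_of_eq (by simp only [Fintype.card_prod]; ring))
    omega
  by_cases hq : Q (π y) ≠ 0
  · exact ⟨π y, hq, hπ y⟩
  push Not at hq
  obtain ⟨t, ht⟩ := exists_polar1 H.nd hy 1
  have h1 : B (π y) (π t) = 1 := by
    show B (π y) (proj Q c c' (proj Q a a' (proj Q e f t))) = 1
    rw [polar_proj (hπ y).2.2, polar_proj (hπ y).2.1, polar_proj (hπ y).1, ht]
  by_cases hq2 : Q (π t) ≠ 0
  · exact ⟨π t, hq2, hπ t⟩
  push Not at hq2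
  refine ⟨π y + π t, ?_, ⟨?_, ?_⟩, ⟨?_, ?_⟩, ⟨?_, ?_⟩⟩
  · rw [quad_add, hq, hq2, h1, zero_add, zero_add]; exact one_ne_zero
  · rw [QuadraticMap.polar_add_right, (hπ y).1.1, (hπ t).1.1, add_zero]
  · rw [QuadraticMap.polar_add_right, (hπ y).1.2, (hπ t).1.2, add_zero]
  · rw [QuadraticMap.polar_add_right, (hπ y).2.1.1, (hπ t).2.1.1, add_zero]
  · rw [QuadraticMap.polar_add_right, (hπ y).2.1.2, (hπ t).2.1.2, add_zero]
  · rw [QuadraticMap.polar_add_right, (hπ y).2.2.1, (hπ t).2.2.1, add_zero]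
  · rw [QuadraticMap.polar_add_right, (hπ y).2.2.2, (hπ t).2.2.2, add_zero]

/-! ### Elements of `Ω` -/

theorem invHom_eq_one_mem {g : OG} (h : invHom H.nd H.genQ g = 1) : g ∈ Omega F ⇑Q := by
  rw [omega_eq_ker H.nd H.genQ, MonoidHom.mem_ker]; exact h

omit H in
theorem refl_fix {v x : V} (hv : Q v ≠ 0) (hx : B v x = 0) : ogVal (OrthAut.refl hv) *ᵥ x = x := by
  rw [refl_apply, hx]; simp

omit H in
theorem pair_value {a b : V} (P : Pair Q a b) (t : F) : Q (a + t • b) = t := by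
  rw [quad_add_smul, P.1, P.2.1, P.2.2]; ring

/-- Every class of `O(Q)` modulo `Ω` lives on a hyperbolic pair. -/
theorem exists_corr {a b : V} (P : Pair Q a b) (g₀ : OG) :
    ∃ c : OG, invHom H.nd H.genQ c = invHom H.nd H.genQ g₀ ∧
      ∀ x, B a x = 0 → B b x = 0 → ogVal c *ᵥ x = x := by
  have hv : ∀ t : F, t ≠ 0 → Q (a + t • b) ≠ 0 := fun t ht => by rw [pair_value P]; exact ht
  have hfix : ∀ (t : F) (ht : t ≠ 0) (x : V), B a x = 0 → B b x = 0 →
      ogVal (OrthAut.refl (hv t ht)) *ᵥ x = x :=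
    fun t ht x h1 h2 => refl_fix _ (by rw [polar_add_l, polar_smul_l, h1, h2, mul_zero, add_zero])
  have hinv : ∀ (t : F) (ht : t ≠ 0), invHom H.nd H.genQ (OrthAut.refl (hv t ht)) = (-1, sqSign t) :=
    fun t ht => by rw [invHom_refl, pair_value P]
  have h1 := hinv 1 one_ne_zero
  rw [sqSign_of_isSquare IsSquare.one] at h1
  rcases Int.units_eq_one_or (spin g₀) with hs | hs
  · rcases Int.units_eq_one_or (dick g₀) with hd | hd
    · exact ⟨1, by rw [map_one, invHom_apply, hd, hs]; rfl, fun x _ _ => by rw [ogVal_one, Matrix.one_mulVec]⟩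
    · exact ⟨_, by rw [h1, invHom_apply, hd, hs], hfix 1 one_ne_zero⟩
  have h2 : (2 : F) ≠ 0 := fun h2 => absurd (hs.symm.trans (spin_two H.nd h2 g₀)) (by decide)
  obtain ⟨ε, hε⟩ := FiniteField.exists_nonsquare (F := F)
    (fun hc => h2 (by haveI := ringChar.of_eq hc; exact CharTwo.two_eq_zero))
  have hε0 : ε ≠ 0 := fun h0 => hε (h0 ▸ IsSquare.zero)
  have h3 := hinv ε hε0
  rw [sqSign_of_not hε] at h3
  rcases Int.units_eq_one_or (dick g₀) with hd | hd
  · refine ⟨OrthAut.refl (hv 1 one_ne_zero) * OrthAut.refl (hv ε hε0), ?_, fun x hx hy => ?_⟩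
    · rw [map_mul, h1, h3, invHom_apply, hd, hs]; rfl
    · rw [ogVal_mul, ← Matrix.mulVec_mulVec, hfix ε hε0 x hx hy, hfix 1 one_ne_zero x hx hy]
  · exact ⟨_, by rw [h3, invHom_apply, hd, hs], hfix ε hε0⟩

/-- Turning an isometry into an element of `Ω`. -/
theorem omega_of_corr {g₀ c : OG} (h : invHom H.nd H.genQ c = invHom H.nd H.genQ g₀) :
    c * g₀ ∈ Omega F ⇑Q := by
  refine invHom_eq_one_mem H ?_
  rw [map_mul, h]
  exact Prod.ext (Int.units_mul_self _) (Int.units_mul_self _)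

/-- A Levi element of the pair. -/
def Lev (e f : ι → F) (a : F) (g : Omega F ⇑Q) : Prop :=
  a ≠ 0 ∧ gV g *ᵥ e = a • e ∧ gV g *ᵥ f = a⁻¹ • f

omit H in
theorem Lev.perp {e f : V} {a : F} {g : GG} (L : Lev e f a g) {w : V} (hw : Perp Q e f w) :
    Perp Q e f (gV g *ᵥ w) := by
  have h1 : B (gV g *ᵥ e) (gV g *ᵥ w) = 0 := by rw [gV_polar]; exact hw.1
  have h2 : B (gV g *ᵥ f) (gV g *ᵥ w) = 0 := by rw [gV_polar]; exact hw.2
  rw [L.2.1, polar_smul_l] at h1
  rw [L.2.2, polar_smul_l] at h2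
  exact ⟨(mul_eq_zero.1 h1).resolve_left L.1, (mul_eq_zero.1 h2).resolve_left (inv_ne_zero L.1)⟩

theorem Lev.conj {e f : V} (he : Q e = 0) {a : F} {g : GG} (L : Lev e f a g) {w : V} (hw : Perp Q e f w) :
    g * elt e w * g⁻¹ = elt e (a • (gV g *ᵥ w)) := by
  rw [elt_conj H g (e := e) ⟨he, hw.1⟩, L.2.1, elt_smul_left H ⟨he, (L.perp hw).1⟩]

omit H in
theorem Lev.inv {e f : V} {a : F} {g : GG} (L : Lev e f a g) : Lev e f a⁻¹ g⁻¹ := by
  refine ⟨inv_ne_zero L.1, ?_, ?_⟩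
  · rw [eq_inv_smul_iff₀ L.1, ← Matrix.mulVec_smul, ← L.2.1, gV_inv_cancel]
  · have h1 : gV g⁻¹ *ᵥ (a⁻¹ • f) = f := by rw [← L.2.2, gV_inv_cancel]
    rw [Matrix.mulVec_smul, inv_smul_eq_iff₀ L.1] at h1
    rw [inv_inv]; exact h1

/-- Scaling the values of the characters. -/
theorem exists_scale {e f : V} (P : Pair Q e f) {c : F} (hc : c ≠ 0) :
    ∃ (a : F) (g : GG), Lev e f a g ∧ ∀ v, Perp Q e f v → Q (a⁻¹ • (gV g *ᵥ v)) = c ^ 2 * Q v := by
  obtain ⟨u, u', hu, h1, h1'⟩ := exists_frame H.nd H.tri P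
  obtain ⟨t, ht, -, -, hti⟩ := exists_torus_elt H.nd P (inv_ne_zero hc)
  obtain ⟨s, hs, hfix⟩ := exists_corr H hu t
  refine ⟨c⁻¹, ⟨s * t, omega_of_corr H hs⟩, ⟨inv_ne_zero hc, ?_, ?_⟩, fun v _ => ?_⟩
  · show ogVal (s * t) *ᵥ e = _
    rw [ogVal_mul, ← Matrix.mulVec_mulVec, ht, polar_self' P.1, QuadraticMap.polar_comm _ f e, P.2.2,
      mul_zero, zero_smul, add_zero, mul_one,
      show e + (c⁻¹ - 1) • e = c⁻¹ • e by module, Matrix.mulVec_smul,
      hfix e (by rw [QuadraticMap.polar_comm]; exact h1.1) (by rw [QuadraticMap.polar_comm]; exact h1'.1)]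
  · show ogVal (s * t) *ᵥ f = _
    rw [ogVal_mul, ← Matrix.mulVec_mulVec, ht, polar_self' P.2.1, P.2.2, mul_zero, zero_smul, add_zero, mul_one,
      inv_inv, show f + (c - 1) • f = c • f by module, Matrix.mulVec_smul,
      hfix f (by rw [QuadraticMap.polar_comm]; exact h1.2) (by rw [QuadraticMap.polar_comm]; exact h1'.2)]
  · rw [inv_inv, QuadraticMap.map_smul, gV_quad, smul_eq_mul, sq]

/-- Non-zero vectors of `W` with equal values are conjugate. -/
theorem exists_move_one {e f v v' : V} (P : Pair Q e f) (hv : Perp Q e f v) (hv0 : v ≠ 0)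
    (hv' : Perp Q e f v') (hv'0 : v' ≠ 0) (h : Q v' = Q v) :
    ∃ g : GG, Lev e f 1 g ∧ gV g *ᵥ v = v' := by
  have li : ∀ {x : V}, Perp Q e f x → x ≠ 0 →
      Function.Injective ((pairMap (F := F) e f).coprod (LinearMap.toSpanSingleton F V x)) := by
    intro x hx hx0
    refine (injective_iff_map_eq_zero _).2 fun p hp => ?_
    rw [LinearMap.coprod_apply, pairMap_apply, LinearMap.toSpanSingleton_apply] at hp
    have e1 := congrArg (B e) hp
    have e2 := congrArg (B f) hp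
    simp [QuadraticMap.polar_add_right, QuadraticMap.polar_smul_right, polar_self' P.1,
      polar_self' P.2.1, P.2.2, QuadraticMap.polar_comm _ f e, hx.1, hx.2] at e1 e2
    rw [e1, e2, zero_smul, zero_smul, zero_add, zero_add, smul_eq_zero] at hp
    exact Prod.ext (Prod.ext e2 e1) (hp.resolve_right hx0)
  have hval : ∀ {x : V}, Perp Q e f x → ∀ p : (F × F) × F,
      Q ((pairMap (F := F) e f).coprod (LinearMap.toSpanSingleton F V x) p) = p.1.1 * p.1.2 + p.2 * p.2 * Q x := by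
    intro x hx p
    rw [LinearMap.coprod_apply, pairMap_apply, LinearMap.toSpanSingleton_apply, quad_add_smul, quad_lin, P.1,
      P.2.1, P.2.2, polar_add_l, polar_smul_l, polar_smul_l, hx.1, hx.2]
    ring
  obtain ⟨M, hMd, hM, hMu⟩ := exists_isometry_map H.nd _ _ (li hv hv0) (li hv' hv'0)
    (fun p => by rw [hval hv', hval hv, h])
  set g₀ : OG := mkIsometry M hMd hM
  have hge : ogVal g₀ *ᵥ e = e := by
    show M *ᵥ e = e
    simpa [pairMap_apply] using hMu ((1, 0), 0)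
  have hgf : ogVal g₀ *ᵥ f = f := by
    show M *ᵥ f = f
    simpa [pairMap_apply] using hMu ((0, 1), 0)
  have hgv : ogVal g₀ *ᵥ v = v' := by
    show M *ᵥ v = v'
    simpa [pairMap_apply] using hMu ((0, 0), 1)
  obtain ⟨a, b, Pab, ha, hb, hav, hbv⟩ := exists_pair_perp H P hv' hv'0
  obtain ⟨c, hc, hfix⟩ := exists_corr H Pab g₀
  refine ⟨⟨c * g₀, omega_of_corr H hc⟩, ⟨one_ne_zero, ?_, ?_⟩, ?_⟩
  · show ogVal (c * g₀) *ᵥ e = _
    rw [one_smul, ogVal_mul, ← Matrix.mulVec_mulVec, hge,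
      hfix e (by rw [QuadraticMap.polar_comm]; exact ha.1) (by rw [QuadraticMap.polar_comm]; exact hb.1)]
  · show ogVal (c * g₀) *ᵥ f = _
    rw [inv_one, one_smul, ogVal_mul, ← Matrix.mulVec_mulVec, hgf,
      hfix f (by rw [QuadraticMap.polar_comm]; exact ha.2) (by rw [QuadraticMap.polar_comm]; exact hb.2)]
  · show ogVal (c * g₀) *ᵥ v = _
    rw [ogVal_mul, ← Matrix.mulVec_mulVec, hgv, hfix v' hav hbv]

/-- A correcting element trivial on the characters of two orthogonal pairs. -/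
theorem exists_corr_two {e f x x' y y' : V} (P : Pair Q e f) (Px : Pair Q x x') (Py : Pair Q y y')
    (h1 : Perp Q e f x) (h1' : Perp Q e f x') (h2 : Perp Q e f y) (h2' : Perp Q e f y')
    (h3 : Perp Q x x' y) (h3' : Perp Q x x' y') (g₀ : OG) :
    ∃ (a : F) (c : OG), a ≠ 0 ∧ invHom H.nd H.genQ c = invHom H.nd H.genQ g₀ ∧ ogVal c *ᵥ e = a • e ∧
      ogVal c *ᵥ f = a⁻¹ • f ∧ ogVal c *ᵥ x = a • x ∧ ogVal c *ᵥ y = a • y := by
  obtain ⟨z, hz, z1, z2, z3⟩ := exists_aniso_perp H P Px Py h1 h1' h2 h2' h3 h3'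
  have zfix : ∀ t : V, B t z = 0 → ogVal (OrthAut.refl hz) *ᵥ t = t := fun t ht =>
    refl_fix hz (by rw [QuadraticMap.polar_comm]; exact ht)
  -- the spinor part
  obtain ⟨a, c₁, ha, hc₁, he, hf, hx, hy⟩ : ∃ (a : F) (c₁ : OG), a ≠ 0 ∧
      spin c₁ = spin g₀ * (spin (OrthAut.refl hz)) ^ (if dick g₀ = 1 then 0 else 1) ∧
      ogVal c₁ *ᵥ e = a • e ∧ ogVal c₁ *ᵥ f = a⁻¹ • f ∧
      ogVal c₁ *ᵥ x = a • x ∧ ogVal c₁ *ᵥ y = a • y ∧ dick c₁ = 1 := by
    rcases Int.units_eq_one_or (spin g₀ * (spin (OrthAut.refl hz)) ^ (if dick g₀ = 1 then 0 else 1)) with hs | hs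
    · exact ⟨1, 1, one_ne_zero, by
        have := (invHom H.nd H.genQ).map_one
        rw [invHom_apply] at this
        rw [hs]; exact congrArg Prod.snd this, by simp, by simp, by simp, by simp, dick_one⟩
    have hodd : (2 : F) ≠ 0 := fun h0 => by
      rw [spin_two H.nd h0, spin_two H.nd h0, one_pow, mul_one] at hs; exact absurd hs (by decide)
    obtain ⟨ε, hε⟩ := FiniteField.exists_nonsquare (F := F)
      (fun hc => hodd (by haveI := ringChar.of_eq hc; exact CharTwo.two_eq_zero))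
    have hε0 : ε ≠ 0 := fun h0 => hε (h0 ▸ IsSquare.zero)
    obtain ⟨t₁, ht₁, -, -, ti₁⟩ := exists_torus_elt H.nd P hε0
    obtain ⟨t₂, ht₂, -, -, ti₂⟩ := exists_torus_elt H.nd Px hε0
    obtain ⟨t₃, ht₃, -, -, ti₃⟩ := exists_torus_elt H.nd Py hε0
    have hi : invHom H.nd H.genQ (t₁ * (t₂ * t₃)) = (1, -1) := by
      rw [map_mul, map_mul, ti₁, ti₂, ti₃, sqSign_of_not hε]; rfl
    rw [invHom_apply, Prod.mk.injEq] at hi
    refine ⟨ε, t₁ * (t₂ * t₃), hε0, by rw [hi.2, hs], ?_, ?_, ?_, ?_, hi.1⟩ <;>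
      simp [ogVal_mul, ← Matrix.mulVec_mulVec, ht₁, ht₂, ht₃, Matrix.mulVec_smul,
        QuadraticMap.polar_smul_right, P.2.2, Px.2.2, Py.2.2, polar_self' P.1, polar_self' P.2.1,
        polar_self' Px.1, polar_self' Py.1, QuadraticMap.polar_comm _ f e, QuadraticMap.polar_comm _ x' x,
        QuadraticMap.polar_comm _ y' y, h1.1, h1.2, h1'.1, h1'.2, h2.1, h2.2, h2'.1, h2'.2, h3.1, h3.2,
        QuadraticMap.polar_comm _ x e, QuadraticMap.polar_comm _ x f, QuadraticMap.polar_comm _ x' e,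
        QuadraticMap.polar_comm _ x' f, QuadraticMap.polar_comm _ y e, QuadraticMap.polar_comm _ y f,
        QuadraticMap.polar_comm _ y' e, QuadraticMap.polar_comm _ y' f, QuadraticMap.polar_comm _ y x,
        QuadraticMap.polar_comm _ y' x, h3'.1, h3'.2] <;>
      module
  obtain ⟨hy, hd₁⟩ := hy
  have hzr : invHom H.nd H.genQ (OrthAut.refl hz) = (-1, spin (OrthAut.refl hz)) := by
    rw [invHom_apply, dick_refl H.nd hz]
  rcases Int.units_eq_one_or (dick g₀) with hd | hd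
  · rw [if_pos hd, pow_zero, mul_one] at hc₁
    exact ⟨a, c₁, ha, by rw [invHom_apply, invHom_apply, hd₁, hd, hc₁], he, hf, hx, hy⟩
  · rw [if_neg (by rw [hd]; decide), pow_one] at hc₁
    refine ⟨a, OrthAut.refl hz * c₁, ha, ?_, ?_, ?_, ?_, ?_⟩
    · rw [map_mul, hzr, invHom_apply, invHom_apply, hd₁, hc₁, hd]
      refine Prod.ext (mul_one _) ?_
      show spin (OrthAut.refl hz) * (spin g₀ * spin (OrthAut.refl hz)) = spin g₀
      rw [mul_left_comm, Int.units_mul_self, mul_one]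
    · rw [ogVal_mul, ← Matrix.mulVec_mulVec, he, Matrix.mulVec_smul, zfix e z1.1]
    · rw [ogVal_mul, ← Matrix.mulVec_mulVec, hf, Matrix.mulVec_smul, zfix f z1.2]
    · rw [ogVal_mul, ← Matrix.mulVec_mulVec, hx, Matrix.mulVec_smul, zfix x z2.1]
    · rw [ogVal_mul, ← Matrix.mulVec_mulVec, hy, Matrix.mulVec_smul, zfix y z3.1]

/-- Two singular orthogonal vectors of `W` reach any other two. -/
theorem exists_move_two {e f v r v' r' : V} (P : Pair Q e f) (hv : Perp Q e f v) (hr : Perp Q e f r)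
    (h : TS Q v r) (hv' : Perp Q e f v') (hr' : Perp Q e f r') (h' : TS Q v' r') :
    ∃ (a : F) (g : GG), Lev e f a g ∧ a⁻¹ • (gV g *ᵥ v) = v' ∧ a⁻¹ • (gV g *ᵥ r) = r' := by
  have li : ∀ {x y : V}, Perp Q e f x → Perp Q e f y → TS Q x y →
      Function.Injective ((pairMap (F := F) e f).coprod (pairMap x y)) := by
    intro x y hx hy hxy
    refine (injective_iff_map_eq_zero _).2 fun p hp => ?_
    rw [LinearMap.coprod_apply, pairMap_apply, pairMap_apply] at hp
    have e1 := congrArg (B e) hp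
    have e2 := congrArg (B f) hp
    simp [QuadraticMap.polar_add_right, QuadraticMap.polar_smul_right, polar_self' P.1,
      polar_self' P.2.1, P.2.2, QuadraticMap.polar_comm _ f e, hx.1, hx.2, hy.1, hy.2] at e1 e2
    rw [e1, e2, zero_smul, zero_smul, zero_add, zero_add] at hp
    exact Prod.ext (Prod.ext e2 e1) (Prod.ext (hxy.2.2.2 _ _ hp).1 (hxy.2.2.2 _ _ hp).2)
  have hval : ∀ {x y : V}, Perp Q e f x → Perp Q e f y → TS Q x y → ∀ p : (F × F) × (F × F),
      Q ((pairMap (F := F) e f).coprod (pairMap x y) p) = p.1.1 * p.1.2 := by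
    intro x y hx hy hxy p
    rw [LinearMap.coprod_apply, pairMap_apply, pairMap_apply, quad_add, quad_lin, quad_lin, P.1, P.2.1, P.2.2,
      hxy.1, hxy.2.1, hxy.2.2.1, polar_lin_left, polar_lin_right, polar_lin_right, hx.1, hx.2, hy.1, hy.2]
    ring
  obtain ⟨M, hMd, hM, hMu⟩ := exists_isometry_map H.nd _ _ (li hv hr h) (li hv' hr' h')
    (fun p => by rw [hval hv' hr' h', hval hv hr h])
  set g₀ : OG := mkIsometry M hMd hM
  have hge : ogVal g₀ *ᵥ e = e := by
    show M *ᵥ e = e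
    simpa [pairMap_apply] using hMu ((1, 0), (0, 0))
  have hgf : ogVal g₀ *ᵥ f = f := by
    show M *ᵥ f = f
    simpa [pairMap_apply] using hMu ((0, 1), (0, 0))
  have hgv : ogVal g₀ *ᵥ v = v' := by
    show M *ᵥ v = v'
    simpa [pairMap_apply] using hMu ((0, 0), (1, 0))
  have hgr : ogVal g₀ *ᵥ r = r' := by
    show M *ᵥ r = r'
    simpa [pairMap_apply] using hMu ((0, 0), (0, 1))
  -- partners
  obtain ⟨z, hz⟩ := exists_polar H.nd (v := ![v', r', e, f]) (li4 (fun k1 k2 k3 k4 h0 => by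
    have e1 := congrArg (B e) h0
    have e2 := congrArg (B f) h0
    simp [QuadraticMap.polar_add_right, QuadraticMap.polar_smul_right, hv'.1, hv'.2, hr'.1, hr'.2, P.2.2,
      polar_self' P.1, polar_self' P.2.1, QuadraticMap.polar_comm _ f e] at e1 e2
    subst e1 e2
    simp only [zero_smul, add_zero] at h0
    exact ⟨(h'.2.2.2 _ _ h0).1, (h'.2.2.2 _ _ h0).2, rfl, rfl⟩)) ![1, 0, 0, 0]
  have z1 : B v' z = 1 := hz 0
  have z2 : B r' z = 0 := hz 1
  have z3 : B e z = 0 := hz 2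
  have z4 : B f z = 0 := hz 3
  set x' := z + (-Q z) • v' with hx'
  have Pv : Pair Q v' x' := ⟨h'.1, by
    rw [hx', quad_add_smul, h'.1, QuadraticMap.polar_comm, z1]; ring,
    by rw [hx', QuadraticMap.polar_add_right, z1, polar_smul_r, polar_self' h'.1, mul_zero, add_zero]⟩
  have hx'p : Perp Q e f x' := ⟨by
    rw [hx', QuadraticMap.polar_add_right, z3, polar_smul_r, hv'.1, mul_zero, add_zero], by
    rw [hx', QuadraticMap.polar_add_right, z4, polar_smul_r, hv'.2, mul_zero, add_zero]⟩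
  have hrp : Perp Q v' x' r' := ⟨h'.2.2.1, by
    rw [hx', polar_add_l, QuadraticMap.polar_comm _ z r', z2, polar_smul_l, h'.2.2.1, mul_zero, add_zero]⟩
  obtain ⟨y', Py, hy1, hy2⟩ := exists_partner2 H.nd P Pv hv' hx'p hr' hrp h'.right_ne h'.2.1
  obtain ⟨a, c, ha, hc, ce, cf, cv, cr⟩ :=
    exists_corr_two H P Pv Py hv' hx'p hr' hy1 hrp hy2 g₀
  refine ⟨a, ⟨c * g₀, omega_of_corr H hc⟩, ⟨ha, ?_, ?_⟩, ?_, ?_⟩
  · show ogVal (c * g₀) *ᵥ e = _
    rw [ogVal_mul, ← Matrix.mulVec_mulVec, hge, ce]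
  · show ogVal (c * g₀) *ᵥ f = _
    rw [ogVal_mul, ← Matrix.mulVec_mulVec, hgf, cf]
  · show a⁻¹ • (ogVal (c * g₀) *ᵥ v) = _
    rw [ogVal_mul, ← Matrix.mulVec_mulVec, hgv, cv, inv_smul_smul₀ ha]
  · show a⁻¹ • (ogVal (c * g₀) *ᵥ r) = _
    rw [ogVal_mul, ← Matrix.mulVec_mulVec, hgr, cr, inv_smul_smul₀ ha]

/-! ### Moves in the whole space -/

/-- Singular vectors form one orbit. -/
theorem exists_move_point {a b : V} (ha : a ≠ 0) (haa : Q a = 0) (hb : b ≠ 0) (hbb : Q b = 0) :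
    ∃ g : GG, gV g *ᵥ a = b := by
  obtain ⟨g, hg, hga⟩ := exists_move H.nd H.tri ha haa hb hbb
  exact ⟨⟨g, sR_le_omega H.nd H.tri hg⟩, hga⟩

/-- Long root elements are conjugate. -/
theorem exists_conj_root {a b c d : V} (h : TS Q a b) (h' : TS Q c d) :
    ∃ g : GG, g * elt a b * g⁻¹ = elt c d := by
  obtain ⟨g, hg, hga, k, hgb⟩ := exists_move_TS H.nd H.tri h h'
  refine ⟨⟨g, sR_le_omega H.nd H.tri hg⟩, ?_⟩
  rw [elt_conj H _ h.ok]
  show elt (ogVal g *ᵥ a) (ogVal g *ᵥ b) = _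
  rw [hga, hgb, elt_shift H h'.ok]

/-- The long root elements generate. -/
theorem top_of_roots {K : Subgroup (Omega F ⇑Q)} (hK : ∀ a b, TS Q a b → elt (Q := Q) a b ∈ K) : K = ⊤ := by
  refine eq_top_iff.2 fun g _ => ?_
  have hle : sR Q ≤ K.map (Subgroup.subtype _) := by
    refine (Subgroup.closure_le _).2 ?_
    rintro x ⟨a, b, h, hx⟩
    exact ⟨elt a b, hK a b h, ogVal_ext ((elt_val H h.ok).trans hx.symm)⟩
  obtain ⟨k, hk, hkg⟩ := hle (OrthGen.omega_le_sR H.nd H.tri g.2)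
  exact (Subtype.ext hkg : k = g) ▸ hk

end Cfsg.Agent.Lie.MinIndexOrth
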