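import Cfsg.Agent.Lib.Lie.MinIndexOrthTool

/-! Over two elements in dimension eight the radical of a point acts regularly in no action; the stabiliser of an
anisotropic point. -/

set_option autoImplicit false
set_option linter.unusedSectionVars false
set_option quotPrecheck false

namespace Cfsg.Agent.Lie.MinIndexOrth

open Cfsg Matrix Module MulAction Cfsg.Agent.Classical Cfsg.Agent.Classical.OrthAut

universe u

variable {F : Type*} [Field F] [Fintype F] {ι : Type} [Fintype ι] [DecidableEq ι]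
  {Q : QuadraticForm F (ι → F)}

local notation "V" => (ι → F)
local notation "B" => QuadraticMap.polar ⇑Q
local notation "GG" => (↥(Omega F ⇑Q))
local notation "q" => Fintype.card F
local notation "d" => Fintype.card ι - 2

variable {X : Type u} [MulAction (Omega F ⇑Q) X] [Fintype X] {e f : ι → F} {χ : AddChar F ℂ}

set_option maxHeartbeats 1000000 in
/-- No regular action of the radical over two elements in dimension eight. -/
theorem no_regular_two (D : Set2 Q e f χ) (hq : q = 2) (h8 : Fintype.card ι = 8)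
    (hall : ∀ o : Orb X D, oA D o = perpG Q e f) (hX : Fintype.card X = q ^ d) : False := by
  classical
  haveI : CharP F 2 := charP_of_card_eq_prime hq
  have h20 : (2 : F) = 0 := CharTwo.two_eq_zero
  have H := D.hyp
  have P := D.pair
  obtain ⟨u, u', w, w', Pu, Pw, hu, hu', hw, hw', huw, huw'⟩ := exists_two_pairs H P
  obtain ⟨s, hs0, hs, hsu, hsw⟩ := exists_aniso_perp H P Pu Pw hu hu' hw hw' huw huw'
  have hs1 : Q s = 1 := by
    have h := FiniteField.pow_card_sub_one_eq_one (Q s) hs0
    rwa [hq, pow_one] at h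
  have hss : B s s = 0 := by rw [polar_self2, h20, zero_mul]
  have hokg : OK Q u s := ⟨Pu.1, hsu.1⟩
  set g := elt (Q := Q) u s
  have hgap : ∀ x, gV g *ᵥ x = x + B u x • s - (B s x + Q s * B u x) • u := fun x => elt_apply H hokg x
  have hg1 : g ≠ 1 := by
    intro h
    have h1 := congrArg (fun k : GG => gV k *ᵥ u') h
    simp only [hgap, gV_one, Matrix.one_mulVec, Pu.2.2, hs1, one_mul, one_smul,
      QuadraticMap.polar_comm _ s u', hsu.2, zero_add] at h1
    have h2 : s = u := by linear_combination (norm := module) h1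
    rw [h2, Pu.1] at hs1
    exact zero_ne_one hs1
  have hnofix : ∀ y : X, g • y ≠ y := by
    intro y h
    obtain ⟨k, hk⟩ := exists_move_point H P.ne P.1 Pu.ne Pu.1
    have h1 := (((free_iff D).2 (hall (orbOf D (k⁻¹ • y)))).map H k)
    rw [hk, smul_inv_smul] at h1
    exact hg1 (h1 s hokg h)
  obtain ⟨y₀⟩ : Nonempty X := Fintype.card_pos_iff.1 (by rw [hX]; exact pow_pos Fintype.card_pos _)
  have gL : Lev e f 1 g := by
    refine lev_one ?_ ?_ <;> rw [hgap]
    · rw [QuadraticMap.polar_comm _ u e, hu.1, QuadraticMap.polar_comm _ s e, hs.1]; simp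
    · rw [QuadraticMap.polar_comm _ u f, hu.2, QuadraticMap.polar_comm _ s f, hs.2]; simp
  have act : ∀ {k : GG}, Lev e f 1 k → ∀ {x y : V}, Perp Q e f x → Perp Q e f y →
      k • y₀ = elt (Q := Q) e y • y₀ → k • elt (Q := Q) e x • y₀ = elt (Q := Q) e (gV k *ᵥ x + y) • y₀ := by
    intro k L x y hx hy hky
    rw [L.smul_elt H P.1 hx, one_smul, hky, ← mul_smul, ← elt_add H (tau_ok D (L.perp hx)) (tau_ok D hy)]
  obtain ⟨δ, hδ, hgy⟩ := regular_trans D hall hX y₀ (g • y₀)
  have hg2 : g * g = 1 := by rw [← sq]; exact elt_pow_char H hokg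
  have hneg : ∀ z : V, -z = z := fun z => funext fun i => CharTwo.neg_eq (z i)
  have hgδ : gV g *ᵥ δ = δ := by
    have h := act gL hδ hδ hgy.symm
    rw [hgy, ← mul_smul, hg2, one_smul] at h
    have h1 := regular_uniq D hall (perp_zero e f) ((gL.perp hδ).add hδ)
      (by rw [elt_zero H P.1, one_smul]; exact h)
    rw [eq_neg_of_add_eq_zero_left h1.symm, hneg]
  have hu'u : B u' u = 1 := by rw [QuadraticMap.polar_comm]; exact Pu.2.2
  have h0 : B u δ • s - (B s δ + Q s * B u δ) • u = 0 := by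
    rw [hgap] at hgδ
    linear_combination (norm := module) hgδ
  have hsδ' := congrArg (B u') h0
  simp only [QuadraticMap.polar_sub_right, polar_smul_r, hsu.2, hu'u, mul_zero, zero_sub, mul_one, polar_zero_r,
    neg_eq_zero, hs1, one_mul] at hsδ'
  have huδ : B u δ = 0 := by
    rw [hs1, one_mul, hsδ', zero_smul, sub_zero, smul_eq_zero] at h0
    exact h0.resolve_right fun e0 => hs0 (by rw [e0, QuadraticMap.map_zero])
  have hsδ : B s δ = 0 := by rw [huδ, add_zero] at hsδ'; exact hsδ'
  -- two more elements commute with the first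
  have other : ∀ {x x' : V}, Pair Q x x' → Perp Q e f x → B s x = 0 → B s x' = 0 → B u x = 0 → B u x' = 0 →
      B x δ = 0 := by
    intro x x' Px hx hsx hsx' hux hux'
    have hok : OK Q x s := ⟨Px.1, by rw [QuadraticMap.polar_comm]; exact hsx⟩
    set h := elt (Q := Q) x s
    have hap : ∀ z, gV h *ᵥ z = z + B x z • s - (B s z + Q s * B x z) • x := fun z => elt_apply H hok z
    have hL : Lev e f 1 h := by
      refine lev_one ?_ ?_ <;> rw [hap]
      · rw [QuadraticMap.polar_comm _ x e, hx.1, QuadraticMap.polar_comm _ s e, hs.1]; simp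
      · rw [QuadraticMap.polar_comm _ x f, hx.2, QuadraticMap.polar_comm _ s f, hs.2]; simp
    have hhu : gV h *ᵥ u = u := by
      rw [hap, QuadraticMap.polar_comm _ x u, hux, QuadraticMap.polar_comm _ s u, hsu.1]; simp
    have hhs : gV h *ᵥ s = s := by
      rw [hap, hss, QuadraticMap.polar_comm _ x s, hsx]; simp
    have hcomm : h * g = g * h := by
      have hc := elt_conj H h hokg
      rw [hhu, hhs, mul_inv_eq_iff_eq_mul] at hc
      exact hc
    obtain ⟨η, hη, hhy⟩ := regular_trans D hall hX y₀ (h • y₀)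
    have e1 := act hL hδ hη hhy.symm
    have e2 := act gL hη hδ hgy.symm
    rw [hgy, ← mul_smul, hcomm] at e1
    rw [hhy, ← mul_smul] at e2
    have e3 := regular_uniq D hall ((hL.perp hδ).add hη) ((gL.perp hη).add hδ) (e1.symm.trans e2)
    rw [hap, hgap] at e3
    have e4 := congrArg (B x') e3
    simp only [QuadraticMap.polar_add_right, QuadraticMap.polar_sub_right, polar_smul_r,
      QuadraticMap.polar_comm _ x' s, hsx', QuadraticMap.polar_comm _ x' u, hux',
      QuadraticMap.polar_comm _ x' x, Px.2.2, mul_zero, mul_one, sub_zero, add_zero, hsδ, hs1, one_mul,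
      zero_add] at e4
    linear_combination -e4
  have hwδ : B w δ = 0 := other Pw hw (by rw [QuadraticMap.polar_comm]; exact hsw.1)
    (by rw [QuadraticMap.polar_comm]; exact hsw.2) huw.1 huw'.1
  have hw'δ : B w' δ = 0 := other Pw.symm hw' (by rw [QuadraticMap.polar_comm]; exact hsw.2)
    (by rw [QuadraticMap.polar_comm]; exact hsw.1) huw'.1 huw.1
  -- a partner of `s` and a basis
  have hs0' : s ≠ 0 := fun e0 => hs0 (by rw [e0, QuadraticMap.map_zero])
  obtain ⟨t₀, ht₀⟩ := exists_polar1 H.nd hs0' 1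
  set t := proj Q w w' (proj Q u u' (proj Q e f t₀))
  have hst : B s t = 1 := by rw [polar_proj hsw, polar_proj hsu, polar_proj hs, ht₀]
  have ht : Perp Q e f t ∧ Perp Q u u' t ∧ Perp Q w w' t := by
    have h1 := perp_proj P t₀
    have h2 := perp_proj Pu (proj Q e f t₀)
    refine ⟨⟨?_, ?_⟩, ⟨?_, ?_⟩, perp_proj Pw _⟩ <;>
      simp [t, proj, QuadraticMap.polar_sub_right, QuadraticMap.polar_smul_right, hu.1, hu.2, hu'.1, hu'.2,
        hw.1, hw.2, hw'.1, hw'.2, huw.1, huw.2, huw'.1, huw'.2, P.2.2, Pu.2.2, polar_self' P.1,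
        polar_self' P.2.1, polar_self' Pu.1, polar_self' Pu.2.1, QuadraticMap.polar_comm _ f e,
        QuadraticMap.polar_comm _ u' u]
  have htt : B t t = 0 := by rw [polar_self2, h20, zero_mul]
  let Λ : V →ₗ[F] (Fin 8 → F) :=
    LinearMap.pi fun i => QuadraticMap.polarBilin Q (![e, f, u, u', w, w', s, t] i)
  have hΛ : Function.Surjective Λ := by
    intro c
    refine ⟨c 1 • e + c 0 • f + c 3 • u + c 2 • u' + c 5 • w + c 4 • w' + c 7 • s + c 6 • t, funext fun i => ?_⟩
    have P1 := polar_self' P.1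
    fin_cases i <;>
      simp [Λ, QuadraticMap.polar_add_right, QuadraticMap.polar_smul_right, P1, polar_self' P.2.1, P.2.2,
        polar_self' Pu.1, polar_self' Pu.2.1, Pu.2.2, polar_self' Pw.1, polar_self' Pw.2.1, Pw.2.2,
        QuadraticMap.polar_comm _ f e, QuadraticMap.polar_comm _ u' u, QuadraticMap.polar_comm _ w' w,
        hu.1, hu.2, hu'.1, hu'.2, hw.1, hw.2, hw'.1, hw'.2, hs.1, hs.2, ht.1.1, ht.1.2, huw.1, huw.2,
        huw'.1, huw'.2, hsu.1, hsu.2, hsw.1, hsw.2, ht.2.1.1, ht.2.1.2, ht.2.2.1, ht.2.2.2, hss, htt, hst,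
        QuadraticMap.polar_comm _ u e, QuadraticMap.polar_comm _ u f, QuadraticMap.polar_comm _ u' e,
        QuadraticMap.polar_comm _ u' f, QuadraticMap.polar_comm _ w e, QuadraticMap.polar_comm _ w f,
        QuadraticMap.polar_comm _ w' e, QuadraticMap.polar_comm _ w' f, QuadraticMap.polar_comm _ s e,
        QuadraticMap.polar_comm _ s f, QuadraticMap.polar_comm _ t e, QuadraticMap.polar_comm _ t f,
        QuadraticMap.polar_comm _ w u, QuadraticMap.polar_comm _ w u', QuadraticMap.polar_comm _ w' u,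
        QuadraticMap.polar_comm _ w' u', QuadraticMap.polar_comm _ s u, QuadraticMap.polar_comm _ s u',
        QuadraticMap.polar_comm _ t u, QuadraticMap.polar_comm _ t u', QuadraticMap.polar_comm _ s w,
        QuadraticMap.polar_comm _ s w', QuadraticMap.polar_comm _ t w, QuadraticMap.polar_comm _ t w',
        QuadraticMap.polar_comm _ t s]
  have hinj : Function.Injective Λ :=
    (LinearMap.injective_iff_surjective_of_finrank_eq_finrank (by simp [h8])).2 hΛ
  obtain ⟨a, b, hδab⟩ : ∃ a b : F, δ = a • u + b • s := by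
    refine ⟨B u' δ, B t δ, hinj (funext fun i => ?_)⟩
    fin_cases i <;>
      simp [Λ, QuadraticMap.polar_add_right, QuadraticMap.polar_smul_right, hδ.1, hδ.2, huδ, hsδ, hwδ, hw'δ,
        hu.1, hu.2, hs.1, hs.2, polar_self' Pu.1, hu'u, hsu.1, hsu.2,
        QuadraticMap.polar_comm _ w u, huw.1, hsw.1, QuadraticMap.polar_comm _ w' u, huw'.1, hsw.2,
        QuadraticMap.polar_comm _ s u, hss, QuadraticMap.polar_comm _ t u, ht.2.1.1,
        QuadraticMap.polar_comm _ t s, hst]
  set z := b • u' + (-(a + b)) • t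
  have hz : Perp Q e f z := (hu'.smul _).add (ht.1.smul _)
  have hgz : gV g *ᵥ z + δ = z := by
    have hz1 : B u z = b := by
      rw [QuadraticMap.polar_add_right, polar_smul_r, polar_smul_r, Pu.2.2, ht.2.1.1, mul_one, mul_zero, add_zero]
    have hz2 : B s z = -(a + b) := by
      rw [QuadraticMap.polar_add_right, polar_smul_r, polar_smul_r, QuadraticMap.polar_comm _ s u', hsu.2, hst,
        mul_one, mul_zero, zero_add]
    rw [hgap, hz1, hz2, hs1, one_mul, hδab]
    match_scalars <;> first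
      | ring1
      | linear_combination (-b) * h20
      | linear_combination (b - a) * h20
      | linear_combination (a - b) * h20
      | linear_combination a * h20
      | linear_combination b * h20
  exact hnofix _ ((act gL hz hδ hgy.symm).trans (by rw [hgz]))

/-! ### The stabiliser of an anisotropic point -/

theorem exists_aniso_subgroup (H : Hyp Q) {c : F} (hc : c ≠ 0) :
    ∃ K : Subgroup (POmega F ⇑Q), K.index * Nat.card {a : F // a * a = 1} = Nat.card {v : V // Q v = c} := by
  classical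
  obtain ⟨e, f, χ, D⟩ := exists_set2 H
  obtain ⟨u, u', w, w', Pu, Pw, hu, hu', hw, hw', huw, huw'⟩ := exists_two_pairs H D.pair
  set v₀ := u + c • u'
  have hv₀ : Q v₀ = c := pair_value Pu c
  have hv₀0 : v₀ ≠ 0 := fun h => hc (by rw [← hv₀, h, QuadraticMap.map_zero])
  have hmove : ∀ v : V, Q v = c → ∃ g : GG, gV g *ᵥ v₀ = v := by
    intro v hv
    have hv0 : v ≠ 0 := fun h => hc (by rw [← hv, h, QuadraticMap.map_zero])
    obtain ⟨M, hMd, hM, hMu⟩ := exists_isometry_map H.nd (LinearMap.toSpanSingleton F V v)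
      (LinearMap.toSpanSingleton F V v₀) (smul_left_injective F hv0) (smul_left_injective F hv₀0) fun p => by
      simp only [LinearMap.toSpanSingleton_apply, QuadraticMap.map_smul, hv, hv₀]
    set g₀ := mkIsometry M hMd hM
    have hg₀ : ogVal g₀ *ᵥ v = v₀ := by
      show M *ᵥ v = v₀
      simpa using hMu 1
    obtain ⟨k, hk, hfix⟩ := exists_corr H Pw g₀
    refine ⟨⟨k * g₀, omega_of_corr H hk⟩⁻¹, ?_⟩
    have h1 : gV (⟨k * g₀, omega_of_corr H hk⟩ : GG) *ᵥ v = v₀ := by
      show ogVal (k * g₀) *ᵥ v = _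
      rw [ogVal_mul, ← Matrix.mulVec_mulVec, hg₀]
      refine hfix v₀ ?_ ?_ <;>
        simp [v₀, QuadraticMap.polar_add_right, QuadraticMap.polar_smul_right, huw.1, huw.2, huw'.1, huw'.2,
          QuadraticMap.polar_comm _ w u, QuadraticMap.polar_comm _ w u', QuadraticMap.polar_comm _ w' u,
          QuadraticMap.polar_comm _ w' u']
    conv_lhs => rw [← h1, gV_inv_cancel]
  let S : Subgroup (Omega F ⇑Q) :=
    { carrier := {s | ∃ a : F, gV s *ᵥ v₀ = a • v₀}
      one_mem' := ⟨1, by rw [one_smul, gV_one, Matrix.one_mulVec]⟩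
      mul_mem' := by
        rintro s t ⟨a, ha⟩ ⟨a', ha'⟩
        exact ⟨a' * a, by rw [gV_mul_vec, ha', Matrix.mulVec_smul, ha, smul_smul]⟩
      inv_mem' := by
        rintro s ⟨a, ha⟩
        refine ⟨a⁻¹, ?_⟩
        have ha0 : a ≠ 0 := fun e1 => hv₀0 (gV_injective s (by
          show gV s *ᵥ v₀ = gV s *ᵥ 0
          rw [ha, e1, zero_smul, Matrix.mulVec_zero]))
        have h1 : gV s⁻¹ *ᵥ (a • v₀) = v₀ := by rw [← ha, gV_inv_cancel]
        rw [Matrix.mulVec_smul] at h1
        rw [eq_comm, inv_smul_eq_iff₀ ha0, h1] }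
  refine ⟨S.map (QuotientGroup.mk' (Subgroup.center (Omega F ⇑Q))), ?_⟩
  rw [Subgroup.index_map_eq S (QuotientGroup.mk'_surjective _) fun s hs => by
    rw [QuotientGroup.ker_mk'] at hs
    rcases center_omega_scalar H.nd H.tri (by have := H.seven; omega) hs with h1 | h1
    · exact ⟨1, by rw [one_smul]; show omVal s *ᵥ v₀ = v₀; rw [h1, Matrix.one_mulVec]⟩
    · exact ⟨-1, by show omVal s *ᵥ v₀ = _; rw [h1, Matrix.neg_mulVec, Matrix.one_mulVec, neg_one_smul]⟩]
  let φ : (Omega F ⇑Q ⧸ S) × {a : F // a * a = 1} → {v : V // Q v = c} := fun p =>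
    ⟨(p.2 : F) • (gV p.1.out *ᵥ v₀), by rw [QuadraticMap.map_smul, gV_quad, hv₀, p.2.2, one_smul]⟩
  have hφ : Function.Bijective φ := by
    constructor
    · rintro ⟨x, a⟩ ⟨y, a'⟩ hab
      have h1 : (a : F) • (gV x.out *ᵥ v₀) = (a' : F) • (gV y.out *ᵥ v₀) := congrArg Subtype.val hab
      have ha' : (a' : F) ≠ 0 := fun e0 => by simpa [e0] using a'.2
      have h2 : x = y := by
        rw [← QuotientGroup.out_eq' x, ← QuotientGroup.out_eq' y, QuotientGroup.eq]
        refine ⟨(a' : F)⁻¹ * a, ?_⟩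
        rw [← smul_smul, eq_inv_smul_iff₀ ha', gV_mul_vec, ← Matrix.mulVec_smul, ← h1,
          Matrix.mulVec_smul, gV_inv_cancel]
      subst h2
      refine Prod.ext rfl (Subtype.ext (smul_left_injective F (fun e1 => ?_) h1))
      exact hv₀0 (gV_injective x.out (e1.trans (Matrix.mulVec_zero _).symm))
    · rintro ⟨v, hv⟩
      obtain ⟨s, hs⟩ := hmove v hv
      obtain ⟨a, ha⟩ : ((QuotientGroup.mk s : Omega F ⇑Q ⧸ S).out)⁻¹ * s ∈ S :=
        QuotientGroup.eq.1 (QuotientGroup.out_eq' _)
      set x : Omega F ⇑Q ⧸ S := QuotientGroup.mk s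
      have h1 : v = a • (gV x.out *ᵥ v₀) := by
        rw [← Matrix.mulVec_smul, ← ha, gV_mul_vec, gV_cancel_inv]
        exact hs.symm
      have ha2 : a * a = 1 := by
        have h2 := congrArg Q h1
        rw [hv, QuadraticMap.map_smul, gV_quad, hv₀, smul_eq_mul] at h2
        exact mul_right_cancel₀ hc (by linear_combination -h2)
      exact ⟨(x, ⟨a, ha2⟩), Subtype.ext h1.symm⟩
  have h1 := Nat.card_eq_of_bijective φ hφ
  rw [Nat.card_prod] at h1
  exact h1

end Cfsg.Agent.Lie.MinIndexOrth
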