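import Cfsg.Agent.Lib.Lie.MinIndexOrthOrb

/-! Counting vectors by value in `W` and in the orthogonal space of a pair inside `W`. -/

set_option autoImplicit false
set_option linter.unusedSectionVars false
set_option quotPrecheck false

namespace Cfsg.Agent.Lie.MinIndexOrth

open Cfsg Matrix Module MulAction Cfsg.Agent.Classical Cfsg.Agent.Classical.OrthAut

variable {F : Type*} [Field F] [Fintype F] {ι : Type} [Fintype ι] [DecidableEq ι]
  {Q : QuadraticForm F (ι → F)}

local notation "V" => (ι → F)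
local notation "B" => QuadraticMap.polar ⇑Q
local notation "q" => Fintype.card F
local notation "d" => Fintype.card ι - 2

/-- Splitting off a pair, value by value. -/
theorem value_split {U : Type*} [AddCommGroup U] [Module F U] [FiniteDimensional F U]
    (R : QuadraticForm F U) {e f : U} (he : R e = 0) (hf : R f = 0)
    (hef : QuadraticMap.polar ⇑R e f = 1) (c : F) :
    Nat.card {v : U // R v = c} =
        q * Nat.card {v : U // (QuadraticMap.polar ⇑R e v = 0 ∧ QuadraticMap.polar ⇑R f v = 0) ∧ R v = c} +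
        (q - 1) * Nat.card {v : U // QuadraticMap.polar ⇑R e v = 0 ∧ QuadraticMap.polar ⇑R f v = 0} := by
  set T : Submodule F U := LinearMap.ker (QuadraticMap.polarBilin R e) ⊓
    LinearMap.ker (QuadraticMap.polarBilin R f)
  have hT : ∀ v, v ∈ T ↔ QuadraticMap.polar ⇑R e v = 0 ∧ QuadraticMap.polar ⇑R f v = 0 := fun v => Iff.rfl
  have hee : QuadraticMap.polar ⇑R e e = 0 := by rw [QuadraticMap.polar_self, he, smul_zero]
  have hff : QuadraticMap.polar ⇑R f f = 0 := by rw [QuadraticMap.polar_self, hf, smul_zero]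
  have hfe : QuadraticMap.polar ⇑R f e = 1 := by rw [QuadraticMap.polar_comm, hef]
  let L : (F × F) × T →ₗ[F] U := (pairMap e f).coprod T.subtype
  have hLq : ∀ x, R (L x) = hypExt (R.comp T.subtype) x := fun x => by
    have hx := (hT _).1 x.2.2
    rw [hypExt_apply, LinearMap.coprod_apply, QuadraticMap.map_add ⇑R, pairMap_quad R he hf hef,
      pairMap_apply, QuadraticMap.polar_add_left, QuadraticMap.polar_smul_left,
      QuadraticMap.polar_smul_left, Submodule.subtype_apply, hx.1, hx.2]
    simp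
  have hLb : Function.Bijective L := by
    constructor
    · refine (injective_iff_map_eq_zero _).2 fun x hx => ?_
      have hx2 := (hT _).1 x.2.2
      rw [LinearMap.coprod_apply, pairMap_apply, Submodule.subtype_apply] at hx
      have h1 := congrArg (QuadraticMap.polar ⇑R e) hx
      have h2 := congrArg (QuadraticMap.polar ⇑R f) hx
      simp [QuadraticMap.polar_add_right, QuadraticMap.polar_smul_right, hee, hff, hef, hfe,
        hx2.1, hx2.2] at h1 h2
      exact Prod.ext (Prod.ext h2 h1) (Subtype.ext (by simpa [h1, h2] using hx))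
    · intro v
      refine ⟨((QuadraticMap.polar ⇑R f v, QuadraticMap.polar ⇑R e v),
        ⟨v - QuadraticMap.polar ⇑R f v • e - QuadraticMap.polar ⇑R e v • f, (hT _).2 ?_⟩), ?_⟩
      · simp [QuadraticMap.polar_sub_right, QuadraticMap.polar_smul_right, hee, hff, hef, hfe]
      · simp [L, pairMap_apply]
  have h1 := zeros_congr (LinearEquiv.ofBijective L hLb) hLq c
  rw [natCard_hypExt_eq] at h1
  have eT : Nat.card T = Nat.card {v : U // QuadraticMap.polar ⇑R e v = 0 ∧
      QuadraticMap.polar ⇑R f v = 0} := Nat.card_congr (Equiv.subtypeEquivRight hT)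
  have eZ : Nat.card {v : T // R.comp T.subtype v = c} = Nat.card {v : U //
      (QuadraticMap.polar ⇑R e v = 0 ∧ QuadraticMap.polar ⇑R f v = 0) ∧ R v = c} :=
    Nat.card_congr
      { toFun := fun v => ⟨v.1.1, (hT _).1 v.1.2, v.2⟩
        invFun := fun v => ⟨⟨v.1, (hT _).2 v.2.1⟩, v.2.2⟩
        left_inv := fun v => rfl
        right_inv := fun v => rfl }
  rw [eT, eZ] at h1
  exact h1.symm

/-- The number of vectors of `W` of a value. -/
noncomputable def wCount (Q : QuadraticForm F (ι → F)) (e f : ι → F) (c : F) : ℕ :=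
  Nat.card {v : ι → F // Perp Q e f v ∧ Q v = c}

/-- The number of singular vectors of `W` orthogonal to a pair of `W`. -/
noncomputable def wCountTwo (Q : QuadraticForm F (ι → F)) (e f a b : ι → F) : ℕ :=
  Nat.card {v : ι → F // Perp Q e f v ∧ Perp Q a b v ∧ Q v = 0}

variable (H : Hyp Q) {e f : ι → F} (P : Pair Q e f)
include H P

theorem value_V (c : F) :
    Nat.card {v : V // Q v = c} = q * wCount Q e f c + (q - 1) * q ^ d := by
  rw [value_split Q P.1 P.2.1 P.2.2 c, ← card_perpG H P]
  rfl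

theorem wCount_zero_two {a b : V} (Pa : Pair Q a b) (ha : Perp Q e f a) (hb : Perp Q e f b) :
    wCount Q e f 0 = q * wCountTwo Q e f a b + (q - 1) * q ^ (d - 2) := by
  classical
  set T : Submodule F V := LinearMap.ker (QuadraticMap.polarBilin Q e) ⊓
    LinearMap.ker (QuadraticMap.polarBilin Q f) with hTdef
  set R := Q.comp T.subtype with hR
  have hRa : R ⟨a, ha⟩ = 0 := Pa.1
  have hRb : R ⟨b, hb⟩ = 0 := Pa.2.1
  have hpol : ∀ x y : T, QuadraticMap.polar ⇑R x y = B (x : V) (y : V) := fun x y => rfl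
  have hRab : QuadraticMap.polar ⇑R ⟨a, ha⟩ ⟨b, hb⟩ = 1 := by rw [hpol]; exact Pa.2.2
  have h1 := value_split R hRa hRb hRab 0
  have h2 := (zeros_split R hRa hRb hRab).2
  have e0 : Nat.card T = q ^ d := card_perpG H P
  have e1 : Nat.card {v : T // R v = 0} = wCount Q e f 0 :=
    Nat.card_congr
      { toFun := fun v => ⟨v.1.1, v.1.2, v.2⟩
        invFun := fun v => ⟨⟨v.1, v.2.1⟩, v.2.2⟩
        left_inv := fun v => rfl
        right_inv := fun v => rfl }
  have e2 : Nat.card {v : T // (QuadraticMap.polar ⇑R ⟨a, ha⟩ v = 0 ∧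
      QuadraticMap.polar ⇑R ⟨b, hb⟩ v = 0) ∧ R v = 0} = wCountTwo Q e f a b :=
    Nat.card_congr
      { toFun := fun v => ⟨v.1.1, v.1.2, v.2.1, v.2.2⟩
        invFun := fun v => ⟨⟨v.1, v.2.1⟩, v.2.2.1, v.2.2.2⟩
        left_inv := fun v => rfl
        right_inv := fun v => rfl }
  have hd : d = 2 + (d - 2) := by have := H.seven; omega
  rw [e0] at h2
  have e3 : Nat.card {v : T // QuadraticMap.polar ⇑R ⟨a, ha⟩ v = 0 ∧
      QuadraticMap.polar ⇑R ⟨b, hb⟩ v = 0} = q ^ (d - 2) := by
    rw [hd, pow_add] at h2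
    exact Nat.eq_of_mul_eq_mul_left (by positivity) h2
  rw [e1, e2, e3] at h1
  exact h1

omit H P in
/-- The singular class. -/
theorem card_cls_zero {v : V} (hv : Q v = 0) : (cls Q e f v).card + 1 = wCount Q e f 0 := by
  classical
  rw [wCount, Nat.card_eq_fintype_card, Fintype.card_subtype]
  rw [← Finset.card_erase_add_one (a := (0 : V))
    (Finset.mem_filter.2 ⟨Finset.mem_univ _, perp_zero e f, QuadraticMap.map_zero _⟩)]
  congr 2
  ext w
  simp only [Finset.mem_erase, Finset.mem_filter, Finset.mem_univ, true_and, mem_cls, hv, mul_zero]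
  exact ⟨fun ⟨h1, h2, _, _, h3⟩ => ⟨h1, h2, h3⟩, fun ⟨h1, h2, h3⟩ => ⟨h1, h2, 1, one_ne_zero, h3⟩⟩

omit H P in
/-- An anisotropic class in even characteristic. -/
theorem card_cls_even (h2 : (2 : F) = 0) {v : V} (hv : Q v ≠ 0) :
    (cls Q e f v).card + wCount Q e f 0 = Nat.card {w : V // Perp Q e f w} := by
  classical
  rw [wCount, Nat.card_eq_fintype_card, Nat.card_eq_fintype_card, Fintype.card_subtype, Fintype.card_subtype,
    ← Finset.card_union_of_disjoint]
  · congr 1
    ext w
    simp only [Finset.mem_union, mem_cls, Finset.mem_filter, Finset.mem_univ, true_and]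
    constructor
    · rintro (⟨_, h, _⟩ | ⟨h, _⟩) <;> exact h
    · intro hw
      by_cases h0 : Q w = 0
      · exact Or.inr ⟨hw, h0⟩
      haveI : CharP F 2 := CharTwo.of_one_ne_zero_of_two_eq_zero one_ne_zero h2
      obtain ⟨c, hc⟩ := FiniteField.isSquare_of_char_two (ringChar.eq F 2) (Q w / Q v)
      refine Or.inl ⟨fun e0 => h0 (by rw [e0, QuadraticMap.map_zero]), hw, c, fun e0 => ?_, ?_⟩
      · rw [e0, mul_zero, div_eq_zero_iff] at hc; exact hc.elim h0 hv
      · rw [sq, ← hc, div_mul_cancel₀ _ hv]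
  · refine Finset.disjoint_left.2 fun w hw hw' => ?_
    obtain ⟨-, -, c, hc, hcv⟩ := mem_cls.1 hw
    rw [(Finset.mem_filter.1 hw').2.2] at hcv
    exact mul_ne_zero (pow_ne_zero 2 hc) hv hcv.symm

omit H P in
/-- An anisotropic class contains half the values. -/
theorem card_cls_odd {v : V} (hv : Q v ≠ 0) {L : ℕ} (hL : ∀ c : F, c ≠ 0 → L ≤ wCount Q e f c) :
    (q - 1) * L ≤ 2 * (cls Q e f v).card := by
  classical
  set U : Finset F := Finset.univ.filter (fun c => c ≠ 0)
  set I := U.image fun c => c ^ 2 * Q v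
  have hU : U.card = q - 1 := by
    rw [show U = Finset.univ.erase (0 : F) by ext c; simp [U], Finset.card_erase_of_mem (Finset.mem_univ _),
      Finset.card_univ]
  have h1 : U.card ≤ 2 * I.card := by
    refine Finset.card_le_mul_card_image U 2 fun y hy => ?_
    obtain ⟨c₀, -, rfl⟩ := Finset.mem_image.1 hy
    refine le_trans (Finset.card_le_card fun c hc => ?_) (Finset.card_le_two (a := c₀) (b := -c₀))
    obtain ⟨-, hc⟩ := Finset.mem_filter.1 hc
    rw [Finset.mem_insert, Finset.mem_singleton]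
    exact sq_eq_sq_iff_eq_or_eq_neg.1 (mul_right_cancel₀ hv hc)
  have h2 : I.card * L ≤ (cls Q e f v).card := by
    calc I.card * L = ∑ _y ∈ I, L := by rw [Finset.sum_const, smul_eq_mul]
      _ ≤ ∑ y ∈ I, ((cls Q e f v).filter fun w => Q w = y).card := by
        refine Finset.sum_le_sum fun y hy => ?_
        obtain ⟨c, hc, rfl⟩ := Finset.mem_image.1 hy
        obtain ⟨-, hc⟩ := Finset.mem_filter.1 hc
        refine (hL _ (mul_ne_zero (pow_ne_zero 2 hc) hv)).trans (le_of_eq ?_)
        rw [wCount, Nat.card_eq_fintype_card, Fintype.card_subtype]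
        congr 1
        ext w
        simp only [Finset.mem_filter, Finset.mem_univ, true_and, mem_cls]
        refine ⟨fun ⟨h, h'⟩ => ⟨⟨fun e0 => ?_, h, c, hc, h'⟩, h'⟩, fun ⟨⟨_, h, _⟩, h'⟩ => ⟨h, h'⟩⟩
        rw [e0, QuadraticMap.map_zero] at h'
        exact mul_ne_zero (pow_ne_zero 2 hc) hv h'.symm
      _ = (I.biUnion fun y => (cls Q e f v).filter fun w => Q w = y).card := by
        rw [Finset.card_biUnion fun y _ y' _ hne => Finset.disjoint_left.2 fun w hw hw' =>
          hne ((Finset.mem_filter.1 hw).2.symm.trans (Finset.mem_filter.1 hw').2)]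
      _ ≤ _ := Finset.card_le_card fun w hw => by
        obtain ⟨y, -, hw⟩ := Finset.mem_biUnion.1 hw
        exact (Finset.mem_filter.1 hw).1
  calc (q - 1) * L = U.card * L := by rw [hU]
    _ ≤ 2 * I.card * L := Nat.mul_le_mul_right _ h1
    _ = 2 * (I.card * L) := by ring
    _ ≤ _ := Nat.mul_le_mul_left _ h2

/-- The singular vectors of `W` orthogonal to `v` and off its line. -/
theorem card_rest {v v' : V} (hv : Perp Q e f v) (hv' : Perp Q e f v') (Pv : Pair Q v v') :
    q * (wCountTwo Q e f v v' - 1) ≤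
      Nat.card {r : V // Perp Q e f r ∧ TS Q v r} := by
  classical
  have h0 : Fintype.card {z : V // (Perp Q e f z ∧ Perp Q v v' z ∧ Q z = 0) ∧ z ≠ 0} =
      wCountTwo Q e f v v' - 1 := by
    rw [wCountTwo, Nat.card_eq_fintype_card, Fintype.card_subtype, Fintype.card_subtype,
      ← Finset.card_erase_of_mem (a := (0 : V)) (Finset.mem_filter.2 ⟨Finset.mem_univ _, perp_zero e f,
        perp_zero v v', QuadraticMap.map_zero _⟩)]
    congr 1
    ext z
    simp only [Finset.mem_erase, Finset.mem_filter, Finset.mem_univ, true_and]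
    tauto
  rw [← h0, ← Fintype.card_prod, ← Nat.card_eq_fintype_card]
  refine Nat.card_le_card_of_injective
    (fun p : F × {z : V // (Perp Q e f z ∧ Perp Q v v' z ∧ Q z = 0) ∧ z ≠ 0} =>
      (⟨p.1 • v + p.2.1, (hv.smul _).add p.2.2.1.1, Pv.1, ?_, ?_, ?_⟩ :
        {r : V // Perp Q e f r ∧ TS Q v r})) ?_
  · rw [quad_add, QuadraticMap.map_smul, Pv.1, smul_zero, p.2.2.1.2.2, polar_smul_l, p.2.2.1.2.1.1]; ring
  · rw [QuadraticMap.polar_add_right, polar_smul_r, polar_self' Pv.1, p.2.2.1.2.1.1, mul_zero, add_zero]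
  · intro s t hst
    have h1 := congrArg (B v') hst
    simp [QuadraticMap.polar_add_right, QuadraticMap.polar_smul_right, p.2.2.1.2.1.2,
      QuadraticMap.polar_comm _ v' v, Pv.2.2] at h1
    have h3 : t • p.2.1 = 0 := by
      linear_combination (norm := skip) hst
      rw [show s = -(t * p.1) by linear_combination h1]
      module
    have ht := (smul_eq_zero.1 h3).resolve_right p.2.2.2
    exact ⟨by rw [ht] at h1; simpa using h1, ht⟩
  · rintro ⟨α, z⟩ ⟨α', z'⟩ h
    have h' : α • v + z.1 = α' • v + z'.1 := congrArg Subtype.val h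
    have h1 := congrArg (B v') h'
    simp [QuadraticMap.polar_add_right, QuadraticMap.polar_smul_right, z.2.1.2.1.2, z'.2.1.2.1.2,
      QuadraticMap.polar_comm _ v' v, Pv.2.2] at h1
    subst h1
    exact Prod.ext rfl (Subtype.ext (add_left_cancel h'))

end Cfsg.Agent.Lie.MinIndexOrth
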