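import Cfsg.Agent.Lib.Lie.MinIndexOrthTool

/-! Over two or three elements no subgroup has too many vectors of one anisotropic value; three orbits through an
anisotropic vector are not permuted by the unipotent elements if two orthogonal vectors of equal value are
available. -/

set_option autoImplicit false
set_option linter.unusedSectionVars false
set_option quotPrecheck false

namespace Cfsg.Agent.Lie.MinIndexOrth

open Cfsg Matrix Module MulAction Cfsg.Agent.Classical Cfsg.Agent.Classical.OrthAut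

universe u

theorem perm_three_comm : ∀ a b : Equiv.Perm (Fin 3), a ^ 3 = 1 → b ^ 3 = 1 → a * b = b * a := by
  decide +kernel

variable {F : Type*} [Field F] [Fintype F] {ι : Type} [Fintype ι] [DecidableEq ι]
  {Q : QuadraticForm F (ι → F)}

local notation "V" => (ι → F)
local notation "B" => QuadraticMap.polar ⇑Q
local notation "GG" => (↥(Omega F ⇑Q))
local notation "q" => Fintype.card F

theorem sum_shift (A : Finset (ι → F)) (hA : ∀ x ∈ A, ∀ y ∈ A, x + y ∈ A) {s : V} (hs : s ∈ A)
    (P : V → Prop) [DecidablePred P] : (A.filter fun x => P (x + s)).card = (A.filter P).card := by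
  classical
  refine Finset.card_bij (fun x _ => x + s) ?_ (fun _ _ _ _ h => add_right_cancel h) ?_
  · intro x hx
    obtain ⟨h1, h2⟩ := Finset.mem_filter.1 hx
    exact Finset.mem_filter.2 ⟨hA x h1 s hs, h2⟩
  · intro y hy
    obtain ⟨h1, h2⟩ := Finset.mem_filter.1 hy
    obtain ⟨z, hz, hzy⟩ : ∃ z ∈ A, z + s = y := by
      have himg : (A.image fun z => z + s) = A := by
        refine Finset.eq_of_subset_of_card_le ?_ (le_of_eq ?_)
        · intro w hw
          obtain ⟨z, hz, rfl⟩ := Finset.mem_image.1 hw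
          exact hA z hz s hs
        · rw [Finset.card_image_of_injective _ fun _ _ h => add_right_cancel h]
      rw [← himg] at h1
      exact Finset.mem_image.1 h1
    exact ⟨z, Finset.mem_filter.2 ⟨hz, by rw [hzy]; exact h2⟩, hzy⟩

/-- At most two thirds. -/
theorem dense_three (h3 : q = 3) (A : Finset (ι → F)) (hA : ∀ x ∈ A, ∀ y ∈ A, x + y ∈ A) {c : F} (hc : c ≠ 0)
    [DecidablePred fun x : ι → F => Q x = c] : 3 * (A.filter fun x => Q x = c).card ≤ 2 * A.card := by
  classical
  by_cases hex : ∃ s ∈ A, Q s = c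
  swap
  · push Not at hex
    rw [Finset.filter_eq_empty_iff.2 fun x hx => hex x hx]; simp
  obtain ⟨s, hs, hsc⟩ := hex
  haveI : CharP F 3 := charP_of_card_eq_prime h3
  have h30 : (3 : F) = 0 := by exact_mod_cast CharP.cast_eq_zero F 3
  have h2 : (2 : F) ≠ 0 := fun h => one_ne_zero (α := F) (by linear_combination h30 - h)
  have e1 := sum_shift A hA hs (fun x => Q x = c)
  have e2 := sum_shift A hA (hA s hs s hs) (fun x => Q x = c)
  have hpt : ∀ x : V, ((if Q x = c then 1 else 0) + (if Q (x + s) = c then 1 else 0)) +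
      (if Q (x + (s + s)) = c then 1 else 0) ≤ 2 := by
    intro x
    by_contra hcon
    split_ifs at hcon with k1 k2 k3 <;> try omega
    rw [quad_add, hsc, k1] at k2
    rw [quad_add, quad_add, k1, hsc, polar_self2, hsc, QuadraticMap.polar_add_right] at k3
    exact hc (mul_left_cancel₀ (mul_ne_zero h2 h2) (by linear_combination 2 * k3 - 4 * k2 - c * h30 + c * h30))
  have hsum := Finset.sum_le_sum (s := A) fun x _ => hpt x
  rw [Finset.sum_add_distrib, Finset.sum_add_distrib, Finset.sum_boole, Finset.sum_boole, Finset.sum_boole,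
    Finset.sum_const, smul_eq_mul] at hsum
  simp only [Nat.cast_id] at hsum
  rw [e1, e2] at hsum
  calc 3 * (A.filter fun x => Q x = c).card = (A.filter fun x => Q x = c).card + (A.filter fun x => Q x = c).card +
        (A.filter fun x => Q x = c).card := by ring
    _ ≤ A.card * 2 := hsum
    _ = _ := mul_comm _ _

/-- At most three quarters. -/
theorem dense_two (h2 : q = 2) (A : Finset (ι → F)) (hA : ∀ x ∈ A, ∀ y ∈ A, x + y ∈ A)
    [DecidablePred fun x : ι → F => Q x = 1] : 4 * (A.filter fun x => Q x = 1).card ≤ 3 * A.card := by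
  classical
  haveI : CharP F 2 := charP_of_card_eq_prime h2
  have h20 : (2 : F) = 0 := CharTwo.two_eq_zero
  by_cases hex : ∃ a ∈ A, ∃ b ∈ A, B a b ≠ 0
  · obtain ⟨a, ha, b, hb, hab⟩ := hex
    have hab1 : B a b = 1 := by
      have h := FiniteField.pow_card_sub_one_eq_one (B a b) hab
      rwa [h2, pow_one] at h
    have e1 := sum_shift A hA ha (fun x => Q x = 1)
    have e2 := sum_shift A hA hb (fun x => Q x = 1)
    have e3 := sum_shift A hA (hA a ha b hb) (fun x => Q x = 1)
    have hpt : ∀ x : V, (((if Q x = 1 then 1 else 0) + (if Q (x + a) = 1 then 1 else 0)) +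
        (if Q (x + b) = 1 then 1 else 0)) + (if Q (x + (a + b)) = 1 then 1 else 0) ≤ 3 := by
      intro x
      by_contra hcon
      split_ifs at hcon with k1 k2 k3 k4 <;> try omega
      rw [quad_add, k1] at k2 k3
      rw [quad_add, quad_add, QuadraticMap.polar_add_right, k1, hab1] at k4
      exact one_ne_zero (α := F) (by linear_combination k4 - k2 - k3)
    have hsum := Finset.sum_le_sum (s := A) fun x _ => hpt x
    rw [Finset.sum_add_distrib, Finset.sum_add_distrib, Finset.sum_add_distrib, Finset.sum_boole, Finset.sum_boole,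
      Finset.sum_boole, Finset.sum_boole, Finset.sum_const, smul_eq_mul] at hsum
    simp only [Nat.cast_id] at hsum
    rw [e1, e2, e3] at hsum
    calc 4 * (A.filter fun x => Q x = 1).card = (A.filter fun x => Q x = 1).card +
          (A.filter fun x => Q x = 1).card + (A.filter fun x => Q x = 1).card +
          (A.filter fun x => Q x = 1).card := by ring
      _ ≤ A.card * 3 := hsum
      _ = _ := mul_comm _ _
  push Not at hex
  by_cases hone : ∃ s ∈ A, Q s = 1
  swap
  · push Not at hone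
    rw [Finset.filter_eq_empty_iff.2 fun x hx => hone x hx]; simp
  obtain ⟨s, hs, hsc⟩ := hone
  have e1 := sum_shift A hA hs (fun x => Q x = 1)
  have hdis : Disjoint (A.filter fun x => Q x = 1) (A.filter fun x => Q (x + s) = 1) := by
    refine Finset.disjoint_left.2 fun x hx hx' => ?_
    obtain ⟨hxA, hx1⟩ := Finset.mem_filter.1 hx
    have hx2 := (Finset.mem_filter.1 hx').2
    rw [quad_add, hx1, hsc, hex x hxA s hs] at hx2
    exact one_ne_zero (α := F) (by linear_combination hx2)
  have h := Finset.card_le_card (Finset.union_subset (Finset.filter_subset (fun x => Q x = 1) A)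
    (Finset.filter_subset (fun x => Q (x + s) = 1) A))
  rw [Finset.card_union_of_disjoint hdis, e1] at h
  omega

variable {X : Type u} [MulAction (Omega F ⇑Q) X] [Fintype X] {e f : ι → F} {χ : AddChar F ℂ}
  (D : Set2 Q e f χ)
include D

/-- Few orbits through a vector of a class that fills no subgroup. -/
theorem through_dense {v : V} (hv : Perp Q e f v) (hv0 : v ≠ 0) {a b : ℕ}
    (h : ∀ A : AddSubgroup (ι → F), b * (@Finset.filter _ (fun w => w ∈ A) (_root_.Classical.decPred _)
      (cls Q e f v)).card ≤ a * Nat.card A) :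
    b * ((through X D v).card * (cls Q e f v).card) ≤ a * Fintype.card X := by
  refine (Nat.mul_le_mul_left _ (class_weight D hv hv0)).trans ?_
  rw [card_points D, Finset.mul_sum, Finset.mul_sum]
  exact Finset.sum_le_sum fun o _ => h (oA D o)

theorem dense_cls_three (h3 : q = 3) {v : V} (hvv : Q v ≠ 0) (A : AddSubgroup (ι → F)) :
    3 * (@Finset.filter _ (fun w => w ∈ A) (_root_.Classical.decPred _) (cls Q e f v)).card ≤ 2 * Nat.card A := by
  classical
  have h := dense_three (Q := Q) h3 ((Finset.univ : Finset V).filter fun w => w ∈ A)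
    (fun x hx y hy => Finset.mem_filter.2 ⟨Finset.mem_univ _,
      A.add_mem (Finset.mem_filter.1 hx).2 (Finset.mem_filter.1 hy).2⟩) (c := Q v) hvv
  have e0 : ((Finset.univ : Finset V).filter fun w => w ∈ A).card = Nat.card A := by
    rw [Nat.card_eq_fintype_card, Fintype.card_subtype]
  rw [e0] at h
  refine le_trans (Nat.mul_le_mul_left _ (Finset.card_le_card fun w hw => ?_)) h
  obtain ⟨hw, hwA⟩ := Finset.mem_filter.1 hw
  obtain ⟨-, -, c, hc, hcv⟩ := mem_cls.1 hw
  have hc2 := FiniteField.pow_card_sub_one_eq_one c hc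
  rw [h3] at hc2
  exact Finset.mem_filter.2 ⟨Finset.mem_filter.2 ⟨Finset.mem_univ _, hwA⟩, by rw [hcv, hc2, one_mul]⟩

theorem dense_cls_two (h2 : q = 2) {v : V} (hvv : Q v ≠ 0) (A : AddSubgroup (ι → F)) :
    4 * (@Finset.filter _ (fun w => w ∈ A) (_root_.Classical.decPred _) (cls Q e f v)).card ≤ 3 * Nat.card A := by
  classical
  have h := dense_two (Q := Q) h2 ((Finset.univ : Finset V).filter fun w => w ∈ A)
    (fun x hx y hy => Finset.mem_filter.2 ⟨Finset.mem_univ _,
      A.add_mem (Finset.mem_filter.1 hx).2 (Finset.mem_filter.1 hy).2⟩)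
  have e0 : ((Finset.univ : Finset V).filter fun w => w ∈ A).card = Nat.card A := by
    rw [Nat.card_eq_fintype_card, Fintype.card_subtype]
  rw [e0] at h
  refine le_trans (Nat.mul_le_mul_left _ (Finset.card_le_card fun w hw => ?_)) h
  obtain ⟨hw, hwA⟩ := Finset.mem_filter.1 hw
  obtain ⟨-, -, c, hc, hcv⟩ := mem_cls.1 hw
  have hc2 := FiniteField.pow_card_sub_one_eq_one c hc
  rw [h2, pow_one] at hc2
  have hv1 := FiniteField.pow_card_sub_one_eq_one (Q v) hvv
  rw [h2, pow_one] at hv1
  exact Finset.mem_filter.2 ⟨Finset.mem_filter.2 ⟨Finset.mem_univ _, hwA⟩,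
    by rw [hcv, hc2, hv1, one_pow, mul_one]⟩

set_option maxHeartbeats 1000000 in
/-- Three orbits and two orthogonal vectors of equal value. -/
theorem inv_three [CharP F 3] {v u u' b y : V} (hk : (through X D v).card ≤ 3) (Pu : Pair Q u u')
    (hu : Perp Q e f u) (hu' : Perp Q e f u') (huv : B u v = 0) (hu'v : B u' v = 0)
    (hb : b ∈ perp5 Q e f u u' v) (hy : y ∈ perp5 Q e f u u' v) (hby : B b y = 0) (hQ : Q y = Q b)
    (hb0 : Q b ≠ 0) : Inv X D v u b := by
  classical
  obtain ⟨hb1, hb2, hb3⟩ := mem_perp5.1 hb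
  obtain ⟨hy1, hy2, hy3⟩ := mem_perp5.1 hy
  have hokb : OK Q u b := ⟨Pu.1, hb2.1⟩
  refine ⟨hokb, fun o ho x hx => ?_⟩
  have h30 : (3 : F) = 0 := by exact_mod_cast CharP.cast_eq_zero F 3
  have gen : ∀ {a z : V}, Perp Q e f a → B a v = 0 → Perp Q e f z → B v z = 0 → OK Q a z →
      elt (Q := Q) a z ∈ stab3 D v := fun ha hav hz hzv h =>
    elt_stab3 D hav (by rw [QuadraticMap.polar_comm]; exact hzv) ha.1 ha.2 hz.1 hz.2 h
  set tb : stab3 D v := ⟨_, gen hu huv hb1 hb3 hokb⟩
  refine stabAct_fix D (g := tb) ?_ ho hx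
  set K := {o : Orb X D // v ∈ oA D o}
  obtain ⟨em⟩ := Function.Embedding.nonempty_of_card_le (α := K) (β := Fin 3)
    (by rw [Fintype.card_fin, ← Nat.card_eq_fintype_card, card_through D]; exact hk)
  set ψ : stab3 D v →* Equiv.Perm (Fin 3) := (Equiv.Perm.viaEmbeddingHom em).comp (stabAct X D v)
  suffices hψ : ψ tb = 1 by
    refine Equiv.Perm.viaEmbeddingHom_injective em ?_
    rw [map_one]
    exact hψ
  have hcube : ∀ (g : stab3 D v) (a z : V), OK Q a z → (g : GG) = elt (Q := Q) a z → ψ g ^ 3 = 1 := by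
    intro g a z h e1
    rw [← map_pow, show g ^ 3 = 1 from Subtype.ext (by
      rw [SubmonoidClass.coe_pow, OneMemClass.coe_one, e1]; exact elt_pow_char D.hyp h), map_one]
  -- the element exchanging the lines of `u` and `u'` by a reflection
  have key : ∀ z ∈ perp5 Q e f u u' v, Q z = Q b → ∃ n : stab3 D v, ψ n * ψ tb = ψ tb * ψ n ∧
      ∀ w, Perp Q u u' w → gV (n : GG) *ᵥ w = w - ((Q z)⁻¹ * B z w) • z ∧
        gV (n : GG) *ᵥ u = (-Q z) • u' := by
    intro z hz hzQ
    obtain ⟨hz1, hz2, hz3⟩ := mem_perp5.1 hz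
    have hz0 : Q z ≠ 0 := by rw [hzQ]; exact hb0
    set c := (Q z)⁻¹ • z
    have hok : OK Q u c := ⟨Pu.1, by rw [polar_smul_r, hz2.1, mul_zero]⟩
    have hok' : OK Q u' z := ⟨Pu.2.1, hz2.2⟩
    set s : stab3 D v := ⟨_, gen hu huv (hz1.smul _) (by rw [polar_smul_r, hz3, mul_zero]) hok⟩
    set t : stab3 D v := ⟨_, gen hu' hu'v hz1 hz3 hok'⟩
    refine ⟨s * t * s, ?_, fun w hw => ?_⟩
    · have hs := hcube s u c hok rfl
      have ht := hcube t u' z hok' rfl
      have hb' := hcube tb u b hokb rfl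
      rw [map_mul, map_mul, mul_assoc, perm_three_comm _ _ hs hb', ← mul_assoc, mul_assoc (ψ s),
        perm_three_comm _ _ ht hb', ← mul_assoc (ψ s), perm_three_comm _ _ hs hb']
      simp only [mul_assoc]
    have hzz : B z z = 2 * Q z := polar_self2 z
    have hQc : Q c = (Q z)⁻¹ := by
      rw [QuadraticMap.map_smul, smul_eq_mul, mul_assoc, inv_mul_cancel₀ hz0, mul_one]
    refine ⟨?_, ?_⟩ <;>
      (show gV (elt (Q := Q) u c * elt (Q := Q) u' z * elt (Q := Q) u c) *ᵥ _ = _
       rw [gV_mul_vec, gV_mul_vec]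
       simp only [elt_apply D.hyp hok, elt_apply D.hyp hok', hQc])
    · simp only [c, QuadraticMap.polar_add_right, QuadraticMap.polar_sub_right, polar_smul_r, polar_smul_l, hw.1,
        hw.2, hzz, polar_self' Pu.1, polar_self' Pu.2.1, Pu.2.2, QuadraticMap.polar_comm _ u' u, hz2.1, hz2.2,
        QuadraticMap.polar_comm _ z u, QuadraticMap.polar_comm _ z u']
      match_scalars <;> field_simp <;> ring
    · simp only [c, QuadraticMap.polar_add_right, QuadraticMap.polar_sub_right, polar_smul_r, polar_smul_l,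
        hzz, polar_self' Pu.1, polar_self' Pu.2.1, Pu.2.2, QuadraticMap.polar_comm _ u' u, hz2.1, hz2.2,
        QuadraticMap.polar_comm _ z u, QuadraticMap.polar_comm _ z u']
      match_scalars <;> field_simp <;> ring
  obtain ⟨n, hn, hnw⟩ := key b hb rfl
  obtain ⟨m, hm, hmw⟩ := key y hy hQ
  have conj : ∀ (g : stab3 D v) (α : F), ψ g * ψ tb = ψ tb * ψ g → gV (g : GG) *ᵥ u = (-Q b) • u' →
      gV (g : GG) *ᵥ b = α • b → ∀ h : OK Q u' ((-Q b * α) • b),
        ψ tb = ψ ⟨_, gen hu' hu'v (hb1.smul _) (by rw [polar_smul_r, hb3, mul_zero]) h⟩ := by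
    intro g α hg hgu hgb h
    have e1 : (g * tb * g⁻¹ : stab3 D v) = ⟨_, gen hu' hu'v (hb1.smul _) (by rw [polar_smul_r, hb3, mul_zero]) h⟩ :=
      Subtype.ext (by
        show (g : GG) * elt (Q := Q) u b * (g : GG)⁻¹ = _
        rw [elt_conj D.hyp _ hokb, hgu, hgb, elt_smul_left D.hyp (⟨Pu.2.1, by
          rw [polar_smul_r, hb2.2, mul_zero]⟩ : OK Q u' (α • b)), smul_smul])
    rw [← e1, map_mul, map_mul, map_inv, hg, mul_inv_cancel_right]
  have hbb : (Q b)⁻¹ * B b b = 2 := by rw [polar_self2]; field_simp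
  have h1 := conj n (-1) hn (hnw b hb2).2 (by rw [(hnw b hb2).1, hbb]; module)
    ⟨Pu.2.1, by rw [polar_smul_r, hb2.2, mul_zero]⟩
  have h2 := conj m 1 hm (by rw [(hmw b hb2).2, hQ]) (by rw [(hmw b hb2).1, QuadraticMap.polar_comm _ y b, hby]; simp)
    ⟨Pu.2.1, by rw [polar_smul_r, hb2.2, mul_zero]⟩
  have hsq : ψ tb * ψ tb = 1 := by
    nth_rewrite 1 [h1]
    rw [h2, ← map_mul]
    convert map_one ψ using 2
    refine Subtype.ext ?_
    show elt (Q := Q) u' _ * elt u' _ = 1
    rw [← elt_add D.hyp ⟨Pu.2.1, by rw [polar_smul_r, hb2.2, mul_zero]⟩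
      ⟨Pu.2.1, by rw [polar_smul_r, hb2.2, mul_zero]⟩,
      show (-Q b * -1) • b + (-Q b * 1) • b = 0 by module, elt_zero D.hyp Pu.2.1]
  have h3 := hcube tb u b hokb rfl
  rw [pow_succ, pow_two, hsq, one_mul] at h3
  exact h3

end Cfsg.Agent.Lie.MinIndexOrth
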