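import Cfsg.Agent.Lib.Lie.MinIndexOrthKinds

/-! One regular orbit and some lines: too many points. One regular orbit and none: a point would be fixed by a
long root element. -/

set_option autoImplicit false
set_option linter.unusedSectionVars false
set_option quotPrecheck false

namespace Cfsg.Agent.Lie.MinIndexOrth

open Cfsg Matrix Module MulAction Cfsg.Agent.Classical Cfsg.Agent.Classical.OrthAut

universe u

variable {F : Type*} [Field F] [Fintype F] {ι : Type} [Fintype ι] [DecidableEq ι]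
  {Q : QuadraticForm F (ι → F)}

local notation "V" => (ι → F)
local notation "B" => QuadraticMap.polar ⇑Q
local notation "GG" => (↥(Omega F ⇑Q))
local notation "q" => Fintype.card F
local notation "d" => Fintype.card ι - 2

variable {X : Type u} [MulAction (Omega F ⇑Q) X] [Fintype X] {e f : ι → F} {χ : AddChar F ℂ}

/-- The radical of `a` fixes the point by its identity only. -/
def Free (Q : QuadraticForm F (ι → F)) {X : Type u} [MulAction (Omega F ⇑Q) X] (a : ι → F) (y : X) : Prop :=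
  ∀ w, OK Q a w → elt (Q := Q) a w • y = y → elt (Q := Q) a w = 1

/-- The radical of `a` fixes the point. -/
def Full (Q : QuadraticForm F (ι → F)) {X : Type u} [MulAction (Omega F ⇑Q) X] (a : ι → F) (y : X) : Prop :=
  ∀ w, OK Q a w → elt (Q := Q) a w • y = y

theorem Free.map (H : Hyp Q) {a : V} {y : X} (h : Free Q a y) (g : GG) : Free Q (gV g *ᵥ a) (g • y) := by
  intro w hw hfix
  obtain ⟨w', rfl⟩ : ∃ w', w = gV g *ᵥ w' := ⟨gV g⁻¹ *ᵥ w, (gV_cancel_inv g w).symm⟩
  have hw' : OK Q a w' := ⟨by rw [← gV_quad g]; exact hw.1, by rw [← gV_polar g]; exact hw.2⟩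
  rw [← elt_conj H g hw', mul_smul, mul_smul, inv_smul_smul, smul_left_cancel_iff] at hfix
  rw [← elt_conj H g hw', h w' hw' hfix, mul_one, mul_inv_cancel]

theorem Full.map (H : Hyp Q) {a : V} {y : X} (h : Full Q a y) (g : GG) : Full Q (gV g *ᵥ a) (g • y) := by
  intro w hw
  obtain ⟨w', rfl⟩ : ∃ w', w = gV g *ᵥ w' := ⟨gV g⁻¹ *ᵥ w, (gV_cancel_inv g w).symm⟩
  have hw' : OK Q a w' := ⟨by rw [← gV_quad g]; exact hw.1, by rw [← gV_polar g]; exact hw.2⟩
  rw [← elt_conj H g hw', mul_smul, mul_smul, inv_smul_smul, h w' hw']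

theorem Free.map_iff (H : Hyp Q) {a : V} {y : X} (g : GG) : Free Q (gV g *ᵥ a) (g • y) ↔ Free Q a y :=
  ⟨fun h => by have := h.map H g⁻¹; rwa [gV_inv_cancel, inv_smul_smul] at this, fun h => h.map H g⟩

theorem elt_ne_one (H : Hyp Q) {a b : V} (h : TS Q a b) : elt (Q := Q) a b ≠ 1 := fun h1 => by
  have h2 := rootSet_ne_one H.nd (Q := Q) (M := eMat Q a b) ⟨a, b, h, rfl⟩
  exact h2 (by rw [← elt_val H h.ok, h1, gV_one])

variable (D : Set2 Q e f χ)
include D

theorem elt_inj {s : V} (hs : Perp Q e f s) (h : elt (Q := Q) e s = 1) : s = 0 := by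
  have h1 := congrArg (fun g => gV g *ᵥ f) h
  simp only [elt_apply D.hyp (tau_ok D hs), gV_one, Matrix.one_mulVec, D.pair.2.2, one_smul] at h1
  have h2 := congrArg (B f) h1
  rw [QuadraticMap.polar_sub_right, QuadraticMap.polar_add_right, polar_smul_r,
    QuadraticMap.polar_comm _ f e, D.pair.2.2, hs.2, add_zero, mul_one, sub_eq_self] at h2
  rw [h2, zero_smul, sub_zero, add_eq_left] at h1
  exact h1

theorem reduce {w : V} (h : OK Q e w) :
    Perp Q e f (w - B f w • e) ∧ elt (Q := Q) e w = elt e (w - B f w • e) := by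
  refine ⟨⟨?_, ?_⟩, ?_⟩
  · rw [QuadraticMap.polar_sub_right, h.2, polar_smul_r, polar_self' h.1, mul_zero, sub_zero]
  · rw [QuadraticMap.polar_sub_right, polar_smul_r, QuadraticMap.polar_comm _ f e, D.pair.2.2, mul_one, sub_self]
  · rw [sub_eq_add_neg, ← neg_smul, elt_shift D.hyp h]

theorem ann_perpG : ann Q e f χ (perpG Q e f) = ⊥ := by
  refine AddSubgroup.eq_bot_of_card_eq _ ?_
  have h := card_ann D (le_refl (perpG Q e f))
  rw [card_perpG D.hyp D.pair] at h
  exact Nat.eq_of_mul_eq_mul_right (pow_pos Fintype.card_pos _) (by rw [h, one_mul])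

theorem free_iff {y : X} : Free Q e y ↔ oA D (orbOf D y) = perpG Q e f := by
  constructor
  · intro h
    have hS : S D y = ⊥ := (AddSubgroup.eq_bot_iff_forall _).2 fun s hs =>
      elt_inj D hs.1 (h s (tau_ok D hs.1) hs.2)
    show ann Q e f χ (S D y) = _
    rw [hS]
    refine le_antisymm (ann_le _) fun w hw => ⟨hw, fun s hs => ?_⟩
    rw [(AddSubgroup.mem_bot).1 hs, polar_zero_r, AddChar.map_zero_eq_one]
  · intro h w hw hfix
    obtain ⟨hp, he⟩ := reduce D hw
    rw [he] at hfix ⊢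
    have h1 : S D y = ⊥ := by
      rw [← ann_ann D (S_le D y), show ann Q e f χ (S D y) = perpG Q e f from h, ann_perpG D]
    have h2 : w - B f w • e ∈ S D y := ⟨hp, hfix⟩
    rw [h1, AddSubgroup.mem_bot] at h2
    rw [h2, elt_zero D.hyp D.pair.1]

theorem full_of_bot {y : X} (h : ∀ x ∈ oA D (orbOf D y), x = 0) : Full Q e y := by
  intro w hw
  obtain ⟨hp, he⟩ := reduce D hw
  have h1 : w - B f w • e ∈ oS D (orbOf D y) := mem_oS_of_orth D hp fun v hv => by
    rw [h v hv, QuadraticMap.polar_comm, polar_zero_r]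
  rw [oS_orbOf, mem_S] at h1
  rw [he, h1.2]

/-- Incidences between points and singular vectors, counted twice. -/
theorem free_count [MulAction.IsPretransitive (Omega F ⇑Q) X] [Nonempty X]
    (huni : Nat.card {y : X // Free Q e y} = q ^ d) :
    Fintype.card X ∣ (Nat.card {a : V // Q a = 0} - 1) * q ^ d := by
  classical
  set A0 : Finset V := Finset.univ.filter fun a => a ≠ 0 ∧ Q a = 0
  have hA0 : A0.card = Nat.card {a : V // Q a = 0} - 1 := by
    rw [Nat.card_eq_fintype_card, Fintype.card_subtype,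
      ← Finset.card_erase_of_mem (show (0 : V) ∈ Finset.univ.filter fun a : V => Q a = 0 by simp)]
    congr 1
    ext a
    simp [A0]
  obtain ⟨y₀⟩ := ‹Nonempty X›
  set c := (A0.filter fun a => Free Q a y₀).card
  have h1 : ∀ a ∈ A0, ((Finset.univ : Finset X).filter fun y => Free Q a y).card = q ^ d := by
    intro a ha
    obtain ⟨ha0, haa⟩ := (Finset.mem_filter.1 ha).2
    obtain ⟨g, rfl⟩ := exists_move_point D.hyp D.pair.ne D.pair.1 ha0 haa
    rw [← huni, Nat.card_eq_fintype_card, Fintype.card_subtype]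
    refine (Finset.card_bij (fun y _ => g • y) ?_ (fun a _ b _ h => smul_left_cancel g h) ?_).symm
    · exact fun y hy => Finset.mem_filter.2 ⟨Finset.mem_univ _,
        ((Finset.mem_filter.1 hy).2).map D.hyp g⟩
    · intro z hz
      refine ⟨g⁻¹ • z, Finset.mem_filter.2 ⟨Finset.mem_univ _, ?_⟩, smul_inv_smul g z⟩
      have := ((Finset.mem_filter.1 hz).2).map D.hyp g⁻¹
      rwa [gV_inv_cancel] at this
  have h2 : ∀ y : X, (A0.filter fun a => Free Q a y).card = c := by
    intro y
    obtain ⟨g, rfl⟩ := MulAction.exists_smul_eq (Omega F ⇑Q) y₀ y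
    refine (Finset.card_bij (fun a _ => gV g *ᵥ a) ?_ (fun a _ b _ h => gV_injective g h) ?_).symm
    · intro a ha
      obtain ⟨ha, hfree⟩ := Finset.mem_filter.1 ha
      obtain ⟨ha0, haa⟩ := (Finset.mem_filter.1 ha).2
      exact Finset.mem_filter.2 ⟨Finset.mem_filter.2 ⟨Finset.mem_univ _,
        fun e0 => ha0 (gV_injective g (e0.trans (Matrix.mulVec_zero _).symm)), by rw [gV_quad, haa]⟩,
        hfree.map D.hyp g⟩
    · intro b hb
      obtain ⟨hb, hfree⟩ := Finset.mem_filter.1 hb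
      obtain ⟨hb0, hbb⟩ := (Finset.mem_filter.1 hb).2
      refine ⟨gV g⁻¹ *ᵥ b, Finset.mem_filter.2 ⟨Finset.mem_filter.2 ⟨Finset.mem_univ _,
        fun e0 => hb0 (gV_injective g⁻¹ (e0.trans (Matrix.mulVec_zero _).symm)), by rw [gV_quad, hbb]⟩,
        ?_⟩, gV_cancel_inv g b⟩
      have := hfree.map D.hyp g⁻¹
      rwa [inv_smul_smul] at this
  refine ⟨c, ?_⟩
  calc (Nat.card {a : V // Q a = 0} - 1) * q ^ d = ∑ _a ∈ A0, q ^ d := by rw [Finset.sum_const, smul_eq_mul, hA0]
    _ = ∑ a ∈ A0, ((Finset.univ : Finset X).filter fun y => Free Q a y).card :=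
      (Finset.sum_congr rfl h1).symm
    _ = ∑ y : X, (A0.filter fun a => Free Q a y).card := by
      simp only [Finset.card_eq_sum_ones, Finset.sum_filter]
      rw [Finset.sum_comm]
    _ = ∑ _y : X, c := Finset.sum_congr rfl fun y _ => h2 y
    _ = _ := by rw [Finset.sum_const, smul_eq_mul, Finset.card_univ]

/-- A set of orbits along lines weighs `q/(q-1)` times what it holds of a class. -/
theorem lines_weight {o : Orb X D} (h : IsLine D o) (C : Finset V) (hC : ∀ w ∈ C, w ≠ 0) :
    q * (@Finset.filter _ (fun w => w ∈ oA D o) (_root_.Classical.decPred _) C).card ≤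
      (q - 1) * Nat.card (oA D o) := by
  classical
  have h1 : (C.filter fun w => w ∈ oA D o).card ≤ Nat.card (oA D o) - 1 := by
    haveI : Fintype (oA D o) := Fintype.ofFinite _
    rw [Nat.card_eq_fintype_card, Fintype.card_subtype,
      ← Finset.card_erase_of_mem (a := (0 : V)) (Finset.mem_filter.2 ⟨Finset.mem_univ _, (oA D o).zero_mem⟩)]
    refine Finset.card_le_card fun w hw => ?_
    obtain ⟨hw1, hw2⟩ := Finset.mem_filter.1 hw
    exact Finset.mem_erase.2 ⟨hC w hw1, Finset.mem_filter.2 ⟨Finset.mem_univ _, hw2⟩⟩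
  have h2 := line_card D h
  have h3 : 0 < Nat.card (oA D o) := Nat.card_pos
  obtain ⟨k, hk⟩ : ∃ k, Nat.card (oA D o) = k + 1 := ⟨_, (Nat.sub_add_cancel h3).symm⟩
  obtain ⟨r, hr⟩ : ∃ r, q = r + 1 := ⟨_, (Nat.sub_add_cancel Fintype.card_pos).symm⟩
  have h4 := Nat.mul_le_mul_left q h1
  rw [hk, hr] at h4 h2 ⊢
  simp only [Nat.add_sub_cancel] at h4 ⊢
  nlinarith

end Cfsg.Agent.Lie.MinIndexOrth
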