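import Cfsg.Agent.Lib.Lie.MinIndexOrthTorus

/-! Totally singular orbits when the numbers are tight: the orbits are the maximal spaces, one each, and then
two conjugate tori would fix different numbers of points. -/

set_option autoImplicit false
set_option linter.unusedSectionVars false
set_option quotPrecheck false

namespace Cfsg.Agent.Lie.MinIndexOrth

open Cfsg Matrix Module MulAction Cfsg.Agent.Classical Cfsg.Agent.Classical.OrthAut

universe u

variable {F : Type*} [Field F] [Fintype F] {ι : Type} [Fintype ι] [DecidableEq ι]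
  {Q : QuadraticForm F (ι → F)}

local notation "V" => (ι → F)
local notation "B" => QuadraticMap.polar ⇑Q
local notation "GG" => (↥(Omega F ⇑Q))
local notation "q" => Fintype.card F
local notation "d" => Fintype.card ι - 2

variable {X : Type u} [MulAction (Omega F ⇑Q) X] [Fintype X] {e f : ι → F} {χ : AddChar F ℂ}
  (D : Set2 Q e f χ)
include D

/-- The orbit has all the characters of a totally singular space of size `R`. -/
def IsBig (R : ℕ) (o : Orb X D) : Prop := IsSing D o ∧ Nat.card (oA D o) = R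

/-- The totally singular pairs among the characters of an orbit. -/
noncomputable def pairsIn (o : Orb X D) : Finset ((ι → F) × (ι → F)) :=
  @Finset.filter _ (fun p => p.1 ∈ oA D o ∧ p.2 ∈ oA D o ∧ TS Q p.1 p.2) (_root_.Classical.decPred _) Finset.univ

theorem mem_pairsIn {o : Orb X D} {p : V × V} :
    p ∈ pairsIn D o ↔ p.1 ∈ oA D o ∧ p.2 ∈ oA D o ∧ TS Q p.1 p.2 := by simp [pairsIn]

omit D in
/-- The totally singular pairs of `W`. -/
noncomputable def allPairs (Q : QuadraticForm F (ι → F)) (e f : ι → F) : Finset ((ι → F) × (ι → F)) :=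
  @Finset.filter _ (fun p => Perp Q e f p.1 ∧ Perp Q e f p.2 ∧ TS Q p.1 p.2) (_root_.Classical.decPred _)
    Finset.univ

omit D in
theorem mem_allPairs {p : V × V} :
    p ∈ allPairs Q e f ↔ Perp Q e f p.1 ∧ Perp Q e f p.2 ∧ TS Q p.1 p.2 := by simp [allPairs]

theorem card_oMove {a : F} {g : GG} (L : Lev e f a g) (o : Orb X D) :
    Nat.card (oA D (oMove D L o)) = Nat.card (oA D o) := by
  rw [← card_fibre, ← card_fibre]
  refine (Nat.card_congr (Equiv.subtypeEquiv (MulAction.toPerm g) fun y => ?_)).symm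
  show _ ↔ orbOf D (g • y) = _
  rw [← oMove_orbOf D L, (oMove_injective D L).eq_iff]

theorem sing_move {a : F} {g : GG} (L : Lev e f a g) {o : Orb X D} (h : IsSing D o) :
    IsSing D (oMove D L o) := by
  intro x hx
  obtain ⟨y, rfl⟩ : ∃ y, x = a⁻¹ • (gV g *ᵥ y) :=
    ⟨gV g⁻¹ *ᵥ (a • x), by rw [gV_cancel_inv, inv_smul_smul₀ L.1]⟩
  rw [QuadraticMap.map_smul, gV_quad, h y ((L.oA_mem_iff D).1 hx), smul_zero]

theorem all_card {Z₀ : ℕ} (hZ : wCount Q e f 0 = q * Z₀ + (q - 1) * q ^ (d - 2)) :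
    (allPairs Q e f).card = (wCount Q e f 0 - 1) * (q * (Z₀ - 1)) := by
  classical
  obtain ⟨u, u', Pu, hu, hu'⟩ := exists_frame D.hyp.nd D.hyp.tri D.pair
  set C := cls Q e f u
  have hC : C.card = wCount Q e f 0 - 1 := Nat.eq_sub_of_add_eq (card_cls_zero Pu.1)
  have hmap : ∀ p ∈ allPairs Q e f, p.1 ∈ C := fun p hp => by
    obtain ⟨h1, -, h3⟩ := mem_allPairs.1 hp
    exact mem_cls.2 ⟨h3.left_ne, h1, 1, one_ne_zero, by rw [h3.1, Pu.1, mul_zero]⟩
  rw [Finset.card_eq_sum_card_fiberwise hmap, Finset.sum_const_nat (m := q * (Z₀ - 1)) ?_, hC]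
  intro v hv
  obtain ⟨hv0, hvp, c, -, hcv⟩ := mem_cls.1 hv
  rw [Pu.1, mul_zero] at hcv
  obtain ⟨v', Pv, hv'⟩ := exists_partner D.hyp.nd D.pair hvp hv0 hcv
  have h1 := wCount_zero_two D.hyp D.pair Pv hvp hv'
  rw [hZ] at h1
  have h2 : wCountTwo Q e f v v' = Z₀ :=
    (Nat.eq_of_mul_eq_mul_left Fintype.card_pos (Nat.add_right_cancel h1)).symm
  rw [← h2, ← card_rest_eq D.hyp D.pair hvp hv' Pv, Nat.card_eq_fintype_card, Fintype.card_subtype]
  refine Finset.card_bij (fun p _ => p.2) ?_ ?_ ?_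
  · intro p hp
    obtain ⟨hp, hp1⟩ := Finset.mem_filter.1 hp
    obtain ⟨-, h4, h5⟩ := mem_allPairs.1 hp
    exact Finset.mem_filter.2 ⟨Finset.mem_univ _, h4, hp1 ▸ h5⟩
  · intro p hp p' hp' h
    exact Prod.ext ((Finset.mem_filter.1 hp).2.trans (Finset.mem_filter.1 hp').2.symm) h
  · intro r hr
    obtain ⟨h4, h5⟩ := (Finset.mem_filter.1 hr).2
    exact ⟨(v, r), Finset.mem_filter.2 ⟨mem_allPairs.2 ⟨hvp, h4, h5⟩, rfl⟩, rfl⟩

variable {r : ℕ}
  (hR : ∀ U : Submodule F (ι → F), (∀ x ∈ U, Perp Q e f x ∧ Q x = 0) → finrank F U ≤ r)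
include hR

/-- A totally singular orbit off a line has `q ^ r` characters, closed under scalars. -/
theorem big_of_pair {Bd : ℕ} (hX : Fintype.card X < Bd)
    (hhalf : Bd * q ^ r ≤ 2 * (allPairs Q e f).card) {o₀ : Orb X D} (hs : IsSing D o₀) {v₀ r₀ : V}
    (hv₀ : v₀ ∈ oA D o₀) (hr₀ : r₀ ∈ oA D o₀) (h : TS Q v₀ r₀) :
    IsBig D (q ^ r) o₀ ∧ ∀ (c : F), ∀ x ∈ oA D o₀, c • x ∈ oA D o₀ := by
  classical
  set U := Submodule.span F (oA D o₀ : Set V)
  have hq : 2 ≤ q := Fintype.one_lt_card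
  have hle : oA D o₀ ≤ U.toAddSubgroup := fun x hx => Submodule.subset_span hx
  have hk := hR U (span_singular D hs)
  have hU : Nat.card U.toAddSubgroup = q ^ finrank F U := by
    show Nat.card U = _
    rw [Module.natCard_eq_pow_finrank (K := F), Nat.card_eq_fintype_card]
  set a := Nat.card (oA D o₀) with ha
  have ha' : ¬ 2 * a ≤ q ^ r := by
    intro h2
    set Fam := (Finset.univ : Finset (Orb X D)).filter
      fun o => ∃ (c : F) (g : GG) (L : Lev e f c g), oMove D L o₀ = o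
    have hcard : ∀ o ∈ Fam, Nat.card (oA D o) = a := fun o ho => by
      obtain ⟨c, g, L, rfl⟩ := (Finset.mem_filter.1 ho).2
      exact card_oMove D L o₀
    have h1 : (allPairs Q e f).card ≤ Fam.card * (a * a) := by
      refine (Finset.card_le_card (t := Fam.biUnion (pairsIn D)) fun p hp => ?_).trans
        (Finset.card_biUnion_le.trans ((Finset.sum_le_card_nsmul _ _ (a * a) fun o ho => ?_).trans (le_of_eq ?_)))
      · obtain ⟨h1, h2, h3⟩ := mem_allPairs.1 hp
        obtain ⟨c, g, L, e1, e2⟩ :=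
          exists_move_two D.hyp D.pair (oA_perp D hv₀) (oA_perp D hr₀) h h1 h2 h3
        exact Finset.mem_biUnion.2 ⟨oMove D L o₀, Finset.mem_filter.2 ⟨Finset.mem_univ _, c, g, L, rfl⟩,
          (mem_pairsIn D).2 ⟨by rw [← e1]; exact L.mem_oA D hv₀, by rw [← e2]; exact L.mem_oA D hr₀, h3⟩⟩
      · refine le_trans ?_ (le_of_eq (by rw [← hcard o ho, ← Nat.card_prod]))
        rw [← Fintype.card_coe, ← Nat.card_eq_fintype_card]
        exact Nat.card_le_card_of_injective
          (fun p : pairsIn D o => ((⟨p.1.1, ((mem_pairsIn D).1 p.2).1⟩ : oA D o),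
            (⟨p.1.2, ((mem_pairsIn D).1 p.2).2.1⟩ : oA D o)))
          fun p p' hpp => Subtype.ext (Prod.ext (congrArg (fun z => (z.1 : V)) hpp)
            (congrArg (fun z => (z.2 : V)) hpp))
      · rw [smul_eq_mul]
    have h2' : Fam.card * a ≤ Fintype.card X := by
      refine le_trans (le_of_eq ?_) (sum_le_points D Fam)
      rw [Finset.sum_congr rfl hcard, Finset.sum_const, smul_eq_mul]
    have h3 : 2 * (allPairs Q e f).card ≤ Fintype.card X * q ^ r := by
      calc 2 * (allPairs Q e f).card ≤ 2 * (Fam.card * (a * a)) := Nat.mul_le_mul_left _ h1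
        _ = Fam.card * a * (2 * a) := by ring
        _ ≤ _ := Nat.mul_le_mul h2' h2
    exact absurd ((Nat.mul_lt_mul_of_pos_right hX (Nat.pow_pos (by omega))).trans_le hhalf) (Nat.not_lt.2 h3)
  have hdvd : a ∣ Nat.card U.toAddSubgroup := AddSubgroup.card_dvd_of_le hle
  have hpow : q ^ finrank F U ≤ q ^ r := Nat.pow_le_pow_right (by omega) hk
  rw [hU] at hdvd
  have haU : a = q ^ finrank F U := by
    obtain ⟨c, hc⟩ := hdvd
    rcases Nat.lt_or_ge c 2 with hc2 | hc2
    · interval_cases c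
      · rw [mul_zero] at hc; exact absurd hc (pow_pos (by omega) _).ne'
      · rw [mul_one] at hc; exact hc.symm
    · exfalso
      have : 2 * a ≤ q ^ finrank F U := by rw [hc, mul_comm]; exact Nat.mul_le_mul_left _ hc2
      omega
  have hr' : finrank F U = r := by
    by_contra hne
    have h1 : q ^ (finrank F U + 1) ≤ q ^ r := Nat.pow_le_pow_right (by omega) (by omega)
    rw [pow_succ, ← haU] at h1
    have : a * 2 ≤ a * q := Nat.mul_le_mul_left _ hq
    omega
  have heq : oA D o₀ = U.toAddSubgroup :=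
    AddSubgroup.eq_of_le_of_card_ge hle (le_of_eq (hU.trans haU.symm))
  refine ⟨⟨hs, by rw [← ha, haU, hr']⟩, fun c x hx => ?_⟩
  rw [heq] at hx ⊢
  exact U.smul_mem c hx

theorem big_pairs {o : Orb X D} (h : IsBig D (q ^ r) o) (hcl : ∀ (c : F), ∀ x ∈ oA D o, c • x ∈ oA D o) :
    (pairsIn D o).card = (q ^ r - 1) * (q ^ r - q) := by
  classical
  set A := (Finset.univ : Finset V).filter fun x => x ∈ oA D o
  have hA : A.card = q ^ r := by
    rw [← h.2, Nat.card_eq_fintype_card, Fintype.card_subtype]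
  have hA0 : (A.erase 0).card = q ^ r - 1 := by
    rw [Finset.card_erase_of_mem (Finset.mem_filter.2 ⟨Finset.mem_univ _, (oA D o).zero_mem⟩), hA]
  have hmap : ∀ p ∈ pairsIn D o, p.1 ∈ A.erase 0 := fun p hp => by
    obtain ⟨h1, -, h3⟩ := (mem_pairsIn D).1 hp
    exact Finset.mem_erase.2 ⟨h3.left_ne, Finset.mem_filter.2 ⟨Finset.mem_univ _, h1⟩⟩
  rw [Finset.card_eq_sum_card_fiberwise hmap, Finset.sum_const_nat (m := q ^ r - q) ?_, hA0]
  intro v hv
  obtain ⟨hv0, hv⟩ := Finset.mem_erase.1 hv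
  replace hv := (Finset.mem_filter.1 hv).2
  set L : Finset V := (Finset.univ : Finset F).image fun c => c • v
  have hL : L.card = q := by
    rw [Finset.card_image_of_injective _ (smul_left_injective F hv0), Finset.card_univ]
  have hLA : L ⊆ A := fun x hx => by
    obtain ⟨c, -, rfl⟩ := Finset.mem_image.1 hx
    exact Finset.mem_filter.2 ⟨Finset.mem_univ _, hcl c v hv⟩
  rw [← hA, ← hL, ← Finset.card_sdiff_of_subset hLA]
  refine Finset.card_bij (fun p _ => p.2) ?_ ?_ ?_
  · intro p hp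
    obtain ⟨hp, hp1⟩ := Finset.mem_filter.1 hp
    obtain ⟨-, h4, h5⟩ := (mem_pairsIn D).1 hp
    refine Finset.mem_sdiff.2 ⟨Finset.mem_filter.2 ⟨Finset.mem_univ _, h4⟩, fun hl => ?_⟩
    obtain ⟨c, -, hc⟩ := Finset.mem_image.1 hl
    exact one_ne_zero (α := F) (h5.2.2.2 (-c) 1 (by rw [← hc, hp1]; module)).2
  · intro p hp p' hp' h
    exact Prod.ext ((Finset.mem_filter.1 hp).2.trans (Finset.mem_filter.1 hp').2.symm) h
  · intro x hx
    obtain ⟨hxA, hxL⟩ := Finset.mem_sdiff.1 hx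
    replace hxA := (Finset.mem_filter.1 hxA).2
    refine ⟨(v, x), Finset.mem_filter.2 ⟨(mem_pairsIn D).2 ⟨hv, hxA, h.1 v hv, h.1 x hxA, ?_, fun s t hst => ?_⟩,
      rfl⟩, rfl⟩
    · have := h.1 _ ((oA D o).add_mem hv hxA)
      rwa [quad_add, h.1 v hv, h.1 x hxA, zero_add, zero_add] at this
    · by_cases ht : t = 0
      · rw [ht, zero_smul, add_zero, smul_eq_zero] at hst; exact ⟨hst.resolve_right hv0, ht⟩
      · exfalso
        refine hxL (Finset.mem_image.2 ⟨-(t⁻¹ * s), Finset.mem_univ _, ?_⟩)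
        linear_combination (norm := skip) (-t⁻¹) • hst
        match_scalars <;> field_simp <;> ring

end Cfsg.Agent.Lie.MinIndexOrth
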