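import Cfsg.Agent.Lib.Lie.MinIndexOrthAniso

/-! The possible orbits: regular ones, those along a line, those along a totally singular space. A small action
has none of the third kind and at least one of the first. -/

set_option autoImplicit false
set_option linter.unusedSectionVars false
set_option quotPrecheck false

namespace Cfsg.Agent.Lie.MinIndexOrth

open Cfsg Matrix Module MulAction Cfsg.Agent.Classical Cfsg.Agent.Classical.OrthAut

universe u

variable {F : Type*} [Field F] [Fintype F] {ι : Type} [Fintype ι] [DecidableEq ι]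
  {Q : QuadraticForm F (ι → F)}

local notation "V" => (ι → F)
local notation "B" => QuadraticMap.polar ⇑Q
local notation "GG" => (↥(Omega F ⇑Q))
local notation "q" => Fintype.card F
local notation "d" => Fintype.card ι - 2

variable {X : Type u} [MulAction (Omega F ⇑Q) X] [Fintype X] {e f : ι → F} {χ : AddChar F ℂ}

/-- All characters of the orbit lie on one line. -/
def IsLine (D : Set2 Q e f χ) (o : Orb X D) : Prop :=
  ∃ v : ι → F, v ≠ 0 ∧ ∀ x ∈ oA D o, ∃ c : F, x = c • v

/-- The characters of the orbit are all singular. -/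
def IsSing (D : Set2 Q e f χ) (o : Orb X D) : Prop := ∀ x ∈ oA D o, Q x = 0

variable (D : Set2 Q e f χ)
include D

theorem kinds (hS : ∀ v, Perp Q e f v → Q v ≠ 0 → Small X D v) (o : Orb X D) :
    oA D o = perpG Q e f ∨ IsLine D o ∨ (IsSing D o ∧ ∃ v ∈ oA D o, ∃ r ∈ oA D o, TS Q v r) := by
  by_cases hs : ∀ x ∈ oA D o, Q x = 0
  · by_cases h0 : ∀ x ∈ oA D o, x = 0
    · exact Or.inr (Or.inl ⟨e, D.pair.ne, fun x hx => ⟨0, by rw [h0 x hx, zero_smul]⟩⟩)
    push Not at h0
    obtain ⟨v, hv, hv0⟩ := h0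
    by_cases h1 : ∀ x ∈ oA D o, ∃ c : F, x = c • v
    · exact Or.inr (Or.inl ⟨v, hv0, h1⟩)
    push Not at h1
    obtain ⟨r, hr, hrv⟩ := h1
    refine Or.inr (Or.inr ⟨hs, v, hv, r, hr, hs v hv, hs r hr, ?_, fun s t hst => ?_⟩)
    · have := hs _ ((oA D o).add_mem hv hr)
      rwa [quad_add, hs v hv, hs r hr, zero_add, zero_add] at this
    · by_cases ht : t = 0
      · rw [ht, zero_smul, add_zero, smul_eq_zero] at hst; exact ⟨hst.resolve_right hv0, ht⟩
      · exfalso
        refine hrv (-(t⁻¹ * s)) ?_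
        linear_combination (norm := skip) t⁻¹ • hst
        match_scalars <;> field_simp <;> ring
  push Not at hs
  obtain ⟨v, hv, hvv⟩ := hs
  by_cases h1 : ∀ x ∈ oA D o, ∃ c : F, x = c • v
  · exact Or.inr (Or.inl ⟨v, fun h0 => hvv (by rw [h0, QuadraticMap.map_zero]), h1⟩)
  push Not at h1
  obtain ⟨x, hx, hxv⟩ := h1
  exact Or.inl (oA_eq_top D hS hvv hv hx hxv)

theorem line_of_mem {o : Orb X D} (h : IsLine D o) {v : V} (hv : v ∈ oA D o) (hv0 : v ≠ 0) :
    ∀ x ∈ oA D o, ∃ c : F, x = c • v := by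
  obtain ⟨w, hw, hl⟩ := h
  intro x hx
  obtain ⟨a, ha⟩ := hl v hv
  obtain ⟨c, hc⟩ := hl x hx
  have ha0 : a ≠ 0 := fun e0 => hv0 (by rw [ha, e0, zero_smul])
  exact ⟨c * a⁻¹, by rw [ha, smul_smul, mul_assoc, inv_mul_cancel₀ ha0, mul_one, hc]⟩

theorem line_card {o : Orb X D} (h : IsLine D o) : Nat.card (oA D o) ≤ q := by
  classical
  obtain ⟨v, -, hl⟩ := h
  have hl' : ∀ x : oA D o, ∃ c : F, (x : V) = c • v := fun x => hl x.1 x.2
  choose φ hφ using hl'
  rw [← Nat.card_eq_fintype_card (α := F)]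
  exact Nat.card_le_card_of_injective φ fun x y hxy => Subtype.ext (by rw [hφ x, hφ y, hxy])

theorem card_perp_orbit {o : Orb X D} (h : oA D o = perpG Q e f) : Nat.card (oA D o) = q ^ d := by
  rw [h, card_perpG D.hyp D.pair]

/-! ### Totally singular orbits -/

theorem span_singular {o : Orb X D} (h : IsSing D o) :
    ∀ x ∈ Submodule.span F (oA D o : Set V), Perp Q e f x ∧ Q x = 0 := by
  have hB : ∀ a ∈ oA D o, ∀ b ∈ oA D o, B a b = 0 := fun a ha b hb => by
    have := h _ ((oA D o).add_mem ha hb)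
    rwa [quad_add, h a ha, h b hb, zero_add, zero_add] at this
  have h1 : ∀ x ∈ Submodule.span F (oA D o : Set V), ∀ b ∈ oA D o, B x b = 0 := by
    intro x hx b hb
    induction hx using Submodule.span_induction with
    | mem x hx => exact hB x hx b hb
    | zero => rw [QuadraticMap.polar_comm, polar_zero_r]
    | add x y _ _ ex ey => rw [polar_add_l, ex, ey, add_zero]
    | smul c x _ ex => rw [polar_smul_l, ex, mul_zero]
  have h2 : ∀ x ∈ Submodule.span F (oA D o : Set V), ∀ y ∈ Submodule.span F (oA D o : Set V), B x y = 0 := by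
    intro x hx y hy
    induction hy using Submodule.span_induction with
    | mem y hy => exact h1 x hx y hy
    | zero => rw [polar_zero_r]
    | add a b _ _ ea eb => rw [QuadraticMap.polar_add_right, ea, eb, add_zero]
    | smul c a _ ea => rw [polar_smul_r, ea, mul_zero]
  intro x hx
  induction hx using Submodule.span_induction with
  | mem x hx => exact ⟨oA_perp D hx, h x hx⟩
  | zero => exact ⟨perp_zero e f, QuadraticMap.map_zero _⟩
  | add a b ha hb ea eb => exact ⟨ea.1.add eb.1, by rw [quad_add, ea.2, eb.2, h2 a ha b hb]; ring⟩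
  | smul c a _ ea => exact ⟨ea.1.smul c, by rw [QuadraticMap.map_smul, ea.2, smul_zero]⟩

variable {R : ℕ}
  (hR : ∀ U : Submodule F (ι → F), (∀ x ∈ U, Perp Q e f x ∧ Q x = 0) → Nat.card U ≤ R)
include hR

theorem sing_card {o : Orb X D} (h : IsSing D o) : Nat.card (oA D o) ≤ R :=
  (Nat.card_le_card_of_injective
    (fun x : oA D o => (⟨x.1, Submodule.subset_span x.2⟩ : Submodule.span F (oA D o : Set V)))
    fun _ _ hxy => Subtype.ext (congrArg (fun z => z.1) hxy)).trans
    (hR _ (span_singular D h))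

/-- The totally singular orbits through `v` and some other line cover everything singular orthogonal to `v`. -/
theorem big_cover {o₀ : Orb X D} (h₀ : IsSing D o₀) {v₀ r₀ : V} (hv₀ : v₀ ∈ oA D o₀) (hr₀ : r₀ ∈ oA D o₀)
    (h : TS Q v₀ r₀) {v : V} (hv : Perp Q e f v) :
    Nat.card {r : V // Perp Q e f r ∧ TS Q v r} ≤
      (@Finset.filter _ (fun o => IsSing D o ∧ v ∈ oA D o) (_root_.Classical.decPred _)
        (Finset.univ : Finset (Orb X D))).card * (R - q) := by
  classical
  set K := (Finset.univ : Finset (Orb X D)).filter fun o => IsSing D o ∧ v ∈ oA D o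
  set T : Finset V := Finset.univ.filter fun r => Perp Q e f r ∧ TS Q v r
  rw [Nat.card_eq_fintype_card, Fintype.card_subtype]
  by_cases hv0 : v = 0
  · refine le_trans (le_of_eq ?_) (Nat.zero_le _)
    exact Finset.card_eq_zero.2 (Finset.eq_empty_of_forall_notMem fun r hr =>
      (Finset.mem_filter.1 hr).2.2.left_ne hv0)
  let piece : Orb X D → Finset V := fun o => Finset.univ.filter fun r => r ∈ oA D o ∧ ∀ c : F, r ≠ c • v
  have hsub : T ⊆ K.biUnion piece := by
    intro r hr
    obtain ⟨hr1, hts⟩ := (Finset.mem_filter.1 hr).2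
    obtain ⟨a, g, L, e1, e2⟩ :=
      exists_move_two D.hyp D.pair (oA_perp D hv₀) (oA_perp D hr₀) h hv hr1 hts
    refine Finset.mem_biUnion.2 ⟨oMove D L o₀, Finset.mem_filter.2 ⟨Finset.mem_univ _, fun x hx => ?_, ?_⟩, ?_⟩
    · obtain ⟨y, rfl⟩ : ∃ y, x = a⁻¹ • (gV g *ᵥ y) :=
        ⟨gV g⁻¹ *ᵥ (a • x), by rw [gV_cancel_inv, inv_smul_smul₀ L.1]⟩
      rw [QuadraticMap.map_smul, gV_quad, h₀ y ((L.oA_mem_iff D).1 hx), smul_zero]
    · rw [← e1]; exact L.mem_oA D hv₀
    · refine Finset.mem_filter.2 ⟨Finset.mem_univ _, by rw [← e2]; exact L.mem_oA D hr₀, fun c hc => ?_⟩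
      exact one_ne_zero (α := F) (hts.2.2.2 (-c) 1 (by rw [hc]; module)).2
  have hpiece : ∀ o ∈ K, (piece o).card ≤ R - q := by
    intro o ho
    obtain ⟨hs, hvo⟩ := (Finset.mem_filter.1 ho).2
    set U := Submodule.span F (oA D o : Set V)
    have hU : (Finset.univ.filter fun x : V => x ∈ U).card ≤ R := by
      rw [← Fintype.card_subtype, ← Nat.card_eq_fintype_card]
      exact hR U (span_singular D hs)
    have hline : ((Finset.univ : Finset F).image fun c => c • v).card = q := by
      rw [Finset.card_image_of_injective _ (smul_left_injective F hv0), Finset.card_univ]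
    have hdis : Disjoint (piece o) ((Finset.univ : Finset F).image fun c => c • v) :=
      Finset.disjoint_left.2 fun x hx hx' => by
        obtain ⟨c, -, rfl⟩ := Finset.mem_image.1 hx'
        exact (Finset.mem_filter.1 hx).2.2 c rfl
    have hle : (piece o) ∪ ((Finset.univ : Finset F).image fun c => c • v) ⊆ Finset.univ.filter fun x : V => x ∈ U := by
      intro x hx
      refine Finset.mem_filter.2 ⟨Finset.mem_univ _, ?_⟩
      rcases Finset.mem_union.1 hx with hx | hx
      · exact Submodule.subset_span (Finset.mem_filter.1 hx).2.1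
      · obtain ⟨c, -, rfl⟩ := Finset.mem_image.1 hx
        exact U.smul_mem c (Submodule.subset_span hvo)
    have := (Finset.card_le_card hle).trans hU
    rw [Finset.card_union_of_disjoint hdis, hline] at this
    omega
  refine (Finset.card_le_card hsub).trans ((Finset.card_biUnion_le).trans
    ((Finset.sum_le_sum hpiece).trans (le_of_eq ?_)))
  rw [Finset.sum_const, smul_eq_mul]
  congr 2
  exact Finset.ext fun o => by simp [K]

/-- The numbers exclude totally singular orbits. -/
theorem no_big {Z₀ Bd : ℕ} (hX : Fintype.card X < Bd)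
    (hZ : wCount Q e f 0 = q * Z₀ + (q - 1) * q ^ (d - 2))
    (hnum : Bd * ((R - 1) * (R - q)) ≤ R * ((wCount Q e f 0 - 1) * (q * (Z₀ - 1))))
    (o : Orb X D) (hs : IsSing D o) {v₀ r₀ : V} (hv₀ : v₀ ∈ oA D o) (hr₀ : r₀ ∈ oA D o)
    (h : TS Q v₀ r₀) : False := by
  classical
  set K : V → Finset (Orb X D) := fun v => Finset.univ.filter fun o => IsSing D o ∧ v ∈ oA D o
  set C := cls Q e f v₀
  have hC : C.card = wCount Q e f 0 - 1 := by
    exact Nat.eq_sub_of_add_eq (card_cls_zero (Q := Q) (e := e) (f := f) h.1)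
  have hK : ∀ v ∈ C, q * (Z₀ - 1) ≤ (K v).card * (R - q) := by
    intro v hv
    obtain ⟨hv0, hvp, c, hc, hcv⟩ := mem_cls.1 hv
    rw [h.1, mul_zero] at hcv
    obtain ⟨v', Pv, hv'⟩ := exists_partner D.hyp.nd D.pair hvp hv0 hcv
    have h1 := wCount_zero_two D.hyp D.pair Pv hvp hv'
    rw [hZ] at h1
    have h2 : wCountTwo Q e f v v' = Z₀ :=
      (Nat.eq_of_mul_eq_mul_left Fintype.card_pos (Nat.add_right_cancel h1)).symm
    have h3 := card_rest D.hyp D.pair hvp hv' Pv
    rw [h2] at h3
    refine h3.trans ((big_cover D hR hs hv₀ hr₀ h hvp).trans (le_of_eq ?_))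
    congr 2
    exact Finset.ext fun o => by simp [K]
  set T := (Finset.univ : Finset (Orb X D)).filter fun o => IsSing D o
  have h1 : C.card * (q * (Z₀ - 1)) ≤ (∑ o ∈ T, (Nat.card (oA D o) - 1)) * (R - q) := by
    calc C.card * (q * (Z₀ - 1)) = ∑ _v ∈ C, q * (Z₀ - 1) := by rw [Finset.sum_const, smul_eq_mul]
      _ ≤ ∑ v ∈ C, (K v).card * (R - q) := Finset.sum_le_sum hK
      _ = (∑ o ∈ T, (C.filter fun v => v ∈ oA D o).card) * (R - q) := by
        rw [← Finset.sum_mul]
        congr 1
        simp only [K, T, Finset.card_eq_sum_ones, Finset.sum_filter]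
        rw [Finset.sum_comm]
        refine Finset.sum_congr rfl fun o _ => ?_
        by_cases ho : IsSing D o <;> simp [ho]
      _ ≤ _ := by
        refine Nat.mul_le_mul_right _ (Finset.sum_le_sum fun o _ => ?_)
        haveI : Fintype (oA D o) := Fintype.ofFinite _
        rw [Nat.card_eq_fintype_card, Fintype.card_subtype,
          ← Finset.card_erase_of_mem (a := (0 : V)) (Finset.mem_filter.2 ⟨Finset.mem_univ _, (oA D o).zero_mem⟩)]
        refine Finset.card_le_card fun w hw => ?_
        obtain ⟨hw1, hw2⟩ := Finset.mem_filter.1 hw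
        exact Finset.mem_erase.2 ⟨(mem_cls.1 hw1).1, Finset.mem_filter.2 ⟨Finset.mem_univ _, hw2⟩⟩
  have h2 : R * (∑ o ∈ T, (Nat.card (oA D o) - 1)) ≤ (R - 1) * ∑ o ∈ T, Nat.card (oA D o) := by
    rw [Finset.mul_sum, Finset.mul_sum]
    refine Finset.sum_le_sum fun o ho => ?_
    have := sing_card D hR (Finset.mem_filter.1 ho).2
    rw [Nat.mul_sub, Nat.sub_mul, mul_one, one_mul]
    omega
  have h3 := sum_le_points D T
  -- some space is bigger than a line
  have hv₀C : v₀ ∈ C := mem_cls_self (oA_perp D hv₀) h.left_ne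
  have h4 : 0 < (R - 1) * (R - q) := by
    have h5 := big_cover D hR hs hv₀ hr₀ h (oA_perp D hv₀)
    have h6 : 0 < Nat.card {r : V // Perp Q e f r ∧ TS Q v₀ r} := by
      haveI : Nonempty {r : V // Perp Q e f r ∧ TS Q v₀ r} := ⟨⟨r₀, oA_perp D hr₀, h⟩⟩
      exact Nat.card_pos
    have h7 : 0 < R - q := by
      by_contra h8
      rw [Nat.eq_zero_of_not_pos h8, mul_zero] at h5
      omega
    have := Fintype.one_lt_card (α := F)
    exact Nat.mul_pos (by omega) h7
  have h5 : R * (C.card * (q * (Z₀ - 1))) ≤ Fintype.card X * ((R - 1) * (R - q)) := by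
    calc R * (C.card * (q * (Z₀ - 1))) ≤ R * ((∑ o ∈ T, (Nat.card (oA D o) - 1)) * (R - q)) :=
          Nat.mul_le_mul_left _ h1
      _ = R * (∑ o ∈ T, (Nat.card (oA D o) - 1)) * (R - q) := by ring
      _ ≤ (R - 1) * (∑ o ∈ T, Nat.card (oA D o)) * (R - q) := Nat.mul_le_mul_right _ h2
      _ ≤ (R - 1) * Fintype.card X * (R - q) := Nat.mul_le_mul_right _ (Nat.mul_le_mul_left _ h3)
      _ = _ := by ring
  rw [hC] at h5
  exact absurd (h5.trans_lt (Nat.mul_lt_mul_of_pos_right hX h4)) (Nat.not_lt.2 hnum)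

omit hR

/-! ### Fixed points -/

theorem card_pred (p : Orb X D → Prop) :
    Nat.card {y : X // p (orbOf D y)} =
      ∑ o ∈ @Finset.filter _ p (_root_.Classical.decPred _) (Finset.univ : Finset (Orb X D)), Nat.card (oA D o) := by
  classical
  rw [← Finset.sum_congr rfl (fun o _ => card_fibre D o), Nat.card_eq_fintype_card, Fintype.card_subtype,
    Finset.card_eq_sum_card_fiberwise (f := orbOf D)
      (t := (Finset.univ : Finset (Orb X D)).filter p)
      (fun y hy => Finset.mem_filter.2 ⟨Finset.mem_univ _, (Finset.mem_filter.1 hy).2⟩)]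
  refine Finset.sum_congr rfl fun o ho => ?_
  rw [Nat.card_eq_fintype_card, Fintype.card_subtype]
  congr 1
  ext y
  simp only [Finset.mem_filter, Finset.mem_univ, true_and] at ho ⊢
  exact ⟨fun h => h.2, fun h => ⟨h ▸ ho, h⟩⟩

theorem fix_radical {u : V} (hu : Perp Q e f u) :
    Nat.card {y : X // elt (Q := Q) e u • y = y} = Nat.card {y : X // u ∈ oS D (orbOf D y)} :=
  Nat.card_congr (Equiv.subtypeEquivRight fun y => by rw [oS_orbOf, mem_S, and_iff_right hu])

omit D in
theorem fix_conj (g x : GG) :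
    Nat.card {y : X // x • y = y} = Nat.card {y : X // (g * x * g⁻¹) • y = y} :=
  Nat.card_congr
    { toFun := fun y => ⟨g • y.1, by rw [mul_smul, mul_smul, inv_smul_smul, y.2]⟩
      invFun := fun y => ⟨g⁻¹ • y.1, by
        have h := y.2
        rw [mul_smul, mul_smul, smul_eq_iff_eq_inv_smul] at h
        exact h⟩
      left_inv := fun y => Subtype.ext (inv_smul_smul g y.1)
      right_inv := fun y => Subtype.ext (smul_inv_smul g y.1) }

/-- Orbits along lines only: the two ways to count the fixed points of a long root element differ. -/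
theorem not_all_lines [Nontrivial X] [MulAction.IsPretransitive (Omega F ⇑Q) X]
    (hl : ∀ o : Orb X D, IsLine D o) : False := by
  classical
  obtain ⟨u, u', w, w', Pu, Pw, hu, hu', hw, hw', huw, huw'⟩ := exists_two_pairs D.hyp D.pair
  have tsuw : TS Q u w := TS.of_perp Pu Pw.1 huw Pw.ne
  have tseu : TS Q e u := TS.of_perp D.pair Pu.1 hu Pu.ne
  set g' := elt (Q := Q) u w
  have g'apply := elt_apply D.hyp tsuw.ok
  have L : Lev e f 1 g' := by
    refine ⟨one_ne_zero, ?_, ?_⟩ <;> rw [g'apply]
    · rw [QuadraticMap.polar_comm _ u e, hu.1, QuadraticMap.polar_comm _ w e, hw.1]; simp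
    · rw [QuadraticMap.polar_comm _ u f, hu.2, QuadraticMap.polar_comm _ w f, hw.2]; simp
  obtain ⟨g, hg⟩ := exists_conj_root D.hyp tseu tsuw
  have heq : Nat.card {y : X // elt (Q := Q) e u • y = y} = Nat.card {y : X // g' • y = y} := by
    rw [fix_conj g, hg]
  set pS : Orb X D → Prop := fun o => u ∈ oS D o
  set pM : Orb X D → Prop := fun o => oMove D L o = o
  have hstay : ∀ o, pM o → pS o := by
    intro o ho
    refine mem_oS_of_orth D hu fun v hv => ?_
    by_cases hv0 : v = 0
    · rw [hv0, QuadraticMap.polar_comm, polar_zero_r]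
    have h1 := L.mem_oA D hv
    rw [ho, inv_one, one_smul, g'apply, Pw.1, zero_mul, add_zero] at h1
    obtain ⟨c, hc⟩ := line_of_mem D (hl o) hv hv0 _ h1
    have h2 := congrArg (B w') hc
    have h3 := congrArg (B w) hc
    simp only [QuadraticMap.polar_sub_right, QuadraticMap.polar_add_right, polar_smul_r, polar_self' Pw.1,
      QuadraticMap.polar_comm _ w' w, Pw.2.2, QuadraticMap.polar_comm _ w u, huw.1, mul_zero, sub_zero, add_zero,
      mul_one, QuadraticMap.polar_comm _ w' u, huw'.1] at h2 h3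
    by_contra hne
    have hwv : B w v = 0 ∨ c = 1 := by
      rcases eq_or_ne c 1 with hc1 | hc1
      · exact Or.inr hc1
      · exact Or.inl ((mul_eq_zero.1 (show (c - 1) * B w v = 0 by linear_combination -h3)).resolve_left
          (sub_ne_zero.2 hc1))
    rw [QuadraticMap.polar_comm _ v u] at hne
    rcases hwv with hwv | hc1
    · have h4 := congrArg (B u) hc
      simp only [hwv, zero_smul, sub_zero, QuadraticMap.polar_add_right, polar_smul_r, huw.1, mul_zero,
        add_zero] at h4
      have hc1 : c = 1 := mul_right_cancel₀ hne (by linear_combination -h4)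
      rw [hc1] at h2
      exact hne (by linear_combination h2)
    · rw [hc1] at h2
      exact hne (by linear_combination h2)
  -- one orbit is moved but not by the radical element
  obtain ⟨o₁, h₁, h₂⟩ : ∃ o, pS o ∧ ¬ pM o := by
    obtain ⟨o₀, v₀, hv₀, hv₀0⟩ : ∃ o : Orb X D, ∃ v ∈ oA D o, v ≠ 0 := by
      by_contra hcon
      push Not at hcon
      have hfix : ∀ (y : X) {a b : V}, TS Q a b → elt (Q := Q) a b • y = y := by
        intro y a b hab
        obtain ⟨k, hk⟩ := exists_conj_root D.hyp tseu hab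
        rw [← hk, mul_smul, mul_smul]
        have h1 : u ∈ oS D (orbOf D (k⁻¹ • y)) := mem_oS_of_orth D hu fun v hv => by
          rw [hcon _ v hv, QuadraticMap.polar_comm, polar_zero_r]
        rw [oS_orbOf, mem_S] at h1
        rw [h1.2, smul_inv_smul]
      obtain ⟨y, z, hyz⟩ := exists_pair_ne X
      obtain ⟨k, rfl⟩ := MulAction.exists_smul_eq (Omega F ⇑Q) y z
      have := top_of_roots D.hyp (K := stabilizer (Omega F ⇑Q) y) fun a b hab => hfix y hab
      exact hyz (show k • y = y from (this ▸ Subgroup.mem_top k : k ∈ stabilizer (Omega F ⇑Q) y)).symm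
    set v' := w' + Q v₀ • w
    have hv' : Perp Q e f v' := hw'.add (hw.smul _)
    have hwv' : B w v' = 1 := by
      rw [QuadraticMap.polar_add_right, Pw.2.2, polar_smul_r, polar_self' Pw.1, mul_zero, add_zero]
    have huv' : B u v' = 0 := by
      rw [QuadraticMap.polar_add_right, huw'.1, polar_smul_r, huw.1, mul_zero, add_zero]
    have hv'0 : v' ≠ 0 := fun e0 => by rw [e0, polar_zero_r] at hwv'; exact zero_ne_one hwv'
    have hQ' : Q v' = Q v₀ := by
      rw [quad_add_smul, Pw.2.1, Pw.1, QuadraticMap.polar_comm _ w' w, Pw.2.2]; ring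
    obtain ⟨k, M, hk⟩ := exists_move_one D.hyp D.pair (oA_perp D hv₀) hv₀0 hv' hv'0 hQ'
    set o₁ := oMove D M o₀
    have hv'A : v' ∈ oA D o₁ := by
      have := M.mem_oA D hv₀
      rwa [inv_one, one_smul, hk] at this
    refine ⟨o₁, mem_oS_of_orth D hu fun x hx => ?_, fun hM => ?_⟩
    · obtain ⟨c, rfl⟩ := line_of_mem D (hl o₁) hv'A hv'0 x hx
      rw [polar_smul_l, QuadraticMap.polar_comm, huv', mul_zero]
    · have h1 := L.mem_oA D hv'A
      rw [show oMove D L o₁ = o₁ from hM, inv_one, one_smul, g'apply, huv', zero_smul, add_zero, mul_zero,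
        add_zero, hwv', one_smul] at h1
      obtain ⟨c, hc⟩ := line_of_mem D (hl o₁) hv'A hv'0 _ h1
      have h2 := congrArg (B w) hc
      rw [QuadraticMap.polar_sub_right, hwv', QuadraticMap.polar_comm _ w u, huw.1, sub_zero, polar_smul_r,
        hwv', mul_one] at h2
      rw [← h2, one_smul, sub_eq_self] at hc
      exact Pu.ne hc
  have hlt : (∑ o ∈ (Finset.univ : Finset (Orb X D)).filter pM, Nat.card (oA D o)) <
      ∑ o ∈ (Finset.univ : Finset (Orb X D)).filter pS, Nat.card (oA D o) :=
    Finset.sum_lt_sum_of_subset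
      (fun o ho => Finset.mem_filter.2 ⟨Finset.mem_univ _, hstay o (Finset.mem_filter.1 ho).2⟩)
      (i := o₁) (Finset.mem_filter.2 ⟨Finset.mem_univ _, h₁⟩)
      (fun h => h₂ (Finset.mem_filter.1 h).2) Nat.card_pos fun _ _ _ => Nat.zero_le _
  have hA := (fix_radical D hu).trans (card_pred D pS)
  have hB : Nat.card {y : X // g' • y = y} ≤ Nat.card {y : X // pM (orbOf D y)} :=
    Nat.card_le_card_of_injective (fun y => ⟨y.1, by show oMove D L _ = _; rw [oMove_orbOf, y.2]⟩)
      fun _ _ h => Subtype.ext (congrArg Subtype.val h :)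
  rw [card_pred D pM] at hB
  omega

end Cfsg.Agent.Lie.MinIndexOrth
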