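import Cfsg.Agent.Lib.Lie.MinIndexOrthRegular

/-! No small transitive action of `Ω(Q)`, given the sizes of the classes of vectors. -/

set_option autoImplicit false
set_option linter.unusedSectionVars false
set_option quotPrecheck false

namespace Cfsg.Agent.Lie.MinIndexOrth

open Cfsg Matrix Module MulAction Cfsg.Agent.Classical Cfsg.Agent.Classical.OrthAut

universe u

variable {F : Type*} [Field F] [Fintype F] {ι : Type} [Fintype ι] [DecidableEq ι]
  {Q : QuadraticForm F (ι → F)}

local notation "V" => (ι → F)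
local notation "B" => QuadraticMap.polar ⇑Q
local notation "GG" => (↥(Omega F ⇑Q))
local notation "q" => Fintype.card F
local notation "d" => Fintype.card ι - 2

variable {X : Type u} [MulAction (Omega F ⇑Q) X] [Fintype X] {e f : ι → F} {χ : AddChar F ℂ}

/-- Totally singular orbits are excluded. -/
def NoBig (X : Type u) [MulAction (Omega F ⇑Q) X] [Fintype X] (D : Set2 Q e f χ) : Prop :=
  ∀ o : Orb X D, IsSing D o → ∀ v ∈ oA D o, ∀ r ∈ oA D o, TS Q v r → False

variable (D : Set2 Q e f χ)
include D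

omit D in
theorem perpG_not_line (H : Hyp Q) (P : Pair Q e f) {v : V} :
    ¬ ∀ x ∈ perpG Q e f, ∃ c : F, x = c • v := by
  intro hl
  obtain ⟨u, u', w, w', Pu, Pw, hu, hu', hw, hw', huw, huw'⟩ := exists_two_pairs H P
  obtain ⟨a, ha⟩ := hl u hu
  obtain ⟨b, hb⟩ := hl w hw
  have ha0 : a ≠ 0 := fun e0 => Pu.ne (by rw [ha, e0, zero_smul])
  have h : w = (b * a⁻¹) • u := by rw [ha, smul_smul, mul_assoc, inv_mul_cancel₀ ha0, mul_one, hb]
  have h1 := congrArg (B w') h
  rw [QuadraticMap.polar_comm _ w' w, Pw.2.2, polar_smul_r, QuadraticMap.polar_comm _ w' u, huw'.1, mul_zero] at h1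
  exact one_ne_zero h1

theorem orbit_cases (hS : ∀ v, Perp Q e f v → Q v ≠ 0 → Small X D v) (hbig : NoBig X D) (o : Orb X D) :
    oA D o = perpG Q e f ∨ (oA D o ≠ perpG Q e f ∧ IsLine D o) := by
  by_cases h : oA D o = perpG Q e f
  · exact Or.inl h
  refine Or.inr ⟨h, ?_⟩
  rcases kinds D hS o with h1 | h1 | ⟨h1, v, hv, r, hr, hts⟩
  · exact absurd h1 h
  · exact h1
  · exact (hbig o h1 v hv r hr hts).elim

/-- An action on fewer than `Bd` points is trivial. -/
theorem no_small [Nontrivial X] [MulAction.IsPretransitive (Omega F ⇑Q) X] {Z₀ Bd : ℕ}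
    (hX : Fintype.card X < Bd)
    (hS : ∀ v, Perp Q e f v → Q v ≠ 0 → Small X D v)
    (hbig : NoBig X D)
    (h2d : Bd ≤ 2 * q ^ d)
    (h3 : ∀ v, Perp Q e f v → Q v ≠ 0 → (q - 1) * Bd ≤ (q - 1) * q ^ d + q * (cls Q e f v).card)
    (hBd : (q - 1) * Bd ≤ (q - 1) * q ^ d + q * (wCount Q e f 0 - 1) + (q - 1))
    (hZ : wCount Q e f 0 = q * Z₀ + (q - 1) * q ^ (d - 2))
    (hreg : (∀ o : Orb X D, oA D o = perpG Q e f) → Fintype.card X = q ^ d → False) : False := by
  classical
  have hq : 2 ≤ q := Fintype.one_lt_card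
  -- a regular orbit, and only one
  obtain ⟨o₁, ho₁⟩ : ∃ o : Orb X D, oA D o = perpG Q e f := by
    by_contra hcon
    push Not at hcon
    exact not_all_lines D fun o => ((orbit_cases D hS hbig o).resolve_left (hcon o)).2
  have huniq : ∀ o : Orb X D, oA D o = perpG Q e f → o = o₁ := by
    intro o ho
    by_contra hne
    have h1 := sum_le_points D ({o, o₁} : Finset (Orb X D))
    rw [Finset.sum_pair hne, card_perp_orbit D ho, card_perp_orbit D ho₁] at h1
    omega
  have hline : ∀ o, o ≠ o₁ → IsLine D o := fun o ho =>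
    ((orbit_cases D hS hbig o).resolve_left fun h => ho (huniq o h)).2
  set rest := (Finset.univ : Finset (Orb X D)).erase o₁
  have hpts : Fintype.card X = q ^ d + ∑ o ∈ rest, Nat.card (oA D o) := by
    rw [card_points D, ← card_perp_orbit D ho₁]
    exact (Finset.add_sum_erase _ _ (Finset.mem_univ o₁)).symm
  have weigh : ∀ (v : V) (o : Orb X D), o ≠ o₁ → v ∈ oA D o → v ≠ 0 →
      q * (cls Q e f v).card ≤ (q - 1) * ∑ o' ∈ rest, Nat.card (oA D o') := by
    intro v o ho hv hv0
    have hvp := oA_perp D hv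
    have h2 : 2 ≤ (through X D v).card := by
      refine Finset.one_lt_card.2 ⟨o, (mem_through D).2 hv, o₁, (mem_through D).2 ?_, ho⟩
      rw [ho₁]; exact hvp
    have hcov : ∀ x ∈ cls Q e f v, ∃ o' ∈ rest, x ∈ oA D o' := by
      intro x hx
      obtain ⟨o', ho', hne⟩ := Finset.exists_mem_ne
        (lt_of_lt_of_le (by omega) (through_le D hvp hv0 hx) : 1 < (through X D x).card) o₁
      exact ⟨o', Finset.mem_erase.2 ⟨hne, Finset.mem_univ _⟩, (mem_through D).1 ho'⟩
    calc q * (cls Q e f v).card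
        ≤ q * ∑ o' ∈ rest, ((cls Q e f v).filter fun x => x ∈ oA D o').card := by
          refine Nat.mul_le_mul_left _ (le_trans (Finset.card_le_card fun x hx => ?_) Finset.card_biUnion_le)
          obtain ⟨o', ho', hxo⟩ := hcov x hx
          exact Finset.mem_biUnion.2 ⟨o', ho', Finset.mem_filter.2 ⟨hx, hxo⟩⟩
      _ = ∑ o' ∈ rest, q * ((cls Q e f v).filter fun x => x ∈ oA D o').card := Finset.mul_sum _ _ _
      _ ≤ ∑ o' ∈ rest, (q - 1) * Nat.card (oA D o') := by
          refine Finset.sum_le_sum fun o' ho' => ?_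
          refine le_trans (le_of_eq ?_)
            (lines_weight D (hline o' (Finset.mem_erase.1 ho').1) (cls Q e f v) fun w hw => (mem_cls.1 hw).1)
          congr 2
      _ = _ := (Finset.mul_sum _ _ _).symm
  by_cases hsome : ∃ o, o ≠ o₁ ∧ ∃ v ∈ oA D o, v ≠ 0
  swap
  · push Not at hsome
    by_cases hfix : ∃ o : Orb X D, o ≠ o₁
    · -- a point fixed by a radical is fixed by every long root element
      obtain ⟨o, ho⟩ := hfix
      obtain ⟨y, hy⟩ := orbOf_surj D o
      have dich : ∀ (a : V), a ≠ 0 → Q a = 0 → ∀ z : X, Free Q a z ∨ Full Q a z := by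
        intro a ha haa z
        obtain ⟨g, rfl⟩ := exists_move_point D.hyp D.pair.ne D.pair.1 ha haa
        rw [← smul_inv_smul g z]
        by_cases h1 : orbOf D (g⁻¹ • z) = o₁
        · exact Or.inl (((free_iff D).2 (h1 ▸ ho₁)).map D.hyp g)
        · exact Or.inr ((full_of_bot D (hsome _ h1)).map D.hyp g)
      have spread : ∀ {a b : V}, TS Q a b → Full Q a y → Full Q b y := by
        intro a b h ha
        rcases dich b h.right_ne h.2.1 y with hb | hb
        · exfalso
          have h1 := ha b h.ok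
          rw [elt_swap D.hyp h.ok h.2.1] at h1
          have h2 := hb (-a) ⟨h.2.1, by rw [QuadraticMap.polar_neg_right, QuadraticMap.polar_comm, h.2.2.1, neg_zero]⟩ h1
          rw [← elt_swap D.hyp h.ok h.2.1] at h2
          exact elt_ne_one D.hyp h h2
        · exact hb
      have he : Full Q e y := full_of_bot D (by rw [hy]; exact hsome o ho)
      have hscale : ∀ {a : V} (c : F), Q a = 0 → Full Q a y → Full Q (c • a) y := by
        intro a c haa h w hw
        by_cases hc : c = 0
        · subst hc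
          have e1 : elt (Q := Q) ((0 : F) • a) w = 1 := gV_ext fun x => by
            rw [elt_apply D.hyp hw, gV_one, Matrix.one_mulVec, zero_smul, QuadraticMap.polar_comm, polar_zero_r,
              zero_smul, smul_zero, sub_zero, add_zero]
          rw [e1, one_smul]
        · have hw' : OK Q a w := ⟨haa, (mul_eq_zero.1 (by rw [← polar_smul_l]; exact hw.2)).resolve_left hc⟩
          rw [elt_smul_left D.hyp hw']
          exact h _ (hw'.smul c)
      have allfull : ∀ a : V, a ≠ 0 → Q a = 0 → Full Q a y := by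
        intro a ha haa
        by_cases h0 : B e a = 0
        · by_cases hdep : ∃ c : F, a = c • e
          · obtain ⟨c, rfl⟩ := hdep
            exact hscale c D.pair.1 he
          · refine spread ⟨D.pair.1, haa, h0, fun s t hst => ?_⟩ he
            by_cases ht : t = 0
            · rw [ht, zero_smul, add_zero, smul_eq_zero] at hst
              exact ⟨hst.resolve_right D.pair.ne, ht⟩
            · exfalso
              refine hdep ⟨-(t⁻¹ * s), ?_⟩
              linear_combination (norm := skip) t⁻¹ • hst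
              match_scalars <;> field_simp <;> ring
        · have P' : Pair Q e ((B e a)⁻¹ • a) := ⟨D.pair.1, by rw [QuadraticMap.map_smul, haa, smul_zero],
            by rw [polar_smul_r, inv_mul_cancel₀ h0]⟩
          obtain ⟨u, u', Pu, hu, -⟩ := exists_frame D.hyp.nd D.hyp.tri P'
          have h1 := spread (TS.of_perp P' Pu.1 hu Pu.ne) he
          have h2 := spread (TS.symm (TS.of_perp P'.symm Pu.1 ⟨hu.2, hu.1⟩ Pu.ne)) h1
          have h3 := hscale (B e a) P'.2.1 h2
          rwa [smul_smul, mul_inv_cancel₀ h0, one_smul] at h3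
      have htop := top_of_roots D.hyp (K := stabilizer (Omega F ⇑Q) y) fun a b hab =>
        allfull a hab.left_ne hab.1 b hab.ok
      obtain ⟨z, hz⟩ := exists_ne y
      obtain ⟨g, rfl⟩ := MulAction.exists_smul_eq (Omega F ⇑Q) y z
      exact hz (show g • y = y from (htop ▸ Subgroup.mem_top g : g ∈ stabilizer (Omega F ⇑Q) y))
    · push Not at hfix
      refine hreg (fun o => (hfix o) ▸ ho₁) ?_
      rw [hpts, show rest = ∅ from Finset.eq_empty_of_forall_notMem fun o ho =>
        (Finset.mem_erase.1 ho).1 (hfix o), Finset.sum_empty, add_zero]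
  obtain ⟨o, ho, v, hv, hv0⟩ := hsome
  have hw := weigh v o ho hv hv0
  have hup : (q - 1) * (Fintype.card X + 1) ≤ (q - 1) * Bd := Nat.mul_le_mul_left _ hX
  rw [hpts, Nat.mul_add, Nat.mul_add, mul_one] at hup
  by_cases hvv : Q v = 0
  swap
  · have h4 := h3 v (oA_perp D hv) hvv
    omega
  have hC : (cls Q e f v).card = wCount Q e f 0 - 1 := Nat.eq_sub_of_add_eq (card_cls_zero hvv)
  rw [hC] at hw
  -- the only possible size
  have hfree : Nat.card {y : X // Free Q e y} = q ^ d := by
    rw [Nat.card_congr (Equiv.subtypeEquivRight fun y : X => (free_iff D).trans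
      ⟨huniq _, fun h => h ▸ ho₁⟩), card_fibre D o₁, card_perp_orbit D ho₁]
  have hdvd := free_count D hfree
  have hZV := value_V D.hyp D.pair 0
  rw [hZV, hpts] at hdvd
  set S := wCount Q e f 0 - 1
  set R := ∑ o ∈ rest, Nat.card (oA D o)
  have hR : (q - 1) * R = q * S := by omega
  have hS1 : wCount Q e f 0 = S + 1 := by have := card_cls_zero (Q := Q) (e := e) (f := f) hvv; omega
  obtain ⟨j, hj⟩ : ∃ j, d = j + 3 := ⟨d - 3, by have := D.hyp.seven; omega⟩
  rw [hj] at hdvd hpts
  rw [show d - 2 = j + 1 by omega] at hZ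
  set p := q - 1 with hp
  have hqp : q = p + 1 := by omega
  set M := p * q ^ (j + 2) + S
  have e1 : p * (q ^ (j + 3) + R) = q * M := by rw [Nat.mul_add, hR]; ring
  have e2 : q * wCount Q e f 0 + p * q ^ (j + 3) - 1 = p * (q ^ (j + 3) + R + 1) := by
    rw [hS1, Nat.mul_add p _ 1, e1, mul_one, Nat.mul_add q S 1, mul_one]
    have : q * M = p * q ^ (j + 3) + q * S := by simp only [M]; ring
    omega
  rw [e2, mul_assoc, mul_comm (q ^ (j + 3) + R + 1), ← mul_assoc] at hdvd
  have h5 : q ^ (j + 3) + R ∣ p * q ^ (j + 3) :=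
    ((Nat.coprime_self_add_right.2 (Nat.coprime_one_right _)).dvd_of_dvd_mul_right hdvd)
  have h6 : q * M ∣ p * (p * q ^ (j + 3)) := e1 ▸ Nat.mul_dvd_mul_left p h5
  rw [show p * (p * q ^ (j + 3)) = q * (p * p * q ^ (j + 2)) by ring] at h6
  have h7' := Nat.dvd_of_mul_dvd_mul_left (by omega) h6
  have hcop : Nat.Coprime M q := by
    have e3 : M + 1 = q * (Z₀ + p * q ^ j + p * q ^ (j + 1)) := by
      simp only [M]
      rw [add_assoc, ← hS1, hZ]
      ring
    refine Nat.coprime_of_dvd fun k hk h1 h2 => hk.not_dvd_one ?_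
    exact (Nat.dvd_add_right h1).1 (e3 ▸ Dvd.dvd.mul_right h2 _)
  have h8 := Nat.le_of_dvd (Nat.mul_pos (by omega) (by omega))
    ((Nat.Coprime.pow_right (j + 2) hcop).dvd_of_dvd_mul_right h7')
  have h9 : q ^ 1 ≤ q ^ (j + 2) := Nat.pow_le_pow_right (by omega) (by omega)
  have h10 : p * p < M := by
    have : p * p < p * q ^ (j + 2) := Nat.mul_lt_mul_of_pos_left (by rw [pow_one] at h9; omega) (by omega)
    simp only [M]; omega
  omega

end Cfsg.Agent.Lie.MinIndexOrth
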