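import Cfsg.Agent.Lib.Lie.MinIndexOrthTool
import Cfsg.Agent.Lib.Classical.OrthModels

/-! The minimal index of a proper subgroup of `PΩ⁻(2k+2,q)`, `k ≥ 3`. -/

set_option autoImplicit false
set_option linter.unusedSectionVars false
set_option quotPrecheck false

namespace Cfsg.Agent.Lie.MinIndexOrth.Minus

open Cfsg Matrix Module MulAction Cfsg.Agent.Classical Cfsg.Agent.Classical.OrthAut

universe u

variable {F : Type*} [Field F] [Fintype F] {k : ℕ} {a b : F}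
  (hab : ∀ z₁ z₂ : F, z₁ ^ 2 + a * z₁ * z₂ + b * z₂ ^ 2 = 0 → z₁ = 0 ∧ z₂ = 0)

local notation "ιm" => ((Fin k ⊕ Fin k) ⊕ Fin 2)
local notation "V" => (ιm → F)
local notation "Qm" => qfMinus k F a b
local notation "q" => Fintype.card F

include hab

theorem hyp (hk : 3 ≤ k) : Hyp Qm :=
  ⟨nondegenerate_qfMinus k hab, tri_qfMinus hk a b, by simp; omega⟩

theorem zeros : Nat.card {v : V // Qm v = 0} + q ^ (k + 1) = q ^ (2 * k + 1) + q ^ k := by
  have h := zeros_qfMinus k hab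
  zify
  linarith

/-- Every other value is taken at least as often as by the balanced form. -/
theorem values (h2 : (2 : F) ≠ 0) {c : F} : q ^ (2 * k + 1) + q ^ k ≤
    Nat.card {v : V // Qm v = c} + q ^ (k + 1) := by
  induction k with
  | zero =>
    obtain ⟨v, -, hv⟩ := exists_value_in (Q := qfMinus 0 F a b) (nondegenerate_qfMinus 0 hab) h2 (W := ⊤) (fun w _ hw => by
      obtain ⟨x, hx⟩ : ∃ x, QuadraticMap.polar (qfMinus 0 F a b) w x ≠ 0 := by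
        by_contra hcon
        push Not at hcon
        exact hw ((nondegenerate_qfMinus 0 hab).1 w hcon)
      exact ⟨x, Submodule.mem_top, hx⟩) (by simp) c
    haveI : Nonempty {v // qfMinus 0 F a b v = c} := ⟨⟨v, hv⟩⟩
    have := Nat.card_pos (α := {v // qfMinus 0 F a b v = c})
    simp only [Nat.mul_zero, zero_add, pow_one, pow_zero]
    omega
  | succ n ih =>
    rw [← zeros_congr (minusStep n) (qfMinus_step n a b) c, natCard_hypExt_eq]
    have hcard : Nat.card ((Fin n ⊕ Fin n) ⊕ Fin 2 → F) = q ^ (2 * n + 2) := by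
      rw [Nat.card_fun, Nat.card_eq_fintype_card (α := F)]; simp; ring
    rw [hcard]
    obtain ⟨p, hp⟩ : ∃ p, q = p + 1 := ⟨q - 1, (Nat.succ_pred_eq_of_pos Fintype.card_pos).symm⟩
    have h1 := Nat.mul_le_mul_left q ih
    rw [hp] at h1 ⊢
    rw [Nat.add_sub_cancel]
    ring_nf at h1 ⊢
    omega

omit hab in
theorem three_le_of_two (h2 : (2 : F) ≠ 0) : 3 ≤ q := by
  by_contra hcon
  have hq := Fintype.one_lt_card (α := F)
  haveI : CharP F 2 := charP_of_card_eq_prime (show Fintype.card F = 2 by omega)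
  exact h2 (CharTwo.two_eq_zero)

omit hab in
/-- The arithmetic of the minus type: `Q = q`, `x = q ^ (k - 3)`. -/
theorem arith {Q x : ℤ} (hQ : 2 ≤ Q) (hx : 1 ≤ x) :
    Q ^ 7 * x ^ 2 + Q ^ 3 * x - Q ^ 4 * x - 1 ≤ (Q - 1) * (2 * (Q ^ 6 * x ^ 2)) ∧
    Q ^ 7 * x ^ 2 + Q ^ 3 * x - Q ^ 4 * x - 1 ≤
      (Q - 1) * (Q ^ 6 * x ^ 2) + Q * (Q ^ 6 * x ^ 2 - (Q ^ 5 * x ^ 2 + Q ^ 2 * x - Q ^ 3 * x)) ∧
    Q ^ 7 * x ^ 2 + Q ^ 3 * x - Q ^ 4 * x - 1 ≤
      (Q - 1) * (4 * (Q ^ 6 * x ^ 2 - (Q ^ 5 * x ^ 2 + Q ^ 2 * x - Q ^ 3 * x))) ∧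
    (Q ^ 7 * x ^ 2 + Q ^ 3 * x - Q ^ 4 * x - 1) * ((Q ^ 2 * x - 1) * (Q ^ 2 * x - Q)) ≤
      (Q - 1) * (Q ^ 2 * x * ((Q ^ 5 * x ^ 2 + Q ^ 2 * x - Q ^ 3 * x - 1) *
        (Q * (Q ^ 3 * x ^ 2 + Q * x - Q ^ 2 * x - 1)))) := by
  obtain ⟨A, hA, rfl⟩ : ∃ A, 0 ≤ A ∧ Q = A + 2 := ⟨Q - 2, by omega, by ring⟩
  obtain ⟨E, hE, rfl⟩ : ∃ E, 0 ≤ E ∧ x = E + 1 := ⟨x - 1, by omega, by ring⟩
  refine ⟨?_, ?_, ?_, ?_⟩ <;> (rw [← sub_nonneg]; ring_nf; positivity)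

omit hab in
theorem arith_four {Q x : ℤ} (hQ : 4 ≤ Q) (hx : 1 ≤ x) :
    Q ^ 7 * x ^ 2 + Q ^ 3 * x - Q ^ 4 * x - 1 ≤
      (Q - 1) * (2 * (Q ^ 6 * x ^ 2 - (Q ^ 5 * x ^ 2 + Q ^ 2 * x - Q ^ 3 * x))) := by
  obtain ⟨A, hA, rfl⟩ : ∃ A, 0 ≤ A ∧ Q = A + 4 := ⟨Q - 4, by omega, by ring⟩
  obtain ⟨E, hE, rfl⟩ : ∃ E, 0 ≤ E ∧ x = E + 1 := ⟨x - 1, by omega, by ring⟩
  rw [← sub_nonneg]; ring_nf; positivity

omit hab in
theorem arith_odd {Q x : ℤ} (hQ : 3 ≤ Q) (hx : 1 ≤ x) :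
    2 * (Q ^ 7 * x ^ 2 + Q ^ 3 * x - Q ^ 4 * x - 1) ≤
      (Q - 1) * (5 * ((Q - 1) * (Q ^ 5 * x ^ 2 + Q ^ 2 * x - Q ^ 3 * x))) ∧
    2 * (Q ^ 7 * x ^ 2 + Q ^ 3 * x - Q ^ 4 * x - 1) ≤
      2 * ((Q - 1) * (Q ^ 6 * x ^ 2)) + Q * ((Q - 1) * (Q ^ 5 * x ^ 2 + Q ^ 2 * x - Q ^ 3 * x)) := by
  obtain ⟨A, hA, rfl⟩ : ∃ A, 0 ≤ A ∧ Q = A + 3 := ⟨Q - 3, by omega, by ring⟩
  obtain ⟨E, hE, rfl⟩ : ∃ E, 0 ≤ E ∧ x = E + 1 := ⟨x - 1, by omega, by ring⟩
  refine ⟨?_, ?_⟩ <;> (rw [← sub_nonneg]; ring_nf; positivity)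

omit hab in
theorem arith_nine {Q x : ℤ} (hQ : 9 ≤ Q) (hx : 1 ≤ x) :
    2 * (Q ^ 7 * x ^ 2 + Q ^ 3 * x - Q ^ 4 * x - 1) ≤
      (Q - 1) * (3 * ((Q - 1) * (Q ^ 5 * x ^ 2 + Q ^ 2 * x - Q ^ 3 * x))) := by
  obtain ⟨A, hA, rfl⟩ : ∃ A, 0 ≤ A ∧ Q = A + 9 := ⟨Q - 9, by omega, by ring⟩
  obtain ⟨E, hE, rfl⟩ : ∃ E, 0 ≤ E ∧ x = E + 1 := ⟨x - 1, by omega, by ring⟩
  rw [← sub_nonneg]; ring_nf; positivity

theorem point_bound {Bd : ℕ}
    (hBd : (q - 1) * Bd + q ^ (k + 1) + 1 = q ^ (2 * k + 1) + q ^ k) :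
    (q - 1) * Bd = Nat.card {v : V // Qm v = 0} - 1 := by
  have h := zeros (k := k) hab
  omega

set_option maxHeartbeats 800000 in
theorem index_le (hk : 3 ≤ k) {Bd : ℕ}
    (hBd : (q - 1) * Bd + q ^ (k + 1) + 1 = q ^ (2 * k + 1) + q ^ k)
    {X : Type u} [MulAction (Omega F ⇑Qm) X] [Fintype X] [Nontrivial X]
    [MulAction.IsPretransitive (Omega F ⇑Qm) X] : Bd ≤ Fintype.card X := by
  classical
  by_contra hcon
  push Not at hcon
  have H := hyp hab hk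
  obtain ⟨e, f, χ, D⟩ := exists_set2 H
  have hq : 2 ≤ q := Fintype.one_lt_card
  obtain ⟨j, rfl⟩ : ∃ j, k = j + 3 := ⟨k - 3, by omega⟩
  have hι : Fintype.card ((Fin (j + 3) ⊕ Fin (j + 3)) ⊕ Fin 2) = 2 * j + 8 := by simp; ring
  have hd : Fintype.card ((Fin (j + 3) ⊕ Fin (j + 3)) ⊕ Fin 2) - 2 = 2 * j + 6 := by omega
  -- the counts
  set x : ℤ := (q : ℤ) ^ j with hx
  have hx1 : 1 ≤ x := one_le_pow₀ (by omega)
  have hQ : (2 : ℤ) ≤ q := by exact_mod_cast hq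
  have hNB : ((q : ℤ) - 1) * Bd = (q : ℤ) ^ 7 * x ^ 2 + (q : ℤ) ^ 3 * x - (q : ℤ) ^ 4 * x - 1 := by
    have h : (((q - 1) * Bd + q ^ (j + 3 + 1) + 1 : ℕ) : ℤ) = ((q ^ (2 * (j + 3) + 1) + q ^ (j + 3) : ℕ) : ℤ) :=
      congrArg Nat.cast hBd
    push_cast [Nat.cast_sub (show 1 ≤ q by omega)] at h
    rw [hx]
    linear_combination h
  set ZW := wCount (qfMinus (j + 3) F a b) e f 0
  have hZW : (ZW : ℤ) = (q : ℤ) ^ 5 * x ^ 2 + (q : ℤ) ^ 2 * x - (q : ℤ) ^ 3 * x := by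
    have h : ((q * ZW + (q - 1) * q ^ (2 * j + 6) + q ^ (j + 3 + 1) : ℕ) : ℤ) =
        ((q ^ (2 * (j + 3) + 1) + q ^ (j + 3) : ℕ) : ℤ) := by
      rw [← zeros (k := j + 3) hab, value_V H D.pair 0, hd]
    push_cast [Nat.cast_sub (show 1 ≤ q by omega)] at h
    rw [hx]
    refine mul_left_cancel₀ (show (q : ℤ) ≠ 0 by omega) ?_
    linear_combination h
  have hZ1 : 1 ≤ ZW := by
    haveI : Nonempty {v // Perp (qfMinus (j + 3) F a b) e f v ∧ (qfMinus (j + 3) F a b) v = 0} := ⟨⟨0, perp_zero e f, QuadraticMap.map_zero _⟩⟩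
    exact Nat.card_pos
  set Z₀ := q ^ (2 * j + 3) + q ^ (j + 1) - q ^ (j + 2) with hZ₀d
  have hZ₀ : (Z₀ : ℤ) = (q : ℤ) ^ 3 * x ^ 2 + (q : ℤ) * x - (q : ℤ) ^ 2 * x := by
    have hle : q ^ (j + 2) ≤ q ^ (2 * j + 3) := Nat.pow_le_pow_right (by omega) (by omega)
    rw [hZ₀d, Nat.cast_sub (by omega), hx]
    push_cast; ring
  have hd2 : q ^ (2 * j + 6) = q ^ 2 * q ^ (2 * j + 4) := by ring
  have hcast : ((q ^ (2 * j + 6) : ℕ) : ℤ) = (q : ℤ) ^ 6 * x ^ 2 := by rw [hx]; push_cast; ring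
  obtain ⟨a1, a2, a3, a4⟩ := arith (Q := (q : ℤ)) hQ hx1
  rw [← hNB] at a1
  rw [← hNB, ← hZW] at a2
  rw [← hNB, ← hZW] at a3
  rw [← hNB, ← hZW, ← hZ₀] at a4
  rw [← hcast] at a1 a2 a3
  have hq1 : 0 < (q : ℤ) - 1 := by omega
  have hL : (2 : F) ≠ 0 → ∀ c : F, c ≠ 0 → ZW ≤ wCount (qfMinus (j + 3) F a b) e f c := by
    intro h2 c _
    have h := values (k := j + 3) hab h2 (c := c)
    rw [← zeros (k := j + 3) hab, value_V H D.pair c, value_V H D.pair 0, hd] at h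
    have h' : q * wCount (qfMinus (j + 3) F a b) e f 0 ≤ q * wCount (qfMinus (j + 3) F a b) e f c := by omega
    exact Nat.le_of_mul_le_mul_left h' (by omega)
  have heven : ∀ v, (2 : F) = 0 → (qfMinus (j + 3) F a b) v ≠ 0 →
      (((cls (qfMinus (j + 3) F a b) e f v).card : ℕ) : ℤ) = ((q ^ (2 * j + 6) : ℕ) : ℤ) - ZW := by
    intro v h2 hv
    have h := card_cls_even (e := e) (f := f) h2 hv
    rw [show Nat.card {w // Perp (qfMinus (j + 3) F a b) e f w} = q ^ (2 * j + 6) from hd ▸ card_perpG H D.pair] at h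
    rw [← h]; push_cast; ring
  have h3 : ∀ v, Perp (qfMinus (j + 3) F a b) e f v → (qfMinus (j + 3) F a b) v ≠ 0 →
      (q - 1) * Bd ≤ (q - 1) * q ^ (2 * j + 6) + q * (cls (qfMinus (j + 3) F a b) e f v).card := by
    intro v _ hv
    suffices ((q : ℤ) - 1) * Bd ≤ ((q : ℤ) - 1) * ((q ^ (2 * j + 6) : ℕ) : ℤ) + q * (cls (qfMinus (j + 3) F a b) e f v).card by
      zify [show 1 ≤ q by omega]; exact_mod_cast this
    by_cases h2 : (2 : F) = 0
    · rw [heven v h2 hv]; exact a2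
    · have hodd : 3 ≤ q := three_le_of_two h2
      have h := (arith_odd (Q := (q : ℤ)) (x := x) (by exact_mod_cast hodd) hx1).2
      rw [← hNB, ← hZW, ← hcast] at h
      have hc : ((q : ℤ) - 1) * ZW ≤ 2 * (cls (qfMinus (j + 3) F a b) e f v).card := by
        have := card_cls_odd hv (hL h2)
        zify [show 1 ≤ q by omega] at this; exact this
      nlinarith [mul_le_mul_of_nonneg_left hc (show (0 : ℤ) ≤ q by omega)]
  have hS : ∀ v, Perp (qfMinus (j + 3) F a b) e f v → (qfMinus (j + 3) F a b) v ≠ 0 → Small X D v := by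
    intro v hvp hv
    refine small_of_bounds (Bd := Bd) (L := ZW) D hvp hv hcon (fun h2 => ?_) (fun h2 => ⟨card_cls_odd hv (hL h2),
      ⟨?_, Or.inl (by omega)⟩, fun h9 => ?_⟩)
    · have hc := heven v h2 hv
      by_cases h4 : 4 ≤ q
      · refine Or.inl ⟨h4, ?_⟩
        have h := arith_four (Q := (q : ℤ)) (x := x) (by exact_mod_cast h4) hx1
        rw [← hNB, ← hZW, ← hcast, ← hc] at h
        exact_mod_cast le_of_mul_le_mul_left h hq1
      · refine Or.inr ⟨by omega, ?_⟩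
        rw [← hc] at a3
        exact_mod_cast le_of_mul_le_mul_left a3 hq1
    · have h := (arith_odd (Q := (q : ℤ)) (x := x) (by exact_mod_cast three_le_of_two h2) hx1).1
      rw [← hNB, ← hZW, show 2 * (((q : ℤ) - 1) * Bd) = ((q : ℤ) - 1) * (2 * Bd) by ring] at h
      have := le_of_mul_le_mul_left h hq1
      zify [show 1 ≤ q by omega]; exact this
    · have h := arith_nine (Q := (q : ℤ)) (x := x) (by exact_mod_cast h9) hx1
      rw [← hNB, ← hZW, show 2 * (((q : ℤ) - 1) * Bd) = ((q : ℤ) - 1) * (2 * Bd) by ring] at h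
      have := le_of_mul_le_mul_left h hq1
      zify [show 1 ≤ q by omega]; exact this
  have hR : ∀ U : Submodule F ((Fin (j + 3) ⊕ Fin (j + 3)) ⊕ Fin 2 → F), (∀ x ∈ U, Perp (qfMinus (j + 3) F a b) e f x ∧ (qfMinus (j + 3) F a b) x = 0) →
      Nat.card U ≤ q ^ (j + 2) := fun U hU =>
    singular_ext (fun C hC => singular_finrank_le_minus (j + 3) hab C hC) D.pair U hU
  have hZ : ZW = q * Z₀ + (q - 1) * q ^ (2 * j + 4) := by
    zify [show 1 ≤ q by omega]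
    rw [hZW, hZ₀, hx]; ring
  have hnum : Bd * ((q ^ (j + 2) - 1) * (q ^ (j + 2) - q)) ≤
      q ^ (j + 2) * ((ZW - 1) * (q * (Z₀ - 1))) := by
    have hR1 : q ≤ q ^ (j + 2) := Nat.le_self_pow (by omega) _
    have hZ01 : 1 ≤ Z₀ := by
      have h1 : q ^ (j + 2) ≤ q ^ (2 * j + 3) := Nat.pow_le_pow_right (by omega) (by omega)
      have h2 : 1 ≤ q ^ (j + 1) := Nat.one_le_pow _ _ (by omega)
      rw [hZ₀d]; omega
    zify [show 1 ≤ q ^ (j + 2) by omega, hR1, hZ1, hZ01]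
    refine le_of_mul_le_mul_left ?_ hq1
    rw [← mul_assoc, show ((q : ℤ)) ^ (j + 2) = (q : ℤ) ^ 2 * x by rw [hx]; ring]
    exact a4
  refine no_small D (X := X) (Z₀ := Z₀) (Bd := Bd) hcon hS
    (fun o ho v hv r hr hts => no_big D hR hcon (by rw [hd]; exact hZ) hnum o ho hv hr hts) ?_
    (by rw [hd]; exact h3) ?_ (by rw [hd]; exact hZ) (no_regular_only D (fun h => absurd h (by omega)) ?_)
  · rw [hd]; exact_mod_cast le_of_mul_le_mul_left a1 hq1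
  · have h := point_bound hab hBd
    rw [value_V H D.pair 0, hd] at h
    rw [hd, h, Nat.mul_sub, mul_one]
    omega
  · by_cases hj : 1 ≤ j
    · exact Or.inr (Or.inl (by omega))
    refine Or.inr (Or.inr fun u u' w w' z Pu Pw hu hw huw hz hzQ => ?_)
    by_contra hz0
    obtain ⟨hzp, hzu, hzw⟩ := mem_core.1 hz
    let L : (F × F × F) →ₗ[F] ((Fin (j + 3) ⊕ Fin (j + 3)) ⊕ Fin 2 → F) :=
      LinearMap.coprod (LinearMap.toSpanSingleton F _ u)
        (LinearMap.coprod (LinearMap.toSpanSingleton F _ w) (LinearMap.toSpanSingleton F _ z))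
    have hLv : ∀ t, L t = t.1 • u + (t.2.1 • w + t.2.2 • z) := fun t => rfl
    have hinj : Function.Injective L := by
      refine (injective_iff_map_eq_zero _).2 fun t ht => ?_
      rw [hLv] at ht
      have h1 := congrArg (QuadraticMap.polar ⇑(qfMinus (j + 3) F a b) u') ht
      simp only [QuadraticMap.polar_add_right, QuadraticMap.polar_smul_right, smul_eq_mul, polar_zero_r,
        QuadraticMap.polar_comm _ u' u, Pu.2.2, huw.2, hzu.2, mul_one, mul_zero, add_zero] at h1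
      rw [h1, zero_smul, zero_add] at ht
      have h2 := congrArg (QuadraticMap.polar ⇑(qfMinus (j + 3) F a b) w') ht
      simp only [QuadraticMap.polar_add_right, QuadraticMap.polar_smul_right, smul_eq_mul, polar_zero_r,
        QuadraticMap.polar_comm _ w' w, Pw.2.2, hzw.2, mul_one, mul_zero, add_zero] at h2
      rw [h2, zero_smul, zero_add, smul_eq_zero] at ht
      exact Prod.ext h1 (Prod.ext h2 (ht.resolve_right hz0))
    have h := hR (LinearMap.range L) (by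
      rintro x ⟨t, rfl⟩
      rw [hLv]
      refine ⟨(hu.smul _).add ((hw.smul _).add (hzp.smul _)), ?_⟩
      simp only [quad_add, QuadraticMap.map_smul, Pu.1, Pw.1, hzQ, QuadraticMap.polar_add_right, smul_zero,
        QuadraticMap.polar_smul_left, QuadraticMap.polar_smul_right, huw.1, hzu.1, hzw.1,
        add_zero, zero_add, smul_eq_mul, mul_zero])
    rw [Nat.card_congr (LinearEquiv.ofInjective L hinj).toEquiv.symm, Nat.card_prod, Nat.card_prod,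
      Nat.card_eq_fintype_card (α := F), show j + 2 = 2 by omega] at h
    nlinarith [Nat.mul_le_mul (Nat.mul_le_mul hq hq) (le_refl 1)]

end Cfsg.Agent.Lie.MinIndexOrth.Minus
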