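import Cfsg.Agent.Lib.Lie.MinIndexOrthTight
import Cfsg.Agent.Lib.Classical.OrthModels

/-! The minimal index of a proper subgroup of `PΩ(2m+1,q)`, `m ≥ 3`, `q ≥ 5` odd. -/

set_option autoImplicit false
set_option linter.unusedSectionVars false
set_option quotPrecheck false

namespace Cfsg.Agent.Lie.MinIndexOrth.OddDim

open Cfsg Matrix Module MulAction Cfsg.Agent.Classical Cfsg.Agent.Classical.OrthAut

universe u

variable {F : Type*} [Field F] [Fintype F]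

local notation "q" => Fintype.card F

theorem hyp {m : ℕ} (hm : 3 ≤ m) (h2 : (2 : F) ≠ 0) : Hyp (qfOdd m F) :=
  ⟨nondegenerate_qfOdd m h2, tri_qfOdd hm, by simp; omega⟩

theorem values {m : ℕ} (c : F) : q ^ (2 * m) ≤ Nat.card {v // qfOdd m F v = c} + q ^ m := by
  induction m with
  | zero => simp
  | succ n ih =>
    rw [← zeros_congr (oddStep n) (qfOdd_step n) c, natCard_hypExt_eq]
    have hcard : Nat.card (Unit ⊕ (Fin n ⊕ Fin n) → F) = q ^ (2 * n + 1) := by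
      rw [Nat.card_fun, Nat.card_eq_fintype_card (α := F)]; simp; ring
    rw [hcard]
    have hq : 1 ≤ q := Fintype.card_pos
    have h : ((q ^ (2 * n) : ℕ) : ℤ) ≤ ((Nat.card {v // qfOdd n F v = c} + q ^ n : ℕ) : ℤ) := by
      exact_mod_cast ih
    push_cast at h
    zify [hq]
    have h' := mul_le_mul_of_nonneg_left h (show (0 : ℤ) ≤ q by positivity)
    ring_nf at h' ⊢
    linarith

theorem singular_rank {m : ℕ} (h2 : (2 : F) ≠ 0) (C : Submodule F (Unit ⊕ (Fin m ⊕ Fin m) → F))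
    (hC : ∀ w ∈ C, qfOdd m F w = 0) : finrank F C ≤ m := by
  have hle : C ≤ LinearMap.BilinForm.orthogonal (QuadraticMap.polarBilin (qfOdd m F)) C := by
    intro w hw
    rw [LinearMap.BilinForm.mem_orthogonal_iff]
    intro z hz
    show QuadraticMap.polar ⇑(qfOdd m F) z w = 0
    rw [QuadraticMap.polar, hC _ (C.add_mem hz hw), hC _ hz, hC _ hw]; ring
  have h1 := Submodule.finrank_mono hle
  rw [LinearMap.BilinForm.finrank_orthogonal (nondegenerate_qfOdd m h2)] at h1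
  have := C.finrank_le
  rw [Module.finrank_fintype_fun_eq_card, Fintype.card_sum, Fintype.card_sum, Fintype.card_fin,
    Fintype.card_unit] at h1 this
  omega

/-- The arithmetic of the odd dimensions: `Q = q`, `x = q ^ (m - 3)`. -/
theorem arith {Q x : ℤ} (hQ : 5 ≤ Q) (hx : 1 ≤ x) :
    Q ^ 6 * x ^ 2 - 1 ≤ (Q - 1) * (2 * (Q ^ 5 * x ^ 2)) ∧
    2 * (Q ^ 6 * x ^ 2 - 1) ≤ 2 * ((Q - 1) * (Q ^ 5 * x ^ 2)) + Q * ((Q - 1) * (Q ^ 4 * x ^ 2 - Q ^ 2 * x)) ∧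
    2 * (Q ^ 6 * x ^ 2 - 1) ≤ (Q - 1) * (5 * ((Q - 1) * (Q ^ 4 * x ^ 2 - Q ^ 2 * x))) ∧
    (Q ^ 6 * (Q * x) ^ 2 - 1) * ((Q ^ 2 * (Q * x) - 1) * (Q ^ 2 * (Q * x) - Q)) ≤
      (Q - 1) * (Q ^ 2 * (Q * x) * ((Q ^ 4 * (Q * x) ^ 2 - 1) * (Q * (Q ^ 2 * (Q * x) ^ 2 - 1)))) := by
  obtain ⟨A, hA, rfl⟩ : ∃ A, 0 ≤ A ∧ Q = A + 5 := ⟨Q - 5, by omega, by ring⟩
  obtain ⟨E, hE, rfl⟩ : ∃ E, 0 ≤ E ∧ x = E + 1 := ⟨x - 1, by omega, by ring⟩
  refine ⟨?_, ?_, ?_, ?_⟩ <;> (rw [← sub_nonneg]; ring_nf; positivity)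

theorem arith_nine {Q x : ℤ} (hQ : 9 ≤ Q) (hx : 1 ≤ x) :
    2 * (Q ^ 6 * x ^ 2 - 1) ≤ (Q - 1) * (3 * ((Q - 1) * (Q ^ 4 * x ^ 2 - Q ^ 2 * x))) := by
  obtain ⟨A, hA, rfl⟩ : ∃ A, 0 ≤ A ∧ Q = A + 9 := ⟨Q - 9, by omega, by ring⟩
  obtain ⟨E, hE, rfl⟩ : ∃ E, 0 ≤ E ∧ x = E + 1 := ⟨x - 1, by omega, by ring⟩
  rw [← sub_nonneg]; ring_nf; positivity

/-- The tight numbers of `m = 3`. -/
theorem arith_tight {Q : ℤ} (hQ : 5 ≤ Q) :
    (Q ^ 6 - 1) * Q ^ 2 ≤ (Q - 1) * (2 * (((Q ^ 2 + 1) * (Q + 1)) * ((Q ^ 2 - 1) * (Q ^ 2 - Q)))) ∧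
    (Q + 1) * (Q + 1) < 4 * ((Q ^ 2 + 1) * (Q + 1) * Q ^ 2) ∧
    (Q + 1) + 1 ≤ Q ^ 4 ∧ 2 * (Q + 1) ≤ (Q - 1) * (Q ^ 4 - Q ^ 2) ∧ Q + 1 ≤ Q ^ 5 := by
  obtain ⟨A, hA, rfl⟩ : ∃ A, 0 ≤ A ∧ Q = A + 5 := ⟨Q - 5, by omega, by ring⟩
  refine ⟨?_, ?_, ?_, ?_, ?_⟩
  · rw [← sub_nonneg]; ring_nf; positivity
  · rw [← sub_pos]; ring_nf; positivity
  · rw [← sub_nonneg]; ring_nf; positivity
  · rw [← sub_nonneg]; ring_nf; positivity
  · rw [← sub_nonneg]; ring_nf; positivity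

set_option maxHeartbeats 1000000 in
theorem index_le {m : ℕ} (hm : 3 ≤ m) (h2 : (2 : F) ≠ 0) (hq5 : 5 ≤ q) {Bd : ℕ}
    (hBd : (q - 1) * Bd = q ^ (2 * m) - 1)
    {X : Type u} [MulAction (Omega F ⇑(qfOdd m F)) X] [Fintype X] [Nontrivial X]
    [MulAction.IsPretransitive (Omega F ⇑(qfOdd m F)) X] : Bd ≤ Fintype.card X := by
  classical
  by_contra hcon
  push Not at hcon
  have H := hyp (F := F) hm h2
  obtain ⟨e, f, χ, D⟩ := exists_set2 H
  obtain ⟨j, rfl⟩ : ∃ j, m = j + 3 := ⟨m - 3, by omega⟩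
  have hι : Fintype.card (Unit ⊕ (Fin (j + 3) ⊕ Fin (j + 3))) = 2 * j + 7 := by simp; ring
  have hd : Fintype.card (Unit ⊕ (Fin (j + 3) ⊕ Fin (j + 3))) - 2 = 2 * j + 5 := by omega
  set x : ℤ := (q : ℤ) ^ j with hx
  have hq1n : 1 ≤ q := by omega
  have hx1 : 1 ≤ x := one_le_pow₀ (by omega)
  have hQ : (5 : ℤ) ≤ q := by exact_mod_cast hq5
  have hq1 : 0 < (q : ℤ) - 1 := by omega
  have hpow1 : 1 ≤ q ^ (2 * (j + 3)) := Nat.one_le_pow _ _ (by omega)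
  have hNB : ((q : ℤ) - 1) * Bd = (q : ℤ) ^ 6 * x ^ 2 - 1 := by
    have h : (((q - 1) * Bd : ℕ) : ℤ) = ((q ^ (2 * (j + 3)) - 1 : ℕ) : ℤ) := congrArg Nat.cast hBd
    push_cast [Nat.cast_sub hq1n, Nat.cast_sub hpow1] at h
    rw [hx]
    linear_combination h
  set ZW := wCount (qfOdd (j + 3) F) e f 0
  have hZW : (ZW : ℤ) = (q : ℤ) ^ 4 * x ^ 2 := by
    have h : ((q * ZW + (q - 1) * q ^ (2 * j + 5) : ℕ) : ℤ) = ((q ^ (2 * (j + 3)) : ℕ) : ℤ) := by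
      rw [← zeros_qfOdd (F := F) (j + 3), value_V H D.pair 0, hd]
    push_cast [Nat.cast_sub hq1n] at h
    rw [hx]
    refine mul_left_cancel₀ (show (q : ℤ) ≠ 0 by omega) ?_
    linear_combination h
  set L := q ^ (2 * j + 4) - q ^ (j + 2) with hLd
  have hLle : q ^ (j + 2) ≤ q ^ (2 * j + 4) := Nat.pow_le_pow_right (by omega) (by omega)
  have hL : (L : ℤ) = (q : ℤ) ^ 4 * x ^ 2 - (q : ℤ) ^ 2 * x := by
    rw [hLd, Nat.cast_sub hLle, hx]; push_cast; ring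
  have hWc : ∀ c : F, c ≠ 0 → L ≤ wCount (qfOdd (j + 3) F) e f c := by
    intro c _
    have h : ((q ^ (2 * (j + 3)) : ℕ) : ℤ) ≤
        ((Nat.card {v // qfOdd (j + 3) F v = c} + q ^ (j + 3) : ℕ) : ℤ) := by
      exact_mod_cast values (m := j + 3) c
    rw [value_V H D.pair c, hd] at h
    push_cast [Nat.cast_sub hq1n] at h
    zify
    rw [hL, hx]
    refine le_of_mul_le_mul_left ?_ (show (0 : ℤ) < q by omega)
    ring_nf at h ⊢
    linarith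
  set Z₀ := q ^ (2 * j + 2) with hZ₀d
  have hZ₀ : (Z₀ : ℤ) = (q : ℤ) ^ 2 * x ^ 2 := by rw [hZ₀d, hx]; push_cast; ring
  have hZ : ZW = q * Z₀ + (q - 1) * q ^ (2 * j + 3) := by
    zify [hq1n]
    rw [hZW, hZ₀, hx]; ring
  have hpow5 : ((q ^ (2 * j + 5) : ℕ) : ℤ) = (q : ℤ) ^ 5 * x ^ 2 := by rw [hx]; push_cast; ring
  obtain ⟨a1, a2, a3, -⟩ := arith (Q := (q : ℤ)) hQ hx1
  rw [← hNB, ← hpow5] at a1
  rw [← hNB, ← hpow5, ← hL] at a2
  rw [← hNB, ← hL, show 2 * (((q : ℤ) - 1) * Bd) = ((q : ℤ) - 1) * (2 * Bd) by ring] at a3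
  have hodd : ∀ v, qfOdd (j + 3) F v ≠ 0 →
      ((q : ℤ) - 1) * L ≤ 2 * (cls (qfOdd (j + 3) F) e f v).card := by
    intro v hv
    have := card_cls_odd hv hWc
    zify [hq1n] at this; exact this
  have h3 : ∀ v, Perp (qfOdd (j + 3) F) e f v → qfOdd (j + 3) F v ≠ 0 →
      (q - 1) * Bd ≤ (q - 1) * q ^ (2 * j + 5) + q * (cls (qfOdd (j + 3) F) e f v).card := by
    intro v _ hv
    suffices ((q : ℤ) - 1) * Bd ≤ ((q : ℤ) - 1) * ((q ^ (2 * j + 5) : ℕ) : ℤ) +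
        q * (cls (qfOdd (j + 3) F) e f v).card by
      zify [hq1n]; exact_mod_cast this
    nlinarith [mul_le_mul_of_nonneg_left (hodd v hv) (show (0 : ℤ) ≤ q by omega)]
  have hS : ∀ v, Perp (qfOdd (j + 3) F) e f v → qfOdd (j + 3) F v ≠ 0 → Small X D v := by
    intro v hvp hv
    refine small_of_bounds (Bd := Bd) (L := L) D hvp hv hcon (fun h => absurd h h2)
      (fun _ => ⟨card_cls_odd hv hWc, ⟨?_, Or.inr hq5⟩, fun h9 => ?_⟩)
    · have := le_of_mul_le_mul_left a3 hq1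
      zify [hq1n]; exact this
    · have h := arith_nine (Q := (q : ℤ)) (x := x) (by exact_mod_cast h9) hx1
      rw [← hNB, ← hL, show 2 * (((q : ℤ) - 1) * Bd) = ((q : ℤ) - 1) * (2 * Bd) by ring] at h
      have := le_of_mul_le_mul_left h hq1
      zify [hq1n]; exact this
  have hwit : ∀ C : Submodule F (Unit ⊕ (Fin (j + 3) ⊕ Fin (j + 3)) → F),
      (∀ y ∈ C, qfOdd (j + 3) F y = 0) → finrank F C ≤ j + 3 := fun C hC => singular_rank h2 C hC
  have hZ01 : 1 ≤ Z₀ := Nat.one_le_pow _ _ (by omega)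
  have hZ1 : 1 ≤ ZW := by
    rw [hZ]
    exact (Nat.one_le_iff_ne_zero.2 (Nat.mul_ne_zero (by omega) (by omega))).trans (Nat.le_add_right _ _)
  have hpt : (q - 1) * Bd = Nat.card {v // qfOdd (j + 3) F v = 0} - 1 := by rw [zeros_qfOdd]; exact hBd
  have hbig : NoBig X D := by
    by_cases hj : j = 0
    · subst hj
      have hx0 : x = 1 := by rw [hx, pow_zero]
      obtain ⟨c, hc, hc1⟩ : ∃ c : F, c ≠ 0 ∧ c * c ≠ 1 := by
        obtain ⟨c, hc⟩ : ∃ c, c ∉ ({0, 1, -1} : Finset F) := by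
          by_contra hall
          push Not at hall
          have h := Finset.card_le_card (fun c _ => hall c : (Finset.univ : Finset F) ⊆ {0, 1, -1})
          rw [Finset.card_univ] at h
          have := Finset.card_le_three (a := (0 : F)) (b := 1) (c := -1)
          omega
        simp only [Finset.mem_insert, Finset.mem_singleton, not_or] at hc
        exact ⟨c, hc.1, fun h => (mul_self_eq_one_iff.1 h).elim hc.2.1 hc.2.2⟩
      obtain ⟨t1, t2, t3, t4, t5⟩ := arith_tight (Q := (q : ℤ)) hQ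
      rw [hx0] at hNB hZW hZ₀ hL hpow5
      simp only [one_pow, mul_one] at hNB hZW hZ₀ hL hpow5
      have hR0 : q ≤ q ^ (0 + 2) := Nat.le_self_pow (by omega) _
      have hσ : Bd = (q ^ 2 + 1) * (q + 1) * q ^ (0 + 2) + (q + 1) := by
        zify
        refine mul_left_cancel₀ hq1.ne' ?_
        rw [hNB]; ring
      refine no_big_tight (D := D) (r := 0 + 2) (fun U hU => singular_ext_rank hwit D.pair U hU)
        (Z₀ := Z₀) (N := (q ^ 2 + 1) * (q + 1)) hc hc1 (by omega) hcon hS (by rw [hd]; exact hZ)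
        hpt ?_ ?_ hσ ?_ ?_ ?_ ?_ ?_
      · show (ZW - 1) * (q * (Z₀ - 1)) = _
        zify [show 1 ≤ q ^ (0 + 2) by omega, hR0, hZ1, hZ01]
        rw [hZW, hZ₀]; ring
      · zify [show 1 ≤ q ^ (0 + 2) by omega, hR0]
        refine le_of_mul_le_mul_left ?_ hq1
        rw [← mul_assoc, hNB]
        exact t1
      · zify; exact t2
      · exact le_trans (Nat.le_mul_of_pos_left (q + 1) (by positivity : 0 < q ^ 2 + 1))
          (Nat.le_mul_of_pos_right _ (Nat.pow_pos (by omega)))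
      · rw [hd]
        exact_mod_cast t5
      · intro v hvp hv0
        suffices h : ((q : ℤ) + 1) ≤ ((cls (qfOdd (0 + 3) F) e f v).card : ℤ) by exact_mod_cast h
        by_cases hv : qfOdd (0 + 3) F v = 0
        · have h : (((cls (qfOdd (0 + 3) F) e f v).card + 1 : ℕ) : ℤ) = (ZW : ℤ) :=
            congrArg Nat.cast (card_cls_zero hv)
          push_cast at h
          have h' : ((q : ℤ) + 1) + 1 ≤ (ZW : ℤ) := by rw [hZW]; omega
          exact le_of_add_le_add_right (h'.trans h.ge)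
        have h1 := t4
        rw [← hL] at h1
        linarith [hodd v hv]
      · push_cast
        rw [FiniteField.cast_card_eq_zero F]
        norm_num
    obtain ⟨i, rfl⟩ : ∃ i, j = i + 1 := ⟨j - 1, by omega⟩
    obtain ⟨-, -, -, a4⟩ := arith (Q := (q : ℤ)) (x := (q : ℤ) ^ i) hQ (one_le_pow₀ (by omega))
    rw [show (q : ℤ) * (q : ℤ) ^ i = x by rw [hx]; ring, ← hNB, ← hZW, ← hZ₀] at a4
    have hR1 : q ≤ q ^ (i + 1 + 2) := Nat.le_self_pow (by omega) _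
    have hnum : Bd * ((q ^ (i + 1 + 2) - 1) * (q ^ (i + 1 + 2) - q)) ≤
        q ^ (i + 1 + 2) * ((ZW - 1) * (q * (Z₀ - 1))) := by
      zify [show 1 ≤ q ^ (i + 1 + 2) by omega, hR1, hZ1, hZ01]
      refine le_of_mul_le_mul_left ?_ hq1
      rw [← mul_assoc, show ((q : ℤ)) ^ (i + 1 + 2) = (q : ℤ) ^ 2 * x by rw [hx]; ring]
      exact a4
    exact fun o ho v hv r hr hts => no_big D (fun U hU => singular_ext hwit D.pair U hU) hcon
      (by rw [hd]; exact hZ) hnum o ho hv hr hts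
  refine no_small D (X := X) (Z₀ := Z₀) (Bd := Bd) hcon hS hbig ?_
    (by rw [hd]; exact h3) ?_ (by rw [hd]; exact hZ) (no_regular_only D (fun _ => h2) (Or.inl (by omega)))
  · rw [hd]; exact_mod_cast le_of_mul_le_mul_left a1 hq1
  · rw [hd]
    have h := hpt
    rw [value_V H D.pair 0, hd] at h
    rw [h, Nat.mul_sub, mul_one]
    omega

end Cfsg.Agent.Lie.MinIndexOrth.OddDim
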