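import Cfsg.Agent.Lib.Lie.MinIndexOrthThree
import Cfsg.Agent.Lib.Lie.MinIndexOrthOdd
import Cfsg.Agent.Lib.Lie.MinIndexOrthBinary

/-! The minimal index of a proper subgroup of `PΩ(2m+1,3)`, `m ≥ 3`. -/

set_option autoImplicit false
set_option linter.unusedSectionVars false
set_option quotPrecheck false

namespace Cfsg.Agent.Lie.MinIndexOrth.OddThree

open Cfsg Matrix Module MulAction Cfsg.Agent.Classical Cfsg.Agent.Classical.OrthAut

universe u

variable {F : Type*} [Field F] [Fintype F]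

local notation "q" => Fintype.card F

theorem two_ne (hq : q = 3) : (2 : F) ≠ 0 := by
  haveI : CharP F 3 := charP_of_card_eq_prime hq
  intro h
  have h' := (CharP.cast_eq_zero_iff F 3 2).1 (by exact_mod_cast h)
  omega

/-- The rarer value. -/
theorem minus_values (hq : q = 3) (m : ℕ) :
    Nat.card {v // qfOdd m F v = -1} + q ^ m = q ^ (2 * m) := by
  induction m with
  | zero =>
    haveI : IsEmpty {v // qfOdd 0 F v = -1} := ⟨fun v => by
      have h := v.2
      simp [qfOdd_apply, quadFormOdd] at h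
      by_cases h0 : v.1 (Sum.inl ()) = 0
      · simp [h0] at h
      · have h1 := FiniteField.pow_card_sub_one_eq_one _ h0
        rw [hq, show 3 - 1 = 2 from rfl] at h1
        rw [h1] at h
        exact two_ne hq (by linear_combination h)⟩
    simp
  | succ n ih =>
    rw [← zeros_congr (oddStep n) (qfOdd_step n) (-1), natCard_hypExt_eq]
    have hcard : Nat.card (Unit ⊕ (Fin n ⊕ Fin n) → F) = q ^ (2 * n + 1) := by
      rw [Nat.card_fun, Nat.card_eq_fintype_card (α := F)]; simp; ring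
    rw [hcard]
    have h : ((Nat.card {v // qfOdd n F v = -1} + q ^ n : ℕ) : ℤ) = ((q ^ (2 * n) : ℕ) : ℤ) := congrArg Nat.cast ih
    push_cast at h
    zify [Fintype.card_pos (α := F)]
    linear_combination (q : ℤ) * h

theorem arith {x : ℤ} (hx : 1 ≤ x) :
    (729 * x ^ 2 - 27 * x) * ((9 * x - 1) * (9 * x - 3)) ≤
      2 * (9 * x * ((81 * x ^ 2 - 1) * (3 * (9 * x ^ 2 - 1)))) := by
  obtain ⟨E, hE, rfl⟩ : ∃ E, 0 ≤ E ∧ x = E + 1 := ⟨x - 1, by omega, by ring⟩
  rw [← sub_nonneg]; ring_nf; positivity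

set_option maxHeartbeats 1000000 in
theorem index_le {m : ℕ} (hm : 3 ≤ m) (hq : q = 3) {Bd : ℕ}
    (hBd : 2 * Bd + 3 ^ m = 3 ^ (2 * m))
    {X : Type u} [MulAction (Omega F ⇑(qfOdd m F)) X] [Fintype X] [Nontrivial X]
    [MulAction.IsPretransitive (Omega F ⇑(qfOdd m F)) X] : Bd ≤ Fintype.card X := by
  classical
  by_contra hcon
  push Not at hcon
  have h2 := two_ne hq
  have H := OddDim.hyp (F := F) hm h2
  obtain ⟨e, f, χ, D⟩ := exists_set2 H
  obtain ⟨j, rfl⟩ : ∃ j, m = j + 3 := ⟨m - 3, by omega⟩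
  have hι : Fintype.card (Unit ⊕ (Fin (j + 3) ⊕ Fin (j + 3))) = 2 * j + 7 := by simp; ring
  have hd : Fintype.card (Unit ⊕ (Fin (j + 3) ⊕ Fin (j + 3))) - 2 = 2 * j + 5 := by omega
  obtain ⟨y, hy⟩ : ∃ y, y = 3 ^ j := ⟨_, rfl⟩
  have hy1 : 1 ≤ y := hy ▸ Nat.one_le_pow _ _ (by norm_num)
  have p2 : 3 ^ (j + 2) = 9 * y := by rw [hy]; ring
  have p3 : 3 ^ (j + 3) = 27 * y := by rw [hy]; ring
  have p5 : 3 ^ (2 * j + 5) = 243 * y ^ 2 := by rw [hy]; ring
  have p4 : 3 ^ (2 * j + 3) = 27 * y ^ 2 := by rw [hy]; ring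
  have p6 : 3 ^ (2 * (j + 3)) = 729 * y ^ 2 := by rw [hy]; ring
  have hyy : y ≤ y ^ 2 := Nat.le_self_pow (by norm_num) _
  rw [p3, p6] at hBd
  set ZW := wCount (qfOdd (j + 3) F) e f 0
  have hZW : ZW = 81 * y ^ 2 := by
    have h := zeros_qfOdd (F := F) (j + 3)
    rw [value_V H D.pair 0, hd, hq, p5, p6] at h
    change 3 * ZW + _ = _ at h
    omega
  set L := 81 * y ^ 2 - 9 * y with hLd
  have hWc : ∀ c : F, c ≠ 0 → L ≤ wCount (qfOdd (j + 3) F) e f c := by
    intro c _
    have h := OddDim.values (F := F) (m := j + 3) c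
    rw [value_V H D.pair c, hd, hq, p5, p6, p3] at h
    omega
  set Z₀ := 9 * y ^ 2 with hZ₀d
  have hodd : ∀ v, qfOdd (j + 3) F v ≠ 0 → L ≤ (cls (qfOdd (j + 3) F) e f v).card := by
    intro v hv
    have := card_cls_odd hv hWc
    rw [hq] at this; omega
  have hS : ∀ v, Perp (qfOdd (j + 3) F) e f v → qfOdd (j + 3) F v ≠ 0 → Small X D v := by
    intro v hvp hv
    have hv0 : v ≠ 0 := fun h0 => hv (by rw [h0, QuadraticMap.map_zero])
    have hc := hodd v hv
    haveI : CharP F 3 := charP_of_card_eq_prime hq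
    by_cases hj : 1 ≤ j
    · refine Or.inr (Or.inl ⟨by omega, Or.inr ⟨inferInstance, through_bound (k := 4) D hvp hv0 hcon ?_⟩⟩)
      omega
    have hy0 : y = 1 := by rw [hy, show j = 0 by omega, pow_zero]
    subst hy0
    have hdense := through_dense (X := X) D hvp hv0 (dense_cls_three D hq hv)
    have hk3 : (through X D v).card ≤ 3 := by
      by_contra hk
      have := Nat.mul_le_mul (show 4 ≤ (through X D v).card by omega) hc
      omega
    by_cases hk : (through X D v).card ≤ 2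
    · exact Or.inl ⟨3, Nat.prime_three, inferInstance, by omega⟩
    refine small_three D hq (by omega) hvp hv hk3 ?_
    by_contra hc78
    have := Nat.mul_le_mul (show 3 ≤ (through X D v).card by omega)
      (show 78 ≤ (cls (qfOdd (j + 3) F) e f v).card by omega)
    omega
  have hwit : ∀ C : Submodule F (Unit ⊕ (Fin (j + 3) ⊕ Fin (j + 3)) → F),
      (∀ y ∈ C, qfOdd (j + 3) F y = 0) → finrank F C ≤ j + 3 := fun C hC => OddDim.singular_rank h2 C hC
  have hR : ∀ U : Submodule F (Unit ⊕ (Fin (j + 3) ⊕ Fin (j + 3)) → F),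
      (∀ z ∈ U, Perp (qfOdd (j + 3) F) e f z ∧ qfOdd (j + 3) F z = 0) → Nat.card U ≤ q ^ (j + 2) :=
    fun U hU => singular_ext hwit D.pair U hU
  have hZ : ZW = q * Z₀ + (q - 1) * q ^ (2 * j + 3) := by rw [hZW, hq, p4]; omega
  have hnum : Bd * ((q ^ (j + 2) - 1) * (q ^ (j + 2) - q)) ≤
      q ^ (j + 2) * ((ZW - 1) * (q * (Z₀ - 1))) := by
    have h := arith (x := (y : ℤ)) (by exact_mod_cast hy1)
    have hB : ((2 * Bd + 27 * y : ℕ) : ℤ) = ((729 * y ^ 2 : ℕ) : ℤ) := congrArg Nat.cast hBd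
    push_cast at hB
    rw [hq, p2, hZW, hZ₀d]
    zify [show 1 ≤ 9 * y by omega, show 3 ≤ 9 * y by omega, show 1 ≤ 81 * y ^ 2 by omega,
      show 1 ≤ 9 * y ^ 2 by omega]
    rw [show (729 : ℤ) * y ^ 2 - 27 * y = 2 * Bd by linear_combination -hB, mul_assoc] at h
    exact le_of_mul_le_mul_left h (by norm_num)
  refine no_small D (X := X) (Z₀ := Z₀) (Bd := Bd) hcon hS
    (fun o ho v hv r hr hts => no_big D hR hcon (by rw [hd]; exact hZ) hnum o ho hv hr hts)
    ?_ ?_ ?_ (by rw [hd]; exact hZ) (no_regular_only D (fun _ => h2) ?_)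
  · rw [hd, hq, p5]; omega
  · intro v _ hv
    have := hodd v hv
    rw [hd, hq, p5]; omega
  · show (q - 1) * Bd ≤ (q - 1) * q ^ _ + q * (ZW - 1) + (q - 1)
    rw [hd, hq, p5, hZW]; omega
  · by_cases hj : 1 ≤ j
    · exact Or.inr (Or.inl (by omega))
    refine Or.inr (Or.inr fun u u' w w' z Pu Pw hu hw huw hz hzQ => ?_)
    by_contra hz0
    obtain ⟨hzp, hzu, hzw⟩ := mem_core.1 hz
    let M : (F × F × F) →ₗ[F] (Unit ⊕ (Fin (j + 3) ⊕ Fin (j + 3)) → F) :=
      LinearMap.coprod (LinearMap.toSpanSingleton F _ u)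
        (LinearMap.coprod (LinearMap.toSpanSingleton F _ w) (LinearMap.toSpanSingleton F _ z))
    have hMv : ∀ t, M t = t.1 • u + (t.2.1 • w + t.2.2 • z) := fun t => rfl
    have hinj : Function.Injective M := by
      refine (injective_iff_map_eq_zero _).2 fun t ht => ?_
      rw [hMv] at ht
      have h1 := congrArg (QuadraticMap.polar ⇑(qfOdd (j + 3) F) u') ht
      simp only [QuadraticMap.polar_add_right, QuadraticMap.polar_smul_right, smul_eq_mul, polar_zero_r,
        QuadraticMap.polar_comm _ u' u, Pu.2.2, huw.2, hzu.2, mul_one, mul_zero, add_zero] at h1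
      rw [h1, zero_smul, zero_add] at ht
      have h2 := congrArg (QuadraticMap.polar ⇑(qfOdd (j + 3) F) w') ht
      simp only [QuadraticMap.polar_add_right, QuadraticMap.polar_smul_right, smul_eq_mul, polar_zero_r,
        QuadraticMap.polar_comm _ w' w, Pw.2.2, hzw.2, mul_one, mul_zero, add_zero] at h2
      rw [h2, zero_smul, zero_add, smul_eq_zero] at ht
      exact Prod.ext h1 (Prod.ext h2 (ht.resolve_right hz0))
    have h := hR (LinearMap.range M) (by
      rintro v ⟨t, rfl⟩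
      rw [hMv]
      refine ⟨(hu.smul _).add ((hw.smul _).add (hzp.smul _)), ?_⟩
      simp only [quad_add, QuadraticMap.map_smul, Pu.1, Pw.1, hzQ, QuadraticMap.polar_add_right, smul_zero,
        QuadraticMap.polar_smul_left, QuadraticMap.polar_smul_right, huw.1, hzu.1, hzw.1,
        add_zero, zero_add, smul_eq_mul, mul_zero])
    rw [Nat.card_congr (LinearEquiv.ofInjective M hinj).toEquiv.symm, Nat.card_prod, Nat.card_prod,
      Nat.card_eq_fintype_card (α := F), show j + 2 = 2 by omega, hq] at h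
    omega

end Cfsg.Agent.Lie.MinIndexOrth.OddThree
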