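import Cfsg.Agent.Lib.Lie.MinIndexOrthBase

/-! Orbits of the radical of a singular point: to each orbit belongs a subgroup of `W` with as many elements
as the orbit. -/

set_option autoImplicit false
set_option linter.unusedSectionVars false
set_option quotPrecheck false

namespace Cfsg.Agent.Lie.MinIndexOrth

open Cfsg Matrix Module MulAction Cfsg.Agent.Classical Cfsg.Agent.Classical.OrthAut

universe u

variable {F : Type*} [Field F] [Fintype F] {ι : Type} [Fintype ι] [DecidableEq ι]
  {Q : QuadraticForm F (ι → F)}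

local notation "V" => (ι → F)
local notation "B" => QuadraticMap.polar ⇑Q
local notation "GG" => (↥(Omega F ⇑Q))
local notation "q" => Fintype.card F
local notation "d" => Fintype.card ι - 2

variable {X : Type u} [MulAction (Omega F ⇑Q) X] [Fintype X]

variable (Q) in
/-- The coordinates of the radical. -/
def perpG (e f : ι → F) : AddSubgroup (ι → F) where
  carrier := {w | Perp Q e f w}
  add_mem' := fun {a b} ha hb => ⟨by rw [QuadraticMap.polar_add_right, ha.1, hb.1, add_zero],
    by rw [QuadraticMap.polar_add_right, ha.2, hb.2, add_zero]⟩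
  zero_mem' := ⟨polar_zero_r e, polar_zero_r f⟩
  neg_mem' := fun {a} ha => ⟨by rw [QuadraticMap.polar_neg_right, ha.1, neg_zero],
    by rw [QuadraticMap.polar_neg_right, ha.2, neg_zero]⟩

theorem mem_perpG {e f w : V} : w ∈ perpG Q e f ↔ Perp Q e f w := Iff.rfl

theorem perp_zero (e f : V) : Perp Q e f 0 := (perpG Q e f).zero_mem

theorem _root_.Cfsg.Agent.Classical.OrthAut.Perp.neg {e f w : V} (h : Perp Q e f w) : Perp Q e f (-w) :=
  (perpG Q e f).neg_mem h

/-- The setting: a hyperbolic pair and a non-trivial character. -/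
structure Set2 (Q : QuadraticForm F (ι → F)) (e f : ι → F) (χ : AddChar F ℂ) : Prop where
  hyp : Hyp Q
  pair : Pair Q e f
  ne_one : χ ≠ 1

theorem card_perpG {e f : V} (H : Hyp Q) (P : Pair Q e f) : Nat.card (perpG Q e f) = q ^ d := by
  have h := (zeros_split Q P.1 P.2.1 P.2.2).2
  have h7 := H.seven
  have e1 : Nat.card (perpG Q e f) = Nat.card {v : V // B e v = 0 ∧ B f v = 0} := rfl
  rw [e1]
  rw [natCard_fun_field, show Fintype.card ι = 2 + d by omega, pow_add] at h
  exact Nat.eq_of_mul_eq_mul_left (by positivity) h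

/-- The coordinates of the stabiliser of a point. -/
noncomputable def S {e f : ι → F} {χ : AddChar F ℂ} (D : Set2 Q e f χ) (x : X) : AddSubgroup (ι → F) where
  carrier := {w | Perp Q e f w ∧ elt (Q := Q) e w • x = x}
  add_mem' := fun {a b} ha hb => ⟨ha.1.add hb.1, by
    rw [elt_add D.hyp ⟨D.pair.1, ha.1.1⟩ ⟨D.pair.1, hb.1.1⟩, mul_smul, hb.2, ha.2]⟩
  zero_mem' := ⟨perp_zero e f, by rw [elt_zero D.hyp D.pair.1, one_smul]⟩
  neg_mem' := fun {a} ha => ⟨ha.1.neg, by
    rw [elt_neg D.hyp ⟨D.pair.1, ha.1.1⟩, inv_smul_eq_iff, ha.2]⟩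

variable (Q) in
/-- The annihilator in `W`. -/
noncomputable def ann (e f : ι → F) (χ : AddChar F ℂ) (T : AddSubgroup (ι → F)) : AddSubgroup (ι → F) where
  carrier := {v | Perp Q e f v ∧ ∀ s ∈ T, χ (B v s) = 1}
  add_mem' := fun {a b} ha hb => ⟨ha.1.add hb.1, fun s hs => by
    rw [polar_add_l, AddChar.map_add_eq_mul, ha.2 s hs, hb.2 s hs, one_mul]⟩
  zero_mem' := ⟨perp_zero e f, fun s _ => by rw [QuadraticMap.polar_comm, polar_zero_r, AddChar.map_zero_eq_one]⟩
  neg_mem' := fun {a} ha => ⟨ha.1.neg, fun s hs => by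
    have h := ha.2 (-s) (T.neg_mem hs)
    rwa [QuadraticMap.polar_neg_right, ← QuadraticMap.polar_neg_left] at h⟩

variable {e f : ι → F} {χ : AddChar F ℂ} (D : Set2 Q e f χ)
include D

theorem tau_ok {w : V} (hw : Perp Q e f w) : OK Q e w := ⟨D.pair.1, hw.1⟩

theorem mem_S {x : X} {w : V} : w ∈ S D x ↔ Perp Q e f w ∧ elt (Q := Q) e w • x = x := Iff.rfl

theorem perp_nondeg {w : V} (hw : Perp Q e f w) (hw0 : w ≠ 0) : ∃ y, Perp Q e f y ∧ B w y = 1 := by
  obtain ⟨z, hz⟩ := exists_polar1 D.hyp.nd hw0 1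
  exact ⟨_, perp_proj D.pair z, by rw [polar_proj hw, hz]⟩

theorem card_ann {T : AddSubgroup V} (hT : T ≤ perpG Q e f) :
    Nat.card (ann Q e f χ T) * Nat.card T = q ^ d := by
  classical
  rw [← card_perpG D.hyp D.pair]
  set W := perpG Q e f
  haveI : Fintype W := Fintype.ofFinite _
  haveI : Fintype T := Fintype.ofFinite _
  let αv : W → AddChar T ℂ := fun v =>
    { toFun := fun s => χ (B (v : V) (s : V))
      map_zero_eq_one' := by rw [ZeroMemClass.coe_zero, polar_zero_r, AddChar.map_zero_eq_one]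
      map_add_eq_mul' := fun a c => by
        rw [AddMemClass.coe_add, QuadraticMap.polar_add_right, AddChar.map_add_eq_mul] }
  let βs : T → AddChar W ℂ := fun s =>
    { toFun := fun v => χ (B (v : V) (s : V))
      map_zero_eq_one' := by
        rw [ZeroMemClass.coe_zero, QuadraticMap.polar_comm, polar_zero_r, AddChar.map_zero_eq_one]
      map_add_eq_mul' := fun a c => by rw [AddMemClass.coe_add, polar_add_l, AddChar.map_add_eq_mul] }
  have e1 : ∀ v : W, ∑ s : T, χ (B (v : V) (s : V)) =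
      if (v : V) ∈ ann Q e f χ T then (Nat.card T : ℂ) else 0 := by
    intro v
    split_ifs with hv
    · rw [Finset.sum_congr rfl (fun s _ => hv.2 s.1 s.2), Finset.sum_const, Finset.card_univ, nsmul_one,
        Nat.card_eq_fintype_card]
    · exact AddChar.sum_eq_zero_of_ne_one (ψ := αv v) fun h1 => hv ⟨v.2, fun s hs => DFunLike.congr_fun h1 ⟨s, hs⟩⟩
  have e2 : ∀ s : T, ∑ v : W, χ (B (v : V) (s : V)) = if s = 0 then (Nat.card W : ℂ) else 0 := by
    intro s
    split_ifs with hs
    · subst hs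
      simp [Nat.card_eq_fintype_card]
    · refine AddChar.sum_eq_zero_of_ne_one (ψ := βs s) fun h1 => D.ne_one ?_
      obtain ⟨y, hy, e3⟩ := perp_nondeg D (hT s.2) fun e0 => hs (Subtype.ext e0)
      ext c
      have h2 := DFunLike.congr_fun h1 ⟨c • y, hy.smul c⟩
      change χ (B (c • y) (s : V)) = _ at h2
      rwa [polar_smul_l, QuadraticMap.polar_comm _ y, e3, mul_one] at h2
  have h1 := Finset.sum_comm (s := (Finset.univ : Finset W)) (t := (Finset.univ : Finset T))
    (f := fun v s => χ (B (v : V) (s : V)))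
  rw [Finset.sum_congr rfl (fun v _ => e1 v), Finset.sum_congr rfl (fun s _ => e2 s), Finset.sum_ite_eq',
    if_pos (Finset.mem_univ _), ← Finset.sum_filter, Finset.sum_const, nsmul_eq_mul] at h1
  have hc : (Finset.univ.filter fun v : W => (v : V) ∈ ann Q e f χ T).card = Nat.card (ann Q e f χ T) := by
    rw [← Fintype.card_subtype, ← Nat.card_eq_fintype_card]
    exact Nat.card_congr
      { toFun := fun v => ⟨v.1.1, v.2⟩
        invFun := fun v => ⟨⟨v.1, v.2.1⟩, v.2⟩
        left_inv := fun _ => rfl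
        right_inv := fun _ => rfl }
  rw [hc] at h1
  exact_mod_cast h1

omit D in
theorem ann_le (T : AddSubgroup V) : ann Q e f χ T ≤ perpG Q e f := fun _ h => h.1

omit D in
theorem mem_ann {T : AddSubgroup V} {v : V} :
    v ∈ ann Q e f χ T ↔ Perp Q e f v ∧ ∀ s ∈ T, χ (B v s) = 1 := Iff.rfl

theorem ann_ann {T : AddSubgroup V} (hT : T ≤ perpG Q e f) : ann Q e f χ (ann Q e f χ T) = T := by
  have h1 := card_ann D hT
  have h2 := card_ann D (ann_le (Q := Q) (e := e) (f := f) (χ := χ) T)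
  have hle : T ≤ ann Q e f χ (ann Q e f χ T) := fun s hs => ⟨hT hs, fun v hv => by
    rw [QuadraticMap.polar_comm]; exact hv.2 s hs⟩
  refine (AddSubgroup.eq_of_le_of_card_ge hle (le_of_eq ?_)).symm
  refine Nat.eq_of_mul_eq_mul_left (show 0 < Nat.card (ann Q e f χ T) from Nat.card_pos) ?_
  rw [h1, ← h2, mul_comm]

theorem S_le (x : X) : S D x ≤ perpG Q e f := fun _ h => h.1

/-- The orbits of the radical. -/
def oSetoid (D : Set2 Q e f χ) : Setoid X where
  r x y := ∃ w, Perp Q e f w ∧ elt (Q := Q) e w • x = y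
  iseqv :=
    { refl := fun x => ⟨0, perp_zero e f, by rw [elt_zero D.hyp D.pair.1, one_smul]⟩
      symm := fun {x y} ⟨w, hw, h⟩ => ⟨-w, hw.neg, by
        rw [elt_neg D.hyp (tau_ok D hw), inv_smul_eq_iff, h]⟩
      trans := fun {x y z} ⟨w, hw, h⟩ ⟨w', hw', h'⟩ => ⟨w' + w, hw'.add hw, by
        rw [elt_add D.hyp (tau_ok D hw') (tau_ok D hw), mul_smul, h, h']⟩ }

/-- The set of orbits. -/
def Orb (X : Type u) [MulAction (Omega F ⇑Q) X] (D : Set2 Q e f χ) : Type u := Quotient (oSetoid (X := X) D)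

/-- The orbit of a point. -/
def orbOf (x : X) : Orb X D := Quotient.mk _ x

theorem orbOf_eq {x y : X} : orbOf D x = orbOf D y ↔ ∃ w, Perp Q e f w ∧ elt (Q := Q) e w • x = y :=
  ⟨fun h => Quotient.exact h, fun h => Quotient.sound (s := oSetoid D) h⟩

theorem orbOf_surj (o : Orb X D) : ∃ x, orbOf D x = o := Quotient.exists_rep o

noncomputable instance : Fintype (Orb X D) := @Quotient.fintype X _ (oSetoid D) (_root_.Classical.decRel _)

theorem elt_comm_smul {v w : V} (hv : Perp Q e f v) (hw : Perp Q e f w) (x : X) :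
    elt (Q := Q) e v • elt (Q := Q) e w • x = elt (Q := Q) e w • elt (Q := Q) e v • x := by
  rw [← mul_smul, ← mul_smul, ← elt_add D.hyp (tau_ok D hv) (tau_ok D hw),
    ← elt_add D.hyp (tau_ok D hw) (tau_ok D hv), add_comm]

theorem S_orb {x y : X} (h : orbOf D x = orbOf D y) : S D x = S D y := by
  obtain ⟨w, hw, rfl⟩ := (orbOf_eq D).1 h
  ext s
  rw [mem_S, mem_S]
  exact and_congr_right fun hs => by rw [elt_comm_smul D hs hw, smul_left_cancel_iff]

/-- The coordinates of the stabiliser of an orbit. -/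
noncomputable def oS (o : Orb X D) : AddSubgroup (ι → F) :=
  Quotient.liftOn o (fun x => S D x) fun _ _ h => S_orb D (Quotient.sound (s := oSetoid D) h)

/-- The characters of an orbit. -/
noncomputable def oA (o : Orb X D) : AddSubgroup (ι → F) := ann Q e f χ (oS D o)

theorem oS_orbOf (x : X) : oS D (orbOf D x) = S D x := rfl

theorem oS_le (o : Orb X D) : oS D o ≤ perpG Q e f := by
  obtain ⟨x, rfl⟩ := orbOf_surj D o
  exact S_le D x

theorem oA_perp {o : Orb X D} {v : V} (h : v ∈ oA D o) : Perp Q e f v := h.1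

theorem mem_oS {o : Orb X D} {s : V} : s ∈ oS D o ↔ Perp Q e f s ∧ ∀ v ∈ oA D o, χ (B v s) = 1 := by
  conv_lhs => rw [← ann_ann D (oS_le D o)]
  show _ ∧ _ ↔ _
  exact and_congr_right fun _ => forall₂_congr fun v _ => by rw [QuadraticMap.polar_comm]

/-- A vector orthogonal to the characters of an orbit fixes it. -/
theorem mem_oS_of_orth {o : Orb X D} {s : V} (hs : Perp Q e f s) (h : ∀ v ∈ oA D o, B v s = 0) :
    s ∈ oS D o := (mem_oS D).2 ⟨hs, fun v hv => by rw [h v hv, AddChar.map_zero_eq_one]⟩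

theorem card_fibre (o : Orb X D) : Nat.card {x : X // orbOf D x = o} = Nat.card (oA D o) := by
  classical
  obtain ⟨x, rfl⟩ := orbOf_surj D o
  have h1 := card_ann D (oS_le D (orbOf D x))
  refine Nat.eq_of_mul_eq_mul_right (show 0 < Nat.card (S D x) from Nat.card_pos) ?_
  rw [show Nat.card (oA D (orbOf D x)) * Nat.card (S D x) = q ^ d from h1, ← card_perpG D.hyp D.pair,
    ← Nat.card_prod]
  have hl : ∀ y : {y : X // orbOf D y = orbOf D x}, ∃ w, Perp Q e f w ∧ elt (Q := Q) e w • x = y.1 :=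
    fun y => (orbOf_eq D).1 y.2.symm
  choose φ hφ hφx using hl
  refine Nat.card_eq_of_bijective (fun p : {y : X // orbOf D y = orbOf D x} × S D x =>
    (⟨φ p.1 + (p.2 : V), (hφ p.1).add p.2.2.1⟩ : perpG Q e f)) ⟨?_, ?_⟩
  · rintro ⟨y, s⟩ ⟨y', s'⟩ h
    have h2 : φ y + (s : V) = φ y' + (s' : V) := congrArg Subtype.val h
    have h3 := congrArg (fun w => elt (Q := Q) e w • x) h2
    simp only [elt_add D.hyp (tau_ok D (hφ y)) (tau_ok D s.2.1),
      elt_add D.hyp (tau_ok D (hφ y')) (tau_ok D s'.2.1), mul_smul, s.2.2, s'.2.2, hφx] at h3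
    obtain rfl : y = y' := Subtype.ext h3
    exact Prod.ext rfl (Subtype.ext (add_left_cancel h2))
  · rintro ⟨w, hw⟩
    set y : {y : X // orbOf D y = orbOf D x} :=
      ⟨elt (Q := Q) e w • x, ((orbOf_eq D).2 ⟨w, hw, rfl⟩).symm⟩
    have hs : w - φ y ∈ S D x := ⟨(perpG Q e f).sub_mem hw (hφ y), by
      rw [sub_eq_add_neg, elt_add D.hyp (tau_ok D hw) (tau_ok D (hφ y).neg), mul_smul,
        elt_comm_smul D hw (hφ y).neg, elt_neg D.hyp (tau_ok D (hφ y)), inv_smul_eq_iff, hφx]⟩
    exact ⟨(y, ⟨_, hs⟩), Subtype.ext (by simp)⟩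

/-- The points, orbit by orbit. -/
theorem card_points : Fintype.card X = ∑ o : Orb X D, Nat.card (oA D o) := by
  classical
  rw [← Finset.sum_congr rfl (fun o _ => card_fibre D o), ← Nat.card_eq_fintype_card, ← Nat.card_sigma]
  exact Nat.card_congr (Equiv.sigmaFiberEquiv (orbOf D)).symm

theorem sum_le_points (s : Finset (Orb X D)) : ∑ o ∈ s, Nat.card (oA D o) ≤ Fintype.card X := by
  classical
  rw [card_points D]
  exact Finset.sum_le_sum_of_subset (Finset.subset_univ _)

/-! ### The Levi action -/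

theorem Lev.S_map {a : F} {g : GG} (L : Lev e f a g) {x : X} {s : V} (hs : s ∈ S D x) :
    a • (gV g *ᵥ s) ∈ S D (g • x) := by
  refine ⟨(L.perp hs.1).smul a, ?_⟩
  rw [← L.conj D.hyp D.pair.1 hs.1, mul_smul, mul_smul, inv_smul_smul, hs.2]

/-- The image of an orbit. -/
noncomputable def oMove {a : F} {g : Omega F ⇑Q} (L : Lev e f a g) (o : Orb X D) : Orb X D :=
  Quotient.liftOn o (fun x => orbOf D (g • x)) fun x y h => by
    obtain ⟨w, hw, rfl⟩ := h
    refine (orbOf_eq D).2 ⟨a • (gV g *ᵥ w), (L.perp hw).smul a, ?_⟩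
    rw [← L.conj D.hyp D.pair.1 hw, mul_smul, mul_smul, inv_smul_smul]

theorem oMove_orbOf {a : F} {g : GG} (L : Lev e f a g) (x : X) :
    oMove D L (orbOf D x) = orbOf D (g • x) := rfl

theorem oMove_injective {a : F} {g : GG} (L : Lev e f a g) :
    Function.Injective (oMove (X := X) D L) := by
  refine Function.LeftInverse.injective (g := oMove D L.inv) fun o => ?_
  obtain ⟨x, rfl⟩ := orbOf_surj D o
  rw [oMove_orbOf, oMove_orbOf, inv_smul_smul]

theorem Lev.mem_oA {a : F} {g : GG} (L : Lev e f a g) {o : Orb X D} {v : V} (hv : v ∈ oA D o) :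
    a⁻¹ • (gV g *ᵥ v) ∈ oA D (oMove D L o) := by
  obtain ⟨x, rfl⟩ := orbOf_surj D o
  refine ⟨(L.perp hv.1).smul _, fun s hs => ?_⟩
  have h1 := L.inv.S_map D (x := g • x) (s := s) hs
  rw [inv_smul_smul] at h1
  have h2 := hv.2 _ h1
  rwa [polar_smul_r, ← gV_polar g, gV_cancel_inv, ← polar_smul_l] at h2

theorem Lev.oA_mem_iff {a : F} {g : GG} (L : Lev e f a g) {o : Orb X D} {v : V} :
    a⁻¹ • (gV g *ᵥ v) ∈ oA D (oMove D L o) ↔ v ∈ oA D o := by
  refine ⟨fun h => ?_, L.mem_oA D⟩
  have h1 := L.inv.mem_oA D h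
  obtain ⟨x, rfl⟩ := orbOf_surj D o
  rw [oMove_orbOf, oMove_orbOf, inv_smul_smul, inv_inv, Matrix.mulVec_smul, smul_smul, mul_inv_cancel₀ L.1,
    one_smul, gV_inv_cancel] at h1
  exact h1

/-- The orbits whose characters contain a vector. -/
noncomputable def through (X : Type u) [MulAction (Omega F ⇑Q) X] [Fintype X] (D : Set2 Q e f χ) (v : ι → F) :
    Finset (Orb X D) := @Finset.filter _ (fun o => v ∈ oA D o) (_root_.Classical.decPred _) Finset.univ

theorem mem_through {o : Orb X D} {v : V} : o ∈ through X D v ↔ v ∈ oA D o := by simp [through]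

theorem through_mono {a : F} {g : GG} (L : Lev e f a g) (v : V) :
    (through X D v).card ≤ (through X D (a⁻¹ • (gV g *ᵥ v))).card :=
  Finset.card_le_card_of_injOn (oMove D L)
    (fun o ho => by
      rw [Finset.mem_coe, mem_through] at ho ⊢
      exact L.mem_oA D ho)
    (oMove_injective D L).injOn

/-- The vectors of `W` with the values of the class of `v`. -/
noncomputable def cls (Q : QuadraticForm F (ι → F)) (e f v : ι → F) : Finset (ι → F) :=
  @Finset.filter _ (fun w => w ≠ 0 ∧ Perp Q e f w ∧ ∃ c : F, c ≠ 0 ∧ Q w = c ^ 2 * Q v)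
    (_root_.Classical.decPred _) Finset.univ

omit D in
theorem mem_cls {v w : V} :
    w ∈ cls Q e f v ↔ w ≠ 0 ∧ Perp Q e f w ∧ ∃ c : F, c ≠ 0 ∧ Q w = c ^ 2 * Q v := by simp [cls]

omit D in
theorem mem_cls_self {v : V} (hv : Perp Q e f v) (hv0 : v ≠ 0) : v ∈ cls Q e f v :=
  mem_cls.2 ⟨hv0, hv, 1, one_ne_zero, by ring⟩

/-- Vectors of one class lie in equally many. -/
theorem through_le {v w : V} (hv : Perp Q e f v) (hv0 : v ≠ 0) (hw : w ∈ cls Q e f v) :
    (through X D v).card ≤ (through X D w).card := by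
  obtain ⟨hw0, hw, c, hc, hcv⟩ := mem_cls.1 hw
  obtain ⟨a, g, L, hg⟩ := exists_scale D.hyp D.pair hc
  set v' := a⁻¹ • (gV g *ᵥ v)
  have hv'0 : v' ≠ 0 := smul_ne_zero (inv_ne_zero L.1) fun h0 => hv0 (gV_injective g (by
    show gV g *ᵥ v = gV g *ᵥ 0
    rw [h0, Matrix.mulVec_zero]))
  obtain ⟨k, M, hk⟩ := exists_move_one D.hyp D.pair ((L.perp hv).smul _) hv'0 hw hw0 (by rw [hg v hv, hcv])
  refine (through_mono D L v).trans ((through_mono D M v').trans (le_of_eq ?_))
  rw [inv_one, one_smul, hk]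

/-- The incidences of a class. -/
theorem class_weight {v : V} (hv : Perp Q e f v) (hv0 : v ≠ 0) :
    (through X D v).card * (cls Q e f v).card ≤
      ∑ o : Orb X D, (@Finset.filter _ (fun w => w ∈ oA D o) (_root_.Classical.decPred _) (cls Q e f v)).card := by
  classical
  calc (through X D v).card * (cls Q e f v).card
      = ∑ _w ∈ cls Q e f v, (through X D v).card := by rw [Finset.sum_const, smul_eq_mul, mul_comm]
    _ ≤ ∑ w ∈ cls Q e f v, (through X D w).card := Finset.sum_le_sum fun w hw => through_le D hv hv0 hw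
    _ = _ := by
      simp only [Finset.card_eq_sum_ones, through, Finset.sum_filter]
      rw [Finset.sum_comm]

/-- Few orbits through a vector. -/
theorem through_small {v : V} (hv : Perp Q e f v) (hv0 : v ≠ 0) :
    (through X D v).card * (cls Q e f v).card ≤ Fintype.card X := by
  classical
  refine (class_weight D hv hv0).trans ((Finset.sum_le_sum fun o _ => ?_).trans (le_of_eq (card_points D).symm))
  haveI : Fintype (oA D o) := Fintype.ofFinite _
  rw [Nat.card_eq_fintype_card, Fintype.card_subtype]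
  exact Finset.card_le_card fun w hw => Finset.mem_filter.2 ⟨Finset.mem_univ _, (Finset.mem_filter.1 hw).2⟩

end Cfsg.Agent.Lie.MinIndexOrth
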