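import Cfsg.Agent.Lib.Lie.MinIndexOrthTight
import Cfsg.Agent.Lib.Classical.OrthModels

/-! The minimal index of a proper subgroup of `PΩ⁺(2m,q)`, `m ≥ 4`, `q ≥ 4`. -/

set_option autoImplicit false
set_option linter.unusedSectionVars false
set_option quotPrecheck false

namespace Cfsg.Agent.Lie.MinIndexOrth.Plus

open Cfsg Matrix Module MulAction Cfsg.Agent.Classical Cfsg.Agent.Classical.OrthAut

universe u

variable {F : Type*} [Field F] [Fintype F]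

local notation "q" => Fintype.card F

theorem hyp {m : ℕ} (hm : 4 ≤ m) : Hyp (qfPlus m F) :=
  ⟨nondegenerate_qfPlus m, tri_qfPlus (by omega), by simp; omega⟩

theorem zeros {m : ℕ} (hm : 1 ≤ m) :
    Nat.card {v // qfPlus m F v = 0} + q ^ (m - 1) = q ^ (2 * m - 1) + q ^ m := by
  have h := zeros_qfPlus (F := F) m
  obtain ⟨n, rfl⟩ : ∃ n, m = n + 1 := ⟨m - 1, by omega⟩
  rw [Nat.add_sub_cancel, show 2 * (n + 1) - 1 = 2 * n + 1 by omega]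
  have hq0 : (q : ℤ) ≠ 0 := by exact_mod_cast Fintype.card_ne_zero
  zify
  refine mul_left_cancel₀ hq0 ?_
  linear_combination h

theorem values {m : ℕ} {c : F} (hc : c ≠ 0) :
    Nat.card {v // qfPlus m F v = c} * q + q ^ m = q ^ (2 * m) := by
  induction m with
  | zero =>
    haveI : IsEmpty {v // qfPlus 0 F v = c} := ⟨fun v => hc (by
      rw [← v.2, qfPlus_apply]; simp [quadFormPlus])⟩
    simp
  | succ n ih =>
    rw [← zeros_congr (plusStep n) (qfPlus_step n) c, natCard_hypExt_eq]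
    have hcard : Nat.card (Fin n ⊕ Fin n → F) = q ^ (2 * n) := by
      rw [Nat.card_fun, Nat.card_eq_fintype_card (α := F)]; simp; ring
    rw [hcard]
    have hq : 1 ≤ q := Fintype.card_pos
    have h : ((Nat.card {v // qfPlus n F v = c} * q + q ^ n : ℕ) : ℤ) = ((q ^ (2 * n) : ℕ) : ℤ) :=
      congrArg Nat.cast ih
    push_cast at h
    zify [hq]
    linear_combination (q : ℤ) * h

/-- The arithmetic of the plus type: `Q = q`, `x = q ^ (m - 4)`. -/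
theorem arith {Q x : ℤ} (hQ : 4 ≤ Q) (hx : 1 ≤ x) :
    Q ^ 7 * x ^ 2 + Q ^ 4 * x - Q ^ 3 * x - 1 ≤ (Q - 1) * (2 * (Q ^ 6 * x ^ 2)) ∧
    Q ^ 7 * x ^ 2 + Q ^ 4 * x - Q ^ 3 * x - 1 ≤
      (Q - 1) * (Q ^ 6 * x ^ 2) + Q * ((Q - 1) * (Q ^ 5 * x ^ 2 - Q ^ 2 * x)) ∧
    Q ^ 7 * x ^ 2 + Q ^ 4 * x - Q ^ 3 * x - 1 ≤ (Q - 1) * (2 * ((Q - 1) * (Q ^ 5 * x ^ 2 - Q ^ 2 * x))) ∧
    (Q ^ 7 * (Q * x) ^ 2 + Q ^ 4 * (Q * x) - Q ^ 3 * (Q * x) - 1) *
        ((Q ^ 3 * (Q * x) - 1) * (Q ^ 3 * (Q * x) - Q)) ≤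
      (Q - 1) * (Q ^ 3 * (Q * x) * ((Q ^ 5 * (Q * x) ^ 2 + Q ^ 3 * (Q * x) - Q ^ 2 * (Q * x) - 1) *
        (Q * (Q ^ 3 * (Q * x) ^ 2 + Q ^ 2 * (Q * x) - Q * (Q * x) - 1)))) := by
  obtain ⟨A, hA, rfl⟩ : ∃ A, 0 ≤ A ∧ Q = A + 4 := ⟨Q - 4, by omega, by ring⟩
  obtain ⟨E, hE, rfl⟩ : ∃ E, 0 ≤ E ∧ x = E + 1 := ⟨x - 1, by omega, by ring⟩
  refine ⟨?_, ?_, ?_, ?_⟩ <;> (rw [← sub_nonneg]; ring_nf; positivity)

theorem arith_odd {Q x : ℤ} (hQ : 5 ≤ Q) (hx : 1 ≤ x) :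
    2 * (Q ^ 7 * x ^ 2 + Q ^ 4 * x - Q ^ 3 * x - 1) ≤
      (Q - 1) * (5 * ((Q - 1) * (Q ^ 5 * x ^ 2 - Q ^ 2 * x))) ∧
    2 * (Q ^ 7 * x ^ 2 + Q ^ 4 * x - Q ^ 3 * x - 1) ≤
      2 * ((Q - 1) * (Q ^ 6 * x ^ 2)) + Q * ((Q - 1) * (Q ^ 5 * x ^ 2 - Q ^ 2 * x)) := by
  obtain ⟨A, hA, rfl⟩ : ∃ A, 0 ≤ A ∧ Q = A + 5 := ⟨Q - 5, by omega, by ring⟩
  obtain ⟨E, hE, rfl⟩ : ∃ E, 0 ≤ E ∧ x = E + 1 := ⟨x - 1, by omega, by ring⟩
  refine ⟨?_, ?_⟩ <;> (rw [← sub_nonneg]; ring_nf; positivity)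

theorem arith_nine {Q x : ℤ} (hQ : 9 ≤ Q) (hx : 1 ≤ x) :
    2 * (Q ^ 7 * x ^ 2 + Q ^ 4 * x - Q ^ 3 * x - 1) ≤
      (Q - 1) * (3 * ((Q - 1) * (Q ^ 5 * x ^ 2 - Q ^ 2 * x))) := by
  obtain ⟨A, hA, rfl⟩ : ∃ A, 0 ≤ A ∧ Q = A + 9 := ⟨Q - 9, by omega, by ring⟩
  obtain ⟨E, hE, rfl⟩ : ∃ E, 0 ≤ E ∧ x = E + 1 := ⟨x - 1, by omega, by ring⟩
  rw [← sub_nonneg]; ring_nf; positivity

/-- The tight numbers of `m = 4`. -/
theorem arith_tight {Q : ℤ} (hQ : 4 ≤ Q) :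
    (Q ^ 7 + Q ^ 4 - Q ^ 3 - 1) * Q ^ 3 ≤
      (Q - 1) * (2 * (((Q ^ 2 + 1) * (Q + 1)) * ((Q ^ 3 - 1) * (Q ^ 3 - Q)))) ∧
    (Q ^ 3 + Q ^ 2 + Q + 1) * (Q ^ 3 + Q ^ 2 + Q + 1) < 4 * ((Q ^ 2 + 1) * (Q + 1) * Q ^ 3) ∧
    Q ^ 3 + Q ^ 2 + Q + 1 ≤ Q ^ 5 + Q ^ 3 - Q ^ 2 - 1 ∧
    2 * (Q ^ 3 + Q ^ 2 + Q + 1) ≤ (Q - 1) * (Q ^ 5 - Q ^ 2) := by
  obtain ⟨A, hA, rfl⟩ : ∃ A, 0 ≤ A ∧ Q = A + 4 := ⟨Q - 4, by omega, by ring⟩
  refine ⟨?_, ?_, ?_, ?_⟩
  · rw [← sub_nonneg]; ring_nf; positivity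
  · rw [← sub_pos]; ring_nf; positivity
  · rw [← sub_nonneg]; ring_nf; positivity
  · rw [← sub_nonneg]; ring_nf; positivity

theorem point_bound {m Bd : ℕ} (hm : 1 ≤ m)
    (hBd : (q - 1) * Bd + q ^ (m - 1) + 1 = q ^ (2 * m - 1) + q ^ m) :
    (q - 1) * Bd = Nat.card {v // qfPlus m F v = 0} - 1 := by
  have h := zeros (F := F) hm
  omega

set_option maxHeartbeats 1000000 in
theorem index_le {m : ℕ} (hm : 4 ≤ m) (hq4 : 4 ≤ q) {Bd : ℕ}
    (hBd : (q - 1) * Bd + q ^ (m - 1) + 1 = q ^ (2 * m - 1) + q ^ m)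
    {X : Type u} [MulAction (Omega F ⇑(qfPlus m F)) X] [Fintype X] [Nontrivial X]
    [MulAction.IsPretransitive (Omega F ⇑(qfPlus m F)) X] : Bd ≤ Fintype.card X := by
  classical
  by_contra hcon
  push Not at hcon
  have H := hyp (F := F) hm
  obtain ⟨e, f, χ, D⟩ := exists_set2 H
  obtain ⟨j, rfl⟩ : ∃ j, m = j + 4 := ⟨m - 4, by omega⟩
  have hι : Fintype.card (Fin (j + 4) ⊕ Fin (j + 4)) = 2 * j + 8 := by simp; ring
  have hd : Fintype.card (Fin (j + 4) ⊕ Fin (j + 4)) - 2 = 2 * j + 6 := by omega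
  rw [show j + 4 - 1 = j + 3 by omega, show 2 * (j + 4) - 1 = 2 * j + 7 by omega] at hBd
  have hzeros := zeros (F := F) (m := j + 4) (by omega)
  rw [show j + 4 - 1 = j + 3 by omega, show 2 * (j + 4) - 1 = 2 * j + 7 by omega] at hzeros
  set x : ℤ := (q : ℤ) ^ j with hx
  have hq1n : 1 ≤ q := by omega
  have hx1 : 1 ≤ x := one_le_pow₀ (by omega)
  have hQ : (4 : ℤ) ≤ q := by exact_mod_cast hq4
  have hq1 : 0 < (q : ℤ) - 1 := by omega
  have hNB : ((q : ℤ) - 1) * Bd = (q : ℤ) ^ 7 * x ^ 2 + (q : ℤ) ^ 4 * x - (q : ℤ) ^ 3 * x - 1 := by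
    have h : (((q - 1) * Bd + q ^ (j + 3) + 1 : ℕ) : ℤ) = ((q ^ (2 * j + 7) + q ^ (j + 4) : ℕ) : ℤ) :=
      congrArg Nat.cast hBd
    push_cast [Nat.cast_sub hq1n] at h
    rw [hx]
    linear_combination h
  set ZW := wCount (qfPlus (j + 4) F) e f 0
  have hZW : (ZW : ℤ) = (q : ℤ) ^ 5 * x ^ 2 + (q : ℤ) ^ 3 * x - (q : ℤ) ^ 2 * x := by
    have h : ((q * ZW + (q - 1) * q ^ (2 * j + 6) + q ^ (j + 3) : ℕ) : ℤ) =
        ((q ^ (2 * j + 7) + q ^ (j + 4) : ℕ) : ℤ) := by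
      rw [← hzeros, value_V H D.pair 0, hd]
    push_cast [Nat.cast_sub hq1n] at h
    rw [hx]
    refine mul_left_cancel₀ (show (q : ℤ) ≠ 0 by omega) ?_
    linear_combination h
  set L := q ^ (2 * j + 5) - q ^ (j + 2) with hLd
  have hLle : q ^ (j + 2) ≤ q ^ (2 * j + 5) := Nat.pow_le_pow_right (by omega) (by omega)
  have hL : (L : ℤ) = (q : ℤ) ^ 5 * x ^ 2 - (q : ℤ) ^ 2 * x := by
    rw [hLd, Nat.cast_sub hLle, hx]; push_cast; ring
  have hWc : ∀ c : F, c ≠ 0 → wCount (qfPlus (j + 4) F) e f c = L := by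
    intro c hc
    have h : ((Nat.card {v // qfPlus (j + 4) F v = c} * q + q ^ (j + 4) : ℕ) : ℤ) =
        ((q ^ (2 * (j + 4)) : ℕ) : ℤ) := congrArg Nat.cast (values (m := j + 4) hc)
    rw [value_V H D.pair c, hd] at h
    push_cast [Nat.cast_sub hq1n] at h
    zify
    rw [hL, hx]
    refine mul_left_cancel₀ (show (q : ℤ) * q ≠ 0 by positivity) ?_
    linear_combination h
  set Z₀ := q ^ (2 * j + 3) + q ^ (j + 2) - q ^ (j + 1) with hZ₀d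
  have hZ₀le : q ^ (j + 1) ≤ q ^ (j + 2) := Nat.pow_le_pow_right (by omega) (by omega)
  have hZ₀ : (Z₀ : ℤ) = (q : ℤ) ^ 3 * x ^ 2 + (q : ℤ) ^ 2 * x - (q : ℤ) * x := by
    rw [hZ₀d, Nat.cast_sub (by omega), hx]
    push_cast; ring
  have hZ : ZW = q * Z₀ + (q - 1) * q ^ (2 * j + 4) := by
    zify [hq1n]
    rw [hZW, hZ₀, hx]; ring
  have hpow6 : ((q ^ (2 * j + 6) : ℕ) : ℤ) = (q : ℤ) ^ 6 * x ^ 2 := by rw [hx]; push_cast; ring
  obtain ⟨a1, a2, a3, -⟩ := arith (Q := (q : ℤ)) hQ hx1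
  rw [← hNB, ← hpow6] at a1
  rw [← hNB, ← hpow6, ← hL] at a2
  rw [← hNB, ← hL] at a3
  have heven : ∀ v, (2 : F) = 0 → qfPlus (j + 4) F v ≠ 0 →
      (((cls (qfPlus (j + 4) F) e f v).card : ℕ) : ℤ) = ((q : ℤ) - 1) * L := by
    intro v h2 hv
    have h := congrArg (Nat.cast : ℕ → ℤ) (card_cls_even (e := e) (f := f) h2 hv)
    rw [show Nat.card {w // Perp (qfPlus (j + 4) F) e f w} = q ^ (2 * j + 6) from hd ▸ card_perpG H D.pair,
      hpow6] at h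
    push_cast at h
    rw [hZW] at h
    rw [hL]
    linear_combination h
  have hodd : ∀ v, qfPlus (j + 4) F v ≠ 0 →
      ((q : ℤ) - 1) * L ≤ 2 * (cls (qfPlus (j + 4) F) e f v).card := by
    intro v hv
    have := card_cls_odd hv fun c hc => (hWc c hc).ge
    zify [hq1n] at this; exact this
  have h5 : (2 : F) ≠ 0 → (5 : ℤ) ≤ q := by
    intro h2
    have : q ≠ 4 := fun h4 => h2 (by
      have := FiniteField.cast_card_eq_zero F
      rw [h4] at this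
      exact mul_self_eq_zero.1 (show (2 : F) * 2 = 0 by exact_mod_cast this))
    omega
  have h3 : ∀ v, Perp (qfPlus (j + 4) F) e f v → qfPlus (j + 4) F v ≠ 0 →
      (q - 1) * Bd ≤ (q - 1) * q ^ (2 * j + 6) + q * (cls (qfPlus (j + 4) F) e f v).card := by
    intro v _ hv
    suffices ((q : ℤ) - 1) * Bd ≤ ((q : ℤ) - 1) * ((q ^ (2 * j + 6) : ℕ) : ℤ) +
        q * (cls (qfPlus (j + 4) F) e f v).card by
      zify [hq1n]; exact_mod_cast this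
    by_cases h2 : (2 : F) = 0
    · rw [heven v h2 hv]; exact a2
    · have h := (arith_odd (Q := (q : ℤ)) (x := x) (h5 h2) hx1).2
      rw [← hNB, ← hpow6, ← hL] at h
      nlinarith [mul_le_mul_of_nonneg_left (hodd v hv) (show (0 : ℤ) ≤ q by omega)]
  have hS : ∀ v, Perp (qfPlus (j + 4) F) e f v → qfPlus (j + 4) F v ≠ 0 → Small X D v := by
    intro v hvp hv
    refine small_of_bounds (Bd := Bd) (L := L) D hvp hv hcon (fun h2 => Or.inl ⟨hq4, ?_⟩)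
      (fun h2 => ⟨card_cls_odd hv fun c hc => (hWc c hc).ge, ⟨?_, Or.inl (by omega)⟩, fun h9 => ?_⟩)
    · rw [← heven v h2 hv] at a3
      exact_mod_cast le_of_mul_le_mul_left a3 hq1
    · have h := (arith_odd (Q := (q : ℤ)) (x := x) (h5 h2) hx1).1
      rw [← hNB, ← hL, show 2 * (((q : ℤ) - 1) * Bd) = ((q : ℤ) - 1) * (2 * Bd) by ring] at h
      have := le_of_mul_le_mul_left h hq1
      zify [hq1n]; exact this
    · have h := arith_nine (Q := (q : ℤ)) (x := x) (by exact_mod_cast h9) hx1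
      rw [← hNB, ← hL, show 2 * (((q : ℤ) - 1) * Bd) = ((q : ℤ) - 1) * (2 * Bd) by ring] at h
      have := le_of_mul_le_mul_left h hq1
      zify [hq1n]; exact this
  have hwit : ∀ C : Submodule F (Fin (j + 4) ⊕ Fin (j + 4) → F), (∀ y ∈ C, qfPlus (j + 4) F y = 0) →
      finrank F C ≤ j + 4 := fun C hC => singular_finrank_le_plus (j + 4) C hC
  have hZ01 : 1 ≤ Z₀ := by
    have : 1 ≤ q ^ (2 * j + 3) := Nat.one_le_pow _ _ (by omega)
    rw [hZ₀d]; omega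
  have hZ1 : 1 ≤ ZW := by
    rw [hZ]
    exact (Nat.one_le_iff_ne_zero.2 (Nat.mul_ne_zero (by omega) (by omega))).trans (Nat.le_add_right _ _)
  have hbig : NoBig X D := by
    by_cases hj : j = 0
    · subst hj
      have hx0 : x = 1 := by rw [hx, pow_zero]
      obtain ⟨c, hc, hc1⟩ : ∃ c : F, c ≠ 0 ∧ c * c ≠ 1 := by
        obtain ⟨c, hc⟩ : ∃ c, c ∉ ({0, 1, -1} : Finset F) := by
          by_contra hall
          push Not at hall
          have h := Finset.card_le_card (fun c _ => hall c : (Finset.univ : Finset F) ⊆ {0, 1, -1})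
          rw [Finset.card_univ] at h
          have := Finset.card_le_three (a := (0 : F)) (b := 1) (c := -1)
          omega
        simp only [Finset.mem_insert, Finset.mem_singleton, not_or] at hc
        exact ⟨c, hc.1, fun h => (mul_self_eq_one_iff.1 h).elim hc.2.1 hc.2.2⟩
      obtain ⟨t1, t2, t3, t4⟩ := arith_tight (Q := (q : ℤ)) hQ
      rw [hx0] at hNB hZW hZ₀ hL hpow6
      simp only [one_pow, mul_one] at hNB hZW hZ₀ hL hpow6
      have hR0 : q ≤ q ^ (0 + 3) := Nat.le_self_pow (by omega) _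
      have hσ : Bd = (q ^ 2 + 1) * (q + 1) * q ^ (0 + 3) + (q ^ 3 + q ^ 2 + q + 1) := by
        zify
        refine mul_left_cancel₀ hq1.ne' ?_
        rw [hNB]; ring
      refine no_big_tight (D := D) (r := 0 + 3) (fun U hU => singular_ext_rank hwit D.pair U hU)
        (Z₀ := Z₀) (N := (q ^ 2 + 1) * (q + 1)) hc hc1 (by omega) hcon hS (by rw [hd]; exact hZ)
        (point_bound (m := 0 + 4) (by omega) hBd) ?_ ?_ hσ ?_ ?_ ?_ ?_ ?_
      · show (ZW - 1) * (q * (Z₀ - 1)) = _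
        zify [show 1 ≤ q ^ (0 + 3) by omega, hR0, hZ1, hZ01]
        rw [hZW, hZ₀]; ring
      · zify [show 1 ≤ q ^ (0 + 3) by omega, hR0]
        refine le_of_mul_le_mul_left ?_ hq1
        rw [← mul_assoc, hNB]
        exact t1
      · zify; exact t2
      · have h := Nat.le_mul_of_pos_right ((q ^ 2 + 1) * (q + 1)) (Nat.pow_pos (n := 0 + 3) (by omega : 0 < q))
        calc q ^ 3 + q ^ 2 + q + 1 = (q ^ 2 + 1) * (q + 1) := by ring
          _ ≤ _ := h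
      · rw [hd]
        have h : ((q : ℤ) ^ 3 + (q : ℤ) ^ 2 + q + 1) ≤ (q : ℤ) ^ 6 := by nlinarith [pow_pos (show (0:ℤ) < q by omega) 3, t3]
        exact_mod_cast h
      · intro v hvp hv0
        suffices h : ((q : ℤ) ^ 3 + (q : ℤ) ^ 2 + q + 1) ≤ ((cls (qfPlus (0 + 4) F) e f v).card : ℤ) by
          exact_mod_cast h
        by_cases hv : qfPlus (0 + 4) F v = 0
        · have h : (((cls (qfPlus (0 + 4) F) e f v).card + 1 : ℕ) : ℤ) = (ZW : ℤ) := congrArg Nat.cast (card_cls_zero hv)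
          push_cast at h
          have h' : ((q : ℤ) ^ 3 + (q : ℤ) ^ 2 + q + 1) + 1 ≤ (ZW : ℤ) := by rw [hZW]; omega
          exact le_of_add_le_add_right (h'.trans h.ge)
        have h1 := t4
        rw [← hL] at h1
        by_cases h2 : (2 : F) = 0
        · rw [heven v h2 hv]; nlinarith
        · linarith [hodd v hv]
      · push_cast
        rw [FiniteField.cast_card_eq_zero F]
        norm_num
    obtain ⟨i, rfl⟩ : ∃ i, j = i + 1 := ⟨j - 1, by omega⟩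
    obtain ⟨-, -, -, a4⟩ := arith (Q := (q : ℤ)) (x := (q : ℤ) ^ i) hQ (one_le_pow₀ (by omega))
    rw [show (q : ℤ) * (q : ℤ) ^ i = x by rw [hx]; ring, ← hNB, ← hZW, ← hZ₀] at a4
    have hR1 : q ≤ q ^ (i + 1 + 3) := Nat.le_self_pow (by omega) _
    have hnum : Bd * ((q ^ (i + 1 + 3) - 1) * (q ^ (i + 1 + 3) - q)) ≤
        q ^ (i + 1 + 3) * ((ZW - 1) * (q * (Z₀ - 1))) := by
      zify [show 1 ≤ q ^ (i + 1 + 3) by omega, hR1, hZ1, hZ01]
      refine le_of_mul_le_mul_left ?_ hq1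
      rw [← mul_assoc, show ((q : ℤ)) ^ (i + 1 + 3) = (q : ℤ) ^ 3 * x by rw [hx]; ring]
      exact a4
    exact fun o ho v hv r hr hts => no_big D (fun U hU => singular_ext hwit D.pair U hU) hcon
      (by rw [hd]; exact hZ) hnum o ho hv hr hts
  refine no_small D (X := X) (Z₀ := Z₀) (Bd := Bd) hcon hS hbig ?_
    (by rw [hd]; exact h3) ?_ (by rw [hd]; exact hZ) (no_regular_only D (fun h => absurd h (by omega)) (Or.inl hq4))
  · rw [hd]; exact_mod_cast le_of_mul_le_mul_left a1 hq1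
  · have h := point_bound (F := F) (m := j + 4) (Bd := Bd) (by omega) (by
      rw [show j + 4 - 1 = j + 3 by omega, show 2 * (j + 4) - 1 = 2 * j + 7 by omega]; exact hBd)
    rw [value_V H D.pair 0, hd] at h
    rw [hd, h, Nat.mul_sub, mul_one]
    omega

end Cfsg.Agent.Lie.MinIndexOrth.Plus
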