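import Cfsg.Agent.Lib.Lie.MinIndexOrthDense
import Cfsg.Agent.Lib.Lie.MinIndexOrthPlus
import Cfsg.Agent.Lib.Lie.MinIndexOrthBinary

/-! The minimal index of a proper subgroup of `Ω⁺(2m,2)`, `m ≥ 4`. -/

set_option autoImplicit false
set_option linter.unusedSectionVars false
set_option quotPrecheck false

namespace Cfsg.Agent.Lie.MinIndexOrth.PlusTwo

open Cfsg Matrix Module MulAction Cfsg.Agent.Classical Cfsg.Agent.Classical.OrthAut

universe u

variable {F : Type*} [Field F] [Fintype F]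

local notation "q" => Fintype.card F

theorem arith {x : ℤ} (hx : 1 ≤ x) :
    (128 * x ^ 2 - 8 * x) * ((8 * x - 1) * (8 * x - 2)) ≤
      8 * x * ((32 * x ^ 2 + 4 * x - 1) * (2 * (8 * x ^ 2 + 2 * x - 1))) := by
  obtain ⟨E, hE, rfl⟩ : ∃ E, 0 ≤ E ∧ x = E + 1 := ⟨x - 1, by omega, by ring⟩
  rw [← sub_nonneg]; ring_nf; positivity

set_option maxHeartbeats 1000000 in
theorem index_le {m : ℕ} (hm : 4 ≤ m) (hq : q = 2) {Bd : ℕ}
    (hBd : 2 * Bd + 2 ^ m = 2 ^ (2 * m))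
    {X : Type u} [MulAction (Omega F ⇑(qfPlus m F)) X] [Fintype X] [Nontrivial X]
    [MulAction.IsPretransitive (Omega F ⇑(qfPlus m F)) X] : Bd ≤ Fintype.card X := by
  classical
  by_contra hcon
  push Not at hcon
  haveI : CharP F 2 := charP_of_card_eq_prime hq
  have h20 : (2 : F) = 0 := CharTwo.two_eq_zero
  have H := Plus.hyp (F := F) hm
  obtain ⟨e, f, χ, D⟩ := exists_set2 H
  obtain ⟨j, rfl⟩ : ∃ j, m = j + 4 := ⟨m - 4, by omega⟩
  have hι : Fintype.card (Fin (j + 4) ⊕ Fin (j + 4)) = 2 * j + 8 := by simp; ring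
  have hd : Fintype.card (Fin (j + 4) ⊕ Fin (j + 4)) - 2 = 2 * j + 6 := by omega
  obtain ⟨y, hy⟩ : ∃ y, y = 2 ^ j := ⟨_, rfl⟩
  have hy1 : 1 ≤ y := hy ▸ Nat.one_le_pow _ _ (by norm_num)
  have p3 : 2 ^ (j + 3) = 8 * y := by rw [hy]; ring
  have p4 : 2 ^ (j + 4) = 16 * y := by rw [hy]; ring
  have p24 : 2 ^ (2 * j + 4) = 16 * y ^ 2 := by rw [hy]; ring
  have p26 : 2 ^ (2 * j + 6) = 64 * y ^ 2 := by rw [hy]; ring
  have p27 : 2 ^ (2 * j + 7) = 128 * y ^ 2 := by rw [hy]; ring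
  have p28 : 2 ^ (2 * (j + 4)) = 256 * y ^ 2 := by rw [hy]; ring
  have hyy : y ≤ y ^ 2 := Nat.le_self_pow (by norm_num) _
  rw [p4, p28] at hBd
  set ZW := wCount (qfPlus (j + 4) F) e f 0
  have hZW : ZW = 32 * y ^ 2 + 4 * y := by
    have h := Plus.zeros (F := F) (m := j + 4) (by omega)
    rw [show j + 4 - 1 = j + 3 by omega, show 2 * (j + 4) - 1 = 2 * j + 7 by omega,
      value_V H D.pair 0, hd, hq, p26, p27, p3, p4] at h
    change 2 * ZW + _ + _ = _ at h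
    omega
  set Z₀ := 8 * y ^ 2 + 2 * y with hZ₀d
  have hcls : ∀ v, qfPlus (j + 4) F v ≠ 0 → (cls (qfPlus (j + 4) F) e f v).card + ZW = 64 * y ^ 2 := by
    intro v hv
    have h := card_cls_even (e := e) (f := f) h20 hv
    rw [show Nat.card {w // Perp (qfPlus (j + 4) F) e f w} = q ^ (2 * j + 6) from hd ▸ card_perpG H D.pair,
      hq, p26] at h
    exact h
  have hS : ∀ v, Perp (qfPlus (j + 4) F) e f v → qfPlus (j + 4) F v ≠ 0 → Small X D v := by
    intro v hvp hv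
    have hv0 : v ≠ 0 := fun h0 => hv (by rw [h0, QuadraticMap.map_zero])
    refine Or.inr (Or.inl ⟨by omega, Or.inl ⟨inferInstance, ?_⟩⟩)
    have hdense := through_dense (X := X) D hvp hv0 (dense_cls_two D hq hv)
    have hc := hcls v hv
    by_contra hk
    have := Nat.mul_le_mul (show 4 ≤ (through X D v).card by omega)
      (show 32 * y ^ 2 - 4 * y ≤ (cls (qfPlus (j + 4) F) e f v).card by omega)
    omega
  have hwit : ∀ C : Submodule F (Fin (j + 4) ⊕ Fin (j + 4) → F), (∀ z ∈ C, qfPlus (j + 4) F z = 0) →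
      finrank F C ≤ j + 4 := fun C hC => singular_finrank_le_plus (j + 4) C hC
  have hR : ∀ U : Submodule F (Fin (j + 4) ⊕ Fin (j + 4) → F),
      (∀ z ∈ U, Perp (qfPlus (j + 4) F) e f z ∧ qfPlus (j + 4) F z = 0) → Nat.card U ≤ q ^ (j + 3) :=
    fun U hU => singular_ext hwit D.pair U hU
  have hZ : ZW = q * Z₀ + (q - 1) * q ^ (2 * j + 4) := by rw [hZW, hq, p24]; omega
  have hnum : Bd * ((q ^ (j + 3) - 1) * (q ^ (j + 3) - q)) ≤
      q ^ (j + 3) * ((ZW - 1) * (q * (Z₀ - 1))) := by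
    have h := arith (x := (y : ℤ)) (by exact_mod_cast hy1)
    have hB : ((2 * Bd + 16 * y : ℕ) : ℤ) = ((256 * y ^ 2 : ℕ) : ℤ) := congrArg Nat.cast hBd
    push_cast at hB
    rw [hq, p3, hZW, hZ₀d]
    zify [show 1 ≤ 8 * y by omega, show 2 ≤ 8 * y by omega, show 1 ≤ 32 * y ^ 2 + 4 * y by omega,
      show 1 ≤ 8 * y ^ 2 + 2 * y by omega]
    rw [show (128 : ℤ) * y ^ 2 - 8 * y = Bd by linarith] at h
    exact h
  refine no_small D (X := X) (Z₀ := Z₀) (Bd := Bd) hcon hS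
    (fun o ho v hv r hr hts => no_big D hR hcon (by rw [hd]; exact hZ) hnum o ho hv hr hts)
    ?_ ?_ ?_ (by rw [hd]; exact hZ) ?_
  · rw [hd, hq, p26]; omega
  · intro v _ hv
    have := hcls v hv
    rw [hd, hq, p26]; omega
  · show (q - 1) * Bd ≤ (q - 1) * q ^ _ + q * (ZW - 1) + (q - 1)
    rw [hd, hq, p26, hZW]; omega
  · intro hall hX
    by_cases hj : 1 ≤ j
    · exact no_regular_only D (fun h => absurd h (by omega)) (Or.inr (Or.inl (by omega))) hall hX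
    · exact no_regular_two D hq (by omega) hall hX

end Cfsg.Agent.Lie.MinIndexOrth.PlusTwo
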