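import Cfsg.Agent.Lib.Lie.MinIndexOrthEnd

/-! If the radical acts regularly, some element of prime order pins the long root elements down to a point. -/

set_option autoImplicit false
set_option linter.unusedSectionVars false
set_option quotPrecheck false

namespace Cfsg.Agent.Lie.MinIndexOrth

open Cfsg Matrix Module MulAction Cfsg.Agent.Classical Cfsg.Agent.Classical.OrthAut

universe u

variable {F : Type*} [Field F] [Fintype F] {ι : Type} [Fintype ι] [DecidableEq ι]
  {Q : QuadraticForm F (ι → F)}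

local notation "V" => (ι → F)
local notation "B" => QuadraticMap.polar ⇑Q
local notation "GG" => (↥(Omega F ⇑Q))
local notation "q" => Fintype.card F
local notation "d" => Fintype.card ι - 2

variable {X : Type u} [MulAction (Omega F ⇑Q) X] [Fintype X] {e f : ι → F} {χ : AddChar F ℂ}

variable (D : Set2 Q e f χ)
include D

/-! ### No lines -/

/-- The vectors orthogonal to three pairs. -/
def core (Q : QuadraticForm F (ι → F)) (e f u u' w w' : ι → F) : Submodule F (ι → F) :=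
  ⨅ i : Fin 6, LinearMap.ker (QuadraticMap.polarBilin Q (![e, f, u, u', w, w'] i))

omit D in
theorem mem_core {u u' w w' z : V} :
    z ∈ core Q e f u u' w w' ↔ Perp Q e f z ∧ Perp Q u u' z ∧ Perp Q w w' z := by
  simp only [core, Submodule.mem_iInf, LinearMap.mem_ker, Fin.forall_fin_succ, IsEmpty.forall_iff, and_true]
  exact ⟨fun ⟨h1, h2, h3, h4, h5, h6⟩ => ⟨⟨h1, h2⟩, ⟨h3, h4⟩, h5, h6⟩,
    fun ⟨⟨h1, h2⟩, ⟨h3, h4⟩, h5, h6⟩ => ⟨h1, h2, h3, h4, h5, h6⟩⟩

/-- Some element of `Ω` fixing the pairs moves a given vector orthogonal to them. -/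
theorem exists_core_move {u u' w w' : V} (Pu : Pair Q u u') (Pw : Pair Q w w') (hu : Perp Q e f u)
    (hu' : Perp Q e f u') (hw : Perp Q e f w) (hw' : Perp Q e f w') (huw : Perp Q u u' w) (huw' : Perp Q u u' w')
    (h8 : 8 ≤ Fintype.card ι)
    (hlow : 4 ≤ q ∨ 9 ≤ Fintype.card ι ∨ ∀ z ∈ core Q e f u u' w w', Q z = 0 → z = 0)
    {δ : V} (hδ : δ ∈ core Q e f u u' w w') (hδ0 : δ ≠ 0) :
    ∃ s : GG, (∀ x ∈ ([e, f, u, u', w, w'] : List V), gV s *ᵥ x = x) ∧ gV s *ᵥ δ ≠ δ := by
  classical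
  set K := core Q e f u u' w w'
  have li : ∀ z ∈ K, z ≠ 0 → ∃ z' ∈ K, B z z' = 1 := by
    intro z hz hz0
    obtain ⟨t, ht⟩ := exists_polar1 D.hyp.nd hz0 1
    obtain ⟨z1, z2, z3⟩ := mem_core.1 hz
    refine ⟨proj Q w w' (proj Q u u' (proj Q e f t)), mem_core.2 ⟨?_, ?_, perp_proj Pw _⟩, ?_⟩
    · have h := perp_proj D.pair t
      constructor <;> simp [proj, QuadraticMap.polar_sub_right, QuadraticMap.polar_smul_right, hu.1, hu.2, hu'.1,
        hu'.2, hw.1, hw.2, hw'.1, hw'.2, D.pair.2.2, polar_self' D.pair.1, polar_self' D.pair.2.1,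
        QuadraticMap.polar_comm _ f e]
    · have h := perp_proj Pu (proj Q e f t)
      constructor <;> simp [proj, QuadraticMap.polar_sub_right, QuadraticMap.polar_smul_right, huw.1, huw.2,
        huw'.1, huw'.2, Pu.2.2, polar_self' Pu.1, polar_self' Pu.2.1, QuadraticMap.polar_comm _ u' u]
    · rw [polar_proj z3, polar_proj z2, polar_proj z1, ht]
  have fixlist : ∀ {z : V}, z ∈ K → ∀ x ∈ ([e, f, u, u', w, w'] : List V), B z x = 0 := by
    intro z hz x hx
    obtain ⟨z1, z2, z3⟩ := mem_core.1 hz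
    rw [QuadraticMap.polar_comm]
    simp only [List.mem_cons, List.not_mem_nil, or_false] at hx
    rcases hx with rfl | rfl | rfl | rfl | rfl | rfl
    exacts [z1.1, z1.2, z2.1, z2.2, z3.1, z3.2]
  have hKdim : Fintype.card ι - 6 ≤ finrank F K := finrank_kernels _
  obtain ⟨δ', hδ', hδδ⟩ := li δ hδ hδ0
  by_cases haniso : ∀ z ∈ K, Q z = 0 → z = 0
  · -- two reflections
    have hδ'0 : δ' ≠ 0 := fun e0 => by rw [e0, polar_zero_r] at hδδ; exact zero_ne_one hδδ
    have hQa : Q δ' ≠ 0 := fun h0 => hδ'0 (haniso _ hδ' h0)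
    obtain ⟨z, hz, hzd, hzind⟩ : ∃ z ∈ K, B z δ' ≠ 0 ∧ ∀ c : F, z ≠ c • δ' := by
      obtain ⟨y, hy, hyn⟩ : ∃ y ∈ K, ∀ c : F, y ≠ c • δ' := by
        by_contra hcon
        push Not at hcon
        have h1 : K ≤ Submodule.span F {δ'} := fun y hy => by
          obtain ⟨c, rfl⟩ := hcon y hy
          exact Submodule.smul_mem _ _ (Submodule.mem_span_singleton_self δ')
        have h2 := (Submodule.finrank_mono h1).trans (finrank_span_le_card ({δ'} : Set V))
        simp at h2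
        omega
      by_cases h2 : (2 : F) = 0
      · obtain ⟨t, ht, ht1⟩ := li δ' hδ' hδ'0
        refine ⟨t, ht, by rw [QuadraticMap.polar_comm, ht1]; exact one_ne_zero, fun c hc => ?_⟩
        rw [hc, polar_smul_r, polar_self2, h2, zero_mul, mul_zero] at ht1
        exact zero_ne_one ht1
      by_cases hyd : B y δ' = 0
      · refine ⟨y + δ', add_mem hy hδ', ?_, fun c hc => hyn (c - 1) ?_⟩
        · rw [polar_add_l, hyd, zero_add, polar_self2]; exact mul_ne_zero h2 hQa
        · linear_combination (norm := module) hc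
      · exact ⟨y, hy, hyd, hyn⟩
    have hz0 : z ≠ 0 := fun e0 => hzind 0 (by rw [e0, zero_smul])
    have hQz : Q z ≠ 0 := fun h0 => hz0 (haniso _ hz h0)
    set b := ogVal (OrthAut.refl hQz) *ᵥ δ' with hb
    have hbform : b = δ' - ((Q z)⁻¹ * B z δ') • z := by rw [hb, refl_apply]
    have hbK : b ∈ K := hbform ▸ sub_mem hδ' (K.smul_mem _ hz)
    have hQb : Q b = Q δ' := ogVal_quad _ _
    have hQb0 : Q b ≠ 0 := hQb ▸ hQa
    have hs : OrthAut.refl hQa * OrthAut.refl hQb0 ∈ Omega F ⇑Q := by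
      refine invHom_eq_one_mem D.hyp ?_
      rw [map_mul, invHom_refl, invHom_refl, hQb]
      exact Prod.ext (Int.units_mul_self _) (Int.units_mul_self _)
    refine ⟨⟨_, hs⟩, fun x hx => ?_, fun hfix => ?_⟩
    · show ogVal (OrthAut.refl hQa * OrthAut.refl hQb0) *ᵥ x = x
      rw [ogVal_mul, ← Matrix.mulVec_mulVec, refl_fix hQb0 (fixlist hbK x hx),
        refl_fix hQa (fixlist hδ' x hx)]
    · change ogVal (OrthAut.refl hQa * OrthAut.refl hQb0) *ᵥ δ = δ at hfix
      have h1 : ogVal (OrthAut.refl hQb0) *ᵥ δ = ogVal (OrthAut.refl hQa) *ᵥ δ := by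
        have h2 := congrArg (ogVal (OrthAut.refl hQa) *ᵥ ·) hfix
        simp only [Matrix.mulVec_mulVec, ← ogVal_mul, ← mul_assoc, refl_mul_self, one_mul] at h2
        exact h2
      rw [refl_apply, refl_apply, sub_right_inj, QuadraticMap.polar_comm _ δ' δ, hδδ, mul_one, hQb, hbform,
        smul_sub, smul_smul] at h1
      set k := (Q δ')⁻¹ * B (δ' - ((Q z)⁻¹ * B z δ') • z) δ
      have hkz : ((k * ((Q z)⁻¹ * B z δ'))) • z = (k - (Q δ')⁻¹) • δ' := by
        linear_combination (norm := module) -h1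
      by_cases hk : k = 0
      · rw [hk, zero_mul, zero_smul, zero_sub, eq_comm, smul_eq_zero] at hkz
        exact hkz.elim (fun h => inv_ne_zero hQa (neg_eq_zero.1 h)) hδ'0
      · have hne : k * ((Q z)⁻¹ * B z δ') ≠ 0 := mul_ne_zero hk (mul_ne_zero (inv_ne_zero hQz) hzd)
        refine hzind ((k * ((Q z)⁻¹ * B z δ'))⁻¹ * (k - (Q δ')⁻¹)) ?_
        rw [← smul_smul, ← hkz, inv_smul_smul₀ hne]
  push Not at haniso
  obtain ⟨c₀, hc₀, hc₀Q, hc₀0⟩ := haniso
  -- a singular vector not orthogonal to `δ`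
  obtain ⟨c, hc, hcQ, hcd⟩ : ∃ c ∈ K, Q c = 0 ∧ B δ c ≠ 0 := by
    by_contra hcon
    push Not at hcon
    obtain ⟨c₁, hc₁, h1⟩ := li c₀ hc₀ hc₀0
    set c₂ := c₁ + (-Q c₁) • c₀
    have hc₂ : c₂ ∈ K := add_mem hc₁ (K.smul_mem _ hc₀)
    have P₀ : Pair Q c₀ c₂ := ⟨hc₀Q, by rw [quad_add_smul, hc₀Q, QuadraticMap.polar_comm, h1]; ring,
      by rw [QuadraticMap.polar_add_right, h1, polar_smul_r, polar_self' hc₀Q, mul_zero, add_zero]⟩
    set z := proj Q c₀ c₂ δ'
    have hz : z ∈ K := sub_mem (sub_mem hδ' (K.smul_mem _ hc₀)) (K.smul_mem _ hc₂)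
    have hzp := perp_proj P₀ δ'
    have e1 := hcon (z + c₀ + (-Q z) • c₂) (add_mem (add_mem hz hc₀) (K.smul_mem _ hc₂)) (by
      rw [quad_add_smul, quad_add, P₀.1, P₀.2.1, polar_add_l, QuadraticMap.polar_comm _ z c₀, hzp.1, P₀.2.2,
        QuadraticMap.polar_comm _ z c₂, hzp.2]
      ring)
    have e2 := hcon c₀ hc₀ hc₀Q
    have e3 := hcon c₂ hc₂ P₀.2.1
    rw [QuadraticMap.polar_add_right, QuadraticMap.polar_add_right, polar_smul_r, e2, e3] at e1
    rw [pair_decomp P₀ δ', QuadraticMap.polar_add_right, QuadraticMap.polar_add_right, polar_smul_r, polar_smul_r,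
      e2, e3] at hδδ
    rw [mul_zero, add_zero, add_zero] at e1
    rw [e1] at hδδ
    simp at hδδ
  have hc0 : c ≠ 0 := fun e0 => hcd (by rw [e0, polar_zero_r])
  by_cases h4 : 4 ≤ q
  · -- a torus
    obtain ⟨c₁, hc₁, h1⟩ := li c hc hc0
    set c₂ := c₁ + (-Q c₁) • c
    have hc₂ : c₂ ∈ K := add_mem hc₁ (K.smul_mem _ hc)
    have Pc : Pair Q c c₂ := ⟨hcQ, by rw [quad_add_smul, hcQ, QuadraticMap.polar_comm, h1]; ring,
      by rw [QuadraticMap.polar_add_right, h1, polar_smul_r, polar_self' hcQ, mul_zero, add_zero]⟩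
    obtain ⟨a, ha⟩ : ∃ a : F, a ≠ 0 ∧ a * a ≠ 1 := by
      by_contra hcon
      push Not at hcon
      have hsub : (Finset.univ : Finset F) ⊆ {0, 1, -1} := fun a _ => by
        by_cases ha : a = 0
        · simp [ha]
        · rcases mul_self_eq_one_iff.1 (hcon a ha) with h | h <;> simp [h]
      have := Finset.card_le_card hsub
      have h3 : ({0, 1, -1} : Finset F).card ≤ 3 := Finset.card_le_three
      rw [Finset.card_univ] at this
      omega
    obtain ⟨t, ht, -, -, hti⟩ := exists_torus_elt D.hyp.nd Pc (mul_ne_zero ha.1 ha.1)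
    have hs : t ∈ Omega F ⇑Q := by
      refine invHom_eq_one_mem D.hyp ?_
      rw [hti, sqSign_of_isSquare ⟨a, rfl⟩]; rfl
    refine ⟨⟨t, hs⟩, fun x hx => ?_, fun hfix => ?_⟩
    · show ogVal t *ᵥ x = x
      rw [ht, fixlist hc₂ x hx, fixlist hc x hx]; simp
    · change ogVal t *ᵥ δ = δ at hfix
      rw [ht] at hfix
      have h5 := congrArg (B c) hfix
      simp only [QuadraticMap.polar_add_right, polar_smul_r, polar_self' hcQ, Pc.2.2, mul_zero, add_zero,
        mul_one, add_eq_left] at h5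
      rw [QuadraticMap.polar_comm _ c δ] at h5
      rcases mul_eq_zero.1 h5 with h6 | h6
      · rw [sub_eq_zero, inv_eq_one] at h6; exact ha.2 h6
      · exact hcd h6
  have h9 : 9 ≤ Fintype.card ι := by
    rcases hlow with h | h | h
    · exact absurd h h4
    · exact h
    · exact absurd (h c hc hcQ) hc0
  -- a transvection-like element
  obtain ⟨z, hz, hzc, hzn⟩ : ∃ z ∈ K, B c z = 0 ∧ ∀ k : F, z ≠ k • c := by
    by_contra hcon
    push Not at hcon
    set K' := K ⊓ LinearMap.ker (QuadraticMap.polarBilin Q c)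
    have h1 : K' ≤ Submodule.span F {c} := fun z hz => by
      obtain ⟨k, rfl⟩ := hcon z hz.1 hz.2
      exact Submodule.smul_mem _ _ (Submodule.mem_span_singleton_self c)
    have h2 := (Submodule.finrank_mono h1).trans (finrank_span_le_card ({c} : Set V))
    have h3 : K' = ⨅ i : Fin 7, LinearMap.ker (QuadraticMap.polarBilin Q (![e, f, u, u', w, w', c] i)) := by
      ext z
      simp only [K', K, Submodule.mem_inf, mem_core, Submodule.mem_iInf, Fin.forall_fin_succ, IsEmpty.forall_iff,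
        and_true, LinearMap.mem_ker]
      exact ⟨fun ⟨⟨⟨h1, h2⟩, ⟨h3, h4⟩, h5, h6⟩, h7⟩ => ⟨h1, h2, h3, h4, h5, h6, h7⟩,
        fun ⟨h1, h2, h3, h4, h5, h6, h7⟩ => ⟨⟨⟨h1, h2⟩, ⟨h3, h4⟩, h5, h6⟩, h7⟩⟩
    rw [h3] at h2
    have h5 := (finrank_kernels (Q := Q) ![e, f, u, u', w, w', c]).trans h2
    simp at h5
    omega
  have hok : OK Q c z := ⟨hcQ, hzc⟩
  refine ⟨elt (Q := Q) c z, fun x hx => ?_, fun hfix => ?_⟩
  · rw [elt_apply D.hyp hok, fixlist hc x hx, fixlist hz x hx]; simp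
  · rw [elt_apply D.hyp hok, QuadraticMap.polar_comm _ c δ] at hfix
    refine hzn ((B δ c)⁻¹ * (B z δ + Q z * B δ c)) ?_
    rw [← smul_smul, eq_inv_smul_iff₀ hcd]
    linear_combination (norm := module) hfix

omit D in
theorem lev_one {g : GG} (he : gV g *ᵥ e = e) (hf : gV g *ᵥ f = f) : Lev e f 1 g :=
  ⟨one_ne_zero, by rw [one_smul]; exact he, by rw [inv_one, one_smul]; exact hf⟩

omit D in
theorem six_decomp {u u' w w' : V} (P : Pair Q e f) (Pu : Pair Q u u') (Pw : Pair Q w w') (hu : Perp Q e f u)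
    (hu' : Perp Q e f u') (hw : Perp Q e f w) (hw' : Perp Q e f w') (huw : Perp Q u u' w) (huw' : Perp Q u u' w')
    (x : V) :
    proj Q w w' (proj Q u u' (proj Q e f x)) ∈ core Q e f u u' w w' ∧
      x = B f x • e + B e x • f + B u' x • u + B u x • u' + B w' x • w + B w x • w' +
        proj Q w w' (proj Q u u' (proj Q e f x)) := by
  refine ⟨mem_core.2 ⟨?_, ?_, perp_proj Pw _⟩, ?_⟩
  · have h := perp_proj P x
    constructor <;> simp [proj, QuadraticMap.polar_sub_right, QuadraticMap.polar_smul_right, hu.1, hu.2, hu'.1,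
      hu'.2, hw.1, hw.2, hw'.1, hw'.2, P.2.2, polar_self' P.1, polar_self' P.2.1,
      QuadraticMap.polar_comm _ f e]
  · have h := perp_proj Pu (proj Q e f x)
    constructor <;> simp [proj, QuadraticMap.polar_sub_right, QuadraticMap.polar_smul_right, huw.1, huw.2,
      huw'.1, huw'.2, Pu.2.2, polar_self' Pu.1, polar_self' Pu.2.1, QuadraticMap.polar_comm _ u' u]
  · simp only [proj, QuadraticMap.polar_sub_right, QuadraticMap.polar_smul_right, smul_eq_mul,
      QuadraticMap.polar_comm _ u' e, QuadraticMap.polar_comm _ u e, QuadraticMap.polar_comm _ w e,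
      QuadraticMap.polar_comm _ w' e, QuadraticMap.polar_comm _ u' f, QuadraticMap.polar_comm _ u f,
      QuadraticMap.polar_comm _ w f, QuadraticMap.polar_comm _ w' f, hu.1, hu.2, hu'.1, hu'.2, hw.1, hw.2,
      hw'.1, hw'.2, QuadraticMap.polar_comm _ w u, QuadraticMap.polar_comm _ w u',
      QuadraticMap.polar_comm _ w' u, QuadraticMap.polar_comm _ w' u', huw.1, huw.2, huw'.1, huw'.2]
    module

omit D in
/-- Two elements agreeing on the pairs and on what is orthogonal to them are equal. -/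
theorem ext_six {u u' w w' : V} (P : Pair Q e f) (Pu : Pair Q u u') (Pw : Pair Q w w') (hu : Perp Q e f u)
    (hu' : Perp Q e f u') (hw : Perp Q e f w) (hw' : Perp Q e f w') (huw : Perp Q u u' w) (huw' : Perp Q u u' w')
    {g k : GG} (h6 : ∀ x ∈ ([e, f, u, u', w, w'] : List V), gV g *ᵥ x = gV k *ᵥ x)
    (hK : ∀ z ∈ core Q e f u u' w w', gV g *ᵥ z = gV k *ᵥ z) : g = k := by
  refine gV_ext fun x => ?_
  obtain ⟨hz, hx⟩ := six_decomp P Pu Pw hu hu' hw hw' huw huw' x
  rw [hx]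
  simp only [Matrix.mulVec_add, Matrix.mulVec_smul, hK _ hz, h6 e (by simp), h6 f (by simp), h6 u (by simp),
    h6 u' (by simp), h6 w (by simp), h6 w' (by simp)]

/-- The element of prime order and what is used of it. -/
structure Anchor (D : Set2 Q e f χ) (u u' w w' : ι → F) (ℓ : ℕ) (t : Omega F ⇑Q) : Prop where
  prime : ℓ.Prime
  ne_char : (ℓ : F) ≠ 0
  pow : t ^ ℓ = 1
  fix_e : gV t *ᵥ e = e
  fix_f : gV t *ᵥ f = f
  fix_core : ∀ z ∈ core Q e f u u' w w', gV t *ᵥ z = z
  fixed : ∀ s, Perp Q e f s → gV t *ᵥ s = s → s ∈ core Q e f u u' w w'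
  comm : t * elt u w = elt u w * t
  comm' : ∀ s : Omega F ⇑Q, (∀ x ∈ ([e, f, u, u', w, w'] : List (ι → F)), gV s *ᵥ x = x) →
    (∀ z ∈ core Q e f u u' w w', gV s *ᵥ z ∈ core Q e f u u' w w') → s * t = t * s

theorem exists_anchor_even (h2 : (2 : F) = 0) {u u' w w' : V} (Pu : Pair Q u u') (Pw : Pair Q w w')
    (hu : Perp Q e f u) (hu' : Perp Q e f u') (hw : Perp Q e f w) (hw' : Perp Q e f w') (huw : Perp Q u u' w)
    (huw' : Perp Q u u' w') : ∃ ℓ t, Anchor D u u' w w' ℓ t := by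
  have P := D.pair
  have hn : ∀ x : V, -x = x := fun x => by linear_combination (norm := module) (-h2) • x
  have ka : OK Q u w' := ⟨Pu.1, huw'.1⟩
  have kb : OK Q w u' := ⟨Pw.1, by rw [QuadraticMap.polar_comm]; exact huw.2⟩
  set a := elt (Q := Q) u w'
  set b := elt (Q := Q) w u'
  set t := b * a
  have c1 : B u e = 0 := by rw [QuadraticMap.polar_comm]; exact hu.1
  have c2 : B u f = 0 := by rw [QuadraticMap.polar_comm]; exact hu.2
  have c3 : B u' e = 0 := by rw [QuadraticMap.polar_comm]; exact hu'.1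
  have c4 : B u' f = 0 := by rw [QuadraticMap.polar_comm]; exact hu'.2
  have c5 : B w e = 0 := by rw [QuadraticMap.polar_comm]; exact hw.1
  have c6 : B w f = 0 := by rw [QuadraticMap.polar_comm]; exact hw.2
  have c7 : B w' e = 0 := by rw [QuadraticMap.polar_comm]; exact hw'.1
  have c8 : B w' f = 0 := by rw [QuadraticMap.polar_comm]; exact hw'.2
  have c9 : B w u = 0 := by rw [QuadraticMap.polar_comm]; exact huw.1
  have c10 : B w u' = 0 := by rw [QuadraticMap.polar_comm]; exact huw.2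
  have c11 : B w' u = 0 := by rw [QuadraticMap.polar_comm]; exact huw'.1
  have c12 : B w' u' = 0 := by rw [QuadraticMap.polar_comm]; exact huw'.2
  have hu'u : B u' u = 1 := by rw [QuadraticMap.polar_comm]; exact Pu.2.2
  have hw'w : B w' w = 1 := by rw [QuadraticMap.polar_comm]; exact Pw.2.2
  have te : gV t *ᵥ e = e := by simp [t, a, b, gV_mul_vec, elt_apply D.hyp ka, elt_apply D.hyp kb, c1, c3, c5, c7]
  have tf : gV t *ᵥ f = f := by simp [t, a, b, gV_mul_vec, elt_apply D.hyp ka, elt_apply D.hyp kb, c2, c4, c6, c8]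
  have tu : gV t *ᵥ u = u + w := by
    simp [t, a, b, gV_mul_vec, elt_apply D.hyp ka, elt_apply D.hyp kb, polar_self' Pu.1, c11, c9, hu'u,
      Pu.2.1, sub_eq_add_neg, hn]
  have tw : gV t *ᵥ w = u := by
    simp [t, a, b, gV_mul_vec, elt_apply D.hyp ka, elt_apply D.hyp kb, huw.1, hw'w, Pw.2.1, Pu.2.1,
      Matrix.mulVec_sub, polar_self' Pu.1, polar_self' Pw.1, c9, c10, c11, huw.2, hu'u, sub_eq_add_neg, hn]
    linear_combination (norm := module) h2 • w
  have tu' : gV t *ᵥ u' = w' := by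
    simp [t, a, b, gV_mul_vec, elt_apply D.hyp ka, elt_apply D.hyp kb, Pu.2.2, Pw.2.2, Pw.2.1, Pu.2.1,
      Matrix.mulVec_add, polar_self' Pu.2.1, polar_self' Pw.2.1, c12, c10, huw'.2, sub_eq_add_neg, hn]
    linear_combination (norm := module) h2 • u'
  have tw' : gV t *ᵥ w' = u' + w' := by
    simp [t, a, b, gV_mul_vec, elt_apply D.hyp ka, elt_apply D.hyp kb, huw'.1, huw'.2, polar_self' Pw.2.1,
      Pw.2.2, Pu.2.1, Pw.2.1, add_comm]
  have tK : ∀ z ∈ core Q e f u u' w w', gV t *ᵥ z = z := by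
    intro z hz
    obtain ⟨-, z2, z3⟩ := mem_core.1 hz
    simp [t, a, b, gV_mul_vec, elt_apply D.hyp ka, elt_apply D.hyp kb, z2.1, z2.2, z3.1, z3.2]
  clear_value t
  refine ⟨3, t, Nat.prime_three, ?_, ?_, te, tf, tK, ?_, ?_, ?_⟩
  · intro h3
    have : (1 : F) = 0 := by push_cast at h3; linear_combination h3 - h2
    exact one_ne_zero this
  · refine ext_six P Pu Pw hu hu' hw hw' huw huw' (fun x hx => ?_) fun z hz => ?_
    · rw [pow_succ, pow_two, gV_mul_vec, gV_mul_vec, gV_one, Matrix.one_mulVec]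
      simp only [List.mem_cons, List.not_mem_nil, or_false] at hx
      rcases hx with hx | hx | hx | hx | hx | hx <;> rw [hx] <;>
        simp only [te, tf, tu, tu', tw, tw', Matrix.mulVec_add] <;> first
          | linear_combination (norm := module) h2 • (u + w)
          | linear_combination (norm := module) h2 • u
          | linear_combination (norm := module) h2 • w'
          | linear_combination (norm := module) h2 • (u' + w')
    · rw [pow_succ, pow_two, gV_mul_vec, gV_mul_vec, gV_one, Matrix.one_mulVec, tK z hz, tK z hz, tK z hz]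
  · intro s hs hfix
    obtain ⟨hk, hx⟩ := six_decomp P Pu Pw hu hu' hw hw' huw huw' s
    rw [hs.1, hs.2, zero_smul, zero_smul, zero_add, zero_add] at hx
    set k := proj Q w w' (proj Q u u' (proj Q e f s))
    obtain ⟨-, k2, k3⟩ := mem_core.1 hk
    rw [hx] at hfix
    simp only [Matrix.mulVec_add, Matrix.mulVec_smul, tu, tu', tw, tw', tK k hk] at hfix
    have e1 := congrArg (B u') hfix
    have e2 := congrArg (B w') hfix
    have e3 := congrArg (B u) hfix
    have e4 := congrArg (B w) hfix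
    simp [QuadraticMap.polar_add_right, QuadraticMap.polar_smul_right, hu'u, Pu.2.2, Pw.2.2, hw'w,
      polar_self' Pu.1, polar_self' Pu.2.1, polar_self' Pw.1, polar_self' Pw.2.1, huw.1, huw.2, huw'.1, huw'.2,
      c9, c10, c11, c12, k2.1, k2.2, k3.1, k3.2] at e1 e2 e3 e4
    refine mem_core.2 ⟨hs, ⟨?_, ?_⟩, ?_, ?_⟩
    · linear_combination e4
    · linear_combination e2 + e1
    · linear_combination e3 + e4
    · linear_combination e1
  · have h' : OK Q u w := ⟨Pu.1, huw.1⟩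
    have h1 := elt_conj D.hyp t h'
    rw [tu, tw, elt_swap D.hyp (e := u + w) (w := u) ⟨by rw [quad_add, Pu.1, Pw.1, huw.1]; ring,
      by rw [polar_add_l, polar_self' Pu.1, c9, add_zero]⟩ Pu.1,
      hn, show u + w = w + (1 : F) • u by module, elt_shift D.hyp h', mul_inv_eq_iff_eq_mul] at h1
    exact h1
  · intro s hs hsK
    refine ext_six P Pu Pw hu hu' hw hw' huw huw' (fun x hx => ?_) fun z hz => ?_
    · rw [gV_mul_vec, gV_mul_vec, hs x hx]
      simp only [List.mem_cons, List.not_mem_nil, or_false] at hx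
      rcases hx with hx | hx | hx | hx | hx | hx <;> rw [hx] <;>
        simp only [te, tf, tu, tu', tw, tw', Matrix.mulVec_add, hs _ (List.Mem.head _),
          hs e (by simp), hs f (by simp), hs u (by simp), hs u' (by simp), hs w (by simp), hs w' (by simp)]
    · rw [gV_mul_vec, gV_mul_vec, tK z hz, tK _ (hsK z hz)]

omit D in
/-- The product of two tori with parameter `-1`. -/
theorem exists_neg_two (H : Hyp Q) {u u' w w' : V} (Pu : Pair Q u u') (Pw : Pair Q w w')
    (huw : Perp Q u u' w) (huw' : Perp Q u u' w') :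
    ∃ t : GG, ∀ x, gV t *ᵥ x = x - (2 * B u' x) • u - (2 * B u x) • u' - (2 * B w' x) • w - (2 * B w x) • w' := by
  have hm : (-1 : F) ≠ 0 := neg_ne_zero.2 one_ne_zero
  obtain ⟨t₁, ht₁, -, -, i₁⟩ := exists_torus_elt H.nd Pu hm
  obtain ⟨t₂, ht₂, -, -, i₂⟩ := exists_torus_elt H.nd Pw hm
  refine ⟨⟨t₁ * t₂, invHom_eq_one_mem H (by
    rw [map_mul, i₁, i₂]; exact Prod.ext (one_mul _) (Int.units_mul_self _))⟩, fun x => ?_⟩
  show ogVal (t₁ * t₂) *ᵥ x = _
  rw [ogVal_mul, ← Matrix.mulVec_mulVec, ht₂, ht₁]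
  simp only [QuadraticMap.polar_add_right, QuadraticMap.polar_smul_right, smul_eq_mul, huw.1, huw.2, huw'.1,
    huw'.2, inv_neg, inv_one]
  module

theorem exists_anchor_odd (h2 : (2 : F) ≠ 0) {u u' w w' : V} (Pu : Pair Q u u') (Pw : Pair Q w w')
    (hu : Perp Q e f u) (hu' : Perp Q e f u') (hw : Perp Q e f w) (hw' : Perp Q e f w') (huw : Perp Q u u' w)
    (huw' : Perp Q u u' w') : ∃ ℓ t, Anchor D u u' w w' ℓ t ∧
      ∀ x, gV t *ᵥ x = x - (2 * B u' x) • u - (2 * B u x) • u' - (2 * B w' x) • w - (2 * B w x) • w' := by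
  have P := D.pair
  obtain ⟨t, ht⟩ := exists_neg_two D.hyp Pu Pw huw huw'
  have c9 : B w u = 0 := by rw [QuadraticMap.polar_comm]; exact huw.1
  have c10 : B w u' = 0 := by rw [QuadraticMap.polar_comm]; exact huw.2
  have c11 : B w' u = 0 := by rw [QuadraticMap.polar_comm]; exact huw'.1
  have c12 : B w' u' = 0 := by rw [QuadraticMap.polar_comm]; exact huw'.2
  have hu'u : B u' u = 1 := by rw [QuadraticMap.polar_comm]; exact Pu.2.2
  have hw'w : B w' w = 1 := by rw [QuadraticMap.polar_comm]; exact Pw.2.2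
  have te : gV t *ᵥ e = e := by
    rw [ht, QuadraticMap.polar_comm _ u e, hu.1, QuadraticMap.polar_comm _ u' e, hu'.1,
      QuadraticMap.polar_comm _ w e, hw.1, QuadraticMap.polar_comm _ w' e, hw'.1]; simp
  have tf : gV t *ᵥ f = f := by
    rw [ht, QuadraticMap.polar_comm _ u f, hu.2, QuadraticMap.polar_comm _ u' f, hu'.2,
      QuadraticMap.polar_comm _ w f, hw.2, QuadraticMap.polar_comm _ w' f, hw'.2]; simp
  have tu : gV t *ᵥ u = -u := by rw [ht, hu'u, polar_self' Pu.1, c9, c11]; module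
  have tu' : gV t *ᵥ u' = -u' := by rw [ht, Pu.2.2, polar_self' Pu.2.1, c10, c12]; module
  have tw : gV t *ᵥ w = -w := by rw [ht, hw'w, polar_self' Pw.1, huw.1, huw.2]; module
  have tw' : gV t *ᵥ w' = -w' := by rw [ht, Pw.2.2, polar_self' Pw.2.1, huw'.1, huw'.2]; module
  have tK : ∀ z ∈ core Q e f u u' w w', gV t *ᵥ z = z := by
    intro z hz
    obtain ⟨-, z2, z3⟩ := mem_core.1 hz
    rw [ht, z2.1, z2.2, z3.1, z3.2]; simp
  refine ⟨2, t, ⟨Nat.prime_two, by exact_mod_cast h2, ?_, te, tf, tK, ?_, ?_, ?_⟩, ht⟩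
  · refine ext_six P Pu Pw hu hu' hw hw' huw huw' (fun x hx => ?_) fun z hz => ?_
    · rw [pow_two, gV_mul_vec, gV_one, Matrix.one_mulVec]
      simp only [List.mem_cons, List.not_mem_nil, or_false] at hx
      rcases hx with hx | hx | hx | hx | hx | hx <;> rw [hx] <;>
        simp only [te, tf, tu, tu', tw, tw', Matrix.mulVec_neg, neg_neg]
    · rw [pow_two, gV_mul_vec, gV_one, Matrix.one_mulVec, tK z hz, tK z hz]
  · intro s hs hfix
    rw [ht] at hfix
    have e1 := congrArg (B u') hfix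
    have e2 := congrArg (B w') hfix
    have e3 := congrArg (B u) hfix
    have e4 := congrArg (B w) hfix
    simp only [QuadraticMap.polar_sub_right, polar_smul_r, hu'u, Pu.2.2, Pw.2.2, hw'w, polar_self' Pu.1,
      polar_self' Pu.2.1, polar_self' Pw.1, polar_self' Pw.2.1, huw.1, huw.2, huw'.1, huw'.2, c9, c10, c11, c12]
      at e1 e2 e3 e4
    refine mem_core.2 ⟨hs, ⟨?_, ?_⟩, ?_, ?_⟩ <;> apply mul_left_cancel₀ h2
    · linear_combination -e3
    · linear_combination -e1
    · linear_combination -e4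
    · linear_combination -e2
  · have h' : OK Q u w := ⟨Pu.1, huw.1⟩
    have h1 := elt_conj D.hyp t h'
    rw [tu, tw, ← neg_one_smul F u, elt_smul_left D.hyp ⟨Pu.1, by rw [QuadraticMap.polar_neg_right, huw.1, neg_zero]⟩,
      neg_one_smul, neg_neg, mul_inv_eq_iff_eq_mul] at h1
    exact h1
  · intro s hs hsK
    refine ext_six P Pu Pw hu hu' hw hw' huw huw' (fun x hx => ?_) fun z hz => ?_
    · rw [gV_mul_vec, gV_mul_vec, hs x hx]
      simp only [List.mem_cons, List.not_mem_nil, or_false] at hx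
      rcases hx with hx | hx | hx | hx | hx | hx <;> rw [hx] <;>
        simp only [te, tf, tu, tu', tw, tw', Matrix.mulVec_neg,
          hs e (by simp), hs f (by simp), hs u (by simp), hs u' (by simp), hs w (by simp), hs w' (by simp)]
    · rw [gV_mul_vec, gV_mul_vec, tK z hz, tK _ (hsK z hz)]

theorem regular_trans (hall : ∀ o : Orb X D, oA D o = perpG Q e f) (hX : Fintype.card X = q ^ d) (y₀ y : X) :
    ∃ s, Perp Q e f s ∧ elt (Q := Q) e s • y₀ = y := by
  classical
  refine (orbOf_eq D).1 ?_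
  by_contra hne
  have h2 := sum_le_points D ({orbOf D y₀, orbOf D y} : Finset (Orb X D))
  rw [Finset.sum_pair hne, card_perp_orbit D (hall _), card_perp_orbit D (hall _), hX] at h2
  have := pow_pos (Fintype.card_pos (α := F)) d
  omega

theorem regular_uniq (hall : ∀ o : Orb X D, oA D o = perpG Q e f) {y₀ : X} {s s' : V} (hs : Perp Q e f s)
    (hs' : Perp Q e f s') (h : elt (Q := Q) e s • y₀ = elt (Q := Q) e s' • y₀) : s = s' := by
  refine sub_eq_zero.1 (elt_inj D ((perpG Q e f).sub_mem hs hs')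
    ((free_iff D).2 (hall (orbOf D y₀)) _ (tau_ok D ((perpG Q e f).sub_mem hs hs')) ?_))
  rw [sub_eq_add_neg, add_comm, elt_add D.hyp (tau_ok D hs'.neg) (tau_ok D hs), mul_smul, h,
    elt_neg D.hyp (tau_ok D hs'), inv_smul_smul]

omit D in
theorem Lev.smul_elt (H : Hyp Q) (he : Q e = 0) {a : F} {g : GG} (L : Lev e f a g) {s : V} (hs : Perp Q e f s)
    (y : X) : g • elt (Q := Q) e s • y = elt (Q := Q) e (a • (gV g *ᵥ s)) • g • y := by
  rw [← L.conj H he hs, mul_smul, mul_smul, inv_smul_smul]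

/-- The fixed points of a Levi element fixing a point. -/
theorem fixed_card (hall : ∀ o : Orb X D, oA D o = perpG Q e f) (hX : Fintype.card X = q ^ d) {a : F} {g : GG}
    (L : Lev e f a g) {y₀ : X} (hy : g • y₀ = y₀) :
    Nat.card {s : V // Perp Q e f s ∧ a • (gV g *ᵥ s) = s} = Nat.card {y : X // g • y = y} := by
  refine Nat.card_eq_of_bijective
    (fun s => ⟨elt (Q := Q) e s.1 • y₀, by rw [L.smul_elt D.hyp D.pair.1 s.2.1, hy, s.2.2]⟩) ⟨?_, ?_⟩
  · exact fun s s' h => Subtype.ext (regular_uniq D hall s.2.1 s'.2.1 (congrArg Subtype.val h))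
  · rintro ⟨y, hgy⟩
    obtain ⟨s, hs, rfl⟩ := regular_trans D hall hX y₀ y
    rw [L.smul_elt D.hyp D.pair.1 hs, hy] at hgy
    exact ⟨⟨s, hs, regular_uniq D hall ((L.perp hs).smul a) hs hgy⟩, rfl⟩

/-- An element of prime order other than the characteristic fixes a point. -/
theorem exists_fixed_point (hX : Fintype.card X = q ^ d) {ℓ : ℕ} (hℓ : ℓ.Prime) (hℓF : (ℓ : F) ≠ 0) {t : GG}
    (ht : t ^ ℓ = 1) : ∃ y : X, t • y = y := by
  classical
  haveI : Fact ℓ.Prime := ⟨hℓ⟩
  obtain ⟨p, hp⟩ := CharP.exists F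
  obtain ⟨n, hprime, hn⟩ := FiniteField.card F p
  have hcop : ¬ ℓ ∣ Fintype.card X := by
    rw [hX, hn, ← pow_mul]
    intro hdvd
    have := (Nat.prime_dvd_prime_iff_eq hℓ hprime).1 (hℓ.dvd_of_dvd_pow hdvd)
    exact hℓF (by rw [this]; exact CharP.cast_eq_zero F p)
  set σ := MulAction.toPermHom GG X t
  have hσ : σ ^ ℓ ^ 1 = 1 := by rw [pow_one, ← map_pow, ht, map_one]
  obtain ⟨y, hy⟩ := Equiv.Perm.exists_fixed_point_of_prime (n := 1) hcop hσ
  exact ⟨y, hy⟩

set_option maxHeartbeats 2000000 in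
theorem seven_case (h7 : Fintype.card ι = 7) (hall : ∀ o : Orb X D, oA D o = perpG Q e f)
    (hX : Fintype.card X = q ^ d) (h2 : (2 : F) ≠ 0) {u u' w w' : V} (Pu : Pair Q u u') (Pw : Pair Q w w')
    (hu : Perp Q e f u) (hu' : Perp Q e f u') (hw : Perp Q e f w) (hw' : Perp Q e f w') (huw : Perp Q u u' w)
    (huw' : Perp Q u u' w') : False := by
  classical
  have P := D.pair
  obtain ⟨ℓ, t, A, ht⟩ := exists_anchor_odd D h2 Pu Pw hu hu' hw hw' huw huw'
  obtain ⟨y₀, hy₀⟩ := exists_fixed_point D hX A.prime A.ne_char A.pow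
  have hm : (-1 : F) ≠ 0 := neg_ne_zero.2 one_ne_zero
  obtain ⟨t', ht'⟩ := exists_neg_two D.hyp P Pu hu hu'
  have hu'u : B u' u = 1 := by rw [QuadraticMap.polar_comm]; exact Pu.2.2
  have hfe : B f e = 1 := by rw [QuadraticMap.polar_comm]; exact P.2.2
  have t'e : gV t' *ᵥ e = (-1 : F) • e := by
    rw [ht', hfe, polar_self' P.1, QuadraticMap.polar_comm _ u' e, hu'.1, QuadraticMap.polar_comm _ u e, hu.1]
    module
  have t'f : gV t' *ᵥ f = (-1 : F)⁻¹ • f := by
    rw [ht', P.2.2, polar_self' P.2.1, QuadraticMap.polar_comm _ u' f, hu'.2, QuadraticMap.polar_comm _ u f, hu.2,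
      inv_neg, inv_one]
    module
  have L' : Lev e f (-1) t' := ⟨hm, t'e, t'f⟩
  -- the two are conjugate
  obtain ⟨g, hge, hgf, hgu, hgu'⟩ : ∃ g : GG, gV g *ᵥ e = u ∧ gV g *ᵥ f = u' ∧ gV g *ᵥ u = w ∧ gV g *ᵥ u' = w' := by
    have li : ∀ {a a' c c' : V}, Pair Q a a' → Pair Q c c' → Perp Q a a' c → Perp Q a a' c' →
        Function.Injective ((pairMap (F := F) a a').coprod (pairMap c c')) := by
      intro a a' c c' Pa Pc hc hc'
      refine (injective_iff_map_eq_zero _).2 fun p hp => ?_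
      rw [LinearMap.coprod_apply, pairMap_apply, pairMap_apply] at hp
      have e1 := congrArg (B a) hp
      have e2 := congrArg (B a') hp
      have e3 := congrArg (B c) hp
      have e4 := congrArg (B c') hp
      simp [QuadraticMap.polar_add_right, QuadraticMap.polar_smul_right, polar_self' Pa.1, polar_self' Pa.2.1,
        polar_self' Pc.1, polar_self' Pc.2.1, Pa.2.2, Pc.2.2, QuadraticMap.polar_comm _ a' a,
        QuadraticMap.polar_comm _ c' c, hc.1, hc.2, hc'.1, hc'.2, QuadraticMap.polar_comm _ c a,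
        QuadraticMap.polar_comm _ c a', QuadraticMap.polar_comm _ c' a, QuadraticMap.polar_comm _ c' a']
        at e1 e2 e3 e4
      exact Prod.ext (Prod.ext e2 e1) (Prod.ext e4 e3)
    have hval : ∀ {a a' c c' : V}, Pair Q a a' → Pair Q c c' → Perp Q a a' c → Perp Q a a' c' →
        ∀ p : (F × F) × (F × F),
          Q ((pairMap (F := F) a a').coprod (pairMap c c') p) = p.1.1 * p.1.2 + p.2.1 * p.2.2 := by
      intro a a' c c' Pa Pc hc hc' p
      rw [LinearMap.coprod_apply, pairMap_apply, pairMap_apply, quad_add, quad_lin, quad_lin, Pa.1, Pa.2.1,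
        Pa.2.2, Pc.1, Pc.2.1, Pc.2.2, polar_lin_left, polar_lin_right, polar_lin_right, hc.1, hc.2, hc'.1,
        hc'.2]
      ring
    obtain ⟨M, hMd, hM, hMu⟩ := exists_isometry_map D.hyp.nd _ _ (li P Pu hu hu') (li Pu Pw huw huw')
      (fun p => by rw [hval Pu Pw huw huw', hval P Pu hu hu'])
    set g₀ := mkIsometry M hMd hM
    obtain ⟨c, hc, hfix⟩ := exists_corr D.hyp P g₀
    have h1 := hMu ((1, 0), (0, 0))
    have h2' := hMu ((0, 1), (0, 0))
    have h3 := hMu ((0, 0), (1, 0))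
    have h4 := hMu ((0, 0), (0, 1))
    simp [pairMap_apply] at h1 h2' h3 h4
    refine ⟨⟨c * g₀, omega_of_corr D.hyp hc⟩, ?_, ?_, ?_, ?_⟩ <;>
      change ogVal (c * g₀) *ᵥ _ = _ <;> rw [ogVal_mul, ← Matrix.mulVec_mulVec]
    · rw [show ogVal g₀ *ᵥ e = u from h1, hfix u hu.1 hu.2]
    · rw [show ogVal g₀ *ᵥ f = u' from h2', hfix u' hu'.1 hu'.2]
    · rw [show ogVal g₀ *ᵥ u = w from h3, hfix w hw.1 hw.2]
    · rw [show ogVal g₀ *ᵥ u' = w' from h4, hfix w' hw'.1 hw'.2]
  have hconj : g * t' * g⁻¹ = t := by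
    rw [mul_inv_eq_iff_eq_mul]
    refine gV_ext fun x => ?_
    rw [gV_mul_vec, gV_mul_vec, ht', ht]
    simp only [Matrix.mulVec_sub, Matrix.mulVec_smul, hge, hgf, hgu, hgu']
    rw [← gV_polar g f x, ← gV_polar g e x, ← gV_polar g u' x, ← gV_polar g u x, hge, hgf, hgu, hgu']
  have hy₁ : t' • (g⁻¹ • y₀) = g⁻¹ • y₀ := by
    rw [← hconj, mul_smul, mul_smul] at hy₀
    exact eq_inv_smul_iff.2 hy₀
  have h1 := fixed_card D hall hX (lev_one A.fix_e A.fix_f) hy₀
  have h2' := fixed_card D hall hX L' hy₁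
  have h3 := fix_conj (X := X) g t'
  rw [hconj] at h3
  rw [← h3, ← h2'] at h1
  -- the first set is the core
  have hK : Nat.card {s : V // Perp Q e f s ∧ (1 : F) • (gV t *ᵥ s) = s} =
      Nat.card (core Q e f u u' w w') := Nat.card_congr (Equiv.subtypeEquivRight fun s =>
    ⟨fun h => A.fixed s h.1 (by simpa using h.2),
      fun h => ⟨(mem_core.1 h).1, by rw [one_smul]; exact A.fix_core s h⟩⟩)
  have hKle : q ^ 6 * Nat.card (core Q e f u u' w w') ≤ q ^ 7 := by
    have h5 : Nat.card (((F × F) × (F × F) × (F × F)) × core Q e f u u' w w') ≤ Nat.card V := by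
      refine Nat.card_le_card_of_injective (fun p =>
        p.1.1.1 • e + p.1.1.2 • f + (p.1.2.1.1 • u + p.1.2.1.2 • u') + (p.1.2.2.1 • w + p.1.2.2.2 • w') +
          (p.2 : V)) fun p p' h => ?_
      obtain ⟨k1, k2, k3⟩ := mem_core.1 p.2.2
      obtain ⟨l1, l2, l3⟩ := mem_core.1 p'.2.2
      have hw'w : B w' w = 1 := by rw [QuadraticMap.polar_comm]; exact Pw.2.2
      have e1 := congrArg (B e) h
      have e2 := congrArg (B f) h
      have e3 := congrArg (B u) h
      have e4 := congrArg (B u') h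
      have e5 := congrArg (B w) h
      have e6 := congrArg (B w') h
      simp [QuadraticMap.polar_add_right, QuadraticMap.polar_smul_right, polar_self' P.1, polar_self' P.2.1,
        polar_self' Pu.1, polar_self' Pu.2.1, polar_self' Pw.1, polar_self' Pw.2.1, P.2.2, hfe, Pu.2.2, hu'u,
        Pw.2.2, hw'w, hu.1, hu.2, hu'.1, hu'.2, hw.1, hw.2, hw'.1, hw'.2, huw.1, huw.2, huw'.1, huw'.2,
        QuadraticMap.polar_comm _ u e, QuadraticMap.polar_comm _ u f, QuadraticMap.polar_comm _ u' e,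
        QuadraticMap.polar_comm _ u' f, QuadraticMap.polar_comm _ w e, QuadraticMap.polar_comm _ w f,
        QuadraticMap.polar_comm _ w' e, QuadraticMap.polar_comm _ w' f, QuadraticMap.polar_comm _ w u,
        QuadraticMap.polar_comm _ w u', QuadraticMap.polar_comm _ w' u, QuadraticMap.polar_comm _ w' u',
        k1.1, k1.2, k2.1, k2.2, k3.1, k3.2, l1.1, l1.2, l2.1, l2.2, l3.1, l3.2] at e1 e2 e3 e4 e5 e6
      simp only [e1, e2, e3, e4, e5, e6] at h
      exact Prod.ext (Prod.ext (Prod.ext e2 e1) (Prod.ext (Prod.ext e4 e3) (Prod.ext e6 e5)))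
        (Subtype.ext (add_left_cancel h))
    simp only [Nat.card_prod, natCard_fun_field, h7, Nat.card_eq_fintype_card (α := F)] at h5
    calc q ^ 6 * Nat.card (core Q e f u u' w w') = q * q * (q * q * (q * q)) * Nat.card (core Q e f u u' w w') := by
          ring
      _ ≤ _ := h5
  -- the second holds a plane
  have hplane : q * q ≤ Nat.card {s : V // Perp Q e f s ∧ (-1 : F) • (gV t' *ᵥ s) = s} := by
    rw [← Nat.card_eq_fintype_card, ← Nat.card_prod]
    refine Nat.card_le_card_of_injective (fun p => ⟨p.1 • u + p.2 • u', (hu.smul _).add (hu'.smul _), ?_⟩)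
      fun p p' h => ?_
    · rw [ht']
      simp only [QuadraticMap.polar_add_right, polar_smul_r, hu.1, hu.2, hu'.1, hu'.2, hu'u, Pu.2.2,
        polar_self' Pu.1, polar_self' Pu.2.1]
      module
    · have h' : p.1 • u + p.2 • u' = p'.1 • u + p'.2 • u' := congrArg Subtype.val h
      have e1 := congrArg (B u') h'
      have e2 := congrArg (B u) h'
      simp [QuadraticMap.polar_add_right, polar_smul_r, hu'u, Pu.2.2, polar_self' Pu.1, polar_self' Pu.2.1]
        at e1 e2
      exact Prod.ext e1 e2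
  rw [← h1, hK] at hplane
  have hq2 : 2 ≤ q := Fintype.one_lt_card
  have h9 : q ^ 6 * (q * q) ≤ q ^ 7 := (Nat.mul_le_mul_left _ hplane).trans hKle
  rw [show q ^ 6 * (q * q) = q ^ 7 * q by ring] at h9
  nlinarith [pow_pos (Fintype.card_pos (α := F)) 7]

/-- With one regular orbit and nothing else, no long root element may fix a point. -/
theorem no_regular_only
    (h7 : Fintype.card ι = 7 → (2 : F) ≠ 0)
    (hlow : 4 ≤ q ∨ 9 ≤ Fintype.card ι ∨ ∀ (u u' w w' z : V), Pair Q u u' → Pair Q w w' → Perp Q e f u →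
      Perp Q e f w → Perp Q u u' w → z ∈ core Q e f u u' w w' → Q z = 0 → z = 0)
    (hall : ∀ o : Orb X D, oA D o = perpG Q e f) (hX : Fintype.card X = q ^ d) : False := by
  classical
  obtain ⟨u, u', w, w', Pu, Pw, hu, hu', hw, hw', huw, huw'⟩ := exists_two_pairs D.hyp D.pair
  by_cases h8 : ¬ 8 ≤ Fintype.card ι
  · have h7' : Fintype.card ι = 7 := by have := D.hyp.seven; omega
    exact seven_case D h7' hall hX (h7 h7') Pu Pw hu hu' hw hw' huw huw'
  push Not at h8
  have tsuw : TS Q u w := TS.of_perp Pu Pw.1 huw Pw.ne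
  set x' := elt (Q := Q) u w
  have hx' : ∀ y : X, x' • y ≠ y := by
    intro y h
    obtain ⟨g, hg⟩ := exists_move_point D.hyp D.pair.ne D.pair.1 Pu.ne Pu.1
    have h1 := (((free_iff D).2 (hall (orbOf D (g⁻¹ • y)))).map D.hyp g)
    rw [hg, smul_inv_smul] at h1
    exact elt_ne_one D.hyp tsuw (h1 w tsuw.ok h)
  obtain ⟨ℓ, t, A⟩ : ∃ ℓ t, Anchor D u u' w w' ℓ t := by
    by_cases h2 : (2 : F) = 0
    · exact exists_anchor_even D h2 Pu Pw hu hu' hw hw' huw huw'
    · obtain ⟨ℓ, t, A, -⟩ := exists_anchor_odd D h2 Pu Pw hu hu' hw hw' huw huw'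
      exact ⟨ℓ, t, A⟩
  obtain ⟨y₀, hy₀⟩ := exists_fixed_point D hX A.prime A.ne_char A.pow
  have tL := lev_one (e := e) (f := f) A.fix_e A.fix_f
  have hfixed : ∀ y : X, t • y = y → ∃ s ∈ core Q e f u u' w w', elt (Q := Q) e s • y₀ = y := by
    intro y hy
    obtain ⟨s, hs, rfl⟩ := regular_trans D hall hX y₀ y
    rw [tL.smul_elt D.hyp D.pair.1 hs, hy₀] at hy
    have := regular_uniq D hall ((tL.perp hs).smul 1) hs hy
    rw [one_smul] at this
    exact ⟨s, A.fixed s hs this, rfl⟩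
  obtain ⟨δ, hδ, hδy⟩ := hfixed (x' • y₀) (by rw [← mul_smul, A.comm, mul_smul, hy₀])
  have hδ0 : δ ≠ 0 := fun e0 => hx' y₀ (by rw [← hδy, e0, elt_zero D.hyp D.pair.1, one_smul])
  obtain ⟨s, hsfix, hsδ⟩ := exists_core_move D Pu Pw hu hu' hw hw' huw huw' h8
    (hlow.imp_right (Or.imp_right fun h z hz hzQ => h u u' w w' z Pu Pw hu hw huw hz hzQ)) hδ hδ0
  have sL := lev_one (e := e) (f := f) (hsfix e (by simp)) (hsfix f (by simp))
  have hsK : ∀ z ∈ core Q e f u u' w w', gV s *ᵥ z ∈ core Q e f u u' w w' := by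
    intro z hz
    obtain ⟨z1, z2, z3⟩ := mem_core.1 hz
    refine mem_core.2 ⟨sL.perp z1, ⟨?_, ?_⟩, ?_, ?_⟩
    · conv_lhs => rw [← hsfix u (by simp)]
      rw [gV_polar, z2.1]
    · conv_lhs => rw [← hsfix u' (by simp)]
      rw [gV_polar, z2.2]
    · conv_lhs => rw [← hsfix w (by simp)]
      rw [gV_polar, z3.1]
    · conv_lhs => rw [← hsfix w' (by simp)]
      rw [gV_polar, z3.2]
  have st : s * t = t * s := A.comm' s hsfix hsK
  have sx : s * x' = x' * s := by
    have h := elt_conj D.hyp s tsuw.ok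
    rw [hsfix u (by simp), hsfix w (by simp), mul_inv_eq_iff_eq_mul] at h
    exact h
  have xL : Lev e f 1 x' := by
    refine lev_one ?_ ?_ <;> rw [elt_apply D.hyp tsuw.ok]
    · rw [QuadraticMap.polar_comm _ u e, hu.1, QuadraticMap.polar_comm _ w e, hw.1]; simp
    · rw [QuadraticMap.polar_comm _ u f, hu.2, QuadraticMap.polar_comm _ w f, hw.2]; simp
  obtain ⟨γ, hγ, hγy⟩ := hfixed (s • y₀) (by rw [← mul_smul, ← st, mul_smul, hy₀])
  obtain ⟨hγp, g2, g3⟩ := mem_core.1 hγ
  have hxγ : gV x' *ᵥ γ = γ := by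
    rw [elt_apply D.hyp tsuw.ok, g2.1, QuadraticMap.polar_comm _ w γ, QuadraticMap.polar_comm _ γ w, g3.1]; simp
  have hδp := (mem_core.1 hδ).1
  have h1 : elt (Q := Q) e (gV s *ᵥ δ + γ) • y₀ = elt (Q := Q) e (γ + δ) • y₀ := by
    rw [elt_add D.hyp (tau_ok D (sL.perp hδp)) (tau_ok D hγp), mul_smul, hγy,
      elt_add D.hyp (tau_ok D hγp) (tau_ok D hδp), mul_smul, hδy]
    calc elt (Q := Q) e (gV s *ᵥ δ) • s • y₀ = s • elt (Q := Q) e δ • y₀ := by
          rw [sL.smul_elt D.hyp D.pair.1 hδp, one_smul]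
      _ = x' • s • y₀ := by rw [hδy, ← mul_smul, sx, mul_smul]
      _ = elt (Q := Q) e γ • x' • y₀ := by
          rw [← hγy, xL.smul_elt D.hyp D.pair.1 hγp, one_smul, hxγ]
  have h2 := regular_uniq D hall ((sL.perp hδp).add hγp) (hγp.add hδp) h1
  exact hsδ (by rwa [add_comm γ δ, add_left_inj] at h2)

end Cfsg.Agent.Lie.MinIndexOrth
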