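import Cfsg.Agent.Lib.Lie.MinIndexOrthDense

/-! Over three elements: three orbits through an anisotropic vector in dimension seven. -/

set_option autoImplicit false
set_option linter.unusedSectionVars false
set_option quotPrecheck false

namespace Cfsg.Agent.Lie.MinIndexOrth

open Cfsg Matrix Module MulAction Cfsg.Agent.Classical Cfsg.Agent.Classical.OrthAut

universe u

variable {F : Type*} [Field F] [Fintype F] {ι : Type} [Fintype ι] [DecidableEq ι]
  {Q : QuadraticForm F (ι → F)}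

local notation "V" => (ι → F)
local notation "B" => QuadraticMap.polar ⇑Q
local notation "GG" => (↥(Omega F ⇑Q))
local notation "q" => Fintype.card F
local notation "d" => Fintype.card ι - 2

/-- The vectors of `W` of a value, split along a pair of `W`. -/
theorem wCount_split (H : Hyp Q) {e f : V} (P : Pair Q e f) {a b : V} (Pa : Pair Q a b) (ha : Perp Q e f a)
    (hb : Perp Q e f b) (c : F) :
    wCount Q e f c = q * Nat.card {v : V // Perp Q e f v ∧ Perp Q a b v ∧ Q v = c} + (q - 1) * q ^ (d - 2) := by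
  classical
  set T : Submodule F V := LinearMap.ker (QuadraticMap.polarBilin Q e) ⊓
    LinearMap.ker (QuadraticMap.polarBilin Q f) with hTdef
  set R := Q.comp T.subtype with hR
  have hRa : R ⟨a, ha⟩ = 0 := Pa.1
  have hRb : R ⟨b, hb⟩ = 0 := Pa.2.1
  have hpol : ∀ x y : T, QuadraticMap.polar ⇑R x y = B (x : V) (y : V) := fun x y => rfl
  have hRab : QuadraticMap.polar ⇑R ⟨a, ha⟩ ⟨b, hb⟩ = 1 := by rw [hpol]; exact Pa.2.2
  have h1 := value_split R hRa hRb hRab c
  have h2 := (zeros_split R hRa hRb hRab).2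
  have e0 : Nat.card T = q ^ d := card_perpG H P
  have e1 : Nat.card {v : T // R v = c} = wCount Q e f c :=
    Nat.card_congr
      { toFun := fun v => ⟨v.1.1, v.1.2, v.2⟩
        invFun := fun v => ⟨⟨v.1, v.2.1⟩, v.2.2⟩
        left_inv := fun v => rfl
        right_inv := fun v => rfl }
  have e2 : Nat.card {v : T // (QuadraticMap.polar ⇑R ⟨a, ha⟩ v = 0 ∧
      QuadraticMap.polar ⇑R ⟨b, hb⟩ v = 0) ∧ R v = c} =
      Nat.card {v : V // Perp Q e f v ∧ Perp Q a b v ∧ Q v = c} :=
    Nat.card_congr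
      { toFun := fun v => ⟨v.1.1, v.1.2, v.2.1, v.2.2⟩
        invFun := fun v => ⟨⟨v.1, v.2.1⟩, v.2.2.1, v.2.2.2⟩
        left_inv := fun v => rfl
        right_inv := fun v => rfl }
  have hd : d = 2 + (d - 2) := by have := H.seven; omega
  rw [e0] at h2
  have e3 : Nat.card {v : T // QuadraticMap.polar ⇑R ⟨a, ha⟩ v = 0 ∧
      QuadraticMap.polar ⇑R ⟨b, hb⟩ v = 0} = q ^ (d - 2) := by
    rw [hd, pow_add] at h2
    exact Nat.eq_of_mul_eq_mul_left (by positivity) h2
  rw [e1, e2, e3] at h1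
  exact h1

variable {X : Type u} [MulAction (Omega F ⇑Q) X] [Fintype X] {e f : ι → F} {χ : AddChar F ℂ}
  (D : Set2 Q e f χ)
include D

/-- At most three orbits, or a large class. -/
theorem small_three (hq : q = 3) (h7 : Fintype.card ι = 7) {v : V} (hv : Perp Q e f v) (hvv : Q v ≠ 0)
    (hk : (through X D v).card ≤ 3) (hc : (cls Q e f v).card ≤ 77) : Small X D v := by
  classical
  haveI : CharP F 3 := charP_of_card_eq_prime hq
  have h30 : (3 : F) = 0 := by exact_mod_cast CharP.cast_eq_zero F 3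
  have h2 : (2 : F) ≠ 0 := fun h => one_ne_zero (α := F) (by linear_combination h30 - h)
  have hv0 : v ≠ 0 := fun h0 => hvv (by rw [h0, QuadraticMap.map_zero])
  refine Or.inr (Or.inr fun u u' Pu hu hu' huv hu'v => ?_)
  have hperp : Perp Q u u' v := ⟨huv, hu'v⟩
  set K := perp5 Q e f u u' v
  have hnd : ∀ w ∈ K, w ≠ 0 → ∃ z ∈ K, B w z = 1 := fun w hw hw0 =>
    exists_partner5 D Pu hu hu' hv hperp hw (fun c e0 => by
      have h1 := (mem_perp5.1 hw).2.2
      rw [e0, polar_smul_r, polar_self2, mul_eq_zero] at h1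
      exact hw0 (by rw [e0, h1.resolve_right (mul_ne_zero h2 hvv), zero_smul])) hv0
  obtain ⟨y₀, hy₀, hy₀'⟩ := exists_outside D (u := u) (u' := u') (v := v)
  obtain ⟨b, hb, hb0⟩ : ∃ b ∈ K, Q b ≠ 0 := by
    obtain ⟨z, hz, hyz⟩ := hnd y₀ hy₀ (fun e0 => hy₀' 0 (by rw [e0, zero_smul]))
    by_contra hcon
    push Not at hcon
    rw [QuadraticMap.polar, hcon _ (add_mem hy₀ hz), hcon _ hy₀, hcon _ hz] at hyz
    simp at hyz
  obtain ⟨y, hy, hyb, hy0⟩ : ∃ y ∈ K, B b y = 0 ∧ y ≠ 0 := by
    obtain ⟨y, hy, hy0⟩ := Submodule.exists_mem_ne_zero_of_ne_bot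
      (p := ⨅ i : Fin 6, LinearMap.ker (QuadraticMap.polarBilin Q (![e, f, u, u', v, b] i))) fun e0 => by
      have h := finrank_kernels (Q := Q) ![e, f, u, u', v, b]
      rw [e0, finrank_bot] at h
      omega
    simp only [Submodule.mem_iInf, LinearMap.mem_ker, Fin.forall_fin_succ, IsEmpty.forall_iff, and_true] at hy
    obtain ⟨h1, h2', h3, h4, h5, h6⟩ := hy
    exact ⟨y, mem_perp5.2 ⟨⟨h1, h2'⟩, ⟨h3, h4⟩, h5⟩, h6, hy0⟩
  by_cases hQy : Q y = Q b
  · have hI := inv_three D hk Pu hu hu' huv hu'v hb hy hyb hQy hb0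
    have good : Good X D v u b := by
      intro c
      obtain ⟨n, rfl⟩ : ∃ n : ℕ, (n : F) = c := by
        obtain ⟨z, hz⟩ := (ZMod.ringEquivOfPrime F Nat.prime_three hq).surjective c
        exact ⟨z.val, by rw [← hz, ← map_natCast (ZMod.ringEquivOfPrime F Nat.prime_three hq), ZMod.natCast_zmod_val]⟩
      induction n with
      | zero =>
        rw [Nat.cast_zero, zero_smul]
        refine ⟨⟨Pu.1, polar_zero_r u⟩, fun o _ x hx => ?_⟩
        rw [elt_zero D.hyp Pu.1, gV_one, Matrix.one_mulVec]; exact hx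
      | succ n ih =>
        rw [Nat.cast_succ, add_smul, one_smul]
        exact Inv.add D ih hI
    exact ⟨b, b, good, good, by rw [polar_self2]; exact mul_ne_zero h2 hb0⟩
  exfalso
  obtain ⟨a, ha, ha0, haa⟩ : ∃ a ∈ K, a ≠ 0 ∧ Q a = 0 := by
    by_cases hQy0 : Q y = 0
    · exact ⟨y, hy, hy0, hQy0⟩
    refine ⟨b + y, add_mem hb hy, fun h => ?_, ?_⟩
    · rw [eq_neg_of_add_eq_zero_right h, QuadraticMap.polar_neg_right, polar_self2, neg_eq_zero] at hyb
      exact mul_ne_zero h2 hb0 hyb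
    · have e1 := FiniteField.pow_card_sub_one_eq_one (Q y) hQy0
      have e2 := FiniteField.pow_card_sub_one_eq_one (Q b) hb0
      rw [hq] at e1 e2
      have e3 : (Q y - Q b) * (Q y + Q b) = 0 := by linear_combination e1 - e2
      rw [quad_add, hyb]
      linear_combination (mul_eq_zero.1 e3).resolve_left (sub_ne_zero.2 hQy)
  obtain ⟨z, hz, haz⟩ := hnd a ha ha0
  obtain ⟨a', ha', Pa⟩ : ∃ a' ∈ K, Pair Q a a' := by
    refine ⟨z + (-Q z) • a, add_mem hz (Submodule.smul_mem _ _ ha), haa, ?_, ?_⟩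
    · rw [quad_add_smul, haa, QuadraticMap.polar_comm, haz]; ring
    · rw [QuadraticMap.polar_add_right, haz, polar_smul_r, polar_self' haa, mul_zero, add_zero]
  obtain ⟨a1, a2, a3⟩ := mem_perp5.1 ha
  obtain ⟨b1, b2, b3⟩ := mem_perp5.1 ha'
  have hsplit := wCount_split D.hyp D.pair Pu hu hu' (Q v)
  have hge : Nat.card ({k : F // k ≠ 0} × (F ⊕ {s : F // s ≠ 0})) ≤
      Nat.card {w : V // Perp Q e f w ∧ Perp Q u u' w ∧ Q w = Q v} := by
    have hk2 : ∀ k : {k : F // k ≠ 0}, (k : F) * k = 1 := fun k => by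
      have h := FiniteField.pow_card_sub_one_eq_one (k : F) k.2
      rw [hq, show 3 - 1 = 2 from rfl, sq] at h
      exact h
    let vec : {k : F // k ≠ 0} × (F ⊕ {s : F // s ≠ 0}) → V := fun p =>
      (p.1 : F) • v + Sum.elim (fun s : F => s • a) (fun s : {s : F // s ≠ 0} => s.1 • a') p.2
    refine Nat.card_le_card_of_injective (fun p => ⟨vec p, ?_, ?_, ?_⟩) ?_
    · rcases p with ⟨k, s | s⟩
      · exact (hv.smul _).add (a1.smul _)
      · exact (hv.smul _).add (b1.smul _)
    · rcases p with ⟨k, s | s⟩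
      · exact (hperp.smul _).add (a2.smul _)
      · exact (hperp.smul _).add (b2.smul _)
    · rcases p with ⟨k, s | s⟩ <;> simp only [vec, Sum.elim_inl, Sum.elim_inr, quad_add_smul, QuadraticMap.map_smul,
        polar_smul_l, a3, b3, haa, Pa.2.1, smul_eq_mul, hk2, mul_zero, add_zero, one_mul]
    · intro p p' h
      have h' : vec p = vec p' := congrArg Subtype.val h
      have h1 := congrArg (B v) h'
      have h3 := congrArg (B a') h'
      have h4 := congrArg (B a) h'
      rcases p with ⟨k, s | s⟩ <;> rcases p' with ⟨k', s' | s'⟩ <;>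
        simp only [vec, Sum.elim_inl, Sum.elim_inr, QuadraticMap.polar_add_right, polar_smul_r, a3, b3, polar_self2,
          haa, Pa.2.1, Pa.2.2, QuadraticMap.polar_comm _ a' a, QuadraticMap.polar_comm _ a v,
          QuadraticMap.polar_comm _ a' v, mul_zero, add_zero, zero_add, mul_one] at h1 h3 h4
      · rw [Subtype.ext (mul_right_cancel₀ (mul_ne_zero h2 hvv) h1), h3]
      · exact absurd h4.symm s'.2
      · exact absurd h4 s.2
      · rw [Subtype.ext (mul_right_cancel₀ (mul_ne_zero h2 hvv) h1), Subtype.ext h4]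
  have hcard : Nat.card ({k : F // k ≠ 0} × (F ⊕ {s : F // s ≠ 0})) = 10 := by
    have hne : Nat.card {k : F // k ≠ 0} = 2 := by
      rw [Nat.card_eq_fintype_card, Fintype.card_subtype_compl, Fintype.card_subtype_eq, hq]
    rw [Nat.card_prod, Nat.card_sum, hne, Nat.card_eq_fintype_card, hq]
  have hle : wCount Q e f (Q v) ≤ (cls Q e f v).card := by
    rw [wCount, Nat.card_eq_fintype_card, Fintype.card_subtype]
    refine Finset.card_le_card fun w hw => ?_
    obtain ⟨h1, h2⟩ := (Finset.mem_filter.1 hw).2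
    exact mem_cls.2 ⟨fun e0 => hvv (by rw [← h2, e0, QuadraticMap.map_zero]), h1, 1, one_ne_zero,
      by rw [h2, one_pow, one_mul]⟩
  rw [hsplit, hq, h7] at hle
  omega

end Cfsg.Agent.Lie.MinIndexOrth
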