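import Cfsg.Agent.Lib.Lie.MinIndexOrthExact

/-! Tight numbers: the big orbits are exactly the maximal totally singular spaces, nothing else is left, and two
conjugate tori fix different numbers of points. -/

set_option autoImplicit false
set_option linter.unusedSectionVars false
set_option quotPrecheck false

namespace Cfsg.Agent.Lie.MinIndexOrth

open Cfsg Matrix Module MulAction Cfsg.Agent.Classical Cfsg.Agent.Classical.OrthAut

universe u

variable {F : Type*} [Field F] [Fintype F] {ι : Type} [Fintype ι] [DecidableEq ι]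
  {Q : QuadraticForm F (ι → F)}

local notation "V" => (ι → F)
local notation "B" => QuadraticMap.polar ⇑Q
local notation "GG" => (↥(Omega F ⇑Q))
local notation "q" => Fintype.card F
local notation "d" => Fintype.card ι - 2

/-- A set of non-zero vectors closed under scalars is a union of punctured lines. -/
theorem dvd_card_of_smul (S : Finset (ι → F)) (h0 : ∀ a ∈ S, a ≠ 0)
    (h : ∀ a ∈ S, ∀ c : F, c ≠ 0 → c • a ∈ S) : q - 1 ∣ S.card := by
  classical
  set C : Finset F := (Finset.univ : Finset F).erase 0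
  set P : V → Finset V := fun a => C.image fun c => c • a
  have hP : ∀ a ∈ S, (P a).card = q - 1 := fun a ha => by
    rw [Finset.card_image_of_injective _ (smul_left_injective F (h0 a ha)),
      Finset.card_erase_of_mem (Finset.mem_univ _), Finset.card_univ]
  have key : ∀ a : V, ∀ c : F, c ≠ 0 → P (c • a) = P a := by
    intro a c hc
    ext x
    simp only [P, C, Finset.mem_image, Finset.mem_erase, Finset.mem_univ, and_true]
    constructor
    · rintro ⟨k, hk, rfl⟩; exact ⟨k * c, mul_ne_zero hk hc, by rw [mul_smul]⟩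
    · rintro ⟨k, hk, rfl⟩
      exact ⟨k * c⁻¹, mul_ne_zero hk (inv_ne_zero hc), by rw [smul_smul, mul_assoc, inv_mul_cancel₀ hc, mul_one]⟩
  rw [Finset.card_eq_sum_card_image P S, Finset.sum_const_nat (m := q - 1) ?_]
  · exact Dvd.intro_left _ rfl
  intro y hy
  obtain ⟨a, ha, rfl⟩ := Finset.mem_image.1 hy
  rw [← hP a ha]
  congr 1
  ext x
  simp only [Finset.mem_filter]
  constructor
  · rintro ⟨-, hx⟩
    rw [← hx]
    exact Finset.mem_image.2 ⟨1, Finset.mem_erase.2 ⟨one_ne_zero, Finset.mem_univ _⟩, one_smul _ _⟩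
  · intro hx
    obtain ⟨c, hc, rfl⟩ := Finset.mem_image.1 hx
    exact ⟨h a ha c (Finset.mem_erase.1 hc).1, key a c (Finset.mem_erase.1 hc).1⟩

variable {X : Type u} [MulAction (Omega F ⇑Q) X] [Fintype X] {e f : ι → F} {χ : AddChar F ℂ}

theorem Full.smul (H : Hyp Q) {a : V} {y : X} (ha : Q a = 0) (h : Full Q a y) {c : F} (hc : c ≠ 0) :
    Full Q (c • a) y := by
  intro w hw
  have hw' : OK Q a w := ⟨ha, (mul_eq_zero.1 (by rw [← polar_smul_l]; exact hw.2)).resolve_left hc⟩
  rw [elt_smul_left H hw']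
  exact h _ (hw'.smul c)

variable (D : Set2 Q e f χ)
include D

/-- Points fixed by a radical, counted by the lines they fix. -/
theorem full_count [MulAction.IsPretransitive (Omega F ⇑Q) X] [Nonempty X] {Bd a₀ : ℕ}
    (hBd : (q - 1) * Bd = Nat.card {a : V // Q a = 0} - 1)
    (huni : Nat.card {y : X // Full Q e y} = a₀) :
    Fintype.card X ∣ Bd * a₀ := by
  classical
  set A0 : Finset V := Finset.univ.filter fun a => a ≠ 0 ∧ Q a = 0
  have hA0 : A0.card = Nat.card {a : V // Q a = 0} - 1 := by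
    rw [Nat.card_eq_fintype_card, Fintype.card_subtype,
      ← Finset.card_erase_of_mem (show (0 : V) ∈ Finset.univ.filter fun a : V => Q a = 0 by simp)]
    congr 1
    ext a
    simp [A0]
  obtain ⟨y₀⟩ := ‹Nonempty X›
  set c := (A0.filter fun a => Full Q a y₀).card
  have h1 : ∀ a ∈ A0, ((Finset.univ : Finset X).filter fun y => Full Q a y).card = a₀ := by
    intro a ha
    obtain ⟨ha0, haa⟩ := (Finset.mem_filter.1 ha).2
    obtain ⟨g, rfl⟩ := exists_move_point D.hyp D.pair.ne D.pair.1 ha0 haa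
    rw [← huni, Nat.card_eq_fintype_card, Fintype.card_subtype]
    refine (Finset.card_bij (fun y _ => g • y) ?_ (fun a _ b _ h => smul_left_cancel g h) ?_).symm
    · exact fun y hy => Finset.mem_filter.2 ⟨Finset.mem_univ _,
        ((Finset.mem_filter.1 hy).2).map D.hyp g⟩
    · intro z hz
      refine ⟨g⁻¹ • z, Finset.mem_filter.2 ⟨Finset.mem_univ _, ?_⟩, smul_inv_smul g z⟩
      have := ((Finset.mem_filter.1 hz).2).map D.hyp g⁻¹
      rwa [gV_inv_cancel] at this
  have h2 : ∀ y : X, (A0.filter fun a => Full Q a y).card = c := by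
    intro y
    obtain ⟨g, rfl⟩ := MulAction.exists_smul_eq (Omega F ⇑Q) y₀ y
    refine (Finset.card_bij (fun a _ => gV g *ᵥ a) ?_ (fun a _ b _ h => gV_injective g h) ?_).symm
    · intro a ha
      obtain ⟨ha, hfull⟩ := Finset.mem_filter.1 ha
      obtain ⟨ha0, haa⟩ := (Finset.mem_filter.1 ha).2
      exact Finset.mem_filter.2 ⟨Finset.mem_filter.2 ⟨Finset.mem_univ _,
        fun e0 => ha0 (gV_injective g (e0.trans (Matrix.mulVec_zero _).symm)), by rw [gV_quad, haa]⟩,
        hfull.map D.hyp g⟩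
    · intro b hb
      obtain ⟨hb, hfull⟩ := Finset.mem_filter.1 hb
      obtain ⟨hb0, hbb⟩ := (Finset.mem_filter.1 hb).2
      refine ⟨gV g⁻¹ *ᵥ b, Finset.mem_filter.2 ⟨Finset.mem_filter.2 ⟨Finset.mem_univ _,
        fun e0 => hb0 (gV_injective g⁻¹ (e0.trans (Matrix.mulVec_zero _).symm)), by rw [gV_quad, hbb]⟩,
        ?_⟩, gV_cancel_inv g b⟩
      have := hfull.map D.hyp g⁻¹
      rwa [inv_smul_smul] at this
  obtain ⟨c', hc'⟩ : q - 1 ∣ c := dvd_card_of_smul _
    (fun a ha => (Finset.mem_filter.1 (Finset.mem_filter.1 ha).1).2.1) fun a ha k hk => by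
      obtain ⟨ha, hfull⟩ := Finset.mem_filter.1 ha
      obtain ⟨ha0, haa⟩ := (Finset.mem_filter.1 ha).2
      exact Finset.mem_filter.2 ⟨Finset.mem_filter.2 ⟨Finset.mem_univ _, smul_ne_zero hk ha0,
        by rw [QuadraticMap.map_smul, haa, smul_zero]⟩, hfull.smul D.hyp haa hk⟩
  refine ⟨c', Nat.eq_of_mul_eq_mul_left (show 0 < q - 1 from Nat.sub_pos_of_lt Fintype.one_lt_card) ?_⟩
  rw [← mul_assoc, hBd, ← hA0, mul_left_comm, ← hc']
  calc A0.card * a₀ = ∑ _a ∈ A0, a₀ := by rw [Finset.sum_const, smul_eq_mul]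
    _ = ∑ a ∈ A0, ((Finset.univ : Finset X).filter fun y => Full Q a y).card :=
      (Finset.sum_congr rfl h1).symm
    _ = ∑ y : X, (A0.filter fun a => Full Q a y).card := by
      simp only [Finset.card_eq_sum_ones, Finset.sum_filter]
      rw [Finset.sum_comm]
    _ = ∑ _y : X, c := Finset.sum_congr rfl fun y _ => h2 y
    _ = _ := by rw [Finset.sum_const, smul_eq_mul, Finset.card_univ]

variable {r : ℕ}
  (hR : ∀ U : Submodule F (ι → F), (∀ x ∈ U, Perp Q e f x ∧ Q x = 0) → finrank F U ≤ r)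
include hR

set_option maxHeartbeats 1000000 in
/-- Tight numbers exclude totally singular orbits. -/
theorem no_big_tight [MulAction.IsPretransitive (Omega F ⇑Q) X] {Z₀ Bd N σ : ℕ} {c : F}
    (hc : c ≠ 0) (hc1 : c * c ≠ 1) (hr : 2 ≤ r)
    (hX : Fintype.card X < Bd)
    (hS : ∀ v, Perp Q e f v → Q v ≠ 0 → Small X D v)
    (hZ : wCount Q e f 0 = q * Z₀ + (q - 1) * q ^ (d - 2))
    (hBd : (q - 1) * Bd = Nat.card {a : V // Q a = 0} - 1)
    (hN : (wCount Q e f 0 - 1) * (q * (Z₀ - 1)) = N * ((q ^ r - 1) * (q ^ r - q)))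
    (hhalf : Bd * q ^ r ≤ 2 * (N * ((q ^ r - 1) * (q ^ r - q))))
    (hσ : Bd = N * q ^ r + σ) (hσ2 : σ * σ < 4 * (N * q ^ r)) (hσle : σ ≤ N * q ^ r)
    (hσd : σ ≤ q ^ d) (hσcls : ∀ v, Perp Q e f v → v ≠ 0 → σ ≤ (cls Q e f v).card)
    (hNp : (N : F) ≠ 0) : NoBig X D := by
  classical
  intro o₀ hs₀ v₀ hv₀ r₀ hr₀ h₀
  have hq : 2 ≤ q := Fintype.one_lt_card
  set R := q ^ r with hRd
  have hqR : q * q ≤ R := by
    rw [← sq]; exact Nat.pow_le_pow_right (by omega) hr
  have hqq : q * 2 ≤ q * q := Nat.mul_le_mul_left _ hq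
  have hall := all_card D hZ
  rw [hN] at hall
  have hbig : ∀ {o : Orb X D}, IsSing D o → ∀ {v r}, v ∈ oA D o → r ∈ oA D o → TS Q v r →
      IsBig D R o ∧ ∀ (k : F), ∀ x ∈ oA D o, k • x ∈ oA D o := fun {_} hs {_ _} hv hr' ht =>
    big_of_pair D hR hX (by rw [hall]; exact hhalf) hs hv hr' ht
  have hTS : ∀ {o : Orb X D}, IsBig D R o → ∃ v r, v ∈ oA D o ∧ r ∈ oA D o ∧ TS Q v r := by
    intro o ho
    by_cases h0 : ∀ x ∈ oA D o, x = 0
    · exfalso
      have : Nat.card (oA D o) = 1 := by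
        rw [(AddSubgroup.eq_bot_iff_forall _).2 h0, AddSubgroup.card_bot]
      rw [ho.2] at this; omega
    push Not at h0
    obtain ⟨v, hv, hv0⟩ := h0
    by_cases hl : ∀ x ∈ oA D o, ∃ k : F, x = k • v
    · exfalso
      have := line_card D (o := o) ⟨v, hv0, hl⟩
      rw [ho.2] at this; omega
    push Not at hl
    obtain ⟨x, hx, hxv⟩ := hl
    refine ⟨v, x, hv, hx, ho.1 v hv, ho.1 x hx, ?_, fun s t hst => ?_⟩
    · have := ho.1 _ ((oA D o).add_mem hv hx)
      rwa [quad_add, ho.1 v hv, ho.1 x hx, zero_add, zero_add] at this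
    · by_cases ht : t = 0
      · rw [ht, zero_smul, add_zero, smul_eq_zero] at hst; exact ⟨hst.resolve_right hv0, ht⟩
      · exfalso
        refine hxv (-(t⁻¹ * s)) ?_
        linear_combination (norm := skip) t⁻¹ • hst
        match_scalars <;> field_simp <;> ring
  have hcl : ∀ {o : Orb X D}, IsBig D R o → ∀ (k : F), ∀ x ∈ oA D o, k • x ∈ oA D o := fun {o} ho => by
    obtain ⟨v, x, hv, hx, ht⟩ := hTS ho
    exact (hbig ho.1 hv hx ht).2
  set T := (Finset.univ : Finset (Orb X D)).filter fun o => IsBig D R o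
  have hT : ∀ {o}, o ∈ T ↔ IsBig D R o := fun {o} => by simp [T]
  have ho₀ := (hbig hs₀ hv₀ hr₀ h₀).1
  -- one orbit through each totally singular pair
  set mult : V × V → ℕ := fun p => (T.filter fun o => p.1 ∈ oA D o ∧ p.2 ∈ oA D o).card
  have hp₀ : (v₀, r₀) ∈ allPairs Q e f := mem_allPairs.2 ⟨oA_perp D hv₀, oA_perp D hr₀, h₀⟩
  have hmono : ∀ p ∈ allPairs Q e f, ∀ p' ∈ allPairs Q e f, mult p ≤ mult p' := by
    intro p hp p' hp'
    obtain ⟨h1, h2, h3⟩ := mem_allPairs.1 hp
    obtain ⟨h1', h2', h3'⟩ := mem_allPairs.1 hp'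
    obtain ⟨a, g, L, e1, e2⟩ := exists_move_two D.hyp D.pair h1 h2 h3 h1' h2' h3'
    refine Finset.card_le_card_of_injOn (oMove D L) (fun o ho => ?_) (oMove_injective D L).injOn
    rw [Finset.mem_coe, Finset.mem_filter, hT] at ho ⊢
    exact ⟨⟨sing_move D L ho.1.1, by rw [card_oMove D L, ho.1.2]⟩,
      by rw [← e1]; exact L.mem_oA D ho.2.1, by rw [← e2]; exact L.mem_oA D ho.2.2⟩
  set μ := mult (v₀, r₀)
  have hμ : ∀ p ∈ allPairs Q e f, mult p = μ := fun p hp =>
    le_antisymm (hmono p hp _ hp₀) (hmono _ hp₀ p hp)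
  have hdc : T.card * ((R - 1) * (R - q)) = (allPairs Q e f).card * μ := by
    calc T.card * ((R - 1) * (R - q)) = ∑ o ∈ T, (pairsIn D o).card := by
          rw [Finset.sum_congr rfl fun o ho => big_pairs D hR (hT.1 ho) (hcl (hT.1 ho)),
            Finset.sum_const, smul_eq_mul]
      _ = ∑ o ∈ T, ((allPairs Q e f).filter fun p => p.1 ∈ oA D o ∧ p.2 ∈ oA D o).card := by
          refine Finset.sum_congr rfl fun o _ => congrArg Finset.card (Finset.ext fun p => ?_)
          rw [mem_pairsIn, Finset.mem_filter, mem_allPairs]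
          exact ⟨fun ⟨a, b, c⟩ => ⟨⟨oA_perp D a, oA_perp D b, c⟩, a, b⟩, fun ⟨⟨_, _, c⟩, a, b⟩ => ⟨a, b, c⟩⟩
      _ = ∑ p ∈ allPairs Q e f, mult p := by
          simp only [mult, Finset.card_eq_sum_ones, Finset.sum_filter]
          rw [Finset.sum_comm]
      _ = _ := by rw [Finset.sum_const_nat hμ]
  have hpos : 0 < (R - 1) * (R - q) := Nat.mul_pos (by omega) (by omega)
  have hTN : T.card = μ * N := by
    rw [hall] at hdc
    refine Nat.eq_of_mul_eq_mul_right hpos ?_
    rw [hdc]; ring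
  have hsumT : ∑ o ∈ T, Nat.card (oA D o) = T.card * R := by
    rw [Finset.sum_congr rfl fun o ho => (hT.1 ho).2, Finset.sum_const, smul_eq_mul]
  have hμpos : 0 < μ := Finset.card_pos.2 ⟨o₀, Finset.mem_filter.2 ⟨hT.2 ho₀, hv₀, hr₀⟩⟩
  have hμ1 : μ = 1 := by
    by_contra hne
    have h1 : 2 * (N * R) ≤ T.card * R := by
      rw [hTN, mul_assoc μ]; exact Nat.mul_le_mul_right _ (by omega)
    have := sum_le_points D T
    omega
  rw [hμ1, one_mul] at hTN
  set rest := (Finset.univ : Finset (Orb X D)).filter fun o => ¬ IsBig D R o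
  have hsplit : Fintype.card X = N * R + ∑ o ∈ rest, Nat.card (oA D o) := by
    rw [card_points D, ← hTN, ← hsumT]
    exact (Finset.sum_filter_add_sum_filter_not _ _ _).symm
  have hrest : ∑ o ∈ rest, Nat.card (oA D o) < σ := by omega
  -- nothing else
  have hzero : ∀ o ∈ rest, ∀ x ∈ oA D o, x = 0 := by
    intro o ho v hv
    by_contra hv0
    have hsingle := Finset.single_le_sum (f := fun o => Nat.card (oA D o)) (fun _ _ => Nat.zero_le _) ho
    rcases kinds D hS o with h | h | ⟨h1, a, ha, b, hb, hts⟩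
    · rw [card_perp_orbit D h] at hsingle; omega
    swap
    · exact (Finset.mem_filter.1 ho).2 (hbig h1 ha hb hts).1
    have hvp := oA_perp D hv
    have hsub : cls Q e f v ⊆ rest.biUnion fun o' => Finset.univ.filter fun w => w ∈ oA D o' ∧ w ≠ 0 := by
      intro w hw
      obtain ⟨hw0, hwp, k, hk, hkv⟩ := mem_cls.1 hw
      obtain ⟨a, g, L, hg⟩ := exists_scale D.hyp D.pair hk
      have hv'0 : a⁻¹ • (gV g *ᵥ v) ≠ 0 := smul_ne_zero (inv_ne_zero L.1)
        fun h0 => hv0 (gV_injective g (h0.trans (Matrix.mulVec_zero _).symm))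
      obtain ⟨g', M, hk'⟩ := exists_move_one D.hyp D.pair ((L.perp hvp).smul _) hv'0 hwp hw0
        (by rw [hg v hvp, hkv])
      refine Finset.mem_biUnion.2 ⟨oMove D M (oMove D L o), Finset.mem_filter.2 ⟨Finset.mem_univ _, fun hb => ?_⟩,
        Finset.mem_filter.2 ⟨Finset.mem_univ _, ?_, hw0⟩⟩
      · have hc2 := hb.2
        rw [card_oMove D M, card_oMove D L] at hc2
        have := line_card D h
        omega
      · have := M.mem_oA D (L.mem_oA D hv)
        rwa [inv_one, one_smul, hk'] at this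
    have h2 : (cls Q e f v).card ≤ ∑ o' ∈ rest, Nat.card (oA D o') := by
      refine (Finset.card_le_card hsub).trans (Finset.card_biUnion_le.trans (Finset.sum_le_sum fun o' _ => ?_))
      rw [Nat.card_eq_fintype_card, Fintype.card_subtype]
      exact Finset.card_le_card fun w hw =>
        Finset.mem_filter.2 ⟨Finset.mem_univ _, (Finset.mem_filter.1 hw).2.1⟩
    have := hσcls v hvp hv0
    omega
  have hfull : Nat.card {y : X // Full Q e y} = ∑ o ∈ rest, Nat.card (oA D o) := by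
    rw [show Nat.card {y : X // Full Q e y} = Nat.card {y : X // ¬ IsBig D R (orbOf D y)} from
      Nat.card_congr (Equiv.subtypeEquivRight fun y => ?_), card_pred D (fun o => ¬ IsBig D R o)]
    · refine Finset.sum_congr ?_ fun _ _ => rfl
      exact Finset.ext fun o => by simp [rest]
    · constructor
      · intro hy hb
        have hS' : S D y = perpG Q e f := le_antisymm (S_le D y) fun s hs => ⟨hs, hy s (tau_ok D hs)⟩
        have hb2 := hb.2
        rw [show oA D (orbOf D y) = ann Q e f χ (S D y) from rfl, hS', ann_perpG D, AddSubgroup.card_bot] at hb2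
        omega
      · exact fun hy => full_of_bot D (hzero _ (Finset.mem_filter.2 ⟨Finset.mem_univ _, hy⟩))
  haveI : Nonempty X := ⟨(orbOf_surj D o₀).choose⟩
  set a₀ := ∑ o ∈ rest, Nat.card (oA D o)
  have ha₀ : a₀ = 0 := by
    have hdvd := full_count D hBd hfull
    rw [hsplit, hσ] at hdvd
    obtain ⟨b, hb⟩ : ∃ b, σ = a₀ + b := ⟨σ - a₀, by omega⟩
    have h1 : N * R + a₀ ∣ a₀ * b := by
      have h2 : (N * R + σ) * a₀ = (N * R + a₀) * a₀ + a₀ * b := by rw [hb]; ring
      rw [h2] at hdvd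
      exact (Nat.dvd_add_right (Dvd.intro _ rfl)).1 hdvd
    by_contra hne
    have h3 := Nat.le_of_dvd (Nat.mul_pos (Nat.pos_of_ne_zero hne) (by omega)) h1
    have h4 : 4 * (a₀ * b) ≤ σ * σ := by
      rw [hb]; zify; nlinarith [sq_nonneg ((a₀ : ℤ) - b)]
    omega
  have allbig : ∀ o : Orb X D, IsBig D R o := by
    intro o
    by_contra hb
    have := Finset.single_le_sum (f := fun o => Nat.card (oA D o)) (fun _ _ => Nat.zero_le _)
      (show o ∈ rest from Finset.mem_filter.2 ⟨Finset.mem_univ _, hb⟩)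
    have : 0 < Nat.card (oA D o) := Nat.card_pos
    omega
  have hcardOrb : Nat.card (Orb X D) = N := by
    rw [Nat.card_eq_fintype_card, ← hTN, ← Finset.card_univ]
    exact congrArg Finset.card (Finset.ext fun o => by simp [T, allbig o])
  have same : ∀ o o' : Orb X D, (∀ x, x ∈ oA D o → x ∈ oA D o') → o = o' := by
    intro o o' h
    obtain ⟨v, x, hv, hx, ht⟩ := hTS (allbig o)
    have h1 := hμ (v, x) (mem_allPairs.2 ⟨oA_perp D hv, oA_perp D hx, ht⟩)
    rw [hμ1] at h1
    exact Finset.card_le_one.1 (le_of_eq h1) o (Finset.mem_filter.2 ⟨hT.2 (allbig o), hv, hx⟩)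
      o' (Finset.mem_filter.2 ⟨hT.2 (allbig o'), h v hv, h x hx⟩)
  -- the torus of the pair fixes one point in each orbit
  have hc2 : c * c ≠ 0 := mul_ne_zero hc hc
  have hsub : c * c - 1 ≠ 0 := sub_ne_zero.2 hc1
  obtain ⟨t, ht⟩ := exists_torus D.hyp D.pair hc
  have htw : ∀ w, Perp Q e f w → gV t *ᵥ w = w := fun w hw => by rw [ht, hw.1, hw.2]; simp
  have L : Lev e f (c * c) t := by
    refine ⟨hc2, ?_, ?_⟩ <;> rw [ht]
    · rw [polar_self' D.pair.1, QuadraticMap.polar_comm _ f e, D.pair.2.2, mul_zero, zero_smul, add_zero, mul_one]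
      module
    · rw [polar_self' D.pair.2.1, D.pair.2.2, mul_zero, zero_smul, add_zero, mul_one]
      module
  have hstab : ∀ o, oMove D L o = o := fun o => (same o _ fun x hx => by
    have h1 := L.mem_oA D (hcl (allbig o) (c * c) x hx)
    rwa [htw _ (oA_perp D (hcl (allbig o) (c * c) x hx)), inv_smul_smul₀ hc2] at h1).symm
  have hScl : ∀ (o : Orb X D) (k : F), ∀ s ∈ oS D o, k • s ∈ oS D o := by
    intro o k s hs
    obtain ⟨hsp, hs'⟩ := (mem_oS D).1 hs
    refine (mem_oS D).2 ⟨hsp.smul k, fun v hv => ?_⟩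
    rw [polar_smul_r, ← polar_smul_l]
    exact hs' _ (hcl (allbig o) k v hv)
  have hfixt : Nat.card {y : X // t • y = y} = N := by
    rw [← hcardOrb]
    refine Nat.card_eq_of_bijective (fun y => orbOf D y.1) ⟨?_, ?_⟩
    · rintro ⟨y, hy⟩ ⟨y', hy'⟩ h
      obtain ⟨s, hs, rfl⟩ := (orbOf_eq D).1 h
      refine Subtype.ext ?_
      show y = elt (Q := Q) e s • y
      rw [L.smul_elt D.hyp D.pair.1 hs, hy, htw s hs] at hy'
      have h1 : (c * c - 1) • s ∈ S D y := ⟨hs.smul _, by
        rw [show (c * c - 1) • s = -s + (c * c) • s by module,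
          elt_add D.hyp (tau_ok D hs.neg) (tau_ok D (hs.smul _)), mul_smul, hy',
          elt_neg D.hyp (tau_ok D hs), inv_smul_smul]⟩
      have h2 := hScl (orbOf D y) (c * c - 1)⁻¹ _ h1
      rw [oS_orbOf, inv_smul_smul₀ hsub] at h2
      exact h2.2.symm
    · intro o
      obtain ⟨y, rfl⟩ := orbOf_surj D o
      have h1 : orbOf D y = orbOf D (t • y) := by rw [← oMove_orbOf D L, hstab]
      obtain ⟨w, hw, hwy⟩ := (orbOf_eq D).1 h1
      have hs : Perp Q e f ((-(c * c - 1)⁻¹) • w) := hw.smul _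
      refine ⟨⟨elt (Q := Q) e ((-(c * c - 1)⁻¹) • w) • y, ?_⟩, ((orbOf_eq D).2 ⟨_, hs, rfl⟩).symm⟩
      rw [L.smul_elt D.hyp D.pair.1 hs, htw _ hs, ← hwy, ← mul_smul,
        ← elt_add D.hyp (tau_ok D (hs.smul _)) (tau_ok D hw)]
      refine congrArg (fun z => elt (Q := Q) e z • y) ?_
      have hk := mul_inv_cancel₀ hsub
      match_scalars
      linear_combination -hk
  -- a conjugate torus fixes a multiple of the characteristic
  obtain ⟨u, u', w, w', Pu, Pw, hu, hu', hw, hw', huw, huw'⟩ := exists_two_pairs D.hyp D.pair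
  obtain ⟨t', ht'⟩ := exists_torus D.hyp Pu hc
  obtain ⟨g, hge, hgf⟩ := exists_pair_move D.hyp D.pair Pu Pw huw huw'
  have hfix' : Nat.card {y : X // t' • y = y} = N := by
    rw [← torus_conj hge hgf ht ht', ← fix_conj, hfixt]
  have L' : Lev e f 1 t' := by
    refine ⟨one_ne_zero, ?_, ?_⟩ <;> rw [ht']
    · rw [QuadraticMap.polar_comm _ u' e, hu'.1, QuadraticMap.polar_comm _ u e, hu.1]; simp
    · rw [QuadraticMap.polar_comm _ u' f, hu'.2, QuadraticMap.polar_comm _ u f, hu.2]; simp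
  obtain ⟨p, hp⟩ := CharP.exists F
  obtain ⟨-, hprime, -⟩ := FiniteField.card F p
  haveI : Fact p.Prime := ⟨hprime⟩
  refine hNp ((CharP.cast_eq_zero_iff F p N).2 ?_)
  rw [← hfix', Nat.card_eq_fintype_card, Fintype.card_subtype,
    Finset.card_eq_sum_card_fiberwise (f := orbOf D) (t := Finset.univ) (fun y _ => Finset.mem_univ _)]
  refine Finset.dvd_sum fun o _ => ?_
  by_cases hinv : oMove D L' o = o
  swap
  · rw [Finset.card_eq_zero.2 (Finset.filter_eq_empty_iff.2 fun y hy hyo => hinv ?_)]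
    · exact dvd_zero p
    · rw [← hyo, oMove_orbOf, (Finset.mem_filter.1 hy).2]
  -- a character of the orbit orthogonal to the pair
  have hA : ∀ x ∈ oA D o, gV t' *ᵥ x ∈ oA D o := fun x hx => by
    have := L'.mem_oA D hx
    rwa [inv_one, one_smul, hinv] at this
  obtain ⟨z, hz, hz0, hzu, hzu'⟩ : ∃ z ∈ oA D o, z ≠ 0 ∧ B u z = 0 ∧ B u' z = 0 := by
    obtain ⟨v, x, hv, hx, hts⟩ := hTS (allbig o)
    have hq0 : ∀ y ∈ oA D o, Q y = 0 := (allbig o).1
    set Δ : V → V := fun y => gV t' *ᵥ y - y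
    have hΔA : ∀ y ∈ oA D o, Δ y ∈ oA D o := fun y hy => (oA D o).sub_mem (hA y hy) hy
    have hΔ : ∀ y, Δ y = ((c * c - 1) * B u' y) • u + (((c * c)⁻¹ - 1) * B u y) • u' := fun y => by
      simp only [Δ, ht']; abel
    have hinv1 : (c * c)⁻¹ - 1 ≠ 0 := fun h => hc1 (by rw [sub_eq_zero, inv_eq_one] at h; exact h)
    -- some character meets only one of the two
    obtain ⟨y, hy, hy0, hyu⟩ : ∃ y ∈ oA D o, y ≠ 0 ∧ B u y = 0 := by
      by_cases h1 : B u v = 0
      · exact ⟨v, hv, hts.left_ne, h1⟩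
      refine ⟨x + (-(B u x / B u v)) • v, (oA D o).add_mem hx (hcl (allbig o) _ v hv), fun h0 => ?_, ?_⟩
      · exact one_ne_zero (α := F) (hts.2.2.2 (-(B u x / B u v)) 1 (by rw [one_smul, add_comm]; exact h0)).2
      · rw [QuadraticMap.polar_add_right, polar_smul_r, neg_mul, div_mul_cancel₀ _ h1, add_neg_cancel]
    by_cases h1 : B u' y = 0
    · exact ⟨y, hy, hy0, hyu, h1⟩
    have huA : u ∈ oA D o := by
      have h2 := hcl (allbig o) ((c * c - 1) * B u' y)⁻¹ _ (hΔA y hy)
      rwa [hΔ, hyu, mul_zero, zero_smul, add_zero, inv_smul_smul₀ (mul_ne_zero hsub h1)] at h2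
    have huB : ∀ a ∈ oA D o, B u a = 0 := fun a ha => by
      have h2 := hq0 _ ((oA D o).add_mem huA ha)
      rwa [quad_add, hq0 u huA, hq0 a ha, zero_add, zero_add] at h2
    have hu'u : B u' u = 1 := by rw [QuadraticMap.polar_comm]; exact Pu.2.2
    obtain ⟨a, ha, hau⟩ : ∃ a ∈ oA D o, ∀ k : F, a ≠ k • u := by
      by_contra hcon
      push Not at hcon
      have := line_card D (o := o) ⟨u, Pu.ne, hcon⟩
      rw [(allbig o).2] at this; omega
    refine ⟨a + (-B u' a) • u, (oA D o).add_mem ha (hcl (allbig o) _ u huA), fun h0 => hau (B u' a) ?_, ?_, ?_⟩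
    · linear_combination (norm := module) h0
    · rw [QuadraticMap.polar_add_right, polar_smul_r, huB a ha, polar_self' Pu.1, mul_zero, add_zero]
    · rw [QuadraticMap.polar_add_right, polar_smul_r, hu'u, mul_one, add_neg_cancel]
  obtain ⟨y₁, hy₁, hzy⟩ := perp_nondeg D (oA_perp D hz) hz0
  set s₀ := proj Q u u' y₁
  have hs₀u : Perp Q u u' s₀ := perp_proj Pu y₁
  have hs₀ : Perp Q e f s₀ := by
    simp only [s₀, proj]
    exact ⟨by simp [QuadraticMap.polar_sub_right, QuadraticMap.polar_smul_right, hy₁.1, hu.1, hu'.1],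
      by simp [QuadraticMap.polar_sub_right, QuadraticMap.polar_smul_right, hy₁.2, hu.2, hu'.2]⟩
  have hzs : B z s₀ = 1 := by rw [polar_proj ⟨hzu, hzu'⟩, hzy]
  obtain ⟨k, hk⟩ : ∃ k : F, χ k ≠ 1 := AddChar.ne_one_iff.1 D.ne_one
  have hks : Perp Q e f (k • s₀) := hs₀.smul k
  have hnot : k • s₀ ∉ oS D o := fun h => hk (by
    have := ((mem_oS D).1 h).2 z hz
    rwa [polar_smul_r, hzs, mul_one] at this)
  have hfs : gV t' *ᵥ (k • s₀) = k • s₀ := by
    rw [ht', polar_smul_r, polar_smul_r, hs₀u.1, hs₀u.2]; simp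
  set E := elt (Q := Q) e (k • s₀)
  have hcomm : ∀ y : X, t' • E • y = E • t' • y := fun y => by
    rw [L'.smul_elt D.hyp D.pair.1 hks, hfs, one_smul]
  have hEp : E ^ p = 1 := elt_pow_char D.hyp (tau_ok D hks)
  by_contra hndvd
  let Y := {y : X // t' • y = y ∧ orbOf D y = o}
  have hmove : ∀ y : Y, t' • E • y.1 = E • y.1 ∧ orbOf D (E • y.1) = o := fun y =>
    ⟨by rw [hcomm, y.2.1], ((orbOf_eq D).2 ⟨_, hks, rfl⟩).symm.trans y.2.2⟩
  have hinjE : Function.Injective fun y : Y => (⟨E • y.1, hmove y⟩ : Y) := fun a b h =>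
    Subtype.ext (smul_left_cancel E (congrArg Subtype.val h))
  set σY : Equiv.Perm Y := Equiv.ofBijective _ (Finite.injective_iff_bijective.1 hinjE)
  have hσpow : ∀ (n : ℕ) (y : Y), ((σY ^ n) y).1 = E ^ n • y.1 := by
    intro n
    induction n with
    | zero => intro y; simp
    | succ n ih =>
      intro y
      rw [pow_succ', Equiv.Perm.mul_apply, pow_succ', mul_smul, ← ih y]
      rfl
  have hY : ¬ p ∣ Fintype.card Y := by
    rw [Fintype.card_subtype]
    rw [show ((Finset.univ : Finset X).filter fun y => t' • y = y ∧ orbOf D y = o) =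
      ((Finset.univ.filter fun y : X => t' • y = y).filter fun y => orbOf D y = o) from
      (Finset.filter_filter _ _ _).symm]
    exact hndvd
  obtain ⟨y, hy⟩ := Equiv.Perm.exists_fixed_point_of_prime (n := 1) hY (σ := σY) (Equiv.ext fun y =>
    Subtype.ext (by rw [pow_one, hσpow, hEp, one_smul]; rfl))
  have h1 : E • y.1 = y.1 := congrArg Subtype.val hy
  refine hnot ?_
  have h2 : k • s₀ ∈ oS D (orbOf D y.1) := ⟨hks, h1⟩
  exact (congrArg (oS D) y.2.2) ▸ h2

end Cfsg.Agent.Lie.MinIndexOrth
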