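import Cfsg.Agent.Lib.Lie.MinIndexOrthMain
import Cfsg.Agent.Lib.Classical.OrthPOmegaCard

/-! From transitive actions of `Ω(Q)` to indices in `PΩ(Q)`, and the stabiliser of a singular point. -/

set_option autoImplicit false
set_option linter.unusedSectionVars false
set_option quotPrecheck false

namespace Cfsg.Agent.Lie.MinIndexOrth

open Cfsg Matrix Module MulAction Cfsg.Agent.Classical Cfsg.Agent.Classical.OrthAut

universe u

variable {F : Type*} [Field F] [Fintype F] {ι : Type} [Fintype ι] [DecidableEq ι]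
  {Q : QuadraticForm F (ι → F)}

local notation "V" => (ι → F)
local notation "B" => QuadraticMap.polar ⇑Q
local notation "GG" => (↥(Omega F ⇑Q))
local notation "q" => Fintype.card F
local notation "d" => Fintype.card ι - 2

theorem exists_set2 (H : Hyp Q) : ∃ (e f : V) (χ : AddChar F ℂ), Set2 Q e f χ := by
  obtain ⟨a, b, c, hab, -⟩ := id H.tri
  obtain ⟨f, hf, haf⟩ := exists_pair H.nd hab.left_ne hab.1
  obtain ⟨χ, hχ⟩ := (AddChar.exists_apply_ne_zero (α := F) (a := (1 : F))).2 one_ne_zero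
  exact ⟨a, f, χ, H, ⟨hab.1, hf, haf⟩, fun h => hχ (by rw [h]; rfl)⟩

/-- A bound on transitive actions bounds the index. -/
theorem index_bound {Bd : ℕ}
    (h : ∀ (H' : Subgroup (Omega F ⇑Q)) [Fintype (Omega F ⇑Q ⧸ H')], Nontrivial (Omega F ⇑Q ⧸ H') →
      Bd ≤ Fintype.card (Omega F ⇑Q ⧸ H'))
    {K : Subgroup (POmega F ⇑Q)} (hK : K ≠ ⊤) : Bd ≤ K.index := by
  set H' := K.comap (QuotientGroup.mk' (Subgroup.center (Omega F ⇑Q))) with hH'
  have hidx : H'.index = K.index :=
    Subgroup.index_comap_of_surjective K (QuotientGroup.mk'_surjective _)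
  letI : Fintype (Omega F ⇑Q ⧸ H') := Fintype.ofFinite _
  have hcard : Fintype.card (Omega F ⇑Q ⧸ H') = K.index := by
    rw [← Nat.card_eq_fintype_card, ← hidx]; rfl
  have h0 : K.index ≠ 0 := Subgroup.index_ne_zero_of_finite
  have h1 : K.index ≠ 1 := fun e1 => hK (Subgroup.index_eq_one.1 e1)
  exact (h H' (Fintype.one_lt_card_iff_nontrivial.1 (by omega))).trans (le_of_eq hcard)

/-- The stabiliser of a singular point. -/
theorem exists_point_subgroup (H : Hyp Q) {Bd : ℕ}
    (hBd : (q - 1) * Bd = Nat.card {v : V // Q v = 0} - 1) :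
    ∃ K : Subgroup (POmega F ⇑Q), K.index = Bd := by
  classical
  obtain ⟨e, f, χ, D⟩ := exists_set2 H
  have he0 : e ≠ 0 := D.pair.ne
  let S : Subgroup (Omega F ⇑Q) :=
    { carrier := {s | ∃ a : F, gV s *ᵥ e = a • e}
      one_mem' := ⟨1, by rw [one_smul, gV_one, Matrix.one_mulVec]⟩
      mul_mem' := by
        rintro s t ⟨a, ha⟩ ⟨a', ha'⟩
        exact ⟨a' * a, by rw [gV_mul_vec, ha', Matrix.mulVec_smul, ha, smul_smul]⟩
      inv_mem' := by
        rintro s ⟨a, ha⟩
        refine ⟨a⁻¹, ?_⟩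
        have ha0 : a ≠ 0 := fun e1 => he0 (gV_injective s (by
          show gV s *ᵥ e = gV s *ᵥ 0
          rw [ha, e1, zero_smul, Matrix.mulVec_zero]))
        have h1 : gV s⁻¹ *ᵥ (a • e) = e := by rw [← ha, gV_inv_cancel]
        rw [Matrix.mulVec_smul] at h1
        rw [eq_comm, inv_smul_eq_iff₀ ha0, h1] }
  refine ⟨S.map (QuotientGroup.mk' (Subgroup.center (Omega F ⇑Q))), ?_⟩
  rw [Subgroup.index_map_eq S (QuotientGroup.mk'_surjective _) fun s hs => by
    rw [QuotientGroup.ker_mk'] at hs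
    rcases center_omega_scalar H.nd H.tri (by have := H.seven; omega) hs with h1 | h1
    · exact ⟨1, by rw [one_smul]; show omVal s *ᵥ e = e; rw [h1, Matrix.one_mulVec]⟩
    · exact ⟨-1, by show omVal s *ᵥ e = _; rw [h1, Matrix.neg_mulVec, Matrix.one_mulVec, neg_one_smul]⟩]
  let φ : (Omega F ⇑Q ⧸ S) × Fˣ → {v : V // v ≠ 0 ∧ Q v = 0} := fun p =>
    ⟨(p.2 : F) • (gV p.1.out *ᵥ e), smul_ne_zero p.2.ne_zero fun e1 => he0 (gV_injective p.1.out
      (e1.trans (Matrix.mulVec_zero _).symm)), by rw [QuadraticMap.map_smul, gV_quad, D.pair.1, smul_zero]⟩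
  have hφ : Function.Bijective φ := by
    constructor
    · rintro ⟨x, a⟩ ⟨y, a'⟩ hab
      have h1 : (a : F) • (gV x.out *ᵥ e) = (a' : F) • (gV y.out *ᵥ e) := congrArg Subtype.val hab
      have h2 : x = y := by
        rw [← QuotientGroup.out_eq' x, ← QuotientGroup.out_eq' y, QuotientGroup.eq]
        refine ⟨(a' : F)⁻¹ * a, ?_⟩
        rw [← smul_smul, eq_inv_smul_iff₀ a'.ne_zero, gV_mul_vec, ← Matrix.mulVec_smul, ← h1,
          Matrix.mulVec_smul, gV_inv_cancel]
      subst h2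
      refine Prod.ext rfl (Units.ext (smul_left_injective F (fun e1 => ?_) h1))
      exact he0 (gV_injective x.out (e1.trans (Matrix.mulVec_zero _).symm))
    · rintro ⟨v, hv, hvq⟩
      obtain ⟨s, hs⟩ := exists_move_point H he0 D.pair.1 hv hvq
      obtain ⟨a, ha⟩ : ((QuotientGroup.mk s : Omega F ⇑Q ⧸ S).out)⁻¹ * s ∈ S :=
        QuotientGroup.eq.1 (QuotientGroup.out_eq' _)
      set x : Omega F ⇑Q ⧸ S := QuotientGroup.mk s
      have h1 : v = a • (gV x.out *ᵥ e) := by
        rw [← Matrix.mulVec_smul, ← ha, gV_mul_vec, gV_cancel_inv]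
        exact hs.symm
      exact ⟨(x, Units.mk0 a fun e1 => hv (by rw [h1, e1, zero_smul])), Subtype.ext h1.symm⟩
  have h1 := Nat.card_eq_of_bijective φ hφ
  have h2 : Nat.card {v : V // v ≠ 0 ∧ Q v = 0} = Nat.card {v : V // Q v = 0} - 1 := by
    rw [Nat.card_eq_fintype_card, Nat.card_eq_fintype_card, Fintype.card_subtype, Fintype.card_subtype,
      ← Finset.card_erase_of_mem (show (0 : V) ∈ Finset.univ.filter fun a : V => Q a = 0 by simp)]
    congr 1
    ext a
    simp
  rw [h2, Nat.card_prod, Nat.card_units, Nat.card_eq_fintype_card (α := F), ← hBd, mul_comm] at h1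
  exact Nat.eq_of_mul_eq_mul_left (Nat.sub_pos_of_lt Fintype.one_lt_card) h1

/-- Totally singular spaces of `W` have one dimension less. -/
theorem singular_ext {k : ℕ} (hw : ∀ C : Submodule F V, (∀ x ∈ C, Q x = 0) → finrank F C ≤ k) {e f : V}
    (P : Pair Q e f) (U : Submodule F V) (hU : ∀ x ∈ U, Perp Q e f x ∧ Q x = 0) :
    Nat.card U ≤ q ^ (k - 1) := by
  have heU : e ∉ U := fun he => by
    have h := (hU e he).1.2
    rw [QuadraticMap.polar_comm _ f e, P.2.2] at h
    exact one_ne_zero h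
  have hlt : U < U ⊔ Submodule.span F {e} := lt_of_le_of_ne le_sup_left fun h =>
    heU (by rw [h]; exact Submodule.mem_sup_right (Submodule.mem_span_singleton_self e))
  have h1 := hw (U ⊔ Submodule.span F {e}) fun x hx => by
    obtain ⟨y, hy, z, hz, rfl⟩ := Submodule.mem_sup.1 hx
    obtain ⟨c, rfl⟩ := Submodule.mem_span_singleton.1 hz
    rw [quad_add, (hU y hy).2, QuadraticMap.map_smul, P.1, smul_zero, polar_smul_r,
      QuadraticMap.polar_comm _ y e, (hU y hy).1.1]
    ring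
  have h2 := Submodule.finrank_lt_finrank_of_lt hlt
  rw [Module.natCard_eq_pow_finrank (K := F), Nat.card_eq_fintype_card]
  exact Nat.pow_le_pow_right Fintype.card_pos (by omega)

/-- The same, by dimension. -/
theorem singular_ext_rank {k : ℕ} (hw : ∀ C : Submodule F V, (∀ x ∈ C, Q x = 0) → finrank F C ≤ k) {e f : V}
    (P : Pair Q e f) (U : Submodule F V) (hU : ∀ x ∈ U, Perp Q e f x ∧ Q x = 0) :
    finrank F U ≤ k - 1 := by
  have h := singular_ext hw P U hU
  rw [Module.natCard_eq_pow_finrank (K := F), Nat.card_eq_fintype_card] at h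
  exact (Nat.pow_le_pow_iff_right Fintype.one_lt_card).1 h

variable {X : Type u} [MulAction (Omega F ⇑Q) X] [Fintype X] {e f : ι → F} {χ : AddChar F ℂ}

/-- Few points make few orbits through a vector. -/
theorem through_bound (D : Set2 Q e f χ) {v : V} (hv : Perp Q e f v) (hv0 : v ≠ 0) {Bd k : ℕ}
    (hX : Fintype.card X < Bd) (h : Bd ≤ (k + 1) * (cls Q e f v).card) : (through X D v).card ≤ k := by
  by_contra hc
  have h1 := Nat.mul_le_mul_right (cls Q e f v).card (show k + 1 ≤ (through X D v).card by omega)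
  have := (h1.trans (through_small (X := X) D hv hv0))
  omega

/-- The sizes of the classes keep the orbits through an anisotropic vector few. -/
theorem small_of_bounds (D : Set2 Q e f χ) {v : V} (hv : Perp Q e f v) (hvv : Q v ≠ 0) {Bd L : ℕ}
    (hX : Fintype.card X < Bd)
    (heven : (2 : F) = 0 → (4 ≤ q ∧ Bd ≤ 2 * (cls Q e f v).card) ∨
      (8 ≤ Fintype.card ι ∧ Bd ≤ 4 * (cls Q e f v).card))
    (hodd : (2 : F) ≠ 0 → (q - 1) * L ≤ 2 * (cls Q e f v).card ∧
      ((2 * Bd ≤ 5 * ((q - 1) * L) ∧ (8 ≤ Fintype.card ι ∨ 5 ≤ q)) ∧ (9 ≤ q → 2 * Bd ≤ 3 * ((q - 1) * L)))) :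
    Small X D v := by
  have hv0 : v ≠ 0 := fun h0 => hvv (by rw [h0, QuadraticMap.map_zero])
  obtain ⟨p, hp⟩ := CharP.exists F
  obtain ⟨n, hprime, hn⟩ := FiniteField.card F p
  by_cases h2 : (2 : F) = 0
  · haveI : CharP F 2 := CharTwo.of_one_ne_zero_of_two_eq_zero one_ne_zero h2
    rcases heven h2 with ⟨-, h⟩ | ⟨h8, h⟩
    · exact Or.inl ⟨2, Nat.prime_two, inferInstance,
        Nat.lt_succ_of_le (through_bound (k := 1) D hv hv0 hX h)⟩
    · exact Or.inr (Or.inl ⟨h8, Or.inl ⟨inferInstance, through_bound (k := 3) D hv hv0 hX h⟩⟩)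
  obtain ⟨hcls, ⟨h5, hn8⟩, h9⟩ := hodd h2
  have h4 : (through X D v).card ≤ 4 := through_bound (k := 4) D hv hv0 hX (by omega)
  have hp2 : p ≠ 2 := fun e0 => h2 (by subst e0; exact_mod_cast CharP.cast_eq_zero F 2)
  by_cases hp3 : p = 3
  · subst hp3
    by_cases hq : 9 ≤ q
    · exact Or.inl ⟨3, hprime, hp, Nat.lt_succ_of_le (through_bound (k := 2) D hv hv0 hX (by have := h9 hq; omega))⟩
    · have hn1 : (n : ℕ) = 1 := by
        by_contra hne
        have : 3 ^ 2 ≤ q := hn ▸ Nat.pow_le_pow_right (by norm_num) (by have := n.pos; omega)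
        omega
      rw [hn1, pow_one] at hn
      exact Or.inr (Or.inl ⟨hn8.resolve_right (by omega), Or.inr ⟨hp, h4⟩⟩)
  · refine Or.inl ⟨p, hprime, hp, ?_⟩
    have := hprime.two_le
    have : p ≠ 4 := fun e0 => by subst e0; exact absurd hprime (by decide)
    omega

end Cfsg.Agent.Lie.MinIndexOrth
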