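import Cfsg.Agent.Lib.Lie.MinIndexOrthTool

/-! Split tori of hyperbolic pairs inside `Ω(Q)` and the totally singular pairs of `W`. -/

set_option autoImplicit false
set_option linter.unusedSectionVars false
set_option quotPrecheck false

namespace Cfsg.Agent.Lie.MinIndexOrth

open Cfsg Matrix Module MulAction Cfsg.Agent.Classical Cfsg.Agent.Classical.OrthAut

universe u

variable {F : Type*} [Field F] [Fintype F] {ι : Type} [Fintype ι] [DecidableEq ι]
  {Q : QuadraticForm F (ι → F)}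

local notation "V" => (ι → F)
local notation "B" => QuadraticMap.polar ⇑Q
local notation "GG" => (↥(Omega F ⇑Q))
local notation "q" => Fintype.card F
local notation "d" => Fintype.card ι - 2

variable (H : Hyp Q)
include H

theorem exists_torus {a b : V} (P : Pair Q a b) {c : F} (hc : c ≠ 0) :
    ∃ t : GG, ∀ x, gV t *ᵥ x = x + ((c * c - 1) * B b x) • a + (((c * c)⁻¹ - 1) * B a x) • b := by
  obtain ⟨g, hg, -, -, hi⟩ := exists_torus_elt H.nd P (mul_ne_zero hc hc)
  refine ⟨⟨g, invHom_eq_one_mem H ?_⟩, hg⟩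
  rw [hi H.genQ, sqSign_of_isSquare (IsSquare.mul_self c)]
  rfl

/-- An element of `Ω` carrying one pair to another that has a pair orthogonal to it. -/
theorem exists_pair_move {e f u u' w w' : V} (P : Pair Q e f) (Pu : Pair Q u u') (Pw : Pair Q w w')
    (h : Perp Q u u' w) (h' : Perp Q u u' w') :
    ∃ g : GG, gV g *ᵥ e = u ∧ gV g *ᵥ f = u' := by
  have li : ∀ {a b : V}, Pair Q a b → Function.Injective (pairMap (F := F) a b) := by
    intro a b Pab
    refine (injective_iff_map_eq_zero _).2 fun p hp => ?_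
    rw [pairMap_apply] at hp
    have e1 := congrArg (B a) hp
    have e2 := congrArg (B b) hp
    simp [QuadraticMap.polar_add_right, QuadraticMap.polar_smul_right, polar_self' Pab.1, polar_self' Pab.2.1,
      Pab.2.2, QuadraticMap.polar_comm _ b a] at e1 e2
    exact Prod.ext e2 e1
  obtain ⟨M, hMd, hM, hMu⟩ := exists_isometry_map H.nd _ _ (li P) (li Pu) fun p => by
    rw [pairMap_quad Q Pu.1 Pu.2.1 Pu.2.2, pairMap_quad Q P.1 P.2.1 P.2.2]
  set g₀ := mkIsometry M hMd hM
  obtain ⟨c, hc, hfix⟩ := exists_corr H Pw g₀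
  refine ⟨⟨c * g₀, omega_of_corr H hc⟩, ?_, ?_⟩
  · show ogVal (c * g₀) *ᵥ e = _
    rw [ogVal_mul, ← Matrix.mulVec_mulVec, show ogVal g₀ *ᵥ e = u from by
      show M *ᵥ e = u
      simpa [pairMap_apply] using hMu (1, 0)]
    exact hfix u (by rw [QuadraticMap.polar_comm]; exact h.1) (by rw [QuadraticMap.polar_comm]; exact h'.1)
  · show ogVal (c * g₀) *ᵥ f = _
    rw [ogVal_mul, ← Matrix.mulVec_mulVec, show ogVal g₀ *ᵥ f = u' from by
      show M *ᵥ f = u'
      simpa [pairMap_apply] using hMu (0, 1)]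
    exact hfix u' (by rw [QuadraticMap.polar_comm]; exact h.2) (by rw [QuadraticMap.polar_comm]; exact h'.2)

omit H in
theorem torus_conj {e f u u' : V} {g t t' : GG} (he : gV g *ᵥ e = u) (hf : gV g *ᵥ f = u') {α β : F}
    (ht : ∀ x, gV t *ᵥ x = x + (α * B f x) • e + (β * B e x) • f)
    (ht' : ∀ x, gV t' *ᵥ x = x + (α * B u' x) • u + (β * B u x) • u') : g * t * g⁻¹ = t' := by
  refine gV_ext fun x => ?_
  obtain ⟨y, rfl⟩ : ∃ y, x = gV g *ᵥ y := ⟨gV g⁻¹ *ᵥ x, (gV_cancel_inv g x).symm⟩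
  rw [gV_mul_vec, gV_mul_vec, gV_inv_cancel, ht, ht', ← he, ← hf, gV_polar, gV_polar, Matrix.mulVec_add,
    Matrix.mulVec_add, Matrix.mulVec_smul, Matrix.mulVec_smul]

/-- The singular vectors of `W` orthogonal to `v` and off its line, counted exactly. -/
theorem card_rest_eq {e f v v' : V} (P : Pair Q e f) (hv : Perp Q e f v) (hv' : Perp Q e f v')
    (Pv : Pair Q v v') :
    Nat.card {r : V // Perp Q e f r ∧ TS Q v r} = q * (wCountTwo Q e f v v' - 1) := by
  classical
  refine le_antisymm ?_ (card_rest H P hv hv' Pv)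
  have h0 : Nat.card {z : V // (Perp Q e f z ∧ Perp Q v v' z ∧ Q z = 0) ∧ z ≠ 0} =
      wCountTwo Q e f v v' - 1 := by
    rw [wCountTwo, Nat.card_eq_fintype_card, Nat.card_eq_fintype_card, Fintype.card_subtype, Fintype.card_subtype,
      ← Finset.card_erase_of_mem (a := (0 : V)) (Finset.mem_filter.2 ⟨Finset.mem_univ _, perp_zero e f,
        perp_zero v v', QuadraticMap.map_zero _⟩)]
    congr 1
    ext z
    simp only [Finset.mem_erase, Finset.mem_filter, Finset.mem_univ, true_and]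
    tauto
  rw [← h0, ← Nat.card_eq_fintype_card (α := F), ← Nat.card_prod]
  refine Nat.card_le_card_of_injective (fun r => (B v' r.1,
    (⟨r.1 - B v' r.1 • v, ⟨?_, ⟨?_, ?_⟩, ?_⟩, ?_⟩ :
      {z : V // (Perp Q e f z ∧ Perp Q v v' z ∧ Q z = 0) ∧ z ≠ 0}))) ?_
  · rw [sub_eq_add_neg, ← neg_smul]; exact r.2.1.add (hv.smul _)
  · rw [QuadraticMap.polar_sub_right, polar_smul_r, polar_self' Pv.1, r.2.2.2.2.1, mul_zero, sub_zero]
  · rw [QuadraticMap.polar_sub_right, polar_smul_r, QuadraticMap.polar_comm _ v' v, Pv.2.2, mul_one, sub_self]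
  · rw [sub_eq_add_neg, ← neg_smul, quad_add_smul, r.2.2.2.1, Pv.1, QuadraticMap.polar_comm _ r.1 v, r.2.2.2.2.1]
    ring
  · intro h
    have := r.2.2.2.2.2 (-B v' r.1) 1 (by rw [← h]; module)
    exact one_ne_zero this.2
  · intro r r' h
    obtain ⟨h1, h2⟩ := Prod.ext_iff.1 h
    have h3 := congrArg Subtype.val h2
    simp only at h1 h3
    rw [h1, sub_left_inj] at h3
    exact Subtype.ext h3

end Cfsg.Agent.Lie.MinIndexOrth
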