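import Cfsg.Agent.Lib.Lie.MinIndexSLCases

/-! The smallest permutation degree of `SL_n(q)`, `n ≥ 3`, `(n,q) ≠ (4,2)`. -/

set_option autoImplicit false
set_option linter.unusedSectionVars false
set_option maxHeartbeats 1000000

namespace Cfsg.Agent.Lie.MinIndex

open Matrix MulAction Finset

variable {F : Type*} [Field F] [Fintype F] {k : ℕ}

local notation "V" => (Fin (k + 3) → F)
local notation "Mn" => Matrix (Fin (k + 3)) (Fin (k + 3)) F
local notation "SL" => Matrix.SpecialLinearGroup (Fin (k + 3)) F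

/-- Inverse transpose. -/
def invT : Matrix.SpecialLinearGroup (Fin (k + 3)) F →* Matrix.SpecialLinearGroup (Fin (k + 3)) F where
  toFun g := ⟨((g⁻¹ : Matrix.SpecialLinearGroup (Fin (k + 3)) F) :
    Matrix (Fin (k + 3)) (Fin (k + 3)) F)ᵀ, by rw [det_transpose]; exact (g⁻¹).2⟩
  map_one' := ext' (by
    show ((1⁻¹ : SL) : Mn)ᵀ = ((1 : SL) : Mn)
    rw [inv_one, Matrix.SpecialLinearGroup.coe_one, transpose_one])
  map_mul' g g' := ext' (by
    show (((g * g')⁻¹ : SL) : Mn)ᵀ = ((g⁻¹ : SL) : Mn)ᵀ * ((g'⁻¹ : SL) : Mn)ᵀ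
    rw [_root_.mul_inv_rev, Matrix.SpecialLinearGroup.coe_mul, transpose_mul])

theorem invT_invT (g : SL) : invT (invT g) = g := by
  have e : ∀ x : SL, (invT x : Mn) = ((x⁻¹ : SL) : Mn)ᵀ := fun x => rfl
  refine ext' ?_
  rw [e, ← map_inv, e, inv_inv, transpose_transpose]

theorem invT_T {v f : V} (h : f ⬝ᵥ v = 0) : invT (T v f) = T (-f) v := by
  refine ext' ?_
  show (((T v f)⁻¹ : SL) : Mn)ᵀ = _
  rw [T_inv h, T_val (by rw [neg_dotProduct, h, neg_zero]),
    T_val (by rw [dotProduct_neg, dotProduct_comm, h, neg_zero]), transpose_add, transpose_one]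
  congr 1
  ext i j
  simp [vecMulVec_apply, mul_comm]

variable {Ω : Type*} [MulAction (Matrix.SpecialLinearGroup (Fin (k + 3)) F) Ω] [Finite Ω]

/-- A point fixed by one transvection is fixed by all with the same axis. -/
theorem Few.fix_axis (h : Few F k Ω) {v f : V} (hv : v ≠ 0) (hf : f ∈ D v) (hf0 : f ≠ 0) {b : Ω}
    (hb : T v f • b = b) {u : V} (hu : f ⬝ᵥ u = 0) : T u f • b = b := by
  obtain ⟨htr, h2, hlt⟩ := h
  -- first compute in the old action
  have hfv : f ⬝ᵥ v = 0 := hf
  have e1 : invT (T f (-v)) = T v f := by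
    rw [invT_T (by rw [neg_dotProduct, dotProduct_comm, hfv, neg_zero]), neg_neg]
  have e2 : invT (T f (-u)) = T u f := by
    rw [invT_T (by rw [neg_dotProduct, dotProduct_comm, hu, neg_zero]), neg_neg]
  rw [← e1] at hb
  rw [← e2]
  have key : ∀ x y : Ω, ∃ g : SL, invT g • x = y := fun x y => by
    obtain ⟨g, hg⟩ := htr.exists_smul_eq x y
    exact ⟨invT g, by rw [invT_invT, hg]⟩
  let act : MulAction (Matrix.SpecialLinearGroup (Fin (k + 3)) F) Ω := MulAction.compHom Ω invT
  have htr' : @IsPretransitive (Matrix.SpecialLinearGroup (Fin (k + 3)) F) Ω act.toSMul := by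
    refine @IsPretransitive.mk _ _ act.toSMul fun x y => ?_
    exact key x y
  have h' : @Few F _ _ k Ω act := @Few.mk F _ _ k Ω act htr' h2 hlt
  exact @Few.fix_centre F _ _ k Ω act _ h' f (-v) hf0
    (mem_D.2 (by rw [neg_dotProduct, dotProduct_comm, hfv, neg_zero])) (neg_ne_zero.2 hv) b hb (-u)
    (mem_D.2 (by rw [neg_dotProduct, dotProduct_comm, hu, neg_zero]))

variable (h : Few F k Ω)
include h

/-- No transvection fixes a point. -/
theorem Few.no_fix {v f : V} (hv : v ≠ 0) (hf : f ∈ D v) (hf0 : f ≠ 0) (b : Ω) : T v f • b ≠ b := by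
  classical
  intro hb
  have hall : ∀ v' g : V, g ⬝ᵥ v' = 0 → T v' g • b = b := by
    intro v' g hg
    by_cases hv' : v' = 0
    · rw [hv', T_left_zero, one_smul]
    obtain ⟨x, -, hx⟩ : ∃ x ∈ (⊤ : Submodule F V), x ∉ Submodule.span F {v, v'} := by
      by_contra hne
      push Not at hne
      have h1 := Submodule.finrank_mono (show (⊤ : Submodule F V) ≤ Submodule.span F {v, v'} from hne)
      have h2 := finrank_span_finset_le_card (R := F) ({v, v'} : Finset V)
      rw [Finset.coe_insert, Finset.coe_singleton, Set.finrank] at h2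
      have h3 : ({v, v'} : Finset V).card ≤ 2 := Finset.card_le_two
      rw [finrank_top, Module.finrank_fintype_fun_eq_card, Fintype.card_fin] at h1
      omega
    obtain ⟨f', hf', hf'1⟩ := exists_dot_eq_one hx
    have hf'0 : f' ≠ 0 := by rintro rfl; rw [zero_dotProduct] at hf'1; exact zero_ne_one hf'1
    have h1 : T v f' • b = b := h.fix_centre hv hf hf0 hb f' (mem_D.2 (hf' v (Submodule.subset_span (by simp))))
    have h2 : T v' f' • b = b :=
      h.fix_axis hv (mem_D.2 (hf' v (Submodule.subset_span (by simp)))) hf'0 h1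
        (hf' v' (Submodule.subset_span (by simp)))
    exact h.fix_centre hv' (mem_D.2 (hf' v' (Submodule.subset_span (by simp)))) hf'0 h2 g (mem_D.2 hg)
  obtain ⟨v', g, hg, hne⟩ := h.not_all_fix b
  exact hne (hall v' g hg)

/-- Translations by the transvection group of centre `v` reach everything once. -/
theorem Few.translation {v : V} (hv : v ≠ 0) (a b : Ω) : ∃ f ∈ D v, T v f • a = b := by
  classical
  obtain ⟨φ, hN, hfix, -, -⟩ := h.count hv
  have hinj : Function.Injective (fun f : D v => T v f.1 • a) := by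
    intro f g e
    simp only at e
    by_contra hne
    refine h.no_fix hv (f := -g.1 + f.1) (add_mem (neg_mem g.2) f.2)
      (fun e0 => hne (Subtype.ext (neg_add_eq_zero.1 e0).symm)) a ?_
    rw [← T_mul (by rw [neg_dotProduct, mem_D.1 g.2, neg_zero]) (mem_D.1 f.2), mul_smul, e,
      ← T_inv (mem_D.1 g.2), inv_smul_smul]
  have hφ : φ = 0 := by
    obtain ⟨d, hd, hd0⟩ : ∃ d ∈ D v, d ≠ 0 := by
      refine Submodule.exists_mem_ne_zero_of_ne_bot fun e => ?_
      have := finrank_D hv
      rw [e, finrank_bot] at this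
      omega
    rw [← hfix d hd hd0, Nat.card_eq_zero]
    exact Or.inl ⟨fun x => h.no_fix hv hd hd0 x.1 x.2⟩
  have hbij := hinj.bijective_of_nat_card_le (by rw [hN, hφ, zero_add, card_D hv])
  obtain ⟨f, hf⟩ := hbij.2 b
  exact ⟨f.1, f.2, hf⟩

omit h in
/-- `c e_i`, with functional `e_j`. -/
theorem dot_e {i j : Fin (k + 3)} (hij : i ≠ j) (c : F) :
    (Pi.single j 1 : V) ⬝ᵥ Pi.single i c = 0 := by simp [hij.symm]

theorem Few.false_of (hexc : ¬ (k = 1 ∧ Fintype.card F = 2)) : False := by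
  classical
  obtain ⟨a⟩ : Nonempty Ω := (Nat.card_pos_iff.1 (lt_of_lt_of_le Nat.zero_lt_two h.two)).1
  set e : Fin (k + 3) → V := fun i => Pi.single i 1
  set v : V := e 0
  have hv : v ≠ 0 := by simp [v, e]
  choose d hd hda using fun g : SL => h.translation hv a (g • a)
  have huniq : ∀ f g : V, f ∈ D v → g ∈ D v → T v f • a = T v g • a → f = g := by
    intro f g hf hg hfg
    by_contra hne
    refine h.no_fix hv (f := -g + f) (add_mem (neg_mem hg) hf) (fun e0 => hne (neg_add_eq_zero.1 e0).symm) a ?_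
    rw [← T_mul (by rw [neg_dotProduct, mem_D.1 hg, neg_zero]) (mem_D.1 hf), mul_smul, hfg,
      ← T_inv (mem_D.1 hg), inv_smul_smul]
  have hmul : ∀ g g' : SL, (g : Mn) *ᵥ v = v → d (g * g') = d g + d g' ᵥ* ((g⁻¹ : SL) : Mn) := by
    intro g g' hg
    have hmem : d g' ᵥ* ((g⁻¹ : SL) : Mn) ∈ D v := by
      have := dot_conj g (d g') v
      rw [hg] at this
      exact mem_D.2 (this.trans (mem_D.1 (hd g')))
    refine huniq _ _ (hd _) (add_mem (hd g) hmem) ?_
    have h2 : T v (d g' ᵥ* ((g⁻¹ : SL) : Mn)) = g * T v (d g') * g⁻¹ := by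
      rw [T_conj g (mem_D.1 (hd g')), hg]
    rw [hda, add_comm (d g), ← T_mul (mem_D.1 hmem) (mem_D.1 (hd g)),
      mul_smul (T v (d g' ᵥ* ((g⁻¹ : SL) : Mn))) (T v (d g)) a, hda, h2, mul_smul (g * T v (d g')),
      inv_smul_smul, mul_smul g (T v (d g')), hda, mul_smul g g' a]
  set t : Fin (k + 3) → Fin (k + 3) → F → SL := fun i j c => T (Pi.single i c) (e j)
  have htv : ∀ {i j : Fin (k + 3)}, i ≠ j → j ≠ 0 → ∀ c, (t i j c : Mn) *ᵥ v = v := fun {i j} hij hj c => by
    rw [T_mulVec (dot_e hij c)]; simp [v, e, hj.symm, hj]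
  -- the action on functionals
  have hrow : ∀ {i j : Fin (k + 3)}, i ≠ j → ∀ (c : F) (f : V) (l : Fin (k + 3)),
      (f ᵥ* (((t i j c)⁻¹ : SL) : Mn)) l = f l - (if l = j then c * f i else 0) := by
    intro i j hij c f l
    rw [T_inv (dot_e hij c), vecMul_T (by rw [neg_dotProduct, dot_e hij c, neg_zero])]
    simp only [e, dotProduct_single, Pi.add_apply, Pi.smul_apply, Pi.neg_apply, Pi.single_apply,
      smul_eq_mul]
    split_ifs <;> ring
  have hfree : ∀ {i j : Fin (k + 3)}, i ≠ j → i ≠ 0 → j ≠ 0 → ∀ c : F, c ≠ 0 →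
      (∀ l, l ≠ j → d (t i j c) l = 0) → False := by
    intro i j hij hi hj c hc hzero
    have hd' : d (t i j c) = (d (t i j c) j) • e j := by
      funext l
      rcases eq_or_ne l j with rfl | hl
      · simp [e]
      · simp [e, hzero l hl, hl]
    set α := d (t i j c) j
    have hvj : e j ⬝ᵥ v = 0 := by simp [v, e, hj.symm, hj]
    have h1 := hda (t i j c)
    rw [hd', ← T_smul α hvj] at h1
    refine h.no_fix (v := (-α) • v + Pi.single i c) (f := e j) ?_ ?_ ?_ a ?_
    · intro e0
      have := congrFun e0 i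
      simp [v, e, hi, hc] at this
    · exact mem_D.2 (by rw [dotProduct_add, dotProduct_smul, hvj, dot_e hij c]; simp)
    · simp [e]
    · rw [← T_mul_left (by rw [dotProduct_smul, hvj, smul_zero]) (dot_e hij c), mul_smul,
        show T (Pi.single i c) (e j) • a = T (α • v) (e j) • a from h1.symm, ← mul_smul,
        T_mul_left (by rw [dotProduct_smul, hvj, smul_zero]) (by rw [dotProduct_smul, hvj, smul_zero]),
        neg_smul, neg_add_cancel, T_left_zero, one_smul]
  -- commutator relation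
  have hcomm : ∀ {i j l : Fin (k + 3)}, i ≠ j → j ≠ l → i ≠ l → ∀ x y : F,
      t i j x * t j l y = t i l (x * y) * t j l y * t i j x := by
    intro i j l hij hjl hil x y
    refine ext' (Matrix.ext_iff_mulVec.2 fun z => funext fun r => ?_)
    simp only [t, Matrix.SpecialLinearGroup.coe_mul, ← mulVec_mulVec, T_mulVec (dot_e hij x),
      T_mulVec (dot_e hjl y), T_mulVec (dot_e hil (x * y)), e]
    simp only [single_dotProduct, one_mul, Pi.add_apply, Pi.smul_apply, Pi.single_apply, smul_eq_mul]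
    split_ifs <;> simp_all <;> ring
  have hC : ∀ {i j l : Fin (k + 3)}, i ≠ j → j ≠ l → i ≠ l → j ≠ 0 → l ≠ 0 → ∀ x y : F,
      ∀ r, r ≠ l → d (t i l (x * y)) r = -(if r = j then x * d (t j l y) i else 0) := by
    intro i j l hij hjl hil hj hl x y r hr
    have e1 := congrArg (fun g => d g r) (hcomm hij hjl hil x y)
    rw [mul_assoc, hmul _ _ (htv hij hj x), hmul _ _ (htv hil hl (x * y)), hmul _ _ (htv hjl hl y)] at e1
    simp only [Pi.add_apply, hrow hij, hrow hil, hrow hjl, if_neg hr] at e1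
    linear_combination -e1
  have h1 : (1 : Fin (k + 3)) ≠ 0 := by simp
  have h2 : (⟨2, by omega⟩ : Fin (k + 3)) ≠ 0 := by simp [Fin.ext_iff]
  have h12 : (1 : Fin (k + 3)) ≠ ⟨2, by omega⟩ := by simp [Fin.ext_iff]
  set i₂ : Fin (k + 3) := ⟨2, by omega⟩
  have hd1 : d 1 = 0 := huniq _ _ (hd 1) (zero_mem _) (by rw [hda, T_zero])
  -- diagonal elements fixing `v`
  have hdiag : ∀ g : Fin (k + 3) → F, (∏ i, g i) = 1 → g 0 = 1 → ∃ hh : SL,
      (hh : Mn) *ᵥ v = v ∧ (hh : Mn) = diagonal g ∧
        ∀ (f : V) l, (f ᵥ* ((hh⁻¹ : SL) : Mn)) l * g l = f l := by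
    intro g hg hg0
    let hh : SL := ⟨diagonal g, by rw [det_diagonal, hg]⟩
    refine ⟨hh, ?_, rfl, fun f l => ?_⟩
    · show diagonal g *ᵥ v = v
      simp [v, e, diagonal_mulVec_single, hg0]
    · have := congrFun (show (f ᵥ* ((hh⁻¹ : SL) : Mn)) ᵥ* (hh : Mn) = f by
        rw [vecMul_vecMul, ← Matrix.SpecialLinearGroup.coe_mul, inv_mul_cancel,
          Matrix.SpecialLinearGroup.coe_one, vecMul_one]) l
      rwa [show (hh : Mn) = diagonal g from rfl, vecMul_diagonal] at this
  rcases Nat.eq_zero_or_pos k with hk | hk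
  · -- three dimensions
    subst hk
    refine hfree h12 h1 h2 1 one_ne_zero fun l hl => ?_
    have hl' : l = 0 ∨ l = 1 := by
      have h3' : (l : ℕ) < 3 := l.2
      have h2' : (l : ℕ) ≠ 2 := fun e' => hl (Fin.ext e')
      rcases (show (l : ℕ) = 0 ∨ (l : ℕ) = 1 by omega) with e' | e'
      exacts [Or.inl (Fin.ext e'), Or.inr (Fin.ext e')]
    rcases hl' with rfl | rfl
    · have := mem_D.1 (hd (t 1 i₂ 1))
      simpa [v, e] using this
    by_cases h20 : (2 : F) = 0
    · have e1 : t 1 i₂ 1 * t 1 i₂ 1 = 1 := by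
        show T (Pi.single 1 1) (e i₂) * T (Pi.single 1 1) (e i₂) = 1
        rw [T_mul_left (dot_e h12 (1 : F)) (dot_e h12 (1 : F)), ← Pi.single_add,
          show (1 : F) + 1 = 0 by rw [one_add_one_eq_two, h20], Pi.single_zero, T_left_zero]
      have e2 := congrArg (fun g => d g i₂) e1
      simp only [hd1, hmul _ _ (htv h12 h2 1), Pi.add_apply, hrow h12, if_pos, Pi.zero_apply] at e2
      linear_combination -e2 + d (t 1 i₂ 1) i₂ * h20
    · obtain ⟨hh, hhv, hhd, hhrow⟩ := hdiag (fun i => if i = 0 then 1 else -1)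
        (by simp [Fin.prod_univ_three]) (by simp)
      have hcm : hh * t 1 i₂ 1 = t 1 i₂ 1 * hh := by
        refine ext' (Matrix.ext_iff_mulVec.2 fun z => funext fun r => ?_)
        simp only [t, Matrix.SpecialLinearGroup.coe_mul, ← mulVec_mulVec, T_mulVec (dot_e h12 (1 : F)), hhd, e]
        simp only [mulVec_diagonal, single_dotProduct, one_mul, Pi.add_apply, Pi.smul_apply,
          Pi.single_apply, smul_eq_mul]
        split_ifs <;> simp_all <;> ring
      have e2 := congrArg (fun g => d g 1) hcm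
      simp only [hmul _ _ hhv, hmul _ _ (htv h12 h2 1), Pi.add_apply, hrow h12, if_neg h12] at e2
      have e3 := hhrow (d (t 1 i₂ 1)) 1
      simp only [h1, if_false] at e3
      have e4 : (2 : F) * d (t 1 i₂ 1) 1 = 0 := by linear_combination -e2 - e3
      exact (mul_eq_zero.1 e4).resolve_left h20
  · have h3 : (⟨3, by omega⟩ : Fin (k + 3)) ≠ 0 := by simp [Fin.ext_iff]
    have h13 : (1 : Fin (k + 3)) ≠ ⟨3, by omega⟩ := by simp [Fin.ext_iff]
    set i₃ : Fin (k + 3) := ⟨3, by omega⟩
    have h32 : i₃ ≠ i₂ := by simp [i₂, i₃, Fin.ext_iff]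
    have hC3 : ∀ x y : F, ∀ r, r ≠ i₂ → d (t 1 i₂ (x * y)) r =
        -(if r = i₃ then x * d (t i₃ i₂ y) 1 else 0) := hC h13 h32 h12 h3 h2
    refine hfree h12 h1 h2 1 one_ne_zero fun l hl => ?_
    by_cases hl3 : l ≠ i₃
    · have := hC3 1 1 l hl
      rwa [one_mul, if_neg hl3, neg_zero] at this
    push Not at hl3
    subst hl3
    rcases Nat.lt_or_ge k 2 with hk2 | hk2
    · -- four dimensions
      have hk1 : k = 1 := by omega
      subst hk1
      have hlin : ∀ z : F, d (t 1 i₂ z) i₃ = z * d (t 1 i₂ 1) i₃ := fun z => by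
        have e1 := hC3 z 1 i₃ h32
        have e2 := hC3 1 1 i₃ h32
        rw [mul_one, if_pos rfl] at e1
        rw [one_mul, if_pos rfl] at e2
        rw [e1, e2]; ring
      by_cases h20 : (2 : F) = 0
      · have hq : 2 < Fintype.card F := by
          have := Fintype.one_lt_card (α := F)
          have : Fintype.card F ≠ 2 := fun e => hexc ⟨rfl, e⟩
          omega
        obtain ⟨w, -, hw⟩ := Finset.exists_mem_notMem_of_card_lt_card
          (s := ({0, 1} : Finset F)) (t := Finset.univ)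
          (lt_of_le_of_lt Finset.card_le_two (by rw [Finset.card_univ]; exact hq))
        simp only [Finset.mem_insert, Finset.mem_singleton, not_or] at hw
        obtain ⟨hh, hhv, hhd, hhrow⟩ := hdiag
          (fun i => if i = 1 then w else if i = i₂ then w⁻¹ else 1)
          (by simp [Fin.prod_univ_four, i₂, Fin.ext_iff, hw.1]) (by simp [i₂, Fin.ext_iff])
        have hcm : hh * t 1 i₂ 1 = t 1 i₂ (w * w) * hh := by
          refine ext' (Matrix.ext_iff_mulVec.2 fun z => funext fun r => ?_)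
          simp only [t, Matrix.SpecialLinearGroup.coe_mul, ← mulVec_mulVec, T_mulVec (dot_e h12 _), hhd, e]
          simp only [mulVec_diagonal, single_dotProduct, one_mul, Pi.add_apply, Pi.smul_apply,
            Pi.single_apply, smul_eq_mul]
          split_ifs <;> simp_all [Ne.symm h12, h32] <;> field_simp
        have e2 := congrArg (fun g => d g i₃) hcm
        simp only [hmul _ _ hhv, hmul _ _ (htv h12 h2 _), Pi.add_apply, hrow h12, if_neg h32] at e2
        have e3 := hhrow (d (t 1 i₂ 1)) i₃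
        simp only [Ne.symm h13, if_false, h32, mul_one] at e3
        rw [e3, hlin (w * w)] at e2
        have e4 : (w * w - 1) * d (t 1 i₂ 1) i₃ = 0 := by linear_combination -e2
        refine (mul_eq_zero.1 e4).resolve_left fun e5 => hw.2 ?_
        have e6 : (w - 1) * (w - 1) = 0 := by linear_combination e5 + (1 - w) * h20
        exact sub_eq_zero.1 ((mul_eq_zero.1 e6).elim id id)
      · have hcm : t 1 i₂ 1 * t i₃ i₂ 1 = t i₃ i₂ 1 * t 1 i₂ 1 := by
          show T (Pi.single 1 1) (e i₂) * T (Pi.single i₃ 1) (e i₂) =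
            T (Pi.single i₃ 1) (e i₂) * T (Pi.single 1 1) (e i₂)
          rw [T_mul_left (dot_e h12 (1 : F)) (dot_e h32 (1 : F)), T_mul_left (dot_e h32 (1 : F)) (dot_e h12 (1 : F)),
            add_comm (Pi.single 1 1 : Fin (1 + 3) → F)]
        have e2 := congrArg (fun g => d g i₂) hcm
        simp only [hmul _ _ (htv h12 h2 _), hmul _ _ (htv h32 h2 _), Pi.add_apply, hrow h12, hrow h32,
          if_pos] at e2
        have e3 := hC3 1 1 i₃ h32
        rw [one_mul, if_pos rfl, one_mul] at e3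
        have e4 : (2 : F) * d (t 1 i₂ 1) i₃ = 0 := by linear_combination e2 + e3
        exact (mul_eq_zero.1 e4).resolve_left h20
    · have h4 : (⟨4, by omega⟩ : Fin (k + 3)) ≠ 0 := by simp [Fin.ext_iff]
      have h14 : (1 : Fin (k + 3)) ≠ ⟨4, by omega⟩ := by simp [Fin.ext_iff]
      have h42 : (⟨4, by omega⟩ : Fin (k + 3)) ≠ i₂ := by simp [i₂, Fin.ext_iff]
      have := hC h14 h42 h12 h4 h2 1 1 i₃ h32
      rw [one_mul, if_neg (by simp [i₃, Fin.ext_iff]), neg_zero] at this
      exact this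

omit h in
/-- The permutation degree bound. -/
theorem le_card (htr : IsPretransitive (Matrix.SpecialLinearGroup (Fin (k + 3)) F) Ω)
    (h2 : 2 ≤ Nat.card Ω) (hexc : ¬ (k = 1 ∧ Fintype.card F = 2)) :
    B (Fintype.card F) (k + 3) ≤ Nat.card Ω := by
  by_contra hlt
  exact (Few.mk htr h2 (not_le.1 hlt)).false_of hexc

end Cfsg.Agent.Lie.MinIndex
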