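import Cfsg.Agent.Lib.Classical.Transvection
import Cfsg.Agent.Lib.Classical.SLGroup
import Cfsg.Agent.Lib.Lie.MinIndexCount

/-! Transvection groups of `SL_n` acting on few points: counting. -/

set_option autoImplicit false
set_option linter.unusedSectionVars false

namespace Cfsg.Agent.Lie.MinIndex

open Matrix MulAction Finset

variable {F : Type*} [Field F] [Fintype F] {k : ℕ}

local notation "V" => (Fin (k + 3) → F)
local notation "Mn" => Matrix (Fin (k + 3)) (Fin (k + 3)) F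
local notation "SL" => Matrix.SpecialLinearGroup (Fin (k + 3)) F

/-- The row vectors vanishing on `v`. -/
def D (v : V) : Submodule F V where
  carrier := {f | f ⬝ᵥ v = 0}
  add_mem' {f g} hf hg := by
    simp only [Set.mem_ofPred_eq] at hf hg ⊢
    rw [add_dotProduct, hf, hg, add_zero]
  zero_mem' := zero_dotProduct v
  smul_mem' c f hf := by
    simp only [Set.mem_ofPred_eq] at hf ⊢
    rw [smul_dotProduct, hf, smul_zero]

theorem mem_D {v f : V} : f ∈ D v ↔ f ⬝ᵥ v = 0 := Iff.rfl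

/-- The transvection `x ↦ x + (f x) v`. -/
noncomputable def T (v f : V) : SL :=
  letI := _root_.Classical.propDecidable (f ⬝ᵥ v = 0)
  if h : f ⬝ᵥ v = 0 then (show SL from ⟨1 + vecMulVec v f, by
    rw [vecMulVec_eq Unit, det_one_add_replicateCol_mul_replicateRow, h, add_zero]⟩) else 1

theorem ext' {x y : SL} (h : (x : Mn) = (y : Mn)) : x = y := Subtype.ext h

theorem T_val {v f : V} (h : f ⬝ᵥ v = 0) : (T v f : Mn) = 1 + vecMulVec v f := by
  rw [T, dif_pos h]

theorem T_mul {v f g : V} (hf : f ⬝ᵥ v = 0) (hg : g ⬝ᵥ v = 0) : T v f * T v g = T v (f + g) := by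
  refine ext' ?_
  rw [Matrix.SpecialLinearGroup.coe_mul, T_val hf, T_val hg, T_val (by rw [add_dotProduct, hf, hg, add_zero]),
    vecMulVec_add, add_mul, one_mul, mul_add, mul_one, vecMulVec_mul_vecMulVec, hf]
  simp [add_assoc, add_comm, add_left_comm]

theorem T_mul_left {v w f : V} (hv : f ⬝ᵥ v = 0) (hw : f ⬝ᵥ w = 0) : T v f * T w f = T (v + w) f := by
  refine ext' ?_
  rw [Matrix.SpecialLinearGroup.coe_mul, T_val hv, T_val hw, T_val (by rw [dotProduct_add, hv, hw, add_zero]),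
    add_vecMulVec, add_mul, one_mul, mul_add, mul_one, vecMulVec_mul_vecMulVec, hw]
  simp [add_assoc, add_comm, add_left_comm]

theorem T_zero (v : V) : T v 0 = 1 := by
  refine ext' ?_
  rw [T_val (zero_dotProduct v)]
  simp

theorem T_inv {v f : V} (h : f ⬝ᵥ v = 0) : (T v f)⁻¹ = T v (-f) := by
  rw [inv_eq_iff_mul_eq_one, T_mul h (by rw [neg_dotProduct, h, neg_zero]), add_neg_cancel, T_zero]

theorem T_smul (c : F) {v f : V} (h : f ⬝ᵥ v = 0) : T (c • v) f = T v (c • f) := by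
  refine ext' ?_
  rw [T_val (by rw [dotProduct_smul, h, smul_zero]), T_val (by rw [smul_dotProduct, h, smul_zero]),
    smul_vecMulVec, vecMulVec_smul]

theorem T_mulVec {v f : V} (h : f ⬝ᵥ v = 0) (x : V) : (T v f : Mn) *ᵥ x = x + (f ⬝ᵥ x) • v := by
  rw [T_val h, add_mulVec, one_mulVec, vecMulVec_mulVec]; simp

theorem vecMul_T {v f : V} (h : f ⬝ᵥ v = 0) (x : V) : x ᵥ* (T v f : Mn) = x + (x ⬝ᵥ v) • f := by
  rw [T_val h, vecMul_add, vecMul_one, vecMul_vecMulVec]

theorem dot_conj (M : SL) (f x : V) :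
    (f ᵥ* ((M⁻¹ : SL) : Mn)) ⬝ᵥ ((M : Mn) *ᵥ x) = f ⬝ᵥ x := by
  rw [← dotProduct_mulVec, mulVec_mulVec, ← Matrix.SpecialLinearGroup.coe_mul, inv_mul_cancel,
    Matrix.SpecialLinearGroup.coe_one, one_mulVec]

theorem T_conj (M : SL) {v f : V} (h : f ⬝ᵥ v = 0) :
    M * T v f * M⁻¹ = T ((M : Mn) *ᵥ v) (f ᵥ* ((M⁻¹ : SL) : Mn)) := by
  refine ext' ?_
  rw [Matrix.SpecialLinearGroup.coe_mul, Matrix.SpecialLinearGroup.coe_mul, T_val h, T_val (by rw [dot_conj, h]),
    mul_add, mul_one, add_mul, ← Matrix.SpecialLinearGroup.coe_mul, mul_inv_cancel, Matrix.SpecialLinearGroup.coe_one,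
    Classical.vecMulVec_conj]

theorem T_ne_one {v f : V} (hv : v ≠ 0) (hf : f ≠ 0) (h : f ⬝ᵥ v = 0) : T v f ≠ 1 := by
  intro e
  obtain ⟨i, hi⟩ := Function.ne_iff.1 hv
  obtain ⟨j, hj⟩ := Function.ne_iff.1 hf
  have := congrArg (fun g : SL => (g : Mn)) e
  simp only [T_val h, Matrix.SpecialLinearGroup.coe_one, add_eq_left] at this
  exact mul_ne_zero hi hj (by simpa [vecMulVec_apply] using congrFun (congrFun this i) j)

theorem isTransvection_T {v f : V} (hv : v ≠ 0) (hf : f ≠ 0) (h : f ⬝ᵥ v = 0) :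
    IsTransvection (T v f : Mn) := by
  rw [IsTransvection, T_val h, add_sub_cancel_left]
  refine ⟨le_antisymm (rank_vecMulVec_le v f) ?_, by rw [vecMulVec_mul_vecMulVec, h]; simp⟩
  rw [Nat.one_le_iff_ne_zero, ne_eq]
  obtain ⟨i, hi⟩ := Function.ne_iff.1 hv
  obtain ⟨j, hj⟩ := Function.ne_iff.1 hf
  intro h0
  have this : vecMulVec v f = 0 := by
    rw [Matrix.rank, Submodule.finrank_eq_zero] at h0
    refine Matrix.ext_iff_mulVec.2 fun x => ?_
    rw [zero_mulVec]
    exact (Submodule.mem_bot F).1 (h0 ▸ LinearMap.mem_range_self (vecMulVec v f).mulVecLin x)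
  exact mul_ne_zero hi hj (by simpa [vecMulVec_apply] using congrFun (congrFun this i) j)

/-- Transitivity on non-zero vectors. -/
theorem exists_mulVec_eq {v w : V} (hv : v ≠ 0) (hw : w ≠ 0) : ∃ M : SL, (M : Mn) *ᵥ v = w := by
  have key : ∀ {u : V}, u ≠ 0 → ∃ g : SL, (g : Mn) *ᵥ Pi.single 0 1 = u := by
    intro u hu
    obtain ⟨j, hj⟩ := Function.ne_iff.1 hu
    obtain ⟨M, hM, hM0, -⟩ := Classical.exists_isUnit_det_col u 0 j hj
    obtain ⟨g, hg⟩ := Classical.exists_sl_of_det_ne_zero M hM 1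
    refine ⟨g, ?_⟩
    rw [hg, ← mulVec_mulVec, diagonal_mulVec_single, Function.update_of_ne (by simp), one_mul, hM0]
  obtain ⟨g, hg⟩ := key hv
  obtain ⟨g', hg'⟩ := key hw
  refine ⟨g' * g⁻¹, ?_⟩
  rw [← hg, Matrix.SpecialLinearGroup.coe_mul, mulVec_mulVec, mul_assoc, ← Matrix.SpecialLinearGroup.coe_mul,
    inv_mul_cancel, Matrix.SpecialLinearGroup.coe_one, mul_one, hg']

/-- A vector orthogonal to `S` but not to `x`. -/
theorem exists_dot_eq_one {S : Submodule F V} {x : V} (hx : x ∉ S) :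
    ∃ f : V, (∀ s ∈ S, f ⬝ᵥ s = 0) ∧ f ⬝ᵥ x = 1 := by
  obtain ⟨φ, hφx, hφS⟩ := Submodule.exists_dual_map_eq_bot_of_notMem hx inferInstance
  refine ⟨fun i => (φ x)⁻¹ * φ (Pi.single i 1), ?_⟩
  have key : ∀ y : V, (fun i => (φ x)⁻¹ * φ (Pi.single i 1)) ⬝ᵥ y = (φ x)⁻¹ * φ y := by
    intro y
    conv_rhs => rw [pi_eq_sum_univ' y, map_sum, Finset.mul_sum]
    refine Finset.sum_congr rfl fun i _ => ?_
    rw [map_smul, smul_eq_mul]
    ring
  refine ⟨fun s hs => ?_, by rw [key, inv_mul_cancel₀ hφx]⟩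
  rw [key, show φ s = 0 from (Submodule.mem_bot F).1 (hφS ▸ Submodule.mem_map_of_mem hs), mul_zero]

theorem exists_dot_zero_eq (u : V) {h : V} (hh : h ∉ Submodule.span F {u}) (c : F) :
    ∃ x : V, u ⬝ᵥ x = 0 ∧ h ⬝ᵥ x = c := by
  obtain ⟨x, hx, hx'⟩ := exists_dot_eq_one hh
  refine ⟨c • x, ?_, ?_⟩
  · rw [dotProduct_smul, dotProduct_comm, hx u (Submodule.mem_span_singleton_self u), smul_zero]
  · rw [dotProduct_smul, dotProduct_comm, hx', smul_eq_mul, mul_one]

theorem finrank_D {v : V} (hv : v ≠ 0) : Module.finrank F (D v) = k + 2 := by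
  let φ : V →ₗ[F] F :=
    { toFun := fun f => f ⬝ᵥ v
      map_add' := fun f g => add_dotProduct f g v
      map_smul' := fun c f => smul_dotProduct c f v }
  have hker : LinearMap.ker φ = D v := by ext f; exact LinearMap.mem_ker
  have hsurj : LinearMap.range φ = ⊤ := by
    refine LinearMap.range_eq_top.2 fun c => ?_
    obtain ⟨i, hi⟩ := Function.ne_iff.1 hv
    exact ⟨Pi.single i (c / v i), by
      show Pi.single i (c / v i) ⬝ᵥ v = c
      rw [single_dotProduct, div_mul_cancel₀ _ hi]⟩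
  have := LinearMap.finrank_range_add_finrank_ker φ
  rw [hker, hsurj, finrank_top, Module.finrank_self, Module.finrank_fintype_fun_eq_card,
    Fintype.card_fin] at this
  omega

theorem card_D {v : V} (hv : v ≠ 0) : Nat.card (D v) = Fintype.card F ^ (k + 2) := by
  rw [Module.natCard_eq_pow_finrank (K := F), finrank_D hv, Nat.card_eq_fintype_card]

/-- The sum of the first `n` powers. -/
def B (q n : ℕ) : ℕ := ∑ i ∈ Finset.range n, q ^ i

theorem B_succ (q n : ℕ) : B q (n + 1) = B q n + q ^ n := Finset.sum_range_succ _ _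

theorem B_succ' (q n : ℕ) : B q (n + 1) = q * B q n + 1 := geom_sum_succ

theorem B_le {q : ℕ} (hq : 2 ≤ q) : ∀ n, B q n + 1 ≤ q ^ n
  | 0 => by simp [B]
  | n + 1 => by
    rw [B_succ, pow_succ]
    have := B_le hq n
    have := Nat.mul_le_mul_left (q ^ n) hq
    omega

/-- Few points, non-trivial transitive action. -/
structure Few (F : Type*) [Field F] [Fintype F] (k : ℕ) (Ω : Type*)
    [MulAction (Matrix.SpecialLinearGroup (Fin (k + 3)) F) Ω] : Prop where
  trans : IsPretransitive (Matrix.SpecialLinearGroup (Fin (k + 3)) F) Ω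
  two : 2 ≤ Nat.card Ω
  lt : Nat.card Ω < B (Fintype.card F) (k + 3)

section Action

variable (Ω : Type*) [MulAction (Matrix.SpecialLinearGroup (Fin (k + 3)) F) Ω] [Finite Ω]

/-- The elements `f` with `T v f` fixing `a`. -/
def K (v : V) (a : Ω) : AddSubgroup V where
  carrier := {f | f ⬝ᵥ v = 0 ∧ T v f • a = a}
  add_mem' {f g} hf hg := ⟨by rw [add_dotProduct, hf.1, hg.1, add_zero],
    by rw [← T_mul hf.1 hg.1, mul_smul, hg.2, hf.2]⟩
  zero_mem' := ⟨zero_dotProduct v, by rw [T_zero, one_smul]⟩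
  neg_mem' {f} hf := ⟨by rw [neg_dotProduct, hf.1, neg_zero],
    by rw [← T_inv hf.1, inv_smul_eq_iff, hf.2]⟩

variable {Ω}

theorem mem_K {v f : V} {a : Ω} : f ∈ K Ω v a ↔ f ⬝ᵥ v = 0 ∧ T v f • a = a := Iff.rfl

theorem K_conj (M : SL) {v f : V} {a : Ω} (hf : f ∈ K Ω v a) :
    f ᵥ* ((M⁻¹ : SL) : Mn) ∈ K Ω ((M : Mn) *ᵥ v) (M • a) := by
  refine ⟨by rw [dot_conj, hf.1], ?_⟩
  rw [← T_conj M hf.1, mul_smul, mul_smul, inv_smul_smul, hf.2]

theorem K_translate {v f g : V} {a : Ω} (hf : f ⬝ᵥ v = 0) (hg : g ∈ K Ω v (T v f • a)) : g ∈ K Ω v a := by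
  refine ⟨hg.1, ?_⟩
  have := hg.2
  rw [← mul_smul, T_mul hg.1 hf] at this
  have e : T v (g + f) = T v f * T v g := by rw [add_comm g f, ← T_mul hf hg.1]
  rw [e, mul_smul] at this
  exact smul_left_cancel _ this

variable (h : Few F k Ω)
include h

theorem Few.not_all_fix (b : Ω) : ∃ v f : V, f ⬝ᵥ v = 0 ∧ T v f • b ≠ b := by
  by_contra hne
  push Not at hne
  have htop : (⊤ : Subgroup SL) ≤ stabilizer SL b := by
    rw [← Classical.SL_closure_transvections, Subgroup.closure_le]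
    rintro _ ⟨⟨i, j, hij, c⟩, rfl⟩
    have hd : (Pi.single j 1 : V) ⬝ᵥ Pi.single i c = 0 := by simp [hij.symm]
    have e : (TransvectionStruct.mk i j hij c).toSpecialLinearGroup = T (Pi.single i c) (Pi.single j 1) := by
      refine ext' ?_
      rw [T_val hd]
      show Matrix.transvection i j c = _
      rw [Matrix.transvection]
      congr 1
      ext x y
      rw [vecMulVec_apply, Matrix.single_apply]
      rcases eq_or_ne x i with rfl | hx
      · rcases eq_or_ne y j with rfl | hy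
        · simp
        · simp [hy, hy.symm]
      · simp [hx, hx.symm]
    rw [SetLike.mem_coe, mem_stabilizer_iff, e]
    exact hne _ _ hd
  have hsub : Subsingleton Ω := ⟨fun x y => by
    obtain ⟨g, rfl⟩ := h.trans.exists_smul_eq b x
    obtain ⟨g', rfl⟩ := h.trans.exists_smul_eq b y
    rw [mem_stabilizer_iff.1 (htop (Subgroup.mem_top g)),
      mem_stabilizer_iff.1 (htop (Subgroup.mem_top g'))]⟩
  have h1 := h.two
  have h2 := Finite.card_le_one_iff_subsingleton.2 hsub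
  omega

theorem Few.card_fix {v f v' f' : V} (hv : v ≠ 0) (hf : f ≠ 0) (hfv : f ⬝ᵥ v = 0)
    (hv' : v' ≠ 0) (hf' : f' ≠ 0) (hfv' : f' ⬝ᵥ v' = 0) :
    Nat.card (fixedBy Ω (T v f)) = Nat.card (fixedBy Ω (T v' f')) := by
  have key : ∀ g t : SL, Nat.card (fixedBy Ω (g⁻¹ * t * g)) = Nat.card (fixedBy Ω t) := fun g t =>
    Nat.card_congr ((MulAction.toPerm g).subtypeEquiv fun a => by
      simp [mem_fixedBy, mul_smul, inv_smul_eq_iff])
  obtain ⟨g, hg⟩ := Classical.exists_sl_conj_std (T v f) (isTransvection_T hv hf hfv)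
  obtain ⟨g', hg'⟩ := Classical.exists_sl_conj_std (T v' f') (isTransvection_T hv' hf' hfv')
  rw [← key g (T v f), ← key g' (T v' f'), show g⁻¹ * T v f * g = g'⁻¹ * T v' f' * g' from ext' (hg.trans hg'.symm)]

/-- The basic counting in the transvection group of centre `v`. -/
theorem Few.count {v : V} (hv : v ≠ 0) :
    ∃ φ : ℕ, Nat.card Ω = φ + Fintype.card F ^ (k + 2) ∧
      (∀ f ∈ D v, f ≠ 0 → Nat.card (fixedBy Ω (T v f)) = φ) ∧
      (∀ [Fintype Ω], ∑ b : Ω, Nat.card (K Ω v b) = Fintype.card F ^ (k + 2) * (φ + 1)) ∧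
      (∀ a b : Ω, (∀ f ∈ D v, b ≠ T v f • a) →
        ∀ d ∈ D v, ∃ f₁ ∈ K Ω v a, ∃ f₂ ∈ K Ω v b, d = f₁ + f₂) := by
  classical
  let τ : Multiplicative (D v) →* SL :=
    { toFun := fun f => T v (Multiplicative.toAdd f).1
      map_one' := T_zero v
      map_mul' := fun f g => (T_mul (Multiplicative.toAdd f).2 (Multiplicative.toAdd g).2).symm }
  let act : MulAction (Multiplicative (D v)) Ω := MulAction.compHom Ω τ
  have hsmul : ∀ (x : Multiplicative (D v)) (a : Ω), x • a = T v (Multiplicative.toAdd x).1 • a :=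
    fun _ _ => rfl
  obtain ⟨v₁, f₁, hf₁, hmv⟩ : ∃ v₁ f₁ : V, f₁ ⬝ᵥ v₁ = 0 ∧ ∃ b : Ω, T v₁ f₁ • b ≠ b := by
    have : Nonempty Ω := (Nat.card_pos_iff.1 (lt_of_lt_of_le Nat.zero_lt_two h.two)).1
    obtain ⟨b⟩ := this
    obtain ⟨v₁, f₁, h1, h2⟩ := h.not_all_fix b
    exact ⟨v₁, f₁, h1, b, h2⟩
  have hv₁ : v₁ ≠ 0 := by
    rintro rfl
    obtain ⟨b, hb⟩ := hmv
    refine hb ?_
    rw [show T 0 f₁ = (1 : SL) from ext' (by rw [T_val hf₁]; simp), one_smul]
  have hf₁0 : f₁ ≠ 0 := by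
    rintro rfl
    obtain ⟨b, hb⟩ := hmv
    exact hb (by rw [T_zero, one_smul])
  set φ := Nat.card (fixedBy Ω (T v₁ f₁))
  have := Fintype.ofFinite Ω
  have hfix : ∀ x : Multiplicative (D v), x ≠ 1 → Nat.card (fixedBy Ω x) = φ := fun x hx => by
    rw [show fixedBy Ω x = fixedBy Ω (T v (Multiplicative.toAdd x).1) from rfl]
    exact h.card_fix hv (fun e => hx (Subtype.ext e)) (Multiplicative.toAdd x).2 hv₁ hf₁0 hf₁
  have hcardQ : Nat.card (Multiplicative (D v)) = Fintype.card F ^ (k + 2) := card_D hv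
  have hN2 : Fintype.card Ω < 2 * Nat.card (Multiplicative (D v)) := by
    rw [hcardQ, ← Nat.card_eq_fintype_card (α := Ω)]
    have h1 := B_le (Fintype.one_lt_card (α := F)) (k + 2)
    have h2 := h.lt
    rw [B_succ] at h2
    omega
  have hmove : ∃ (x : Multiplicative (D v)) (b : Ω), x • b ≠ b := by
    obtain ⟨d, hd, hd0⟩ : ∃ d ∈ D v, d ≠ 0 := by
      refine Submodule.exists_mem_ne_zero_of_ne_bot fun e => ?_
      have := finrank_D hv
      rw [e, finrank_bot] at this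
      omega
    refine ⟨Multiplicative.ofAdd ⟨d, hd⟩, ?_⟩
    by_contra hne
    push Not at hne
    have h1 : Nat.card (fixedBy Ω (T v d)) = Nat.card Ω := Nat.card_congr
      (Equiv.subtypeUnivEquiv fun b => hne b)
    rw [h.card_fix hv hd0 hd hv₁ hf₁0 hf₁] at h1
    obtain ⟨b, hb⟩ := hmv
    rw [Nat.card_eq_fintype_card, Nat.card_eq_fintype_card] at h1
    exact (Fintype.card_subtype_lt (p := fun b : Ω => b ∈ fixedBy Ω (T v₁ f₁)) (x := b) hb).ne (by convert h1)
  have hK : ∀ b : Ω, Nat.card (stabilizer (Multiplicative (D v)) b) = Nat.card (K Ω v b) := fun b =>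
    Nat.card_congr
      { toFun := fun x => ⟨(Multiplicative.toAdd x.1).1, (Multiplicative.toAdd x.1).2, x.2⟩
        invFun := fun f => ⟨Multiplicative.ofAdd ⟨f.1, f.2.1⟩, f.2.2⟩
        left_inv := fun x => rfl
        right_inv := fun f => rfl }
  refine ⟨φ, ?_, fun f hf hf0 => h.card_fix hv hf0 hf hv₁ hf₁0 hf₁, ?_, ?_⟩
  · rw [Nat.card_eq_fintype_card, MinIndex.card_eq hfix hN2 hmove, hcardQ]
  · intro inst
    obtain rfl : inst = this := Subsingleton.elim _ _
    have e := MinIndex.sum_card_stabilizer hfix hN2 hmove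
    simp only [hK, hcardQ] at e
    exact e
  · intro a b hb d hd
    have hb' : b ∉ orbit (Multiplicative (D v)) a := by
      rintro ⟨x, hx⟩
      exact hb _ (Multiplicative.toAdd x).2 hx.symm
    have htop := MinIndex.sup_stabilizer_eq_top hfix hN2 hmove hb'
    obtain ⟨y, hy, z, hz, e⟩ := Subgroup.mem_sup.1
      (htop ▸ Subgroup.mem_top (Multiplicative.ofAdd (⟨d, hd⟩ : D v)))
    exact ⟨_, ⟨(Multiplicative.toAdd y).2, hy⟩, _, ⟨(Multiplicative.toAdd z).2, hz⟩,
      (congrArg (fun w : Multiplicative (D v) => (Multiplicative.toAdd w).1) e).symm⟩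

end Action

end Cfsg.Agent.Lie.MinIndex
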