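import Cfsg.Agent.Lib.Lie.MinIndexSLBase

/-! A small action of `SL_n` has a regular orbit of every transvection group. -/

set_option autoImplicit false
set_option linter.unusedSectionVars false

namespace Cfsg.Agent.Lie.MinIndex

open Matrix MulAction Finset

variable {F : Type*} [Field F] [Fintype F] {k : ℕ}

local notation "V" => (Fin (k + 3) → F)
local notation "Mn" => Matrix (Fin (k + 3)) (Fin (k + 3)) F
local notation "SL" => Matrix.SpecialLinearGroup (Fin (k + 3)) F

variable {Ω : Type*} [MulAction (Matrix.SpecialLinearGroup (Fin (k + 3)) F) Ω] [Finite Ω]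

theorem T_left_zero {f : V} : T 0 f = 1 := by
  refine ext' ?_
  rw [T_val (dotProduct_zero f)]
  simp

theorem card_le_of_cover {v u : V} (hv : v ≠ 0) {a : Ω}
    (hcov : ∀ d ∈ D v, ∃ g ∈ K Ω v a, ∃ c : F, d = g + c • u) :
    Fintype.card F ^ (k + 2) ≤ Nat.card (K Ω v a) * Fintype.card F := by
  classical
  choose g hg c hc using hcov
  rw [← card_D hv, ← Nat.card_eq_fintype_card (α := F), ← Nat.card_prod]
  refine Nat.card_le_card_of_injective (fun d : D v => ((⟨g d.1 d.2, hg d.1 d.2⟩ : K Ω v a), c d.1 d.2)) ?_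
  intro d d' e
  simp only [Prod.mk.injEq, Subtype.mk.injEq] at e
  exact Subtype.ext (by rw [hc d.1 d.2, hc d'.1 d'.2, e.1, e.2])

theorem card_lt_of_cover {v u : V} (hv : v ≠ 0) {a : Ω} {c₀ : F} (hc₀ : c₀ ≠ 0)
    (hc₀u : c₀ • u ∈ K Ω v a) (hcov : ∀ d ∈ D v, ∃ g ∈ K Ω v a, ∃ c : F, d = g + c • u) :
    Fintype.card F ^ (k + 2) < Nat.card (K Ω v a) * Fintype.card F := by
  classical
  refine lt_of_le_of_ne (card_le_of_cover hv hcov) fun e => ?_
  choose g hg c hc using hcov
  have := Fintype.ofFinite (K Ω v a)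
  let ψ : D v → K Ω v a × F := fun d => (⟨g d.1 d.2, hg d.1 d.2⟩, c d.1 d.2)
  have hinj : Function.Injective ψ := by
    intro d d' e
    simp only [ψ, Prod.mk.injEq, Subtype.mk.injEq] at e
    exact Subtype.ext (by rw [hc d.1 d.2, hc d'.1 d'.2, e.1, e.2])
  have hψ : Function.Bijective ψ := by
    have := Fintype.ofFinite (D v)
    refine (Fintype.bijective_iff_injective_and_card _).2 ⟨hinj, ?_⟩
    rw [← Nat.card_eq_fintype_card, ← Nat.card_eq_fintype_card, card_D hv, Nat.card_prod,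
      Nat.card_eq_fintype_card (α := F), e]
  obtain ⟨d₁, h₁⟩ := hψ.2 (⟨c₀ • u, hc₀u⟩, 0)
  obtain ⟨d₂, h₂⟩ := hψ.2 (0, c₀)
  simp only [ψ, Prod.mk.injEq, Subtype.ext_iff] at h₁ h₂
  have e1 : d₁ = d₂ := Subtype.ext (by
    rw [hc d₁.1 d₁.2, hc d₂.1 d₂.2, h₁.1, h₁.2, h₂.2, h₂.1]; simp)
  subst e1
  exact hc₀ (h₂.2.symm.trans h₁.2)

variable (h : Few F k Ω)
include h

/-- Either a line `F u` covers the rest, or `K` absorbs multiples of `u`. -/
theorem Few.absorb {v u x : V} (hv : v ≠ 0) (hu : u ∈ D v) (hux : u ⬝ᵥ x = 0) (a : Ω) :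
    (∀ d ∈ D v, ∃ g ∈ K Ω v a, ∃ c : F, d = g + c • u) ∨
      ∀ g ∈ K Ω v a, (g ⬝ᵥ x) • u ∈ K Ω v a := by
  obtain ⟨φ, -, -, -, hP1⟩ := h.count hv
  set M := T x u
  have hMv : (M : Mn) *ᵥ v = v := by rw [T_mulVec hux, mem_D.1 hu, zero_smul, add_zero]
  have hMv' : ((M⁻¹ : SL) : Mn) *ᵥ v = v := by
    rw [T_inv hux, T_mulVec (by rw [neg_dotProduct, hux, neg_zero]), neg_dotProduct, mem_D.1 hu,
      neg_zero, zero_smul, add_zero]
  have hact : ∀ g : V, g ᵥ* ((M⁻¹ : SL) : Mn) = g - (g ⬝ᵥ x) • u := fun g => by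
    rw [T_inv hux, vecMul_T (by rw [neg_dotProduct, hux, neg_zero]), smul_neg, sub_eq_add_neg]
  by_cases hb : ∃ f ∈ D v, M • a = T v f • a
  · right
    obtain ⟨f, hf, hfa⟩ := hb
    intro g hg
    have h1 := K_conj M hg
    rw [hMv, hact, hfa] at h1
    have h2 := K_translate (mem_D.1 hf) h1
    have := sub_mem hg h2
    rwa [sub_sub_cancel] at this
  · left
    push Not at hb
    intro d hd
    obtain ⟨f₁, hf₁, f₂, hf₂, rfl⟩ := hP1 a (M • a) hb d hd
    have h1 := K_conj M⁻¹ hf₂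
    rw [hMv', inv_inv, inv_smul_smul, vecMul_T hux] at h1
    refine ⟨f₁ + (f₂ + (f₂ ⬝ᵥ x) • u), add_mem hf₁ h1, -(f₂ ⬝ᵥ x), ?_⟩
    rw [neg_smul]; abel

/-- A non-zero stabiliser is not smaller than a hyperplane. -/
theorem Few.card_ge {v : V} (hv : v ≠ 0) {a : Ω} {g₀ : V} (hg₀ : g₀ ∈ K Ω v a) (h0 : g₀ ≠ 0) :
    Fintype.card F ^ (k + 2) ≤ Nat.card (K Ω v a) * Fintype.card F := by
  classical
  by_cases hall : ∃ u ∈ D v, ∀ d ∈ D v, ∃ g ∈ K Ω v a, ∃ c : F, d = g + c • u
  · obtain ⟨u, -, hu⟩ := hall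
    exact card_le_of_cover hv hu
  push Not at hall
  have hout : ∀ u ∈ D v, u ∉ Submodule.span F {g₀} → u ∈ K Ω v a := by
    intro u hu hu0
    have hg : g₀ ∉ Submodule.span F {u} := fun hmem => by
      obtain ⟨c, hc⟩ := Submodule.mem_span_singleton.1 hmem
      have hc0 : c ≠ 0 := by rintro rfl; exact h0 (by rw [← hc, zero_smul])
      exact hu0 (Submodule.mem_span_singleton.2 ⟨c⁻¹, by rw [← hc, inv_smul_smul₀ hc0]⟩)
    obtain ⟨x, hx1, hx2⟩ := exists_dot_zero_eq u hg 1
    have := ((h.absorb hv hu hx1 a).resolve_left fun hcov => by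
      obtain ⟨d, hd, hd'⟩ := hall u hu
      obtain ⟨g, hg', c, hc⟩ := hcov d hd
      exact hd' g hg' c hc) g₀ hg₀
    rwa [hx2, one_smul] at this
  obtain ⟨u₁, hu₁, hu₁'⟩ : ∃ u ∈ D v, u ∉ Submodule.span F {g₀} := by
    by_contra hne
    push Not at hne
    have := Submodule.finrank_mono (show D v ≤ Submodule.span F {g₀} from hne)
    rw [finrank_D hv, finrank_span_singleton h0] at this
    omega
  have hall' : ∀ d ∈ D v, d ∈ K Ω v a := by
    intro d hd
    by_cases hd' : d ∈ Submodule.span F {g₀}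
    · have hs := hout (d + u₁) (add_mem hd hu₁) fun hs => hu₁' (by simpa using sub_mem hs hd')
      simpa using sub_mem hs (hout u₁ hu₁ hu₁')
    · exact hout d hd hd'
  calc Fintype.card F ^ (k + 2) = Nat.card (D v) := (card_D hv).symm
    _ ≤ Nat.card (K Ω v a) := Nat.card_le_card_of_injective (fun d => (⟨d.1, hall' d.1 d.2⟩ : K Ω v a))
        (fun d d' e => Subtype.ext (congrArg (fun z : K Ω v a => (z : V)) e))
    _ ≤ _ := Nat.le_mul_of_pos_right _ Fintype.card_pos

omit h in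
/-- `v` has a regular orbit. -/
def Regular (Ω : Type*) [MulAction (Matrix.SpecialLinearGroup (Fin (k + 3)) F) Ω] [Finite Ω]
    (v : V) : Prop :=
  ∃ a : Ω, ∀ f ∈ K Ω v a, f = 0

/-- Without a regular orbit every stabiliser is a hyperplane. -/
theorem Few.hyperplane {v : V} (hv : v ≠ 0) (hI : ¬ Regular Ω v) (a : Ω) :
    Nat.card (K Ω v a) * Fintype.card F = Fintype.card F ^ (k + 2) ∧
      ∃ w : V, w ∉ Submodule.span F {v} ∧ ∀ f, f ∈ K Ω v a ↔ f ⬝ᵥ v = 0 ∧ f ⬝ᵥ w = 0 := by
  classical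
  have := Fintype.ofFinite Ω
  obtain ⟨φ, hN, -, hsum, -⟩ := h.count hv
  have hge : ∀ b : Ω, Fintype.card F ^ (k + 2) ≤ Nat.card (K Ω v b) * Fintype.card F := fun b => by
    have hb : ¬ ∀ f ∈ K Ω v b, f = 0 := fun hb => hI ⟨b, hb⟩
    push Not at hb
    obtain ⟨g₀, hg₀, h0⟩ := hb
    exact h.card_ge hv hg₀ h0
  have hq : 2 ≤ Fintype.card F := Fintype.one_lt_card
  have hlt := h.lt
  rw [hN, B_succ] at hlt
  have hle : ∑ b : Ω, Nat.card (K Ω v b) * Fintype.card F ≤ ∑ _b : Ω, Fintype.card F ^ (k + 2) := by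
    rw [← Finset.sum_mul, hsum, Finset.sum_const, smul_eq_mul, Finset.card_univ,
      ← Nat.card_eq_fintype_card (α := Ω), hN]
    calc Fintype.card F ^ (k + 2) * (φ + 1) * Fintype.card F
        = (Fintype.card F * (φ + 1)) * Fintype.card F ^ (k + 2) := by ring
      _ ≤ _ := Nat.mul_le_mul_right _ ?_
    -- `q (φ + 1) ≤ φ + q ^ (k + 2)`
    have h1 : (Fintype.card F - 1) * (φ + 1) ≤ (Fintype.card F - 1) * B (Fintype.card F) (k + 2) :=
      Nat.mul_le_mul_left _ (by omega)
    have h2 : ∀ n, (Fintype.card F - 1) * B (Fintype.card F) n + 1 = Fintype.card F ^ n := by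
      intro n
      induction n with
      | zero => simp [B]
      | succ n ih =>
        rw [B_succ, mul_add, pow_succ]
        have hc : Fintype.card F ^ n * Fintype.card F =
            (Fintype.card F - 1) * Fintype.card F ^ n + Fintype.card F ^ n := by
          rw [← Nat.succ_mul, mul_comm]; congr 1; omega
        omega
    have h3 := h2 (k + 2)
    calc Fintype.card F * (φ + 1) = (Fintype.card F - 1) * (φ + 1) + (φ + 1) := by
          rw [← Nat.succ_mul]; congr 1; omega
      _ ≤ _ := by omega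
  have hcard : ∀ b : Ω, Nat.card (K Ω v b) * Fintype.card F = Fintype.card F ^ (k + 2) := fun b =>
    ((Finset.sum_eq_sum_iff_of_le fun c _ => hge c).1
      (le_antisymm (Finset.sum_le_sum fun c _ => hge c) hle) b (Finset.mem_univ _)).symm
  refine ⟨hcard a, ?_⟩
  have hsub : ∀ g ∈ K Ω v a, ∀ c : F, c • g ∈ K Ω v a := by
    intro g₀ hg₀
    by_contra hg₀U
    have h0 : g₀ ≠ 0 := by
      rintro rfl; exact hg₀U fun c => by rw [smul_zero]; exact zero_mem _
    have hout : ∀ u ∈ K Ω v a, u ∉ Submodule.span F {g₀} → ∀ c : F, c • u ∈ K Ω v a := by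
      intro u hu hu0 c
      have hg : g₀ ∉ Submodule.span F {u} := fun hmem => by
        obtain ⟨c', hc⟩ := Submodule.mem_span_singleton.1 hmem
        have hc0 : c' ≠ 0 := by rintro rfl; exact h0 (by rw [← hc, zero_smul])
        exact hu0 (Submodule.mem_span_singleton.2 ⟨c'⁻¹, by rw [← hc, inv_smul_smul₀ hc0]⟩)
      obtain ⟨x, hx1, hx2⟩ := exists_dot_zero_eq u hg c
      have := ((h.absorb hv (mem_D.2 (mem_K.1 hu).1) hx1 a).resolve_left fun hcov => by
        have := card_lt_of_cover hv one_ne_zero (by rwa [one_smul]) hcov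
        rw [hcard a] at this
        exact lt_irrefl _ this) g₀ hg₀
      rwa [hx2] at this
    by_cases hex : ∃ u ∈ K Ω v a, u ∉ Submodule.span F {g₀}
    · obtain ⟨u₁, hu₁, hu₁'⟩ := hex
      refine hg₀U fun c => ?_
      have hs := hout (g₀ + u₁) (add_mem hg₀ hu₁)
        (fun hs => hu₁' (by simpa using sub_mem hs (Submodule.mem_span_singleton_self g₀))) c
      rw [smul_add] at hs
      simpa using sub_mem hs (hout u₁ hu₁ hu₁' c)
    · push Not at hex
      have hle' : Nat.card (K Ω v a) ≤ Nat.card (Submodule.span F {g₀}) :=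
        Nat.card_le_card_of_injective (fun g => (⟨g.1, hex g.1 g.2⟩ : Submodule.span F {g₀}))
          (fun g g' e => Subtype.ext (congrArg (fun z : Submodule.span F {g₀} => (z : V)) e))
      have hspan : Nat.card (Submodule.span F {g₀}) = Fintype.card F := by
        rw [Module.natCard_eq_pow_finrank (K := F), finrank_span_singleton h0, pow_one,
          Nat.card_eq_fintype_card]
      have hK := hcard a
      have hge' : Fintype.card F ≤ Nat.card (K Ω v a) := by
        refine Nat.le_of_mul_le_mul_right ?_ (Fintype.card_pos (α := F))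
        rw [hK, ← sq]
        exact Nat.pow_le_pow_right (by omega) (by omega)
      refine hg₀U fun c => ?_
      let ι : K Ω v a → Submodule.span F {g₀} := fun g => ⟨g.1, hex g.1 g.2⟩
      have hι : Function.Surjective ι := by
        have h1 : Function.Injective ι := fun g g' e =>
          Subtype.ext (congrArg (fun z : Submodule.span F {g₀} => (z : V)) e)
        exact (h1.bijective_of_nat_card_le (by rw [hspan]; exact hge')).2
      obtain ⟨g, hg⟩ := hι ⟨c • g₀, Submodule.smul_mem _ c (Submodule.mem_span_singleton_self g₀)⟩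
      have e := congrArg (fun z : Submodule.span F {g₀} => (z : V)) hg
      exact (show (g : V) = c • g₀ from e) ▸ g.2
  let U : Submodule F V :=
    { carrier := K Ω v a
      add_mem' := fun hx hy => add_mem hx hy
      zero_mem' := zero_mem (K Ω v a)
      smul_mem' := fun c g hg => hsub g hg c }
  have hUD : U ≤ D v := fun f hf => mem_D.2 (mem_K.1 hf).1
  obtain ⟨d, hd, hdU⟩ : ∃ d ∈ D v, d ∉ U := by
    by_contra hne
    push Not at hne
    have e : Nat.card U = Nat.card (D v) := by rw [le_antisymm hUD hne]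
    rw [card_D hv] at e
    have hK := hcard a
    rw [show Nat.card (K Ω v a) = Nat.card U from rfl, e] at hK
    have hp : 0 < Fintype.card F ^ (k + 2) := pow_pos (by omega) _
    have := Nat.mul_le_mul_left (Fintype.card F ^ (k + 2)) hq
    omega
  obtain ⟨w, hwU, hwd⟩ := exists_dot_eq_one hdU
  refine ⟨w, fun hw => ?_, fun f => ⟨fun hf => ⟨(mem_K.1 hf).1, by rw [dotProduct_comm]; exact hwU f hf⟩, ?_⟩⟩
  · obtain ⟨c, rfl⟩ := Submodule.mem_span_singleton.1 hw
    rw [dotProduct_comm, dotProduct_smul, mem_D.1 hd, smul_zero] at hwd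
    exact zero_ne_one hwd
  rintro ⟨hf1, hf2⟩
  by_contra hfU
  -- otherwise `U + F f` would be everything in `D v`, killing `w`
  have hlt' : U < U ⊔ Submodule.span F {f} :=
    left_lt_sup.2 fun hle' => hfU (hle' (Submodule.mem_span_singleton_self f))
  have hU : Module.finrank F U = k + 1 := by
    have hK := hcard a
    rw [show Nat.card (K Ω v a) = Nat.card U from rfl, Module.natCard_eq_pow_finrank (K := F),
      Nat.card_eq_fintype_card, ← pow_succ] at hK
    have := Nat.pow_right_injective hq hK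
    omega
  have hle2 : U ⊔ Submodule.span F {f} ≤ D v :=
    sup_le hUD ((Submodule.span_singleton_le_iff_mem _ _).2 (mem_D.2 hf1))
  have heq : U ⊔ Submodule.span F {f} = D v := by
    refine Submodule.eq_of_le_of_finrank_le hle2 ?_
    have h1 := Submodule.finrank_lt_finrank_of_lt hlt'
    rw [finrank_D hv]
    omega
  obtain ⟨g, hg, z, hz, e⟩ := Submodule.mem_sup.1 (heq ▸ hd)
  obtain ⟨c, rfl⟩ := Submodule.mem_span_singleton.1 hz
  rw [← e, dotProduct_comm, add_dotProduct, smul_dotProduct, hf2, smul_zero, add_zero,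
    dotProduct_comm, hwU g hg] at hwd
  exact zero_ne_one hwd

theorem Few.regular_conj {v v' : V} (hv : v ≠ 0) (hv' : v' ≠ 0) (hI : Regular Ω v) : Regular Ω v' := by
  obtain ⟨a, ha⟩ := hI
  obtain ⟨M, hM⟩ := exists_mulVec_eq hv hv'
  refine ⟨M • a, fun f hf => ?_⟩
  have h1 := K_conj M⁻¹ hf
  rw [← hM, mulVec_mulVec, ← Matrix.SpecialLinearGroup.coe_mul, inv_mul_cancel,
    Matrix.SpecialLinearGroup.coe_one, one_mulVec, inv_inv, inv_smul_smul] at h1
  have h2 := congrArg (fun g => g ᵥ* ((M⁻¹ : SL) : Mn)) (ha _ h1)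
  simp only [zero_vecMul, vecMul_vecMul] at h2
  rwa [← Matrix.SpecialLinearGroup.coe_mul, mul_inv_cancel, Matrix.SpecialLinearGroup.coe_one,
    vecMul_one] at h2

/-- There are regular orbits. -/
theorem Few.regular {v : V} (hv : v ≠ 0) : Regular Ω v := by
  classical
  by_contra hI
  have hno : ∀ u : V, u ≠ 0 → ¬ Regular Ω u := fun u hu hu' => hI (h.regular_conj hu hv hu')
  obtain ⟨a⟩ : Nonempty Ω := (Nat.card_pos_iff.1 (lt_of_lt_of_le Nat.zero_lt_two h.two)).1
  have hw : ∀ u : V, u ≠ 0 → ∃ w : V, w ∉ Submodule.span F {u} ∧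
      ∀ f, f ∈ K Ω u a ↔ f ⬝ᵥ u = 0 ∧ f ⬝ᵥ w = 0 := fun u hu => (h.hyperplane hu (hno u hu) a).2
  choose! w hw1 hw2 using hw
  set L : V → Submodule F V := fun u => Submodule.span F {u, w u}
  have hLfin : ∀ u : V, u ≠ 0 → Module.finrank F (L u) = 2 := fun u hu => by
    have hli : LinearIndependent F ![u, w u] := by
      rw [LinearIndependent.pair_iff' hu]
      intro c hc
      exact hw1 u hu (Submodule.mem_span_singleton.2 ⟨c, hc⟩)
    have := finrank_span_eq_card hli
    rwa [Matrix.range_cons_cons_empty, Fintype.card_fin] at this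
  have hL : ∀ u : V, u ≠ 0 → ∀ y, y ∈ L u ↔ ∀ f ∈ K Ω u a, f ⬝ᵥ y = 0 := by
    intro u hu y
    constructor
    · intro hy f hf
      obtain ⟨h1, h2⟩ := (hw2 u hu f).1 hf
      obtain ⟨α, β, rfl⟩ := Submodule.mem_span_pair.1 hy
      rw [dotProduct_add, dotProduct_smul, dotProduct_smul, h1, h2, smul_zero, smul_zero, add_zero]
    · intro hy
      by_contra hy'
      obtain ⟨f, hf, hf1⟩ := exists_dot_eq_one hy'
      refine zero_ne_one ((hy f ((hw2 u hu f).2 ⟨hf _ ?_, hf _ ?_⟩)).symm.trans hf1) <;>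
        exact Submodule.subset_span (by simp)
  have hself : ∀ u : V, u ∈ L u := fun u => Submodule.subset_span (by simp)
  -- invariance of `L u` under the transvections fixing `a` and `u`
  have hinv : ∀ v₀ u : V, v₀ ≠ 0 → u ≠ 0 → ∀ f ∈ K Ω v₀ a, f ⬝ᵥ u = 0 →
      v₀ ∈ L u ∨ ∀ y ∈ L u, f ⬝ᵥ y = 0 := by
    intro v₀ u hv₀ hu f hf hfu
    by_contra hcon
    push Not at hcon
    obtain ⟨hvL, y, hy, hfy⟩ := hcon
    have hf' := mem_K.1 hf
    refine hvL ((hL u hu v₀).2 fun g hg => ?_)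
    have h1 := K_conj (T v₀ f)⁻¹ hg
    rw [inv_inv, T_inv hf'.1, T_mulVec (by rw [neg_dotProduct, hf'.1, neg_zero]), neg_dotProduct, hfu,
      neg_zero, zero_smul, add_zero, vecMul_T hf'.1, ← T_inv hf'.1, inv_smul_eq_iff.2 hf'.2.symm] at h1
    have h2 := (hL u hu y).1 hy _ h1
    rw [add_dotProduct, (hL u hu y).1 hy g hg, zero_add, smul_dotProduct, smul_eq_mul] at h2
    exact (mul_eq_zero.1 h2).resolve_right hfy
  have hLeq : ∀ v₀ u : V, v₀ ≠ 0 → u ≠ 0 → u ∈ L v₀ → L u = L v₀ := by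
    intro v₀ u hv₀ hu hmem
    have hkill : ∀ f ∈ K Ω v₀ a, f ⬝ᵥ u = 0 := (hL v₀ hv₀ u).1 hmem
    by_cases hvu : v₀ ∈ L u
    · by_cases hpar : v₀ ∈ Submodule.span F {u}
      · obtain ⟨c, hc⟩ := Submodule.mem_span_singleton.1 hpar
        subst hc
        have hc0 : c ≠ 0 := by rintro rfl; exact hv₀ (zero_smul F u)
        ext y
        rw [hL u hu, hL _ hv₀]
        constructor
        · intro hy f hf
          obtain ⟨h1, h2⟩ := mem_K.1 hf
          have h1' : f ⬝ᵥ u = 0 := by
            rw [dotProduct_smul, smul_eq_mul] at h1; exact (mul_eq_zero.1 h1).resolve_left hc0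
          have h3 := hy (c • f) ⟨by rw [smul_dotProduct, h1', smul_zero], by rwa [← T_smul c h1']⟩
          rw [smul_dotProduct, smul_eq_mul] at h3
          exact (mul_eq_zero.1 h3).resolve_left hc0
        · intro hy f hf
          obtain ⟨h1, h2⟩ := mem_K.1 hf
          have h1' : (c⁻¹ • f) ⬝ᵥ u = 0 := by rw [smul_dotProduct, h1, smul_zero]
          have h3 := hy (c⁻¹ • f) ⟨by rw [dotProduct_smul, h1', smul_zero],
            by rw [T_smul c h1', smul_inv_smul₀ hc0]; exact h2⟩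
          rw [smul_dotProduct, smul_eq_mul] at h3
          exact (mul_eq_zero.1 h3).resolve_left (inv_ne_zero hc0)
      · have hspan : Submodule.span F {u, v₀} ≤ L u ⊓ L v₀ := by
          rw [Submodule.span_le]
          rintro z (rfl | rfl)
          exacts [⟨hself _, hmem⟩, ⟨hvu, hself _⟩]
        have hli : LinearIndependent F ![u, v₀] := by
          rw [LinearIndependent.pair_iff' hu]
          intro c hc
          exact hpar (Submodule.mem_span_singleton.2 ⟨c, hc⟩)
        have hfin := finrank_span_eq_card hli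
        rw [Matrix.range_cons_cons_empty, Fintype.card_fin] at hfin
        have e1 := Submodule.eq_of_le_of_finrank_le (hspan.trans inf_le_left) (by rw [hLfin u hu, hfin])
        have e2 := Submodule.eq_of_le_of_finrank_le (hspan.trans inf_le_right) (by rw [hLfin v₀ hv₀, hfin])
        exact e1.symm.trans e2
    · refine Submodule.eq_of_le_of_finrank_le (fun y hy => (hL v₀ hv₀ y).2 fun f hf => ?_)
        (by rw [hLfin u hu, hLfin v₀ hv₀])
      exact ((hinv v₀ u hv₀ hu f hf (hkill f hf)).resolve_left hvu) y hy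
  obtain ⟨u, -, hu⟩ : ∃ u ∈ (⊤ : Submodule F V), u ∉ L v := by
    by_contra hne
    push Not at hne
    have := Submodule.finrank_mono (show (⊤ : Submodule F V) ≤ L v from hne)
    rw [finrank_top, Module.finrank_fintype_fun_eq_card, Fintype.card_fin, hLfin v hv] at this
    omega
  have hu0 : u ≠ 0 := fun e => hu (e ▸ zero_mem _)
  have hmeet : ∃ y : V, y ≠ 0 ∧ y ∈ L u ∧ y ∈ L v := by
    by_cases hvu : v ∈ L u
    · exact ⟨v, hv, hvu, hself v⟩
    have hle : L u ≤ L v ⊔ Submodule.span F {u} := by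
      intro y hy
      by_contra hy'
      obtain ⟨f, hf, hf1⟩ := exists_dot_eq_one hy'
      have hfK : f ∈ K Ω v a := (hw2 v hv f).2 ⟨hf _ (Submodule.mem_sup_left (hself v)),
        hf _ (Submodule.mem_sup_left (Submodule.subset_span (by simp)))⟩
      have hfu : f ⬝ᵥ u = 0 := hf _ (Submodule.mem_sup_right (Submodule.mem_span_singleton_self u))
      exact zero_ne_one ((((hinv v u hv hu0 f hfK hfu).resolve_left hvu) y hy).symm.trans hf1)
    have hne : L u ⊓ L v ≠ ⊥ := by
      intro e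
      have h1 := Submodule.finrank_sup_add_finrank_inf_eq (L u) (L v)
      rw [e, finrank_bot, add_zero, hLfin u hu0, hLfin v hv] at h1
      have h2 := Submodule.finrank_mono (sup_le hle (le_sup_left : L v ≤ L v ⊔ Submodule.span F {u}))
      have h3 := Submodule.finrank_add_le_finrank_add_finrank (L v) (Submodule.span F {u})
      rw [hLfin v hv, finrank_span_singleton hu0] at h3
      omega
    obtain ⟨y, hy, hy0⟩ := Submodule.exists_mem_ne_zero_of_ne_bot hne
    exact ⟨y, hy0, hy.1, hy.2⟩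
  obtain ⟨y, hy0, hyu, hyv⟩ := hmeet
  exact hu (by rw [← hLeq v y hv hy0 hyv, hLeq u y hu0 hy0 hyu]; exact hself u)

/-- A point fixed by one transvection is fixed by all with the same centre. -/
theorem Few.fix_centre {v f : V} (hv : v ≠ 0) (hf : f ∈ D v) (hf0 : f ≠ 0) {b : Ω}
    (hb : T v f • b = b) : ∀ g ∈ D v, T v g • b = b := by
  classical
  obtain ⟨φ, -, -, -, hP1⟩ := h.count hv
  obtain ⟨a, ha⟩ := h.regular hv
  intro g hg
  by_cases hb' : ∃ d ∈ D v, b = T v d • a
  · obtain ⟨d, hd, rfl⟩ := hb'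
    exact absurd (ha f (K_translate (mem_D.1 hd) ⟨mem_D.1 hf, hb⟩)) hf0
  push Not at hb'
  obtain ⟨f₁, hf₁, f₂, hf₂, rfl⟩ := hP1 a b hb' g hg
  rw [ha f₁ hf₁, zero_add]
  exact (mem_K.1 hf₂).2

end Cfsg.Agent.Lie.MinIndex
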