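import Cfsg.Agent.Lib.Classical.SympGen

/-!
The Heisenberg group of a vector of a symplectic space, in coordinates of a hyperbolic pair.
-/

set_option autoImplicit false
set_option linter.unusedSectionVars false

namespace Cfsg.Agent.Lie.MinIndexSp

open Matrix Finset Cfsg Cfsg.Agent.Classical

variable {F : Type*} [Field F] {m : ℕ}

local notation "V" => (Fin m ⊕ Fin m → F)
local notation "B" => sympForm m F
set_option quotPrecheck false in
local notation "Sp" => Matrix.symplecticGroup (Fin m) F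

/-- The matrix of an element of the symplectic group. -/
abbrev spVal (g : Matrix.symplecticGroup (Fin m) F) : Matrix (Fin m ⊕ Fin m) (Fin m ⊕ Fin m) F := g

theorem spVal_mul_mulVec (g g' : Sp) (x : V) : spVal (g * g') *ᵥ x = spVal g *ᵥ (spVal g' *ᵥ x) := by
  rw [spVal, Submonoid.coe_mul, Matrix.mulVec_mulVec]

theorem sp_ext {g g' : Sp} (h : ∀ x : V, spVal g *ᵥ x = spVal g' *ᵥ x) : g = g' :=
  Subtype.ext (Matrix.ext_iff_mulVec.2 h)

theorem spVal_inv_mulVec (g : Sp) (x : V) : spVal g⁻¹ *ᵥ (spVal g *ᵥ x) = x := by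
  rw [← spVal_mul_mulVec, inv_mul_cancel, spVal, Submonoid.coe_one, Matrix.one_mulVec]

theorem spVal_mulVec_inv (g : Sp) (x : V) : spVal g *ᵥ (spVal g⁻¹ *ᵥ x) = x := by
  rw [← spVal_mul_mulVec, mul_inv_cancel, spVal, Submonoid.coe_one, Matrix.one_mulVec]

theorem sp_injective (g : Sp) : Function.Injective fun x : V => spVal g *ᵥ x := fun x y h => by
  rw [← spVal_inv_mulVec g x, ← spVal_inv_mulVec g y]
  exact congrArg _ h

theorem tv_apply (v : V) (c : F) (x : V) : spVal (sympTv v c) *ᵥ x = x + (c * B x v) • v :=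
  sympTransvection_mulVec v c x

theorem tv_smul (v : V) (a c : F) : sympTv (a • v) c = sympTv v (a ^ 2 * c) :=
  Subtype.ext (sympTransvection_smul v a c)

theorem sform_swap_zero {u v : V} (h : B u v = 0) : B v u = 0 := by rw [sympForm_swap, h, neg_zero]

/-- The orthogonal space of a pair. -/
def perp (e f : Fin m ⊕ Fin m → F) : Submodule F (Fin m ⊕ Fin m → F) where
  carrier := {x | sympForm m F x e = 0 ∧ sympForm m F x f = 0}
  add_mem' := fun {a b} ha hb =>
    ⟨by rw [sympForm_add_left, ha.1, hb.1, add_zero], by rw [sympForm_add_left, ha.2, hb.2, add_zero]⟩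
  zero_mem' := ⟨sympForm_zero_left _, sympForm_zero_left _⟩
  smul_mem' := fun a x hx =>
    ⟨by rw [sympForm_smul_left, hx.1, mul_zero], by rw [sympForm_smul_left, hx.2, mul_zero]⟩

/-- An element of the Heisenberg group. -/
noncomputable def eEl (e w : Fin m ⊕ Fin m → F) (k : F) : Matrix.symplecticGroup (Fin m) F :=
  sympTv (e + w) 1 * sympTv w (-1) * sympTv e (k - 1)

theorem eEl_apply {e w : V} (hw : B w e = 0) (k : F) (x : V) :
    spVal (eEl e w k) *ᵥ x = x + B x e • w + (B x w + k * B x e) • e := by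
  rw [eEl, spVal_mul_mulVec, spVal_mul_mulVec, tv_apply, tv_apply, tv_apply]
  simp only [sympForm_add_left, sympForm_add_right, sympForm_smul_left, sympForm_self,
    sform_swap_zero hw, hw]
  module

theorem eEl_conj (g : Sp) (e w : V) (k : F) : g * eEl e w k * g⁻¹ = eEl (spVal g *ᵥ e) (spVal g *ᵥ w) k := by
  rw [eEl, eEl, ← Matrix.mulVec_add, ← sympTv_conj g (e + w), ← sympTv_conj g w, ← sympTv_conj g e]
  group

theorem eEl_mul {e w w' : V} (hw : B w e = 0) (hw' : B w' e = 0) (k k' : F) :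
    eEl e w k * eEl e w' k' = eEl e (w + w') (k + k' + B w' w) := by
  refine sp_ext fun x => ?_
  rw [spVal_mul_mulVec, eEl_apply hw, eEl_apply hw', eEl_apply (by rw [sympForm_add_left, hw, hw', add_zero])]
  simp only [sympForm_add_left, sympForm_add_right, sympForm_smul_left, sympForm_self, hw', sform_swap_zero hw]
  module

theorem eEl_zero (e : V) (k : F) : eEl e 0 k = sympTv e k := by
  refine sp_ext fun x => ?_
  rw [eEl_apply (sympForm_zero_left _), tv_apply]
  simp

theorem eEl_one (e : V) : eEl e 0 (0 : F) = 1 := by rw [eEl_zero, sympTv_zero]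

theorem eEl_inv {e w : V} (hw : B w e = 0) (k : F) : (eEl e w k)⁻¹ = eEl e (-w) (-k) := by
  refine inv_eq_of_mul_eq_one_right ?_
  rw [eEl_mul hw (by rw [← neg_one_smul F w, sympForm_smul_left, hw, mul_zero]), add_neg_cancel, add_neg_cancel,
    ← neg_one_smul F w, sympForm_smul_left, sympForm_self, mul_zero, add_zero, eEl_one]

/-- Scaling the vector. -/
theorem eEl_smul {e w : V} (hw : B w e = 0) (a k : F) : eEl (a • e) w k = eEl e (a • w) (a ^ 2 * k) := by
  refine sp_ext fun x => ?_
  rw [eEl_apply (by rw [sympForm_smul_right, hw, mul_zero]), eEl_apply (by rw [sympForm_smul_left, hw, mul_zero])]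
  simp only [sympForm_smul_right]
  module

/-- The short root element is symmetric in the two vectors. -/
theorem eEl_symm {e u : V} (hu : B u e = 0) : eEl e u (0 : F) = eEl u e 0 := by
  refine sp_ext fun x => ?_
  rw [eEl_apply hu, eEl_apply (sform_swap_zero hu)]
  module

theorem eEl_split {e w : V} (hw : B w e = 0) (k : F) : eEl e w k = sympTv e k * eEl e w 0 := by
  rw [← eEl_zero, eEl_mul (sympForm_zero_left _) hw, zero_add, sympForm_zero_right, add_zero, add_zero]

/-- A transvection centred on the line of two orthogonal vectors. -/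
theorem tv_split {e u : V} (hu : B u e = 0) (c μ : F) :
    sympTv (u + μ • e) c = sympTv u c * eEl e ((c * μ) • u) (c * μ ^ 2) := by
  refine sp_ext fun x => ?_
  rw [spVal_mul_mulVec, eEl_apply (by rw [sympForm_smul_left, hu, mul_zero]), tv_apply, tv_apply]
  simp only [sympForm_add_left, sympForm_add_right, sympForm_smul_left, sympForm_smul_right, sympForm_self,
    sform_swap_zero hu]
  module

variable {e f : Fin m ⊕ Fin m → F} (P : sympForm m F e f = 1)

include P

theorem ne_zero : e ≠ 0 := fun h0 => by rw [h0, sympForm_zero_left] at P; exact zero_ne_one P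

theorem form_fe : B f e = -1 := by rw [sympForm_swap, P]

theorem perp_part (x : V) : x - B x f • e + B x e • f ∈ perp e f :=
  ⟨by rw [sympForm_add_left, sympForm_sub_left, sympForm_smul_left, sympForm_smul_left, sympForm_self, form_fe P]; ring,
   by rw [sympForm_add_left, sympForm_sub_left, sympForm_smul_left, sympForm_smul_left, sympForm_self, P]; ring⟩

/-- Coordinates along the pair. -/
noncomputable def coordEquiv : (Fin m ⊕ Fin m → F) ≃ F × F × perp e f where
  toFun x := (sympForm m F x f, sympForm m F x e, ⟨_, perp_part P x⟩)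
  invFun p := p.1 • e - p.2.1 • f + (p.2.2 : Fin m ⊕ Fin m → F)
  left_inv x := by
    show B x f • e - B x e • f + (x - B x f • e + B x e • f) = x
    module
  right_inv p := by
    obtain ⟨a, b, w, hw⟩ := p
    have h1 : B (a • e - b • f + w) f = a := by
      rw [sympForm_add_left, sympForm_sub_left, sympForm_smul_left, sympForm_smul_left, P, sympForm_self, hw.2]; ring
    have h2 : B (a • e - b • f + w) e = b := by
      rw [sympForm_add_left, sympForm_sub_left, sympForm_smul_left, sympForm_smul_left, form_fe P, sympForm_self, hw.1]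
      ring
    refine Prod.ext h1 (Prod.ext h2 (Subtype.ext ?_))
    show a • e - b • f + w - B (a • e - b • f + w) f • e + B (a • e - b • f + w) e • f = w
    rw [h1, h2]
    module

theorem card_perp [Fintype F] {q d : ℕ} (hF : Fintype.card F = q) (hd : 2 * m = d + 2) :
    Nat.card (perp e f) = q ^ d := by
  have h1 := Nat.card_congr (coordEquiv P)
  rw [Nat.card_prod, Nat.card_prod, Nat.card_fun, Nat.card_eq_fintype_card (α := F), hF, Nat.card_sum, Nat.card_fin,
    ← two_mul, hd] at h1
  have hq : 0 < q := hF ▸ Fintype.card_pos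
  refine Nat.eq_of_mul_eq_mul_left (pow_pos hq 2) ?_
  rw [show q ^ 2 * q ^ d = q ^ (d + 2) by ring, h1]
  ring

theorem perp_nondeg : SympNondeg (perp e f) := by
  intro v hv hv0
  obtain ⟨y, hy⟩ := exists_sympForm_eq_one hv0
  refine ⟨_, perp_part P y, ?_⟩
  rw [sympForm_add_right, sympForm_sub_right, sympForm_smul_right, sympForm_smul_right, hy, hv.1, hv.2]
  ring

/-- A vector orthogonal to a nonzero vector but not to one outside its line. -/
theorem exists_perp_ne {v x : V} (hv : v ∈ perp e f) (hv0 : v ≠ 0) (hx : x ∈ perp e f) (hxv : ∀ l : F, x ≠ l • v) :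
    ∃ u ∈ perp e f, B v u = 0 ∧ B x u ≠ 0 := by
  obtain ⟨v', hv', h1⟩ := perp_nondeg P v hv hv0
  set z := x - B x v' • v with hz
  have hzW : z ∈ perp e f := Submodule.sub_mem _ hx (Submodule.smul_mem _ _ hv)
  have hz0 : z ≠ 0 := fun e0 => hxv _ (sub_eq_zero.1 e0)
  obtain ⟨y, hy, h2⟩ := perp_nondeg P z hzW hz0
  refine ⟨y - B v y • v', Submodule.sub_mem _ hy (Submodule.smul_mem _ _ hv'), ?_, fun h0 => ?_⟩
  · rw [sympForm_sub_right, sympForm_smul_right, h1, mul_one, sub_self]
  · rw [hz, sympForm_sub_left, sympForm_smul_left] at h2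
    rw [sympForm_sub_right, sympForm_smul_right] at h0
    exact one_ne_zero (α := F) (by linear_combination h0 - h2)

theorem eEl_apply_f {w : V} (hw : w ∈ perp e f) (k : F) : spVal (eEl e w k) *ᵥ f = f - w - k • e := by
  rw [eEl_apply hw.1, form_fe P, sform_swap_zero hw.2]
  module

theorem eEl_fix {w : V} (hw : w ∈ perp e f) (k : F) : spVal (eEl e w k) *ᵥ e = e := by
  rw [eEl_apply hw.1, sympForm_self, sform_swap_zero hw.1]
  simp

theorem eEl_inj {w w' : V} (hw : w ∈ perp e f) (hw' : w' ∈ perp e f) {k k' : F} (h : eEl e w k = eEl e w' k') :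
    w = w' ∧ k = k' := by
  have h1 : f - w - k • e = f - w' - k' • e := by rw [← eEl_apply_f P hw, h, eEl_apply_f P hw']
  have h2 := congrArg (fun z => B z f) h1
  simp only [sympForm_sub_left, sympForm_smul_left, P, hw.2, hw'.2, sympForm_self, mul_one, sub_zero, zero_sub,
    neg_inj] at h2
  subst h2
  exact ⟨by simpa using h1, rfl⟩

omit P

/-- The Heisenberg group. -/
noncomputable def heis (e f : Fin m ⊕ Fin m → F) : Subgroup (Matrix.symplecticGroup (Fin m) F) where
  carrier := {s | ∃ w ∈ perp e f, ∃ k, s = eEl e w k}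
  one_mem' := ⟨0, Submodule.zero_mem _, 0, (eEl_one e).symm⟩
  mul_mem' := by
    rintro _ _ ⟨w, hw, k, rfl⟩ ⟨w', hw', k', rfl⟩
    exact ⟨_, Submodule.add_mem _ hw hw', _, eEl_mul hw.1 hw'.1 k k'⟩
  inv_mem' := by
    rintro _ ⟨w, hw, k, rfl⟩
    exact ⟨_, Submodule.neg_mem _ hw, _, eEl_inv hw.1 k⟩

theorem eEl_mem {w : V} (hw : w ∈ perp e f) (k : F) : eEl e w k ∈ heis e f := ⟨w, hw, k, rfl⟩

theorem tv_mem_heis (k : F) : sympTv e k ∈ heis e f := ⟨0, Submodule.zero_mem _, k, (eEl_zero e k).symm⟩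

/-- The elements fixing both vectors. -/
def gW (e f : Fin m ⊕ Fin m → F) : Subgroup (Matrix.symplecticGroup (Fin m) F) where
  carrier := {s | spVal s *ᵥ e = e ∧ spVal s *ᵥ f = f}
  one_mem' := ⟨Matrix.one_mulVec e, Matrix.one_mulVec f⟩
  mul_mem' := by
    rintro a b ⟨ha, ha'⟩ ⟨hb, hb'⟩
    exact ⟨by rw [spVal_mul_mulVec, hb, ha], by rw [spVal_mul_mulVec, hb', ha']⟩
  inv_mem' := by
    rintro a ⟨ha, ha'⟩
    constructor
    · conv_lhs => rw [← ha]
      rw [spVal_inv_mulVec]
    · conv_lhs => rw [← ha']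
      rw [spVal_inv_mulVec]

theorem gW_mem_perp {g : Sp} (hg : g ∈ gW e f) {w : V} (hw : w ∈ perp e f) : spVal g *ᵥ w ∈ perp e f :=
  ⟨by rw [← hg.1, sympForm_map]; exact hw.1, by rw [← hg.2, sympForm_map]; exact hw.2⟩

theorem tv_mem_gW {u : V} (hu : u ∈ perp e f) (c : F) : sympTv u c ∈ gW e f := by
  constructor <;> rw [tv_apply]
  · rw [sform_swap_zero hu.1, mul_zero, zero_smul, add_zero]
  · rw [sform_swap_zero hu.2, mul_zero, zero_smul, add_zero]

theorem gW_conj_heis {g : Sp} (hg : g ∈ gW e f) {w : V} (k : F) :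
    g * eEl e w k * g⁻¹ = eEl e (spVal g *ᵥ w) k := by rw [eEl_conj, hg.1]

theorem closure_le_gW : Subgroup.closure (sympTvIn (perp e f)) ≤ gW e f := by
  rw [Subgroup.closure_le]
  rintro _ ⟨w, hw, c, rfl⟩
  exact tv_mem_gW hw c

include P

theorem gW_transitive {v w : V} (hv : v ∈ perp e f) (hv0 : v ≠ 0) (hw : w ∈ perp e f) (hw0 : w ≠ 0) :
    ∃ g ∈ gW e f, spVal g *ᵥ v = w := by
  obtain ⟨g, hg, e1⟩ := exists_tvIn_mulVec_eq (perp_nondeg P) hv hw hv0 hw0
  exact ⟨g, closure_le_gW hg, e1⟩

omit P in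
theorem sympFix_le_closure_tail (j k : ℕ) (hjk : j ≤ k) (hk : k ≤ m) :
    sympFix m F k ≤ Subgroup.closure (sympTvIn (sympTail m F j)) := by
  induction hk using Nat.decreasingInduction with
  | self => rw [sympFix_top]; exact bot_le
  | of_succ k hk ih =>
    intro A hA
    have hl := single_inl_mem_sympTail (F := F) (k := k) (i := ⟨k, hk⟩) le_rfl 1
    have hr := single_inr_mem_sympTail (F := F) (k := k) (i := ⟨k, hk⟩) le_rfl 1
    obtain ⟨C, hC, hC1, hC2⟩ := exists_tvIn_pair (sympTail_nondeg k)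
      (sympFix_map_mem_tail hA hr) (sympFix_map_mem_tail hA hl) hr hl
      ((sympForm_map A _ _).trans (sympForm_single_pair _)) (sympForm_single_pair _)
    have hCA : C * A ∈ sympFix m F (k + 1) := by
      refine mem_sympFix_succ hk (Subgroup.mul_mem _ (closure_tvIn_tail_le_fix k hC) hA) ?_ ?_
      · rw [Submonoid.coe_mul, ← Matrix.mulVec_mulVec]; exact hC2
      · rw [Submonoid.coe_mul, ← Matrix.mulVec_mulVec]; exact hC1
    have hle : Subgroup.closure (sympTvIn (sympTail m F k)) ≤ Subgroup.closure (sympTvIn (sympTail m F j)) :=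
      Subgroup.closure_mono fun _ ⟨w, hw, c, e1⟩ => ⟨w, fun i hi => hw i (lt_of_lt_of_le hi hjk), c, e1⟩
    have := Subgroup.mul_mem _ (Subgroup.inv_mem _ (hle hC)) (ih (by omega) hCA)
    rwa [inv_mul_cancel_left] at this

/-- The elements fixing a pair are products of transvections of its orthogonal space. -/
theorem gW_le_closure : gW e f ≤ Subgroup.closure (sympTvIn (perp e f)) := by
  intro g hg
  have hm : 0 < m := by
    rcases Nat.eq_zero_or_pos m with rfl | h1
    · exact absurd (Subsingleton.elim e 0) (ne_zero P)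
    · exact h1
  set i0 : Fin m := ⟨0, hm⟩
  obtain ⟨s, -, hs1, hs2⟩ := exists_closure_pair (u := e) (v := f) P (sympForm_single_pair i0)
  have hs1' : spVal s⁻¹ *ᵥ Pi.single (Sum.inr i0) 1 = e := by rw [← hs1, spVal_inv_mulVec]
  have hs2' : spVal s⁻¹ *ᵥ Pi.single (Sum.inl i0) 1 = f := by rw [← hs2, spVal_inv_mulVec]
  have hfix : s * g * s⁻¹ ∈ sympFix m F 1 := by
    intro i hi
    obtain rfl : i = i0 := Fin.ext (by simpa using hi)
    constructor <;> show spVal (s * g * s⁻¹) *ᵥ _ = _ <;> rw [spVal_mul_mulVec, spVal_mul_mulVec]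
    · rw [hs2', hg.2, hs2]
    · rw [hs1', hg.1, hs1]
  have h1 := sympFix_le_closure_tail 1 1 le_rfl hm hfix
  have hle : Subgroup.closure (sympTvIn (sympTail m F 1)) ≤
      (Subgroup.closure (sympTvIn (perp e f))).comap (MulAut.conj s⁻¹).toMonoidHom := by
    rw [Subgroup.closure_le]
    rintro _ ⟨w, hw, c, rfl⟩
    refine Subgroup.subset_closure ⟨spVal s⁻¹ *ᵥ w, ⟨?_, ?_⟩, c, ?_⟩
    · rw [← hs1', sympForm_map, sympForm_single_inr, (hw i0 (by simp [i0])).1]; simp
    · rw [← hs2', sympForm_map, sympForm_single_inl, (hw i0 (by simp [i0])).2]; simp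
    · exact sympTv_conj s⁻¹ w c
  have h2 := hle h1
  rw [Subgroup.mem_comap] at h2
  convert h2 using 1
  show g = s⁻¹ * (s * g * s⁻¹) * s⁻¹⁻¹
  group

/-- Scaling the pair and the orthogonal space. -/
theorem exists_scale {a s : F} (ha : a ≠ 0) (hs : s * s = 1) :
    ∃ g : Sp, spVal g *ᵥ e = a • e ∧ spVal g *ᵥ f = a⁻¹ • f ∧ ∀ w ∈ perp e f, spVal g *ᵥ w = s • w := by
  let L : V →ₗ[F] V :=
    { toFun := fun x => s • x + ((a - s) * B x f) • e - ((a⁻¹ - s) * B x e) • f
      map_add' := fun x y => by simp only [sympForm_add_left, mul_add]; module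
      map_smul' := fun c x => by simp only [sympForm_smul_left, RingHom.id_apply]; module }
  have hL : ∀ x, LinearMap.toMatrix' L *ᵥ x = L x := fun x => by rw [LinearMap.toMatrix'_mulVec]
  have hmem : LinearMap.toMatrix' L ∈ Sp := mem_symplecticGroup_iff_form.2 fun x y => by
    rw [hL, hL]
    show B (s • x + ((a - s) * B x f) • e - ((a⁻¹ - s) * B x e) • f)
      (s • y + ((a - s) * B y f) • e - ((a⁻¹ - s) * B y e) • f) = _
    simp only [sympForm_add_left, sympForm_add_right, sympForm_sub_left, sympForm_sub_right, sympForm_smul_left,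
      sympForm_smul_right, sympForm_self, P, form_fe P, sympForm_swap e y, sympForm_swap f y]
    have h1 : a * a⁻¹ = 1 := mul_inv_cancel₀ ha
    linear_combination (B x y - B x e * B f y * 0) * hs + (B y f * B x e - B x f * B y e) * h1
      + (B x f * B y e - B y f * B x e) * hs
  refine ⟨⟨_, hmem⟩, ?_, ?_, fun w hw => ?_⟩ <;> show LinearMap.toMatrix' L *ᵥ _ = _ <;> rw [hL] <;>
    show s • _ + ((a - s) * _) • e - ((a⁻¹ - s) * _) • f = _
  · rw [P, sympForm_self]; module
  · rw [form_fe P, sympForm_self]; module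
  · rw [hw.1, hw.2]; module

/-- The Heisenberg group as coordinates. -/
theorem card_heis [Fintype F] {q d : ℕ} (hF : Fintype.card F = q) (hd : 2 * m = d + 2) :
    Nat.card (heis e f) = q ^ d * q := by
  rw [← card_perp P hF hd, ← hF, ← Nat.card_eq_fintype_card, ← Nat.card_prod]
  refine (Nat.card_eq_of_bijective (fun p : perp e f × F => (⟨_, eEl_mem p.1.2 p.2⟩ : heis e f)) ⟨?_, ?_⟩).symm
  · rintro ⟨⟨w, hw⟩, k⟩ ⟨⟨w', hw'⟩, k'⟩ h1
    obtain ⟨e1, e2⟩ := eEl_inj P hw hw' (congrArg Subtype.val h1)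
    exact Prod.ext (Subtype.ext e1) e2
  · rintro ⟨_, w, hw, k, rfl⟩
    exact ⟨(⟨w, hw⟩, k), rfl⟩

/-- The Heisenberg group depends on the first vector only. -/
theorem exists_shift {f' : V} {w : V} (hw : w ∈ perp e f') (k : F) :
    ∃ w' ∈ perp e f, ∃ k', eEl e w k = eEl e w' k' ∧ w' = w - B w f • e := by
  have hw' : w - B w f • e ∈ perp e f := by
    have := perp_part P w
    rwa [hw.1, zero_smul, add_zero] at this
  refine ⟨_, hw', k + 2 * B w f, sp_ext fun x => ?_, rfl⟩
  rw [eEl_apply hw.1, eEl_apply hw'.1]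
  simp only [sympForm_sub_right, sympForm_smul_right]
  module

end Cfsg.Agent.Lie.MinIndexSp
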