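import Cfsg.Agent.Lib.Lie.MinIndexSpTypes

/-!
A transitive action of a symplectic group over the field with two elements on few points gives a quadratic form at
each point: the vectors of the transvections fixing it are its nonsingular vectors.
-/

set_option autoImplicit false
set_option linter.unusedSectionVars false
set_option maxHeartbeats 1000000

namespace Cfsg.Agent.Lie.MinIndexSp

open Matrix Finset MulAction Cfsg Cfsg.Agent.Classical

universe u

attribute [local instance 10] _root_.Classical.propDecidable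

variable {F : Type*} [Field F] [Fintype F] {m : ℕ}

local notation "V" => (Fin m ⊕ Fin m → F)
local notation "B" => sympForm m F
set_option quotPrecheck false in
local notation "Sp" => Matrix.symplecticGroup (Fin m) F

variable (hF : Fintype.card F = 2)

include hF

theorem two_eq_zero : (2 : F) = 0 := by
  have h := FiniteField.cast_card_eq_zero F
  rw [hF] at h
  exact_mod_cast h

theorem zero_or_one (x : F) : x = 0 ∨ x = 1 := by
  classical
  have h2 : ({0, 1} : Finset F) = univ := (Finset.card_eq_iff_eq_univ _).1 (by rw [hF, Finset.card_pair zero_ne_one])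
  have h := Finset.mem_univ x
  rw [← h2] at h
  simpa using h

theorem neg_eq (x : F) : -x = x := by linear_combination (-x) * two_eq_zero hF

theorem vec_add_self (v : V) : v + v = 0 := by rw [← two_smul F, two_eq_zero hF, zero_smul]

theorem form_comm (u v : V) : B u v = B v u := by rw [sympForm_swap, neg_eq hF]

variable {Ω : Type u} [MulAction (Matrix.symplecticGroup (Fin m) F) Ω] [Fintype Ω] {d : ℕ}
  (hd : 2 * m = d + 2) (hsmall : Fintype.card Ω < 2 ^ (d + 1)) (hd4 : 4 ≤ d)

omit hF in
/-- The vectors of the transvections fixing a point, as a function. -/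
noncomputable def qv (x : Ω) (v : Fin m ⊕ Fin m → F) : F :=
  @ite F (v ≠ 0 ∧ (sympTv v (1 : F) : Matrix.symplecticGroup (Fin m) F) • x = x) (_root_.Classical.propDecidable _) 1 0

include hd hsmall

/-- Every coordinate occurs in the stabiliser of a moved point. -/
theorem whole {e f : V} (P : B e f = 1) {x : Ω} (hx : sympTv e (1 : F) • x ≠ x) {w : V} (hw : w ∈ perp e f) :
    ∃ k : F, eEl e w k • x = x := by
  classical
  obtain ⟨D⟩ := exists_chr (F := F)
  have hxM : x ∈ M D e 1 := mem_M.2 fun c hc => by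
    rcases zero_or_one hF c with rfl | rfl
    · rw [mul_zero, AddChar.map_zero_eq_one]
    · exact absurd (mem_C.1 hc) hx
  have hcard := card_A P hF hd D one_ne_zero x
  have hA : Nat.card (A D e f 1 x) = 1 := by
    by_contra hne
    haveI : Nontrivial (A D e f 1 x) := Finite.one_lt_card_iff_nontrivial.1 (by
      have : 0 < Nat.card (A D e f 1 x) := Nat.card_pos
      omega)
    obtain ⟨⟨v, hv⟩, hv0⟩ := exists_ne (0 : A D e f 1 x)
    have hv0' : v ≠ 0 := fun e0 => hv0 (Subtype.ext e0)
    have h1 := double_count P hF hd (fun y => A D e f 1 y) (fun y w hw => hw.1)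
      (fun g hg y w => A_smul_gW P D 1 hg y) (fun y z hz => A_orb P D 1 hz) x hv.1 hv0'
    have h2 := (family_weight P hF hd D one_ne_zero hxM).trans (mW_le P hF D one_ne_zero)
    rw [kap, if_pos (two_eq_zero hF), one_mul] at h2
    set F0 := univ.filter fun O : Finset Ω => ∃ g ∈ gW e f, orb e f (g • x) = O
    have h3 : 1 ≤ (F0.filter fun O => ∀ z ∈ O, v ∈ A D e f 1 z).card := Finset.card_pos.2 ⟨orb e f x,
      Finset.mem_filter.2 ⟨Finset.mem_filter.2 ⟨Finset.mem_univ _, 1, one_mem _, by rw [one_smul]⟩,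
        fun z hz => by rw [A_orb P D 1 hz]; exact hv⟩⟩
    have h4 : 1 ≤ F0.card := le_trans h3 (Finset.card_filter_le _ _)
    have h5 : 2 ^ d - 1 ≤ F0.card * (Nat.card (A D e f 1 x) - 1) := (Nat.le_mul_of_pos_left _ h3).trans h1.ge
    obtain ⟨a, ha⟩ : ∃ a, Nat.card (A D e f 1 x) = a + 1 :=
      ⟨Nat.card (A D e f 1 x) - 1, by have : 0 < Nat.card (A D e f 1 x) := Nat.card_pos; omega⟩
    rw [ha, Nat.add_sub_cancel] at h5
    rw [ha] at h2
    rw [pow_succ] at hsmall
    have h6 : F0.card * (2 * (a + 1)) = 2 * (F0.card * a) + 2 * F0.card := by ring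
    have h7 : 0 < 2 ^ d := pow_pos (by norm_num) d
    omega
  rw [hA, one_mul] at hcard
  obtain ⟨⟨s, hs⟩, e1⟩ := ((Nat.bijective_iff_injective_and_card
    (fun s : S e f x => (⟨(s : V), s.2.1⟩ : perp e f))).2
    ⟨fun a a' haa => Subtype.ext (congrArg Subtype.val haa :), by rw [hcard, card_perp P hF hd]⟩).2 ⟨w, hw⟩
  have hws : w = s := (congrArg Subtype.val e1).symm
  obtain ⟨-, k, hk⟩ := hs
  exact ⟨k, by rwa [hws]⟩

omit hd hsmall in
theorem k_unique {e : V} {x : Ω} (hx : sympTv e (1 : F) • x ≠ x) {w : V} (hw : B w e = 0) {k k' : F}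
    (h : eEl e w k • x = x) (h' : eEl e w k' • x = x) : k = k' := by
  rcases zero_or_one hF (k - k') with h0 | h1
  · exact sub_eq_zero.1 h0
  · refine absurd ?_ hx
    have e1 : eEl e w k = sympTv e (1 : F) * eEl e w k' := by
      rw [← eEl_zero, eEl_mul (sympForm_zero_left _) hw, zero_add, sympForm_zero_right, add_zero, ← h1, sub_add_cancel]
    rwa [e1, mul_smul, h'] at h

omit hd hsmall in
theorem one_smul_zero {e w : V} {x : Ω} (hw : B w e = 0) (h : eEl e w (1 : F) • x = x) :
    eEl e w (0 : F) • x = sympTv e (1 : F) • x := by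
  have e1 : eEl e w (1 : F) = sympTv e (1 : F) * eEl e w 0 := eEl_split hw 1
  rw [e1, mul_smul, ← eq_inv_smul_iff, sympTv_inv, neg_eq hF] at h
  exact h

/-- A transvection keeping the pair of a moved point has a nonsingular coordinate. -/
theorem stay_one {e f : V} (P : B e f = 1) {x : Ω} (hx : sympTv e (1 : F) • x ≠ x) {u : V} (hu : u ∈ perp e f)
    (hu0 : u ≠ 0) (h : sympTv u (1 : F) • x = x ∨ sympTv u (1 : F) • x = sympTv e (1 : F) • x) :
    eEl e u (1 : F) • x = x := by
  obtain ⟨s, hs, hus⟩ := perp_nondeg P u hu hu0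
  obtain ⟨c, hc⟩ := whole hF hd hsmall P hx hu
  obtain ⟨a, ha⟩ := whole hF hd hsmall P hx hs
  have hsu : B s u = 1 := by rw [form_comm hF, hus]
  have h1 : eEl e (s + u) a = sympTv u (1 : F) * eEl e s a * (sympTv u (1 : F))⁻¹ := by
    rw [gW_conj_heis (tv_mem_gW hu 1), tv_apply, hsu, mul_one, one_smul]
  have h2 : eEl e (s + u) a • x = x := by
    have h3 : eEl e (s + u) a • sympTv u (1 : F) • x = sympTv u (1 : F) • x := by
      rw [h1, mul_smul, mul_smul, inv_smul_smul, ha]
    rcases h with h | h <;> rw [h] at h3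
    · exact h3
    · rwa [← mul_smul, ← eEl_zero, eEl_mul (by rw [sympForm_add_left, hs.1, hu.1, add_zero]) (sympForm_zero_left _),
        sympForm_zero_left, add_zero, add_zero, show eEl e (s + u) (a + 1) = sympTv e (1 : F) * eEl e (s + u) a by
          rw [← eEl_zero, eEl_mul (sympForm_zero_left _) (by rw [sympForm_add_left, hs.1, hu.1, add_zero]),
            zero_add, sympForm_zero_right, add_zero, add_comm a 1],
        mul_smul, eEl_zero, smul_left_cancel_iff] at h3
  have h3 : eEl e (s + u) (a + c + B u s) • x = x := by rw [← eEl_mul hs.1 hu.1, mul_smul, hc, ha]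
  have h4 := k_unique hF hx (by rw [sympForm_add_left, hs.1, hu.1, add_zero]) h2 h3
  rw [hus] at h4
  rwa [show c = 1 by linear_combination -h4 - two_eq_zero hF] at hc

/-- A nonsingular coordinate of a moved vector gives the same move. -/
theorem same_move {e f : V} (P : B e f = 1) {x : Ω} (hx : sympTv e (1 : F) • x ≠ x) {w : V} (hw : w ∈ perp e f)
    (hw0 : w ≠ 0) (h : eEl e w (1 : F) • x = x) (hm : sympTv w (1 : F) • x ≠ x) :
    sympTv w (1 : F) • x = sympTv e (1 : F) • x := by
  obtain ⟨w', hw', hww⟩ := perp_nondeg P w hw hw0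
  have he' : e ∈ perp w w' := ⟨sform_swap_zero hw.1, sform_swap_zero hw'.1⟩
  obtain ⟨k, hk⟩ := whole hF hd hsmall hww hm he'
  rw [eEl_split he'.1, ← eEl_symm hw.1, mul_smul, one_smul_zero hF hw.1 h] at hk
  rcases zero_or_one hF k with rfl | rfl
  · rw [sympTv_zero, one_smul] at hk; exact absurd hk hx
  · rw [← eq_inv_smul_iff, sympTv_inv, neg_eq hF] at hk
    exact hk.symm

include hd4

/-- No other transvection of the orthogonal space acts as the given one. -/
theorem no_same {e f : V} (P : B e f = 1) {x : Ω} (hx : sympTv e (1 : F) • x ≠ x) {s : V} (hs : s ∈ perp e f)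
    (hs0 : s ≠ 0) (hbad : sympTv s (1 : F) • x = sympTv e (1 : F) • x) : False := by
  have hks := stay_one hF hd hsmall P hx hs hs0 (Or.inr hbad)
  -- a singular coordinate orthogonal to it
  obtain ⟨z, hz, hz0, hzs, hsz, hkz⟩ : ∃ z ∈ perp e f, z ≠ 0 ∧ z ≠ s ∧ B s z = 0 ∧ eEl e z (0 : F) • x = x := by
    obtain ⟨⟨⟨p, hp⟩, hsp⟩, hpoff⟩ : ∃ y : {y : perp e f // B s (y : V) = 0}, ∀ l : F, (y.1 : V) ≠ l • s := by
      by_contra hcon
      push Not at hcon
      choose g hg using hcon
      have h1 : Nat.card {y : perp e f // B s (y : V) = 0} ≤ 2 := by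
        rw [← hF, ← Nat.card_eq_fintype_card]
        exact Nat.card_le_card_of_injective g fun a a' haa =>
          Subtype.ext (Subtype.ext (by rw [hg a, hg a', haa]))
      have h2 : 2 ^ d ≤ 2 ^ 2 := by
        rw [← card_vperp P hF hd hs hs0, sq]; exact Nat.mul_le_mul_right _ h1
      have := (Nat.pow_le_pow_iff_right (by omega : 1 < 2)).1 h2
      omega
    change B s p = 0 at hsp
    have hp0 : p ≠ 0 := fun e1 => hpoff 0 (by rw [zero_smul]; exact e1)
    have hps : p ≠ s := fun e1 => hpoff 1 (by rw [one_smul]; exact e1)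
    obtain ⟨k, hk⟩ := whole hF hd hsmall P hx hp
    rcases zero_or_one hF k with rfl | rfl
    · exact ⟨p, hp, hp0, hps, hsp, hk⟩
    · refine ⟨s + p, Submodule.add_mem _ hs hp, fun e1 => hps ?_, fun e1 => hp0 ?_, ?_, ?_⟩
      · rw [← add_zero p, ← e1, add_left_comm, vec_add_self hF, add_zero]
      · exact add_eq_left.1 e1
      · rw [sympForm_add_right, sympForm_self, hsp, add_zero]
      · have h1 : eEl e (s + p) ((1 : F) + 1 + B p s) • x = x := by rw [← eEl_mul hs.1 hp.1, mul_smul, hk, hks]
        rwa [show B p s = 0 from sform_swap_zero hsp, add_zero, show (1 : F) + 1 = 0 by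
          linear_combination two_eq_zero hF] at h1
  have hmz : sympTv z (1 : F) • x ≠ x := fun h => by
    have h1 := stay_one hF hd hsmall P hx hz hz0 (Or.inl h)
    exact one_ne_zero (k_unique hF hx hz.1 h1 hkz)
  have hne : sympTv z (1 : F) • x ≠ sympTv e (1 : F) • x := fun h => by
    have h1 := stay_one hF hd hsmall P hx hz hz0 (Or.inr h)
    exact one_ne_zero (k_unique hF hx hz.1 h1 hkz)
  -- a frame at the singular vector
  have hzl : ∀ l : F, z ≠ l • s := fun l e1 => by
    rcases zero_or_one hF l with rfl | rfl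
    · exact hz0 (by rw [e1, zero_smul])
    · exact hzs (by rw [e1, one_smul])
  obtain ⟨z', hz', hsz', hzz'⟩ := exists_perp_ne P hs hs0 hz hzl
  have hzz1 : B z z' = 1 := (zero_or_one hF _).resolve_left hzz'
  have hsW : s ∈ perp z z' := ⟨hsz, hsz'⟩
  have hmove : eEl z s (0 : F) • x = x := by
    obtain ⟨k, hk⟩ := whole hF hd hsmall hzz1 hmz hsW
    rcases zero_or_one hF k with rfl | rfl
    · exact hk
    · exact absurd ((same_move hF hd hsmall hzz1 hmz hsW hs0 hk (by rw [hbad]; exact hx)).symm.trans hbad) hne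
  have hsum : sympTv (s + z) (1 : F) • x = sympTv s (1 : F) • sympTv z (1 : F) • x := by
    have h1 := tv_split (e := z) (u := s) hsz (1 : F) (1 : F)
    rw [one_smul, one_mul, one_smul, one_pow, mul_one, eEl_split hsz] at h1
    rw [h1, mul_smul, mul_smul, hmove]
  have hkk : eEl e (s + z) (1 : F) • x = x := by
    have h1 : eEl e (s + z) ((1 : F) + 0 + B z s) • x = x := by rw [← eEl_mul hs.1 hz.1, mul_smul, hkz, hks]
    rwa [sform_swap_zero hsz, add_zero, add_zero] at h1
  have hsz0 : s + z ≠ 0 := fun e1 => hzs (by rw [← zero_add z, ← vec_add_self hF s, add_assoc, e1, add_zero])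
  by_cases hfix : sympTv (s + z) (1 : F) • x = x
  · rw [hsum, ← eq_inv_smul_iff, sympTv_inv, neg_eq hF, hbad] at hfix
    exact hne hfix
  · have h1 := same_move hF hd hsmall P hx (Submodule.add_mem _ hs hz) hsz0 hkk hfix
    rw [hsum, ← hbad, smul_left_cancel_iff] at h1
    exact hmz h1

/-- The fixed transvections orthogonal to a moved vector. -/
theorem qv_val {e f : V} (P : B e f = 1) {x : Ω} (hx : sympTv e (1 : F) • x ≠ x) {v : V} (hv : B v e = 0) {k : F}
    (hk : eEl e (v - B v f • e) k • x = x) : qv x v = k := by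
  set w := v - B v f • e with hw
  have hwW : w ∈ perp e f := by
    have := perp_part P v
    rwa [hv, zero_smul, add_zero] at this
  rcases eq_or_ne w 0 with hw0 | hw0
  · have hk0 : k = 0 := by
      refine k_unique hF hx hwW.1 hk ?_
      rw [hw0, eEl_one, one_smul]
    rw [hk0, qv, if_neg]
    rintro ⟨hv0, hvx⟩
    rcases zero_or_one hF (B v f) with h | h
    · rw [hw, h, zero_smul, sub_zero] at hw0; exact hv0 hw0
    · rw [hw, h, one_smul, sub_eq_zero] at hw0; rw [hw0] at hvx; exact hx hvx
  have key : sympTv v (1 : F) • x = x ↔ k = 1 := by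
    rcases zero_or_one hF (B v f) with h | h
    · have hvw : v = w := by rw [hw, h, zero_smul, sub_zero]
      rw [hvw]
      refine ⟨fun hf => k_unique hF hx hwW.1 hk (stay_one hF hd hsmall P hx hwW hw0 (Or.inl hf)), fun h1 => ?_⟩
      subst h1
      by_contra hne
      exact no_same hF hd hsmall hd4 P hx hwW hw0 (same_move hF hd hsmall P hx hwW hw0 hk hne)
    · have hvw : v = w + (1 : F) • e := by rw [hw, h, sub_add_cancel]
      rw [hvw, tv_split hwW.1, one_mul, one_smul, one_pow, mul_one, mul_smul]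
      rcases zero_or_one hF k with rfl | rfl
      · rw [eEl_split hwW.1, mul_smul, hk, ← eq_inv_smul_iff, sympTv_inv, neg_eq hF]
        exact ⟨fun h1 => absurd (k_unique hF hx hwW.1 (stay_one hF hd hsmall P hx hwW hw0 (Or.inr h1.symm)) hk)
          one_ne_zero, fun h1 => absurd h1 zero_ne_one⟩
      · refine ⟨fun _ => rfl, fun _ => ?_⟩
        rw [hk]
        by_contra hne
        exact no_same hF hd hsmall hd4 P hx hwW hw0 (same_move hF hd hsmall P hx hwW hw0 hk hne)
  have hv0 : v ≠ 0 := fun e1 => hw0 (by rw [hw, e1, sympForm_zero_left, zero_smul, sub_zero])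
  rcases zero_or_one hF k with rfl | rfl
  · rw [qv, if_neg]; exact fun h => zero_ne_one (key.1 h.2)
  · rw [qv, if_pos ⟨hv0, key.2 rfl⟩]

/-- The rule on the orthogonal space of a moved vector. -/
theorem qv_perp {e : V} {x : Ω} (hx : sympTv e (1 : F) • x ≠ x) {u v : V} (hu : B u e = 0) (hv : B v e = 0) :
    qv x (u + v) = qv x u + qv x v + B u v := by
  obtain ⟨f, P⟩ := exists_sympForm_eq_one (u := e) (fun e0 => hx (by rw [e0, show sympTv (0 : V) (1 : F) = 1 from
    sp_ext fun y => by rw [tv_apply, smul_zero, add_zero]; exact (Matrix.one_mulVec y).symm, one_smul]))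
  have hw : ∀ y : V, B y e = 0 → y - B y f • e ∈ perp e f := fun y hy => by
    have := perp_part P y
    rwa [hy, zero_smul, add_zero] at this
  obtain ⟨k, hk⟩ := whole hF hd hsmall P hx (hw u hu)
  obtain ⟨k', hk'⟩ := whole hF hd hsmall P hx (hw v hv)
  have huv : B (u + v) e = 0 := by rw [sympForm_add_left, hu, hv, add_zero]
  rw [qv_val hF hd hsmall hd4 P hx hu hk, qv_val hF hd hsmall hd4 P hx hv hk',
    qv_val hF hd hsmall hd4 P hx huv (k := k + k' + B u v) ?_]
  rw [show u + v - B (u + v) f • e = (u - B u f • e) + (v - B v f • e) by rw [sympForm_add_left]; module,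
    show B u v = B (v - B v f • e) (u - B u f • e) by
      rw [sympForm_sub_left, sympForm_sub_right, sympForm_smul_left, sympForm_smul_right, form_comm hF u v,
        sympForm_sub_right, sympForm_smul_right, form_comm hF e u, hu, hv, sympForm_self]
      ring,
    ← eEl_mul (hw u hu).1 (hw v hv).1, mul_smul, hk', hk]

omit hd hsmall hd4 in
theorem qv_zero (x : Ω) : qv (F := F) x (0 : V) = 0 := by rw [qv, if_neg]; exact fun h => h.1 rfl

omit hd hsmall hd4 in
theorem qv_cases (x : Ω) {v : V} (hv : v ≠ 0) :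
    (qv x v = (1 : F) ∧ sympTv v (1 : F) • x = x) ∨ (qv x v = (0 : F) ∧ sympTv v (1 : F) • x ≠ x) := by
  by_cases h : sympTv v (1 : F) • x = x
  · exact Or.inl ⟨by rw [qv, if_pos ⟨hv, h⟩], h⟩
  · exact Or.inr ⟨by rw [qv, if_neg fun h' => h h'.2], h⟩

omit hd hsmall hd4 in
/-- Two fixed nonorthogonal vectors give a third. -/
theorem fix_closure {x : Ω} {u v : V} (huv : B u v = 1) (hu : sympTv u (1 : F) • x = x)
    (hv : sympTv v (1 : F) • x = x) : sympTv (u + v) (1 : F) • x = x := by
  have h1 : spVal (sympTv u (1 : F)) *ᵥ v = u + v := by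
    rw [tv_apply, form_comm hF v u, huv, mul_one, one_smul, add_comm]
  rw [← h1, ← sympTv_conj, mul_smul, mul_smul, inv_smul_eq_iff.2 hu.symm, hv, hu]

/-- The rule for two nonorthogonal vectors. -/
theorem qv_ne {x : Ω} {u v : V} (huv : B u v = 1) : qv x (u + v) = qv x u + qv x v + B u v := by
  have hu0 : u ≠ 0 := fun e0 => by rw [e0, sympForm_zero_left] at huv; exact zero_ne_one huv
  have hv0 : v ≠ 0 := fun e0 => by rw [e0, sympForm_zero_right] at huv; exact zero_ne_one huv
  have huv0 : u + v ≠ 0 := fun e0 => by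
    have h1 : u = v := by rw [← add_zero u, ← vec_add_self hF v, ← add_assoc, e0, zero_add]
    rw [h1, sympForm_self] at huv; exact zero_ne_one huv
  have hu' : B u (u + v) = 1 := by rw [sympForm_add_right, sympForm_self, huv, zero_add]
  have hv' : B (u + v) v = 1 := by rw [sympForm_add_left, sympForm_self, huv, add_zero]
  have e1 : u + (u + v) = v := by rw [← add_assoc, vec_add_self hF, zero_add]
  have e2 : u + v + v = u := by rw [add_assoc, vec_add_self hF, add_zero]
  have h2 := two_eq_zero hF
  rw [huv]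
  rcases qv_cases hF x hu0 with ⟨qu, fu⟩ | ⟨qu, fu⟩ <;> rcases qv_cases hF x hv0 with ⟨qw, fw⟩ | ⟨qw, fw⟩ <;>
    rcases qv_cases hF x huv0 with ⟨qs, fs⟩ | ⟨qs, fs⟩ <;> rw [qu, qw, qs]
  · linear_combination -h2
  · exact absurd (fix_closure hF huv fu fw) fs
  · exact absurd (e1 ▸ fix_closure hF hu' fu fs) fw
  · linear_combination -h2
  · exact absurd (e2 ▸ fix_closure hF hv' fs fw) fu
  · linear_combination -h2
  · ring
  · exfalso
    -- a nonsingular coordinate in the orthogonal space
    obtain ⟨w, hw, hkw⟩ : ∃ w ∈ perp u v, eEl u w (1 : F) • x = x := by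
      by_contra hcon
      push Not at hcon
      have hzero : ∀ w ∈ perp u v, eEl u w (0 : F) • x = x := fun w hw => by
        obtain ⟨k, hk⟩ := whole hF hd hsmall huv fu hw
        rcases zero_or_one hF k with rfl | rfl
        · exact hk
        · exact absurd hk (hcon w hw)
      haveI : Nontrivial (perp u v) := Finite.one_lt_card_iff_nontrivial.1 (by
        rw [card_perp huv hF hd]; exact Nat.one_lt_two_pow (by omega))
      obtain ⟨⟨a, ha⟩, ha0⟩ := exists_ne (0 : perp u v)
      obtain ⟨c, hc, hac⟩ := perp_nondeg huv a ha fun e0 => ha0 (Subtype.ext e0)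
      have h1 : eEl u (a + c) ((0 : F) + 0 + B c a) • x = x := by
        rw [← eEl_mul ha.1 hc.1, mul_smul, hzero c hc, hzero a ha]
      rw [form_comm hF c a, hac, add_zero, zero_add] at h1
      exact hcon _ (Submodule.add_mem _ ha hc) h1
    have hqw : qv x w = (1 : F) := qv_val hF hd hsmall hd4 huv fu hw.1 (by rw [hw.2, zero_smul, sub_zero]; exact hkw)
    have hq1 : qv x (u + w) = (1 : F) := by
      rw [qv_perp hF hd hsmall hd4 fu (sympForm_self u) hw.1, qu, hqw, sform_swap_zero hw.1]; ring
    have hq2 : qv x (v + w) = (1 : F) := by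
      rw [qv_perp hF hd hsmall hd4 fw (sympForm_self v) hw.2, qw, hqw, sform_swap_zero hw.2]; ring
    have hof : ∀ y : V, qv x y = (1 : F) → sympTv y (1 : F) • x = x := fun y hy => by
      by_contra hne
      rw [qv, if_neg fun h => hne h.2] at hy
      exact zero_ne_one hy
    have hB : B (u + w) (v + w) = 1 := by
      rw [sympForm_add_left, sympForm_add_right, sympForm_add_right, huv, sform_swap_zero hw.1, hw.2, sympForm_self]
      ring
    have h3 := fix_closure hF hB (hof _ hq1) (hof _ hq2)
    rw [show u + w + (v + w) = u + v by rw [add_add_add_comm, vec_add_self hF, add_zero]] at h3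
    exact fs h3

variable [IsPretransitive (Matrix.symplecticGroup (Fin m) F) Ω] [Nontrivial Ω]

omit hd hsmall hd4 in
/-- Every point is moved by a transvection. -/
theorem exists_zero (hm : 0 < m) (x : Ω) : ∃ z : V, z ≠ 0 ∧ sympTv z (1 : F) • x ≠ x := by
  set e : V := Pi.single (Sum.inl ⟨0, hm⟩) 1 with he
  have he0 : e ≠ 0 := fun h0 => by
    have := congrFun h0 (Sum.inl ⟨0, hm⟩)
    rw [he, Pi.single_eq_same] at this
    exact one_ne_zero this
  obtain ⟨f, P⟩ := exists_sympForm_eq_one he0
  obtain ⟨b, c, hc⟩ := exists_moved (Ω := Ω) P hF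
  obtain rfl : c = 1 := (zero_or_one hF c).resolve_left fun e1 => hc (e1 ▸ zero_mem _)
  obtain ⟨g, rfl⟩ := MulAction.exists_smul_eq Sp b x
  refine ⟨spVal g *ᵥ e, fun e0 => he0 (sp_injective g (by
    show spVal g *ᵥ e = spVal g *ᵥ 0
    rw [e0, Matrix.mulVec_zero])), fun h => hc ?_⟩
  rwa [← sympTv_conj, mul_smul, mul_smul, inv_smul_smul, smul_left_cancel_iff] at h

/-- The fixed transvections give a quadratic form. -/
theorem qv_add (x : Ω) (u v : V) : qv x (u + v) = qv x u + qv x v + B u v := by
  rcases (zero_or_one hF (B u v)).symm with huv | huv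
  · exact qv_ne hF hd hsmall hd4 huv
  rcases eq_or_ne u 0 with rfl | hu0
  · rw [zero_add, qv_zero hF, sympForm_zero_left]; ring
  rcases eq_or_ne v 0 with rfl | hv0
  · rw [add_zero, qv_zero hF, sympForm_zero_right]; ring
  rcases eq_or_ne (u + v) 0 with hs0 | hs0
  · have h1 : u = v := by rw [← add_zero u, ← vec_add_self hF v, ← add_assoc, hs0, zero_add]
    rw [hs0, qv_zero hF, h1, sympForm_self]
    linear_combination (-(qv (F := F) x v)) * two_eq_zero hF
  rcases qv_cases hF x hu0 with ⟨qu, fu⟩ | ⟨-, fu⟩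
  swap
  · exact qv_perp hF hd hsmall hd4 fu (sympForm_self u) (sform_swap_zero huv)
  rcases qv_cases hF x hv0 with ⟨qw, fw⟩ | ⟨-, fw⟩
  swap
  · exact qv_perp hF hd hsmall hd4 fw huv (sympForm_self v)
  rcases qv_cases hF x hs0 with ⟨qs, fs⟩ | ⟨-, fs⟩
  swap
  · exact qv_perp hF hd hsmall hd4 fs (by rw [sympForm_add_right, sympForm_self, huv, add_zero])
      (by rw [sympForm_add_right, sympForm_self, form_comm hF v u, huv, add_zero])
  exfalso
  obtain ⟨z, hz0, hz⟩ := exists_zero hF (Ω := Ω) (m := m) (by omega) x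
  have hqz : qv x z = (0 : F) := by rw [qv, if_neg fun h => hz h.2]
  have key : ∀ a b : V, B a b = 0 → qv x a = (1 : F) → qv x b = (1 : F) → qv x (a + b) = (1 : F) → B z a = 0 →
      B z b = 0 ∨ False := by
    intro a b hab qa qb qab hza
    rcases zero_or_one hF (B z b) with h | h
    · exact Or.inl h
    · exfalso
      have hqza : qv x (z + a) = (1 : F) := by
        rw [qv_perp hF hd hsmall hd4 hz (sympForm_self z) (sform_swap_zero hza), hqz, qa, hza]; ring
      have h1 : qv x (z + a + b) = qv x (z + a) + qv x b + B (z + a) b :=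
        qv_ne hF hd hsmall hd4 (by rw [sympForm_add_left, h, hab, add_zero])
      have h2 : qv x (z + (a + b)) = qv x z + qv x (a + b) + B z (a + b) :=
        qv_ne hF hd hsmall hd4 (by rw [sympForm_add_right, hza, h, zero_add])
      rw [← add_assoc, h1, hqza, qb, hqz, qab, sympForm_add_left, h, hab, sympForm_add_right, hza, h] at h2
      exact one_ne_zero (α := F) (by linear_combination h2)
  rcases zero_or_one hF (B z u) with hzu | hzu
  · rcases key u v huv qu qw qs hzu with hzv | hF0
    · have := qv_perp hF hd hsmall hd4 hz (u := u) (v := v) (sform_swap_zero hzu) (sform_swap_zero hzv)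
      rw [qs, qu, qw, huv] at this
      exact one_ne_zero (α := F) (by linear_combination this + two_eq_zero hF - this * 0 + 0 * this)
    · exact hF0
  rcases zero_or_one hF (B z v) with hzv | hzv
  · rcases key v u (sform_swap_zero huv) qw qu (by rwa [add_comm]) hzv with h | h
    · exact zero_ne_one (h.symm.trans hzu)
    · exact h
  · have h1 := key (u + v) u (by rw [sympForm_add_left, sympForm_self, form_comm hF v u, huv, add_zero]) qs qu
      (by rwa [show u + v + u = v by rw [add_comm u v, add_assoc, vec_add_self hF, add_zero]])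
      (by rw [sympForm_add_right, hzu, hzv]; linear_combination two_eq_zero hF)
    rcases h1 with h | h
    · exact zero_ne_one (h.symm.trans hzu)
    · exact h

omit hd hsmall hd4 in
/-- The sum of the signs of a quadratic form squares to the number of vectors. -/
theorem sign_sum_sq (Q : V → F) (hQ : ∀ u v, Q (u + v) = Q u + Q v + B u v) :
    (∑ v : V, if Q v = 0 then (1 : ℤ) else -1) ^ 2 = 2 ^ (2 * m) := by
  classical
  have hsgn : ∀ a b : F, (if a = 0 then (1 : ℤ) else -1) * (if b = 0 then (1 : ℤ) else -1) =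
      if a + b = 0 then (1 : ℤ) else -1 := by
    intro a b
    have h11 : (1 : F) + 1 = 0 := by linear_combination two_eq_zero hF
    rcases zero_or_one hF a with rfl | rfl <;> rcases zero_or_one hF b with rfl | rfl <;> simp [h11]
  have hchar : ∀ w : V, w ≠ 0 → ∑ u : V, (if B u w = 0 then (1 : ℤ) else -1) = 0 := by
    intro w hw
    obtain ⟨y, hy⟩ := exists_sympForm_eq_one hw
    have h1 : ∑ u : V, (if B u w = 0 then (1 : ℤ) else -1) = ∑ u : V, -(if B u w = 0 then (1 : ℤ) else -1) := by
      refine Fintype.sum_equiv (Equiv.addRight y) _ _ fun u => ?_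
      rw [Equiv.coe_addRight, sympForm_add_left, form_comm hF y w, hy, ← hsgn]
      simp
    rw [Finset.sum_neg_distrib] at h1
    omega
  have h0 : Q 0 = 0 := by
    have := hQ 0 0
    rw [add_zero, sympForm_zero_left, add_zero] at this
    linear_combination -this
  rw [sq, Finset.sum_mul_sum]
  calc ∑ u : V, ∑ v : V, (if Q u = 0 then (1 : ℤ) else -1) * (if Q v = 0 then (1 : ℤ) else -1)
      = ∑ u : V, ∑ w : V, (if Q w = 0 then (1 : ℤ) else -1) * (if B u w = 0 then (1 : ℤ) else -1) := by
        refine Finset.sum_congr rfl fun u _ => (Fintype.sum_equiv (Equiv.addLeft u) _ _ fun w => ?_).symm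
        rw [Equiv.coe_addLeft, hsgn, hsgn, hQ]
        congr 2
        linear_combination (-(Q u)) * two_eq_zero hF
    _ = ∑ w : V, (if Q w = 0 then (1 : ℤ) else -1) * ∑ u : V, (if B u w = 0 then (1 : ℤ) else -1) := by
        rw [Finset.sum_comm]
        exact Finset.sum_congr rfl fun w _ => (Finset.mul_sum _ _ _).symm
    _ = _ := by
        rw [Finset.sum_eq_single (0 : V) (fun w _ hw => by rw [hchar w hw, mul_zero]) (by simp)]
        simp [h0, Fintype.card_sum, hF, two_mul]

omit hd hsmall hd4 in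
/-- The number of zeros of a quadratic form. -/
theorem zeros_count (hm : 0 < m) (Q : V → F) (hQ : ∀ u v, Q (u + v) = Q u + Q v + B u v) :
    (univ.filter fun v : V => Q v = 0).card = 2 ^ (m - 1) * (2 ^ m - 1) ∨
      (univ.filter fun v : V => Q v = 0).card = 2 ^ (m - 1) * (2 ^ m + 1) := by
  classical
  have h1 := sign_sum_sq hF Q hQ
  rw [Finset.sum_ite, Finset.sum_const, Finset.sum_const, mul_comm 2 m, pow_mul, sq_eq_sq_iff_eq_or_eq_neg] at h1
  have h2 := Finset.card_filter_add_card_filter_not (s := (univ : Finset V)) (fun v => Q v = 0)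
  rw [Finset.card_univ, Fintype.card_fun, hF, Fintype.card_sum, Fintype.card_fin, pow_add] at h2
  obtain ⟨j, rfl⟩ : ∃ j, m = j + 1 := ⟨m - 1, by omega⟩
  rw [Nat.add_sub_cancel]
  simp only [nsmul_eq_mul, mul_one, mul_neg] at h1
  set Z := (univ.filter fun v : Fin (j + 1) ⊕ Fin (j + 1) → F => Q v = 0).card
  set O := (univ.filter fun v : Fin (j + 1) ⊕ Fin (j + 1) → F => ¬Q v = 0).card
  have h3 : (2 : ℕ) ^ (j + 1) = 2 * 2 ^ j := pow_succ' 2 j
  rw [h3] at h2 ⊢
  have h4 : (2 : ℤ) ^ (j + 1) = 2 * ((2 ^ j : ℕ) : ℤ) := by push_cast; ring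
  rw [h4] at h1
  have hpos : 1 ≤ 2 * 2 ^ j := by have := Nat.one_le_two_pow (n := j); omega
  set T := 2 ^ j
  rcases h1 with h1 | h1
  · right
    have h5 : Z = O + 2 * T := by omega
    nlinarith
  · left
    have h5 : Z + 2 * T = O := by omega
    rw [Nat.mul_sub]
    have h6 : T * 1 ≤ T * (2 * T) := Nat.mul_le_mul_left _ hpos
    zify [h6]
    nlinarith

/-- The lower bound. -/
theorem binary_bound : 2 ^ (m - 1) * (2 ^ m - 1) ≤ Fintype.card Ω := by
  classical
  obtain ⟨b, -⟩ := exists_pair_ne Ω
  have hQ := qv_add hF hd hsmall hd4 b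
  have hz : ∀ v, qv b v = (0 : F) → v ≠ 0 → ∀ u : V, qv (sympTv v (1 : F) • b) u = qv b u + B u v := by
    intro v hv hv0 u
    have h1 : qv (sympTv v (1 : F) • b) u = qv b (spVal (sympTv v (1 : F)) *ᵥ u) := by
      have key : sympTv u (1 : F) • sympTv v (1 : F) • b = sympTv v (1 : F) • b ↔
          sympTv (spVal (sympTv v (1 : F)) *ᵥ u) (1 : F) • b = b := by
        rw [← sympTv_conj (sympTv v (1 : F)) u, mul_smul, mul_smul, sympTv_inv, neg_eq hF, ← eq_inv_smul_iff (g := sympTv v (1 : F)),
          sympTv_inv, neg_eq hF]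
      have h0 : spVal (sympTv v (1 : F)) *ᵥ u = 0 ↔ u = 0 :=
        ⟨fun e0 => sp_injective (sympTv v (1 : F)) (by
          show spVal _ *ᵥ u = spVal _ *ᵥ 0
          rw [e0, Matrix.mulVec_zero]), fun e0 => by rw [e0, Matrix.mulVec_zero]⟩
      simp only [qv, key, Ne, h0]
    rw [h1, tv_apply, one_mul]
    rcases zero_or_one hF (B u v) with h | h <;> rw [h]
    · rw [zero_smul, add_zero, add_zero]
    · rw [one_smul, hQ, hv, h, add_zero]
  let g : {v : V // qv b v = (0 : F)} → Ω := fun v => sympTv (v : V) (1 : F) • b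
  have hginj : Function.Injective g := by
    rintro ⟨v, hv⟩ ⟨v', hv'⟩ hvv
    have hval : ∀ w : V, qv b w = (0 : F) → ∀ u : V, qv (sympTv w (1 : F) • b) u = qv b u + B u w := by
      intro w hw u
      rcases eq_or_ne w 0 with rfl | hw0
      · rw [show sympTv (0 : V) (1 : F) = 1 from sp_ext fun y => by
          rw [tv_apply, smul_zero, add_zero]; exact (Matrix.one_mulVec y).symm, one_smul, sympForm_zero_right,
          add_zero]
      · exact hz w hw hw0 u
    refine Subtype.ext ?_
    by_contra hne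
    obtain ⟨u, hu⟩ := exists_sympForm_eq_one (u := v - v') (sub_ne_zero.2 hne)
    have h1 := hval v hv u
    rw [show sympTv v (1 : F) • b = sympTv v' (1 : F) • b from hvv, hval v' hv' u, add_right_inj] at h1
    rw [sympForm_swap, sympForm_sub_right, h1, sub_self, neg_zero] at hu
    exact zero_ne_one hu
  refine le_trans ?_ (Fintype.card_le_of_injective g hginj)
  rw [Fintype.card_subtype]
  rcases zeros_count hF (by omega) _ hQ with h | h <;> rw [h]
  exact Nat.mul_le_mul le_rfl (by have := Nat.one_le_two_pow (n := m); omega)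

omit [Nontrivial Ω] [IsPretransitive (Matrix.symplecticGroup (Fin m) F) Ω] [Fintype Ω] hd hsmall hd4 in
/-- The stabiliser of a form of minus type. -/
theorem exists_binary_subgroup (hm : 0 < m) :
    ∃ T : Subgroup (Matrix.symplecticGroup (Fin m) F), T.index = 2 ^ (m - 1) * (2 ^ m - 1) := by
  classical
  let Q0 : V → F := fun v => ∑ i, v (Sum.inl i) * v (Sum.inr i)
  have hQ0 : ∀ u v, Q0 (u + v) = Q0 u + Q0 v + B u v := fun u v => by
    simp only [Q0, Pi.add_apply, sympForm_eq_sum, ← Finset.sum_add_distrib]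
    refine Finset.sum_congr rfl fun i _ => ?_
    linear_combination (u (Sum.inl i) * v (Sum.inr i)) * two_eq_zero hF
  -- a form with few zeros
  obtain ⟨Q, hQ, hZ⟩ : ∃ Q : V → F, (∀ u v, Q (u + v) = Q u + Q v + B u v) ∧
      (univ.filter fun v : V => Q v = 0).card = 2 ^ (m - 1) * (2 ^ m - 1) := by
    rcases zeros_count hF hm Q0 hQ0 with h | h
    · exact ⟨Q0, hQ0, h⟩
    obtain ⟨a, ha⟩ : ∃ a, Q0 a = 1 := by
      refine ⟨Pi.single (Sum.inl ⟨0, hm⟩) 1 + Pi.single (Sum.inr ⟨0, hm⟩) 1, ?_⟩
      simp only [Q0]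
      rw [Finset.sum_eq_single ⟨0, hm⟩ (fun i _ hi => by simp [Pi.single_apply, hi]) (by simp)]
      simp
    refine ⟨fun v => Q0 v + B v a, fun u v => by
      show Q0 (u + v) + B (u + v) a = _
      rw [hQ0, sympForm_add_left]
      ring, ?_⟩
    have h1 : (univ.filter fun v : V => Q0 v + B v a = 0).card = (univ.filter fun v : V => ¬Q0 v = 0).card := by
      refine Finset.card_equiv (Equiv.addRight a) fun v => ?_
      simp only [Finset.mem_filter, Finset.mem_univ, true_and, Equiv.coe_addRight, hQ0, ha]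
      rcases zero_or_one hF (Q0 v + B v a) with h' | h' <;>
        rw [show Q0 v + 1 + B v a = Q0 v + B v a + 1 by ring, h'] <;> simp [two_eq_zero hF, one_add_one_eq_two]
    rw [h1]
    have h2 := Finset.card_filter_add_card_filter_not (s := (univ : Finset V)) (fun v => Q0 v = 0)
    rw [h, Finset.card_univ, Fintype.card_fun, hF, Fintype.card_sum, Fintype.card_fin, pow_add] at h2
    obtain ⟨j, rfl⟩ : ∃ j, m = j + 1 := ⟨m - 1, by omega⟩
    rw [Nat.add_sub_cancel, pow_succ] at h2 ⊢
    obtain ⟨t, ht⟩ : ∃ t, 2 ^ j = t + 1 := ⟨2 ^ j - 1, by have := Nat.one_le_two_pow (n := j); omega⟩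
    rw [ht] at h2 ⊢
    rw [show (t + 1) * 2 - 1 = 2 * t + 1 by omega]
    nlinarith
  let T : Subgroup (Matrix.symplecticGroup (Fin m) F) :=
    { carrier := {g | ∀ v, Q (spVal g *ᵥ v) = Q v}
      one_mem' := fun v => by rw [show spVal (1 : Sp) *ᵥ v = v from Matrix.one_mulVec v]
      mul_mem' := fun {g g'} hg hg' v => by rw [spVal_mul_mulVec, hg, hg']
      inv_mem' := fun {g} hg v => by rw [← hg (spVal g⁻¹ *ᵥ v), spVal_mulVec_inv] }
  refine ⟨T, ?_⟩
  -- the translate of a form by an element
  have hrep : ∀ g : Sp, ∃ a : V, ∀ v, Q (spVal g⁻¹ *ᵥ v) = Q v + B v a := by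
    intro g
    set L : V → F := fun v => Q (spVal g⁻¹ *ᵥ v) + Q v with hL
    have hadd : ∀ u v, L (u + v) = L u + L v := fun u v => by
      simp only [hL, Matrix.mulVec_add, hQ, sympForm_map]
      linear_combination (B u v) * two_eq_zero hF
    have h0 : L 0 = 0 := by have := hadd 0 0; rw [add_zero] at this; linear_combination -this
    have hsmul : ∀ (c : F) v, L (c • v) = c * L v := fun c v => by
      rcases zero_or_one hF c with rfl | rfl
      · rw [zero_smul, h0, zero_mul]
      · rw [one_smul, one_mul]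
    let Ll : V →ₗ[F] F := { toFun := L, map_add' := hadd, map_smul' := hsmul }
    let a : V := Sum.elim (fun i => L (Pi.single (Sum.inr i) 1)) (fun i => L (Pi.single (Sum.inl i) 1))
    let R : V →ₗ[F] F :=
      { toFun := fun v => B v a
        map_add' := fun u v => sympForm_add_left u v a
        map_smul' := fun c v => sympForm_smul_left c v a }
    refine ⟨a, fun v => ?_⟩
    have hLR : Ll = R := by
      refine LinearMap.pi_ext' fun i => LinearMap.ext_ring ?_
      show L (Pi.single i 1) = B (Pi.single i 1) a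
      rcases i with i | i
      · rw [sympForm_swap, sympForm_single_inl, neg_eq hF, mul_one]; rfl
      · rw [sympForm_swap, sympForm_single_inr, neg_eq hF, neg_eq hF, mul_one]; rfl
    have h1 : L v = B v a := LinearMap.congr_fun hLR v
    simp only [hL] at h1
    linear_combination h1 - Q v * two_eq_zero hF
  choose α hα using hrep
  have hinv : ∀ g : Sp, Q (α g) = 0 := by
    intro g
    by_contra hne
    have ha : Q (α g) = 1 := (zero_or_one hF _).resolve_left hne
    have h1 : (univ.filter fun v : V => Q (spVal g⁻¹ *ᵥ v) = 0).card = (univ.filter fun v : V => Q v = 0).card := by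
      refine Finset.card_bij' (fun v _ => spVal g⁻¹ *ᵥ v) (fun v _ => spVal g *ᵥ v) (fun v hv => ?_) (fun v hv => ?_)
        (fun v _ => spVal_mulVec_inv g v) (fun v _ => spVal_inv_mulVec g v)
      · exact Finset.mem_filter.2 ⟨Finset.mem_univ _, (Finset.mem_filter.1 hv).2⟩
      · exact Finset.mem_filter.2 ⟨Finset.mem_univ _, by rw [spVal_inv_mulVec]; exact (Finset.mem_filter.1 hv).2⟩
    have h2 : (univ.filter fun v : V => Q (spVal g⁻¹ *ᵥ v) = 0).card = (univ.filter fun v : V => ¬Q v = 0).card := by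
      refine Finset.card_equiv (Equiv.addRight (α g)) fun v => ?_
      simp only [Finset.mem_filter, Finset.mem_univ, true_and, Equiv.coe_addRight, hQ, hα, ha]
      rcases zero_or_one hF (Q v + B v (α g)) with h' | h' <;>
        rw [show Q v + 1 + B v (α g) = Q v + B v (α g) + 1 by ring, h'] <;>
          simp [two_eq_zero hF, one_add_one_eq_two]
    have h3 := Finset.card_filter_add_card_filter_not (s := (univ : Finset V)) (fun v => Q v = 0)
    rw [← h2, h1, hZ, Finset.card_univ, Fintype.card_fun, hF, Fintype.card_sum, Fintype.card_fin, pow_add] at h3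
    obtain ⟨j, rfl⟩ : ∃ j, m = j + 1 := ⟨m - 1, by omega⟩
    rw [Nat.add_sub_cancel, pow_succ] at h3
    obtain ⟨t, ht⟩ : ∃ t, 2 ^ j = t + 1 := ⟨2 ^ j - 1, by have := Nat.one_le_two_pow (n := j); omega⟩
    rw [ht, show (t + 1) * 2 - 1 = 2 * t + 1 by omega] at h3
    nlinarith
  have heq : ∀ g g' : Sp, g⁻¹ * g' ∈ T → α g = α g' := by
    intro g g' hgg
    by_contra hne
    obtain ⟨u, hu⟩ := exists_sympForm_eq_one (u := α g - α g') (sub_ne_zero.2 hne)
    have h1 := hgg (spVal g'⁻¹ *ᵥ u)
    rw [spVal_mul_mulVec, spVal_mulVec_inv, hα, hα, add_right_inj] at h1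
    rw [sympForm_swap, sympForm_sub_right, h1, sub_self, neg_zero] at hu
    exact zero_ne_one hu
  rw [Subgroup.index, ← hZ, ← Nat.card_eq_finsetCard]
  refine Nat.card_eq_of_bijective (fun x : Sp ⧸ T =>
    (⟨α x.out, Finset.mem_filter.2 ⟨Finset.mem_univ _, hinv _⟩⟩ : univ.filter fun v : V => Q v = 0)) ⟨?_, ?_⟩
  · intro x y hxy
    have h1 : α x.out = α y.out := congrArg Subtype.val hxy
    rw [← QuotientGroup.out_eq' x, ← QuotientGroup.out_eq' y, QuotientGroup.eq]
    intro v
    rw [spVal_mul_mulVec, hα x.out, h1, ← hα y.out, spVal_inv_mulVec]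
  · rintro ⟨v, hv⟩
    have hv' : Q v = 0 := (Finset.mem_filter.1 hv).2
    refine ⟨QuotientGroup.mk (sympTv v (1 : F)), Subtype.ext ?_⟩
    show α _ = v
    rw [heq _ (sympTv v (1 : F)) (QuotientGroup.eq.1 (QuotientGroup.out_eq' _))]
    by_contra hne
    obtain ⟨u, hu⟩ := exists_sympForm_eq_one (u := α (sympTv v (1 : F)) - v) (sub_ne_zero.2 hne)
    have h1 := hα (sympTv v (1 : F)) u
    rw [sympTv_inv, neg_eq hF, tv_apply, one_mul] at h1
    have h3 : Q (u + B u v • v) = Q u + B u v := by
      rcases zero_or_one hF (B u v) with h | h <;> rw [h]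
      · rw [zero_smul, add_zero, add_zero]
      · rw [one_smul, hQ, hv', h, add_zero]
    rw [h3, add_right_inj] at h1
    rw [sympForm_swap, sympForm_sub_right, h1, sub_self, neg_zero] at hu
    exact zero_ne_one hu

end Cfsg.Agent.Lie.MinIndexSp
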