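import Cfsg.Agent.Lib.Lie.MinIndexSpThree

/-!
A transitive action of a symplectic group has at least as many points as the projective space.
-/

set_option autoImplicit false
set_option linter.unusedSectionVars false
set_option maxHeartbeats 1000000

namespace Cfsg.Agent.Lie.MinIndexSp

open Matrix Finset MulAction Cfsg Cfsg.Agent.Classical

universe u

attribute [local instance 10] _root_.Classical.propDecidable

variable {F : Type*} [Field F] [Fintype F] {m : ℕ}

local notation "V" => (Fin m ⊕ Fin m → F)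
local notation "B" => sympForm m F
set_option quotPrecheck false in
local notation "Sp" => Matrix.symplecticGroup (Fin m) F

variable {Ω : Type u} [MulAction (Matrix.symplecticGroup (Fin m) F) Ω] [Fintype Ω]
  [IsPretransitive (Matrix.symplecticGroup (Fin m) F) Ω]
variable {q d : ℕ} (hF : Fintype.card F = q) (hd : 2 * m = d + 2) (hq : 3 ≤ q)
  (hd2 : 2 ≤ d) (hd4 : 4 ≤ q ∨ 4 ≤ d) (hsmall : Small q d Ω)
variable {e f : Fin m ⊕ Fin m → F} (P : sympForm m F e f = 1)

include hF hd hq hd2 hd4 hsmall P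

/-- Every orbit has trivial coordinates. -/
theorem all_bot (D : Chr F) {r : F} (hr : r ≠ 0) {b : Ω} (hb : b ∈ M D e r) : S e f b = ⊥ := by
  rcases types P hF hd D hq hsmall hd2 hr hb with h | h | h
  · exact h
  · exact absurd h (two_false hF hd D hq hd2 hd4 hsmall P hr hb)
  · exact absurd h (three_false hF hd D hq hd2 hd4 hsmall P hr hb)

/-- The vectors of the fixing transvections of a point. -/
noncomputable def fixSet (x : Ω) : Finset (Fin m ⊕ Fin m → F) :=
  @Finset.filter (Fin m ⊕ Fin m → F) (fun v => v ≠ 0 ∧ (sympTv v (1 : F) : Matrix.symplecticGroup (Fin m) F) • x = x) (_root_.Classical.decPred _) univ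

omit hF hd hq hd2 hd4 hsmall P in
theorem mem_fixSet {x : Ω} {v : V} : v ∈ fixSet (F := F) (m := m) x ↔ v ≠ 0 ∧ sympTv v (1 : F) • x = x := by simp [fixSet]

omit hq hd2 hd4 hsmall in
/-- Double counting. -/
theorem fixSet_count (x : Ω) :
    Fintype.card Ω * (fixSet (F := F) (m := m) x).card = (q ^ (d + 2) - 1) * fixN Ω e 1 := by
  classical
  have hne : ∀ z : Ω, (fixSet (F := F) (m := m) z).card = (fixSet (F := F) (m := m) x).card := by
    intro z
    obtain ⟨g, rfl⟩ := MulAction.exists_smul_eq Sp x z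
    refine Finset.card_bij' (fun w _ => spVal g⁻¹ *ᵥ w) (fun w _ => spVal g *ᵥ w) (fun w hw => ?_) (fun w hw => ?_)
      (fun w _ => spVal_mulVec_inv g w) (fun w _ => spVal_inv_mulVec g w)
    · obtain ⟨hw0, hw1⟩ := mem_fixSet.1 hw
      refine mem_fixSet.2 ⟨fun e0 => hw0 ?_, ?_⟩
      · rw [← spVal_mulVec_inv g w, e0, Matrix.mulVec_zero]
      · rw [← sympTv_conj, inv_inv, mul_smul, mul_smul, hw1, inv_smul_smul]
    · obtain ⟨hw0, hw1⟩ := mem_fixSet.1 hw
      refine mem_fixSet.2 ⟨fun e0 => hw0 ?_, ?_⟩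
      · rw [← spVal_inv_mulVec g w, e0, Matrix.mulVec_zero]
      · rw [← sympTv_conj, mul_smul, mul_smul, inv_smul_smul, hw1]
  rw [← Finset.card_univ, ← smul_eq_mul, ← Finset.sum_const, ← Finset.sum_congr rfl (fun z _ => hne z)]
  have hV : (univ.filter fun w : V => w ≠ 0).card = q ^ (d + 2) - 1 := by
    rw [Finset.filter_ne', Finset.card_erase_of_mem (Finset.mem_univ _), Finset.card_univ, Fintype.card_fun, hF,
      Fintype.card_sum, Fintype.card_fin, ← two_mul, hd]
  have hrhs : ∑ w ∈ univ.filter (fun w : V => w ≠ 0), fixN Ω w 1 = (q ^ (d + 2) - 1) * fixN Ω e 1 := by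
    rw [Finset.sum_congr rfl (fun w hw => fixN_vec P hF (Finset.mem_filter.1 hw).2 1), Finset.sum_const,
      smul_eq_mul, hV]
  rw [← hrhs]
  simp only [fixSet, fixN, Nat.card_eq_fintype_card, Fintype.card_subtype, Finset.card_eq_sum_ones,
    Finset.sum_filter]
  rw [Finset.sum_comm]
  refine Finset.sum_congr rfl fun w _ => ?_
  by_cases hw : w = 0 <;> simp [hw]

/-- There is no small action. -/
theorem no_small [Nontrivial Ω] : False := by
  classical
  obtain ⟨D⟩ := exists_chr (F := F)
  have h1ν : (1 : F) * D.ν ≠ 0 := mul_ne_zero one_ne_zero D.ν_ne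
  obtain ⟨b0, c0, hc0⟩ := exists_moved (Ω := Ω) P hF
  obtain ⟨r0, hr0, hb0⟩ := exists_M_of_C_ne D ⟨c0, hc0⟩
  obtain ⟨y, hy⟩ := exists_free P hF hd D hq hsmall hd2 hd4 hr0 hb0 (all_bot hF hd hq hd2 hd4 hsmall P D hr0 hb0)
  have hyM : ∀ s : F, y ∈ M D e s := fun s => mem_M.2 fun c hc => by
    rw [hy, AddSubgroup.mem_bot] at hc
    rw [hc, mul_zero, AddChar.map_zero_eq_one]
  have hyS : S e f y = ⊥ := all_bot hF hd hq hd2 hd4 hsmall P D one_ne_zero (hyM 1)
  have hweight : ∀ {s : F}, s ≠ 0 → ∀ {z : Ω}, S e f z = ⊥ → q * Nat.card (A D e f s z) = q * q ^ d := by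
    intro s hs z hz
    have h1 := card_A P hF hd D hs z
    rw [hz, AddSubgroup.card_bot, mul_one] at h1
    rw [h1]
  -- one orbit
  have hone : ∀ z : Ω, (∃ c, c ∉ C e z) → z ∈ orb e f y := by
    intro z hz
    obtain ⟨s, hs, hzM⟩ := exists_M_of_C_ne D hz
    have hzS := all_bot hF hd hq hd2 hd4 hsmall P D hs hzM
    rcases char_cases P hF hd hq with ⟨h2, -⟩ | ⟨h2, -⟩
    · exact bot_unique P hF hd D hq hsmall h2 hs hzM hzS (hyM s) hyS
    by_contra hout
    have hsν : s * D.ν ≠ 0 := mul_ne_zero hs D.ν_ne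
    have hzy : z ≠ y := fun e0 => hout (e0 ▸ mem_orb_self z)
    have h1 := sum_orbits_le P hF hd D hs {z, y} (id : Ω → Ω)
      (fun w hw => by
        rcases Finset.mem_insert.1 hw with rfl | hw
        · exact hzM
        · rw [Finset.mem_singleton.1 hw]; exact hyM s)
      (fun w hw w' hw' e1 => by
        simp only [Finset.mem_insert, Finset.mem_singleton] at hw hw'
        rcases hw with rfl | rfl <;> rcases hw' with rfl | rfl
        · rfl
        · exact absurd (orb_eq_iff.1 e1) hout
        · exact absurd (orb_eq_iff.1 e1.symm) hout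
        · rfl)
    rw [Finset.sum_pair hzy, id, id, hweight hs hzS, hweight hs hyS] at h1
    have h2' := sum_orbits_le P hF hd D hsν {y} (id : Ω → Ω) (fun w hw => Finset.mem_singleton.1 hw ▸ hyM _)
      (fun a ha c hc _ => (Finset.mem_singleton.1 ha).trans (Finset.mem_singleton.1 hc).symm)
    rw [Finset.sum_singleton, id, hweight hsν hyS] at h2'
    have h3 := mW_pair (Ω := Ω) P hF D hs
    have h4 := hsmall
    rw [Small, pow_succ, pow_succ] at h4
    have h5 : 3 * (q * q ^ d) ≤ 2 * Fintype.card Ω := by omega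
    obtain ⟨a, ha⟩ : ∃ a, q = a + 3 := ⟨q - 3, by omega⟩
    rw [show q - 1 = a + 2 by omega] at h4
    have h6 := Nat.mul_le_mul_right (a + 2) h5
    rw [ha] at h4 h6
    nlinarith [Nat.zero_le ((a + 3) ^ d * a), Nat.zero_le ((a + 3) ^ d * a * a)]
  obtain ⟨x, hx, hfix⟩ := exists_fixed P hF hd D hq hsmall hd4 one_ne_zero (hyM 1) hyS
  have hxC : C e x = ⊥ := by rw [C_orb P hx, hy]
  have hxS : S e f x = ⊥ := by rw [S_orb P hx, hyS]
  have hCz : ∀ z ∈ orb e f y, C e z = ⊥ := fun z hz => by rw [C_orb P hz, hy]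
  -- central stabilisers are trivial or everything
  have hdich : ∀ (v : V), v ≠ 0 → ∀ z : Ω, C v z = ⊥ ∨ ∀ c, c ∈ C v z := by
    intro v hv z
    obtain ⟨g, hg⟩ := symp_pretransitive hv (ne_zero P)
    rw [← C_conj g v z, hg]
    by_cases h : ∃ c, c ∉ C e (g • z)
    · exact Or.inl (hCz _ (hone _ h))
    · exact Or.inr (fun c => not_not.1 fun hc => h ⟨c, hc⟩)
  have horb : (orb e f y).card = q ^ d * q := by
    have := card_orb P hF hd y
    rwa [hy, hyS, AddSubgroup.card_bot, AddSubgroup.card_bot, mul_one, mul_one] at this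
  have hN : Fintype.card Ω = fixN Ω e 1 + q ^ d * q := by
    rw [← horb, fixN, Nat.card_eq_fintype_card, Fintype.card_subtype, ← Finset.card_union_of_disjoint,
      ← Finset.card_univ]
    · congr 1
      ext z
      simp only [Finset.mem_univ, true_iff, Finset.mem_union, Finset.mem_filter, true_and]
      rw [or_iff_not_imp_left]
      exact fun hz => hone z ⟨1, hz⟩
    · refine Finset.disjoint_left.2 fun z hz hz' => ?_
      have h1 : (1 : F) ∈ C e z := mem_C.2 (Finset.mem_filter.1 hz).2
      rw [hCz z hz', AddSubgroup.mem_bot] at h1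
      exact one_ne_zero h1
  obtain ⟨u, hu, hu0⟩ : ∃ u ∈ perp e f, u ≠ 0 := by
    haveI : Nontrivial (perp e f) := Finite.one_lt_card_iff_nontrivial.1 (by
      rw [card_perp P hF hd]
      exact Nat.one_lt_pow (by omega) (by omega))
    obtain ⟨⟨u, hu⟩, h0⟩ := exists_ne (0 : perp e f)
    exact ⟨u, hu, fun e0 => h0 (Subtype.ext e0)⟩
  have hphi : q ^ d ≤ fixN Ω e 1 := by
    rw [← fixN_vec P hF hu0 1, ← card_vperp P hF hd hu hu0, ← hF, ← Nat.card_eq_fintype_card, ← Nat.card_prod]
    refine Nat.card_le_card_of_injective (fun p : {w : perp e f // B u (w : V) = 0} × F =>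
      (⟨eEl e (p.1.1 : V) p.2 • x, ?_⟩ : {z : Ω // sympTv u (1 : F) • z = z})) ?_
    · have h1 := gW_conj_heis (tv_mem_gW hu (1 : F)) (w := (p.1.1 : V)) p.2
      rw [tv_apply, sform_swap_zero p.1.2, mul_zero, zero_smul, add_zero] at h1
      rw [← mul_smul, mul_inv_eq_iff_eq_mul.1 h1, mul_smul, hfix u hu]
    · rintro ⟨⟨⟨w, hw⟩, hwu⟩, k⟩ ⟨⟨⟨w', hw'⟩, hwu'⟩, k'⟩ h1
      have h2 : eEl e w k • x = eEl e w' k' • x := congrArg Subtype.val h1
      rw [← inv_smul_eq_iff, ← mul_smul, eEl_inv hw'.1, eEl_mul (Submodule.neg_mem _ hw').1 hw.1] at h2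
      have h3 : -w' + w ∈ S e f x := ⟨Submodule.add_mem _ (Submodule.neg_mem _ hw') hw, _, h2⟩
      rw [hxS, AddSubgroup.mem_bot, neg_add_eq_zero] at h3
      subst h3
      rw [neg_add_cancel, ← neg_one_smul F w', sympForm_smul_right, sympForm_self, mul_zero, add_zero, eEl_zero,
        ← mem_C, hxC, AddSubgroup.mem_bot, neg_add_eq_zero] at h2
      subst h2
      rfl
  -- the fixing vectors orthogonal to the vector
  have hperp : ((fixSet (F := F) (m := m) x).filter fun v => B v e = 0).card = q ^ d - 1 := by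
    have h1 : ((univ : Finset (perp e f)).filter fun w => w ≠ 0).card = q ^ d - 1 := by
      rw [← card_perp P hF hd, Nat.card_eq_fintype_card]
      simp [Finset.filter_ne']
    rw [← h1]
    symm
    refine Finset.card_bij (fun w _ => (w : V)) (fun w hw => ?_) (fun a _ c _ hac => ?_) ?_
    · exact Finset.mem_filter.2 ⟨mem_fixSet.2 ⟨fun e0 => (Finset.mem_filter.1 hw).2 (Subtype.ext e0),
        hfix _ w.2 1⟩, w.2.1⟩
    · exact Subtype.ext hac
    · intro v hv
      obtain ⟨hv1, hve⟩ := Finset.mem_filter.1 hv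
      obtain ⟨hv0, hvx⟩ := mem_fixSet.1 hv1
      set w := v - B v f • e with hwdef
      have hw : w ∈ perp e f := by
        have := perp_part P v
        rwa [hve, zero_smul, add_zero] at this
      by_cases hμ : B v f = 0
      · refine ⟨⟨w, hw⟩, Finset.mem_filter.2 ⟨Finset.mem_univ _, fun e0 => hv0 ?_⟩, ?_⟩
        · have e1 : w = 0 := congrArg Subtype.val e0
          rwa [hwdef, hμ, zero_smul, sub_zero] at e1
        · show w = v
          rw [hwdef, hμ, zero_smul, sub_zero]
      · exfalso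
        rw [show v = w + B v f • e by rw [hwdef, sub_add_cancel], tv_split hw.1, mul_smul, one_mul, one_mul] at hvx
        have h2 : eEl e (B v f • w) (B v f ^ 2) • x = x := smul_left_cancel (sympTv w (1 : F)) (by
          rw [hvx, hfix w hw 1])
        have h3 : B v f • w ∈ S e f x := ⟨Submodule.smul_mem _ _ hw, _, h2⟩
        rw [hxS, AddSubgroup.mem_bot] at h3
        rw [h3, eEl_zero, ← mem_C, hxC, AddSubgroup.mem_bot] at h2
        exact hμ (pow_eq_zero_iff two_ne_zero |>.1 h2)
  -- the others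
  set Pn := (univ : Finset (F × perp e f)).filter fun p => sympTv (f + p.1 • e + (p.2 : V)) (1 : F) • x = x with hPn
  have hpB : ∀ p : F × perp e f, B (f + p.1 • e + (p.2 : V)) e = -1 := fun p => by
    rw [sympForm_add_left, sympForm_add_left, form_fe P, sympForm_smul_left, sympForm_self, mul_zero, add_zero,
      p.2.2.1, add_zero]
  have hp0 : ∀ p : F × perp e f, f + p.1 • e + (p.2 : V) ≠ 0 := fun p e0 => by
    have := hpB p
    rw [e0, sympForm_zero_left, eq_comm, neg_eq_zero] at this
    exact one_ne_zero this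
  have hscale : ∀ (v : V), v ≠ 0 → sympTv v (1 : F) • x = x → ∀ s : F, sympTv (s • v) (1 : F) • x = x := by
    intro v hv hvx s
    rcases hdich v hv x with h | h
    · have h1 : (1 : F) ∈ C v x := hvx
      rw [h, AddSubgroup.mem_bot] at h1
      exact absurd h1 one_ne_zero
    · rw [tv_smul]; exact h _
  have hother : ((fixSet (F := F) (m := m) x).filter fun v => ¬B v e = 0).card = Pn.card * (q - 1) := by
    have h1 : ((univ : Finset F).filter fun s => s ≠ 0).card = q - 1 := by
      rw [Finset.filter_ne', Finset.card_erase_of_mem (Finset.mem_univ _), Finset.card_univ, hF]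
    rw [← h1, ← Finset.card_product]
    refine (Finset.card_bij (fun p _ => p.2 • (f + p.1.1 • e + (p.1.2 : V))) (fun p hp => ?_) ?_ ?_).symm
    · obtain ⟨hp1, hp2⟩ := Finset.mem_product.1 hp
      have hs : p.2 ≠ 0 := (Finset.mem_filter.1 hp2).2
      refine Finset.mem_filter.2 ⟨mem_fixSet.2 ⟨smul_ne_zero hs (hp0 _),
        hscale _ (hp0 _) (Finset.mem_filter.1 hp1).2 _⟩, ?_⟩
      rw [sympForm_smul_left, hpB, mul_neg, mul_one, neg_eq_zero]
      exact hs
    · rintro ⟨⟨a, w⟩, s⟩ hp ⟨⟨a', w'⟩, s'⟩ - hpp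
      simp only at hpp
      have hs : s ≠ 0 := (Finset.mem_filter.1 (Finset.mem_product.1 hp).2).2
      have e1 : s = s' := by
        have := congrArg (fun z => B z e) hpp
        simp only [sympForm_smul_left] at this
        rw [show B (f + a • e + (w : V)) e = -1 from hpB (a, w),
          show B (f + a' • e + (w' : V)) e = -1 from hpB (a', w'), mul_neg, mul_neg, mul_one, mul_one, neg_inj] at this
        exact this
      subst e1
      have e2 : f + a • e + (w : V) = f + a' • e + (w' : V) := smul_right_injective _ hs hpp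
      have e3 : a = a' := by
        have := congrArg (fun z => B z f) e2
        simpa [sympForm_add_left, sympForm_smul_left, sympForm_self, P, w.2.2, w'.2.2] using this
      subst e3
      rw [Subtype.ext (add_left_cancel e2)]
    · intro v hv
      obtain ⟨hv1, hve⟩ := Finset.mem_filter.1 hv
      obtain ⟨hv0, hvx⟩ := mem_fixSet.1 hv1
      set s := -B v e with hs
      have hs0 : s ≠ 0 := neg_ne_zero.2 hve
      set w : perp e f := ⟨s⁻¹ • (v - B v f • e + B v e • f), Submodule.smul_mem _ _ (perp_part P v)⟩ with hw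
      have e1 : s • (f + (s⁻¹ * B v f) • e + (w : V)) = v := by
        rw [hw, smul_add, smul_add, smul_smul, ← mul_assoc, mul_inv_cancel₀ hs0, one_mul,
          show s • (s⁻¹ • (v - B v f • e + B v e • f)) = v - B v f • e + B v e • f from smul_inv_smul₀ hs0 _, hs]
        module
      refine ⟨((s⁻¹ * B v f, w), s), Finset.mem_product.2 ⟨Finset.mem_filter.2 ⟨Finset.mem_univ _, ?_⟩,
        Finset.mem_filter.2 ⟨Finset.mem_univ _, hs0⟩⟩, e1⟩
      have h2 := hscale v hv0 hvx s⁻¹
      conv at h2 => lhs; arg 1; arg 1; rw [← e1, inv_smul_smul₀ hs0]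
      exact h2
  have hinj : ∀ p ∈ Pn, ∀ p' ∈ Pn, p.2 = p'.2 → p = p' := by
    rintro ⟨a, w⟩ hp ⟨a', w'⟩ hp' (rfl : w = w')
    by_contra hne
    have ha : a' - a ≠ 0 := fun e0 => hne (Prod.ext (sub_eq_zero.1 e0).symm rfl)
    set v := f + a • e + (w : V) with hv
    set v' := f + a' • e + (w : V) with hv'
    have hvv : v' - v = (a' - a) • e := by rw [hv, hv']; module
    have hB : B v' v = a' - a := by
      rw [show v' = v + (v' - v) by abel, hvv, sympForm_add_left, sympForm_self, sympForm_smul_left, sympForm_swap e v,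
        show B v e = -1 from hpB (a, w)]
      ring
    have hg : sympTv v (-(a' - a)⁻¹) • x = x := by
      rcases hdich v (hp0 (a, w)) x with h | h
      · have h1 : (1 : F) ∈ C v x := (Finset.mem_filter.1 hp).2
        rw [h, AddSubgroup.mem_bot] at h1
        exact absurd h1 one_ne_zero
      · exact h _
    have h1 : C (v' + (-(a' - a)⁻¹ * B v' v) • v) x = C v' x := by
      conv_lhs => rw [← tv_apply, ← hg]
      exact C_conj _ v' x
    rw [hB, neg_mul, inv_mul_cancel₀ ha, neg_one_smul, ← sub_eq_add_neg, hvv] at h1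
    have h2 : (1 : F) ∈ C ((a' - a) • e) x := by rw [h1]; exact (Finset.mem_filter.1 hp').2
    rw [C_scale, hxC, AddSubgroup.mem_bot, mul_one] at h2
    exact ha (pow_eq_zero_iff two_ne_zero |>.1 h2)
  have hPle : Pn.card ≤ q ^ d := by
    rw [← card_perp P hF hd, Nat.card_eq_fintype_card, ← Finset.card_univ]
    exact Finset.card_le_card_of_injOn Prod.snd (fun _ _ => Finset.mem_univ _) fun p hp p' hp' => hinj p hp p' hp'
  have hR : (fixSet (F := F) (m := m) x).card = (q ^ d - 1) + Pn.card * (q - 1) := by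
    rw [← hperp, ← hother, Finset.card_filter_add_card_filter_not]
  have hRN := fixSet_count hF hd P x
  rw [hR, hN] at hRN
  have hsm := hsmall
  rw [Small, hN] at hsm
  obtain ⟨a, ha⟩ : ∃ a, q = a + 3 := ⟨q - 3, by omega⟩
  have hY : a + 3 + 1 ≤ q ^ d := by
    have h1 : q ^ 2 ≤ q ^ d := Nat.pow_le_pow_right (by omega) hd2
    rw [sq] at h1
    nlinarith
  obtain ⟨X, hX⟩ : ∃ X, q ^ d = X + 1 := ⟨q ^ d - 1, by omega⟩
  have hK : q ^ (d + 2) - 1 = (X + 1) * (a + 3) * (a + 3) - 1 := by rw [pow_succ, pow_succ, hX, ha]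
  rw [hK] at hRN
  rw [pow_succ, pow_succ] at hsm
  rw [hX] at hRN hsm hphi hPle hY
  rw [show q - 1 = a + 2 by omega] at hRN hsm
  rw [ha] at hRN hsm
  obtain ⟨T, hT⟩ : ∃ T, (X + 1) * (a + 3) * (a + 3) = T + 1 := by
    obtain ⟨T, hT⟩ := Nat.exists_eq_succ_of_ne_zero (show (X + 1) * (a + 3) * (a + 3) ≠ 0 by positivity)
    exact ⟨T, hT⟩
  rw [hT, Nat.add_sub_cancel, Nat.add_sub_cancel] at hRN
  set φ := fixN Ω e 1
  set Y := (X + 1) * (a + 3) with hYdef
  by_cases hw : ∃ p ∈ Pn, p.2 ≠ 0
  · have hge : X ≤ Pn.card := by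
      obtain ⟨⟨a0, w⟩, hp, hw0⟩ := hw
      have hall : ∀ w' : perp e f, w' ≠ 0 → (a0, w') ∈ Pn := by
        intro w' hw'
        obtain ⟨g, hg, e1⟩ := gW_transitive P w.2 (fun e0 => hw0 (Subtype.ext e0)) w'.2
          (fun e0 => hw' (Subtype.ext e0))
        have hgx : g • x = x := by
          have hle : Subgroup.closure (sympTvIn (perp e f)) ≤ stabilizer Sp x := by
            rw [Subgroup.closure_le]
            rintro _ ⟨z, hz, c, rfl⟩
            exact hfix z hz c
          exact hle (gW_le_closure P hg)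
        refine Finset.mem_filter.2 ⟨Finset.mem_univ _, ?_⟩
        show sympTv (f + a0 • e + (w' : V)) (1 : F) • x = x
        have h1 : spVal g *ᵥ (f + a0 • e + (w : V)) = f + a0 • e + (w' : V) := by
          rw [Matrix.mulVec_add, Matrix.mulVec_add, Matrix.mulVec_smul, hg.1, hg.2, e1]
        rw [← h1, ← sympTv_conj, mul_smul, mul_smul, inv_smul_eq_iff.2 hgx.symm, (Finset.mem_filter.1 hp).2, hgx]
      have h1 : ((univ : Finset (perp e f)).filter fun w' => w' ≠ 0).card ≤ Pn.card :=
        Finset.card_le_card_of_injOn (fun w' => (a0, w')) (fun w' hw' => hall w' (Finset.mem_filter.1 hw').2)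
          fun _ _ _ _ h => (Prod.mk.injEq ..).mp h |>.2
      rwa [Finset.filter_ne', Finset.card_erase_of_mem (Finset.mem_univ _), Finset.card_univ,
        ← Nat.card_eq_fintype_card, card_perp P hF hd, hX, Nat.add_sub_cancel] at h1
    rcases (show Pn.card = X ∨ Pn.card = X + 1 by omega) with h | h <;> rw [h] at hRN
    · have e1 : T = Y * (a + 2) + Y - 1 := by
        rw [show Y * (a + 2) + Y = (X + 1) * (a + 3) * (a + 3) by rw [hYdef]; ring, hT, Nat.add_sub_cancel]
      have e2 : φ * (a + 2) * (Y + 1) + (a + 3) * Y = Y * Y := by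
        have : T + 1 = Y * (a + 3) := by rw [← hT]
        nlinarith
      rcases Nat.lt_or_ge (φ * (a + 2) + (a + 3)) Y with h1 | h1
      · have := Nat.mul_le_mul_right (Y + 1) (show φ * (a + 2) + (a + 3) + 1 ≤ Y by omega)
        nlinarith
      · have := Nat.mul_le_mul_right (Y + 1) h1
        nlinarith
    · have : T + 1 = Y * (a + 3) := by rw [← hT]
      have e2 : φ * (a + 2) * Y + Y = Y * Y := by nlinarith
      have e3 : φ * (a + 2) + 1 = Y := by
        refine Nat.eq_of_mul_eq_mul_right (show 0 < Y by positivity) ?_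
        linarith
      nlinarith
  · push Not at hw
    have h1 : Pn.card ≤ 1 := Finset.card_le_one.2 fun p hp p' hp' => hinj p hp p' hp' ((hw p hp).trans (hw p' hp').symm)
    have h2 : (X + Pn.card * (a + 2)) * (φ + Y) ≤ (X + (a + 2)) * (φ + Y) := by
      refine Nat.mul_le_mul_right _ (Nat.add_le_add_left ?_ _)
      calc Pn.card * (a + 2) ≤ 1 * (a + 2) := Nat.mul_le_mul_right _ h1
        _ = a + 2 := one_mul _
    have : T + 1 = Y * (a + 3) := by rw [← hT]
    have h4 : (a + 4) * (X + (a + 2)) < T := by nlinarith [Nat.zero_le (X * a * a), Nat.zero_le (X * a)]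
    have h5 : φ + Y ≤ φ * (a + 4) := by
      have := Nat.mul_le_mul_right (a + 3) hphi
      nlinarith
    have h6 := (h2.trans (Nat.mul_le_mul_left _ h5))
    have h7 : φ * ((a + 4) * (X + (a + 2))) < φ * T := Nat.mul_lt_mul_of_pos_left h4 (by omega)
    nlinarith

end Cfsg.Agent.Lie.MinIndexSp
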