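import Cfsg.Agent.Lib.Lie.MinIndexSpBase
import Mathlib.Analysis.Fourier.FiniteAbelian.PontryaginDuality

/-!
An action of a symplectic group: fixed points of transvections and orbits of a Heisenberg group.
-/

set_option autoImplicit false
set_option linter.unusedSectionVars false
set_option maxHeartbeats 1000000

namespace Cfsg.Agent.Lie.MinIndexSp

open Matrix Finset MulAction Cfsg Cfsg.Agent.Classical

universe u

attribute [local instance 10] _root_.Classical.propDecidable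

/-- A character of the field and a representative of the classes of nonzero scalars modulo squares. -/
structure Chr (F : Type*) [Field F] where
  /-- a character -/
  χ : AddChar F ℂ
  χ_ne : χ ≠ 1
  /-- a representative -/
  ν : F
  ν_ne : ν ≠ 0
  classes : ∀ c : F, c ≠ 0 → ∃ a : F, a ≠ 0 ∧ (c = a ^ 2 ∨ c = a ^ 2 * ν)
  ν_two : (2 : F) = 0 → ν = 1

variable {F : Type*} [Field F] [Fintype F] {m : ℕ}

theorem exists_chr : Nonempty (Chr F) := by
  classical
  obtain ⟨χ, hχ⟩ := (AddChar.exists_apply_ne_zero (α := F) (a := (1 : F))).2 one_ne_zero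
  have hχ' : χ ≠ 1 := fun e0 => hχ (by rw [e0]; rfl)
  by_cases h : ∀ c : F, IsSquare c
  · exact ⟨⟨χ, hχ', 1, one_ne_zero, fun c hc => by
      obtain ⟨a, rfl⟩ := h c
      exact ⟨a, fun e0 => hc (by rw [e0, mul_zero]), Or.inl (sq a).symm⟩, fun _ => rfl⟩⟩
  push Not at h
  obtain ⟨ν, hν⟩ := h
  have h2 : (2 : F) ≠ 0 := fun h2 => hν (FiniteField.isSquare_of_char_two
    ((CharP.ringChar_of_prime_eq_zero Nat.prime_two (by exact_mod_cast h2))) ν)
  have hν0 : ν ≠ 0 := fun e0 => hν (e0 ▸ IsSquare.zero)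
  have hF2 : ringChar F ≠ 2 := fun e0 => h2 (by
    have := ringChar.Nat.cast_ringChar (R := F)
    rw [e0] at this
    exact_mod_cast this)
  refine ⟨⟨χ, hχ', ν, hν0, fun c hc => ?_, fun e0 => absurd e0 h2⟩⟩
  by_cases hs : IsSquare c
  · obtain ⟨a, rfl⟩ := hs
    exact ⟨a, fun e0 => hc (by rw [e0, mul_zero]), Or.inl (sq a).symm⟩
  · obtain ⟨a, ha⟩ : IsSquare (c / ν) := by
      have e1 : quadraticChar F (c / ν) = 1 := by
        have hc1 := quadraticChar_neg_one_iff_not_isSquare.2 hs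
        have hn1 := quadraticChar_neg_one_iff_not_isSquare.2 hν
        have hm : quadraticChar F (c / ν) * quadraticChar F ν = quadraticChar F c := by
          rw [← map_mul, div_mul_cancel₀ _ hν0]
        rw [hn1, hc1] at hm
        linarith
      exact (quadraticChar_one_iff_isSquare (div_ne_zero hc hν0)).1 e1
    refine ⟨a, fun e0 => hc ?_, Or.inr ?_⟩
    · rw [e0, mul_zero, div_eq_zero_iff] at ha; exact ha.resolve_right hν0
    · rw [sq, ← ha, div_mul_cancel₀ _ hν0]

/-- One in characteristic two, two otherwise. -/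
noncomputable def kap (F : Type*) [Field F] : ℕ := if (2 : F) = 0 then 1 else 2

theorem exists_char_coeff {χ : AddChar F ℂ} (hχ : χ ≠ 1) (ψ : AddChar F ℂ) : ∃ r : F, ∀ c, ψ c = χ (r * c) := by
  classical
  have hb := (Nat.bijective_iff_injective_and_card (fun r : F => χ.mulShift r)).2
    ⟨AddChar.to_mulShift_inj_of_isPrimitive (AddChar.IsPrimitive.of_ne_one hχ), by
      rw [Nat.card_eq_fintype_card, Nat.card_eq_fintype_card, AddChar.card_eq]⟩
  obtain ⟨r, hr⟩ := hb.2 ψ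
  exact ⟨r, fun c => (DFunLike.congr_fun hr c).symm⟩

local notation "V" => (Fin m ⊕ Fin m → F)
local notation "B" => sympForm m F
set_option quotPrecheck false in
local notation "Sp" => Matrix.symplecticGroup (Fin m) F

variable {Ω : Type u} [MulAction (Matrix.symplecticGroup (Fin m) F) Ω]

/-- The transvections of a vector fixing a point. -/
noncomputable def C (e : Fin m ⊕ Fin m → F) (b : Ω) : AddSubgroup F where
  carrier := {c | sympTv e c • b = b}
  add_mem' := fun {a c} (ha : sympTv e a • b = b) (hc : sympTv e c • b = b) => by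
    show sympTv e (a + c) • b = b
    rw [← sympTv_mul, mul_smul, hc, ha]
  zero_mem' := by show sympTv e (0 : F) • b = b; rw [sympTv_zero, one_smul]
  neg_mem' := fun {a} (ha : sympTv e a • b = b) => by
    show sympTv e (-a) • b = b
    rw [← sympTv_inv, inv_smul_eq_iff, ha]

theorem mem_C {e : V} {b : Ω} {c : F} : c ∈ C e b ↔ sympTv e c • b = b := Iff.rfl

/-- The coordinates of the stabiliser in the Heisenberg group. -/
noncomputable def S (e f : Fin m ⊕ Fin m → F) (b : Ω) : AddSubgroup (Fin m ⊕ Fin m → F) where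
  carrier := {w | w ∈ perp e f ∧ ∃ k : F, eEl e w k • b = b}
  add_mem' := by
    rintro w w' ⟨hw, k, hk⟩ ⟨hw', k', hk'⟩
    refine ⟨Submodule.add_mem _ hw hw', k + k' + sympForm m F w' w, ?_⟩
    rw [← eEl_mul hw.1 hw'.1, mul_smul, hk', hk]
  zero_mem' := ⟨Submodule.zero_mem _, 0, by rw [eEl_one, one_smul]⟩
  neg_mem' := by
    rintro w ⟨hw, k, hk⟩
    refine ⟨Submodule.neg_mem _ hw, -k, ?_⟩
    rw [← eEl_inv hw.1, inv_smul_eq_iff, hk]

/-- The annihilator of the coordinates. -/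
noncomputable def A (D : Chr F) (e f : Fin m ⊕ Fin m → F) (r : F) (b : Ω) : AddSubgroup (Fin m ⊕ Fin m → F) where
  carrier := {v | v ∈ perp e f ∧ ∀ s ∈ S e f b, D.χ (r * sympForm m F v s) = 1}
  add_mem' := by
    rintro v v' ⟨hv, hv'⟩ ⟨hw, hw'⟩
    exact ⟨Submodule.add_mem _ hv hw, fun s hs => by
      rw [sympForm_add_left, mul_add, AddChar.map_add_eq_mul, hv' s hs, hw' s hs, one_mul]⟩
  zero_mem' := ⟨Submodule.zero_mem _, fun s _ => by rw [sympForm_zero_left, mul_zero, AddChar.map_zero_eq_one]⟩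
  neg_mem' := by
    rintro v ⟨hv, hv'⟩
    refine ⟨Submodule.neg_mem _ hv, fun s hs => ?_⟩
    have h1 := hv' (-s) (neg_mem hs)
    rw [← neg_one_smul F s, sympForm_smul_right] at h1
    rw [← neg_one_smul F v, sympForm_smul_left]
    exact h1

variable [Fintype Ω]

/-- The number of points fixed by a transvection. -/
noncomputable def fixN (Ω : Type u) [MulAction (Matrix.symplecticGroup (Fin m) F) Ω] (e : Fin m ⊕ Fin m → F) (c : F) : ℕ :=
  Nat.card {b : Ω // sympTv e c • b = b}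

/-- The points whose central stabiliser lies in the kernel of a character. -/
noncomputable def M (D : Chr F) (e : Fin m ⊕ Fin m → F) (r : F) : Finset Ω :=
  Finset.univ.filter fun b => ∀ c ∈ C e b, D.χ (r * c) = 1

/-- Their central weight. -/
noncomputable def mW (Ω : Type u) [Fintype Ω] [MulAction (Matrix.symplecticGroup (Fin m) F) Ω]
    (D : Chr F) (e : Fin m ⊕ Fin m → F) (r : F) : ℕ :=
  ∑ b ∈ M (Ω := Ω) D e r, Nat.card (C e b)

/-- An orbit of the Heisenberg group. -/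
noncomputable def orb (e f : Fin m ⊕ Fin m → F) (b : Ω) : Finset Ω :=
  Finset.univ.filter fun x => ∃ g ∈ heis e f, g • b = x

theorem mem_M {D : Chr F} {e : V} {r : F} {b : Ω} : b ∈ M D e r ↔ ∀ c ∈ C e b, D.χ (r * c) = 1 := by
  simp [M]

theorem mem_orb {e f : V} {b x : Ω} : x ∈ orb e f b ↔ ∃ g ∈ heis e f, g • b = x := by simp [orb]

theorem mem_orb_self {e f : V} (b : Ω) : b ∈ orb e f b := mem_orb.2 ⟨1, one_mem _, one_smul _ b⟩

theorem orb_eq {e f : V} {b x : Ω} (hx : x ∈ orb e f b) : orb e f x = orb e f b := by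
  obtain ⟨g, hg, rfl⟩ := mem_orb.1 hx
  ext y
  rw [mem_orb, mem_orb]
  constructor
  · rintro ⟨g', hg', rfl⟩
    exact ⟨g' * g, mul_mem hg' hg, mul_smul _ _ _⟩
  · rintro ⟨g', hg', rfl⟩
    exact ⟨g' * g⁻¹, mul_mem hg' (inv_mem hg), by rw [mul_smul, inv_smul_smul]⟩

theorem orb_eq_iff {e f : V} {b x : Ω} : orb e f x = orb e f b ↔ x ∈ orb e f b :=
  ⟨fun h => h ▸ mem_orb_self x, orb_eq⟩

/-! ### Transport -/

theorem C_conj (g : Sp) (e : V) (b : Ω) : C (spVal g *ᵥ e) (g • b) = C e b := by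
  ext c
  rw [mem_C, mem_C, ← sympTv_conj, mul_smul, mul_smul, inv_smul_smul, smul_left_cancel_iff]

theorem C_smul {g : Sp} {e : V} (hg : spVal g *ᵥ e = e) (b : Ω) : C e (g • b) = C e b := by
  conv_lhs => rw [← hg]
  exact C_conj g e b

theorem C_scale (e : V) (a : F) (b : Ω) {c : F} : c ∈ C (a • e) b ↔ a ^ 2 * c ∈ C e b := by
  rw [mem_C, mem_C, tv_smul]

variable {e f : Fin m ⊕ Fin m → F} (P : sympForm m F e f = 1)

include P

theorem heis_fix {g : Sp} (hg : g ∈ heis e f) : spVal g *ᵥ e = e := by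
  obtain ⟨w, hw, k, rfl⟩ := hg
  exact eEl_fix P hw k

theorem C_orb {b x : Ω} (hx : x ∈ orb e f b) : C e x = C e b := by
  obtain ⟨g, hg, rfl⟩ := mem_orb.1 hx
  exact C_smul (heis_fix P hg) b

omit P in
theorem S_smul_gW {g : Sp} (hg : g ∈ gW e f) (b : Ω) {w : V} :
    w ∈ S e f (g • b) ↔ spVal g⁻¹ *ᵥ w ∈ S e f b := by
  have key : ∀ {g : Sp}, g ∈ gW e f → ∀ (b : Ω) {w : V}, w ∈ S e f b → spVal g *ᵥ w ∈ S e f (g • b) := by
    rintro g hg b w ⟨hw, k, hk⟩
    refine ⟨gW_mem_perp hg hw, k, ?_⟩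
    rw [← gW_conj_heis hg, mul_smul, mul_smul, inv_smul_smul, hk]
  refine ⟨fun h => ?_, fun h => ?_⟩
  · have := key (inv_mem hg) _ h
    rwa [inv_smul_smul] at this
  · have := key hg _ h
    rwa [spVal_mulVec_inv] at this

theorem S_orb {b x : Ω} (hx : x ∈ orb e f b) : S e f x = S e f b := by
  have key : ∀ {g : Sp}, g ∈ heis e f → ∀ c : Ω, ∀ w ∈ S e f c, w ∈ S e f (g • c) := by
    rintro _ ⟨v, hv, l, rfl⟩ c w ⟨hw, k, hk⟩
    refine ⟨hw, l + k + B w v + -l + B (-v) (v + w), ?_⟩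
    rw [show eEl e w (l + k + B w v + -l + B (-v) (v + w)) = eEl e v l * eEl e w k * (eEl e v l)⁻¹ by
      rw [eEl_inv hv.1, eEl_mul hv.1 hw.1, eEl_mul (by rw [sympForm_add_left, hv.1, hw.1, add_zero])
        (Submodule.neg_mem _ hv).1, add_neg_cancel_comm], mul_smul, mul_smul, inv_smul_smul, hk]
  obtain ⟨g, hg, rfl⟩ := mem_orb.1 hx
  ext w
  refine ⟨fun h => ?_, key hg b w⟩
  have := key (inv_mem hg) _ w h
  rwa [inv_smul_smul] at this

theorem A_orb (D : Chr F) (r : F) {b x : Ω} (hx : x ∈ orb e f b) : A D e f r x = A D e f r b := by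
  ext v
  show _ ∧ _ ↔ _ ∧ _
  rw [S_orb P hx]

theorem A_smul_gW (D : Chr F) (r : F) {g : Sp} (hg : g ∈ gW e f) (b : Ω) {v : V} :
    v ∈ A D e f r (g • b) ↔ spVal g⁻¹ *ᵥ v ∈ A D e f r b := by
  constructor
  · rintro ⟨hv, hv'⟩
    refine ⟨gW_mem_perp (inv_mem hg) hv, fun s hs => ?_⟩
    have h1 := hv' (spVal g *ᵥ s) ((S_smul_gW hg b).2 (by rwa [spVal_inv_mulVec]))
    rwa [← sympForm_map g (spVal g⁻¹ *ᵥ v) s, spVal_mulVec_inv]
  · rintro ⟨hv, hv'⟩
    have hvW := gW_mem_perp hg hv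
    rw [spVal_mulVec_inv] at hvW
    refine ⟨hvW, fun s hs => ?_⟩
    have h1 := hv' _ ((S_smul_gW hg b).1 hs)
    rwa [sympForm_map] at h1

omit P in
theorem orb_smul {g : Sp} (hg : g ∈ gW e f) (b : Ω) : (orb e f b).image (g • ·) = orb e f (g • b) := by
  ext x
  rw [Finset.mem_image, mem_orb]
  constructor
  · rintro ⟨x, hx, rfl⟩
    obtain ⟨_, ⟨w, hw, k, rfl⟩, rfl⟩ := mem_orb.1 hx
    refine ⟨_, eEl_mem (gW_mem_perp hg hw) k, ?_⟩
    rw [← gW_conj_heis hg, mul_smul, mul_smul, inv_smul_smul]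
  · rintro ⟨_, ⟨w, hw, k, rfl⟩, rfl⟩
    refine ⟨eEl e (spVal g⁻¹ *ᵥ w) k • b, mem_orb.2 ⟨_, eEl_mem (gW_mem_perp (inv_mem hg) hw) k, rfl⟩, ?_⟩
    rw [← gW_conj_heis (inv_mem hg), inv_inv, smul_smul, ← mul_assoc, mul_inv_cancel_left, mul_smul]

/-! ### Orbit sizes -/

variable {q d : ℕ} (hF : Fintype.card F = q) (hd : 2 * m = d + 2)

include hF hd

/-- An orbit, its central part and its coordinates. -/
theorem card_orb (b : Ω) : (orb e f b).card * (Nat.card (C e b) * Nat.card (S e f b)) = q ^ d * q := by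
  classical
  rw [← card_heis P hF hd, ← Subgroup.index_mul_card (stabilizer (heis e f) b), index_stabilizer]
  congr 1
  · rw [Set.ncard_eq_toFinset_card']
    congr 1
    ext x
    rw [Set.mem_toFinset, mem_orb]
    exact ⟨fun ⟨g, hg, e1⟩ => ⟨⟨g, hg⟩, e1⟩, fun ⟨⟨g, hg⟩, e1⟩ => ⟨g, hg, e1⟩⟩
  · have hl : ∀ w : S e f b, ∃ k, eEl e (w : V) k • b = b := fun w => w.2.2
    choose φ hφ using hl
    rw [← Nat.card_prod]
    refine Nat.card_eq_of_bijective (fun p : C e b × S e f b =>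
      (⟨⟨sympTv e (p.1 : F) * eEl e (p.2 : V) (φ p.2), mul_mem (tv_mem_heis _) (eEl_mem p.2.2.1 _)⟩,
        show (sympTv e (p.1 : F) * eEl e (p.2 : V) (φ p.2)) • b = b by
          rw [mul_smul, hφ]; exact p.1.2⟩ : stabilizer (heis e f) b)) ⟨?_, ?_⟩
    · rintro ⟨c, w⟩ ⟨c', w'⟩ h1
      have h2 := congrArg (fun z => ((z.1 : heis e f) : Sp)) h1
      simp only [← eEl_zero, eEl_mul (sympForm_zero_left _) w.2.1.1, eEl_mul (sympForm_zero_left _) w'.2.1.1,
        zero_add, sympForm_zero_right, add_zero] at h2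
      obtain ⟨e1, e2⟩ := eEl_inj P w.2.1 w'.2.1 h2
      obtain rfl : w = w' := Subtype.ext e1
      exact Prod.ext (Subtype.ext (add_right_cancel e2)) rfl
    · rintro ⟨⟨_, w, hw, k, rfl⟩, hb⟩
      have hb' : eEl e w k • b = b := hb
      have hwS : w ∈ S e f b := ⟨hw, k, hb'⟩
      have hz : sympTv e (k - φ ⟨w, hwS⟩) * eEl e w (φ ⟨w, hwS⟩) = eEl e w k := by
        rw [← eEl_zero, eEl_mul (sympForm_zero_left _) hw.1, zero_add, sympForm_zero_right, add_zero, sub_add_cancel]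
      have hc : k - φ ⟨w, hwS⟩ ∈ C e b := by
        have h5 : eEl e w (φ ⟨w, hwS⟩) • b = b := hφ ⟨w, hwS⟩
        rw [← hz, mul_smul, h5] at hb'
        exact hb'
      exact ⟨(⟨_, hc⟩, ⟨w, hwS⟩), Subtype.ext (Subtype.ext hz)⟩

theorem card_A (D : Chr F) {r : F} (hr : r ≠ 0) (b : Ω) :
    Nat.card (A D e f r b) * Nat.card (S e f b) = q ^ d := by
  classical
  rw [← card_perp P hF hd]
  set W := perp e f
  set T := S e f b
  let αv : W → AddChar T ℂ := fun v =>
    { toFun := fun s => D.χ (r * B (v : V) (s : V))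
      map_zero_eq_one' := by rw [ZeroMemClass.coe_zero, sympForm_zero_right, mul_zero, AddChar.map_zero_eq_one]
      map_add_eq_mul' := fun a c => by rw [AddMemClass.coe_add, sympForm_add_right, mul_add, AddChar.map_add_eq_mul] }
  let βs : T → AddChar W ℂ := fun s =>
    { toFun := fun v => D.χ (r * B (v : V) (s : V))
      map_zero_eq_one' := by rw [ZeroMemClass.coe_zero, sympForm_zero_left, mul_zero, AddChar.map_zero_eq_one]
      map_add_eq_mul' := fun a c => by rw [Submodule.coe_add, sympForm_add_left, mul_add, AddChar.map_add_eq_mul] }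
  have e1 : ∀ v : W, ∑ s : T, D.χ (r * B (v : V) (s : V)) =
      if (v : V) ∈ A D e f r b then (Nat.card T : ℂ) else 0 := by
    intro v
    split_ifs with hv
    · rw [Finset.sum_congr rfl (fun s _ => hv.2 s.1 s.2), Finset.sum_const, Finset.card_univ, nsmul_one,
        Nat.card_eq_fintype_card]
    · exact AddChar.sum_eq_zero_of_ne_one (ψ := αv v) fun h1 => hv ⟨v.2, fun s hs => DFunLike.congr_fun h1 ⟨s, hs⟩⟩
  have e2 : ∀ s : T, ∑ v : W, D.χ (r * B (v : V) (s : V)) = if s = 0 then (Nat.card W : ℂ) else 0 := by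
    intro s
    split_ifs with hs
    · subst hs
      simp [sympForm_zero_right, Nat.card_eq_fintype_card]
    · refine AddChar.sum_eq_zero_of_ne_one (ψ := βs s) fun h1 => D.χ_ne ?_
      obtain ⟨y, hy, e3⟩ := perp_nondeg P (s : V) s.2.1 fun e0 => hs (Subtype.ext e0)
      ext c
      have := DFunLike.congr_fun h1 ⟨(-(c / r)) • y, Submodule.smul_mem _ _ hy⟩
      change D.χ (r * B ((-(c / r)) • y) (s : V)) = _ at this
      rw [sympForm_smul_left, sympForm_swap y, e3, neg_mul_neg, mul_one, mul_div_cancel₀ _ hr] at this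
      exact this
  have h1 := Finset.sum_comm (s := (univ : Finset W)) (t := (univ : Finset T))
    (f := fun v s => D.χ (r * B (v : V) (s : V)))
  rw [Finset.sum_congr rfl (fun v _ => e1 v), Finset.sum_congr rfl (fun s _ => e2 s), Finset.sum_ite_eq',
    if_pos (Finset.mem_univ _), ← Finset.sum_filter, Finset.sum_const, nsmul_eq_mul] at h1
  have hc : (univ.filter fun v : W => (v : V) ∈ A D e f r b).card = Nat.card (A D e f r b) := by
    rw [← Fintype.card_subtype, ← Nat.card_eq_fintype_card]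
    exact Nat.card_congr
      { toFun := fun v => ⟨v.1.1, v.2⟩
        invFun := fun v => ⟨⟨v.1, v.2.1⟩, v.2⟩
        left_inv := fun _ => rfl
        right_inv := fun _ => rfl }
  rw [hc] at h1
  exact_mod_cast h1

omit hd in
theorem q_pos : 0 < q := hF ▸ Fintype.card_pos

/-- The weight of an orbit. -/
theorem orb_weight (D : Chr F) {r : F} (hr : r ≠ 0) (b : Ω) :
    ∑ x ∈ orb e f b, Nat.card (C e x) = q * Nat.card (A D e f r b) := by
  rw [Finset.sum_congr rfl (fun x hx => by rw [C_orb P hx] : ∀ x ∈ orb e f b, Nat.card (C e x) = Nat.card (C e b)),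
    Finset.sum_const, smul_eq_mul]
  refine Nat.eq_of_mul_eq_mul_right (show 0 < Nat.card (S e f b) from Nat.card_pos) ?_
  rw [mul_assoc, card_orb P hF hd b, mul_assoc, card_A P hF hd D hr b, mul_comm]

omit hd in
theorem orb_subset_M (D : Chr F) {r : F} {b : Ω} (hb : b ∈ M D e r) : orb e f b ⊆ M D e r := fun x hx => by
  rw [mem_M, C_orb P hx]
  exact mem_M.1 hb

/-- The weight of a set of orbits. -/
theorem sum_orbits_le (D : Chr F) {r : F} (hr : r ≠ 0) {ι : Type*} (s : Finset ι) (g : ι → Ω)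
    (hg : ∀ i ∈ s, g i ∈ M D e r) (hinj : ∀ i ∈ s, ∀ j ∈ s, orb e f (g i) = orb e f (g j) → i = j) :
    ∑ i ∈ s, q * Nat.card (A D e f r (g i)) ≤ mW Ω D e r := by
  have hdisj : (s : Set ι).PairwiseDisjoint fun i => orb e f (g i) := fun i hi j hj hij => by
    refine Finset.disjoint_left.2 fun x hx hx' => hij (hinj i hi j hj ?_)
    rw [← orb_eq hx, orb_eq hx']
  rw [Finset.sum_congr rfl (fun i _ => (orb_weight P hF hd D hr (g i)).symm), ← Finset.sum_disjiUnion _ _ hdisj]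
  refine Finset.sum_le_sum_of_subset fun x hx => ?_
  obtain ⟨i, hi, hxi⟩ := Finset.mem_disjiUnion.1 hx
  exact orb_subset_M P hF D (hg i hi) hxi

omit hd

/-! ### Fixed points of transvections -/

theorem fixN_conj (g : Sp) (v : V) (c : F) : fixN Ω (spVal g *ᵥ v) c = fixN Ω v c := by
  have key : ∀ x : Ω, sympTv (spVal g *ᵥ v) c • x = x ↔ sympTv v c • g⁻¹ • x = g⁻¹ • x := fun x => by
    rw [← sympTv_conj, mul_smul, mul_smul, eq_inv_smul_iff]
  exact Nat.card_congr
    { toFun := fun b => ⟨g⁻¹ • b.1, (key b.1).1 b.2⟩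
      invFun := fun b => ⟨g • b.1, (key _).2 (by rw [inv_smul_smul]; exact b.2)⟩
      left_inv := fun b => Subtype.ext (smul_inv_smul _ _)
      right_inv := fun b => Subtype.ext (inv_smul_smul _ _) }

theorem fixN_vec {v : V} (hv : v ≠ 0) (c : F) : fixN Ω v c = fixN Ω e c := by
  obtain ⟨g, hg⟩ := symp_pretransitive (ne_zero P) hv
  rw [← hg]
  exact fixN_conj P hF g e c

theorem fixN_sq {a : F} (ha : a ≠ 0) (c : F) : fixN Ω e (a ^ 2 * c) = fixN Ω e c := by
  rw [← fixN_vec P hF (v := a • e) (smul_ne_zero ha (ne_zero P)) c]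
  simp only [fixN, tv_smul]

theorem fix_pair (D : Chr F) {c : F} (hc : c ≠ 0) :
    fixN Ω e c + fixN Ω e (c / D.ν) = fixN Ω e 1 + fixN Ω e D.ν := by
  obtain ⟨a, ha, h | h⟩ := D.classes c hc
  · rw [h, show a ^ 2 / D.ν = (a / D.ν) ^ 2 * D.ν by field_simp [D.ν_ne], fixN_sq P hF (div_ne_zero ha D.ν_ne)]
    congr 1
    conv_rhs => rw [← fixN_sq P hF ha 1, mul_one]
  · rw [h, mul_div_cancel_right₀ _ D.ν_ne, fixN_sq P hF ha, add_comm]
    congr 1
    conv_rhs => rw [← fixN_sq P hF ha 1, mul_one]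

omit P hF in
theorem fixN_zero (e : V) : fixN Ω e (0 : F) = Fintype.card Ω := by
  rw [fixN, ← Nat.card_eq_fintype_card]
  exact Nat.card_congr (Equiv.subtypeUnivEquiv fun b => by rw [sympTv_zero, one_smul])

omit P hF in
theorem mW_eq (D : Chr F) (e : V) (r : F) :
    (mW Ω D e r : ℂ) = ∑ c : F, D.χ (r * c) * (fixN Ω e c : ℂ) := by
  classical
  have e1 : ∀ c : F, (fixN Ω e c : ℂ) = ∑ b : Ω, if c ∈ C e b then (1 : ℂ) else 0 := fun c => by
    rw [Finset.sum_boole, fixN, Nat.card_eq_fintype_card, Fintype.card_subtype]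
    rfl
  have e2 : ∀ b : Ω, ∑ c : F, (if c ∈ C e b then D.χ (r * c) else 0) =
      if b ∈ M D e r then (Nat.card (C e b) : ℂ) else 0 := by
    intro b
    rw [← Finset.sum_filter, Finset.sum_subtype (p := fun c => c ∈ C e b) (F := inferInstance) _ (fun c => by simp)]
    split_ifs with hb
    · rw [Finset.sum_congr rfl (fun c _ => mem_M.1 hb c.1 c.2), Finset.sum_const, Finset.card_univ, nsmul_one,
        Nat.card_eq_fintype_card]
    · refine AddChar.sum_eq_zero_of_ne_one (ψ := (D.χ.mulShift r).compAddMonoidHom (C e b).subtype) fun e0 => hb ?_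
      exact mem_M.2 fun c hc => DFunLike.congr_fun e0 ⟨c, hc⟩
  simp only [e1, Finset.mul_sum, mul_ite, mul_one, mul_zero]
  rw [Finset.sum_comm, Finset.sum_congr rfl (fun b _ => e2 b), ← Finset.sum_filter, Finset.filter_mem_eq_inter,
    Finset.univ_inter, mW, Nat.cast_sum]

/-- The weights of the two classes of characters. -/
theorem mW_pair (D : Chr F) {r : F} (hr : r ≠ 0) :
    mW Ω D e r + mW Ω D e (r * D.ν) + (fixN Ω e 1 + fixN Ω e D.ν) = 2 * Fintype.card Ω := by
  classical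
  set K0 : ℂ := (fixN Ω e 1 : ℂ) + (fixN Ω e D.ν : ℂ) with hK0
  have hsum : ∑ c : F, D.χ (r * c) = 0 := AddChar.sum_eq_zero_of_ne_one (ψ := D.χ.mulShift r)
    (AddChar.IsPrimitive.of_ne_one D.χ_ne hr)
  have h2 : ∑ c : F, D.χ (r * D.ν * c) * (fixN Ω e c : ℂ) = ∑ c : F, D.χ (r * c) * (fixN Ω e (c / D.ν) : ℂ) :=
    Fintype.sum_equiv (Equiv.mulLeft₀ D.ν D.ν_ne) _ _ fun c => by
      simp [mul_assoc, D.ν_ne]
  have h3 : ((mW Ω D e r + mW Ω D e (r * D.ν) : ℕ) : ℂ) = 2 * (Fintype.card Ω : ℂ) - K0 := by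
    rw [Nat.cast_add, mW_eq, mW_eq, h2, ← Finset.sum_add_distrib]
    calc ∑ c : F, (D.χ (r * c) * (fixN Ω e c : ℂ) + D.χ (r * c) * (fixN Ω e (c / D.ν) : ℂ))
        = ∑ c : F, (D.χ (r * c) * K0 + if c = 0 then 2 * (Fintype.card Ω : ℂ) - K0 else 0) := by
          refine Finset.sum_congr rfl fun c _ => ?_
          by_cases hc : c = 0
          · subst hc
            rw [if_pos rfl, zero_div, fixN_zero, mul_zero, AddChar.map_zero_eq_one]
            ring
          · rw [if_neg hc, add_zero, ← mul_add, ← Nat.cast_add, fix_pair P hF D hc, Nat.cast_add]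
      _ = _ := by
          rw [Finset.sum_add_distrib, ← Finset.sum_mul, hsum, zero_mul, zero_add, Finset.sum_ite_eq',
            if_pos (Finset.mem_univ _)]
  rw [hK0, eq_sub_iff_add_eq] at h3
  exact_mod_cast h3

theorem mW_le (D : Chr F) {r : F} (hr : r ≠ 0) : mW Ω D e r ≤ kap F * Fintype.card Ω := by
  have h1 := mW_pair (Ω := Ω) P hF D hr
  rw [kap]
  split_ifs with h2
  · rw [D.ν_two h2, mul_one] at h1
    omega
  · omega

omit P hF in
theorem exists_M_of_C_ne (D : Chr F) {b : Ω} (hC : ∃ c : F, c ∉ C e b) : ∃ r : F, r ≠ 0 ∧ b ∈ M D e r := by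
  obtain ⟨c0, hc0⟩ := hC
  obtain ⟨ψ, hψ⟩ := (AddChar.exists_apply_ne_zero (α := F ⧸ C e b) (a := (c0 : F ⧸ C e b))).2
    fun e0 => hc0 ((QuotientAddGroup.eq_zero_iff c0).1 e0)
  obtain ⟨r, hr⟩ := exists_char_coeff D.χ_ne (ψ.compAddMonoidHom (QuotientAddGroup.mk' (C e b)))
  refine ⟨r, fun e0 => hψ ?_, mem_M.2 fun c hc => ?_⟩
  · have := hr c0
    rw [e0, zero_mul, AddChar.map_zero_eq_one] at this
    exact this
  · rw [← hr c]
    show ψ (c : F ⧸ C e b) = 1
    rw [(QuotientAddGroup.eq_zero_iff c).2 hc, AddChar.map_zero_eq_one]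

omit P hF in
theorem C_ne_of_M (D : Chr F) {r : F} (hr : r ≠ 0) {b : Ω} (hb : b ∈ M D e r) : ∃ c : F, c ∉ C e b := by
  by_contra hcon
  push Not at hcon
  refine D.χ_ne ?_
  ext c
  have := mem_M.1 hb (c / r) (hcon _)
  rwa [mul_div_cancel₀ _ hr] at this

/-- Some transvection moves a point. -/
theorem exists_moved [IsPretransitive (Matrix.symplecticGroup (Fin m) F) Ω] [Nontrivial Ω] :
    ∃ (b : Ω) (c : F), c ∉ C e b := by
  by_contra hcon
  push Not at hcon
  have hker : ∀ g : Sp, g ∈ (MulAction.toPermHom Sp Ω).ker := fun g => by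
    have hle : Subgroup.closure (sympTvSet m F) ≤ (MulAction.toPermHom Sp Ω).ker := by
      rw [Subgroup.closure_le]
      rintro g ⟨w, c, hg⟩
      rw [show g = sympTv w c from Subtype.ext hg, SetLike.mem_coe, MonoidHom.mem_ker]
      refine Equiv.ext fun b => ?_
      show sympTv w c • b = b
      rcases eq_or_ne w 0 with rfl | hw
      · rw [show sympTv (0 : V) c = 1 from sp_ext fun x => by
          rw [tv_apply, smul_zero, add_zero]; exact (Matrix.one_mulVec x).symm, one_smul]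
      obtain ⟨s, hs⟩ := symp_pretransitive (ne_zero P) hw
      rw [← hs, ← sympTv_conj, mul_smul, mul_smul, show sympTv e c • s⁻¹ • b = s⁻¹ • b from hcon _ c, smul_inv_smul]
    rw [closure_sympTvSet] at hle
    exact hle (Subgroup.mem_top g)
  obtain ⟨x, y, hxy⟩ := exists_pair_ne Ω
  obtain ⟨g, hg⟩ := MulAction.exists_smul_eq Sp x y
  refine hxy ?_
  rw [← hg]
  exact (DFunLike.congr_fun (MonoidHom.mem_ker.1 (hker g)) x).symm

end Cfsg.Agent.Lie.MinIndexSp
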