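import Cfsg.Agent.Lib.Lie.MinIndexSpTypes

/-!
An orbit of a Heisenberg group with trivial coordinates contains a common fixed point of the transvections of the
orthogonal space.
-/

set_option autoImplicit false
set_option linter.unusedSectionVars false
set_option maxHeartbeats 1000000

namespace Cfsg.Agent.Lie.MinIndexSp

open Matrix Finset MulAction Cfsg Cfsg.Agent.Classical

universe u

attribute [local instance 10] _root_.Classical.propDecidable

variable {F : Type*} [Field F] [Fintype F] {m : ℕ}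

local notation "V" => (Fin m ⊕ Fin m → F)
local notation "B" => sympForm m F
set_option quotPrecheck false in
local notation "Sp" => Matrix.symplecticGroup (Fin m) F

theorem half_mem (h2 : (2 : F) ≠ 0) (H : AddSubgroup F) {c : F} (hc : c + c ∈ H) : c ∈ H := by
  obtain ⟨p, hp⟩ := CharP.exists F
  haveI : Fact p.Prime := ⟨CharP.char_is_prime F p⟩
  have hp2 : p ≠ 2 := fun e0 => h2 (by subst e0; exact_mod_cast CharP.cast_eq_zero F 2)
  obtain ⟨i, hi⟩ := (Fact.out : p.Prime).odd_of_ne_two hp2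
  have h1 := H.nsmul_mem hc (i + 1)
  rwa [nsmul_eq_mul, show ((i + 1 : ℕ) : F) * (c + c) = c by
    have := congrArg (Nat.cast : ℕ → F) hi
    rw [CharP.cast_eq_zero F p] at this
    push_cast at this ⊢
    linear_combination (-c) * this] at h1

theorem tv_zero_vec (c : F) : sympTv (0 : V) c = 1 := sp_ext fun x => by
  rw [tv_apply, smul_zero, add_zero]; exact (Matrix.one_mulVec x).symm

variable {Ω : Type u} [MulAction (Matrix.symplecticGroup (Fin m) F) Ω] [Fintype Ω]
variable {e f : Fin m ⊕ Fin m → F} (P : sympForm m F e f = 1) {q d : ℕ} (hF : Fintype.card F = q)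
  (hd : 2 * m = d + 2) (D : Chr F)

include P

omit [Fintype F] in
theorem pair_ext {g g' : Sp} (he : spVal g *ᵥ e = spVal g' *ᵥ e) (hf : spVal g *ᵥ f = spVal g' *ᵥ f)
    (hW : ∀ w ∈ perp e f, spVal g *ᵥ w = spVal g' *ᵥ w) : g = g' := sp_ext fun x => by
  have hx : x = (x - B x f • e + B x e • f) + B x f • e - B x e • f := by module
  have h1 := hW _ (perp_part P x)
  rw [hx]
  simp only [Matrix.mulVec_add, Matrix.mulVec_sub, Matrix.mulVec_smul] at h1 ⊢
  rw [h1, he, hf]

include hF hd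

variable (hq : 3 ≤ q) (hsmall : Small q d Ω)

omit P hF hd in
/-- The orbits with trivial coordinates. -/
noncomputable def botOrbs (D : Chr F) (e f : Fin m ⊕ Fin m → F) (r : F) : Finset (Finset Ω) :=
  @Finset.filter _ (fun O => ∃ x ∈ M D e r, S e f x = ⊥ ∧ orb e f x = O) (_root_.Classical.decPred _) univ

omit P hF hd in
theorem mem_botOrbs {r : F} {O : Finset Ω} :
    O ∈ botOrbs D e f r ↔ ∃ x ∈ M D e r, S e f x = ⊥ ∧ orb e f x = O := by simp [botOrbs]

include hq hsmall

/-- There are few orbits with trivial coordinates. -/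
theorem bot_count {r : F} (hr : r ≠ 0) :
    (botOrbs (Ω := Ω) D e f r).card ≤ kap F := by
  classical
  set L := botOrbs (Ω := Ω) D e f r
  rcases L.eq_empty_or_nonempty with h0 | ⟨O0, hO0⟩
  · rw [h0, Finset.card_empty]; exact Nat.zero_le _
  haveI : Nonempty Ω := ⟨((mem_botOrbs D).1 hO0).choose⟩
  have hex : ∀ O ∈ L, ∃ x : Ω, x ∈ M D e r ∧ S e f x = ⊥ ∧ orb e f x = O := fun O hO => (mem_botOrbs D).1 hO
  choose! rep hrepM hrepS hrep using hex
  have hA : ∀ O ∈ L, Nat.card (A D e f r (rep O)) = q ^ d := by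
    intro O hO
    have h1 := card_A P hF hd D hr (rep O)
    rwa [hrepS O hO, AddSubgroup.card_bot, mul_one] at h1
  have h2 := (sum_orbits_le P hF hd D hr L rep hrepM fun i hi j hj h => by
    rwa [hrep i hi, hrep j hj] at h).trans (mW_le P hF D hr)
  rw [Finset.sum_congr rfl (fun O hO => by rw [hA O hO]), Finset.sum_const, smul_eq_mul] at h2
  have h3 := hsmall
  rw [Small, pow_succ, pow_succ] at h3
  by_contra hlt
  have h4 : (kap F + 1) * (q * q ^ d) * (q - 1) + kap F * q ≤ kap F * (q ^ d * q * q) := by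
    refine le_trans (Nat.add_le_add_right (Nat.mul_le_mul_right _
      ((Nat.mul_le_mul_right _ (show kap F + 1 ≤ L.card by omega)).trans h2)) _) ?_
    rw [mul_assoc, ← mul_add]
    exact Nat.mul_le_mul_left _ h3
  obtain ⟨a, ha⟩ : ∃ a, q = a + 3 := ⟨q - 3, by omega⟩
  rw [show q - 1 = a + 2 by omega] at h4
  rcases char_cases P hF hd hq with ⟨-, hk, -⟩ | ⟨-, hk, -⟩ <;> rw [hk, ha] at h4 <;>
    nlinarith [Nat.zero_le ((a + 3) ^ d * a * a), Nat.zero_le ((a + 3) ^ d * a), Nat.zero_le ((a + 3) ^ d)]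

/-- In characteristic two there is one orbit with trivial coordinates. -/
theorem bot_unique (h2 : (2 : F) = 0) {r : F} (hr : r ≠ 0) {x y : Ω} (hx : x ∈ M D e r) (hxS : S e f x = ⊥)
    (hy : y ∈ M D e r) (hyS : S e f y = ⊥) : x ∈ orb e f y := by
  have h1 := bot_count P hF hd D hq hsmall hr
  rw [kap, if_pos h2] at h1
  exact orb_eq_iff.1 (Finset.card_le_one.1 h1 _ ((mem_botOrbs D).2 ⟨x, hx, hxS, rfl⟩)
    _ ((mem_botOrbs D).2 ⟨y, hy, hyS, rfl⟩))

/-- The elements fixing the pair preserve an orbit with trivial coordinates. -/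
theorem bot_stable {r : F} (hr : r ≠ 0) {b : Ω} (hb : b ∈ M D e r) (hbot : S e f b = ⊥) {g : Sp}
    (hg : g ∈ gW e f) : orb e f (g • b) = orb e f b := by
  have hgen : ∀ u ∈ perp e f, ∀ c : F, orb e f (sympTv u c • b) = orb e f b := by
    intro u hu c
    rw [← orb_smul (tv_mem_gW hu c)]
    refine few_stable P hF hd hq hsmall hu _ (fun c' => ?_) (bot_count P hF hd D hq hsmall hr) c
    refine (mem_botOrbs D).2 ⟨_, mem_M.2 fun x hx => mem_M.1 hb x ?_, ?_, rfl⟩
    · rwa [C_smul (tv_mem_gW hu c').1] at hx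
    · refine (AddSubgroup.eq_bot_iff_forall _).2 fun s hs => ?_
      have h1 := (S_smul_gW (tv_mem_gW hu c') b).1 hs
      rw [hbot, AddSubgroup.mem_bot] at h1
      rw [← spVal_mulVec_inv (sympTv u c') s, h1, Matrix.mulVec_zero]
  refine Subgroup.closure_induction (p := fun g _ => orb e f (g • b) = orb e f b) ?_ ?_ ?_ ?_
    (gW_le_closure P hg)
  · rintro _ ⟨u, hu, c, rfl⟩
    exact hgen u hu c
  · rw [one_smul]
  · intro g g' hg hg' ih ih'
    rw [mul_smul, ← orb_smul (closure_le_gW hg), ih', orb_smul (closure_le_gW hg), ih]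
  · intro g hg ih
    have hg' := closure_le_gW hg
    conv_lhs => rw [← orb_smul (inv_mem hg'), ← ih, orb_smul (inv_mem hg'), inv_smul_smul]

omit hsmall in
/-- A fixed point in odd characteristic. -/
theorem fixed_odd (h2 : (2 : F) ≠ 0) (hd4 : 4 ≤ q ∨ 4 ≤ d) {b : Ω} (hbot : S e f b = ⊥)
    (hstab : ∀ g ∈ gW e f, orb e f (g • b) = orb e f b) :
    ∃ x ∈ orb e f b, ∀ u ∈ perp e f, ∀ c : F, sympTv u c • x = x := by
  classical
  obtain ⟨h, he, hf, hw⟩ := exists_scale P (a := (1 : F)) (s := -1) one_ne_zero (by ring)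
  rw [one_smul] at he
  rw [inv_one, one_smul] at hf
  have hgW : h ∈ gW e f := ⟨he, hf⟩
  obtain ⟨_, ⟨w0, hw0, k0, rfl⟩, e0⟩ := mem_orb.1 (orb_eq_iff.1 (hstab h hgW))
  have hconj : ∀ (w : V), w ∈ perp e f → ∀ (k : F) (x : Ω), h • eEl e w k • x = eEl e (-w) k • h • x := by
    intro w hwW k x
    have h1 : h * eEl e w k * h⁻¹ = eEl e (-w) k := by
      rw [gW_conj_heis hgW, hw w hwW, neg_one_smul]
    rw [← mul_smul, ← mul_smul, ← h1, inv_mul_cancel_right]
  have hte : ∀ (g : Sp), spVal g *ᵥ e = e → ∀ (k : F) (x : Ω), g • sympTv e k • x = sympTv e k • g • x := by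
    intro g hg k x
    rw [← mul_smul, ← mul_smul, show g * sympTv e k = sympTv e k * g by
      have h1 := sympTv_conj g e k
      rw [show spVal g *ᵥ e = e from hg] at h1
      exact mul_inv_eq_iff_eq_mul.1 h1]
  set v := (2 : F)⁻¹ • w0 with hvdef
  have hv : v ∈ perp e f := Submodule.smul_mem _ _ hw0
  set b' := eEl e v 0 • b with hb'def
  have hb'orb : b' ∈ orb e f b := mem_orb.2 ⟨_, eEl_mem hv 0, rfl⟩
  have horb' : orb e f b' = orb e f b := orb_eq hb'orb
  have hS' : S e f b' = ⊥ := by rw [S_orb P hb'orb, hbot]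
  have hk0 : h • b' = sympTv e k0 • b' := by
    rw [hb'def, hconj v hv, ← e0, ← mul_smul, ← mul_smul, eEl_mul (Submodule.neg_mem _ hv).1 hw0.1,
      ← eEl_split hv.1]
    congr 2
    · have hv2 : v + v = w0 := by rw [← two_smul F, hvdef, smul_smul, mul_inv_cancel₀ h2, one_smul]
      rw [← hv2]
      abel
    · rw [hvdef, ← neg_smul, sympForm_smul_right, sympForm_self, mul_zero, add_zero, zero_add]
  have hh : h * h = 1 := pair_ext P (by rw [spVal_mul_mulVec, he, he]; exact (Matrix.one_mulVec e).symm)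
    (by rw [spVal_mul_mulVec, hf, hf]; exact (Matrix.one_mulVec f).symm) fun w hwW => by
    rw [spVal_mul_mulVec, hw w hwW, Matrix.mulVec_smul, hw w hwW, smul_smul, neg_one_mul, neg_neg, one_smul]
    exact (Matrix.one_mulVec w).symm
  have hfix : h • b' = b' := by
    have h1 : (h * h) • b' = b' := by rw [hh, one_smul]
    rw [mul_smul, hk0, hte h he, hk0, ← mul_smul, sympTv_mul] at h1
    rw [hk0]
    exact half_mem h2 (C e b') h1
  -- the fixed points in the orbit
  have huniq : ∀ x ∈ orb e f b, h • x = x → ∃ γ, x = sympTv e γ • b' := by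
    intro x hx hhx
    rw [← horb'] at hx
    obtain ⟨_, ⟨w, hwW, k, rfl⟩, rfl⟩ := mem_orb.1 hx
    rw [hconj w hwW, hfix] at hhx
    have h1 : -w + -w ∈ S e f b' := by
      refine ⟨Submodule.add_mem _ (Submodule.neg_mem _ hwW) (Submodule.neg_mem _ hwW), -k + k + B (-w) (-w), ?_⟩
      rw [← eEl_mul (Submodule.neg_mem _ hwW).1 (Submodule.neg_mem _ hwW).1, ← eEl_inv hwW.1, mul_smul, hhx,
        inv_smul_smul]
    rw [hS', AddSubgroup.mem_bot, ← two_smul F, smul_eq_zero, neg_eq_zero] at h1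
    refine ⟨k, ?_⟩
    rw [h1.resolve_left h2, eEl_zero]
  have hgfix : ∀ g ∈ gW e f, ∃ γ, g • b' = sympTv e γ • b' := by
    intro g hg
    refine huniq _ ?_ ?_
    · rw [← hstab g hg, ← orb_smul hg]
      exact Finset.mem_image_of_mem _ hb'orb
    · have h1 : h * g = g * h := pair_ext P (by rw [spVal_mul_mulVec, spVal_mul_mulVec, hg.1, he, hg.1])
        (by rw [spVal_mul_mulVec, spVal_mul_mulVec, hg.2, hf, hg.2]) fun w hwW => by
        rw [spVal_mul_mulVec, spVal_mul_mulVec, hw _ (gW_mem_perp hg hwW), hw w hwW, Matrix.mulVec_smul]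
      rw [← mul_smul, h1, mul_smul, hfix]
  -- all transvections act alike
  have hinv : ∀ u ∈ perp e f, u ≠ 0 → ∀ u' ∈ perp e f, u' ≠ 0 → ∀ c : F,
      sympTv u' c • b' = sympTv u c • b' := by
    intro u hu hu0 u' hu' hu0' c
    obtain ⟨g, hg, rfl⟩ := gW_transitive P hu hu0 hu' hu0'
    obtain ⟨ψ, hψ⟩ := hgfix _ (tv_mem_gW hu c)
    obtain ⟨γ, hγ⟩ := hgfix g hg
    have hg' : g⁻¹ • b' = sympTv e (-γ) • b' := by
      rw [inv_smul_eq_iff, hte g hg.1, hγ, ← mul_smul, sympTv_mul, neg_add_cancel, sympTv_zero, one_smul]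
    rw [← sympTv_conj, mul_smul, mul_smul, hg', hte _ (tv_mem_gW hu c).1, hψ, hte g hg.1, hte g hg.1, hγ,
      ← mul_smul, ← mul_smul, sympTv_mul, sympTv_mul, show -γ + ψ + γ = ψ by ring]
  refine ⟨b', hb'orb, fun u hu c => ?_⟩
  rcases eq_or_ne u 0 with rfl | hu0
  · rw [tv_zero_vec, one_smul]
  rcases hd4 with hq4 | hd4
  · obtain ⟨a, ha0, ha1⟩ : ∃ a : F, a ≠ 0 ∧ a ^ 2 - 1 ≠ 0 := by
      by_contra hcon
      push Not at hcon
      have h1 : Fintype.card F ≤ ({0, 1, -1} : Finset F).card := Finset.card_le_card fun a _ => by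
        simp only [Finset.mem_insert, Finset.mem_singleton]
        rcases eq_or_ne a 0 with h0 | h0
        · exact Or.inl h0
        · refine Or.inr (mul_self_eq_one_iff.1 ?_)
          linear_combination hcon a h0
      have h3 : ({0, 1, -1} : Finset F).card ≤ 3 := Finset.card_le_three
      omega
    set c' := c / (a ^ 2 - 1) with hc'
    have h1 := hinv u hu hu0 (a • u) (Submodule.smul_mem _ _ hu) (smul_ne_zero ha0 hu0) c'
    rw [tv_smul] at h1
    calc sympTv u c • b' = (sympTv u (-c') * sympTv u (a ^ 2 * c')) • b' := by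
          rw [sympTv_mul, show -c' + a ^ 2 * c' = c by rw [hc']; field_simp; ring]
      _ = b' := by rw [mul_smul, h1, ← mul_smul, sympTv_mul, neg_add_cancel, sympTv_zero, one_smul]
  · obtain ⟨⟨⟨y, hy⟩, hyu⟩, hyoff⟩ : ∃ y : {y : perp e f // B u (y : V) = 0}, ∀ l : F, (y.1 : V) ≠ l • u := by
      by_contra hcon
      push Not at hcon
      choose g hg using hcon
      have h1 : Nat.card {y : perp e f // B u (y : V) = 0} ≤ q := by
        rw [← hF, ← Nat.card_eq_fintype_card]
        exact Nat.card_le_card_of_injective g fun a a' haa =>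
          Subtype.ext (Subtype.ext (by rw [hg a, hg a', haa]))
      have h2' : q ^ d ≤ q ^ 2 := by
        rw [← card_vperp P hF hd hu hu0, sq]; exact Nat.mul_le_mul_right _ h1
      have := (Nat.pow_le_pow_iff_right (by omega : 1 < q)).1 h2'
      omega
    change B u y = 0 at hyu
    have hy0 : y ≠ 0 := fun e1 => hyoff 0 (by rw [zero_smul]; exact e1)
    have hp0 : u + y ≠ 0 := fun e1 => hyoff (-1) (by rw [neg_one_smul]; exact (eq_neg_of_add_eq_zero_right e1))
    have hm0 : u - y ≠ 0 := fun e1 => hyoff 1 (by rw [one_smul]; exact (sub_eq_zero.1 e1).symm)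
    obtain ⟨γ, hγ⟩ := hgfix _ (tv_mem_gW hu c)
    have hid : sympTv (u + y) c * sympTv (u - y) c =
        sympTv u c * sympTv u c * (sympTv y c * sympTv y c) := by
      refine sp_ext fun x => ?_
      simp only [spVal_mul_mulVec, tv_apply, sympForm_add_left, sympForm_add_right, sympForm_sub_left,
        sympForm_sub_right, sympForm_smul_left, sympForm_self, hyu, sform_swap_zero hyu]
      module
    have h1 := congrArg (· • b') hid
    simp only [mul_smul] at h1
    have hte' : ∀ w ∈ perp e f, ∀ (k : F) (x : Ω), sympTv w c • sympTv e k • x = sympTv e k • sympTv w c • x :=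
      fun w hw' k x => hte _ (tv_mem_gW hw' c).1 k x
    simp only [hinv u hu hu0 _ (Submodule.sub_mem _ hu hy) hm0, hinv u hu hu0 y hy hy0, hγ,
      hte' _ (Submodule.add_mem _ hu hy), hte' y hy, hte' u hu, hinv u hu hu0 _ (Submodule.add_mem _ hu hy) hp0,
      ← mul_smul, sympTv_mul] at h1
    have h4 : γ + γ ∈ C e b' := by
      rw [mem_C]
      calc sympTv e (γ + γ) • b' = sympTv e (-(γ + γ)) • sympTv e ((γ + γ) + (γ + γ)) • b' := by
            rw [smul_smul (sympTv e (-(γ + γ))) (sympTv e (γ + γ + (γ + γ))) b', sympTv_mul, neg_add_cancel_left]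
        _ = b' := by
            rw [show γ + γ + (γ + γ) = γ + γ + γ + γ by ring, ← h1,
              smul_smul (sympTv e (-(γ + γ))) (sympTv e (γ + γ)) b', sympTv_mul, neg_add_cancel,
              sympTv_zero, one_smul]
    rw [hγ]
    exact half_mem h2 (C e b') h4

/-- A fixed point in characteristic two, and no transvection of the vector fixes it. -/
theorem fixed_even (h2 : (2 : F) = 0) {r : F} (hr : r ≠ 0) {b : Ω} (hb : b ∈ M D e r) (hbot : S e f b = ⊥) :
    ∃ x ∈ orb e f b, ∀ u ∈ perp e f, ∀ c : F, sympTv u c • x = x := by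
  classical
  have hC0 : C e b = ⊥ := by
    by_contra hne
    obtain ⟨c, hc, hc0⟩ := (AddSubgroup.bot_or_exists_ne_zero _).resolve_left hne
    have hk : kap F = 1 := by rw [kap, if_pos h2]
    obtain ⟨a, ha, hca⟩ := D.classes c hc0
    rw [D.ν_two h2, mul_one, or_self] at hca
    have hfix : fixN Ω e c = fixN Ω e 1 := by rw [hca, ← fixN_sq P hF ha 1, mul_one]
    have h1 := mW_pair (Ω := Ω) P hF D hr
    rw [D.ν_two h2, mul_one] at h1
    have h3 : (orb e f b).card ≤ fixN Ω e c := by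
      rw [← Nat.card_eq_finsetCard]
      refine Nat.card_le_card_of_injective (fun x : orb e f b => (⟨x.1, ?_⟩ : {z : Ω // sympTv e c • z = z}))
        fun x y hxy => Subtype.ext (congrArg Subtype.val hxy :)
      exact mem_C.1 (by rw [C_orb P x.2]; exact hc)
    have h4 : (orb e f b).card * Nat.card (C e b) = q ^ d * q := by
      have := card_orb P hF hd b
      rwa [hbot, AddSubgroup.card_bot, mul_one] at this
    have h5 : q ^ d * q ≤ mW Ω D e r := by
      refine le_trans (le_of_eq ?_) (Finset.sum_le_sum_of_subset (orb_subset_M P hF D hb))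
      rw [Finset.sum_congr rfl (fun x hx => by rw [C_orb P hx] : ∀ x ∈ orb e f b,
        Nat.card (C e x) = Nat.card (C e b)), Finset.sum_const, smul_eq_mul, h4]
    have h6 : Nat.card (C e b) * 2 ≤ q := by
      obtain ⟨c1, hc1⟩ := C_ne_of_M D hr hb
      rw [← hF, ← Nat.card_eq_fintype_card, ← (C e b).card_mul_index]
      refine Nat.mul_le_mul_left _ ?_
      have h7 : (C e b).index ≠ 1 := fun e0 => hc1 (AddSubgroup.index_eq_one.1 e0 ▸ AddSubgroup.mem_top _)
      have h8 : (C e b).index ≠ 0 := AddSubgroup.index_ne_zero_of_finite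
      omega
    have h7 : 2 * q ^ d ≤ (orb e f b).card := by
      refine Nat.le_of_mul_le_mul_right ?_ (show 0 < q by omega)
      calc 2 * q ^ d * q = (orb e f b).card * (Nat.card (C e b) * 2) := by rw [← mul_assoc, h4]; ring
        _ ≤ _ := Nat.mul_le_mul_left _ h6
    have h8 : q ^ d * q + 2 * q ^ d ≤ Fintype.card Ω := by omega
    have h9 := (Nat.add_le_add_right (Nat.mul_le_mul_right (q - 1) h8) q).trans hsmall
    obtain ⟨t, ht⟩ : ∃ t, q = t + 3 := ⟨q - 3, by omega⟩
    rw [show q - 1 = t + 2 by omega, pow_succ, pow_succ, ht] at h9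
    nlinarith [Nat.zero_le ((t + 3) ^ d * t), Nat.zero_le ((t + 3) ^ d)]
  obtain ⟨a, ha0, ha1⟩ : ∃ a : F, a ≠ 0 ∧ a - 1 ≠ 0 := by
    by_contra hcon
    push Not at hcon
    have h1 : Fintype.card F ≤ ({0, 1} : Finset F).card := Finset.card_le_card fun x _ => by
      simp only [Finset.mem_insert, Finset.mem_singleton]
      exact or_iff_not_imp_left.2 fun h0 => sub_eq_zero.1 (hcon x h0)
    have := Finset.card_le_two (a := (0 : F)) (b := 1)
    omega
  have ha2 : a ^ 2 - 1 ≠ 0 := fun h0 => ha1 (pow_eq_zero_iff two_ne_zero |>.1 (by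
    linear_combination h0 - (a - 1) * h2))
  obtain ⟨h, he, hf, hw⟩ := exists_scale P (a := a) (s := (1 : F)) ha0 (one_mul _)
  have hw' : ∀ w ∈ perp e f, spVal h *ᵥ w = w := fun w hwW => by rw [hw w hwW, one_smul]
  have hconj : ∀ (w : V), w ∈ perp e f → ∀ (k : F) (x : Ω),
      h • eEl e w k • x = eEl e (a • w) (a ^ 2 * k) • h • x := by
    intro w hwW k x
    have h1 : h * eEl e w k * h⁻¹ = eEl e (a • w) (a ^ 2 * k) := by
      rw [eEl_conj, he, hw' w hwW, eEl_smul hwW.1]
    rw [← mul_smul, ← mul_smul, ← h1, inv_mul_cancel_right]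
  -- the torus preserves the orbit
  have hCh : C e (h • b) = ⊥ := (AddSubgroup.eq_bot_iff_forall _).2 fun c hc => by
    have h1 : c / a ^ 2 ∈ C (a • e) (h • b) := by
      rw [C_scale, mul_div_cancel₀ _ (pow_ne_zero 2 ha0)]
      exact hc
    rw [← he, C_conj, hC0, AddSubgroup.mem_bot, div_eq_zero_iff] at h1
    exact h1.resolve_right (pow_ne_zero 2 ha0)
  have hSh : S e f (h • b) = ⊥ := (AddSubgroup.eq_bot_iff_forall _).2 fun w ⟨hwW, k, hk⟩ => by
    have hwa : a⁻¹ • w ∈ perp e f := Submodule.smul_mem _ _ hwW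
    have h1 : a⁻¹ • w ∈ S e f b := ⟨hwa, k / a ^ 2, by
      have h2' := hconj _ hwa (k / a ^ 2) b
      rw [smul_inv_smul₀ ha0, mul_div_cancel₀ _ (pow_ne_zero 2 ha0), hk] at h2'
      exact smul_left_cancel h h2'⟩
    rw [hbot, AddSubgroup.mem_bot, smul_eq_zero] at h1
    exact h1.resolve_left (inv_ne_zero ha0)
  have hbM : h • b ∈ M D e r := mem_M.2 fun c hc => by
    rw [hCh, AddSubgroup.mem_bot] at hc
    rw [hc, mul_zero, AddChar.map_zero_eq_one]
  obtain ⟨_, ⟨w0, hw0, k0, rfl⟩, e0⟩ := mem_orb.1 (bot_unique P hF hd D hq hsmall h2 hr hbM hSh hb hbot)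
  set v := (-(a - 1)⁻¹) • w0 with hvdef
  set l := -(a ^ 2 - 1)⁻¹ * k0 with hldef
  have hv : v ∈ perp e f := Submodule.smul_mem _ _ hw0
  set b' := eEl e v l • b with hb'def
  have hb'orb : b' ∈ orb e f b := mem_orb.2 ⟨_, eEl_mem hv l, rfl⟩
  have hfix : h • b' = b' := by
    rw [hb'def, hconj v hv, ← e0, ← mul_smul, eEl_mul (Submodule.smul_mem _ _ hv).1 hw0.1]
    congr 2
    · have hw0' : w0 = (1 - a) • v := by
        rw [hvdef, smul_smul, show (1 - a) * -(a - 1)⁻¹ = (a - 1) * (a - 1)⁻¹ by ring, mul_inv_cancel₀ ha1,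
          one_smul]
      rw [hw0']
      module
    · rw [hvdef, smul_smul, sympForm_smul_right, sympForm_self, mul_zero, add_zero, hldef]
      linear_combination -k0 * mul_inv_cancel₀ ha2
  refine ⟨b', hb'orb, fun u hu c => ?_⟩
  have h1 : h • sympTv u c • b' = sympTv u c • b' := by
    have h2' := sympTv_conj h u c
    rw [show spVal h *ᵥ u = u from hw' u hu] at h2'
    rw [← mul_smul, mul_inv_eq_iff_eq_mul.1 h2', mul_smul, hfix]
  have hmem : sympTv u c • b' ∈ orb e f b' := by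
    rw [orb_eq hb'orb, ← bot_stable P hF hd D hq hsmall hr hb hbot (tv_mem_gW hu c),
      ← orb_smul (tv_mem_gW hu c)]
    exact Finset.mem_image_of_mem _ hb'orb
  obtain ⟨_, ⟨w, hwW, k, rfl⟩, e1⟩ := mem_orb.1 hmem
  rw [← e1, hconj w hwW, hfix, eq_comm, ← inv_smul_eq_iff, ← mul_smul, eEl_inv (Submodule.smul_mem _ _ hwW).1,
    eEl_mul (Submodule.neg_mem _ (Submodule.smul_mem _ _ hwW)).1 hwW.1] at h1
  have hwS : -(a • w) + w ∈ S e f b' :=
    ⟨Submodule.add_mem _ (Submodule.neg_mem _ (Submodule.smul_mem _ _ hwW)) hwW, _, h1⟩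
  rw [S_orb P hb'orb, hbot, AddSubgroup.mem_bot, show -(a • w) + w = (-(a - 1)) • w by module, smul_eq_zero,
    neg_eq_zero] at hwS
  obtain rfl : w = 0 := hwS.resolve_left ha1
  rw [smul_zero, neg_zero, zero_add, sympForm_zero_left, add_zero, eEl_zero, ← mem_C, C_orb P hb'orb, hC0,
    AddSubgroup.mem_bot] at h1
  obtain rfl : k = 0 := by
    refine (mul_eq_zero.1 (show (a ^ 2 - 1) * k = 0 by linear_combination -h1)).resolve_left ha2
  rw [← e1, eEl_one, one_smul]

/-- An orbit with trivial coordinates has a point fixed by the transvections of the orthogonal space. -/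
theorem exists_fixed (hd4 : 4 ≤ q ∨ 4 ≤ d) {r : F} (hr : r ≠ 0) {b : Ω} (hb : b ∈ M D e r)
    (hbot : S e f b = ⊥) : ∃ x ∈ orb e f b, ∀ u ∈ perp e f, ∀ c : F, sympTv u c • x = x := by
  by_cases h2 : (2 : F) = 0
  · exact fixed_even P hF hd D hq hsmall h2 hr hb hbot
  · exact fixed_odd P hF hd hq h2 hd4 hbot fun g hg => bot_stable P hF hd D hq hsmall hr hb hbot hg

/-- Some point has a trivial central stabiliser. -/
theorem exists_free (hd2 : 2 ≤ d) (hd4 : 4 ≤ q ∨ 4 ≤ d) {r : F} (hr : r ≠ 0) {b : Ω} (hb : b ∈ M D e r)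
    (hbot : S e f b = ⊥) : ∃ y : Ω, C e y = ⊥ := by
  obtain ⟨x, hx, hfix⟩ := exists_fixed P hF hd D hq hsmall hd4 hr hb hbot
  obtain ⟨⟨u, hu⟩, hu0⟩ : ∃ u : perp e f, u ≠ 0 := by
    haveI : Nontrivial (perp e f) := Finite.one_lt_card_iff_nontrivial.1 (by
      rw [card_perp P hF hd]
      exact Nat.one_lt_pow (by omega) (by omega))
    exact exists_ne 0
  have hu0' : u ≠ 0 := fun e0 => hu0 (Subtype.ext e0)
  have hne : u + (1 : F) • e ≠ 0 := fun e0 => by
    have h1 := hu.2
    rw [eq_neg_of_add_eq_zero_left e0, ← neg_smul, sympForm_smul_left, P, mul_one] at h1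
    exact one_ne_zero (neg_eq_zero.1 h1)
  obtain ⟨g, hg⟩ := symp_pretransitive hne (ne_zero P)
  refine ⟨g • x, (AddSubgroup.eq_bot_iff_forall _).2 fun c hc => ?_⟩
  rw [← hg, C_conj, mem_C, tv_split hu.1, mul_smul] at hc
  have h1 : eEl e ((c * 1) • u) (c * 1 ^ 2) • x = x := smul_left_cancel (sympTv u c) (by rw [hc, hfix u hu c])
  have h2 : (c * 1) • u ∈ S e f x := ⟨Submodule.smul_mem _ _ hu, _, h1⟩
  rw [S_orb P hx, hbot, AddSubgroup.mem_bot, smul_eq_zero, mul_one] at h2
  exact h2.resolve_right hu0'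

end Cfsg.Agent.Lie.MinIndexSp
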