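import Cfsg.Agent.Lib.Lie.MinIndexSpTwo

/-!
No orbit of the third kind occurs in a small action of a symplectic group.
-/

set_option autoImplicit false
set_option linter.unusedSectionVars false
set_option maxHeartbeats 1000000

namespace Cfsg.Agent.Lie.MinIndexSp

open Matrix Finset MulAction Cfsg Cfsg.Agent.Classical

universe u

attribute [local instance 10] _root_.Classical.propDecidable

variable {F : Type*} [Field F] [Fintype F] {m : ℕ}

local notation "V" => (Fin m ⊕ Fin m → F)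
local notation "B" => sympForm m F
set_option quotPrecheck false in
local notation "Sp" => Matrix.symplecticGroup (Fin m) F

variable {Ω : Type u} [MulAction (Matrix.symplecticGroup (Fin m) F) Ω] [Fintype Ω]
  [IsPretransitive (Matrix.symplecticGroup (Fin m) F) Ω]
variable {q d : ℕ} (hF : Fintype.card F = q) (hd : 2 * m = d + 2) (D : Chr F) (hq : 3 ≤ q)
  (hd2 : 2 ≤ d) (hd4 : 4 ≤ q ∨ 4 ≤ d) (hsmall : Small q d Ω)
variable {e f : Fin m ⊕ Fin m → F} (P : sympForm m F e f = 1)

include hF hd hq hd2 hd4 hsmall P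

/-- No orbit is of the second kind. -/
theorem two_false {r : F} (hr : r ≠ 0) {b : Ω} (hb : b ∈ M D e r) : ¬TypeTwo D e f r d b := fun hT => by
  obtain ⟨rfl, hT'⟩ := hT
  exact no_two P hF hd D (by omega) hsmall hr hb ⟨rfl, hT'⟩

omit hd hq hd2 hd4 hsmall in
/-- At most one nonzero scalar of a transvection keeps an orbit of the third kind. -/
theorem three_unique {r : F} (hr : r ≠ 0) {b : Ω} (hb : b ∈ M D e r) (hT : TypeThree e f b) {u : V}
    (hu : u ∈ perp e f) (hu0 : u ≠ 0) {c c' : F} (hc : c ≠ 0) (hc' : c' ≠ 0)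
    (h1 : sympTv u c • b ∈ orb e f b) (h1' : sympTv u c' • b ∈ orb e f b) : c = c' := by
  obtain ⟨h2, hS⟩ := hT
  obtain ⟨v', hv', huv⟩ := perp_nondeg P u hu hu0
  have hfix : ∀ k : F, k ≠ 0 → sympTv u k • b ∈ orb e f b → ∀ l : F, eEl e (l • u) (l ^ 2 * k⁻¹) • b = b := by
    intro k hk hkb l
    obtain ⟨y, hy, e1⟩ := mem_orb.1 hkb
    have h := shift_fix P h2 hu hy e1.symm (hS ((-(k⁻¹ * l)) • v') (Submodule.smul_mem _ _ hv'))
    rwa [sympForm_smul_left, sympForm_swap v' u, huv, show k * (-(k⁻¹ * l) * -1) = l by field_simp,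
      show k * (-(k⁻¹ * l) * -1) ^ 2 = l ^ 2 * k⁻¹ by field_simp] at h
  by_contra hne
  have ht : c⁻¹ + c'⁻¹ ≠ 0 := fun e0 => hne (inv_injective (by linear_combination e0 - c'⁻¹ * h2))
  obtain ⟨x, hx⟩ := C_ne_of_M D hr hb
  obtain ⟨l, hl⟩ := FiniteField.isSquare_of_char_two (CharP.ringChar_of_prime_eq_zero Nat.prime_two
    (by exact_mod_cast h2)) (x / (c⁻¹ + c'⁻¹))
  refine hx ?_
  have hlu : B (l • u) e = 0 := by rw [sympForm_smul_left, hu.1, mul_zero]
  have hxl : l ^ 2 * c⁻¹ + l ^ 2 * c'⁻¹ + B (l • u) (l • u) = x := by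
    rw [sympForm_self, add_zero, ← mul_add, sq, ← hl, div_mul_cancel₀ _ ht]
  rw [mem_C, ← eEl_zero, show eEl e (0 : V) x = eEl e (l • u) (l ^ 2 * c⁻¹) * eEl e (l • u) (l ^ 2 * c'⁻¹) by
    rw [eEl_mul hlu hlu, hxl, ← two_smul F, h2, zero_smul], mul_smul, hfix c' hc' h1', hfix c hc h1]

/-- An orbit of the third kind is of the third kind for the vectors of the orthogonal space. -/
theorem three_switch {r : F} (hr : r ≠ 0) {b : Ω} (hb : b ∈ M D e r) (hT : TypeThree e f b) {u u' : V}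
    (hu : u ∈ perp e f) (hu0 : u ≠ 0) (hu' : u' ∈ perp e f) (huu : B u u' = 1) :
    ∃ s : F, s ≠ 0 ∧ b ∈ M D u s ∧ TypeThree u u' b := by
  have h2 := hT.1
  have hCu : ∀ c ∈ C u b, sympTv u c • b ∈ orb e f b := fun c hc => by rw [mem_C.1 hc]; exact mem_orb_self b
  have hCne : ∃ c, c ∉ C u b := by
    by_contra hcon
    push Not at hcon
    obtain ⟨t, ht0, ht1⟩ : ∃ t : F, t ≠ 0 ∧ t ≠ 1 := by
      by_contra hcon'
      push Not at hcon'
      have h1 : Fintype.card F ≤ ({0, 1} : Finset F).card := Finset.card_le_card fun z _ => by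
        simp only [Finset.mem_insert, Finset.mem_singleton]
        exact or_iff_not_imp_left.2 (hcon' z)
      have := Finset.card_le_two (a := (0 : F)) (b := 1)
      omega
    exact ht1 (three_unique hF D P hr hb hT hu hu0 ht0 one_ne_zero (hCu _ (hcon _)) (hCu _ (hcon _)))
  obtain ⟨s, hs, hbs⟩ := exists_M_of_C_ne D hCne
  rcases types huu hF hd D hq hsmall hd2 hs hbs with hbot | hTwo | hThree
  · exfalso
    obtain ⟨x0, hx0, hfix⟩ := exists_fixed huu hF hd D hq hsmall hd4 hs hbs hbot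
    obtain ⟨_, ⟨w0, hw0, k0, rfl⟩, hb0⟩ := mem_orb.1 (orb_eq_iff.1 (orb_eq hx0).symm)
    have hbot' : S u u' x0 = ⊥ := by rw [S_orb huu hx0, hbot]
    have hCeq : C u x0 = C u b := C_orb huu hx0
    have he' : e ∈ perp u u' := ⟨sform_swap_zero hu.1, sform_swap_zero hu'.1⟩
    -- the elements fixing the point
    have hkey : ∀ l : F, ∃ k : F, l + k * B w0 e = 0 ∧ l * B w0 e ∈ C u b := by
      intro l
      obtain ⟨-, k, hk⟩ := hT.2 (l • u) (Submodule.smul_mem _ _ hu)
      refine ⟨k, ?_⟩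
      have hsplit : eEl e (l • u) k = sympTv e k * eEl u (l • e) 0 := by
        rw [eEl_split (Submodule.smul_mem _ _ hu).1]
        congr 1
        rw [eEl_symm (Submodule.smul_mem _ _ hu).1, eEl_smul (sform_swap_zero hu.1), mul_zero]
      have hX : l • e + w0 ∈ perp u u' := Submodule.add_mem _ (Submodule.smul_mem _ _ he') hw0
      set X' := l • e + w0 + (k * B (l • e + w0) e) • e with hX'
      have hX'W : X' ∈ perp u u' := Submodule.add_mem _ hX (Submodule.smul_mem _ _ he')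
      have h1 : eEl u X' (0 + k0 + B w0 (l • e)) • x0 = eEl u w0 k0 • x0 := by
        conv_rhs => rw [hb0, ← hk, ← hb0, hsplit, mul_smul, ← mul_smul (eEl u (l • e) 0),
          eEl_mul (Submodule.smul_mem _ _ he').1 hw0.1]
        have h3 := gW_conj_heis (tv_mem_gW he' k) (w := l • e + w0) (0 + k0 + B w0 (l • e))
        rw [tv_apply, ← hX'] at h3
        rw [← h3, mul_smul, mul_smul, sympTv_inv, hfix e he']
      rw [eq_comm, ← inv_smul_eq_iff, ← mul_smul, eEl_inv hX'W.1, eEl_mul (Submodule.neg_mem _ hX'W).1 hw0.1] at h1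
      have h4 : -X' + w0 ∈ S u u' x0 := ⟨Submodule.add_mem _ (Submodule.neg_mem _ hX'W) hw0, _, h1⟩
      rw [hbot', AddSubgroup.mem_bot] at h4
      have hXw : X' = w0 := by rw [← neg_inj, eq_neg_of_add_eq_zero_left h4]
      rw [hXw, neg_add_cancel, eEl_zero, ← mem_C, hCeq, ← neg_one_smul F w0, sympForm_smul_right (-1 : F) w0 w0, sympForm_self, mul_zero, add_zero,
        sympForm_smul_right] at h1
      refine ⟨?_, ?_⟩
      · have h5 : (l + k * B w0 e) • e = 0 := by
          rw [hX', sympForm_add_left, sympForm_smul_left, sympForm_self, mul_zero, zero_add] at hXw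
          calc (l + k * B w0 e) • e = l • e + w0 + (k * B w0 e) • e - w0 := by module
            _ = 0 := by rw [hXw, sub_self]
        exact (smul_eq_zero.1 h5).resolve_right (ne_zero P)
      · convert neg_mem h1 using 1
        ring
    obtain ⟨k, hk1, -⟩ := hkey 1
    have hB0 : B w0 e ≠ 0 := fun e0 => one_ne_zero (α := F) (by rwa [e0, mul_zero, add_zero] at hk1)
    obtain ⟨c, hc⟩ := hCne
    obtain ⟨-, -, hmem⟩ := hkey (c / B w0 e)
    rw [div_mul_cancel₀ _ hB0] at hmem
    exact hc hmem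
  · exact absurd hTwo (two_false hF hd D hq hd2 hd4 hsmall huu hs hbs)
  · exact ⟨s, hs, hbs, hThree⟩

/-- The transvections fixing the orbit of the orthogonal space. -/
theorem three_pair {r : F} (hr : r ≠ 0) {b : Ω} (hb : b ∈ M D e r) (hT : TypeThree e f b) {u : V}
    (hu : u ∈ perp e f) (hu0 : u ≠ 0) :
    ∃ k k' : F, eEl e u 0 • b = sympTv e k • b ∧ sympTv u k' • b = sympTv e k • b := by
  obtain ⟨u', hu', huu⟩ := perp_nondeg P u hu hu0
  obtain ⟨s, hs, hbs, hT'⟩ := three_switch hF hd D hq hd2 hd4 hsmall P hr hb hT hu hu0 hu' huu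
  have he' : e ∈ perp u u' := ⟨sform_swap_zero hu.1, sform_swap_zero hu'.1⟩
  obtain ⟨-, k, hk⟩ := hT.2 u hu
  obtain ⟨-, k', hk'⟩ := hT'.2 e he'
  rw [eEl_split hu.1, mul_smul, smul_eq_iff_eq_inv_smul, sympTv_inv] at hk
  rw [eEl_split he'.1, ← eEl_symm hu.1, mul_smul, hk] at hk'
  refine ⟨-k, -k', hk, ?_⟩
  conv_lhs => rw [← hk']
  rw [smul_smul, sympTv_mul, neg_add_cancel, sympTv_zero, one_smul]

/-- The central stabiliser of an orbit of the third kind has index at most two. -/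
theorem three_half {r : F} (hr : r ≠ 0) {b : Ω} (hb : b ∈ M D e r) (hT : TypeThree e f b) :
    ∃ c : F, c ≠ 0 ∧ c ∈ C e b := by
  obtain ⟨h2, hS⟩ := id hT
  obtain ⟨u, hu, hu0, hne⟩ : ∃ u ∈ perp e f, u ≠ 0 ∧ eEl e u 0 • b ≠ b := by
    by_contra hcon
    push Not at hcon
    obtain ⟨c, hc⟩ := C_ne_of_M D hr hb
    have hall : ∀ w ∈ perp e f, eEl e w 0 • b = b := fun w hw => by
      rcases eq_or_ne w 0 with rfl | hw0
      · rw [eEl_one, one_smul]
      · exact hcon w hw hw0
    obtain ⟨u, hu, hu0⟩ : ∃ u ∈ perp e f, u ≠ 0 := by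
      haveI : Nontrivial (perp e f) := Finite.one_lt_card_iff_nontrivial.1 (by
        rw [card_perp P hF hd]
        exact Nat.one_lt_pow (by omega) (by omega))
      obtain ⟨⟨u, hu⟩, h0⟩ := exists_ne (0 : perp e f)
      exact ⟨u, hu, fun e0 => h0 (Subtype.ext e0)⟩
    obtain ⟨v, hv, huv⟩ := perp_nondeg P u hu hu0
    refine hc ?_
    have hcv : c • v ∈ perp e f := Submodule.smul_mem _ _ hv
    have h1 : eEl e (0 : V) c = eEl e u 0 * eEl e (c • v) 0 * eEl e (u + c • v) 0 := by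
      rw [eEl_mul hu.1 hcv.1, eEl_mul (by rw [sympForm_add_left, hu.1, hcv.1, add_zero])
        (by rw [sympForm_add_left, hu.1, hcv.1, add_zero]), sympForm_self, add_zero, add_zero, zero_add,
        sympForm_smul_left, sympForm_swap v u, huv, ← two_smul F, h2, zero_smul, mul_neg, mul_one]
      congr 1
      linear_combination c * h2
    rw [mem_C, ← eEl_zero, h1, mul_smul, mul_smul, hall _ (Submodule.add_mem _ hu hcv), hall _ hcv, hall _ hu]
  obtain ⟨k, k', hk, hk'⟩ := three_pair hF hd D hq hd2 hd4 hsmall P hr hb hT hu hu0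
  have hk'0 : k' ≠ 0 := fun e0 => hne (by rw [hk, ← hk', e0, sympTv_zero, one_smul])
  obtain ⟨u', hu', huu⟩ := perp_nondeg P u hu hu0
  have horb : sympTv u k' • b ∈ orb e f b := by
    rw [hk']; exact mem_orb.2 ⟨_, tv_mem_heis k, rfl⟩
  obtain ⟨y, hy, e1⟩ := mem_orb.1 horb
  have hfix : ∀ l : F, eEl e (l • u) (l ^ 2 * k'⁻¹) • b = b := by
    intro l
    have h := shift_fix P h2 hu hy e1.symm (hS ((-(k'⁻¹ * l)) • u') (Submodule.smul_mem _ _ hu'))
    rwa [sympForm_smul_left, sympForm_swap u' u, huu, show k' * (-(k'⁻¹ * l) * -1) = l by field_simp,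
      show k' * (-(k'⁻¹ * l) * -1) ^ 2 = l ^ 2 * k'⁻¹ by field_simp] at h
  -- the values lie in two classes
  have hclass : ∀ x : F, x ∈ C e b ∨ x - k ∈ C e b := by
    intro x
    obtain ⟨l, hl⟩ := FiniteField.isSquare_of_char_two (CharP.ringChar_of_prime_eq_zero Nat.prime_two
      (by exact_mod_cast h2)) (x * k')
    have h1 : eEl e (l • u) 0 • b = sympTv e x • b := by
      have hx : l ^ 2 * k'⁻¹ = x := by rw [sq, ← hl, mul_inv_cancel_right₀ hk'0]
      have h3 := hfix l
      rw [hx, eEl_split (Submodule.smul_mem _ _ hu).1, mul_smul, smul_eq_iff_eq_inv_smul, sympTv_inv] at h3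
      rw [h3, show -x = x by linear_combination -x * h2]
    by_cases hl0 : l = 0
    · refine Or.inl ?_
      rw [hl0, zero_smul, eEl_one, one_smul] at h1
      exact mem_C.2 h1.symm
    obtain ⟨k1, k1', hk1, hk1'⟩ := three_pair hF hd D hq hd2 hd4 hsmall P hr hb hT (Submodule.smul_mem _ l hu)
      (smul_ne_zero hl0 hu0)
    rw [h1] at hk1
    rw [← hk1, tv_smul] at hk1'
    have hsub : ∀ a : F, sympTv e x • b = sympTv e a • b → x - a ∈ C e b := by
      intro a ha
      rw [mem_C, show x - a = -a + x by ring, ← sympTv_mul, mul_smul, ha, smul_smul, sympTv_mul, neg_add_cancel,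
        sympTv_zero, one_smul]
    by_cases hk10 : l ^ 2 * k1' = 0
    · rw [hk10, sympTv_zero, one_smul] at hk1'
      exact Or.inl (mem_C.2 hk1'.symm)
    · refine Or.inr (hsub k ?_)
      rw [← hk1', three_unique hF D P hr hb hT hu hu0 hk10 hk'0
        (by rw [hk1']; exact mem_orb.2 ⟨_, tv_mem_heis x, rfl⟩) horb, hk']
  by_contra hcon
  push Not at hcon
  obtain ⟨z, hz0, hzk⟩ : ∃ z : F, z ≠ 0 ∧ z ≠ k := by
    by_contra hcon'
    push Not at hcon'
    have h1 : Fintype.card F ≤ ({0, k} : Finset F).card := Finset.card_le_card fun z _ => by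
      simp only [Finset.mem_insert, Finset.mem_singleton]
      exact or_iff_not_imp_left.2 (hcon' z)
    have := Finset.card_le_two (a := (0 : F)) (b := k)
    omega
  rcases hclass z with h | h
  · exact hcon z hz0 h
  · exact hcon _ (sub_ne_zero.2 hzk) h

/-- No orbit is of the third kind. -/
theorem three_false {r : F} (hr : r ≠ 0) {b : Ω} (hb : b ∈ M D e r) : ¬TypeThree e f b := fun hT => by
  obtain ⟨c, hc⟩ := C_ne_of_M D hr hb
  have hall : ∀ w ∈ perp e f, eEl e w 0 • b = b := by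
    intro w hw
    rcases eq_or_ne w 0 with rfl | hw0
    · rw [eEl_one, one_smul]
    obtain ⟨k, k', hk, hk'⟩ := three_pair hF hd D hq hd2 hd4 hsmall P hr hb hT hw hw0
    obtain ⟨w', hw', hww⟩ := perp_nondeg P w hw hw0
    obtain ⟨s, hs, hbs, hT'⟩ := three_switch hF hd D hq hd2 hd4 hsmall P hr hb hT hw hw0 hw' hww
    obtain ⟨c1, hc10, hc1⟩ := three_half hF hd D hq hd2 hd4 hsmall hww hs hbs hT'
    rcases eq_or_ne k' 0 with rfl | hk0
    · rw [hk, ← hk', sympTv_zero, one_smul]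
    · have h1 : k' = c1 := three_unique hF D P hr hb hT hw hw0 hk0 hc10
        (by rw [hk']; exact mem_orb.2 ⟨_, tv_mem_heis k, rfl⟩) (by rw [mem_C.1 hc1]; exact mem_orb_self b)
      rw [hk, ← hk', h1]
      exact hc1
  obtain ⟨u, hu, hu0⟩ : ∃ u ∈ perp e f, u ≠ 0 := by
    haveI : Nontrivial (perp e f) := Finite.one_lt_card_iff_nontrivial.1 (by
      rw [card_perp P hF hd]
      exact Nat.one_lt_pow (by omega) (by omega))
    obtain ⟨⟨u, hu⟩, h0⟩ := exists_ne (0 : perp e f)
    exact ⟨u, hu, fun e0 => h0 (Subtype.ext e0)⟩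
  obtain ⟨v, hv, huv⟩ := perp_nondeg P u hu hu0
  refine hc ?_
  have hcv : c • v ∈ perp e f := Submodule.smul_mem _ _ hv
  have h1 : eEl e (0 : V) c = eEl e u 0 * eEl e (c • v) 0 * eEl e (u + c • v) 0 := by
    rw [eEl_mul hu.1 hcv.1, eEl_mul (by rw [sympForm_add_left, hu.1, hcv.1, add_zero])
      (by rw [sympForm_add_left, hu.1, hcv.1, add_zero]), sympForm_self, add_zero, add_zero, zero_add,
      sympForm_smul_left, sympForm_swap v u, huv, ← two_smul F, hT.1, zero_smul, mul_neg, mul_one]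
    congr 1
    linear_combination c * hT.1
  rw [mem_C, ← eEl_zero, h1, mul_smul, mul_smul, hall _ (Submodule.add_mem _ hu hcv), hall _ hcv, hall _ hu]

end Cfsg.Agent.Lie.MinIndexSp
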