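import Cfsg.Agent.Lib.Lie.MinIndexSpOne

/-!
No orbit of the second kind occurs in a small action of a symplectic group of dimension four.
-/

set_option autoImplicit false
set_option linter.unusedSectionVars false
set_option maxHeartbeats 1000000

namespace Cfsg.Agent.Lie.MinIndexSp

open Matrix Finset MulAction Cfsg Cfsg.Agent.Classical

universe u

attribute [local instance 10] _root_.Classical.propDecidable

variable {F : Type*} [Field F] [Fintype F] {m : ℕ}

local notation "V" => (Fin m ⊕ Fin m → F)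
local notation "B" => sympForm m F
set_option quotPrecheck false in
local notation "Sp" => Matrix.symplecticGroup (Fin m) F

variable {Ω : Type u} [MulAction (Matrix.symplecticGroup (Fin m) F) Ω] [Fintype Ω]
variable {e f : Fin m ⊕ Fin m → F} (P : sympForm m F e f = 1) {q : ℕ} (hF : Fintype.card F = q)
  (hd : 2 * m = 2 + 2) (D : Chr F) (hq : 4 ≤ q) (hsmall : Small q 2 Ω)

/-- The orbits of the images of a point. -/
noncomputable def fam (e f : Fin m ⊕ Fin m → F) (b : Ω) : Finset (Finset Ω) :=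
  @Finset.filter _ (fun O => ∃ g ∈ gW e f, orb e f (g • b) = O) (_root_.Classical.decPred _) univ

theorem mem_fam {b : Ω} {O : Finset Ω} : O ∈ fam e f b ↔ ∃ g ∈ gW e f, orb e f (g • b) = O := by simp [fam]

include P hF hd hq

/-- The counts of an orbit of the second kind. -/
theorem two_facts {r : F} (hr : r ≠ 0) {b : Ω} (hT : TypeTwo D e f r 2 b) :
    Nat.card (A D e f r b) = q ∧ Nat.card (S e f b) = q ∧ (orb e f b).card * Nat.card (C e b) = q ^ 2 := by
  obtain ⟨-, v, hv, hv0, hS, hA⟩ := hT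
  have key : ∀ T : AddSubgroup V, (∀ w, w ∈ T ↔ ∃ l : F, w = l • v) → Nat.card T = q := fun T hT => by
    rw [← hF, ← Nat.card_eq_fintype_card]
    refine (Nat.card_eq_of_bijective (fun l : F => (⟨l • v, (hT _).2 ⟨l, rfl⟩⟩ : T)) ⟨fun a c hac =>
      smul_left_injective F hv0 (congrArg Subtype.val hac), fun w => ?_⟩).symm
    obtain ⟨l, hl⟩ := (hT _).1 w.2
    exact ⟨l, Subtype.ext hl.symm⟩
  have hSc := key _ hS
  refine ⟨key _ hA, hSc, Nat.eq_of_mul_eq_mul_right (show 0 < q by omega) ?_⟩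
  rw [mul_assoc]
  conv_lhs => arg 2; arg 2; rw [← hSc]
  exact card_orb P hF hd b

/-- The size of a family. -/
theorem fam_count {r : F} (hr : r ≠ 0) {b : Ω} (hT : TypeTwo D e f r 2 b) {v : V} (hv : v ∈ S e f b) (hv0 : v ≠ 0) :
    q + 1 ≤ (fam e f b).card ∧ (fam e f b).card = ((fam e f b).filter fun O => ∀ x ∈ O, v ∈ S e f x).card * (q + 1) := by
  have h1 := double_count P hF hd (fun x : Ω => S e f x) (fun x w hw => hw.1)
    (fun g hg x w => S_smul_gW hg x) (fun x y hy => S_orb P hy) b hv.1 hv0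
  obtain ⟨-, hSc, -⟩ := two_facts P hF hd D hq hr hT
  rw [hSc] at h1
  have h2 : 1 ≤ ((fam e f b).filter fun O => ∀ x ∈ O, v ∈ S e f x).card := Finset.card_pos.2 ⟨orb e f b,
    Finset.mem_filter.2 ⟨mem_fam.2 ⟨1, one_mem _, by rw [one_smul]⟩, fun x hx => by rw [S_orb P hx]; exact hv⟩⟩
  have h3 : (fam e f b).card = ((fam e f b).filter fun O => ∀ x ∈ O, v ∈ S e f x).card * (q + 1) := by
    refine Nat.eq_of_mul_eq_mul_right (show 0 < q - 1 by omega) ?_
    rw [mul_assoc, show (q + 1) * (q - 1) = q ^ 2 - 1 from (Nat.sq_sub_sq q 1).symm.trans (by rw [one_pow])]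
    convert h1 using 3 <;> (ext O; simp [fam])
  exact ⟨h3 ▸ Nat.le_mul_of_pos_left _ h2, h3⟩

omit hq in
/-- Orbits outside a family. -/
theorem fam_extra {r : F} (hr : r ≠ 0) {b : Ω} (hb : b ∈ M D e r) (s : Finset Ω) (hs : ∀ x ∈ s, x ∈ M D e r)
    (hout : ∀ x ∈ s, orb e f x ∉ fam e f b) (hinj : ∀ x ∈ s, ∀ y ∈ s, orb e f x = orb e f y → x = y) :
    (fam e f b).card * (q * Nat.card (A D e f r b)) + ∑ x ∈ s, q * Nat.card (A D e f r x) ≤ mW Ω D e r := by
  classical
  have hex : ∀ O ∈ fam e f b, ∃ x : Ω, orb e f x = O ∧ x ∈ M D e r ∧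
      Nat.card (A D e f r x) = Nat.card (A D e f r b) := by
    intro O hO
    obtain ⟨g, hg, rfl⟩ := mem_fam.1 hO
    refine ⟨g • b, rfl, mem_M.2 fun c hc => mem_M.1 hb c (C_smul hg.1 b ▸ hc), Nat.card_congr
      { toFun := fun w => ⟨_, (A_smul_gW P D r hg b).1 w.2⟩
        invFun := fun w => ⟨spVal g *ᵥ (w : V), (A_smul_gW P D r hg b).2 (by rw [spVal_inv_mulVec]; exact w.2)⟩
        left_inv := fun w => Subtype.ext (spVal_mulVec_inv g _)
        right_inv := fun w => Subtype.ext (spVal_inv_mulVec g _) }⟩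
  haveI : Nonempty Ω := ⟨b⟩
  choose! rep hrep hrepM hrepA using hex
  refine le_trans (le_of_eq ?_) (sum_orbits_le P hF hd D hr ((fam e f b).disjSum s) (Sum.elim rep id) ?_ ?_)
  · rw [Finset.sum_disjSum]
    congr 1
    rw [Finset.sum_congr rfl (fun O hO => by rw [Sum.elim_inl, hrepA O hO] : ∀ O ∈ fam e f b,
      q * Nat.card (A D e f r (Sum.elim rep id (Sum.inl O))) = q * Nat.card (A D e f r b)), Finset.sum_const, smul_eq_mul]
  · intro i hi
    rcases Finset.mem_disjSum.1 hi with ⟨O, hO, rfl⟩ | ⟨x, hx, rfl⟩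
    · exact hrepM O hO
    · exact hs x hx
  · intro i hi j hj hij
    rcases Finset.mem_disjSum.1 hi with ⟨O, hO, rfl⟩ | ⟨x, hx, rfl⟩ <;>
      rcases Finset.mem_disjSum.1 hj with ⟨O', hO', rfl⟩ | ⟨x', hx', rfl⟩ <;>
      simp only [Sum.elim_inl, Sum.elim_inr, id] at hij
    · rw [hrep O hO, hrep O' hO'] at hij; rw [hij]
    · rw [hrep O hO] at hij; exact absurd (hij ▸ hO) (hout x' hx')
    · rw [hrep O' hO'] at hij; exact absurd (hij ▸ hO') (hout x hx)
    · rw [hinj x hx x' hx' hij]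

/-- The weight of an orbit of the second kind. -/
theorem two_weight {r : F} (hr : r ≠ 0) {b : Ω} (hb : b ∈ M D e r) (hT : TypeTwo D e f r 2 b) :
    q ^ 3 + q ^ 2 ≤ mW Ω D e r := by
  obtain ⟨hA, -, -⟩ := two_facts P hF hd D hq hr hT
  obtain ⟨-, v, hv, hv0, hS, -⟩ := id hT
  have h1 := fam_extra P hF hd D hr hb ∅ (by simp) (by simp) (by simp)
  have h2 := (fam_count P hF hd D hq hr hT ((hS v).2 ⟨1, (one_smul F v).symm⟩) hv0).1
  rw [Finset.sum_empty, add_zero, hA] at h1
  refine le_trans ?_ h1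
  calc q ^ 3 + q ^ 2 = (q + 1) * (q * q) := by ring
    _ ≤ _ := Nat.mul_le_mul_right _ h2

include hsmall

/-- The bound on the number of points. -/
theorem card_le_bound : Fintype.card Ω ≤ q ^ 3 + q ^ 2 + q := by
  have h1 := hsmall
  rw [Small] at h1
  by_contra hlt
  have h2 : (q ^ 3 + q ^ 2 + q + 1) * (q - 1) + q ≤ q ^ (2 + 2) :=
    le_trans (Nat.add_le_add_right (Nat.mul_le_mul_right _ (Nat.not_le.1 hlt)) _) h1
  obtain ⟨a, ha⟩ : ∃ a, q = a + 1 := ⟨q - 1, by omega⟩
  rw [ha, Nat.add_sub_cancel, show 2 + 2 = 4 from rfl] at h2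
  nlinarith

/-- In characteristic two a weight with an orbit of the second kind has no orbit of the third kind. -/
theorem no_three {r : F} (hr : r ≠ 0) {b x : Ω} (hb : b ∈ M D e r) (hT : TypeTwo D e f r 2 b) (hx : x ∈ M D e r)
    (hx3 : TypeThree e f x) : False := by
  classical
  obtain ⟨h2, hxS⟩ := hx3
  obtain ⟨hA, hSc, -⟩ := two_facts P hF hd D hq hr hT
  obtain ⟨-, v, hv, hv0, hS, -⟩ := id hT
  have hfam := (fam_count P hF hd D hq hr hT ((hS v).2 ⟨1, (one_smul F v).symm⟩) hv0).1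
  have hW : Nat.card (perp e f) = q ^ 2 := card_perp P hF hd
  have hcard3 : ∀ z : Ω, (∀ w ∈ perp e f, w ∈ S e f z) → Nat.card (A D e f r z) = 1 ∧ orb e f z ∉ fam e f b := by
    intro z hz
    have hSz : Nat.card (S e f z) = q ^ 2 := by
      rw [← hW]
      exact Nat.card_congr
        { toFun := fun w => ⟨w.1, w.2.1⟩
          invFun := fun w => ⟨w.1, hz _ w.2⟩
          left_inv := fun w => rfl
          right_inv := fun w => rfl }
    refine ⟨Nat.eq_of_mul_eq_mul_right (show 0 < q ^ 2 by positivity) ?_, fun hmem => ?_⟩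
    · rw [one_mul]
      conv_lhs => arg 2; rw [← hSz]
      exact card_A P hF hd D hr z
    · obtain ⟨g, hg, e1⟩ := mem_fam.1 hmem
      have h1 : z ∈ orb e f (g • b) := by rw [e1]; exact mem_orb_self z
      have h3 : Nat.card (perp e f) ≤ Nat.card (S e f b) := by
        refine Nat.card_le_card_of_injective (fun w : perp e f => (⟨spVal g⁻¹ *ᵥ (w : V), ?_⟩ : S e f b))
          fun a c hac => Subtype.ext (sp_injective g⁻¹ (congrArg Subtype.val hac))
        exact (S_smul_gW hg b).1 (by rw [← S_orb P h1]; exact hz _ w.2)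
      rw [hW, hSc, sq] at h3
      nlinarith
  have hmb : mW Ω D e r ≤ q ^ 3 + q ^ 2 + q := by
    have h1 := mW_le (Ω := Ω) P hF D hr
    rw [kap, if_pos h2, one_mul] at h1
    exact h1.trans (card_le_bound P hF hd hq hsmall)
  -- there is one such orbit
  let L : Finset (Finset Ω) := @Finset.filter _ (fun O => ∃ z ∈ M D e r, (∀ w ∈ perp e f, w ∈ S e f z) ∧ orb e f z = O)
    (_root_.Classical.decPred _) univ
  have hL : L.card ≤ kap F := by
    rw [kap, if_pos h2]
    refine Finset.card_le_one.2 fun O1 hO1 O2 hO2 => ?_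
    simp only [L, Finset.mem_filter, Finset.mem_univ, true_and] at hO1 hO2
    obtain ⟨z1, hz1, hz1S, rfl⟩ := hO1
    obtain ⟨z2, hz2, hz2S, rfl⟩ := hO2
    by_contra hne
    have hzz : z1 ≠ z2 := fun e1 => hne (e1 ▸ rfl)
    have h1 := fam_extra P hF hd D hr hb {z1, z2}
      (fun z hz => by rcases Finset.mem_insert.1 hz with rfl | hz; · exact hz1
                      · rw [Finset.mem_singleton.1 hz]; exact hz2)
      (fun z hz => by rcases Finset.mem_insert.1 hz with rfl | hz; · exact (hcard3 _ hz1S).2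
                      · rw [Finset.mem_singleton.1 hz]; exact (hcard3 _ hz2S).2)
      (fun z hz z' hz' e1 => by
        simp only [Finset.mem_insert, Finset.mem_singleton] at hz hz'
        rcases hz with rfl | rfl <;> rcases hz' with rfl | rfl
        · rfl
        · exact absurd e1 hne
        · exact absurd e1.symm hne
        · rfl)
    rw [Finset.sum_pair hzz, (hcard3 _ hz1S).1, (hcard3 _ hz2S).1, hA] at h1
    have h3 := Nat.mul_le_mul_right (q * q) hfam
    nlinarith
  have hstab : ∀ u ∈ perp e f, ∀ c : F, ∃ y ∈ heis e f, y • x = sympTv u c • x := by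
    intro u hu c
    refine mem_orb.1 ?_
    rw [← few_stable P hF hd (by omega) hsmall hu L (fun c' => ?_) hL c]
    · exact Finset.mem_image_of_mem _ (mem_orb_self x)
    simp only [L, Finset.mem_filter, Finset.mem_univ, true_and]
    refine ⟨_, mem_M.2 fun k hk => mem_M.1 hx k ?_, fun w hw => ?_, rfl⟩
    · rwa [C_smul (tv_mem_gW hu c').1] at hk
    · exact (S_smul_gW (tv_mem_gW hu c') x).2 (hxS _ (gW_mem_perp (inv_mem (tv_mem_gW hu c')) hw))
  obtain ⟨v', hv', hvv'⟩ := perp_nondeg P v hv hv0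
  have hfix : ∀ c : F, c ≠ 0 → eEl e v c • x = x := by
    intro c hc
    obtain ⟨y, hy, e1⟩ := hstab v hv c⁻¹
    have h1 := shift_fix P h2 hv hy e1.symm (hxS ((-c) • v') (Submodule.smul_mem _ _ hv'))
    rw [sympForm_smul_left, sympForm_swap v' v, hvv', show c⁻¹ * (-c * -1) = 1 by field_simp, one_smul,
      show c⁻¹ * (-c * -1) ^ 2 = c by field_simp] at h1
    exact h1
  obtain ⟨c0, hc0⟩ := C_ne_of_M D hr hx
  refine hc0 ?_
  have hc00 : c0 ≠ 0 := fun e1 => hc0 (e1 ▸ zero_mem _)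
  obtain ⟨t, ht0, ht1⟩ : ∃ t : F, t ≠ 0 ∧ t ≠ c0 := by
    by_contra hcon
    push Not at hcon
    have h1 : Fintype.card F ≤ ({0, c0} : Finset F).card := Finset.card_le_card fun z _ => by
      simp only [Finset.mem_insert, Finset.mem_singleton]
      exact or_iff_not_imp_left.2 (hcon z)
    have := Finset.card_le_two (a := (0 : F)) (b := c0)
    omega
  have hct : c0 + t ≠ 0 := fun e1 => ht1 (by linear_combination e1 - c0 * h2)
  rw [mem_C, ← eEl_zero, show eEl e (0 : V) c0 = eEl e v (c0 + t) * eEl e v t by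
    rw [eEl_mul hv.1 hv.1, sympForm_self, ← two_smul F, h2, zero_smul]
    congr 1
    linear_combination (-t) * h2, mul_smul, hfix t ht0, hfix _ hct]

variable [IsPretransitive (Matrix.symplecticGroup (Fin m) F) Ω]

/-- No orbit is of the second kind. -/
theorem no_two {r0 : F} (hr0 : r0 ≠ 0) {b0 : Ω} (hb0 : b0 ∈ M D e r0) (hT0 : TypeTwo D e f r0 2 b0) : False := by
  classical
  have hq3 : 3 ≤ q := by omega
  have hN := card_le_bound (Ω := Ω) P hF hd hq hsmall
  -- a point with trivial central stabiliser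
  obtain ⟨y, hy⟩ : ∃ y : Ω, C e y = ⊥ := by
    obtain ⟨-, v, hv, hv0, hS, -⟩ := id hT0
    obtain ⟨v', hv', hvv'⟩ := perp_nondeg P v hv hv0
    have hv'0 : v' ≠ 0 := fun e1 => by rw [e1, sympForm_zero_right] at hvv'; exact zero_ne_one hvv'
    obtain ⟨g, hg⟩ := symp_pretransitive hv'0 (ne_zero P)
    refine ⟨g • b0, ?_⟩
    rw [← hg, C_conj, AddSubgroup.eq_bot_iff_forall]
    intro c hc
    by_contra hc0
    have h1 : v ∈ S e f (sympTv v' c • b0) := by rw [mem_C.1 hc]; exact (hS v).2 ⟨1, (one_smul F v).symm⟩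
    obtain ⟨l, hl⟩ := (hS _).1 ((S_smul_gW (tv_mem_gW hv' c) b0).1 h1)
    rw [sympTv_inv, tv_apply, hvv', mul_one] at hl
    have h3 := congrArg (fun z => B v z) hl
    simp only [sympForm_add_right, sympForm_smul_right, sympForm_self, hvv', mul_one, mul_zero, zero_add,
      neg_eq_zero] at h3
    exact hc0 h3
  have hyM : ∀ s : F, y ∈ M D e s := fun s => mem_M.2 fun c hc => by
    rw [hy, AddSubgroup.mem_bot] at hc
    rw [hc, mul_zero, AddChar.map_zero_eq_one]
  have hbot_weight : ∀ {s : F}, s ≠ 0 → ∀ {x : Ω}, S e f x = ⊥ → Nat.card (A D e f s x) = q ^ 2 := by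
    intro s hs x hx
    have h1 := card_A P hF hd D hs x
    rwa [hx, AddSubgroup.card_bot, mul_one] at h1
  have hyS : S e f y ≠ ⊥ := by
    intro hbot
    obtain ⟨hA, hSc, -⟩ := two_facts P hF hd D hq hr0 hT0
    obtain ⟨-, v, hv, hv0, hS, -⟩ := id hT0
    have hf := (fam_count P hF hd D hq hr0 hT0 ((hS v).2 ⟨1, (one_smul F v).symm⟩) hv0).1
    have hout : orb e f y ∉ fam e f b0 := fun hmem => by
      obtain ⟨g, hg, e1⟩ := mem_fam.1 hmem
      have h1 : spVal g *ᵥ v ∈ S e f y := by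
        rw [S_orb P (show y ∈ orb e f (g • b0) by rw [e1]; exact mem_orb_self y), S_smul_gW hg, spVal_inv_mulVec]
        exact (hS v).2 ⟨1, (one_smul F v).symm⟩
      rw [hbot, AddSubgroup.mem_bot] at h1
      exact hv0 (sp_injective g (by simpa using h1))
    have h1 := fam_extra P hF hd D hr0 hb0 {y} (fun z hz => Finset.mem_singleton.1 hz ▸ hyM r0)
      (fun z hz => Finset.mem_singleton.1 hz ▸ hout)
      (fun a ha c hc _ => (Finset.mem_singleton.1 ha).trans (Finset.mem_singleton.1 hc).symm)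
    rw [Finset.sum_singleton, hbot_weight hr0 hbot, hA] at h1
    have hrν : r0 * D.ν ≠ 0 := mul_ne_zero hr0 D.ν_ne
    have h2 := sum_orbits_le P hF hd D hrν {y} (id : Ω → Ω) (fun z hz => Finset.mem_singleton.1 hz ▸ hyM _)
      (fun a ha c hc _ => (Finset.mem_singleton.1 ha).trans (Finset.mem_singleton.1 hc).symm)
    rw [Finset.sum_singleton, id, hbot_weight hrν hbot] at h2
    have h3 := mW_pair (Ω := Ω) P hF D hr0
    have h4 := Nat.mul_le_mul_right (q * q) hf
    nlinarith
  -- it is of the second kind for every character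
  have hyT : ∀ s : F, s ≠ 0 → TypeTwo D e f s 2 y := by
    have h0 : TypeTwo D e f r0 2 y := by
      rcases types P hF hd D hq3 hsmall le_rfl hr0 (hyM r0) with h | h | h
      · exact absurd h hyS
      · exact h
      · exact (no_three P hF hd D hq hsmall hr0 hb0 hT0 (hyM r0) h).elim
    intro s hs
    rcases types P hF hd D hq3 hsmall le_rfl hs (hyM s) with h | h | h
    · exact absurd h hyS
    · exact h
    · exfalso
      obtain ⟨-, hSc, -⟩ := two_facts P hF hd D hq hr0 h0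
      have h1 : Nat.card (perp e f) ≤ Nat.card (S e f y) :=
        Nat.card_le_card_of_injective (fun w : perp e f => (⟨w.1, h.2 _ w.2⟩ : S e f y))
          fun a c hac => Subtype.ext (congrArg Subtype.val hac :)
      rw [card_perp P hF hd, hSc, sq] at h1
      nlinarith
  have hfix_le : ∀ c : F, c ≠ 0 → fixN Ω e c ≤ 2 * q := by
    intro c hc
    have h1 := two_weight P hF hd D hq one_ne_zero (hyM 1) (hyT 1 one_ne_zero)
    have h2 := two_weight P hF hd D hq (mul_ne_zero one_ne_zero D.ν_ne) (hyM (1 * D.ν))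
      (hyT _ (mul_ne_zero one_ne_zero D.ν_ne))
    have h3 := mW_pair (Ω := Ω) P hF D (one_ne_zero : (1 : F) ≠ 0)
    have h4 := fix_pair (Ω := Ω) P hF D hc
    omega
  have hm : ∀ s : F, s ≠ 0 → mW Ω D e s ≤ q ^ 3 + q ^ 2 + 2 * q := by
    intro s hs
    have h2 := two_weight P hF hd D hq (mul_ne_zero hs D.ν_ne) (hyM (s * D.ν)) (hyT _ (mul_ne_zero hs D.ν_ne))
    have h3 := mW_pair (Ω := Ω) P hF D hs
    omega
  -- all orbits lie in one family
  have hall : ∀ s : F, s ≠ 0 → ∀ x ∈ M D e s, orb e f x ∈ fam e f y ∧ TypeTwo D e f s 2 x := by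
    intro s hs x hx
    have hT : TypeTwo D e f s 2 x ∨ S e f x = ⊥ := by
      rcases types P hF hd D hq3 hsmall le_rfl hs hx with h | h | h
      · exact Or.inr h
      · exact Or.inl h
      · exact (no_three P hF hd D hq hsmall hs (hyM s) (hyT s hs) hx h).elim
    have hAx : q ≤ Nat.card (A D e f s x) := by
      rcases hT with h | h
      · rw [(two_facts P hF hd D hq hs h).1]
      · rw [hbot_weight hs h]; nlinarith
    obtain ⟨hA, -, -⟩ := two_facts P hF hd D hq hs (hyT s hs)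
    obtain ⟨-, v, hv, hv0, hS, -⟩ := id (hyT s hs)
    have hf := (fam_count P hF hd D hq hs (hyT s hs) ((hS v).2 ⟨1, (one_smul F v).symm⟩) hv0).1
    have hmem : orb e f x ∈ fam e f y := by
      by_contra hout
      have h1 := fam_extra P hF hd D hs (hyM s) {x} (fun z hz => Finset.mem_singleton.1 hz ▸ hx)
        (fun z hz => Finset.mem_singleton.1 hz ▸ hout)
        (fun a ha c hc _ => (Finset.mem_singleton.1 ha).trans (Finset.mem_singleton.1 hc).symm)
      rw [Finset.sum_singleton, hA] at h1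
      have h4 := Nat.mul_le_mul_right (q * q) hf
      have h5 := Nat.mul_le_mul_left q hAx
      have := hm s hs
      nlinarith
    refine ⟨hmem, hT.resolve_right fun h => ?_⟩
    obtain ⟨g, hg, e1⟩ := mem_fam.1 hmem
    have h1 : spVal g *ᵥ v ∈ S e f x := by
      rw [S_orb P (show x ∈ orb e f (g • y) by rw [e1]; exact mem_orb_self x), S_smul_gW hg, spVal_inv_mulVec]
      exact (hS v).2 ⟨1, (one_smul F v).symm⟩
    rw [h, AddSubgroup.mem_bot] at h1
    exact hv0 (sp_injective g (by simpa using h1))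
  obtain ⟨hA1, hS1, horb1⟩ := two_facts P hF hd D hq (one_ne_zero : (1 : F) ≠ 0) (hyT 1 one_ne_zero)
  obtain ⟨-, v, hv, hv0, hSv, -⟩ := id (hyT 1 one_ne_zero)
  have hvS : v ∈ S e f y := (hSv v).2 ⟨1, (one_smul F v).symm⟩
  obtain ⟨hfam1, hfam⟩ := fam_count P hF hd D hq (one_ne_zero : (1 : F) ≠ 0) (hyT 1 one_ne_zero) hvS hv0
  have hlam : ((fam e f y).filter fun O => ∀ x ∈ O, v ∈ S e f x).card = 1 ∧ (fam e f y).card = q + 1 := by
    have h1 := fam_extra P hF hd D one_ne_zero (hyM 1) ∅ (by simp) (by simp) (by simp)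
    rw [Finset.sum_empty, add_zero, hA1] at h1
    have := hm 1 one_ne_zero
    have h2 : ((fam e f y).filter fun O => ∀ x ∈ O, v ∈ S e f x).card < 2 := by
      by_contra hlt
      have h3 := Nat.mul_le_mul_right (q * q) (Nat.mul_le_mul_right (q + 1) (Nat.not_lt.1 hlt))
      rw [← hfam] at h3
      nlinarith
    have h4 : ((fam e f y).filter fun O => ∀ x ∈ O, v ∈ S e f x).card = 1 := by
      rcases Nat.eq_zero_or_pos ((fam e f y).filter fun O => ∀ x ∈ O, v ∈ S e f x).card with h0 | h0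
      · rw [h0, zero_mul] at hfam; omega
      · omega
    exact ⟨h4, by rw [hfam, h4, one_mul]⟩
  have horbcard : ∀ O ∈ fam e f y, O.card = q ^ 2 := by
    intro O hO
    obtain ⟨g, hg, rfl⟩ := mem_fam.1 hO
    rw [← orb_smul hg, Finset.card_image_of_injective _ (MulAction.injective g)]
    rw [hy, AddSubgroup.card_bot, mul_one] at horb1
    exact horb1
  have hfamcard : ((fam e f y).biUnion id).card = q ^ 3 + q ^ 2 := by
    rw [Finset.card_biUnion ?_, Finset.sum_congr rfl (fun O hO => show (id O).card = q ^ 2 from horbcard O hO),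
      Finset.sum_const, smul_eq_mul, hlam.2]
    · ring
    · intro O hO O' hO' hne
      obtain ⟨g, -, rfl⟩ := mem_fam.1 hO
      obtain ⟨g', -, rfl⟩ := mem_fam.1 hO'
      exact Finset.disjoint_left.2 fun z hz hz' => hne (by rw [← orb_eq hz, ← orb_eq hz'])
  -- the central stabilisers are trivial or everything
  have hCx : ∀ x : Ω, (∃ c, c ∉ C e x) → C e x = ⊥ ∧ x ∈ (fam e f y).biUnion id := by
    intro x hx
    obtain ⟨s, hs, hxM⟩ := exists_M_of_C_ne D hx
    have hmem := (hall s hs x hxM).1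
    obtain ⟨g, hg, e1⟩ := mem_fam.1 hmem
    refine ⟨?_, Finset.mem_biUnion.2 ⟨_, hmem, mem_orb_self x⟩⟩
    rw [C_orb P (show x ∈ orb e f (g • y) by rw [e1]; exact mem_orb_self x), C_smul hg.1, hy]
  have hN' : Fintype.card Ω = fixN Ω e 1 + (q ^ 3 + q ^ 2) := by
    rw [← hfamcard, fixN, Nat.card_eq_fintype_card, Fintype.card_subtype, ← Finset.card_union_of_disjoint,
      ← Finset.card_univ]
    · congr 1
      ext x
      simp only [Finset.mem_univ, true_iff, Finset.mem_union, Finset.mem_filter, true_and]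
      rw [or_iff_not_imp_left]
      exact fun hx => (hCx x ⟨1, hx⟩).2
    · refine Finset.disjoint_left.2 fun x hx hx' => ?_
      obtain ⟨O, hO, hxO⟩ := Finset.mem_biUnion.1 hx'
      obtain ⟨g, hg, rfl⟩ := mem_fam.1 hO
      have h1 : (1 : F) ∈ C e x := mem_C.2 (Finset.mem_filter.1 hx).2
      rw [C_orb P hxO, C_smul hg.1, hy, AddSubgroup.mem_bot] at h1
      exact one_ne_zero h1
  -- count the fixing vectors
  have hfix0 : fixN Ω e 1 = 0 := by
    have hne : ∀ x : Ω, (univ.filter fun w : V => w ≠ 0 ∧ sympTv w (1 : F) • x = x).card =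
        (univ.filter fun w : V => w ≠ 0 ∧ sympTv w (1 : F) • y = y).card := by
      intro x
      obtain ⟨g, rfl⟩ := MulAction.exists_smul_eq Sp y x
      refine Finset.card_bij' (fun w _ => spVal g⁻¹ *ᵥ w) (fun w _ => spVal g *ᵥ w) (fun w hw => ?_) (fun w hw => ?_)
        (fun w _ => spVal_mulVec_inv g w) (fun w _ => spVal_inv_mulVec g w)
      · obtain ⟨hw0, hw1⟩ := (Finset.mem_filter.1 hw).2
        refine Finset.mem_filter.2 ⟨Finset.mem_univ _, fun e0 => hw0 ?_, ?_⟩
        · rw [← spVal_mulVec_inv g w, e0, Matrix.mulVec_zero]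
        · rw [← sympTv_conj, inv_inv, mul_smul, mul_smul, hw1, inv_smul_smul]
      · obtain ⟨hw0, hw1⟩ := (Finset.mem_filter.1 hw).2
        refine Finset.mem_filter.2 ⟨Finset.mem_univ _, fun e0 => hw0 ?_, ?_⟩
        · rw [← spVal_inv_mulVec g w, e0, Matrix.mulVec_zero]
        · rw [← sympTv_conj, mul_smul, mul_smul, inv_smul_smul, hw1]
    set R := (univ.filter fun w : V => w ≠ 0 ∧ sympTv w (1 : F) • y = y).card
    have hRN : Fintype.card Ω * R = (q ^ 4 - 1) * fixN Ω e 1 := by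
      rw [← Finset.card_univ, ← smul_eq_mul, ← Finset.sum_const, ← Finset.sum_congr rfl (fun x _ => hne x)]
      have hV : (univ.filter fun w : V => w ≠ 0).card = q ^ 4 - 1 := by
        rw [Finset.filter_ne', Finset.card_erase_of_mem (Finset.mem_univ _), Finset.card_univ, Fintype.card_fun, hF,
          Fintype.card_sum, Fintype.card_fin, ← two_mul, hd]
      have hrhs : ∑ w ∈ univ.filter (fun w : V => w ≠ 0), fixN Ω w 1 = (q ^ 4 - 1) * fixN Ω e 1 := by
        rw [Finset.sum_congr rfl (fun w hw => fixN_vec P hF (Finset.mem_filter.1 hw).2 1), Finset.sum_const,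
          smul_eq_mul, hV]
      rw [← hrhs]
      simp only [fixN, Nat.card_eq_fintype_card, Fintype.card_subtype, Finset.card_eq_sum_ones, Finset.sum_filter]
      rw [Finset.sum_comm]
      refine Finset.sum_congr rfl fun w _ => ?_
      by_cases hw : w = 0 <;> simp [hw]
    have hle : fixN Ω e 1 ≤ q := by omega
    by_contra hne0
    obtain ⟨t, ht⟩ : ∃ t, fixN Ω e 1 = t + 1 := ⟨fixN Ω e 1 - 1, by omega⟩
    obtain ⟨a, ha⟩ : ∃ a, q = a + 1 := ⟨q - 1, by omega⟩
    obtain ⟨i, hi⟩ : ∃ i, q = t + 1 + i := ⟨q - (t + 1), by omega⟩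
    rw [hN', ht, show q ^ 4 - 1 = (q ^ 3 + q ^ 2 + q + 1) * a by
      rw [ha, show (a + 1) ^ 4 = ((a + 1) ^ 3 + (a + 1) ^ 2 + (a + 1) + 1) * a + 1 by ring, Nat.add_sub_cancel]]
      at hRN
    have hb : a * (t + 1) < R := by
      by_contra hlt
      have h1 := Nat.mul_le_mul_left (t + 1 + (q ^ 3 + q ^ 2)) (Nat.not_lt.1 hlt)
      rw [hRN] at h1
      have : 0 < a * (t + 1) := Nat.mul_pos (by omega) (by omega)
      nlinarith
    have h1 := Nat.mul_le_mul_left (t + 1 + (q ^ 3 + q ^ 2)) hb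
    rw [hRN] at h1
    have h2 : a * (t + 1) * (i + 1) ≤ q * q * q :=
      Nat.mul_le_mul (Nat.mul_le_mul (by omega) (by omega)) (by omega)
    rw [show q ^ 3 + q ^ 2 + q + 1 = (t + 1 + (q ^ 3 + q ^ 2)) + (i + 1) by omega] at h1
    nlinarith
  have hCall : ∀ (w : V) (x : Ω), w ≠ 0 → ∀ c : F, c ≠ 0 → c ∉ C w x := by
    intro w x hw c hc hcx
    obtain ⟨g, hg⟩ := symp_pretransitive hw (ne_zero P)
    rw [← C_conj g w x, hg] at hcx
    by_cases h1 : ∃ k, k ∉ C e (g • x)
    · rw [(hCx _ h1).1, AddSubgroup.mem_bot] at hcx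
      exact hc hcx
    · push Not at h1
      rw [fixN, Nat.card_eq_fintype_card, Fintype.card_eq_zero_iff] at hfix0
      exact hfix0.elim ⟨g • x, h1 1⟩
  have hfree : ∀ x : Ω, C e x = ⊥ := fun x => (AddSubgroup.eq_bot_iff_forall _).2 fun c hc => by
    by_contra hc0
    exact hCall e x (ne_zero P) c hc0 hc
  have hxM : ∀ x : Ω, x ∈ M D e 1 := fun x => mem_M.2 fun c hc => by
    rw [hfree, AddSubgroup.mem_bot] at hc
    rw [hc, mul_zero, AddChar.map_zero_eq_one]
  have huniq : ∀ x : Ω, v ∈ S e f x → orb e f x = orb e f y := by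
    intro x hx
    refine Finset.card_le_one.1 hlam.1.le _ (Finset.mem_filter.2 ⟨(hall 1 one_ne_zero x (hxM x)).1, fun z hz => ?_⟩)
      _ (Finset.mem_filter.2 ⟨mem_fam.2 ⟨1, one_mem _, by rw [one_smul]⟩, fun z hz => ?_⟩)
    · rw [S_orb P hz]; exact hx
    · rw [S_orb P hz]; exact hvS
  obtain ⟨a, ha0, ha2⟩ : ∃ a : F, a ≠ 0 ∧ a ^ 2 - 1 ≠ 0 := by
    by_contra hcon
    push Not at hcon
    have h1 : Fintype.card F ≤ ({0, 1, -1} : Finset F).card := Finset.card_le_card fun a _ => by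
      simp only [Finset.mem_insert, Finset.mem_singleton]
      rcases eq_or_ne a 0 with h0 | h0
      · exact Or.inl h0
      · exact Or.inr (mul_self_eq_one_iff.1 (by linear_combination hcon a h0))
    have h3 : ({0, 1, -1} : Finset F).card ≤ 3 := Finset.card_le_three
    omega
  have ha1 : a - 1 ≠ 0 := fun e1 => ha2 (by rw [sub_eq_zero.1 e1]; ring)
  obtain ⟨h, he, hf, hw⟩ := exists_scale P (a := a) (s := (1 : F)) ha0 (one_mul _)
  have hw' : ∀ w ∈ perp e f, spVal h *ᵥ w = w := fun w hwW => by rw [hw w hwW, one_smul]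
  have hconj : ∀ (w : V), w ∈ perp e f → ∀ (k : F) (x : Ω),
      h • eEl e w k • x = eEl e (a • w) (a ^ 2 * k) • h • x := by
    intro w hwW k x
    have h1 : h * eEl e w k * h⁻¹ = eEl e (a • w) (a ^ 2 * k) := by
      rw [eEl_conj, he, hw' w hwW, eEl_smul hwW.1]
    rw [← mul_smul, ← mul_smul, ← h1, inv_mul_cancel_right]
  have hvh : v ∈ S e f (h • y) := by
    have h1 : a⁻¹ • v ∈ S e f y := (hSv _).2 ⟨a⁻¹, rfl⟩
    obtain ⟨h1W, k, hk⟩ := h1
    refine ⟨hv, a ^ 2 * k, ?_⟩
    have h2 := hconj _ h1W k y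
    rw [hk, smul_inv_smul₀ ha0] at h2
    exact h2.symm
  obtain ⟨_, ⟨w0, hw0, k0, rfl⟩, e0⟩ := mem_orb.1 (orb_eq_iff.1 (huniq _ hvh))
  set x0 := (-(a - 1)⁻¹) • w0 with hx0def
  set l := -(a ^ 2 - 1)⁻¹ * k0 with hldef
  have hx0 : x0 ∈ perp e f := Submodule.smul_mem _ _ hw0
  set b' := eEl e x0 l • y with hb'def
  have hb'orb : b' ∈ orb e f y := mem_orb.2 ⟨_, eEl_mem hx0 l, rfl⟩
  have hfix : h • b' = b' := by
    rw [hb'def, hconj x0 hx0, ← e0, ← mul_smul, eEl_mul (Submodule.smul_mem _ _ hx0).1 hw0.1]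
    congr 2
    · have hw0' : w0 = (1 - a) • x0 := by
        rw [hx0def, smul_smul, show (1 - a) * -(a - 1)⁻¹ = (a - 1) * (a - 1)⁻¹ by ring, mul_inv_cancel₀ ha1,
          one_smul]
      rw [hw0']
      module
    · rw [hx0def, smul_smul, sympForm_smul_right, sympForm_self, mul_zero, add_zero, hldef]
      linear_combination -k0 * mul_inv_cancel₀ ha2
  have hone : sympTv v (1 : F) • b' = b' := by
    have hvt : v ∈ S e f (sympTv v (1 : F) • b') := by
      rw [S_smul_gW (tv_mem_gW hv 1), sympTv_inv, tv_apply, sympForm_self, mul_zero, zero_smul, add_zero,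
        S_orb P hb'orb]
      exact hvS
    have hmem : sympTv v (1 : F) • b' ∈ orb e f b' := by
      rw [← orb_eq_iff, huniq _ hvt, orb_eq hb'orb]
    have h1 : h • sympTv v (1 : F) • b' = sympTv v (1 : F) • b' := by
      have h2 := sympTv_conj h v (1 : F)
      rw [show spVal h *ᵥ v = v from hw' v hv] at h2
      rw [← mul_smul, mul_inv_eq_iff_eq_mul.1 h2, mul_smul, hfix]
    obtain ⟨_, ⟨w, hwW, k, rfl⟩, e1⟩ := mem_orb.1 hmem
    rw [← e1, hconj w hwW, hfix, eq_comm, ← inv_smul_eq_iff, ← mul_smul, eEl_inv (Submodule.smul_mem _ _ hwW).1,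
      eEl_mul (Submodule.neg_mem _ (Submodule.smul_mem _ _ hwW)).1 hwW.1] at h1
    have hwS : -(a • w) + w ∈ S e f b' :=
      ⟨Submodule.add_mem _ (Submodule.neg_mem _ (Submodule.smul_mem _ _ hwW)) hwW, _, h1⟩
    rw [S_orb P hb'orb, hSv] at hwS
    obtain ⟨l0, hll⟩ := hwS
    have hwv : w ∈ S e f b' := by
      rw [S_orb P hb'orb, hSv]
      refine ⟨(1 - a)⁻¹ * l0, ?_⟩
      rw [mul_smul, ← hll, show -(a • w) + w = (1 - a) • w by module, inv_smul_smul₀ (fun e2 => ha1 (by
        linear_combination -e2))]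
    obtain ⟨-, kk, hkk⟩ := hwv
    have e2 : eEl e w k • b' = sympTv e (k - kk) • b' := by
      have h5 : eEl e w k = sympTv e (k - kk) * eEl e w kk := by
        rw [← eEl_zero, eEl_mul (sympForm_zero_left _) hwW.1, zero_add, sympForm_zero_right, add_zero, sub_add_cancel]
      rw [h5, mul_smul, hkk]
    rw [← e1, e2]
    have h6 : h • sympTv e (k - kk) • b' = sympTv e (k - kk) • b' := by
      rw [← e2, e1]
      have h2 := sympTv_conj h v (1 : F)
      rw [show spVal h *ᵥ v = v from hw' v hv] at h2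
      rw [← mul_smul, mul_inv_eq_iff_eq_mul.1 h2, mul_smul, hfix]
    rw [← eEl_zero, hconj 0 (Submodule.zero_mem _), smul_zero, hfix, eEl_zero, eEl_zero, eq_comm,
      ← inv_smul_eq_iff, sympTv_inv, ← mul_smul, sympTv_mul, ← mem_C, hfree, AddSubgroup.mem_bot] at h6
    rw [show k - kk = 0 from (mul_eq_zero.1 (show (a ^ 2 - 1) * (k - kk) = 0 by linear_combination -h6)).resolve_left
      ha2, sympTv_zero, one_smul]
  exact hCall v b' hv0 1 one_ne_zero (mem_C.2 hone)

end Cfsg.Agent.Lie.MinIndexSp
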