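import Cfsg.Agent.Lib.Lie.MinIndexSpFew

/-!
The orbits of a Heisenberg group in a small action of a symplectic group are of three kinds.
-/

set_option autoImplicit false
set_option linter.unusedSectionVars false
set_option maxHeartbeats 1000000

namespace Cfsg.Agent.Lie.MinIndexSp

open Matrix Finset MulAction Cfsg Cfsg.Agent.Classical

universe u

attribute [local instance 10] _root_.Classical.propDecidable

variable {F : Type*} [Field F] [Fintype F] {m : ℕ}

local notation "V" => (Fin m ⊕ Fin m → F)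
local notation "B" => sympForm m F
set_option quotPrecheck false in
local notation "Sp" => Matrix.symplecticGroup (Fin m) F

/-- Fewer points than the projective space. -/
def Small (q d : ℕ) (Ω : Type u) [Fintype Ω] : Prop := Fintype.card Ω * (q - 1) + q ≤ q ^ (d + 2)

variable {Ω : Type u} [MulAction (Matrix.symplecticGroup (Fin m) F) Ω] [Fintype Ω]
variable {e f : Fin m ⊕ Fin m → F} (P : sympForm m F e f = 1) {q d : ℕ} (hF : Fintype.card F = q)
  (hd : 2 * m = d + 2) (D : Chr F)

/-- An orbit with lines for coordinates and annihilators. -/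
def TypeTwo (D : Chr F) (e f : Fin m ⊕ Fin m → F) (r : F) (d : ℕ) (b : Ω) : Prop :=
  d = 2 ∧ ∃ v ∈ perp e f, v ≠ 0 ∧ (∀ w, w ∈ S e f b ↔ ∃ l : F, w = l • v) ∧
    ∀ w, w ∈ A D e f r b ↔ ∃ l : F, w = l • v

omit [Fintype Ω] in
/-- An orbit with the whole space for coordinates, in characteristic two. -/
def TypeThree (e f : Fin m ⊕ Fin m → F) (b : Ω) : Prop :=
  (2 : F) = 0 ∧ ∀ w ∈ perp e f, w ∈ S e f b

section Char2

omit [Fintype Ω] in
theorem heis_comm (h2 : (2 : F) = 0) {w w' : V} (hw : B w e = 0) (hw' : B w' e = 0) (k k' : F) :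
    eEl e w k * eEl e w' k' = eEl e w' k' * eEl e w k := by
  rw [eEl_mul hw hw', eEl_mul hw' hw, add_comm w', sympForm_swap w w']
  congr 1
  linear_combination (B w' w) * h2

include P

omit [Fintype Ω] in
/-- A transvection preserving an orbit fixes these elements. -/
theorem shift_fix (h2 : (2 : F) = 0) {b : Ω} {u : V} (hu : u ∈ perp e f) {c : F}
    {y : Sp} (hy : y ∈ heis e f) (hb : sympTv u c • b = y • b) {s : V} (hs : s ∈ S e f b) :
    eEl e ((c * B s u) • u) (c * B s u ^ 2) • b = b := by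
  obtain ⟨hsW, k, hk⟩ := hs
  obtain ⟨w, hw, l, rfl⟩ := hy
  have hg := tv_mem_gW hu c
  have hts : spVal (sympTv u c) *ᵥ s = s + (c * B s u) • u := tv_apply u c s
  have htW : s + (c * B s u) • u ∈ perp e f := hts ▸ gW_mem_perp hg hsW
  have h1 : (sympTv u c * eEl e s k * (sympTv u c)⁻¹) • sympTv u c • b = sympTv u c • b := by
    rw [mul_smul, mul_smul, inv_smul_smul, hk]
  rw [gW_conj_heis hg, hts, hb, smul_smul, heis_comm h2 htW.1 hw.1, mul_smul, smul_left_cancel_iff] at h1
  have h3 : eEl e (s + (c * B s u) • u) k * eEl e s k = eEl e ((c * B s u) • u) (c * B s u ^ 2) := by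
    rw [eEl_mul htW.1 hsW.1, sympForm_add_right, sympForm_self, sympForm_smul_right]
    congr 1
    · have : s + s = 0 := by rw [← two_smul F, h2, zero_smul]
      rw [add_right_comm, this, zero_add]
    · linear_combination k * h2
  rw [← h3, mul_smul, hk, h1]

end Char2

include P hF hd

theorem card_vperp {v : V} (hv : v ∈ perp e f) (hv0 : v ≠ 0) :
    Nat.card {y : perp e f // B v (y : V) = 0} * q = q ^ d := by
  obtain ⟨v', hv', h1⟩ := perp_nondeg P v hv hv0
  rw [← card_perp P hF hd, ← hF, ← Nat.card_eq_fintype_card, ← Nat.card_prod]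
  exact Nat.card_congr
    { toFun := fun p => ⟨(p.1.1 : V) + p.2 • v', Submodule.add_mem _ p.1.1.2 (Submodule.smul_mem _ _ hv')⟩
      invFun := fun y => (⟨⟨(y : V) - B v (y : V) • v', Submodule.sub_mem _ y.2 (Submodule.smul_mem _ _ hv')⟩, by
          rw [sympForm_sub_right, sympForm_smul_right, h1, mul_one, sub_self]⟩, B v (y : V))
      left_inv := fun p => by
        have e1 : B v ((p.1.1 : V) + p.2 • v') = p.2 := by
          rw [sympForm_add_right, sympForm_smul_right, h1, mul_one, p.1.2, zero_add]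
        refine Prod.ext (Subtype.ext (Subtype.ext ?_)) e1
        show (p.1.1 : V) + p.2 • v' - B v ((p.1.1 : V) + p.2 • v') • v' = _
        rw [e1, add_sub_cancel_right]
      right_inv := fun y => Subtype.ext (sub_add_cancel _ _) }

theorem le_perp_card {T : AddSubgroup V} (hT : ∀ w ∈ T, w ∈ perp e f) : Nat.card T ≤ q ^ d := by
  rw [← card_perp P hF hd]
  exact Nat.card_le_card_of_injective (fun w => ⟨w.1, hT _ w.2⟩) fun a c hac =>
    Subtype.ext (congrArg Subtype.val hac :)

omit hd

/-- The orbits of the images of a point under the elements fixing the pair. -/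
theorem family_closed (b : Ω) {g : Sp} (hg : g ∈ gW e f) {O : Finset Ω}
    (hO : ∃ g' ∈ gW e f, orb e f (g' • b) = O) : ∃ g' ∈ gW e f, orb e f (g' • b) = O.image (g • ·) := by
  obtain ⟨g', hg', rfl⟩ := hO
  exact ⟨g * g', mul_mem hg hg', by rw [orb_smul hg, mul_smul]⟩

include hd

/-- Double counting of vectors and orbits of a family. -/
theorem double_count (T : Ω → AddSubgroup V) (hle : ∀ b, ∀ w ∈ T b, w ∈ perp e f)
    (hgW : ∀ g ∈ gW e f, ∀ b w, w ∈ T (g • b) ↔ spVal g⁻¹ *ᵥ w ∈ T b)
    (horb : ∀ b, ∀ x ∈ orb e f b, T x = T b) (b : Ω) {v : V} (hv : v ∈ perp e f) (hv0 : v ≠ 0) :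
    (univ.filter fun O : Finset Ω => ∃ g ∈ gW e f, orb e f (g • b) = O).card * (Nat.card (T b) - 1) =
      ((univ.filter fun O : Finset Ω => ∃ g ∈ gW e f, orb e f (g • b) = O).filter
        fun O => ∀ x ∈ O, v ∈ T x).card * (q ^ d - 1) := by
  classical
  set F0 := univ.filter fun O : Finset Ω => ∃ g ∈ gW e f, orb e f (g • b) = O with hF0
  let W0 : Finset (perp e f) := univ.filter fun w => w ≠ 0
  have hW0 : W0.card = q ^ d - 1 := by
    rw [← card_perp P hF hd, Nat.card_eq_fintype_card]
    simp [W0, Finset.filter_ne']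
  have hrow : ∀ O ∈ F0, (W0.filter fun w : perp e f => ∀ x ∈ O, (w : V) ∈ T x).card = Nat.card (T b) - 1 := by
    intro O hO
    obtain ⟨g, hg, rfl⟩ := (Finset.mem_filter.1 hO).2
    have hiff : ∀ w : V, (∀ x ∈ orb e f (g • b), w ∈ T x) ↔ spVal g⁻¹ *ᵥ w ∈ T b := fun w => by
      rw [← hgW g hg]
      exact ⟨fun h => h _ (mem_orb_self _), fun h x hx => by rwa [horb _ x hx]⟩
    have h1 : Nat.card (T b) - 1 = ((univ : Finset (T b)).filter fun w => w ≠ 0).card := by
      rw [Nat.card_eq_fintype_card]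
      simp [Finset.filter_ne']
    rw [h1]
    refine Finset.card_bij' (fun w hw => ⟨spVal g⁻¹ *ᵥ (w : V), (hiff _).1 (Finset.mem_filter.1 hw).2⟩)
      (fun w _ => ⟨spVal g *ᵥ (w : V), gW_mem_perp hg (hle _ _ w.2)⟩) (fun w hw => ?_) (fun w hw => ?_)
      (fun w _ => Subtype.ext (spVal_mulVec_inv g _)) (fun w _ => Subtype.ext (spVal_inv_mulVec g _))
    · refine Finset.mem_filter.2 ⟨Finset.mem_univ _, fun e0 => ?_⟩
      have e1 : spVal g⁻¹ *ᵥ (w : V) = 0 := congrArg Subtype.val e0
      refine (Finset.mem_filter.1 (Finset.mem_filter.1 hw).1).2 (Subtype.ext ?_)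
      rw [← spVal_mulVec_inv g (w : V), e1, Matrix.mulVec_zero]
      rfl
    · refine Finset.mem_filter.2 ⟨Finset.mem_filter.2 ⟨Finset.mem_univ _, fun e0 => ?_⟩, (hiff _).2 ?_⟩
      · have e1 : spVal g *ᵥ (w : V) = 0 := congrArg Subtype.val e0
        refine (Finset.mem_filter.1 hw).2 (Subtype.ext ?_)
        rw [← spVal_inv_mulVec g (w : V), e1, Matrix.mulVec_zero]
        rfl
      · show spVal g⁻¹ *ᵥ (spVal g *ᵥ (w : V)) ∈ T b
        rw [spVal_inv_mulVec]
        exact w.2
  have hcol : ∀ w ∈ W0, (F0.filter fun O => ∀ x ∈ O, (w : V) ∈ T x).card =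
      (F0.filter fun O => ∀ x ∈ O, v ∈ T x).card := by
    intro w hw
    obtain ⟨g, hg, e1⟩ := gW_transitive P hv hv0 w.2 fun e0 => (Finset.mem_filter.1 hw).2 (Subtype.ext e0)
    refine (Finset.card_bij' (fun O _ => O.image (g • ·)) (fun O _ => O.image (g⁻¹ • ·)) (fun O hO => ?_)
      (fun O hO => ?_) (fun O _ => ?_) (fun O _ => ?_)).symm
    · obtain ⟨hO1, hO2⟩ := Finset.mem_filter.1 hO
      refine Finset.mem_filter.2 ⟨Finset.mem_filter.2 ⟨Finset.mem_univ _,
        family_closed P hF b hg (Finset.mem_filter.1 hO1).2⟩, fun x hx => ?_⟩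
      obtain ⟨y, hy, rfl⟩ := Finset.mem_image.1 hx
      rw [hgW g hg, ← e1, spVal_inv_mulVec]
      exact hO2 y hy
    · obtain ⟨hO1, hO2⟩ := Finset.mem_filter.1 hO
      refine Finset.mem_filter.2 ⟨Finset.mem_filter.2 ⟨Finset.mem_univ _,
        family_closed P hF b (inv_mem hg) (Finset.mem_filter.1 hO1).2⟩, fun x hx => ?_⟩
      obtain ⟨y, hy, rfl⟩ := Finset.mem_image.1 hx
      rw [hgW g⁻¹ (inv_mem hg), inv_inv, e1]
      exact hO2 y hy
    · rw [Finset.image_image, show ((g⁻¹ • ·) ∘ (g • ·) : Ω → Ω) = id from funext fun x => inv_smul_smul g x,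
        Finset.image_id]
    · rw [Finset.image_image, show ((g • ·) ∘ (g⁻¹ • ·) : Ω → Ω) = id from funext fun x => smul_inv_smul g x,
        Finset.image_id]
  rw [← hW0, ← smul_eq_mul, ← Finset.sum_const, ← Finset.sum_congr rfl hrow, mul_comm, ← smul_eq_mul,
    ← Finset.sum_const, ← Finset.sum_congr rfl hcol]
  simp only [Finset.card_eq_sum_ones, Finset.sum_filter]
  exact Finset.sum_comm

/-- The weight of a family. -/
theorem family_weight {r : F} (hr : r ≠ 0) {b : Ω} (hb : b ∈ M D e r) :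
    (univ.filter fun O : Finset Ω => ∃ g ∈ gW e f, orb e f (g • b) = O).card *
      (q * Nat.card (A D e f r b)) ≤ mW Ω D e r := by
  classical
  set F0 := univ.filter fun O : Finset Ω => ∃ g ∈ gW e f, orb e f (g • b) = O
  have hex : ∀ O ∈ F0, ∃ x : Ω, orb e f x = O ∧ x ∈ M D e r ∧ Nat.card (A D e f r x) = Nat.card (A D e f r b) := by
    intro O hO
    obtain ⟨g, hg, rfl⟩ := (Finset.mem_filter.1 hO).2
    refine ⟨g • b, rfl, mem_M.2 fun c hc => mem_M.1 hb c (C_smul hg.1 b ▸ hc), Nat.card_congr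
      { toFun := fun w => ⟨_, (A_smul_gW P D r hg b).1 w.2⟩
        invFun := fun w => ⟨spVal g *ᵥ (w : V), (A_smul_gW P D r hg b).2 (by rw [spVal_inv_mulVec]; exact w.2)⟩
        left_inv := fun w => Subtype.ext (spVal_mulVec_inv g _)
        right_inv := fun w => Subtype.ext (spVal_inv_mulVec g _) }⟩
  haveI : Nonempty Ω := ⟨b⟩
  choose! rep hrep hrepM hrepA using hex
  refine le_trans (le_of_eq ?_) (sum_orbits_le P hF hd D hr F0 rep hrepM fun i hi j hj h => by
    rwa [hrep i hi, hrep j hj] at h)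
  rw [Finset.sum_congr rfl (fun O hO => by rw [hrepA O hO]), Finset.sum_const, smul_eq_mul]

variable (hq : 3 ≤ q) (hsmall : Small q d Ω)

include hq hsmall

/-- The bound on a family. -/
theorem family_bound {r : F} (hr : r ≠ 0) {b : Ω} (hb : b ∈ M D e r) :
    (univ.filter fun O : Finset Ω => ∃ g ∈ gW e f, orb e f (g • b) = O).card * Nat.card (A D e f r b) * (q - 1)
      + kap F ≤ kap F * q ^ (d + 1) := by
  have h1 := (family_weight P hF hd D hr hb).trans (mW_le P hF D hr)
  have h2 := hsmall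
  rw [Small] at h2
  refine Nat.le_of_mul_le_mul_left ?_ (show 0 < q by omega)
  calc q * ((univ.filter fun O : Finset Ω => ∃ g ∈ gW e f, orb e f (g • b) = O).card *
        Nat.card (A D e f r b) * (q - 1) + kap F)
      = (univ.filter fun O : Finset Ω => ∃ g ∈ gW e f, orb e f (g • b) = O).card *
        (q * Nat.card (A D e f r b)) * (q - 1) + kap F * q := by ring
    _ ≤ kap F * Fintype.card Ω * (q - 1) + kap F * q := Nat.add_le_add_right (Nat.mul_le_mul_right _ h1) _
    _ = kap F * (Fintype.card Ω * (q - 1) + q) := by ring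
    _ ≤ kap F * q ^ (d + 2) := Nat.mul_le_mul_left _ h2
    _ = _ := by ring

omit hsmall in
theorem char_cases : ((2 : F) = 0 ∧ kap F = 1 ∧ 4 ≤ q ∧ ∃ k, q = 2 ^ k) ∨
    ((2 : F) ≠ 0 ∧ kap F = 2 ∧ Odd q ∧ ∃ p k, p.Prime ∧ 3 ≤ p ∧ q = p ^ k) := by
  obtain ⟨p, hp⟩ := CharP.exists F
  haveI : Fact p.Prime := ⟨CharP.char_is_prime F p⟩
  obtain ⟨⟨k, hk0⟩, hpp, hk⟩ := FiniteField.card F p
  rw [hF] at hk
  rcases eq_or_ne p 2 with rfl | hp2
  · have h2 : (2 : F) = 0 := by exact_mod_cast CharP.cast_eq_zero F 2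
    refine Or.inl ⟨h2, by simp [kap, h2], ?_, k, hk⟩
    rcases Nat.lt_or_ge k 2 with h | h
    · interval_cases k
      simp at hk
      omega
    · rw [hk]
      exact le_trans (by norm_num) (Nat.pow_le_pow_right (by norm_num) h)
  · have h3 : 3 ≤ p := by have := hpp.two_le; omega
    have h2 : (2 : F) ≠ 0 := fun h0 => hp2 (by
      have h1 : ((2 : ℕ) : F) = 0 := by exact_mod_cast h0
      rw [CharP.cast_eq_zero_iff F p] at h1
      exact (Nat.prime_dvd_prime_iff_eq hpp Nat.prime_two).1 h1)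
    exact Or.inr ⟨h2, by simp [kap, h2], hk ▸ (hpp.odd_of_ne_two hp2).pow, p, k, hpp, h3, hk⟩

omit hsmall hq in
theorem S_le_A (h2 : (2 : F) ≠ 0) {r : F} {b : Ω} (hb : b ∈ M D e r) {s : V} (hs : s ∈ S e f b) :
    s ∈ A D e f r b := by
  refine ⟨hs.1, fun s' hs' => ?_⟩
  -- half the vector is a coordinate
  obtain ⟨p, hp⟩ := CharP.exists F
  haveI : Fact p.Prime := ⟨CharP.char_is_prime F p⟩
  have hp2 : p ≠ 2 := fun e0 => h2 (by subst e0; exact_mod_cast CharP.cast_eq_zero F 2)
  obtain ⟨j, hj⟩ : ∃ j, p + 1 = 2 * j := by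
    obtain ⟨i, hi⟩ := (Fact.out : p.Prime).odd_of_ne_two hp2
    exact ⟨i + 1, by omega⟩
  have hjF : (2 : F) * (j : F) = 1 := by
    have := congrArg (Nat.cast : ℕ → F) hj
    push_cast at this
    rw [CharP.cast_eq_zero F p, zero_add] at this
    exact this.symm
  obtain ⟨hjs, k, hk⟩ := (S e f b).nsmul_mem hs j
  obtain ⟨hs'W, k', hk'⟩ := hs'
  have hcc : (2 : F) * B (j • s) s' ∈ C e b := by
    rw [mem_C]
    have e1 : eEl e s' k' * eEl e (j • s) k = sympTv e ((2 : F) * B (j • s) s') * (eEl e (j • s) k * eEl e s' k') := by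
      rw [eEl_mul hs'W.1 hjs.1, eEl_mul hjs.1 hs'W.1, ← eEl_zero,
        eEl_mul (sympForm_zero_left _) (by rw [sympForm_add_left, hjs.1, hs'W.1, add_zero]), zero_add,
        sympForm_zero_right, add_zero, add_comm s', sympForm_swap s' (j • s)]
      congr 1
      ring
    have h3 := congrArg (· • b) e1
    simp only [mul_smul, hk, hk'] at h3
    exact h3.symm
  have h4 := mem_M.1 hb _ hcc
  rw [← Nat.cast_smul_eq_nsmul F j s, sympForm_smul_left, ← mul_assoc (2 : F), hjF, one_mul] at h4
  exact h4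

/-- A transvection with few images of an orbit preserves it. -/
theorem few_stable {b : Ω} {u : V} (hu : u ∈ perp e f) (L : Finset (Finset Ω))
    (hψ : ∀ c : F, orb e f (sympTv u c • b) ∈ L) (hlam : L.card ≤ kap F) (c : F) :
    (orb e f b).image (sympTv u c • ·) = orb e f b := by
  classical
  let ψ : F → Finset Ω := fun c => orb e f (sympTv u c • b)
  have himg : ∀ a, (orb e f b).image (sympTv u a • ·) = ψ a := fun a => orb_smul (tv_mem_gW hu a) b
  let H : AddSubgroup F :=
    { carrier := {a | ψ a = orb e f b}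
      add_mem' := fun {a a'} (ha : ψ a = _) (ha' : ψ a' = _) => by
        show ψ (a + a') = _
        rw [← himg, ← sympTv_mul]
        conv_rhs => rw [← ha, ← himg a]; arg 2; rw [← ha', ← himg a']
        rw [Finset.image_image]
        exact Finset.image_congr fun x _ => mul_smul _ _ x
      zero_mem' := by show orb e f (sympTv u (0 : F) • b) = _; rw [sympTv_zero, one_smul]
      neg_mem' := fun {a} (ha : ψ a = _) => by
        show ψ (-a) = _
        rw [← himg, ← sympTv_inv]
        conv_lhs => rw [← ha, ← himg a]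
        rw [Finset.image_image, show ((((sympTv u a)⁻¹) • ·) ∘ (sympTv u a • ·) : Ω → Ω) = id from
          funext fun x => inv_smul_smul _ x, Finset.image_id] }
  have hidx : H.index ≤ kap F := by
    refine le_trans ?_ hlam
    rw [AddSubgroup.index, ← Nat.card_eq_finsetCard L]
    refine Nat.card_le_card_of_injective (fun x : F ⧸ H => (⟨ψ x.out, hψ _⟩ : L)) fun x y hxy => ?_
    have h1 : ψ x.out = ψ y.out := congrArg Subtype.val hxy
    rw [← QuotientAddGroup.out_eq' x, ← QuotientAddGroup.out_eq' y, QuotientAddGroup.eq]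
    show ψ (-x.out + y.out) = _
    rw [← himg, ← sympTv_mul, ← sympTv_inv, show (((sympTv u x.out)⁻¹ * sympTv u y.out) • · : Ω → Ω) =
      ((sympTv u x.out)⁻¹ • ·) ∘ (sympTv u y.out • ·) from funext fun z => mul_smul _ _ z, ← Finset.image_image,
      himg, ← h1, ← himg, Finset.image_image, show ((((sympTv u x.out)⁻¹) • ·) ∘ (sympTv u x.out • ·) : Ω → Ω) = id
        from funext fun z => inv_smul_smul _ z, Finset.image_id]
  have h1 : H.index = 1 := by
    have hne : H.index ≠ 0 := AddSubgroup.index_ne_zero_of_finite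
    rcases char_cases P hF hd hq with ⟨-, hk, -⟩ | ⟨-, hk, hodd, -⟩
    · omega
    · rw [hk] at hidx
      by_contra hne1
      have h2 : H.index = 2 := by omega
      have h3 := H.index_dvd_card
      rw [h2, Nat.card_eq_fintype_card, hF] at h3
      exact (Nat.not_even_iff_odd.2 hodd) (even_iff_two_dvd.2 h3)
  rw [himg]
  exact (show c ∈ H from AddSubgroup.index_eq_one.1 h1 ▸ AddSubgroup.mem_top c)

/-- The transvections of a vector orthogonal to an annihilated vector preserve the orbit. -/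
theorem orbit_stable {r : F} {b : Ω} {v u : V} (hu : u ∈ perp e f) (hvu : B v u = 0) (hv : v ∈ A D e f r b)
    (hlam : ((univ.filter fun O : Finset Ω => ∃ g ∈ gW e f, orb e f (g • b) = O).filter
      fun O => ∀ x ∈ O, v ∈ A D e f r x).card ≤ kap F) (c : F) :
    (orb e f b).image (sympTv u c • ·) = orb e f b := by
  classical
  refine few_stable P hF hd hq hsmall hu _ (fun c => Finset.mem_filter.2 ⟨Finset.mem_filter.2 ⟨Finset.mem_univ _, _,
    tv_mem_gW hu c, rfl⟩, fun x hx => ?_⟩) hlam c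
  rw [A_orb P D r hx, A_smul_gW P D r (tv_mem_gW hu c), sympTv_inv, tv_apply, hvu, mul_zero, zero_smul, add_zero]
  exact hv

/-- The orbits are of three kinds. -/
theorem types (hd2 : 2 ≤ d) {r : F} (hr : r ≠ 0) {b : Ω} (hb : b ∈ M D e r) :
    S e f b = ⊥ ∨ TypeTwo D e f r d b ∨ TypeThree e f b := by
  classical
  by_cases hS : S e f b = ⊥
  · exact Or.inl hS
  right
  have hAW : ∀ w ∈ A D e f r b, w ∈ perp e f := fun w hw => hw.1
  have hSW : ∀ w ∈ S e f b, w ∈ perp e f := fun w hw => hw.1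
  have hcard := card_A P hF hd D hr b
  by_cases hA : Nat.card (A D e f r b) = 1
  · refine Or.inr ?_
    rw [hA, one_mul] at hcard
    rcases char_cases P hF hd hq with ⟨h2, -⟩ | ⟨h2, -⟩
    · refine ⟨h2, fun w hw => ?_⟩
      obtain ⟨⟨s, hs⟩, e1⟩ := ((Nat.bijective_iff_injective_and_card
        (fun s : S e f b => (⟨(s : V), s.2.1⟩ : perp e f))).2
        ⟨fun a a' haa => Subtype.ext (congrArg Subtype.val haa :), by rw [hcard, card_perp P hF hd]⟩).2 ⟨w, hw⟩
      rwa [show s = w from congrArg Subtype.val e1] at hs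
    · exfalso
      refine hS ((AddSubgroup.eq_bot_iff_forall _).2 fun s hs => ?_)
      haveI := (Nat.card_eq_one_iff_unique.1 hA).1
      exact congrArg Subtype.val (Subsingleton.elim (⟨s, S_le_A P hF hd D h2 hb hs⟩ : A D e f r b) 0)
  left
  set δ := Nat.card (A D e f r b) with hδ
  set σ := Nat.card (S e f b) with hσ
  have hδ2 : 2 ≤ δ := by have : 0 < δ := Nat.card_pos; omega
  have hσ2 : 2 ≤ σ := by
    have h0 : 0 < σ := Nat.card_pos
    by_contra hlt
    exact hS (AddSubgroup.card_eq_one.1 (show Nat.card (S e f b) = 1 by omega))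
  obtain ⟨⟨v, hvA⟩, hv0⟩ : ∃ v : A D e f r b, v ≠ 0 := by
    haveI : Nontrivial (A D e f r b) := Finite.one_lt_card_iff_nontrivial.1 (by omega)
    exact exists_ne 0
  have hv0' : v ≠ 0 := fun e0 => hv0 (Subtype.ext e0)
  set F0 := univ.filter fun O : Finset Ω => ∃ g ∈ gW e f, orb e f (g • b) = O with hF0
  have hF0pos : 1 ≤ F0.card :=
    Finset.card_pos.2 ⟨orb e f b, Finset.mem_filter.2 ⟨Finset.mem_univ _, 1, one_mem _, by rw [one_smul]⟩⟩
  set lam := (F0.filter fun O => ∀ x ∈ O, v ∈ A D e f r x).card with hlamdef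
  have hcA : F0.card * (δ - 1) = lam * (q ^ d - 1) := double_count P hF hd (fun x => A D e f r x)
    (fun x w hw => hw.1) (fun g hg x w => A_smul_gW P D r hg x) (fun x y hy => A_orb P D r hy) b (hAW v hvA) hv0'
  obtain ⟨⟨s0, hs0⟩, hs00⟩ : ∃ s : S e f b, s ≠ 0 := by
    haveI : Nontrivial (S e f b) := Finite.one_lt_card_iff_nontrivial.1 (by omega)
    exact exists_ne 0
  set lamS := (F0.filter fun O => ∀ x ∈ O, s0 ∈ S e f x).card with hlamSdef
  have hcS : F0.card * (σ - 1) = lamS * (q ^ d - 1) := double_count P hF hd (fun x => S e f x)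
    (fun x w hw => hw.1) (fun g hg x w => S_smul_gW hg x) (fun x y hy => S_orb P hy) b (hSW s0 hs0)
    fun e0 => hs00 (Subtype.ext e0)
  have hlamS : 1 ≤ lamS := Finset.card_pos.2 ⟨orb e f b, Finset.mem_filter.2 ⟨Finset.mem_filter.2
    ⟨Finset.mem_univ _, 1, one_mem _, by rw [one_smul]⟩, fun x hx => by
      rw [S_orb P hx]
      exact hs0⟩⟩
  have hqd : q ^ 2 ≤ q ^ d := Nat.pow_le_pow_right (by omega) hd2
  have hq9 : 9 ≤ q ^ 2 := Nat.pow_le_pow_left hq 2
  have hbound : F0.card * δ * (q - 1) + kap F ≤ kap F * q ^ (d + 1) := family_bound P hF hd D hq hsmall hr hb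
  -- the covering of the coordinates
  have hcovS : q ^ d - 1 ≤ F0.card * (σ - 1) := (Nat.le_mul_of_pos_left _ hlamS).trans hcS.ge
  have hpow : ∀ {x : ℕ}, x ∣ q ^ d → ∀ p k, p.Prime → q = p ^ k → ∃ i, x = p ^ i := fun {x} hx p k hp hpk => by
    rw [hpk, ← pow_mul] at hx
    obtain ⟨i, -, hi⟩ := (Nat.dvd_prime_pow hp).1 hx
    exact ⟨i, hi⟩
  have hδd : δ ∣ q ^ d := ⟨σ, hcard.symm⟩
  have hσd : σ ∣ q ^ d := ⟨δ, by rw [← hcard, mul_comm]⟩
  have hlam : lam ≤ kap F ∧ δ ≤ σ ∧ (kap F = 2 → σ ≤ δ) := by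
    rcases char_cases P hF hd hq with ⟨-, hk, hq4, -⟩ | ⟨h2, hk, hodd, p, k, hp, hp3, hpk⟩
    · have hl : lam ≤ 1 := by
        by_contra hl
        have h1 : F0.card * (δ - 1) ≥ 2 * (q ^ d - 1) :=
          (Nat.mul_le_mul_right _ (show 2 ≤ lam by omega)).trans hcA.ge
        rw [hk, pow_succ] at hbound
        have h3 : F0.card * δ = F0.card * (δ - 1) + F0.card := by
          rw [← Nat.mul_succ]; congr 1; omega
        have h4 : (2 * (q ^ d - 1) + 1) * (q - 1) + 1 ≤ q ^ d * q := by
          refine le_trans (Nat.add_le_add_right (Nat.mul_le_mul_right _ ?_) _) (by rwa [one_mul] at hbound)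
          omega
        obtain ⟨a, ha⟩ : ∃ a, q = a + 1 := ⟨q - 1, by omega⟩
        obtain ⟨X, hX⟩ : ∃ X, q ^ d = X + 1 := ⟨q ^ d - 1, by omega⟩
        rw [hX, ha, Nat.add_sub_cancel, Nat.add_sub_cancel] at h4
        have : a + 1 ≤ X := by nlinarith
        nlinarith
      refine ⟨hk.symm ▸ hl, ?_, fun h => absurd h (by omega)⟩
      have h1 : F0.card * (δ - 1) ≤ F0.card * (σ - 1) := by
        rw [hcA]
        exact (Nat.mul_le_mul_right _ hl).trans (by rw [one_mul]; exact hcovS)
      have := Nat.le_of_mul_le_mul_left h1 (by omega)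
      omega
    · obtain ⟨i, hi⟩ := hpow hδd p k hp hpk
      obtain ⟨j, hj⟩ := hpow hσd p k hp hpk
      have hle : σ ≤ δ := Nat.card_le_card_of_injective
        (fun s : S e f b => (⟨(s : V), S_le_A P hF hd D h2 hb s.2⟩ : A D e f r b))
        fun a a' haa => Subtype.ext (congrArg Subtype.val haa :)
      have h3 : 3 ≤ F0.card := by
        by_contra hlt
        have h1 : q ^ d - 1 ≤ 2 * (σ - 1) := hcovS.trans (Nat.mul_le_mul_right _ (by omega))
        have h4 : σ * σ ≤ q ^ d := by rw [← hcard]; exact Nat.mul_le_mul_right _ hle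
        obtain ⟨s, hseq⟩ : ∃ s, σ = s + 1 := ⟨σ - 1, by omega⟩
        rw [hseq] at h4 h1
        have : (s + 1) * (s + 1) = s * s + 2 * s + 1 := by ring
        have : 0 < s * s := Nat.mul_pos (by omega) (by omega)
        omega
      have hl : lam ≤ 2 := by
        by_contra hl
        have h1 : F0.card * (δ - 1) ≥ 3 * (q ^ d - 1) :=
          (Nat.mul_le_mul_right _ (show 3 ≤ lam by omega)).trans hcA.ge
        rw [hk, pow_succ] at hbound
        have h5 : F0.card * δ = F0.card * (δ - 1) + F0.card := by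
          rw [← Nat.mul_succ]; congr 1; omega
        have h4 : 3 * q ^ d * (q - 1) + 2 ≤ 2 * (q ^ d * q) :=
          le_trans (Nat.add_le_add_right (Nat.mul_le_mul_right _ (by omega)) _) hbound
        obtain ⟨a, ha⟩ : ∃ a, q = a + 3 := ⟨q - 3, by omega⟩
        rw [ha, show a + 3 - 1 = a + 2 by omega] at h4
        nlinarith [Nat.zero_le ((a + 3) ^ d * a)]
      refine ⟨hk.symm ▸ hl, ?_, fun _ => hle⟩
      by_contra hlt
      have h1 : F0.card * (δ - 1) ≤ F0.card * (2 * (σ - 1)) := by
        rw [hcA]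
        calc lam * (q ^ d - 1) ≤ 2 * (F0.card * (σ - 1)) := Nat.mul_le_mul hl hcovS
          _ = _ := by ring
      have h2' := Nat.le_of_mul_le_mul_left h1 (by omega)
      have h6 : 3 * σ ≤ δ := by
        rw [hi, hj] at hlt ⊢
        have hji : j < i := (Nat.pow_lt_pow_iff_right hp.one_lt).1 (not_le.1 hlt)
        calc 3 * p ^ j ≤ p * p ^ j := Nat.mul_le_mul_right _ hp3
          _ = p ^ (j + 1) := by rw [pow_succ, mul_comm]
          _ ≤ p ^ i := Nat.pow_le_pow_right hp.pos hji
      omega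
  obtain ⟨hlk, hδσ, hσδ⟩ := hlam
  have hstab : ∀ u ∈ perp e f, B v u = 0 → ∀ c, (orb e f b).image (sympTv u c • ·) = orb e f b :=
    fun u hu hvu c => orbit_stable P hF hd D hq hsmall hu hvu hvA hlk c
  have htA : ∀ u ∈ perp e f, B v u = 0 → ∀ (c : F) {x : V}, x ∈ A D e f r b → x + (c * B x u) • u ∈ A D e f r b := by
    intro u hu hvu c x hx
    have h1 : sympTv u c • b ∈ orb e f b := by
      rw [← hstab u hu hvu c]
      exact Finset.mem_image_of_mem _ (mem_orb_self b)
    rw [← A_orb P D r h1, A_smul_gW P D r (tv_mem_gW hu c), ← tv_apply, spVal_inv_mulVec]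
    exact hx
  have hvW : v ∈ perp e f := hAW v hvA
  have hT := card_vperp P hF hd hvW hv0'
  -- the annihilator lies on the line
  have hline : ∀ x ∈ A D e f r b, ∃ l : F, x = l • v := by
    intro x hx
    by_contra hcon
    push Not at hcon
    obtain ⟨u, hu, hvu, hxu⟩ := exists_perp_ne P hvW hv0' (hAW x hx) hcon
    have hmul : ∀ (u' : V), u' ∈ perp e f → B v u' = 0 → B x u' ≠ 0 → ∀ l : F, l • u' ∈ A D e f r b := by
      intro u' hu' hvu' hxu' l
      have h1 := (A D e f r b).sub_mem (htA u' hu' hvu' (l / B x u') hx) hx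
      rwa [add_sub_cancel_left, div_mul_cancel₀ _ hxu'] at h1
    have hall : ∀ y : {y : perp e f // B v (y : V) = 0}, (y.1 : V) ∈ A D e f r b := by
      rintro ⟨⟨y, hy⟩, hvy⟩
      by_cases hxy : B x y = 0
      · have h1 := (A D e f r b).sub_mem (hmul (u + y) (Submodule.add_mem _ hu hy)
          (by rw [sympForm_add_right, hvu, show B v y = 0 from hvy, add_zero])
          (by rw [sympForm_add_right, hxy, add_zero]; exact hxu) 1) (hmul u hu hvu hxu 1)
        rwa [one_smul, one_smul, add_sub_cancel_left] at h1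
      · simpa using hmul y hy hvy hxy 1
    have h1 : Nat.card {y : perp e f // B v (y : V) = 0} ≤ δ :=
      Nat.card_le_card_of_injective (fun y => (⟨(y.1 : V), hall y⟩ : A D e f r b))
        fun a a' haa => Subtype.ext (Subtype.ext (congrArg Subtype.val haa :))
    have h2 : δ * δ ≤ q ^ d := by rw [← hcard]; exact Nat.mul_le_mul_left _ hδσ
    have hdd : d = 2 := by
      by_contra hne
      have h3 : q ^ d * q ^ d ≤ q ^ d * q ^ 2 := by
        rw [← hT]
        calc Nat.card {y : perp e f // B v (y : V) = 0} * q * (Nat.card {y : perp e f // B v (y : V) = 0} * q)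
            = Nat.card {y : perp e f // B v (y : V) = 0} * Nat.card {y : perp e f // B v (y : V) = 0} * q ^ 2 := by
              ring
          _ ≤ δ * δ * q ^ 2 := Nat.mul_le_mul_right _ (Nat.mul_le_mul h1 h1)
          _ ≤ _ := Nat.mul_le_mul_right _ (by rwa [hT])
      have h4 := (Nat.pow_le_pow_iff_right (by omega : 1 < q)).1 (Nat.le_of_mul_le_mul_left h3 (pow_pos (by omega) d))
      omega
    subst hdd
    have hTq : Nat.card {y : perp e f // B v (y : V) = 0} = q :=
      Nat.eq_of_mul_eq_mul_right (show 0 < q by omega) (by rw [hT, sq])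
    -- the orthogonal space of the vector is its line
    have hxT : B v x ≠ 0 := fun h0 => by
      let ι : F → {y : perp e f // B v (y : V) = 0} := fun l =>
        ⟨⟨l • v, Submodule.smul_mem _ _ hvW⟩, by rw [sympForm_smul_right, sympForm_self, mul_zero]⟩
      have hb := (Nat.bijective_iff_injective_and_card ι).2 ⟨fun a a' haa =>
        smul_left_injective F hv0' (congrArg (fun z => ((z.1 : perp e f) : V)) haa),
        by rw [hTq, Nat.card_eq_fintype_card, hF]⟩
      obtain ⟨l, hl⟩ := hb.2 ⟨⟨x, hAW x hx⟩, h0⟩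
      exact hcon l (congrArg (fun z => ((z.1 : perp e f) : V)) hl).symm
    have h5 : q + 1 ≤ δ := by
      rw [← hTq, ← Finite.card_option]
      refine Nat.card_le_card_of_injective (fun o : Option {y : perp e f // B v (y : V) = 0} =>
        (o.elim ⟨x, hx⟩ fun y => ⟨(y.1 : V), hall y⟩ : A D e f r b)) ?_
      rintro (_ | a) (_ | a') haa
      · rfl
      · exact absurd (show B v x = 0 by rw [show x = (a'.1 : V) from congrArg Subtype.val haa]; exact a'.2) hxT
      · exact absurd (show B v x = 0 by rw [show x = (a.1 : V) from (congrArg Subtype.val haa).symm]; exact a.2) hxT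
      · exact congrArg some (Subtype.ext (Subtype.ext (congrArg Subtype.val haa :)))
    nlinarith
  have hδq : δ ≤ q := by
    rw [← hF, ← Nat.card_eq_fintype_card]
    refine Nat.card_le_card_of_injective (fun x : A D e f r b => (hline x x.2).choose) fun a a' haa => Subtype.ext ?_
    rw [(hline a a.2).choose_spec, (hline a' a'.2).choose_spec, show (hline a a.2).choose = _ from haa]
  have hδeq : δ = q := by
    rcases char_cases P hF hd hq with ⟨-, hk, hq4, k, hpk⟩ | ⟨-, hk, -⟩
    · rw [hk] at hlk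
      have hl1 : 1 ≤ lam := Finset.card_pos.2 ⟨orb e f b, Finset.mem_filter.2 ⟨Finset.mem_filter.2
        ⟨Finset.mem_univ _, 1, one_mem _, by rw [one_smul]⟩, fun x hx => by rw [A_orb P D r hx]; exact hvA⟩⟩
      obtain ⟨i, hi⟩ := hpow hδd 2 k Nat.prime_two hpk
      rcases Nat.lt_or_ge δ q with hlt | hge
      swap
      · omega
      exfalso
      have h2 : 2 * δ ≤ q := by
        rw [hi, hpk] at hlt ⊢
        calc 2 * 2 ^ i = 2 ^ (i + 1) := by ring
          _ ≤ 2 ^ k := Nat.pow_le_pow_right (by norm_num) ((Nat.pow_lt_pow_iff_right (by norm_num)).1 hlt)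
      rw [show lam = 1 by omega, one_mul] at hcA
      rw [hk, one_mul, pow_succ] at hbound
      obtain ⟨D1, hD1⟩ : ∃ D1, δ = D1 + 1 := ⟨δ - 1, by omega⟩
      obtain ⟨a, ha⟩ : ∃ a, q = a + 1 := ⟨q - 1, by omega⟩
      obtain ⟨X, hX⟩ : ∃ X, q ^ d = X + 1 := ⟨q ^ d - 1, by omega⟩
      have haX : a + 1 ≤ X := by nlinarith
      rw [hD1, Nat.add_sub_cancel, hX, Nat.add_sub_cancel] at hcA
      rw [hD1, hX, ha, Nat.add_sub_cancel] at hbound
      have h3 : D1 * (F0.card * (D1 + 1) * a + 1) ≤ D1 * ((X + 1) * (a + 1)) := Nat.mul_le_mul_left _ hbound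
      nlinarith
    · have := hσδ hk
      rw [show σ = δ by omega] at hcard
      by_contra hne
      have : δ * δ < q * q := Nat.mul_self_lt_mul_self_iff.2 (by omega)
      rw [← sq q] at this
      omega
  have hAline : ∀ w, w ∈ A D e f r b ↔ ∃ l : F, w = l • v := by
    intro w
    refine ⟨hline w, ?_⟩
    rintro ⟨l, rfl⟩
    obtain ⟨⟨x, hx⟩, hxl⟩ := ((Nat.bijective_iff_injective_and_card
      (fun x : A D e f r b => (hline x x.2).choose)).2 ⟨fun a a' haa => Subtype.ext (by
        rw [(hline a a.2).choose_spec, (hline a' a'.2).choose_spec, show (hline a a.2).choose = _ from haa]),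
        by rw [Nat.card_eq_fintype_card (α := F), hF]; exact hδeq⟩).2 l
    have := (hline x hx).choose_spec
    rw [show (hline x hx).choose = l from hxl] at this
    rwa [← this]
  have hSperp : ∀ s ∈ S e f b, B v s = 0 := by
    intro s hs
    by_contra hne
    refine D.χ_ne ?_
    ext c
    have h1 := ((hAline ((c / (r * B v s)) • v)).2 ⟨_, rfl⟩).2 s hs
    rwa [sympForm_smul_left, show r * (c / (r * B v s) * B v s) = c by field_simp] at h1
  have hSeq : ∀ y ∈ perp e f, B v y = 0 → y ∈ S e f b := by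
    intro y hy hvy
    obtain ⟨⟨s, hs⟩, e1⟩ := ((Nat.bijective_iff_injective_and_card
      (fun s : S e f b => (⟨⟨(s : V), s.2.1⟩, hSperp _ s.2⟩ : {y : perp e f // B v (y : V) = 0}))).2
      ⟨fun a a' haa => Subtype.ext (congrArg (fun z => ((z.1 : perp e f) : V)) haa), by
        refine Nat.eq_of_mul_eq_mul_left (show 0 < q by omega) ?_
        rw [mul_comm q (Nat.card {y : perp e f // B v (y : V) = 0}), hT, ← hcard, hδeq]⟩).2 ⟨⟨y, hy⟩, hvy⟩
    rwa [show s = y from congrArg (fun z => ((z.1 : perp e f) : V)) e1] at hs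
  have hd' : d = 2 := by
    rcases char_cases P hF hd hq with ⟨h2, hk, hq4, -⟩ | ⟨-, hk, -⟩
    · by_contra hne
      -- a vector orthogonal to the line, off it
      obtain ⟨⟨⟨u, hu⟩, hvu⟩, hoff⟩ : ∃ y : {y : perp e f // B v (y : V) = 0}, ∀ l : F, (y.1 : V) ≠ l • v := by
        by_contra hcon
        push Not at hcon
        choose g hg using hcon
        have h1 : Nat.card {y : perp e f // B v (y : V) = 0} ≤ q := by
          rw [← hF, ← Nat.card_eq_fintype_card]
          exact Nat.card_le_card_of_injective g fun a a' haa =>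
            Subtype.ext (Subtype.ext (by rw [hg a, hg a', haa]))
        have h2 : q ^ d ≤ q ^ 2 := by rw [← hT, sq]; exact Nat.mul_le_mul_right _ h1
        have := (Nat.pow_le_pow_iff_right (by omega : 1 < q)).1 h2
        omega
      obtain ⟨s, hs, hvs, hus⟩ := exists_perp_ne P hvW hv0' hu hoff
      obtain ⟨β, hβ0, hβ1⟩ : ∃ β : F, β ≠ 0 ∧ β ≠ 1 := by
        by_contra hcon
        push Not at hcon
        have h1 : Fintype.card F ≤ ({0, 1} : Finset F).card := Finset.card_le_card fun x _ => by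
          simp only [Finset.mem_insert, Finset.mem_singleton]
          exact or_iff_not_imp_left.2 (hcon x)
        have := Finset.card_le_two (a := (0 : F)) (b := 1)
        omega
      have hsu : B s u ≠ 0 := fun e0 => hus (sform_swap_zero e0)
      set s1 := (B s u)⁻¹ • s with hs1
      have hs1S : ∀ l : F, l • s1 ∈ S e f b := fun l => hSeq _ (Submodule.smul_mem _ _ (Submodule.smul_mem _ _ hs))
        (by rw [sympForm_smul_right, sympForm_smul_right, hvs, mul_zero, mul_zero])
      have hB1 : B s1 u = 1 := by rw [hs1, sympForm_smul_left, inv_mul_cancel₀ hsu]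
      obtain ⟨c, hc⟩ := C_ne_of_M D hr hb
      have hfix : ∀ a l : F, eEl e ((a * l) • u) (a * l ^ 2) • b = b := by
        intro a l
        obtain ⟨y, hy, e1⟩ : ∃ y ∈ heis e f, y • b = sympTv u a • b := mem_orb.1 (by
          rw [← hstab u hu hvu a]
          exact Finset.mem_image_of_mem _ (mem_orb_self b))
        have h := shift_fix P h2 hu hy e1.symm (hs1S l)
        rwa [sympForm_smul_left, hB1, mul_one] at h
      have hβ' : β * (β + 1) ≠ 0 := mul_ne_zero hβ0 fun h0 => hβ1 (by linear_combination h0 - h2)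
      set a := c / (β * (β + 1)) with ha
      have h3 := hfix a β
      have h4 := hfix (a * β) 1
      refine hc ?_
      rw [mem_C, ← eEl_zero]
      have huW : ∀ l : F, B (l • u) e = 0 := fun l => by rw [sympForm_smul_left, hu.1, mul_zero]
      have h5 : eEl e ((a * β) • u) (a * β ^ 2) * eEl e ((a * β * 1) • u) (a * β * 1 ^ 2) = eEl e 0 c := by
        rw [eEl_mul (huW _) (huW _), mul_one, sympForm_self, ← add_smul,
          show a * β + a * β = 0 by linear_combination (a * β) * h2, zero_smul]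
        congr 1
        rw [ha]
        linear_combination div_mul_cancel₀ c hβ'
      rw [← h5, mul_smul, h4, h3]
    · have := hσδ hk
      rw [show σ = δ by omega, hδeq, ← sq] at hcard
      exact ((Nat.pow_right_injective (by omega : 2 ≤ q)) hcard).symm
  refine ⟨hd', v, hvW, hv0', fun w => ⟨fun hw => ?_, ?_⟩, hAline⟩
  · let ι : F → {y : perp e f // B v (y : V) = 0} := fun l =>
      ⟨⟨l • v, Submodule.smul_mem _ _ hvW⟩, by rw [sympForm_smul_right, sympForm_self, mul_zero]⟩
    have hbij := (Nat.bijective_iff_injective_and_card ι).2 ⟨fun a a' haa =>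
      smul_left_injective F hv0' (congrArg (fun z => ((z.1 : perp e f) : V)) haa), by
        refine Nat.eq_of_mul_eq_mul_right (show 0 < q by omega) ?_
        rw [hT, Nat.card_eq_fintype_card, hF, hd', sq]⟩
    obtain ⟨l, hl⟩ := hbij.2 ⟨⟨w, hSW w hw⟩, hSperp w hw⟩
    exact ⟨l, (congrArg (fun z => ((z.1 : perp e f) : V)) hl).symm⟩
  · rintro ⟨l, rfl⟩
    exact hSeq _ (Submodule.smul_mem _ _ hvW) (by rw [sympForm_smul_right, sympForm_self, mul_zero])

end Cfsg.Agent.Lie.MinIndexSp
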