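import Cfsg.Agent.Lib.Lie.MinIndexUnitPoint
import Cfsg.Agent.Lib.Fus.UnitParabolic

/-!
`PSU_n(q)`, `n` even at least `6` and `q ≥ 3`, has no proper subgroup of index below the number of isotropic
points.
-/

set_option autoImplicit false
set_option linter.unusedSectionVars false
set_option maxHeartbeats 1000000

namespace Cfsg.Agent.Lie.MinIndexUnit

open Matrix Finset MulAction Cfsg Cfsg.Agent.Classical Cfsg.Agent.Classical.PSUAut

universe u

attribute [local instance 10] _root_.Classical.propDecidable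

variable {F : Type*} [Field F] [Fintype F] {q n : ℕ}

local notation "V" => (Fin n → F)

/-- The isotropic vectors whose transvections fix a point. -/
def InR (hF : Fintype.card F = q ^ 2) {Ω : Type u} [MulAction (SU n F q) Ω] (b : Ω) (x : Fin n → F) : Prop :=
  ∃ hx : hermForm n F q x x = 0, ∀ c : skew hF, tv hF hx c • b = b

variable (hF : Fintype.card F = q ^ 2)

local notation "h" => hermForm n F q
local notation "cj" => qFrob hF

include hF

variable {Ω : Type u} [Fintype Ω] [MulAction (SU n F q) Ω] {b : Ω}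

theorem inR_smul {x : V} (hx : InR hF b x) (a : F) : InR hF b (a • x) := by
  obtain ⟨hxx, hfix⟩ := hx
  have h0 : h (a • x) (a • x) = 0 := by rw [h_smul_left, h_smul_right hF, hxx, mul_zero, mul_zero]
  refine ⟨h0, fun c => ?_⟩
  have hc : a * cj a * c + cj (a * cj a * c) = 0 :=
    real_mul_skew hF (by rw [map_mul, cj_cj, mul_comm]) ((mem_skew hF).1 c.2)
  rw [show tv hF h0 c = tv hF hxx ⟨_, hc⟩ from suVal_ext (by rw [suVal_tv, suVal_tv, tv_smul hF]; rfl)]
  exact hfix _

theorem inR_map {x : V} (hx : InR hF b x) {g : SU n F q} (hg : g • b = b) : InR hF b (suVal g *ᵥ x) := by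
  obtain ⟨hxx, hfix⟩ := hx
  refine ⟨by rw [su_form, hxx], fun c => ?_⟩
  rw [show tv hF (show h (suVal g *ᵥ x) (suVal g *ᵥ x) = 0 by rw [su_form, hxx]) c = g * tv hF hxx c * g⁻¹ from
    suVal_ext (by rw [suVal_mul, suVal_mul, suVal_tv, suVal_tv, eMat_conj hF, Matrix.mulVec_zero]),
    mul_smul, mul_smul, inv_smul_eq_iff.2 hg.symm, hfix, hg]

/-- The image under a transvection of the set. -/
theorem inR_tv {x y : V} (hx : InR hF b x) (hy : InR hF b y) {c : F} (hc : c + cj c = 0) :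
    InR hF b (x + (c * h x y) • y) := by
  obtain ⟨hyy, hfix⟩ := hy
  have := inR_map hF hx (hfix ⟨c, hc⟩)
  rwa [suVal_tv, tv_apply' hF] at this

/-- The number of nonzero isotropic vectors in odd dimension. -/
theorem isoNum_odd (hodd : Odd n) (hn : 2 ≤ n) : isoNum n F q = (q ^ n + 1) * (q ^ (n - 1) - 1) := by
  obtain ⟨j, rfl⟩ : ∃ j, n = j + 2 := ⟨n - 2, by omega⟩
  have h1 := Cfsg.Agent.Fus.UnitStab.iso_count (F := F) hF j
  have hje : Odd j := by
    obtain ⟨i, hi⟩ := hodd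
    exact ⟨i - 1, by omega⟩
  rw [hje.neg_one_pow, (hje.add_one).neg_one_pow] at h1
  have hq := two_le_q hF
  zify [Nat.one_le_pow (j + 2 - 1) q (by omega)]
  rw [show j + 2 - 1 = j + 1 by omega]
  simpa [isoNum, sub_eq_add_neg] using h1

/-- The nonzero isotropic vectors. -/
theorem card_iso : Nat.card {v : V // v ≠ 0 ∧ h v v = 0} = isoNum n F q := by
  rw [isoNum, normCount, Nat.card_eq_fintype_card, Nat.card_eq_fintype_card, Fintype.card_subtype,
    Fintype.card_subtype, ← Finset.card_erase_of_mem (a := (0 : V))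
      (Finset.mem_filter.2 ⟨Finset.mem_univ _, by rw [h_zero_left]⟩)]
  refine congrArg Finset.card (Finset.ext fun w => ?_)
  simp

variable (D : Data hF n)

theorem h_wPart_left {u : V} (hu : u ∈ D.W) (x : V) : h (wPart (q := q) D.e D.f x) u = h x u := by
  rw [← cj_h hF, h_wPart_right hF hu, cj_h hF]

/-- A singular vector of the orthogonal space not orthogonal to a given one. -/
theorem exists_singular_ne {w : V} (hw : w ∈ D.W) (hw0 : w ≠ 0) : ∃ u ∈ D.W, h u u = 0 ∧ h w u ≠ 0 := by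
  obtain ⟨v, hv, hvv⟩ := exists_aniso hF (nondeg_wSub hF D.pair) (by
    rw [card_wSub hF D.pair D.dim]
    exact Nat.one_lt_pow (by have := D.dge; omega) (by have := two_le_q hF; omega))
  obtain ⟨z0, hz0, hz00, hzz, -⟩ := exists_singular_perp hF D.pair D.dim D.dge hv hvv
  by_contra hcon
  push Not at hcon
  obtain ⟨y, hy, hne⟩ := nondeg_wSub hF D.pair w hw hw0
  refine hne (wSub_induction hF D.pair hz0 hz00 hzz (C := fun y => h w y = 0) hcon (fun x y _ _ hx hy => ?_) y hy)
  show h w (x + y) = 0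
  rw [h_add_right hF, hx, hy, add_zero]

/-- A singular vector with prescribed products with two independent vectors, with one exception. -/
theorem exists_prescribed {w1 w2 : V} (hw1 : w1 ∈ D.W) (hw2 : w2 ∈ D.W) (hw10 : w1 ≠ 0)
    (hind : ¬∃ t : F, w2 = t • w1) {a : F} (ha : a ≠ 0) :
    (∃ u ∈ D.W, h u u = 0 ∧ h w1 u = a ∧ h w2 u = 1) ∨ (h w2 w2 ≠ 0 ∧ h w2 w2 * a = h w1 w2) := by
  have hq := two_le_q hF
  have hind' : ¬∃ t : F, w1 = t • w2 := fun ⟨t, ht⟩ => by
    rcases eq_or_ne t 0 with rfl | ht0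
    · exact hw10 (by rw [ht, zero_smul])
    · exact hind ⟨t⁻¹, by rw [ht, inv_smul_smul₀ ht0]⟩
  obtain ⟨x, hx1, hx2⟩ := exists_sep hF hind'
  obtain ⟨y, hy2, hy1⟩ := exists_sep hF hind
  set u0 := cj a • wPart (q := q) D.e D.f x + wPart (q := q) D.e D.f y
  have hu0 : u0 ∈ D.W := Submodule.add_mem _ (Submodule.smul_mem _ _ (wPart_mem hF D.pair x)) (wPart_mem hF D.pair y)
  have h1 : h w1 u0 = a := by
    rw [h_add_right hF, h_smul_right hF, h_wPart_right hF hw1, h_wPart_right hF hw1, ← cj_h hF x, hx1,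
      h_comm_zero hF hy1, cj_cj, map_one, mul_one, add_zero]
  have h2 : h w2 u0 = 1 := by
    rw [h_add_right hF, h_smul_right hF, h_wPart_right hF hw2, h_wPart_right hF hw2, h_comm_zero hF hx2,
      ← cj_h hF y, hy2, map_one, mul_zero, zero_add]
  clear_value u0
  let X : Submodule F V :=
    { carrier := {z | z ∈ D.W ∧ h z w1 = 0 ∧ h z w2 = 0}
      add_mem' := fun {s t} hs ht => ⟨Submodule.add_mem _ hs.1 ht.1, by rw [h_add_left, hs.2.1, ht.2.1, add_zero],
        by rw [h_add_left, hs.2.2, ht.2.2, add_zero]⟩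
      zero_mem' := ⟨Submodule.zero_mem _, h_zero_left w1, h_zero_left w2⟩
      smul_mem' := fun c {s} hs => ⟨Submodule.smul_mem _ c hs.1, by rw [h_smul_left, hs.2.1, mul_zero],
        by rw [h_smul_left, hs.2.2, mul_zero]⟩ }
  by_cases hX : ∃ z ∈ X, h z z ≠ 0
  · obtain ⟨z, ⟨hz, hzw1, hzw2⟩, hzz⟩ := hX
    set u1 := u0 - (h u0 z / h z z) • z
    have hu1z : h u1 z = 0 := by rw [h_sub_left, h_smul_left, div_mul_cancel₀ _ hzz, sub_self]
    obtain ⟨m, hm⟩ := exists_norm hF (a := -h u1 u1 / h z z) (by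
      rw [map_div₀, map_neg, cj_h_self hF, cj_h_self hF])
    refine Or.inl ⟨u1 + m • z, Submodule.add_mem _ (Submodule.sub_mem _ hu0 (Submodule.smul_mem _ _ hz))
      (Submodule.smul_mem _ m hz), ?_, ?_, ?_⟩
    · rw [h_add_left, h_add_right hF, h_add_right hF, h_smul_right hF, h_smul_right hF, h_smul_left, h_smul_left,
        hu1z, h_comm_zero hF hu1z]
      linear_combination h z z * hm + div_mul_cancel₀ (-h u1 u1) hzz
    · rw [h_add_right hF, h_sub_right hF, h_smul_right hF, h_smul_right hF, h_comm_zero hF hzw1, h1]; ring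
    · rw [h_add_right hF, h_sub_right hF, h_smul_right hF, h_smul_right hF, h_comm_zero hF hzw2, h2]; ring
  push Not at hX
  have horth : ∀ s ∈ X, ∀ t ∈ X, h s t = 0 := fun s hs t ht => h_eq_zero_of_singular hF hX hs ht
  have hcardX : q ^ (2 * D.d) ≤ Nat.card X * (q ^ 2 * q ^ 2) := by
    let φ : D.W →+ F × F :=
      { toFun := fun z => (h (z : V) w1, h (z : V) w2)
        map_zero' := Prod.ext (h_zero_left w1) (h_zero_left w2)
        map_add' := fun s t => Prod.ext (h_add_left _ _ w1) (h_add_left _ _ w2) }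
    have e1 := AddSubgroup.card_mul_index φ.ker
    rw [AddSubgroup.index_ker, card_wSub hF D.pair D.dim] at e1
    rw [← e1]
    refine Nat.mul_le_mul (le_of_eq (Nat.card_congr ?_)) ((AddSubgroup.card_le_card_addGroup _).trans (le_of_eq ?_))
    · exact
        { toFun := fun z => ⟨z.1.1, z.1.2, (Prod.ext_iff.1 z.2).1, (Prod.ext_iff.1 z.2).2⟩
          invFun := fun z => ⟨⟨z.1, z.2.1⟩, Prod.ext z.2.2.1 z.2.2.2⟩
          left_inv := fun _ => rfl
          right_inv := fun _ => rfl }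
    · rw [Nat.card_prod, Nat.card_eq_fintype_card, hF]
  have hann := card_ann hF D.c0_skew D.χ D.c0_ne D.χ_ne (nondeg_wSub hF D.pair)
    (S := X.toAddSubgroup) fun s hs => hs.1
  rw [card_wSub hF D.pair D.dim] at hann
  set A := ann q (psi hF D.c0_skew D.χ) D.W X.toAddSubgroup
  have hXA : X.toAddSubgroup ≤ A := fun s hs => ⟨hs.1, fun t ht => by
    rw [horth s hs t ht, AddChar.map_zero_eq_one]⟩
  have hXpos : 0 < Nat.card X := Nat.card_pos
  have h3 : Nat.card A ≤ q ^ 2 * q ^ 2 := by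
    refine Nat.le_of_mul_le_mul_right ?_ hXpos
    rw [mul_comm (q ^ 2 * q ^ 2)]
    exact le_of_eq_of_le hann hcardX
  by_cases hl : ∃ l ∈ X, h l u0 ≠ 0
  · obtain ⟨l, hlX, hlu⟩ := hl
    obtain ⟨t, ht⟩ := exists_trace_eq hF (a := -h u0 u0) (by rw [map_neg, cj_h_self hF])
    refine Or.inl ⟨u0 + (t / h l u0) • l, Submodule.add_mem _ hu0 (Submodule.smul_mem _ _ hlX.1), ?_, ?_, ?_⟩
    · rw [h_add_left, h_add_right hF, h_add_right hF, h_smul_right hF, h_smul_right hF, h_smul_left, h_smul_left,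
        horth l hlX l hlX, ← cj_h hF l u0, ← map_mul, div_mul_cancel₀ _ hlu]
      linear_combination ht
    · rw [h_add_right hF, h_smul_right hF, h_comm_zero hF hlX.2.1, h1, mul_zero, add_zero]
    · rw [h_add_right hF, h_smul_right hF, h_comm_zero hF hlX.2.2, h2, mul_zero, add_zero]
  push Not at hl
  -- otherwise everything lies in the plane of the two vectors
  let Sp : AddSubgroup V := (Submodule.span F {w1, w2}).toAddSubgroup
  have hSp : ∀ w ∈ D.W, (∀ z ∈ X, h z w = 0) → w ∈ A := fun w hw hwz =>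
    ⟨hw, fun t ht => by rw [h_comm_zero hF (hwz t ht), AddChar.map_zero_eq_one]⟩
  have hSpA : Sp ≤ A := by
    intro w hw
    obtain ⟨x, y, rfl⟩ := Submodule.mem_span_pair.1 hw
    refine hSp _ (Submodule.add_mem _ (Submodule.smul_mem _ _ hw1) (Submodule.smul_mem _ _ hw2)) fun z hz => ?_
    rw [h_add_right hF, h_smul_right hF, h_smul_right hF, hz.2.1, hz.2.2, mul_zero, mul_zero, add_zero]
  have hcSp : q ^ 2 * q ^ 2 ≤ Nat.card Sp := by
    rw [← hF, ← Nat.card_eq_fintype_card, ← Nat.card_prod]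
    refine Nat.card_le_card_of_injective (fun p : F × F => (⟨p.1 • w1 + p.2 • w2,
      Submodule.mem_span_pair.2 ⟨_, _, rfl⟩⟩ : Sp)) fun p p' hpp => ?_
    have e1 : p.1 • w1 + p.2 • w2 = p'.1 • w1 + p'.2 • w2 := congrArg Subtype.val hpp
    have e2 : p.2 = p'.2 := by
      by_contra hne
      refine hind ⟨(p.2 - p'.2)⁻¹ * (p'.1 - p.1), ?_⟩
      rw [← smul_smul, eq_inv_smul_iff₀ (sub_ne_zero.2 hne), sub_smul, sub_smul, sub_eq_sub_iff_add_eq_add]
      exact (add_comm _ _).trans e1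
    rw [e2, add_left_inj] at e1
    exact Prod.ext (smul_left_injective F hw10 e1) e2
  have hAeq := AddSubgroup.eq_of_le_of_card_ge hSpA (h3.trans hcSp)
  obtain ⟨l, hlX, hl0⟩ : ∃ l ∈ X.toAddSubgroup, l ≠ 0 := by
    refine X.toAddSubgroup.bot_or_exists_ne_zero.resolve_left fun e0 => ?_
    have e1 : Nat.card X = 1 := by
      show Nat.card X.toAddSubgroup = 1
      rw [e0, AddSubgroup.card_bot]
    rw [e1, one_mul, ← pow_add] at hcardX
    have := (Nat.pow_le_pow_iff_right (show 1 < q by omega)).1 hcardX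
    have := D.dge
    omega
  have hlSp : l ∈ Sp := by rw [hAeq]; exact hXA hlX
  have hu0Sp : u0 ∈ Sp := by rw [hAeq]; exact hSp u0 hu0 hl
  obtain ⟨x', y', hxy'⟩ := Submodule.mem_span_pair.1 hlSp
  obtain ⟨x, y, hxy⟩ := Submodule.mem_span_pair.1 hu0Sp
  have k1 : x' * h w1 w1 + y' * h w2 w1 = 0 := by
    rw [← h_smul_left, ← h_smul_left, ← h_add_left, hxy']; exact (show l ∈ X from hlX).2.1
  have k2 : x' * h w1 w2 + y' * h w2 w2 = 0 := by
    rw [← h_smul_left, ← h_smul_left, ← h_add_left, hxy']; exact (show l ∈ X from hlX).2.2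
  have hdet : h w1 w1 * h w2 w2 - h w1 w2 * h w2 w1 = 0 := by
    by_contra hne
    refine hl0 ?_
    have ex : x' = 0 := (mul_eq_zero.1 (show x' * (h w1 w1 * h w2 w2 - h w1 w2 * h w2 w1) = 0 by
      linear_combination (h w2 w2) * k1 - (h w2 w1) * k2)).resolve_right hne
    have ey : y' = 0 := (mul_eq_zero.1 (show y' * (h w1 w1 * h w2 w2 - h w1 w2 * h w2 w1) = 0 by
      linear_combination (h w1 w1) * k2 - (h w1 w2) * k1)).resolve_right hne
    rw [← hxy', ex, ey, zero_smul, zero_smul, add_zero]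
  rw [← hxy, h_add_right hF, h_smul_right hF, h_smul_right hF] at h1 h2
  refine Or.inr ⟨fun h22 => ?_, ?_⟩
  · rw [h22, mul_zero, zero_sub, neg_eq_zero] at hdet
    have h12 : h w1 w2 = 0 := (mul_eq_zero.1 hdet).elim id (fun e0 => h_comm_zero hF e0)
    rw [h22, h_comm_zero hF h12, mul_zero, mul_zero, add_zero] at h2
    exact zero_ne_one h2
  · linear_combination (-(h w2 w2)) * h1 + (h w1 w2) * h2 + (cj x) * hdet

/-- A transitive family on the vectors of a norm. -/
theorem su_transitive_norm (D : Data hF n) {v v' : V} (hvv : h v v ≠ 0) (hn : h v v = h v' v') :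
    ∃ s : SU n F q, suVal s *ᵥ v = v' := by
  have hv : v ≠ 0 := fun e0 => hvv (by rw [e0, h_zero_left])
  let L : V →ₗ[F] V :=
    { toFun := fun x => (h x v / h v v) • v'
      map_add' := fun a b => by simp only [h_add_left, add_div, add_smul]
      map_smul' := fun a b => by simp only [h_smul_left, RingHom.id_apply, smul_smul, mul_div_assoc] }
  have hLv : L v = v' := by show (h v v / h v v) • v' = v'; rw [div_self hvv, one_smul]
  have hinj : Function.Injective (L.comp (Submodule.span F {v}).subtype) := by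
    refine (injective_iff_map_eq_zero _).2 fun x hx => ?_
    obtain ⟨t, ht⟩ := Submodule.mem_span_singleton.1 x.2
    have h1 : L (x : V) = 0 := hx
    rw [← ht, map_smul, hLv] at h1
    have ht0 : t = 0 := (smul_eq_zero.1 h1).resolve_right fun e0 => hvv (by rw [hn, e0, h_zero_left])
    exact Subtype.ext (by rw [← ht, ht0, zero_smul]; rfl)
  obtain ⟨g, hg, hgx⟩ := witt_hermitian (hermB hF n) (qFrob_ne_id hF) (qFrob_qFrob hF) (hermB_isSymm hF n)
    (hermB_nondegenerate hF n) (Submodule.span F {v}) (L.comp (Submodule.span F {v}).subtype) hinj (fun a b => by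
      obtain ⟨t, ht⟩ := Submodule.mem_span_singleton.1 a.2
      obtain ⟨t', ht'⟩ := Submodule.mem_span_singleton.1 b.2
      rw [hermB_apply, hermB_apply]
      show h (L (b : V)) (L (a : V)) = h (b : V) (a : V)
      rw [← ht, ← ht', map_smul, map_smul, hLv, h_smul_left, h_smul_right hF, h_smul_left, h_smul_right hF, hn])
  have hu : IsUnit (LinearMap.toMatrix' (g : V →ₗ[F] V)).det := by
    rw [← Matrix.isUnit_iff_isUnit_det]
    refine Matrix.mulVec_injective_iff_isUnit.1 fun a b hab => g.injective ?_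
    simpa [LinearMap.toMatrix'_mulVec] using hab
  set G : GL (Fin n) F := Matrix.GeneralLinearGroup.mk'' _ hu
  have hGm : ∀ x, (G : Matrix (Fin n) (Fin n) F) *ᵥ x = g x := fun x => by
    show LinearMap.toMatrix' (g : V →ₗ[F] V) *ᵥ x = _
    rw [LinearMap.toMatrix'_mulVec]; rfl
  have hG : G ∈ GU n F q := fun x z => by
    show h ((G : Matrix (Fin n) (Fin n) F) *ᵥ x) ((G : Matrix (Fin n) (Fin n) F) *ᵥ z) = h x z
    rw [hGm, hGm]
    exact hg z x
  set δ := (G : Matrix (Fin n) (Fin n) F).det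
  have hδ := det_norm_one hF hG
  have hδ0 : δ ≠ 0 := fun h0 => by simp [show (G : Matrix (Fin n) (Fin n) F).det = 0 from h0] at hδ
  obtain ⟨w, hwv, hww⟩ : ∃ w : V, h w v = 0 ∧ h w w ≠ 0 := by
    obtain ⟨u, hu, huw, huu⟩ := exists_aniso_perp hF D.pair D.dim D.dge v
    exact ⟨u, huw, huu⟩
  obtain ⟨K, hK, hKdet, hKv⟩ := exists_reflection hF hww (a := δ⁻¹) (by rw [map_inv₀, ← mul_inv, hδ, inv_one])
  let s : SU n F q := ⟨⟨(G : Matrix (Fin n) (Fin n) F) * (K : Matrix (Fin n) (Fin n) F),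
    by rw [Matrix.det_mul, hKdet]; exact mul_inv_cancel₀ hδ0⟩, fun x z => by
      show h (((G : Matrix (Fin n) (Fin n) F) * (K : Matrix (Fin n) (Fin n) F)) *ᵥ x)
        (((G : Matrix (Fin n) (Fin n) F) * (K : Matrix (Fin n) (Fin n) F)) *ᵥ z) = h x z
      rw [← Matrix.mulVec_mulVec, ← Matrix.mulVec_mulVec]
      exact (hG _ _).trans (hK x z)⟩
  refine ⟨s, ?_⟩
  show ((G : Matrix (Fin n) (Fin n) F) * (K : Matrix (Fin n) (Fin n) F)) *ᵥ v = v'
  rw [← Matrix.mulVec_mulVec, hKv, h_comm_zero hF hwv, mul_zero, zero_div, zero_smul, add_zero, hGm]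
  exact (hgx ⟨v, Submodule.mem_span_singleton_self v⟩).trans hLv

/-- The vectors of a nonzero norm are as many as those of norm one. -/
theorem normCount_ne {r : F} (hr : cj r = r) (hr0 : r ≠ 0) :
    Nat.card {v : V // h v v = r} = normCount n F q (1 : F) := by
  obtain ⟨s, hs⟩ := exists_norm hF hr
  have hs0 : s ≠ 0 := fun e0 => hr0 (by rw [← hs, e0, zero_mul])
  have hcs : cj s ≠ 0 := (map_ne_zero _).2 hs0
  exact Nat.card_congr
    { toFun := fun v => ⟨s⁻¹ • v.1, by
        rw [h_smul_left, h_smul_right hF, v.2, ← hs, map_inv₀]; field_simp⟩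
      invFun := fun v => ⟨s • v.1, by rw [h_smul_left, h_smul_right hF, v.2, mul_one, hs]⟩
      left_inv := fun v => Subtype.ext (smul_inv_smul₀ hs0 v.1)
      right_inv := fun v => Subtype.ext (inv_smul_smul₀ hs0 v.1) }

/-- The number of vectors of a norm, in odd dimension. -/
theorem normCount_odd (hodd : Odd n) : normCount n F q (1 : F) = q ^ (n - 1) * (q ^ n + 1) := by
  have hq := two_le_q hF
  have h2 := normCount_one (F := F) hF n
  obtain ⟨j, rfl⟩ := hodd
  rw [(odd_two_mul_add_one j).neg_one_pow] at h2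
  have h3 : (normCount (2 * j + 1) F q (1 : F) : ℤ) * q = ((q ^ (2 * j + 1 - 1) * (q ^ (2 * j + 1) + 1) : ℕ) : ℤ) * q := by
    rw [h2, Nat.add_sub_cancel]
    push_cast
    ring
  exact_mod_cast mul_right_cancel₀ (show (q : ℤ) ≠ 0 by omega) h3

variable (hfree : ∀ x ∈ D.Q, x • b = b → x = 1)
  (hout : ∀ b' : Ω, b' ∉ orbit D.Q b → ∀ c : skew hF, D.z c • b' = b')
  (hW : ∀ u ∈ D.W, ∀ (hu : hermForm n F q u u = 0) (c : skew hF), tv hF hu c • b = b)
include hfree hout hW

/-- A point moved off the regular orbit gives a vector of the set. -/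
theorem inR_of_notMem {g : SU n F q} (hg : g • b ∉ orbit D.Q b) : InR hF b (suVal g⁻¹ *ᵥ D.e) := by
  refine ⟨by rw [su_form, D.pair.ee], fun c => ?_⟩
  rw [show tv hF (show h (suVal g⁻¹ *ᵥ D.e) (suVal g⁻¹ *ᵥ D.e) = 0 by rw [su_form, D.pair.ee]) c =
    g⁻¹ * D.z c * g⁻¹⁻¹ from suVal_ext (by
      rw [suVal_mul, suVal_mul, suVal_tv, suVal_tv, eMat_conj hF, Matrix.mulVec_zero]),
    inv_inv, mul_smul, mul_smul, hout _ hg, inv_smul_smul]

theorem not_inR_e {a : F} (ha : a ≠ 0) : ¬ InR hF b (a • D.e) := by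
  intro h1
  obtain ⟨hee, hfix⟩ := inR_smul hF h1 a⁻¹
  have hc := hfix ⟨D.c0, D.c0_skew⟩
  rw [show tv hF hee ⟨D.c0, D.c0_skew⟩ = D.z ⟨D.c0, D.c0_skew⟩ from suVal_ext (by
    rw [suVal_tv, suVal_tv, inv_smul_smul₀ ha])] at hc
  exact D.c0_ne (congrArg Subtype.val (moved_of_orbit hF D hfree (mem_orbit_self b) hc))

/-- A vector on the first line moves along the singular vectors of the orthogonal space. -/
theorem inR_move {a c : V} (ha : InR hF b (D.e + a)) (haW : a ∈ D.W) (hcW : c ∈ D.W) (haa : h a a = 0)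
    (hcc : h c c = 0) (hγ : h a c + cj (h a c) = 0) (hγ0 : h a c ≠ 0) : InR hF b (D.e + c) := by
  have hy : h (c - a) (c - a) = 0 := by
    rw [h_sub_left, h_sub_right hF, h_sub_right hF, haa, hcc, ← cj_h hF a c]
    linear_combination -hγ
  have hc : (h a c)⁻¹ + cj (h a c)⁻¹ = 0 := by
    rw [map_inv₀, eq_neg_of_add_eq_zero_right hγ, inv_neg, add_neg_cancel]
  have h1 := inR_tv hF ha ⟨hy, hW _ (Submodule.sub_mem _ hcW haW) hy⟩ hc
  rw [h_add_left, h_sub_right hF, h_sub_right hF, h_comm_zero hF hcW.1, h_comm_zero hF haW.1, haa, sub_zero,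
    sub_zero, zero_add, inv_mul_cancel₀ hγ0, one_smul, add_assoc, add_sub_cancel] at h1
  exact h1

/-- Any multiple of the orthogonal part occurs. -/
theorem inR_scale {w w' : V} (hx : InR hF b (D.e + w)) (P' : IsPair (q := q) w w') (hwW : w ∈ D.W) (hw' : w' ∈ D.W)
    {l : F} (hl : l ≠ 0) : InR hF b (D.e + l • w) := by
  obtain ⟨z, hz, hzz⟩ := exists_aniso hF (nondeg_perp2 hF D.pair P' hwW hw') (by
    by_contra hcon
    have e1 := card_perp2 hF D.pair P' hwW hw'
    rw [card_wSub hF D.pair D.dim] at e1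
    have h3 : q ^ (2 * D.d) ≤ 1 * (q ^ 2) ^ 2 := by
      rw [← e1]
      gcongr
      exact not_lt.1 hcon
    rw [one_mul, ← pow_mul] at h3
    have := (Nat.pow_le_pow_iff_right (show 1 < q from two_le_q hF)).1 h3
    have := D.dge
    omega)
  have hcj : cj D.c0 ≠ 0 := (map_ne_zero _).2 D.c0_ne
  have hcl : cj l ≠ 0 := (map_ne_zero _).2 hl
  set β := cj D.c0 with hβ
  set α := cj (D.c0 / β) with hα
  set β' := D.c0 / cj l with hβ'
  obtain ⟨m, hm⟩ := exists_norm hF (a := -(α * cj β' + cj (α * cj β')) / h z z) (by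
    rw [map_div₀, map_neg, map_add, cj_cj, cj_h_self hF, add_comm])
  clear_value α β β'
  set w1 := β • w'
  set w2 := α • w + β' • w' + m • z
  have hw1W : w1 ∈ D.W := Submodule.smul_mem _ _ hw'
  have hw2W : w2 ∈ D.W := Submodule.add_mem _ (Submodule.add_mem _ (Submodule.smul_mem _ _ hwW)
    (Submodule.smul_mem _ _ hw')) (Submodule.smul_mem _ _ hz.1)
  have hzw : h z w = 0 := hz.2.1
  have hzw' : h z w' = 0 := hz.2.2
  have h11 : h w1 w1 = 0 := by rw [h_smul_left, h_smul_right hF, P'.ff, mul_zero, mul_zero]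
  have h22 : h w2 w2 = 0 := by
    simp only [w2, h_add_left, h_add_right hF, h_smul_left, h_smul_right hF, P'.ee, P'.ef, P'.ff, P'.fe hF, hzw,
      hzw', h_comm_zero hF hzw, h_comm_zero hF hzw']
    rw [map_mul, cj_cj] at hm
    linear_combination h z z * hm + div_mul_cancel₀ (-(α * cj β' + cj α * β')) hzz
  have h01 : h w w1 = D.c0 := by rw [h_smul_right hF, P'.ef, mul_one, hβ, cj_cj]
  have h12 : h w1 w2 = D.c0 := by
    simp only [w1, w2, h_add_right hF, h_smul_left, h_smul_right hF, P'.ff, P'.fe hF, h_comm_zero hF hzw', mul_one,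
      mul_zero, add_zero]
    rw [hα, cj_cj, div_mul_cancel₀ _ (hβ ▸ hcj : β ≠ 0)]
  have h23 : h w2 (l • w) = D.c0 := by
    simp only [w2, h_add_left, h_smul_left, h_smul_right hF, P'.ee, P'.fe hF, hzw, mul_one, mul_zero, add_zero,
      zero_add]
    rw [hβ', mul_div_cancel₀ _ hcl]
  have s1 := inR_move hF D hfree hout hW hx hwW hw1W P'.ee h11 (by rw [h01]; exact D.c0_skew) (by rw [h01]; exact D.c0_ne)
  have s2 := inR_move hF D hfree hout hW s1 hw1W hw2W h11 h22 (by rw [h12]; exact D.c0_skew) (by rw [h12]; exact D.c0_ne)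
  exact inR_move hF D hfree hout hW s2 hw2W (Submodule.smul_mem _ _ hwW) h22
    (by rw [h_smul_left, h_smul_right hF, P'.ee, mul_zero, mul_zero]) (by rw [h23]; exact D.c0_skew) (by rw [h23]; exact D.c0_ne)

/-- No vector of the set has plane part on the first line. -/
theorem no_e_w {x : V} (hx : InR hF b x)
    (he : h x D.e = 0) : h x D.f = 0 := by
  by_contra ha
  set a := h x D.f
  set w := a⁻¹ • wPart (q := q) D.e D.f x with hwdef
  have hwW : w ∈ D.W := Submodule.smul_mem _ _ (wPart_mem hF D.pair x)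
  have hx' : InR hF b (D.e + w) := by
    have h1 := inR_smul hF hx a⁻¹
    rw [wPart_eq (q := q) D.e D.f x, he, zero_smul, add_zero, smul_add, inv_smul_smul₀ ha] at h1
    exact h1
  rcases eq_or_ne w 0 with hw0 | hw0
  · rw [hw0, add_zero, ← one_smul F D.e] at hx'
    exact not_inR_e hF D hfree hout hW one_ne_zero hx'
  have hew : h D.e w = 0 := h_comm_zero hF hwW.1
  have hww : h w w = 0 := by
    have h1 := hx'.1
    rwa [h_add_left, h_add_right hF, h_add_right hF, D.pair.ee, hew, hwW.1, zero_add, zero_add, zero_add] at h1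
  clear_value w
  obtain ⟨w', hw', hw'w', hww'⟩ := wSub_partner hF D.pair hwW hw0 hww
  have P' : IsPair (q := q) w w' := ⟨hww, hw'w', hww'⟩
  rcases (two_le_q hF).eq_or_lt with hq2 | hq3
  · -- three transvections give the first one
    have hcj : ∀ y : F, cj y = y ^ 2 := fun y => (cj_pow hF y).symm.trans (congrArg (y ^ ·) hq2.symm)
    have : Fact (Nat.Prime 3) := ⟨Nat.prime_three⟩
    obtain ⟨u, hu⟩ := exists_prime_orderOf_dvd_card' (G := Fˣ) 3 (by
      rw [Nat.card_units, Nat.card_eq_fintype_card, hF, ← hq2]; norm_num)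
    set ω : F := (u : F)
    have hω3 : ω ^ 3 = 1 := by
      rw [← Units.val_pow_eq_pow_val, show u ^ 3 = 1 by rw [← hu]; exact pow_orderOf_eq_one u, Units.val_one]
    have hω1 : ω ≠ 1 := fun e0 => by
      rw [Units.val_eq_one.1 e0, orderOf_one] at hu
      norm_num at hu
    have hsum : 1 + ω + ω ^ 2 = 0 :=
      (mul_eq_zero.1 (show (ω - 1) * (1 + ω + ω ^ 2) = 0 by linear_combination hω3)).resolve_left
        (sub_ne_zero.2 hω1)
    have h2 : (2 : F) = 0 := by
      have e1 := FiniteField.cast_card_eq_zero F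
      rw [hF, ← hq2] at e1
      norm_num at e1
      exact mul_self_eq_zero.1 (show (2 : F) * 2 = 0 by linear_combination e1)
    obtain ⟨h1', f1⟩ := hx'
    obtain ⟨hA, fA⟩ := inR_scale hF D hfree hout hW ⟨h1', f1⟩ P' hwW hw' u.ne_zero
    obtain ⟨hB, fB⟩ := inR_scale hF D hfree hout hW ⟨h1', f1⟩ P' hwW hw' (pow_ne_zero 2 u.ne_zero)
    set c : skew hF := ⟨D.c0, D.c0_skew⟩
    have key : tv hF h1' c * (tv hF hA c * tv hF hB c) = D.z c * tv hF hww c :=
      suVal_ext (Matrix.ext_iff_mulVec.2 fun y => by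
        rw [suVal_mul, suVal_mul, suVal_mul, ← Matrix.mulVec_mulVec, ← Matrix.mulVec_mulVec, ← Matrix.mulVec_mulVec,
          suVal_tv, suVal_tv, suVal_tv, suVal_tv, suVal_tv]
        simp only [tv_apply' hF, h_add_left, h_add_right hF, h_smul_left, h_smul_right hF, D.pair.ee, hew, hwW.1,
          hww, hcj, mul_zero, add_zero]
        match_scalars <;> first
          | ring1
          | linear_combination (h y D.e * (c : F)) * h2 + (h y w * (c : F)) * hsum + (h y w * (c : F) * ω) * hω3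
          | linear_combination (h y D.e * (c : F)) * hsum + (h y w * (c : F)) * h2
              + (h y w * (c : F) * (ω ^ 3 + 2)) * hω3)
    have h3 : (D.z c * tv hF hww c) • b = b := by rw [← key, mul_smul, mul_smul, fB, fA, f1]
    rw [mul_smul, hW w hwW hww] at h3
    exact D.c0_ne (congrArg Subtype.val (moved_of_orbit hF D hfree (mem_orbit_self b) h3))
  obtain ⟨r, -, -, -, hr, hr0, hr1, -⟩ := exists_real_root hF hq3
  obtain ⟨t, ht, tw, -, tfix⟩ := exists_torus hF P' hr hr0 (G := stabilizer (SU n F q) b)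
    (fun c => hW w hwW hww c) fun c => hW w' hw' hw'w' c
  have hx2 : InR hF b (D.e + r • w) := by
    have h1 := inR_map hF hx' (mem_stabilizer_iff.1 ht)
    rwa [Matrix.mulVec_add, tw, tfix _ ⟨hew, h_comm_zero hF hw'.1⟩] at h1
  obtain ⟨h1, f1⟩ := hx'
  obtain ⟨h2, f2⟩ := hx2
  have hc := D.c0_skew
  have hc1 : r * D.c0 + cj (r * D.c0) = 0 := real_mul_skew hF hr hc
  have hc2 : -D.c0 + cj (-D.c0) = 0 := by rw [map_neg, ← neg_add, hc, neg_zero]
  have hc3 : r * (r - 1) * D.c0 + cj (r * (r - 1) * D.c0) = 0 :=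
    real_mul_skew hF (by rw [map_mul, map_sub, map_one, hr]) hc
  have hc4 : (r - 1) * D.c0 + cj ((r - 1) * D.c0) = 0 :=
    real_mul_skew hF (by rw [map_sub, map_one, hr]) hc
  have key : tv hF h1 ⟨_, hc1⟩ * (tv hF h2 ⟨_, hc2⟩ * tv hF hww ⟨_, hc3⟩) = D.z ⟨_, hc4⟩ :=
    suVal_ext (Matrix.ext_iff_mulVec.2 fun y => by
      rw [suVal_mul, suVal_mul, ← Matrix.mulVec_mulVec, ← Matrix.mulVec_mulVec, suVal_tv, suVal_tv, suVal_tv,
        suVal_tv]
      show eMat q (D.e + w) 0 (r * D.c0) *ᵥ (eMat q (D.e + r • w) 0 (-D.c0) *ᵥ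
        (eMat q w 0 (r * (r - 1) * D.c0) *ᵥ y)) = eMat q D.e 0 ((r - 1) * D.c0) *ᵥ y
      simp only [tv_apply' hF, h_add_left, h_add_right hF, h_smul_left, h_smul_right hF, D.pair.ee, hew, hwW.1, hww,
        hr, mul_zero, add_zero]
      module)
  have h3 : D.z ⟨_, hc4⟩ • b = b := by rw [← key, mul_smul, mul_smul, hW w hwW hww, f2, f1]
  exact mul_ne_zero (sub_ne_zero.2 hr1) D.c0_ne
    (congrArg Subtype.val (moved_of_orbit hF D hfree (mem_orbit_self b) h3))

theorem no_skew {x1 x2 : V} (hx1 : InR hF b x1) (hx2 : InR hF b x2) (e1 : h x1 D.e = 1) (e2 : h x2 D.e = 1)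
    (hs : h x1 D.f ≠ h x2 D.f) (hγ : h x1 x2 + cj (h x1 x2) = 0) (hγ0 : h x1 x2 ≠ 0) : False := by
  have hc : -(h x1 x2)⁻¹ + cj (-(h x1 x2)⁻¹) = 0 := by
    rw [map_neg, map_inv₀, eq_neg_of_add_eq_zero_right hγ, inv_neg, neg_neg, neg_add_cancel]
  have h1 := inR_tv hF hx1 hx2 hc
  rw [neg_mul, inv_mul_cancel₀ hγ0, neg_one_smul, ← sub_eq_add_neg] at h1
  have h2 := no_e_w hF D hfree hout hW h1 (by rw [h_sub_left, e1, e2, sub_self])
  rw [h_sub_left, sub_eq_zero] at h2
  exact hs h2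

theorem no_indep' {x1 x2 : V} (hx1 : InR hF b x1) (hx2 : InR hF b x2) (e1 : h x1 D.e = 1) (e2 : h x2 D.e = 1)
    (hs : h x1 D.f ≠ h x2 D.f) (hw : wPart (q := q) D.e D.f x1 ≠ 0)
    (hind : ¬∃ t : F, wPart (q := q) D.e D.f x2 = t • wPart (q := q) D.e D.f x1) : False := by
  have hc := D.c0_skew
  by_cases hδ : D.c0 - h x1 x2 = 0
  · rw [sub_eq_zero] at hδ
    exact no_skew hF D hfree hout hW hx1 hx2 e1 e2 hs (hδ ▸ hc) (hδ ▸ D.c0_ne)
  set w1 := wPart (q := q) D.e D.f x1 with hw1def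
  set w2 := wPart (q := q) D.e D.f x2 with hw2def
  have fail : ∀ c : F, c ≠ 0 → c + cj c = 0 →
      h w2 w2 ≠ 0 ∧ h w2 w2 * ((D.c0 - h x1 x2) / cj c) = h w1 w2 := by
    intro c hc0' hcc
    have hcj : cj c ≠ 0 := (map_ne_zero _).2 hc0'
    refine (exists_prescribed hF D (wPart_mem hF D.pair x1) (wPart_mem hF D.pair x2) hw hind
      (div_ne_zero hδ hcj)).resolve_left ?_
    rintro ⟨u, hu, huu, hu1, hu2⟩
    rw [h_wPart_left hF D hu] at hu1 hu2
    have h3 : InR hF b (x2 + (c * h x2 u) • u) := inR_tv hF hx2 ⟨huu, hW u hu huu⟩ hcc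
    rw [hu2, mul_one] at h3
    have h4 : h x1 (x2 + c • u) = D.c0 := by
      rw [h_add_right hF, h_smul_right hF, hu1, mul_div_cancel₀ _ hcj]; ring
    exact no_skew hF D hfree hout hW hx1 h3 e1
      (by rw [h_add_left, h_smul_left, hu.1, mul_zero, add_zero, e2])
      (by rwa [h_add_left, h_smul_left, hu.2, mul_zero, add_zero]) (h4.symm ▸ hc) (h4.symm ▸ D.c0_ne)
  obtain ⟨h22, hf⟩ := fail D.c0 D.c0_ne hc
  have hcj : cj D.c0 ≠ 0 := (map_ne_zero _).2 D.c0_ne
  rcases (two_le_q hF).eq_or_lt with hq2 | hq3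
  · have hsq : ∀ y : F, cj y = y ^ 2 := fun y => (cj_pow hF y).symm.trans (congrArg (y ^ ·) hq2.symm)
    have h2 : (2 : F) = 0 := by
      have e := FiniteField.cast_card_eq_zero F
      rw [hF, ← hq2] at e
      norm_num at e
      exact mul_self_eq_zero.1 (show (2 : F) * 2 = 0 by linear_combination e)
    have hc1 : D.c0 = 1 := by
      rw [hsq] at hc
      exact mul_left_cancel₀ D.c0_ne (show D.c0 * D.c0 = D.c0 * 1 by linear_combination hc - D.c0 * h2)
    have h221 : h w2 w2 = 1 := by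
      have e := cj_h_self hF w2
      rw [hsq] at e
      exact mul_left_cancel₀ h22 (show h w2 w2 * h w2 w2 = h w2 w2 * 1 by linear_combination e)
    rw [h221, hc1, map_one, div_one, one_mul] at hf
    have hxe := wPart_eq (q := q) D.e D.f x2
    rw [e2, one_smul, ← hw2def] at hxe
    have hγ : h x1 x2 = cj (h x2 D.f) + h x1 D.f + h w1 w2 := by
      conv_lhs => rw [hxe]
      rw [h_add_right hF, h_add_right hF, h_smul_right hF, e1, mul_one, hw1def,
        h_wPart_left hF D (wPart_mem hF D.pair x2)]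
    have hsing : h x2 D.f + cj (h x2 D.f) + 1 = 0 := by
      have e := hx2.1
      have hW2 := wPart_mem hF D.pair x2
      rw [← hw2def] at hW2
      generalize h x2 D.f = s at hxe ⊢
      rw [hxe] at e
      simp only [h_add_left, h_add_right hF, h_smul_left, h_smul_right hF, D.pair.ee, D.pair.ef, D.pair.fe hF,
        D.pair.ff, hW2.1, hW2.2, h_comm_zero hF hW2.1, h_comm_zero hF hW2.2, h221] at e
      linear_combination e
    rw [hγ] at hf
    exact hs (by linear_combination -hf - hsing + (1 - h w1 w2) * h2)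
  obtain ⟨r, -, -, -, hr, hr0, hr1, -⟩ := exists_real_root hF hq3
  obtain ⟨-, hg⟩ := fail (r * D.c0) (mul_ne_zero hr0 D.c0_ne) (real_mul_skew hF hr hc)
  rw [← hg, map_mul, hr, mul_div_assoc', mul_div_assoc', div_eq_div_iff hcj (mul_ne_zero hr0 hcj)] at hf
  have h0 : (r - 1) * (h w2 w2 * (D.c0 - h x1 x2) * cj D.c0) = 0 := by linear_combination hf
  exact mul_ne_zero (sub_ne_zero.2 hr1) (mul_ne_zero (mul_ne_zero h22 hδ) hcj) h0

theorem no_indep {x1 x2 : V} (hx1 : InR hF b x1) (hx2 : InR hF b x2) (e1 : h x1 D.e = 1) (e2 : h x2 D.e = 1)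
    (hs : h x1 D.f ≠ h x2 D.f) (hw1 : wPart (q := q) D.e D.f x1 ≠ 0) (hw2 : wPart (q := q) D.e D.f x2 ≠ 0) :
    False := by
  set w1 := wPart (q := q) D.e D.f x1
  set w2 := wPart (q := q) D.e D.f x2
  by_cases hind : ∃ t : F, w2 = t • w1
  swap
  · exact no_indep' hF D hfree hout hW hx1 hx2 e1 e2 hs hw1 hind
  obtain ⟨t, ht⟩ := hind
  obtain ⟨u, hu, huu, hne⟩ := exists_singular_ne hF D (wPart_mem hF D.pair x2) hw2
  have hne' : h x2 u ≠ 0 := by rwa [← h_wPart_left hF D hu]
  set k := D.c0 * h x2 u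
  have hk : k ≠ 0 := mul_ne_zero D.c0_ne hne'
  refine no_indep' hF D hfree hout hW hx1 (inR_tv hF hx2 ⟨huu, hW u hu huu⟩ D.c0_skew) e1
    (by rw [h_add_left, h_smul_left, hu.1, mul_zero, add_zero, e2])
    (by rwa [h_add_left, h_smul_left, hu.2, mul_zero, add_zero]) hw1 ?_
  rintro ⟨t', ht'⟩
  rw [wPart_add hF, wPart_smul hF, wPart_of_mem hF hu] at ht'
  change w2 + k • u = t' • w1 at ht'
  rw [ht, ← eq_sub_iff_add_eq', ← sub_smul, ← eq_inv_smul_iff₀ hk, smul_smul] at ht'
  set l := k⁻¹ * (t' - t)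
  have hl : l ≠ 0 := fun e0 => hne (by rw [ht', e0, zero_smul, h_zero_right hF])
  have h1 : h w1 w1 = 0 := by
    rw [ht', h_smul_left, h_smul_right hF] at huu
    exact ((mul_eq_zero.1 huu).resolve_left hl |> mul_eq_zero.1).resolve_left ((map_ne_zero _).2 hl)
  refine hne ?_
  change h w2 u = 0
  rw [ht, ht', h_smul_left, h_smul_right hF, h1, mul_zero, mul_zero]

/-- A vector of the plane and one outside. -/
theorem no_mixed {x1 x2 : V} (hx1 : InR hF b x1) (hx2 : InR hF b x2) (e1 : h x1 D.e = 1) (e2 : h x2 D.e = 1)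
    (hs : h x1 D.f ≠ h x2 D.f) (hw1 : wPart (q := q) D.e D.f x1 = 0) (hw2 : wPart (q := q) D.e D.f x2 ≠ 0) :
    False := by
  set s1 := h x1 D.f with hs1
  set s2 := h x2 D.f with hs2
  have hx1e : x1 = s1 • D.e + D.f := by
    have := wPart_eq (q := q) D.e D.f x1
    rwa [hw1, e1, one_smul, add_zero] at this
  have hsk : s1 + cj s1 = 0 := by
    have h1 := hx1.1
    rw [hx1e, h_add_left, h_add_right hF, h_add_right hF, h_smul_left, h_smul_left, h_smul_right hF,
      h_smul_right hF, D.pair.ee, D.pair.ef, D.pair.fe hF, D.pair.ff] at h1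
    linear_combination h1
  have hγ : h x2 x1 = s2 - s1 := by
    conv_lhs => arg 5; rw [hx1e]
    rw [h_add_right hF, h_smul_right hF, e2, ← hs2]
    linear_combination hsk
  set k := D.c0 * h x2 x1 with hk
  have hk0 : k ≠ 0 := mul_ne_zero D.c0_ne (by rw [hγ]; exact sub_ne_zero.2 (Ne.symm hs))
  have hy := inR_tv hF hx2 hx1 D.c0_skew
  rw [← hk] at hy
  have ye : h (x2 + k • x1) D.e = 1 + k := by rw [h_add_left, h_smul_left, e1, e2, mul_one]
  have yf : h (x2 + k • x1) D.f = s2 + k * s1 := by rw [h_add_left, h_smul_left]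
  by_cases h0 : 1 + k = 0
  · have h1 := no_e_w hF D hfree hout hW hy (ye.trans h0)
    rw [yf, eq_neg_of_add_eq_zero_right h0] at h1
    exact hs (by linear_combination -h1)
  refine no_indep hF D hfree hout hW hx2 (inR_smul hF hy (1 + k)⁻¹) e2
    (by rw [h_smul_left, ye, inv_mul_cancel₀ h0]) ?_ hw2 ?_
  · rw [h_smul_left, yf, ← hs2]
    intro h1
    rw [eq_inv_mul_iff_mul_eq₀ h0] at h1
    exact hs (mul_left_cancel₀ hk0 (by linear_combination -h1))
  · rw [wPart_smul hF, wPart_add hF, wPart_smul hF, hw1, smul_zero, add_zero]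
    exact smul_ne_zero (inv_ne_zero h0) hw2

theorem no_two {x1 x2 : V} (hx1 : InR hF b x1) (hx2 : InR hF b x2) (e1 : h x1 D.e = 1) (e2 : h x2 D.e = 1) :
    h x1 D.f = h x2 D.f := by
  by_contra hs
  by_cases hw1 : wPart (q := q) D.e D.f x1 = 0 <;> by_cases hw2 : wPart (q := q) D.e D.f x2 = 0
  · set s1 := h x1 D.f with hs1
    set s2 := h x2 D.f with hs2
    have hx : ∀ x : V, InR hF b x → h x D.e = 1 → wPart (q := q) D.e D.f x = 0 →
        x = h x D.f • D.e + D.f ∧ h x D.f + cj (h x D.f) = 0 := by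
      intro x hxR xe xw
      have h0 : x = h x D.f • D.e + D.f := by
        have := wPart_eq (q := q) D.e D.f x
        rwa [xw, xe, one_smul, add_zero] at this
      refine ⟨h0, ?_⟩
      have h1 := hxR.1
      generalize h x D.f = s at h0 ⊢
      rw [h0, h_add_left, h_add_right hF, h_add_right hF, h_smul_left, h_smul_left, h_smul_right hF,
        h_smul_right hF, D.pair.ee, D.pair.ef, D.pair.fe hF, D.pair.ff] at h1
      linear_combination h1
    obtain ⟨-, hk1⟩ := hx x1 hx1 e1 hw1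
    obtain ⟨hxe, hk2⟩ := hx x2 hx2 e2 hw2
    rw [← hs1] at hk1
    rw [← hs2] at hk2 hxe
    have hγ : h x1 x2 = s1 - s2 := by
      rw [hxe, h_add_right hF, h_smul_right hF, e1, ← hs1]
      linear_combination hk2
    refine no_skew hF D hfree hout hW hx1 hx2 e1 e2 hs ?_ (hγ ▸ sub_ne_zero.2 hs)
    rw [hγ, map_sub]
    linear_combination hk1 - hk2
  · exact no_mixed hF D hfree hout hW hx1 hx2 e1 e2 hs hw1 hw2
  · exact no_mixed hF D hfree hout hW hx2 hx1 e2 e1 (Ne.symm hs) hw2 hw1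
  · exact no_indep hF D hfree hout hW hx1 hx2 e1 e2 hs hw1 hw2

/-- The set is not inside the orthogonal space. -/
theorem not_inW (hall : ∀ x : V, InR hF b x → x ∈ D.W) : False := by
  obtain ⟨v, hv, hvv⟩ := exists_aniso hF (nondeg_wSub hF D.pair) (by
    rw [card_wSub hF D.pair D.dim]
    exact Nat.one_lt_pow (by have := D.dge; omega) (by have := two_le_q hF; omega))
  obtain ⟨u, hu, hu0, huu, -⟩ := exists_singular_perp hF D.pair D.dim D.dge hv hvv
  obtain ⟨u', hu', -, huu'⟩ := wSub_partner hF D.pair hu hu0 huu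
  have H : EOK (q := q) u D.f 0 := ⟨huu, h_comm_zero hF hu.2, by
    rw [cj_pow hF, map_zero, D.pair.ff, add_zero, add_zero]⟩
  set g := eSU hF H
  have hge : suVal g *ᵥ D.e = D.e - u := by
    rw [suVal_eSU, eMat_mulVec, h_comm_zero hF hu.1, D.pair.ef]; simp; abel
  have hgeu : suVal g *ᵥ (D.e + u) = D.e := by
    rw [suVal_eSU, eMat_mulVec, h_add_left, h_add_left, h_comm_zero hF hu.1, D.pair.ef, huu, hu.2]
    simp
  have hgi : suVal g⁻¹ *ᵥ D.e = D.e + u := by
    conv_lhs => arg 2; rw [← hgeu]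
    rw [Matrix.mulVec_mulVec, suVal_inv_mul, Matrix.one_mulVec]
  by_cases hm : g • b ∈ orbit D.Q b
  swap
  · have h1 := inR_of_notMem hF D hfree hout hW hm
    rw [hgi] at h1
    have h2 := (hall _ h1).2
    rw [h_add_left, D.pair.ef, hu.2, add_zero] at h2
    exact one_ne_zero h2
  obtain ⟨x, hx, hxb⟩ := smul_mem_of_orbit hF D hm
  set g' := x⁻¹ * g
  have hg' : g' • b = b := by rw [mul_smul, ← hxb, inv_smul_smul]
  have hpres : ∀ g : SU n F q, g • b = b → ∀ w ∈ D.W, suVal g *ᵥ w ∈ D.W := fun g hg =>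
    wSub_induction hF D.pair hu hu0 huu (C := fun w => suVal g *ᵥ w ∈ D.W)
      (fun z hz hzz => hall _ (inR_map hF ⟨hzz, hW z hz hzz⟩ hg)) fun s t _ _ hs ht => by
        show suVal g *ᵥ (s + t) ∈ D.W
        rw [Matrix.mulVec_add]; exact Submodule.add_mem _ hs ht
  have h1 : h (suVal g' *ᵥ D.e) u' = 0 := by
    have h2 := hpres g'⁻¹ (by rw [inv_smul_eq_iff, hg']) u' hu'
    rw [show u' = suVal g' *ᵥ (suVal g'⁻¹ *ᵥ u') by
      rw [Matrix.mulVec_mulVec, suVal_mul_inv, Matrix.one_mulVec], su_form]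
    exact h_comm_zero hF h2.1
  obtain ⟨hwx, Hx, ex⟩ := heisX_eq hF D.pair (le_refl D.W) hx
  have hxu : suVal x *ᵥ u' = u' - h u' (wOf D.e D.f x) • D.e := by
    conv_lhs => rw [ex, suVal_eSU, eMat_mulVec, hu'.1]
    simp; abel
  rw [suVal_mul, ← Matrix.mulVec_mulVec, hge, ← su_form x, Matrix.mulVec_mulVec _ (suVal x), suVal_mul_inv,
    Matrix.one_mulVec, hxu, h_sub_left, h_sub_right hF, h_sub_right hF, h_smul_right hF, h_smul_right hF,
    h_comm_zero hF hu'.1, D.pair.ee, huu', hu.1] at h1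
  simp at h1

/-- The set does not lie over one vector of the plane. -/
theorem not_line (hfew : Few n F q Ω) (hok : 3 ≤ q ∨ Odd n ∨ (q + 1) * Fintype.card Ω < normCount n F q (1 : F)) {x0 : V} (hx0 : InR hF b x0) (e0 : h x0 D.e = 1)
    (hall : ∀ x : V, InR hF b x → h x D.f = h x0 D.f * h x D.e) : False := by
  set s0 := h x0 D.f with hs0
  set α := -cj s0 with hαdef
  set z := α • D.e + D.f with hz
  have hze : h z D.e = 1 := by rw [hz, h_add_left, h_smul_left, D.pair.ee, D.pair.fe hF]; ring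
  have hzf : h z D.f = α := by rw [hz, h_add_left, h_smul_left, D.pair.ef, D.pair.ff]; ring
  have hz0 : z ≠ 0 := fun e0 => by rw [e0, h_zero_left] at hze; exact one_ne_zero hze.symm
  have hperp : ∀ x : V, InR hF b x → h x z = 0 := fun x hx => by
    rw [hz, h_add_right hF, h_smul_right hF, hall x hx, hαdef, map_neg, cj_cj]; ring
  have hline : ∀ g : SU n F q, g • b = b → ∃ μ : F, suVal g *ᵥ z = μ • z := by
    intro g hg
    set v := suVal g *ᵥ z with hv
    have hperp' : ∀ x : V, InR hF b x → h x v = 0 := fun x hx => by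
      rw [show x = suVal g *ᵥ (suVal g⁻¹ *ᵥ x) by
        rw [Matrix.mulVec_mulVec, suVal_mul_inv, Matrix.one_mulVec], hv, su_form]
      exact hperp _ (inR_map hF hx (inv_smul_eq_iff.2 hg.symm))
    have hwv : ∀ w ∈ D.W, h w v = 0 := fun w hw => by
      obtain ⟨a, ha, haa⟩ := exists_aniso hF (nondeg_wSub hF D.pair) (by
        rw [card_wSub hF D.pair D.dim]
        exact Nat.one_lt_pow (by have := D.dge; omega) (by have := two_le_q hF; omega))
      obtain ⟨z0, hz0, hz00, hzz, -⟩ := exists_singular_perp hF D.pair D.dim D.dge ha haa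
      exact wSub_induction hF D.pair hz0 hz00 hzz (C := fun w => h w v = 0)
        (fun y hy hyy => hperp' y ⟨hyy, hW y hy hyy⟩)
        (fun s t _ _ hs ht => by show h (s + t) v = 0; rw [h_add_left, hs, ht, add_zero]) w hw
    have hwp : wPart (q := q) D.e D.f v = 0 := wSub_eq_zero hF D.pair (wPart_mem hF D.pair v) fun y hy => by
      rw [h_wPart_left hF D hy]; exact h_comm_zero hF (hwv y hy)
    have hveq := wPart_eq (q := q) D.e D.f v
    rw [hwp, add_zero] at hveq
    have h1 := hperp' x0 hx0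
    rw [hveq, h_add_right hF, h_smul_right hF, h_smul_right hF, e0, ← hs0] at h1
    refine ⟨h v D.e, ?_⟩
    have h2 : h v D.f = h v D.e * α := by
      have h3 := congrArg cj h1
      rw [map_zero, map_add, map_mul, map_mul, map_one, cj_cj, cj_cj] at h3
      rw [hαdef]
      linear_combination h3
    conv_lhs => rw [hveq, h2]
    rw [hz, smul_add, smul_smul]
  by_cases hzz : h z z = 0
  · -- the stabiliser fixes an isotropic line
    have hn : 3 ≤ n := by have := D.dim; have := D.dge; omega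
    have := hfew.trans
    choose s hs using fun x : Ω => exists_smul_eq (SU n F q) b x
    let φ : Ω × Fˣ → {v : V // v ≠ 0 ∧ h v v = 0} := fun p =>
      ⟨(p.2 : F) • (suVal (s p.1) *ᵥ z), smul_ne_zero p.2.ne_zero fun e1 => hz0 (su_injective _ e1), by
        rw [h_smul_left, h_smul_right hF, su_form, hzz]; ring⟩
    have hφ : Function.Surjective φ := by
      rintro ⟨v, hv, hvv⟩
      obtain ⟨g, hg⟩ := su_transitive hF hn hz0 hzz hv hvv
      obtain ⟨μ, hμ⟩ := hline ((s (g • b))⁻¹ * g) (by rw [mul_smul, inv_smul_eq_iff]; exact (hs _).symm)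
      have h1 : v = μ • (suVal (s (g • b)) *ᵥ z) := by
        rw [← Matrix.mulVec_smul, ← hμ, suVal_mul, ← Matrix.mulVec_mulVec, Matrix.mulVec_mulVec _ (suVal (s (g • b))),
          suVal_mul_inv, Matrix.one_mulVec, hg]
      exact ⟨(g • b, Units.mk0 μ fun e1 => hv (by rw [h1, e1, zero_smul])), Subtype.ext h1.symm⟩
    have h1 := Nat.card_le_card_of_surjective φ hφ
    rw [card_iso hF, Nat.card_prod, Nat.card_units, Nat.card_eq_fintype_card, Nat.card_eq_fintype_card, hF,
      mul_comm] at h1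
    exact absurd hfew.lt (not_lt.2 h1)
  by_cases hline' : Odd n ∨ (q + 1) * Fintype.card Ω < normCount n F q (1 : F)
  · -- the stabiliser fixes a nonsingular line
    have := hfew.trans
    choose s hs using fun x : Ω => exists_smul_eq (SU n F q) b x
    let U := {μ : F // μ * cj μ = 1}
    let φ : Ω × U → {v : V // h v v = h z z} := fun p =>
      ⟨p.2.1 • (suVal (s p.1) *ᵥ z), by rw [h_smul_left, h_smul_right hF, su_form, ← mul_assoc, p.2.2, one_mul]⟩
    have hφ : Function.Surjective φ := by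
      rintro ⟨v, hv⟩
      obtain ⟨g, hg⟩ := su_transitive_norm hF D hzz hv.symm
      obtain ⟨μ, hμ⟩ := hline ((s (g • b))⁻¹ * g) (by rw [mul_smul, inv_smul_eq_iff]; exact (hs _).symm)
      have h1 : v = μ • (suVal (s (g • b)) *ᵥ z) := by
        rw [← Matrix.mulVec_smul, ← hμ, suVal_mul, ← Matrix.mulVec_mulVec, Matrix.mulVec_mulVec _ (suVal (s (g • b))),
          suVal_mul_inv, Matrix.one_mulVec, hg]
      have hN : μ * cj μ = 1 := by
        rw [h1, h_smul_left, h_smul_right hF, su_form] at hv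
        exact mul_right_cancel₀ hzz (by linear_combination hv)
      exact ⟨(g • b, ⟨μ, hN⟩), Subtype.ext h1.symm⟩
    have h1 := Nat.card_le_card_of_surjective φ hφ
    rw [Nat.card_prod, Nat.card_eq_fintype_card (α := Ω), normCount_ne hF (cj_h_self hF z) hzz] at h1
    have hU : Nat.card U ≤ q + 1 := by
      refine (Nat.card_le_card_of_injective (fun μ : U => (⟨μ.1, ?_⟩ : (Polynomial.nthRoots (q + 1) (1 : F)).toFinset))
        fun a c hac => Subtype.ext (congrArg (fun y => y.1) hac)).trans ?_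
      · rw [Multiset.mem_toFinset, Polynomial.mem_nthRoots (Nat.succ_pos q), pow_succ', cj_pow hF]
        exact μ.2
      · rw [Nat.card_eq_fintype_card, Fintype.card_coe]
        exact (Multiset.toFinset_card_le _).trans (Polynomial.card_nthRoots _ _)
    rcases hline' with hodd | hlt
    swap
    · exact absurd (h1.trans ((Nat.mul_le_mul_left _ hU).trans (mul_comm _ _).le)) (not_le.2 hlt)
    rw [normCount_odd hF hodd] at h1
    have hq := two_le_q hF
    have h2 : (q - 1) * (q ^ (n - 1) * (q ^ n + 1)) ≤ (q ^ 2 - 1) * Fintype.card Ω := by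
      rw [show q ^ 2 - 1 = (q - 1) * (q + 1) by rw [mul_comm, ← Nat.sq_sub_sq, one_pow], mul_assoc]
      refine Nat.mul_le_mul_left _ ?_
      exact (h1.trans (Nat.mul_le_mul_left _ hU)).trans (mul_comm _ _).le
    have h3 : isoNum n F q ≤ (q - 1) * (q ^ (n - 1) * (q ^ n + 1)) := by
      rw [isoNum_odd hF hodd (by have := D.dim; have := D.dge; omega), mul_comm _ (q ^ (n - 1) - 1)]
      calc (q ^ (n - 1) - 1) * (q ^ n + 1) ≤ q ^ (n - 1) * (q ^ n + 1) := Nat.mul_le_mul_right _ (Nat.sub_le _ _)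
        _ = 1 * (q ^ (n - 1) * (q ^ n + 1)) := (one_mul _).symm
        _ ≤ _ := Nat.mul_le_mul_right _ (by omega)
    exact absurd (h3.trans h2) (not_le.2 hfew.lt)
  have hq3 := hok.resolve_right hline'
  -- a transvection of the second vector
  have htr : s0 + cj s0 ≠ 0 := fun e1 => hzz (by
    rw [hz, h_add_left, h_add_right hF, h_add_right hF, h_smul_left, h_smul_left, h_smul_right hF, h_smul_right hF,
      D.pair.ee, D.pair.ef, D.pair.fe hF, D.pair.ff, hαdef, map_neg, cj_cj]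
    linear_combination -e1)
  have hα : α ≠ 0 := fun e1 => htr (by
    rw [hαdef, neg_eq_zero, map_eq_zero] at e1
    rw [e1, map_zero, add_zero])
  obtain ⟨⟨c, hc⟩, hc0, hbad⟩ : ∃ c : skew hF, (c : F) ≠ 0 ∧ (c : F) ≠ (α - cj α) / (α * cj α) := by
    by_contra hcon
    push Not at hcon
    have h1 : Nat.card (skew hF) ≤ 2 := by
      refine (Nat.card_le_card_of_injective (fun c : skew hF => (⟨c, ?_⟩ :
        ({0, (α - cj α) / (α * cj α)} : Finset F))) fun s t hst => Subtype.ext (congrArg (fun y => y.1) hst)).trans ?_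
      · rw [Finset.mem_insert, Finset.mem_singleton]
        exact (em ((c : F) = 0)).imp_right (hcon c)
      · rw [Nat.card_eq_fintype_card, Fintype.card_coe]; exact Finset.card_le_two
    rw [card_skew hF] at h1
    omega
  have hcc : c + cj c = 0 := hc
  set g := tv hF D.pair.ff ⟨c, hc⟩
  have hgi : suVal g⁻¹ *ᵥ D.e = D.e + (-c) • D.f := by
    rw [← tv_neg, suVal_tv, tv_apply' hF, D.pair.ef, mul_one]; rfl
  by_cases hm : g • b ∈ orbit D.Q b
  swap
  · have h1 := hall _ (inR_of_notMem hF D hfree hout hW hm)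
    rw [hgi, h_add_left, h_add_left, h_smul_left, h_smul_left, D.pair.ef, D.pair.ff, D.pair.ee, D.pair.fe hF]
      at h1
    have h2 := congrArg cj h1
    simp only [map_add, map_mul, map_neg, map_one, map_zero, eq_neg_of_add_eq_zero_right hcc] at h2
    have h3 : (s0 + cj s0) * c = 0 := by linear_combination h1 - h2
    exact htr ((mul_eq_zero.1 h3).resolve_right hc0)
  obtain ⟨x, hx, hxb⟩ := smul_mem_of_orbit hF D hm
  obtain ⟨μ, hμ⟩ := hline (x⁻¹ * g) (by rw [mul_smul, ← hxb, inv_smul_smul])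
  have hgz : suVal g *ᵥ z = z + (c * α) • D.f := by rw [suVal_tv, tv_apply' hF, hzf]
  have hμ1 : μ = 1 + c * α := by
    have h1 : h (suVal (x⁻¹ * g) *ᵥ z) D.e = μ := by rw [hμ, h_smul_left, hze, mul_one]
    rw [← h1, suVal_mul, ← Matrix.mulVec_mulVec, ← su_form x, Matrix.mulVec_mulVec _ (suVal x), suVal_mul_inv,
      Matrix.one_mulVec, Q_fix hF D hx, hgz, h_add_left, h_smul_left, hze, D.pair.fe hF, mul_one]
  have hN : μ * cj μ = 1 := by
    have h1 := su_form (x⁻¹ * g) z z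
    rw [hμ, h_smul_left, h_smul_right hF] at h1
    exact mul_right_cancel₀ hzz (by linear_combination h1)
  rw [hμ1, map_add, map_one, map_mul, eq_neg_of_add_eq_zero_right hcc] at hN
  have h4 : c * ((α - cj α) - c * (α * cj α)) = 0 := by linear_combination hN
  refine hbad ?_
  rw [eq_div_iff (mul_ne_zero hα ((map_ne_zero _).2 hα))]
  linear_combination -((mul_eq_zero.1 h4).resolve_left hc0)

omit D hfree hout hW

/-- There is no action on fewer points than isotropic lines. -/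
theorem not_few (D : Data hF n) (hok : 3 ≤ q ∨ Odd n ∨ (q + 1) * Fintype.card Ω < normCount n F q (1 : F))
    (hbig : 3 ≤ q ∨ 7 ≤ D.d ∨ D.d % 3 ≠ 1) : ¬ Few n F q Ω := by
  intro hfew
  obtain ⟨b, hfree, hout, hW⟩ := exists_point hF D hfew hbig
  have hnorm : ∀ x : V, InR hF b x → h x D.e ≠ 0 →
      ∃ y, InR hF b y ∧ h y D.e = 1 ∧ h y D.f = h x D.f / h x D.e := fun x hx hne =>
    ⟨(h x D.e)⁻¹ • x, inR_smul hF hx _, by rw [h_smul_left, inv_mul_cancel₀ hne],
      by rw [h_smul_left, div_eq_inv_mul]⟩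
  by_cases hex : ∃ x : V, InR hF b x ∧ h x D.e ≠ 0
  · obtain ⟨x, hx, hne⟩ := hex
    obtain ⟨x0, hx0, e0, -⟩ := hnorm x hx hne
    refine not_line hF D hfree hout hW hfew hok hx0 e0 fun y hy => ?_
    by_cases hy0 : h y D.e = 0
    · rw [hy0, mul_zero, no_e_w hF D hfree hout hW hy hy0]
    · obtain ⟨y', hy', ye, yf⟩ := hnorm y hy hy0
      rw [← no_two hF D hfree hout hW hy' hx0 ye e0, yf, div_mul_cancel₀ _ hy0]
  · push Not at hex
    exact not_inW hF D hfree hout hW fun y hy =>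
      ⟨hex y hy, no_e_w hF D hfree hout hW hy (hex y hy)⟩

/-! ### The minimal index -/

/-- The lower bound and the attained value for `PSU_n(q)`, given the number of isotropic vectors. -/
theorem min_index_of (hok : 3 ≤ q ∨ Odd n) (hn : 5 ≤ n) {K : ℕ} (hK : (q ^ 2 - 1) * K = isoNum n F q) :
    (∀ H : Subgroup (PSU n F q), H ≠ ⊤ → K ≤ H.index) ∧ ∃ H : Subgroup (PSU n F q), H.index = K := by
  have hpos : 0 < q ^ 2 - 1 := by
    have : 2 ^ 2 ≤ q ^ 2 := Nat.pow_le_pow_left (two_le_q hF) 2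
    omega
  obtain ⟨e, he0, hee⟩ := exists_isotropic (n := n) hF (by omega)
  obtain ⟨f, P⟩ := exists_pair hF he0 hee
  obtain ⟨c0, hc00, hc0⟩ := exists_trace_zero hF
  obtain ⟨χ, hχ⟩ := (AddChar.exists_apply_ne_zero (α := skew hF) (a := ⟨c0, hc0⟩)).2
    fun e1 => hc00 (congrArg Subtype.val e1)
  let D : Data hF n := ⟨e, f, n - 2, P, by omega, by omega, c0, hc00, hc0, χ, hχ⟩
  refine ⟨fun H hH => ?_, ?_⟩
  · set H' := H.comap (suToPSU n F q)
    have hidx : H'.index = H.index := Subgroup.index_comap_of_surjective H pi_surjective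
    by_contra hcon
    letI : Fintype (SU n F q ⧸ H') := Fintype.ofFinite _
    have hcard : Fintype.card (SU n F q ⧸ H') = H.index := by
      rw [← Nat.card_eq_fintype_card, ← hidx]; rfl
    refine not_few (Ω := SU n F q ⧸ H') hF D (hok.imp_right Or.inl) (hok.imp_right fun ho => ?_) ⟨inferInstance, ?_, ?_⟩
    · obtain ⟨j, hj⟩ := ho
      show 7 ≤ n - 2 ∨ (n - 2) % 3 ≠ 1
      omega
    · rw [hcard]
      have h0 : H'.index ≠ 0 := Subgroup.index_ne_zero_of_finite
      have h1 : H.index ≠ 1 := fun e1 => hH (Subgroup.index_eq_one.1 e1)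
      omega
    · rw [hcard, ← hK]
      exact Nat.mul_lt_mul_of_pos_left (not_le.1 hcon) hpos
  -- the stabiliser of an isotropic line
  let S : Subgroup (SU n F q) :=
    { carrier := {s | ∃ a : F, suVal s *ᵥ e = a • e}
      one_mem' := ⟨1, by rw [one_smul]; exact Matrix.one_mulVec e⟩
      mul_mem' := by
        rintro s t ⟨a, ha⟩ ⟨a', ha'⟩
        exact ⟨a' * a, by rw [suVal_mul, ← Matrix.mulVec_mulVec, ha', Matrix.mulVec_smul, ha, smul_smul]⟩
      inv_mem' := by
        rintro s ⟨a, ha⟩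
        refine ⟨a⁻¹, ?_⟩
        have ha0 : a ≠ 0 := fun e1 => he0 (su_injective s (by rw [ha, e1, zero_smul]))
        have h1 : suVal s⁻¹ *ᵥ (a • e) = e := by
          rw [← ha, Matrix.mulVec_mulVec, suVal_inv_mul, Matrix.one_mulVec]
        rw [Matrix.mulVec_smul] at h1
        rw [eq_comm, inv_smul_eq_iff₀ ha0, h1] }
  refine ⟨S.map (suToPSU n F q), ?_⟩
  rw [Subgroup.index_map_eq S pi_surjective fun s hs => by
    obtain ⟨l, hl⟩ := (pi_eq_one_iff hF).1 hs
    exact ⟨l, by rw [hl, Matrix.smul_mulVec, Matrix.one_mulVec]⟩]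
  let φ : (SU n F q ⧸ S) × Fˣ → {v : V // v ≠ 0 ∧ h v v = 0} := fun p =>
    ⟨(p.2 : F) • (suVal p.1.out *ᵥ e), smul_ne_zero p.2.ne_zero fun e1 => he0 (su_injective _ e1), by
      rw [h_smul_left, h_smul_right hF, su_form, hee]; ring⟩
  have hφ : Function.Bijective φ := by
    constructor
    · rintro ⟨x, a⟩ ⟨y, a'⟩ hab
      have h1 : (a : F) • (suVal x.out *ᵥ e) = (a' : F) • (suVal y.out *ᵥ e) := congrArg Subtype.val hab
      have h2 : x = y := by
        rw [← QuotientGroup.out_eq' x, ← QuotientGroup.out_eq' y, QuotientGroup.eq]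
        refine ⟨(a' : F)⁻¹ * a, ?_⟩
        rw [← smul_smul, eq_inv_smul_iff₀ a'.ne_zero, suVal_mul, ← Matrix.mulVec_mulVec, ← Matrix.mulVec_smul,
          ← h1, Matrix.mulVec_smul, Matrix.mulVec_mulVec, suVal_inv_mul, Matrix.one_mulVec]
      subst h2
      exact Prod.ext rfl (Units.ext (smul_left_injective F (fun e1 => he0 (su_injective _ e1)) h1))
    · rintro ⟨v, hv, hvv⟩
      obtain ⟨s, hs⟩ := su_transitive hF (by omega) he0 hee hv hvv
      obtain ⟨a, ha⟩ : ((QuotientGroup.mk s : SU n F q ⧸ S).out)⁻¹ * s ∈ S :=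
        QuotientGroup.eq.1 (QuotientGroup.out_eq' _)
      set x : SU n F q ⧸ S := QuotientGroup.mk s
      have h1 : v = a • (suVal x.out *ᵥ e) := by
        rw [← Matrix.mulVec_smul, ← ha, suVal_mul, ← Matrix.mulVec_mulVec, Matrix.mulVec_mulVec _ (suVal x.out),
          suVal_mul_inv, Matrix.one_mulVec, hs]
      exact ⟨(x, Units.mk0 a fun e1 => hv (by rw [h1, e1, zero_smul])), Subtype.ext h1.symm⟩
  have h1 := Nat.card_eq_of_bijective φ hφ
  rw [card_iso hF, Nat.card_prod, Nat.card_units, Nat.card_eq_fintype_card (α := F), hF, ← hK, mul_comm] at h1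
  exact Nat.eq_of_mul_eq_mul_left hpos h1

/-- The even case. -/
theorem min_index (hq : 3 ≤ q) (hn : 6 ≤ n) (heven : Even n) :
    (∀ H : Subgroup (PSU n F q), H ≠ ⊤ → (q ^ n - 1) * (q ^ (n - 1) + 1) / (q ^ 2 - 1) ≤ H.index) ∧
      ∃ H : Subgroup (PSU n F q), H.index = (q ^ n - 1) * (q ^ (n - 1) + 1) / (q ^ 2 - 1) := by
  obtain ⟨m, hm⟩ := heven
  refine min_index_of hF (Or.inl hq) (by omega) ?_
  have hdvd : q ^ 2 - 1 ∣ q ^ n - 1 := by
    rw [hm, ← two_mul, pow_mul]
    simpa using Nat.sub_dvd_pow_sub_pow (q ^ 2) 1 m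
  rw [Nat.mul_div_cancel' (hdvd.mul_right _)]
  obtain ⟨j, rfl⟩ : ∃ j, n = j + 2 := ⟨n - 2, by omega⟩
  have h1 := Cfsg.Agent.Fus.UnitStab.iso_count (F := F) hF j
  have hje : Even j := ⟨m - 1, by omega⟩
  rw [hje.neg_one_pow, (hje.add_one).neg_one_pow] at h1
  zify [Nat.one_le_pow (j + 2) q (by omega)]
  rw [show j + 2 - 1 = j + 1 by omega]
  simpa [isoNum, sub_eq_add_neg] using h1.symm

/-- The odd case. -/
theorem min_index_odd (hn : 5 ≤ n) (hodd : Odd n) :
    (∀ H : Subgroup (PSU n F q), H ≠ ⊤ → (q ^ n + 1) * (q ^ (n - 1) - 1) / (q ^ 2 - 1) ≤ H.index) ∧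
      ∃ H : Subgroup (PSU n F q), H.index = (q ^ n + 1) * (q ^ (n - 1) - 1) / (q ^ 2 - 1) := by
  refine min_index_of hF (Or.inr hodd) hn ?_
  have hdvd : q ^ 2 - 1 ∣ q ^ (n - 1) - 1 := by
    obtain ⟨m, hm⟩ := hodd
    rw [hm, Nat.add_sub_cancel, pow_mul]
    simpa using Nat.sub_dvd_pow_sub_pow (q ^ 2) 1 m
  rw [Nat.mul_div_cancel' (hdvd.mul_left _), isoNum_odd hF hodd (by omega)]

end Cfsg.Agent.Lie.MinIndexUnit
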