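import Cfsg.Agent.Lib.Lie.MinIndexUnitThree

/-! In an action on few points the annihilators are the whole space, and one orbit is regular. -/

set_option autoImplicit false
set_option linter.unusedSectionVars false
set_option maxHeartbeats 1000000

namespace Cfsg.Agent.Lie.MinIndexUnit

open Matrix Finset MulAction Cfsg Cfsg.Agent.Classical Cfsg.Agent.Classical.PSUAut

universe u

attribute [local instance 10] _root_.Classical.propDecidable

variable {F : Type*} [Field F] [Fintype F] {q n : ℕ}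

local notation "V" => (Fin n → F)

variable (hF : Fintype.card F = q ^ 2)

local notation "h" => hermForm n F q
local notation "cj" => qFrob hF

include hF

/-! ### The annihilators in an action on few points -/

variable (D : Data hF n) {Ω : Type u} [Fintype Ω] [MulAction (SU n F q) Ω]

open Data

theorem W_def : D.W = wSub q D.e D.f := rfl

theorem A_le_W {v : V} {A : AddSubgroup V} (hA : A ∈ D.Av Ω v) {x : V} (hx : x ∈ A) : x ∈ D.W := by
  obtain ⟨b, -, rfl⟩ := Finset.mem_image.1 hA
  exact hx.1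

theorem mem_of_mem_Av {v : V} {A : AddSubgroup V} (hA : A ∈ D.Av Ω v) : v ∈ A := by
  obtain ⟨b, hb, rfl⟩ := Finset.mem_image.1 hA
  exact (Finset.mem_filter.1 hb).2

theorem sq_card_of_mem {v : V} {A : AddSubgroup V} (hA : A ∈ D.Av Ω v) :
    q ^ (2 * D.d) ≤ Nat.card A * Nat.card A := by
  obtain ⟨b, hb, rfl⟩ := Finset.mem_image.1 hA
  exact sq_card_A hF D (Finset.mem_filter.1 hb).1

variable (hfew : Few n F q Ω)
include hfew

/-- Transvections orthogonal to an anisotropic vector of an annihilator preserve it. -/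
theorem tv_stable (hd4 : 4 ≤ D.d) {v : V} {A : AddSubgroup V} (hA : A ∈ D.Av Ω v) (hvv : h v v ≠ 0) {u : V} (hu : u ∈ D.W)
    (huu : h u u = 0) (hvu : h v u = 0) (c : skew hF) : mapA (tv hF huu c) A = A := by
  have hv : v ∈ D.W := A_le_W hF D hA (mem_of_mem_Av hF D hA)
  rcases eq_or_ne u 0 with rfl | hu0
  · rw [show tv hF huu c = 1 from suVal_ext (Matrix.ext_iff_mulVec.2 fun x => by
      rw [suVal_tv, tv_apply' hF, smul_zero, add_zero]; exact (Matrix.one_mulVec x).symm), mapA_one hF]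
  by_contra hne
  obtain ⟨u', hu', P', hvu'⟩ := exists_partner_perp hF D.pair hv hvv hu hu0 huu hvu
  set X := perp3 q D.W v u u'
  have hX : X ≤ wSub q u u' := fun x hx => ⟨hx.2.2.1, hx.2.2.2⟩
  let St : Subgroup (SU n F q) :=
    { carrier := {g | g ∈ heisX hF P'.ee X ∧ mapA g A = A}
      one_mem' := ⟨one_mem _, mapA_one hF A⟩
      mul_mem' := fun {a b} ha hb => ⟨mul_mem ha.1 hb.1, by rw [mapA_mul hF, hb.2, ha.2]⟩
      inv_mem' := fun {a} ha => ⟨inv_mem ha.1, by
        conv_lhs => arg 2; rw [← ha.2]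
        rw [← mapA_mul hF, inv_mul_cancel, mapA_one hF]⟩ }
  have h1 := card_le_Av_mul hF D (Ω := Ω) hA (H := heisX hF P'.ee X) (fun g hg => ?_) (St := St) fun g => Iff.rfl
  swap
  · obtain ⟨w, hw, c', H, hs⟩ := hg
    have eg : g = eSU hF H := suVal_ext hs
    refine ⟨eg ▸ eSU_mem_gW hF hu hw.1 H, ?_⟩
    rw [hs, eMat_mulVec, hvu, h_comm_zero hF hw.2.1]
    simp
  have h2 := four_sq_card_le hF P' hX (St := St) (fun g hg => hg.1)
    (nondeg_perp3 hF D.pair P' hu hu' hv hvv hvu hvu') ⟨c, fun hc => hne hc.2⟩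
  rw [card_heisX hF P' hX] at h1
  have h3 := Av_lt hF D hfew hd4 hv hvv
  have hcard : Nat.card X * q ^ 2 * (q ^ 2) ^ 2 = q ^ (2 * D.d) := by
    rw [card_perp3 hF D.pair P' hu hu' hv hvv hvu hvu', card_perp2 hF D.pair P' hu hu', card_wSub hF D.pair D.dim]
  set x := Nat.card X
  set a := (D.Av Ω v).card
  set s := Nat.card St
  have hq := two_le_q hF
  have hx : 0 < x := Nat.card_pos
  have h4 : x * q * (x * q) * 4 ≤ a * a * (q * q * x) :=
    calc x * q * (x * q) * 4 ≤ a * s * (a * s) * 4 := by gcongr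
      _ = a * a * (4 * (s * s)) := by ring
      _ ≤ _ := by gcongr
  have h5 : 4 * x ≤ a * a :=
    Nat.le_of_mul_le_mul_left (le_trans (le_of_eq (by ring)) (h4.trans (le_of_eq (by ring))))
      (Nat.mul_pos (Nat.mul_pos (show 0 < q by omega) (show 0 < q by omega)) hx)
  have h6 : x < q * q := by nlinarith
  have h7 : q ^ (2 * D.d) < q ^ 8 := by
    rw [← hcard]
    calc x * q ^ 2 * (q ^ 2) ^ 2 < q * q * q ^ 2 * (q ^ 2) ^ 2 := by gcongr
      _ = _ := by ring
  have := (Nat.pow_lt_pow_iff_right (show 1 < q by omega)).1 h7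
  have := D.dge
  omega

theorem smul_mem_of_stable (hd4 : 4 ≤ D.d) {v : V} {A : AddSubgroup V} (hA : A ∈ D.Av Ω v) (hvv : h v v ≠ 0) {u : V}
    (hu : u ∈ D.W) (huu : h u u = 0) (hvu : h v u = 0) {a : V} (ha : a ∈ A) {c : F} (hc : c + cj c = 0) :
    (c * h a u) • u ∈ A := by
  have h1 := mem_mapA hF (g := tv hF huu ⟨c, hc⟩) ha
  rw [tv_stable hF D hfew hd4 hA hvv hu huu hvu] at h1
  rw [suVal_tv, tv_apply' hF] at h1
  simpa using A.sub_mem h1 ha

/-- An annihilator through an anisotropic vector contains everything orthogonal to that vector. -/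
theorem perp_le (hd4 : 4 ≤ D.d) {v : V} {A : AddSubgroup V} (hA : A ∈ D.Av Ω v) (hvv : h v v ≠ 0) {x : V} (hx : x ∈ D.W)
    (hvx : h v x = 0) : x ∈ A := by
  have hv : v ∈ D.W := A_le_W hF D hA (mem_of_mem_Av hF D hA)
  have hq := two_le_q hF
  -- an element with a component orthogonal to `v`
  obtain ⟨a, ha, ha'⟩ : ∃ a ∈ A, awayFrom q v a ≠ 0 := by
    by_contra hcon
    push Not at hcon
    have h1 : Nat.card A ≤ q ^ 2 := by
      rw [← hF, ← Nat.card_eq_fintype_card]
      refine Nat.card_le_card_of_injective (fun a : A => h (a : V) v / h v v) fun a b hab => Subtype.ext ?_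
      have e1 := hcon a a.2
      have e2 := hcon b b.2
      rw [awayFrom, sub_eq_zero] at e1 e2
      rw [e1, e2, show h (a : V) v / h v v = h (b : V) v / h v v from hab]
    have h2 := (sq_card_of_mem hF D hA).trans (Nat.mul_le_mul h1 h1)
    rw [← pow_add] at h2
    have := (Nat.pow_le_pow_iff_right (show 1 < q by omega)).1 h2
    have := D.dge
    omega
  set a' := awayFrom q v a with hdef
  have ha'm : a' ∈ D.W := Submodule.sub_mem _ (A_le_W hF D hA ha) (Submodule.smul_mem _ _ hv)
  have ha'v : h a' v = 0 := by rw [hdef, awayFrom, h_sub_left, h_smul_left, div_mul_cancel₀ _ hvv, sub_self]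
  obtain ⟨u1, hu1, huu1, hvu1, hne1⟩ :=
    exists_singular_h_ne hF D.pair D.dim D.dge hv hvv ha'm ha' (h_comm_zero hF ha'v)
  have hau : h a u1 = h a' u1 := by
    rw [hdef, awayFrom, h_sub_left, h_smul_left, hvu1, mul_zero, sub_zero]
  have hu10 : u1 ≠ 0 := fun e0 => hne1 (by rw [e0, h_zero_right hF])
  obtain ⟨k0, hk0, hk⟩ := exists_trace_zero hF
  have ha1 : (k0 * h a u1) • u1 ∈ A := smul_mem_of_stable hF D hfew hd4 hA hvv hu1 huu1 hvu1 ha hk
  set l0 := k0 * h a u1
  have hl0 : l0 ≠ 0 := mul_ne_zero hk0 (hau ▸ hne1)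
  obtain ⟨u2, hu2, P12, hvu2⟩ := exists_partner_perp hF D.pair hv hvv hu1 hu10 huu1 hvu1
  -- an anisotropic vector orthogonal to both
  obtain ⟨z, hz, hzz⟩ := exists_aniso hF (nondeg_perp3 hF D.pair P12 hu1 hu2 hv hvv hvu1 hvu2) (by
    by_contra hcon
    have e1 := card_perp3 hF D.pair P12 hu1 hu2 hv hvv hvu1 hvu2
    have e2 := card_perp2 hF D.pair P12 hu1 hu2
    rw [card_wSub hF D.pair D.dim, ← e1] at e2
    have h3 : q ^ (2 * D.d) ≤ 1 * q ^ 2 * (q ^ 2) ^ 2 := by
      rw [← e2]
      gcongr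
      exact not_lt.1 hcon
    rw [one_mul, ← pow_mul, ← pow_add] at h3
    have := (Nat.pow_le_pow_iff_right (show 1 < q by omega)).1 h3
    have := D.dge
    omega)
  obtain ⟨μ, hμ⟩ := exists_trace_eq hF (a := -h z z) (by rw [map_neg, cj_h_self hF])
  set u3 := u2 + z + μ • u1 with hu3
  have hu3m : u3 ∈ D.W := Submodule.add_mem _ (Submodule.add_mem _ hu2 hz.1) (Submodule.smul_mem _ μ hu1)
  have hu3u3 : h u3 u3 = 0 := by
    rw [hu3]
    simp only [h_add_left, h_add_right hF, h_smul_left, h_smul_right hF, P12.ee, P12.ef, P12.ff, P12.fe hF,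
      hz.2.2.1, hz.2.2.2, h_comm_zero hF hz.2.2.1, h_comm_zero hF hz.2.2.2]
    linear_combination hμ
  have hvu3 : h v u3 = 0 := by
    rw [hu3, h_add_right hF, h_add_right hF, h_smul_right hF, hvu1, hvu2, h_comm_zero hF hz.2.1]; ring
  have h13 : h u1 u3 = 1 := by
    rw [hu3, h_add_right hF, h_add_right hF, h_smul_right hF, P12.ee, P12.ef, h_comm_zero hF hz.2.2.1]; ring
  have h32 : h u3 u2 = μ := by
    rw [hu3, h_add_left, h_add_left, h_smul_left, P12.ef, P12.ff, hz.2.2.2]; ring
  have L2 : ∀ t : F, t • u2 ∈ A := by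
    intro t
    set τ := μ + cj μ
    have hτ : τ ≠ 0 := by
      rw [show τ = -h z z from hμ]
      exact neg_ne_zero.2 hzz
    set s := t / l0
    set r := (s + cj s) / τ
    have hr : cj r = r := by
      show cj ((s + cj s) / (μ + cj μ)) = _
      rw [map_div₀, map_add, map_add, cj_cj, cj_cj, add_comm (cj s), add_comm (cj μ)]
    have hk1 : (s - r * μ) + cj (s - r * μ) = 0 := by
      have : r * τ = s + cj s := div_mul_cancel₀ _ hτ
      rw [map_sub, map_mul, hr]
      linear_combination -this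
    have t1 := smul_mem_of_stable hF D hfew hd4 hA hvv hu2 P12.ff hvu2 ha1 hk1
    rw [h_smul_left, P12.ef, mul_one] at t1
    have t2 := smul_mem_of_stable hF D hfew hd4 hA hvv hu3m hu3u3 hvu3 ha1 hk
    rw [h_smul_left, h13, mul_one] at t2
    have hrk : r / k0 + cj (r / k0) = 0 := by
      rw [map_div₀, hr, eq_neg_of_add_eq_zero_right hk, div_neg, add_neg_cancel]
    have t3 := smul_mem_of_stable hF D hfew hd4 hA hvv hu2 P12.ff hvu2 t2 hrk
    rw [h_smul_left, h32] at t3
    have hsum := A.add_mem t1 t3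
    rw [← add_smul, show (s - r * μ) * l0 + r / k0 * (k0 * l0 * μ) = t by
      rw [show r / k0 * (k0 * l0 * μ) = r / k0 * k0 * (l0 * μ) by ring, div_mul_cancel₀ _ hk0,
        show t = s * l0 from (div_mul_cancel₀ _ hl0).symm]
      ring] at hsum
    exact hsum
  have prop : ∀ u : V, (∀ t : F, t • u ∈ A) → ∀ w ∈ D.W, h w w = 0 → h v w = 0 → h u w ≠ 0 →
      ∀ t : F, t • w ∈ A := by
    intro u hu' w hw hww hvw hne t
    have h1 := smul_mem_of_stable hF D hfew hd4 hA hvv hw hww hvw (hu' (t / (k0 * h u w))) hk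
    rwa [h_smul_left, show k0 * (t / (k0 * h u w) * h u w) = t / (k0 * h u w) * (k0 * h u w) by ring,
      div_mul_cancel₀ _ (mul_ne_zero hk0 hne)] at h1
  have hu20 : u2 ≠ 0 := fun e0 => by simpa [e0, h_zero_right hF] using P12.ef
  have sing : ∀ w ∈ D.W, h w w = 0 → h v w = 0 → ∀ t : F, t • w ∈ A := by
    intro w hw hww hvw
    by_cases h1 : h u2 w ≠ 0
    · exact prop u2 L2 w hw hww hvw h1
    push Not at h1
    rcases eq_or_ne w 0 with rfl | hw0
    · intro t; rw [smul_zero]; exact A.zero_mem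
    obtain ⟨w', hw', Pw, hvw'⟩ := exists_partner_perp hF D.pair hv hvv hw hw0 hww hvw
    by_cases h2 : h u1 w ≠ 0
    · exact prop u1 (prop u2 L2 u1 hu1 huu1 hvu1 (by rw [P12.fe hF]; exact one_ne_zero)) w hw hww hvw h2
    by_cases h3 : h u2 w' ≠ 0
    · exact prop w' (prop u2 L2 w' hw' Pw.ff hvw' h3) w hw hww hvw (by rw [Pw.fe hF]; exact one_ne_zero)
    push Not at h2 h3
    obtain ⟨b, hb⟩ := exists_trace_eq hF (a := -(h u1 w' + cj (h u1 w'))) (by
      rw [map_neg, map_add, cj_cj, add_comm])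
    set x := u1 + w' + b • u2 with hxdef
    have hxx : h x x = 0 := by
      rw [hxdef]
      simp only [h_add_left, h_add_right hF, h_smul_left, h_smul_right hF, P12.ee, P12.ef, P12.ff, P12.fe hF,
        Pw.ff, h3, h_comm_zero hF h3, cj_h hF]
      rw [cj_h hF] at hb
      linear_combination hb
    have hxm : x ∈ D.W := Submodule.add_mem _ (Submodule.add_mem _ hu1 hw') (Submodule.smul_mem _ b hu2)
    have hvx' : h v x = 0 := by
      rw [hxdef, h_add_right hF, h_add_right hF, h_smul_right hF, hvu1, hvu2, hvw']; ring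
    refine prop x (prop u2 L2 x hxm hxx hvx' ?_) w hw hww hvw ?_
    · rw [hxdef, h_add_right hF, h_add_right hF, h_smul_right hF, P12.fe hF, P12.ff, h3]
      simp
    · rw [hxdef, h_add_left, h_add_left, h_smul_left, h2, h1, Pw.fe hF]
      simp
  have hone : ∀ w ∈ D.W, h w w = 0 → h v w = 0 → w ∈ A := fun w hw hww hvw => by
    have := sing w hw hww hvw 1
    rwa [one_smul] at this
  by_cases hxx : h x x = 0
  · exact hone x hx hxx hvx
  have hx0 : x ≠ 0 := fun e0 => hxx (by rw [e0, h_zero_left])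
  obtain ⟨u, hu, huu, hvu, hne⟩ := exists_singular_h_ne hF D.pair D.dim D.dge hv hvv hx hx0 hvx
  obtain ⟨r, hr⟩ := exists_trace_eq hF (a := h x x) (cj_h_self hF x)
  set b := cj (r / h x u)
  have hsplit : h (x - b • u) (x - b • u) = 0 := by
    rw [h_sub_left, h_sub_right hF, h_sub_right hF, h_smul_left, h_smul_left, h_smul_right hF, h_smul_right hF,
      huu, ← cj_h hF x u, ← map_mul, cj_cj, div_mul_cancel₀ _ hne]
    linear_combination -hr
  have := A.add_mem (hone _ (Submodule.sub_mem _ hx (Submodule.smul_mem _ b hu)) hsplit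
    (by rw [h_sub_right hF, h_smul_right hF, hvx, hvu, mul_zero, sub_zero])) (sing u hu huu hvu b)
  rwa [sub_add_cancel] at this

/-- An annihilator through an anisotropic vector is everything. -/
theorem eq_W_of_aniso (hd4 : 4 ≤ D.d) {v : V} {A : AddSubgroup V} (hA : A ∈ D.Av Ω v) (hvv : h v v ≠ 0) {x : V}
    (hx : x ∈ D.W) : x ∈ A := by
  have hv : v ∈ D.W := A_le_W hF D hA (mem_of_mem_Av hF D hA)
  obtain ⟨ω, hω, hωv, hωω⟩ := exists_aniso_perp hF D.pair D.dim (d_three hF D) v
  obtain ⟨b, hb, rfl⟩ := Finset.mem_image.1 hA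
  have hb' := (Finset.mem_filter.1 hb).1
  have hA' : D.A b ∈ D.Av Ω ω := mem_Av hF D hb' (perp_le hF D hfew hd4 hA hvv hω (h_comm_zero hF hωv))
  have h1 : ((h x v / h v v) • v : V) ∈ D.A b :=
    perp_le hF D hfew hd4 hA' hωω (Submodule.smul_mem _ _ hv) (by rw [h_smul_right hF, hωv, mul_zero])
  have h2 : awayFrom q v x ∈ D.A b :=
    perp_le hF D hfew hd4 hA hvv (Submodule.sub_mem _ hx (Submodule.smul_mem _ _ hv))
      (h_comm_zero hF (by rw [awayFrom, h_sub_left, h_smul_left, div_mul_cancel₀ _ hvv, sub_self]))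
  have := AddSubgroup.add_mem _ h2 h1
  rwa [awayFrom, sub_add_cancel] at this

/-- An annihilator is everything. -/
theorem A_eq_W {b : Ω} (hb : b ∈ D.M) {x : V} (hx : x ∈ D.W) : x ∈ D.A b := by
  rcases D.dge.eq_or_lt with hd3 | hd4
  · exact A_eq_W_three hF D hfew hd3.symm hb hx
  by_contra hxA
  have hq := two_le_q hF
  have hsing : ∀ a ∈ D.A b, h a a = 0 := fun a ha => by
    by_contra hne
    exact hxA (eq_W_of_aniso hF D hfew hd4 (mem_Av hF D hb ha) hne hx)
  have hbig : 1 < Nat.card (D.A b) := by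
    by_contra hcon
    have h1 := (sq_card_A hF D hb).trans (Nat.mul_le_mul (not_lt.1 hcon) (not_lt.1 hcon))
    have h2 : 1 < q ^ (2 * D.d) := Nat.one_lt_pow (by have := D.dge; omega) (by omega)
    omega
  obtain ⟨v, hv, hv0⟩ : ∃ v ∈ D.A b, v ≠ 0 :=
    (D.A b).bot_or_exists_ne_zero.resolve_left fun e0 => by rw [e0, AddSubgroup.card_bot] at hbig; omega
  set k := (D.Av Ω v).card
  have hAv : ∀ a ∈ D.A b, a ≠ 0 → (D.Av Ω a).card = k := fun a ha ha0 => by
    obtain ⟨g, hg, rfl⟩ := gW_transitive hF D.pair D.dim (d_three hF D) hv.1 hv0 ha.1 ha0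
      (by rw [hsing v hv, hsing a ha])
    exact card_Av_eq hF D hg v
  -- few annihilators through a singular vector
  have hk : k ≤ q := by
    by_contra hcon
    have h1 := class_le hF D (Ω := Ω) hv.1 hv0
    have hw : Nat.card {w : D.W // w ≠ 0 ∧ h (w : V) (w : V) = h v v} = wCount q D.e D.f 0 - 1 := by
      rw [hsing v hv, wCount, Nat.card_eq_fintype_card, Nat.card_eq_fintype_card, Fintype.card_subtype,
        Fintype.card_subtype, ← Finset.card_erase_of_mem (a := (0 : D.W))
          (Finset.mem_filter.2 ⟨Finset.mem_univ _, by rw [ZeroMemClass.coe_zero, h_zero_left]⟩)]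
      congr 1
      ext w
      simp [and_comm]
    rw [hw] at h1
    have h2 := lt_of_mul_iso hF D hfew (bounds hF D.pair D.dim hd4).2.1
    have h3 := Nat.mul_le_mul_left (q * (wCount q D.e D.f 0 - 1)) (show q + 1 ≤ k by omega)
    have e1 : q * (q + 1) * (wCount q D.e D.f 0 - 1) = q * (wCount q D.e D.f 0 - 1) * (q + 1) := by ring
    have h4 := lt_of_lt_of_le h2 (le_of_le_of_eq (e1.le.trans h3) rfl)
    exact absurd h1 (not_le.2 (by linarith))
  -- so the annihilator is totally isotropic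
  have horth : ∀ w ∈ D.A b, ∀ a ∈ D.A b, h a w = 0 := by
    intro w hw a ha
    by_contra hne
    have hw0 : w ≠ 0 := fun e0 => hne (by rw [e0, h_zero_right hF])
    obtain ⟨w', hw', hww', hw1⟩ := wSub_partner hF D.pair hw.1 hw0 (hsing w hw)
    have P' : IsPair (q := q) w w' := ⟨hsing w hw, hww', hw1⟩
    set X := perp2 q D.W w w'
    have hX : X ≤ wSub q w w' := inf_le_right
    let St : Subgroup (SU n F q) :=
      { carrier := {g | g ∈ heisX hF P'.ee X ∧ mapA g (D.A b) = D.A b}
        one_mem' := ⟨one_mem _, mapA_one hF _⟩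
        mul_mem' := fun {x y} hx hy => ⟨mul_mem hx.1 hy.1, by rw [mapA_mul hF, hy.2, hx.2]⟩
        inv_mem' := fun {x} hx => ⟨inv_mem hx.1, by
          conv_lhs => arg 2; rw [← hx.2]
          rw [← mapA_mul hF, inv_mul_cancel, mapA_one hF]⟩ }
    have h1 := card_le_Av_mul hF D (Ω := Ω) (mem_Av hF D hb hw) (H := heisX hF P'.ee X) (fun g hg => ?_)
      (St := St) fun g => Iff.rfl
    swap
    · obtain ⟨y, hy, c', H, hs⟩ := hg
      have eg : g = eSU hF H := suVal_ext hs
      refine ⟨eg ▸ eSU_mem_gW hF hw.1 hy.1 H, ?_⟩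
      rw [hs, eMat_mulVec, P'.ee, H.ew hF]
      simp
    have hSt : St ≤ heisX hF P'.ee X := fun g hg => hg.1
    have h2 : ∀ s ∈ img hF P' hX hSt, h s s = 0 := by
      rintro _ ⟨g, hg, rfl⟩
      obtain ⟨hy, H, hgeq⟩ := heisX_eq hF P' hX hg.1
      have hga : suVal g *ᵥ a ∈ D.A b := by
        have := mem_mapA hF (g := g) ha
        rwa [hg.2] at this
      have h4 := hsing _ ((D.A b).sub_mem hga ha)
      rw [hgeq, suVal_eSU, eMat_mulVec, add_sub_cancel_left] at h4
      set y := wOf w w' g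
      set cc := cOf w' g
      have hyw : h y w = 0 := (hX hy).1
      simp only [h_add_left, h_sub_left, h_add_right hF, h_sub_right hF, h_smul_left, h_smul_right hF,
        hsing w hw, hyw, h_comm_zero hF hyw] at h4
      have h5 : h a w * cj (h a w) * h y y = 0 := by linear_combination h4
      exact (mul_eq_zero.1 h5).resolve_left (mul_ne_zero hne ((map_ne_zero _).2 hne))
    have h3 := sq_card_singular_le hF (nondeg_perp2 hF D.pair P' hw.1 hw')
      (fun s hs => img_le hF P' hX hSt hs) h2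
    have hC : Nat.card (ctr hF P'.ee St) ≤ q := by
      refine le_trans (AddSubgroup.card_le_card_addGroup _) ?_
      rw [card_skew hF]
    rw [card_heisX hF P' hX, card_st hF P' hX hSt, hAv w hw hw0] at h1
    have hcard : Nat.card X * (q ^ 2) ^ 2 = q ^ (2 * D.d) := by
      rw [card_perp2 hF D.pair P' hw.1 hw', card_wSub hF D.pair D.dim]
    set x := Nat.card X
    set i := Nat.card (img hF P' hX hSt)
    have h4 : x ≤ q * i := by
      refine Nat.le_of_mul_le_mul_left ?_ (show 0 < q by omega)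
      calc q * x = x * q := mul_comm _ _
        _ ≤ k * (Nat.card (ctr hF P'.ee St) * i) := h1
        _ ≤ q * (q * i) := by gcongr
    have h5 : x * x ≤ q * q * x :=
      calc x * x ≤ q * i * (q * i) := Nat.mul_le_mul h4 h4
        _ = q * q * (i * i) := by ring
        _ ≤ _ := by gcongr
    have h6 : x ≤ q * q := Nat.le_of_mul_le_mul_right h5 Nat.card_pos
    have h7 : q ^ (2 * D.d) ≤ q ^ 6 := by
      rw [← hcard]
      calc x * (q ^ 2) ^ 2 ≤ q * q * (q ^ 2) ^ 2 := by gcongr
        _ = _ := by ring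
    have := (Nat.pow_le_pow_iff_right (show 1 < q by omega)).1 h7
    have := D.dge
    omega
  -- and it is a subspace
  set L := Submodule.span F ((D.A b : Set V))
  have hLW : L ≤ D.W := Submodule.span_le.2 fun a ha => ha.1
  have hLorth : ∀ s ∈ L, ∀ t ∈ L, h s t = 0 := by
    have h1 : ∀ s ∈ D.A b, ∀ t ∈ L, h s t = 0 := by
      intro s hs t ht
      induction ht using Submodule.span_induction with
      | mem x hx => exact horth x hx s hs
      | zero => exact h_zero_right hF s
      | add x y _ _ hx hy => rw [h_add_right hF, hx, hy, add_zero]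
      | smul c x _ hx => rw [h_smul_right hF, hx, mul_zero]
    intro s hs t ht
    induction hs using Submodule.span_induction with
    | mem x hx => exact h1 x hx t ht
    | zero => exact h_zero_left t
    | add x y _ _ hx hy => rw [h_add_left, hx, hy, add_zero]
    | smul c x _ hx => rw [h_smul_left, hx, mul_zero]
  have hAL : ∀ a ∈ D.A b, a ∈ L := fun a ha => Submodule.subset_span ha
  have hLA : ∀ a ∈ L, a ∈ D.A b := by
    have h1 : Nat.card L * Nat.card L ≤ q ^ (2 * D.d) := by
      rw [← card_wSub hF D.pair D.dim]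
      exact sq_card_singular_le hF (nondeg_wSub hF D.pair) (S := L.toAddSubgroup) (fun s hs => hLW hs)
        fun s hs => hLorth s hs s hs
    have h2 : Nat.card L ≤ Nat.card (D.A b) := Nat.mul_self_le_mul_self_iff.1 (h1.trans (sq_card_A hF D hb))
    have h3 := AddSubgroup.eq_of_le_of_card_ge (show D.A b ≤ L.toAddSubgroup from hAL) h2
    intro a ha
    rw [h3]
    exact ha
  obtain ⟨a, ha, hna⟩ : ∃ a ∈ D.A b, ¬∃ t : F, a = t • v := by
    by_contra hcon
    push Not at hcon
    choose t ht using hcon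
    have h1 : Nat.card (D.A b) ≤ q ^ 2 := by
      rw [← hF, ← Nat.card_eq_fintype_card]
      refine Nat.card_le_card_of_injective (fun a : D.A b => t a.1 a.2) fun x y hxy => Subtype.ext ?_
      rw [ht x.1 x.2, ht y.1 y.2, show t x.1 x.2 = t y.1 y.2 from hxy]
    have h2 := (sq_card_A hF D hb).trans (Nat.mul_le_mul h1 h1)
    rw [← pow_add] at h2
    have := (Nat.pow_le_pow_iff_right (show 1 < q by omega)).1 h2
    have := D.dge
    omega
  obtain ⟨y, hya, hyv⟩ := exists_sep hF hna
  set y' := wPart (q := q) D.e D.f y with hy'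
  have hy'm : y' ∈ D.W := wPart_mem hF D.pair y
  have hy'a : h y' a = 1 := by
    rw [← cj_h hF, hy', h_wPart_right hF ha.1, cj_h hF, hya]
  have hy'v : h y' v = 0 := h_comm_zero hF (by rw [hy', h_wPart_right hF hv.1]; exact h_comm_zero hF hyv)
  have hay : h a y' = 1 := by rw [← cj_h hF, hy'a, map_one]
  obtain ⟨t, ht⟩ := exists_trace_eq hF (a := -h y' y') (by rw [map_neg, cj_h_self hF])
  set w := y' + t • a with hw
  have hwm : w ∈ D.W := Submodule.add_mem _ hy'm (Submodule.smul_mem _ t ha.1)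
  have haw : h a w = 1 := by rw [hw, h_add_right hF, h_smul_right hF, hay, hsing a ha]; ring
  have hww : h w w = 0 := by
    rw [hw]
    simp only [h_add_left, h_add_right hF, h_smul_left, h_smul_right hF, hy'a, hay, hsing a ha]
    linear_combination ht
  have hvw : h v w = 0 := by
    rw [hw, h_add_right hF, h_smul_right hF, h_comm_zero hF hy'v, horth a ha v hv]; ring
  let G : skew hF → AddSubgroup V := fun c => mapA (tv hF hww c) (D.A b)
  have hTv : ∀ c : skew hF, suVal (tv hF hww c) *ᵥ v = v := fun c => by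
    rw [suVal_tv, tv_apply' hF, hvw, mul_zero, zero_smul, add_zero]
  have hG : ∀ c : skew hF, G c ∈ D.Av Ω v := fun c => by
    have := mapA_mem_Av hF D (g := tv hF hww c) (tv_mem_gW hF hwm _) (mem_Av hF D hb hv)
    rwa [hTv] at this
  have hwA : w ∉ D.A b := fun hwA => one_ne_zero (haw.symm.trans (horth w hwA a ha))
  have hGinj : Function.Injective G := fun c c' hcc => by
    by_contra hne
    have hstab : mapA (tv hF hww (-c' + c)) (D.A b) = D.A b := by
      rw [tv_add, mapA_mul hF, show mapA (tv hF hww c) (D.A b) = mapA (tv hF hww c') (D.A b) from hcc,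
        ← mapA_mul hF, ← tv_add, neg_add_cancel, tv_zero, mapA_one hF]
    have h1 := mem_mapA hF (g := tv hF hww (-c' + c)) ha
    rw [hstab, suVal_tv, tv_apply' hF, haw, mul_one] at h1
    have h2 : ((-c' + c : skew hF) : F) • w ∈ D.A b := by simpa using (D.A b).sub_mem h1 ha
    refine hwA (hLA _ ?_)
    have h3 := L.smul_mem ((-c' + c : skew hF) : F)⁻¹ (hAL _ h2)
    rwa [inv_smul_smul₀] at h3
    exact fun e0 => hne (neg_add_eq_zero.1 (Subtype.ext e0 : -c' + c = 0)).symm
  obtain ⟨k0, hk0, hk⟩ := exists_trace_zero hF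
  have hk' : -k0⁻¹ + cj (-k0⁻¹) = 0 := by
    rw [map_neg, map_inv₀, eq_neg_of_add_eq_zero_right hk, inv_neg, neg_neg, neg_add_cancel]
  set g := tv hF (hsing a ha) ⟨-k0⁻¹, hk'⟩ * tv hF hww ⟨k0, hk⟩
  have hgW : g ∈ gW q D.e D.f := mul_mem (tv_mem_gW hF ha.1 _) (tv_mem_gW hF hwm _)
  have hga : suVal g *ᵥ a = k0 • w := by
    rw [suVal_mul, ← Matrix.mulVec_mulVec, suVal_tv, suVal_tv]
    simp only [tv_apply' hF, h_add_left, h_smul_left, haw, ← cj_h hF a w, map_one, hsing a ha, mul_one, zero_add]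
    rw [neg_mul, inv_mul_cancel₀ hk0]
    simp
  have hgv : suVal g *ᵥ v = v := by
    rw [suVal_mul, ← Matrix.mulVec_mulVec, hTv, suVal_tv, tv_apply' hF, horth a ha v hv, mul_zero, zero_smul,
      add_zero]
  have hgA : mapA g (D.A b) ∈ D.Av Ω v := by
    have := mapA_mem_Av hF D hgW (mem_Av hF D hb hv)
    rwa [hgv] at this
  have hwg : w ∈ mapA g (D.A b) := by
    have := mem_mapA hF (g := g) (hLA _ (L.smul_mem k0⁻¹ (hAL _ ha)))
    rwa [Matrix.mulVec_smul, hga, inv_smul_smul₀ hk0] at this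
  have hnot : mapA g (D.A b) ∉ Finset.univ.image G := by
    intro hmem
    obtain ⟨c, -, hc⟩ := Finset.mem_image.1 hmem
    rw [← hc] at hwg
    obtain ⟨y, hy, hyw⟩ := hwg
    refine hwA ?_
    have e0 : suVal (tv hF hww c) *ᵥ y = w := hyw
    have e1 := congrArg (suVal (tv hF hww c)⁻¹ *ᵥ ·) e0
    simp only [Matrix.mulVec_mulVec, suVal_inv_mul, Matrix.one_mulVec] at e1
    rw [← tv_neg, suVal_tv, tv_apply' hF, hww, mul_zero, zero_smul, add_zero] at e1
    exact e1 ▸ hy
  have h8 : q + 1 ≤ k := by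
    have := Finset.card_le_card (s := insert (mapA g (D.A b)) (Finset.univ.image G)) (t := D.Av Ω v) (by
      intro A hA
      rcases Finset.mem_insert.1 hA with rfl | hA
      · exact hgA
      · obtain ⟨c, -, rfl⟩ := Finset.mem_image.1 hA
        exact hG c)
    rwa [Finset.card_insert_of_notMem hnot, Finset.card_image_of_injective _ hGinj, Finset.card_univ,
      ← Nat.card_eq_fintype_card, card_skew hF] at this
  omega

theorem card_S {b : Ω} (hb : b ∈ D.M) : Nat.card (D.S b) = 1 := by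
  have h1 := card_A hF D b
  have h2 : Nat.card (D.A b) = q ^ (2 * D.d) := by
    rw [← card_wSub hF D.pair D.dim]
    exact Nat.card_congr (Equiv.subtypeEquivRight fun x => ⟨fun hx => hx.1, fun hx => A_eq_W hF D hfew hb hx⟩)
  rw [h2] at h1
  exact mul_left_cancel₀ (pow_ne_zero _ (by have := two_le_q hF; omega)) (h1.trans (mul_one _).symm)

/-- There is one regular orbit of the Heisenberg group, and the transvections fix all other points. -/
theorem exists_regular : ∃ b : Ω, (∀ x ∈ D.Q, x • b = b → x = 1) ∧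
    ∀ b' : Ω, b' ∉ orbit D.Q b → ∀ c : skew hF, D.z c • b' = b' := by
  have hM : ∀ b ∈ D.M (Ω := Ω), Nat.card (D.stQ b) = Nat.card (D.C b) := fun b hb => by
    rw [card_stQ hF D, card_S hF D hfew hb, mul_one]
  have hm : D.m Ω = ∑ b ∈ D.M (Ω := Ω), Nat.card (D.stQ b) := (Finset.sum_congr rfl hM).symm
  obtain ⟨hb3, hb4⟩ := bounds_low hF D.pair D.dim D.dge
  have hlt : D.m Ω < 2 * (q ^ (2 * D.d) * q) :=
    Nat.lt_of_mul_lt_mul_left ((m_lt hF D hfew).trans hb3)
  obtain ⟨b0, hb0⟩ : (D.M (Ω := Ω)).Nonempty := by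
    by_contra hne
    have := m_pos hF D hfew
    rw [Finset.not_nonempty_iff_eq_empty] at hne
    rw [hm, hne, Finset.sum_empty] at this
    omega
  -- the orbit is all of M
  have hone : ∀ x ∈ D.M (Ω := Ω), x ∈ orbit D.Q b0 := by
    intro x hx
    by_contra hne
    have h1 := qN_le_sum hF D hb0 (fun y => y ∈ orbit D.Q b0) fun y hy => hy
    have h2 := qN_le_sum hF D hx (fun y => ¬ y ∈ orbit D.Q b0) fun y hy hy' =>
      hne (by rw [← orbit_eq_iff.2 hy']; exact orbit_eq_iff.2 hy ▸ mem_orbit_self x)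
    have h3 := Finset.sum_filter_add_sum_filter_not (D.M (Ω := Ω)) (fun y => y ∈ orbit D.Q b0)
      fun y => Nat.card (D.stQ y)
    rw [hm] at hlt
    omega
  have hval : D.m Ω = q ^ (2 * D.d) * q := by
    rw [hm, ← orbit_sum hF D b0]
    have hMeq : D.M (Ω := Ω) = univ.filter fun x => x ∈ orbit D.Q b0 := by
      ext x
      refine ⟨fun hx => Finset.mem_filter.2 ⟨Finset.mem_univ _, hone x hx⟩, fun hx => ?_⟩
      obtain ⟨y, hy, rfl⟩ := smul_mem_of_orbit hF D (Finset.mem_filter.1 hx).2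
      exact M_smul hF D (Q_fix hF D hy) hb0
    rw [hMeq, Finset.sum_congr rfl (fun x hx => by
      obtain ⟨y, hy, rfl⟩ := smul_mem_of_orbit hF D (Finset.mem_filter.1 hx).2
      rw [card_stQ hF D, C_smul hF D (Q_fix hF D hy), S_smul_Q hF D hy, ← card_stQ hF D] :
      ∀ x ∈ univ.filter (fun x => x ∈ orbit D.Q b0), Nat.card (D.stQ x) = Nat.card (D.stQ b0)),
      Finset.sum_const, smul_eq_mul, ← Fintype.card_subtype, ← Nat.card_eq_fintype_card]
  -- a point moved by all transvections
  obtain ⟨b, hb⟩ : ∃ b : Ω, Nat.card (D.C b) = 1 := by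
    by_contra hcon
    push Not at hcon
    obtain ⟨a0, ha0⟩ := exists_skew_ne hF D
    have h1 : ∀ c ∈ (univ : Finset (skew hF)).erase 0, D.fixN Ω c + q ^ (2 * D.d) * q = Fintype.card Ω :=
      fun c hc => by
        rw [← hval, add_comm]
        exact m_eq hF D hfew (Finset.ne_of_mem_erase hc)
    have h2 : ∑ c : skew hF, D.fixN Ω c = ∑ b : Ω, Nat.card (D.C b) := by
      have e1 : ∀ c : skew hF, D.fixN Ω c = ∑ b : Ω, if c ∈ D.C b then 1 else 0 := fun c => by
        rw [Finset.sum_boole, Data.fixN, Nat.card_eq_fintype_card, Fintype.card_subtype]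
        rfl
      simp only [e1]
      rw [Finset.sum_comm]
      refine Finset.sum_congr rfl fun b _ => ?_
      rw [Finset.sum_boole, Nat.cast_id, ← Fintype.card_subtype, ← Nat.card_eq_fintype_card]
    have h3 : ∀ b : Ω, 2 ≤ Nat.card (D.C b) := fun b => by
      have := Nat.card_pos (α := D.C b)
      have := hcon b
      omega
    have h4 : Fintype.card Ω * 2 ≤ ∑ b : Ω, Nat.card (D.C b) := by
      have := Finset.card_nsmul_le_sum (univ : Finset Ω) (fun b => Nat.card (D.C b)) 2 fun b _ => h3 b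
      simpa using this
    have hz : D.fixN Ω (0 : skew hF) = Fintype.card Ω := by
      rw [Data.fixN, ← Nat.card_eq_fintype_card]
      exact Nat.card_congr (Equiv.subtypeUnivEquiv fun b => by rw [Data.z, tv_zero, one_smul])
    have h5 : ∑ c ∈ (univ : Finset (skew hF)).erase 0, (D.fixN Ω c + q ^ (2 * D.d) * q) =
        (q - 1) * Fintype.card Ω := by
      rw [Finset.sum_congr rfl h1, Finset.sum_const, Finset.card_erase_of_mem (Finset.mem_univ _),
        Finset.card_univ, ← Nat.card_eq_fintype_card, card_skew hF, smul_eq_mul]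
    rw [Finset.sum_add_distrib, Finset.sum_const, Finset.card_erase_of_mem (Finset.mem_univ _), Finset.card_univ,
      ← Nat.card_eq_fintype_card, card_skew hF, smul_eq_mul] at h5
    rw [← Finset.add_sum_erase _ _ (Finset.mem_univ (0 : skew hF)), hz] at h2
    set s := ∑ c ∈ (univ : Finset (skew hF)).erase 0, D.fixN Ω c
    obtain ⟨q', hq'⟩ : ∃ q', q = q' + 2 := ⟨q - 2, by have := two_le_q hF; omega⟩
    have e2 : (q - 1) * Fintype.card Ω = (q - 2) * Fintype.card Ω + Fintype.card Ω := by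
      rw [← Nat.succ_mul]; congr 1; omega
    have h6 : (q - 1) * (q ^ (2 * D.d) * q) ≤ (q - 2) * Fintype.card Ω := by omega
    have h7 : (q - 2) * ((q ^ 2 - 1) * Fintype.card Ω) < (q ^ 2 - 1) * ((q - 1) * (q ^ (2 * D.d) * q)) :=
      lt_of_le_of_lt (Nat.mul_le_mul_left _ hfew.lt.le) hb4
    have h8 := Nat.mul_le_mul_left (q ^ 2 - 1) h6
    have e3 : (q - 2) * ((q ^ 2 - 1) * Fintype.card Ω) = (q ^ 2 - 1) * ((q - 2) * Fintype.card Ω) := by ring
    omega
  have hC0 : ∀ c ∈ D.C b, c = 0 := fun c hc => by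
    haveI := (Nat.card_eq_one_iff_unique.1 hb).1
    exact congrArg Subtype.val (Subsingleton.elim (⟨c, hc⟩ : D.C b) 0)
  have hbM : b ∈ D.M := (mem_M hF D).2 fun c hc => by rw [hC0 c hc, AddChar.map_zero_eq_one]
  have hfree : ∀ x ∈ D.Q, x • b = b → x = 1 := by
    intro x hx hxb
    have h1 : Nat.card (D.stQ b) = 1 := by rw [hM b hbM, hb]
    haveI := (Nat.card_eq_one_iff_unique.1 h1).1
    exact congrArg Subtype.val (Subsingleton.elim (⟨x, hx, hxb⟩ : D.stQ b) 1)
  refine ⟨b, hfree, fun b' hb' c => ?_⟩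
  by_contra hne
  have hc : c ≠ 0 := fun e0 => hne (by rw [e0, Data.z, tv_zero, one_smul])
  -- the orbit already accounts for all moved points
  have h1 : Nat.card {x : Ω // x ∈ orbit D.Q b} = q ^ (2 * D.d) * q := by
    have := orbit_sum hF D b
    rwa [hM b hbM, hb, mul_one] at this
  have hsub : insert b' (univ.filter fun x => x ∈ orbit D.Q b) ⊆ univ.filter fun x => ¬ D.z c • x = x := by
    intro x hx
    refine Finset.mem_filter.2 ⟨Finset.mem_univ _, fun hfix => ?_⟩
    rcases Finset.mem_insert.1 hx with rfl | hx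
    · exact hne hfix
    · obtain ⟨y, hy, rfl⟩ := smul_mem_of_orbit hF D (Finset.mem_filter.1 hx).2
      refine hc (hC0 c ?_)
      rw [← C_smul hF D (Q_fix hF D hy) b]
      exact hfix
  have h2 := Finset.card_le_card hsub
  rw [Finset.card_insert_of_notMem (fun h' => hb' (Finset.mem_filter.1 h').2), ← Fintype.card_subtype,
    ← Nat.card_eq_fintype_card, h1] at h2
  have h3 := Finset.card_filter_add_card_filter_not (s := (univ : Finset Ω)) (fun x => D.z c • x = x)
  rw [Finset.card_univ, ← Fintype.card_subtype, ← Nat.card_eq_fintype_card] at h3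
  have h4 := m_eq hF D hfew hc
  rw [hval] at h4
  change Nat.card {x : Ω // D.z c • x = x} + _ = _ at h3
  rw [Data.fixN] at h4
  omega

end Cfsg.Agent.Lie.MinIndexUnit
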