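import Cfsg.Agent.Lib.Lie.MinIndexUnitHeis

/-! Inequalities between the numbers of vectors of the norms in the orthogonal space of a hyperbolic pair. -/

set_option autoImplicit false
set_option linter.unusedSectionVars false

namespace Cfsg.Agent.Lie.MinIndexUnit

open Cfsg Cfsg.Agent.Classical Cfsg.Agent.Classical.PSUAut

variable {F : Type*} [Field F] [Fintype F] {q n : ℕ}

/-- The number of nonzero isotropic vectors. -/
noncomputable def isoNum (n : ℕ) (F : Type*) [Field F] (q : ℕ) : ℕ := normCount n F q (0 : F) - 1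

variable (hF : Fintype.card F = q ^ 2) {e f : Fin n → F}

include hF

set_option maxHeartbeats 1000000 in
/-- The numbers compared with the number of isotropic vectors. -/
theorem bounds (P : IsPair (q := q) e f) {d : ℕ} (hd : n = d + 2) (hd4 : 4 ≤ d) :
    (∀ r : F, qFrob hF r = r → r ≠ 0 → isoNum n F q ≤ (q ^ 2 - 1) * (2 * q ^ 2 * wCount q e f r)) ∧
      isoNum n F q ≤ (q ^ 2 - 1) * (q * (q + 1) * (wCount q e f 0 - 1)) ∧
      isoNum n F q < (q ^ 2 - 1) * (2 * (q ^ (2 * d) * q)) ∧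
      (q - 2) * isoNum n F q < (q ^ 2 - 1) * ((q - 1) * (q ^ (2 * d) * q)) := by
  have hq := two_le_q hF
  have hI := congrArg (Nat.cast : ℕ → ℤ) (normCount_eq hF P)
  have hpos : 1 ≤ normCount n F q (0 : F) :=
    Nat.card_pos_iff.2 ⟨⟨⟨0, by simp [hermForm]⟩⟩, inferInstance⟩
  have hwpos : 1 ≤ wCount q e f (0 : F) :=
    Nat.card_pos_iff.2 ⟨⟨⟨0, by rw [ZeroMemClass.coe_zero, h_zero_left]⟩⟩, inferInstance⟩
  have h0 := wCount_zero hF P hd
  rw [card_wSub hF P hd] at hI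
  have hq2 : 1 ≤ q ^ 2 := Nat.one_le_pow _ _ (by omega)
  push_cast [Nat.cast_sub hq2] at hI
  have hsq : (q : ℤ) ^ (2 * d) = (q : ℤ) ^ d * (q : ℤ) ^ d := by rw [two_mul, pow_add]
  rw [hsq] at hI h0
  rw [pow_succ] at h0
  have hD : (q : ℤ) ^ 4 ≤ (q : ℤ) ^ d := pow_le_pow_right₀ (by exact_mod_cast (by omega : 1 ≤ q)) hd4
  have hq' : (2 : ℤ) ≤ q := by exact_mod_cast hq
  have key : (isoNum n F q : ℤ) = ((q : ℤ) ^ 2 - 1) * q * ((q : ℤ) ^ d * (q : ℤ) ^ d) +
      (q : ℤ) * ((wCount q e f (0 : F) : ℤ) * q) - 1 := by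
    rw [isoNum, Nat.cast_sub hpos, hI]; push_cast; ring
  set D := (q : ℤ) ^ d with hDdef
  set S := (wCount q e f (0 : F) : ℤ) * q with hS
  have hD16 : (16 : ℤ) ≤ D := le_trans (by nlinarith [mul_le_mul hq' hq' (by norm_num) (by positivity)]) hD
  have hDq : (q : ℤ) * q * q * q ≤ D := le_trans (le_of_eq (by ring)) hD
  have hSle : S ≤ D * D + D * ((q : ℤ) - 1) ∧ D * D - D * ((q : ℤ) - 1) ≤ S := by
    rcases neg_one_pow_eq_or ℤ d with h1 | h1 <;> rw [h1] at h0 <;>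
      constructor <;> nlinarith [mul_nonneg (show (0 : ℤ) ≤ D by positivity) (show (0 : ℤ) ≤ (q : ℤ) - 1 by linarith)]
  obtain ⟨hS1, hS2⟩ := hSle
  set Q := (q : ℤ) with hQdef
  have hD0 : 0 ≤ D := le_trans (by norm_num) hD16
  have hQ0 : 0 ≤ Q := le_trans (by norm_num) hq'
  have hQS := mul_le_mul_of_nonneg_left hS1 hQ0
  have hQ2 : 4 ≤ Q * Q := mul_le_mul hq' hq' (by norm_num) hQ0
  refine ⟨fun r hr hr0 => ?_, ?_, ?_, ?_⟩
  · have hr1 := wCount_ne_zero hF P hd hr hr0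
    rw [hsq] at hr1
    have hR : D * D - D ≤ (wCount q e f r : ℤ) * Q := by
      refine le_of_mul_le_mul_left ?_ (show (0 : ℤ) < Q - 1 by linarith)
      have : (Q - 1) * ((wCount q e f r : ℤ) * Q) = Q * (D * D) - S := by
        rw [hS]; linear_combination Q * hr1
      linarith
    zify [hq2]
    rw [key]
    have h1 : 2 * (Q * Q) + Q - 3 ≤ (Q * Q - 2) * D := by
      have := mul_le_mul_of_nonneg_left hD16 (show 0 ≤ Q * Q - 2 by linarith)
      nlinarith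
    have h2 := mul_le_mul_of_nonneg_left h1 (mul_nonneg hQ0 hD0)
    have h3 := mul_le_mul_of_nonneg_left hR (mul_nonneg (mul_nonneg (show (0 : ℤ) ≤ 2 by norm_num) hQ0)
      (show 0 ≤ Q * Q - 1 by linarith))
    linarith
  · zify [hq2, hwpos]
    rw [key]
    set a := Q * Q - Q - 1 with ha
    have ha1 : 1 ≤ a := by nlinarith
    set C := (Q * Q - 1) * (Q + 1) - Q with hC
    have hC0 : 0 ≤ C := by
      have : C = (Q * Q - 1) * Q + a := by rw [hC, ha]; ring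
      nlinarith
    have k0 := mul_le_mul_of_nonneg_left hDq (show 0 ≤ a by linarith)
    have k1 : 9 ≤ a * D - C * (Q - 1) := by
      have e1 : C * (Q - 1) = Q * Q * Q * Q - 3 * (Q * Q) + Q + 1 := by rw [hC]; ring
      have e2 := mul_le_mul_of_nonneg_right ha1 (show 0 ≤ Q * Q * Q * Q by positivity)
      have e3 := mul_le_mul_of_nonneg_left hq' hQ0
      linarith
    have k2 := mul_le_mul_of_nonneg_left k1 hD0
    have k3 : (Q * Q - 1) * (Q + 1) * Q ≤ 2 * D := by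
      have e1 : (Q * Q - 1) * (Q + 1) * Q = Q * Q * Q * Q + (Q * Q * Q - (Q * Q + Q)) := by ring
      have e2 := mul_le_mul_of_nonneg_right (show 1 ≤ Q by linarith) (show 0 ≤ Q * Q * Q by positivity)
      have e3 : 0 ≤ Q * Q + Q := by positivity
      linarith
    have k4 := mul_le_mul_of_nonneg_left hS2 hC0
    have h2 : (Q ^ 2 - 1) * (Q * (Q + 1) * ((wCount q e f (0 : F) : ℤ) - 1)) =
        (C + Q) * S - (Q * Q - 1) * (Q + 1) * Q := by rw [hS, hC]; ring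
    rw [h2]
    rw [ha] at k2
    rw [hC] at k2 k4 ⊢
    linarith
  · zify [hq2]
    rw [key, hsq]
    have h1 : Q ≤ (Q * Q - 2) * D := by
      have := mul_le_mul_of_nonneg_left hD16 (show 0 ≤ Q * Q - 2 by linarith)
      nlinarith
    have h2 := mul_le_mul_of_nonneg_left h1 (mul_nonneg hQ0 hD0)
    have h3 : 0 ≤ Q * D := mul_nonneg hQ0 hD0
    linarith
  · zify [hq2, hq, show 1 ≤ q by omega]
    rw [key, hsq]
    have h1 : (Q - 2) * (Q - 1) + 1 ≤ (Q * Q - Q + 1) * D := by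
      have := mul_le_mul_of_nonneg_left hD16 (show 0 ≤ Q * Q - Q + 1 by nlinarith)
      nlinarith
    have h2 := mul_le_mul_of_nonneg_left h1 (mul_nonneg hQ0 hD0)
    have h3 := mul_le_mul_of_nonneg_left hS1 (mul_nonneg hQ0 (show 0 ≤ Q - 2 by linarith))
    have h4 : 0 < Q * D := mul_pos (by linarith) (by linarith)
    linarith

omit e f in
theorem isoNum_three {e f : Fin n → F} (P : IsPair (q := q) e f) (hd : n = 3 + 2) :
    isoNum n F q = (q ^ 2 - 1) * (q ^ 7 + q ^ 5 + q ^ 2 + 1) ∧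
      wCount q e f (0 : F) + q ^ 3 = q ^ 5 + q ^ 2 ∧
      ∀ r : F, qFrob hF r = r → r ≠ 0 → wCount q e f r = q ^ 5 + q ^ 2 := by
  have hq := two_le_q hF
  have hq0 : (q : ℤ) ≠ 0 := by omega
  have hw : (wCount q e f (0 : F) : ℤ) = (q : ℤ) ^ 5 - (q : ℤ) ^ 3 + (q : ℤ) ^ 2 := by
    refine mul_right_cancel₀ hq0 ?_
    rw [wCount_zero hF P hd]
    ring
  refine ⟨?_, by exact_mod_cast (show (wCount q e f (0 : F) : ℤ) + (q : ℤ) ^ 3 = (q : ℤ) ^ 5 + (q : ℤ) ^ 2 by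
    linear_combination hw), fun r hr hr0 => ?_⟩
  · have hI := congrArg (Nat.cast : ℕ → ℤ) (normCount_eq hF P)
    rw [card_wSub hF P hd] at hI
    have hq2 : 1 ≤ q ^ 2 := Nat.one_le_pow _ _ (by omega)
    have hpos : 1 ≤ normCount n F q (0 : F) :=
      Nat.card_pos_iff.2 ⟨⟨⟨0, by simp [hermForm]⟩⟩, inferInstance⟩
    push_cast [Nat.cast_sub hq2] at hI
    zify [hq2]
    rw [isoNum, Nat.cast_sub hpos, hI, hw]
    push_cast
    ring
  · have h1 := wCount_ne_zero hF P hd hr hr0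
    rw [hw] at h1
    have h2 : (wCount q e f r : ℤ) = (q : ℤ) ^ 5 + (q : ℤ) ^ 2 :=
      mul_left_cancel₀ (show (q : ℤ) - 1 ≠ 0 by omega) (by linear_combination h1)
    exact_mod_cast h2

/-- The number of isotropic vectors against the regular orbit. -/
theorem bounds_low (P : IsPair (q := q) e f) {d : ℕ} (hd : n = d + 2) (hd3 : 3 ≤ d) :
    isoNum n F q < (q ^ 2 - 1) * (2 * (q ^ (2 * d) * q)) ∧
      (q - 2) * isoNum n F q < (q ^ 2 - 1) * ((q - 1) * (q ^ (2 * d) * q)) := by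
  rcases hd3.eq_or_lt with rfl | h4
  swap
  · exact ⟨(bounds hF P hd h4).2.2.1, (bounds hF P hd h4).2.2.2⟩
  have hq := two_le_q hF
  obtain ⟨h1, -, -⟩ := isoNum_three hF P hd
  have hpos : 0 < q ^ 2 - 1 := by
    have : 2 ^ 2 ≤ q ^ 2 := Nat.pow_le_pow_left hq 2
    omega
  have h2 : q ^ 5 + q ^ 2 + 1 < q ^ 7 := by
    have e1 : 2 ^ 2 * q ^ 5 ≤ q ^ 7 :=
      le_of_le_of_eq (Nat.mul_le_mul_right _ (Nat.pow_le_pow_left hq 2)) (by ring)
    have e2 : q ^ 2 < q ^ 5 := Nat.pow_lt_pow_right (by omega) (by norm_num)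
    omega
  rw [h1]
  constructor
  · refine Nat.mul_lt_mul_of_pos_left ?_ hpos
    rw [show q ^ (2 * 3) * q = q ^ 7 by ring]
    omega
  · rw [mul_left_comm]
    refine Nat.mul_lt_mul_of_pos_left ?_ hpos
    rw [show q ^ (2 * 3) * q = q ^ 7 by ring]
    obtain ⟨k, rfl⟩ : ∃ k, q = k + 2 := ⟨q - 2, by omega⟩
    simp only [Nat.add_sub_cancel, show k + 2 - 1 = k + 1 from rfl]
    have h3 : k * ((k + 2) ^ 5 + (k + 2) ^ 2 + 1) < (k + 2) ^ 7 := by
      have h4 : k * (k + 2) ^ 5 ≤ (k + 2) * (k + 2) ^ 5 := Nat.mul_le_mul_right _ (by omega)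
      have h5 : k * ((k + 2) ^ 2 + 1) ≤ (k + 2) * ((k + 2) * (k + 2) + 1) :=
        le_trans (le_of_eq (by ring)) (Nat.mul_le_mul_right _ (by omega))
      nlinarith [Nat.pow_le_pow_left (show 2 ≤ k + 2 by omega) 5]
    nlinarith

end Cfsg.Agent.Lie.MinIndexUnit
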