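import Cfsg.Agent.Lib.Lie.MinIndexUnitGeom

/-!
The group fixing a hyperbolic pair, and subgroups of Heisenberg groups.
-/

set_option autoImplicit false
set_option linter.unusedSectionVars false

namespace Cfsg.Agent.Lie.MinIndexUnit

open Matrix Finset Cfsg Cfsg.Agent.Classical Cfsg.Agent.Classical.PSUAut

variable {F : Type*} [Field F] [Fintype F] {q n : ℕ}

local notation "V" => (Fin n → F)

/-- The elements fixing both vectors of a pair. -/
def gW (q : ℕ) (e f : Fin n → F) : Subgroup (SU n F q) where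
  carrier := {s | suVal s *ᵥ e = e ∧ suVal s *ᵥ f = f}
  one_mem' := ⟨Matrix.one_mulVec e, Matrix.one_mulVec f⟩
  mul_mem' := by
    rintro a b ⟨ha, ha'⟩ ⟨hb, hb'⟩
    exact ⟨by rw [suVal_mul, ← Matrix.mulVec_mulVec, hb, ha], by rw [suVal_mul, ← Matrix.mulVec_mulVec, hb', ha']⟩
  inv_mem' := by
    rintro a ⟨ha, ha'⟩
    constructor
    · conv_lhs => arg 2; rw [← ha]
      rw [Matrix.mulVec_mulVec, suVal_inv_mul, Matrix.one_mulVec]
    · conv_lhs => arg 2; rw [← ha']
      rw [Matrix.mulVec_mulVec, suVal_inv_mul, Matrix.one_mulVec]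

variable (hF : Fintype.card F = q ^ 2)

local notation "h" => hermForm n F q
local notation "cj" => qFrob hF

include hF

variable {e f : Fin n → F}

omit hF in
theorem gW_mem_wSub {g : SU n F q} (hg : g ∈ gW q e f) {w : V} (hw : w ∈ wSub q e f) :
    suVal g *ᵥ w ∈ wSub q e f := by
  constructor
  · rw [← hg.1, su_form]; exact hw.1
  · rw [← hg.2, su_form]; exact hw.2

/-- The transvection of a vector of the orthogonal space fixes the pair. -/
theorem tv_mem_gW {u : V} (hu : u ∈ wSub q e f) {c : F} (H : EOK (q := q) u 0 c) : eSU hF H ∈ gW q e f := by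
  constructor
  · rw [suVal_eSU, tv_apply' hF, h_comm_zero hF hu.1, mul_zero, zero_smul, add_zero]
  · rw [suVal_eSU, tv_apply' hF, h_comm_zero hF hu.2, mul_zero, zero_smul, add_zero]

/-- An element of the Heisenberg group of a vector of the orthogonal space fixes the pair. -/
theorem eSU_mem_gW {u w : V} (hu : u ∈ wSub q e f) (hw : w ∈ wSub q e f) {c : F} (H : EOK (q := q) u w c) :
    eSU hF H ∈ gW q e f := by
  constructor
  · rw [suVal_eSU, eMat_mulVec, h_comm_zero hF hu.1, h_comm_zero hF hw.1]; simp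
  · rw [suVal_eSU, eMat_mulVec, h_comm_zero hF hu.2, h_comm_zero hF hw.2]; simp

theorem exists_aniso_perp (P : IsPair (q := q) e f) {d : ℕ} (hd : n = d + 2) (hd3 : 3 ≤ d) (w : V) :
    ∃ u ∈ wSub q e f, h u w = 0 ∧ h u u ≠ 0 := by
  classical
  by_contra hcon
  push Not at hcon
  let S : AddSubgroup V :=
    { carrier := {x | x ∈ wSub q e f ∧ h x w = 0}
      add_mem' := fun {a b} ha hb => ⟨Submodule.add_mem _ ha.1 hb.1, by rw [h_add_left, ha.2, hb.2, add_zero]⟩
      zero_mem' := ⟨Submodule.zero_mem _, h_zero_left w⟩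
      neg_mem' := fun {a} ha => ⟨Submodule.neg_mem _ ha.1, by rw [h_neg_left, ha.2, neg_zero]⟩ }
  have hS : Nat.card S * Nat.card S ≤ Nat.card (wSub q e f) :=
    sq_card_singular_le hF (nondeg_wSub hF P) (fun s hs => hs.1) fun s hs => hcon s hs.1 hs.2
  let φ : wSub q e f →+ F :=
    { toFun := fun x => h (x : V) w
      map_zero' := h_zero_left w
      map_add' := fun a b => h_add_left _ _ w }
  have hker : Nat.card φ.ker = Nat.card S :=
    Nat.card_congr
      { toFun := fun x => ⟨x.1.1, x.1.2, x.2⟩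
        invFun := fun x => ⟨⟨x.1, x.2.1⟩, x.2.2⟩
        left_inv := fun _ => rfl
        right_inv := fun _ => rfl }
  have hr : Nat.card φ.range ≤ q ^ 2 := by
    rw [← hF, ← Nat.card_eq_fintype_card]
    exact AddSubgroup.card_le_card_addGroup _
  have h1 := AddSubgroup.card_mul_index φ.ker
  rw [AddSubgroup.index_ker, hker] at h1
  rw [card_wSub hF P hd] at h1 hS
  have hq := two_le_q hF
  have h2 : q ^ (2 * d) * q ^ (2 * d) ≤ q ^ (2 * d) * (q ^ 2 * q ^ 2) :=
    calc q ^ (2 * d) * q ^ (2 * d) = (Nat.card S * Nat.card φ.range) * (Nat.card S * Nat.card φ.range) := by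
          rw [h1]
      _ ≤ (Nat.card S * q ^ 2) * (Nat.card S * q ^ 2) := by gcongr
      _ = (Nat.card S * Nat.card S) * (q ^ 2 * q ^ 2) := by ring
      _ ≤ _ := by gcongr
  have h3 := Nat.le_of_mul_le_mul_left h2 (pow_pos (by omega) _)
  rw [← pow_add] at h3
  have := (Nat.pow_le_pow_iff_right (by omega)).1 h3
  omega

/-- The elements fixing a pair are transitive on the nonzero vectors of a norm in the orthogonal space. -/
theorem gW_transitive (P : IsPair (q := q) e f) {d : ℕ} (hd : n = d + 2) (hd3 : 3 ≤ d) {w w' : V}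
    (hw : w ∈ wSub q e f) (hw0 : w ≠ 0) (hw' : w' ∈ wSub q e f) (hw'0 : w' ≠ 0) (hn : h w w = h w' w') :
    ∃ g ∈ gW q e f, suVal g *ᵥ w = w' := by
  classical
  obtain ⟨y, hy, hwy⟩ : ∃ y ∈ wSub q e f, h w y = 1 := by
    obtain ⟨y, hy, hne⟩ := nondeg_wSub hF P w hw hw0
    exact ⟨cj (h w y)⁻¹ • y, Submodule.smul_mem _ _ hy, by rw [h_smul_right hF, cj_cj, inv_mul_cancel₀ hne]⟩
  set X : Submodule F V := Submodule.span F {e, f, w}
  let L : V →ₗ[F] V :=
    { toFun := fun x => h x f • e + h x e • f + h x y • w'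
      map_add' := fun a b => by simp only [h_add_left]; module
      map_smul' := fun a b => by simp only [h_smul_left, RingHom.id_apply]; module }
  have ey : h e y = 0 := h_comm_zero hF hy.1
  have fy : h f y = 0 := h_comm_zero hF hy.2
  have hX : ∀ x ∈ X, x = h x f • e + h x e • f + h x y • w := by
    intro x hx
    rw [Submodule.mem_span_insert] at hx
    obtain ⟨a, z, hz, rfl⟩ := hx
    obtain ⟨b, c, rfl⟩ := Submodule.mem_span_pair.1 hz
    simp only [h_add_left, h_smul_left, P.ee, P.ef, P.ff, P.fe hF, hw.1, hw.2, ey, fy, hwy, mul_zero, mul_one,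
      add_zero, zero_add]
    abel
  have hform : ∀ x ∈ X, ∀ z ∈ X, h (L x) (L z) = h x z := by
    intro x hx z hz
    conv_rhs => rw [hX x hx, hX z hz]
    simp only [L, LinearMap.coe_mk, AddHom.coe_mk, h_add_left, h_add_right hF, h_smul_left, h_smul_right hF,
      P.ee, P.ef, P.ff, P.fe hF, hw.1, hw.2, hw'.1, hw'.2, h_comm_zero hF hw.1, h_comm_zero hF hw.2,
      h_comm_zero hF hw'.1, h_comm_zero hF hw'.2, hn]
  have eX : e ∈ X := Submodule.subset_span (by simp)
  have fX : f ∈ X := Submodule.subset_span (by simp)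
  have wX : w ∈ X := Submodule.subset_span (by simp)
  have hLe : L e = e := by simp [L, P.ef, P.ee, ey]
  have hLf : L f = f := by simp [L, P.ff, P.fe hF, fy]
  have hLw : L w = w' := by simp [L, hw.1, hw.2, hwy]
  have hinj : Function.Injective (L.comp X.subtype) := by
    refine (injective_iff_map_eq_zero _).2 fun x hx => Subtype.ext ?_
    have hLx : L (x : V) = 0 := hx
    have he' : h (x : V) e = 0 := by rw [← hform _ x.2 _ eX, hLx, h_zero_left]
    have hf' : h (x : V) f = 0 := by rw [← hform _ x.2 _ fX, hLx, h_zero_left]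
    have h2 : h (x : V) y • w' = 0 := by
      have : L (x : V) = h (x : V) f • e + h (x : V) e • f + h (x : V) y • w' := rfl
      rw [hLx, he', hf', zero_smul, zero_smul, zero_add, zero_add] at this
      exact this.symm
    rw [hX _ x.2, he', hf', (smul_eq_zero.1 h2).resolve_right hw'0]
    simp
  obtain ⟨g, hg, hgx⟩ := witt_hermitian (hermB hF n) (qFrob_ne_id hF) (qFrob_qFrob hF) (hermB_isSymm hF n)
    (hermB_nondegenerate hF n) X (L.comp X.subtype) hinj (fun a b => by
      rw [hermB_apply, hermB_apply]; exact hform _ b.2 _ a.2)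
  have hu : IsUnit (LinearMap.toMatrix' (g : V →ₗ[F] V)).det := by
    rw [← Matrix.isUnit_iff_isUnit_det]
    refine Matrix.mulVec_injective_iff_isUnit.1 fun a b hab => g.injective ?_
    simpa [LinearMap.toMatrix'_mulVec] using hab
  set G : GL (Fin n) F := Matrix.GeneralLinearGroup.mk'' _ hu
  have hGm : ∀ x, (G : Matrix (Fin n) (Fin n) F) *ᵥ x = g x := fun x => by
    show LinearMap.toMatrix' (g : V →ₗ[F] V) *ᵥ x = _
    rw [LinearMap.toMatrix'_mulVec]; rfl
  have hG : G ∈ GU n F q := fun x z => by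
    show h ((G : Matrix (Fin n) (Fin n) F) *ᵥ x) ((G : Matrix (Fin n) (Fin n) F) *ᵥ z) = h x z
    rw [hGm, hGm]
    exact hg z x
  set δ := (G : Matrix (Fin n) (Fin n) F).det
  have hδ := det_norm_one hF hG
  obtain ⟨u, hu', huw, huu⟩ := exists_aniso_perp hF P hd hd3 w
  obtain ⟨G', hG', hdet, hG'v⟩ := exists_reflection hF huu (a := δ⁻¹)
    (by rw [map_inv₀, ← mul_inv, hδ, inv_one])
  have hδ0 : δ ≠ 0 := fun h0 => by simp [show (G : Matrix (Fin n) (Fin n) F).det = 0 from h0] at hδ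
  let s : SU n F q := ⟨⟨(G : Matrix (Fin n) (Fin n) F) * (G' : Matrix (Fin n) (Fin n) F),
    by rw [Matrix.det_mul, hdet]; exact mul_inv_cancel₀ hδ0⟩, fun x z => by
      show h (((G : Matrix (Fin n) (Fin n) F) * (G' : Matrix (Fin n) (Fin n) F)) *ᵥ x)
        (((G : Matrix (Fin n) (Fin n) F) * (G' : Matrix (Fin n) (Fin n) F)) *ᵥ z) = h x z
      rw [← Matrix.mulVec_mulVec, ← Matrix.mulVec_mulVec]
      exact (hG _ _).trans (hG' x z)⟩
  have hs : ∀ x ∈ X, h x u = 0 → suVal s *ᵥ x = L x := fun x hx hxu => by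
    show ((G : Matrix (Fin n) (Fin n) F) * (G' : Matrix (Fin n) (Fin n) F)) *ᵥ x = L x
    rw [← Matrix.mulVec_mulVec, hG'v, hxu, mul_zero, zero_div, zero_smul, add_zero, hGm]
    exact hgx ⟨x, hx⟩
  exact ⟨s, ⟨(hs e eX (h_comm_zero hF hu'.1)).trans hLe, (hs f fX (h_comm_zero hF hu'.2)).trans hLf⟩,
    (hs w wX (h_comm_zero hF huw)).trans hLw⟩

/-! ### The Heisenberg group with coordinates -/

omit hF in
/-- The orthogonal coordinate of an element of a Heisenberg group. -/
def wOf (e f : Fin n → F) (s : SU n F q) : Fin n → F := wPart (q := q) e f (suVal s *ᵥ f)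

omit hF in
/-- The coefficient of an element of a Heisenberg group. -/
def cOf (f : Fin n → F) (s : SU n F q) : F := hermForm n F q (suVal s *ᵥ f) f

theorem eMat_apply_f (P : IsPair (q := q) e f) {w : V} (hw : w ∈ wSub q e f) (c : F) :
    eMat q e w c *ᵥ f = c • e + f + w := by
  rw [eMat_mulVec, P.fe hF, h_comm_zero hF hw.2]
  module

theorem wOf_cOf (P : IsPair (q := q) e f) {w : V} (hw : w ∈ wSub q e f) {c : F} {s : SU n F q}
    (hs : suVal s = eMat q e w c) : wOf e f s = w ∧ cOf f s = c := by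
  constructor
  · rw [wOf, hs, eMat_apply_f hF P hw, wPart_add hF, wPart_add hF, wPart_smul hF, wPart_left hF P,
      wPart_of_mem hF hw]
    have : wPart (q := q) e f f = 0 := by rw [wPart, P.ff, P.fe hF]; simp
    rw [this]
    simp
  · rw [cOf, hs, eMat_apply_f hF P hw, h_add_left, h_add_left, h_smul_left, P.ef, P.ff, hw.2]
    ring

/-- The part of a Heisenberg group with coordinates in a subspace. -/
def heisX (hF : Fintype.card F = q ^ 2) {e : Fin n → F} (he : hermForm n F q e e = 0)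
    (X : Submodule F (Fin n → F)) : Subgroup (SU n F q) where
  carrier := {s | ∃ w ∈ X, ∃ c, EOK (q := q) e w c ∧ suVal s = eMat q e w c}
  one_mem' := ⟨0, X.zero_mem, 0, EOK.zero hF he, (eMat_zero hF e).symm⟩
  mul_mem' := by
    rintro s t ⟨w, hw, c, H, hs⟩ ⟨w', hw', c', H', ht⟩
    exact ⟨_, X.add_mem hw hw', _, H.mul hF H', by rw [suVal_mul, hs, ht, eMat_mul hF H H']⟩
  inv_mem' := by
    rintro s ⟨w, hw, c, H, hs⟩
    have H' : EOK (q := q) e (-w) (qFrob hF c) := ⟨he, by rw [h_neg_left, H.we, neg_zero], by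
      have h1 := H.cc
      rw [cj_pow hF] at h1 ⊢
      rw [cj_cj, h_neg_left, h_neg_right hF]
      linear_combination h1⟩
    refine ⟨_, X.neg_mem hw, _, H', ?_⟩
    rw [show s⁻¹ = eSU hF H' from inv_eq_of_mul_eq_one_right (suVal_ext ?_)]
    · rfl
    · rw [suVal_mul, hs, suVal_eSU, eMat_mul hF H H', add_neg_cancel,
        show c + qFrob hF c - hermForm n F q (-w) w = 0 by
          have h1 := H.cc
          rw [cj_pow hF] at h1
          rw [h_neg_left]; linear_combination h1, eMat_zero hF]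
      rfl

theorem eSU_mem_heisX {he : h e e = 0} {X : Submodule F V} {w : V} (hw : w ∈ X) {c : F}
    (H : EOK (q := q) e w c) : eSU hF H ∈ heisX hF he X := ⟨w, hw, c, H, rfl⟩

omit hF in
/-- A transvection with a fixed centre. -/
def tv (hF : Fintype.card F = q ^ 2) {e : Fin n → F} (he : hermForm n F q e e = 0) (c : skew hF) : SU n F q :=
  eSU hF (eOK_transvection hF he ((mem_skew hF).1 c.2))

theorem suVal_tv (he : h e e = 0) (c : skew hF) : suVal (tv hF he c) = eMat q e 0 (c : F) := rfl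

theorem tv_zero (he : h e e = 0) : tv hF he (0 : skew hF) = 1 :=
  suVal_ext (by rw [suVal_tv, ZeroMemClass.coe_zero, eMat_zero hF]; rfl)

theorem tv_add (he : h e e = 0) (a b : skew hF) : tv hF he (a + b) = tv hF he a * tv hF he b :=
  suVal_ext (by
    rw [suVal_mul, suVal_tv, suVal_tv, suVal_tv, eMat_mul hF (eOK_transvection hF he ((mem_skew hF).1 a.2))
      (eOK_transvection hF he ((mem_skew hF).1 b.2)), add_zero, h_zero_left, sub_zero, AddMemClass.coe_add])

theorem tv_neg (he : h e e = 0) (a : skew hF) : tv hF he (-a) = (tv hF he a)⁻¹ := by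
  refine eq_inv_of_mul_eq_one_left ?_
  rw [← tv_add, neg_add_cancel, tv_zero]

theorem tv_comm (he : h e e = 0) (a b : skew hF) : tv hF he a * tv hF he b = tv hF he b * tv hF he a := by
  rw [← tv_add, ← tv_add, add_comm]

variable (P : IsPair (q := q) e f) {X : Submodule F (Fin n → F)} (hX : X ≤ wSub q e f)
include P hX

theorem heisX_eq {s : SU n F q} (hs : s ∈ heisX hF P.ee X) :
    wOf e f s ∈ X ∧ ∃ H : EOK (q := q) e (wOf e f s) (cOf f s), s = eSU hF H := by
  obtain ⟨w, hw, c, H, hs⟩ := hs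
  obtain ⟨e1, e2⟩ := wOf_cOf hF P (hX hw) hs
  subst e1 e2
  exact ⟨hw, H, suVal_ext hs⟩

theorem wOf_mul {s t : SU n F q} (hs : s ∈ heisX hF P.ee X) (ht : t ∈ heisX hF P.ee X) :
    wOf e f (s * t) = wOf e f s + wOf e f t := by
  obtain ⟨h1, H, e1⟩ := heisX_eq hF P hX hs
  obtain ⟨h2, H', e2⟩ := heisX_eq hF P hX ht
  exact (wOf_cOf hF P (hX (X.add_mem h1 h2)) (c := cOf f s + cOf f t - h (wOf e f t) (wOf e f s))
    (by conv_lhs => rw [e1, e2, suVal_mul, suVal_eSU, suVal_eSU, eMat_mul hF H H'])).1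

theorem card_heisX : Nat.card (heisX hF P.ee X) = Nat.card X * q := by
  classical
  have e1 : heisX hF P.ee X ≃ Σ w : X, {c : F // c + cj c + h (w : V) (w : V) = 0} :=
    { toFun := fun s => ⟨⟨_, (heisX_eq hF P hX s.2).1⟩, cOf f s.1, by
        obtain ⟨-, H, -⟩ := heisX_eq hF P hX s.2
        have := H.cc
        rwa [cj_pow hF] at this⟩
      invFun := fun p => ⟨eSU hF (e := e) (w := (p.1 : V)) (c := p.2.1)
        ⟨P.ee, (hX p.1.2).1, by rw [cj_pow hF]; exact p.2.2⟩, eSU_mem_heisX hF p.1.2 _⟩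
      left_inv := fun s => by
        obtain ⟨-, H, e0⟩ := heisX_eq hF P hX s.2
        exact Subtype.ext e0.symm
      right_inv := fun p => by
        obtain ⟨⟨w, hw⟩, ⟨c, hc⟩⟩ := p
        obtain ⟨e2, e3⟩ := wOf_cOf hF P (hX hw) (c := c)
          (suVal_eSU hF (e := e) (w := w) (c := c) ⟨P.ee, (hX hw).1, by rw [cj_pow hF]; exact hc⟩)
        exact Sigma.subtype_ext (Subtype.ext e2) e3 }
  have hfib : ∀ w : X, Nat.card {c : F // c + cj c + h (w : V) (w : V) = 0} = q := by
    intro w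
    obtain ⟨t, ht⟩ := exists_trace_eq hF (a := -h (w : V) (w : V)) (by rw [map_neg, cj_h_self hF])
    refine Eq.trans (Nat.card_congr ?_) (card_skew hF)
    exact
      { toFun := fun c => ⟨c.1 - t, by
          have h1 := c.2
          rw [mem_skew, map_sub]
          linear_combination h1 - ht⟩
        invFun := fun c => ⟨c.1 + t, by
          have h1 := (mem_skew hF).1 c.2
          rw [map_add]
          linear_combination h1 + ht⟩
        left_inv := fun c => Subtype.ext (sub_add_cancel _ _)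
        right_inv := fun c => Subtype.ext (add_sub_cancel_right _ _) }
  rw [Nat.card_congr e1, Nat.card_sigma, Finset.sum_congr rfl (fun w _ => hfib w), Finset.sum_const,
    Finset.card_univ, smul_eq_mul, ← Nat.card_eq_fintype_card]

variable {St : Subgroup (SU n F q)} (hSt : St ≤ heisX hF P.ee X)

/-- The orthogonal coordinates of a subgroup. -/
def img (hF : Fintype.card F = q ^ 2) {e f : Fin n → F} (P : IsPair (q := q) e f)
    {X : Submodule F (Fin n → F)} (hX : X ≤ wSub q e f) {St : Subgroup (SU n F q)}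
    (hSt : St ≤ heisX hF P.ee X) : AddSubgroup (Fin n → F) where
  carrier := {w | ∃ s ∈ St, wOf e f s = w}
  add_mem' := by
    rintro _ _ ⟨s, hs, rfl⟩ ⟨t, ht, rfl⟩
    exact ⟨s * t, St.mul_mem hs ht, wOf_mul hF P hX (hSt hs) (hSt ht)⟩
  zero_mem' := ⟨1, St.one_mem, (wOf_cOf hF P (wSub q e f).zero_mem (c := 0)
    (show suVal (1 : SU n F q) = _ from (eMat_zero hF e).symm)).1⟩
  neg_mem' := by
    rintro _ ⟨s, hs, rfl⟩
    refine ⟨s⁻¹, St.inv_mem hs, ?_⟩
    have h1 := wOf_mul hF P hX (hSt (St.inv_mem hs)) (hSt hs)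
    rw [inv_mul_cancel, (wOf_cOf hF P (wSub q e f).zero_mem (c := 0)
      (show suVal (1 : SU n F q) = _ from (eMat_zero hF e).symm)).1] at h1
    exact eq_neg_of_add_eq_zero_left h1.symm

omit P hX in
/-- The central coefficients of a subgroup. -/
def ctr (hF : Fintype.card F = q ^ 2) {e : Fin n → F} (he : hermForm n F q e e = 0)
    (St : Subgroup (SU n F q)) : AddSubgroup (skew hF) where
  carrier := {c | tv hF he c ∈ St}
  add_mem' {a b} ha hb := by
    show tv hF he (a + b) ∈ St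
    rw [tv_add]; exact St.mul_mem ha hb
  zero_mem' := by
    show tv hF he 0 ∈ St
    rw [tv_zero]; exact St.one_mem
  neg_mem' {a} ha := by
    show tv hF he (-a) ∈ St
    rw [tv_neg]; exact St.inv_mem ha

include hSt

theorem img_le {w : V} (hw : w ∈ img hF P hX hSt) : w ∈ X := by
  obtain ⟨s, hs, rfl⟩ := hw
  exact (heisX_eq hF P hX (hSt hs)).1

theorem eq_tv_of_wOf {s : SU n F q} (hs : s ∈ heisX hF P.ee X) (h0 : wOf e f s = 0) :
    ∃ c : skew hF, (c : F) = cOf f s ∧ s = tv hF P.ee c := by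
  obtain ⟨-, H, e1⟩ := heisX_eq hF P hX hs
  have hc : cOf f s + cj (cOf f s) = 0 := by
    have := H.cc
    rwa [cj_pow hF, h0, h_zero_left, add_zero] at this
  exact ⟨⟨_, hc⟩, rfl, e1.trans (eSU_congr hF H _ h0 rfl)⟩

/-- The order of a subgroup. -/
theorem card_st : Nat.card St = Nat.card (ctr hF P.ee St) * Nat.card (img hF P hX hSt) := by
  let φ : St →* Multiplicative V :=
    MonoidHom.mk' (fun s => Multiplicative.ofAdd (wOf e f s.1)) fun s t =>
      congrArg Multiplicative.ofAdd (wOf_mul hF P hX (hSt s.2) (hSt t.2))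
  have hr : Nat.card φ.range = Nat.card (img hF P hX hSt) := Nat.card_congr
    { toFun := fun x => ⟨Multiplicative.toAdd x.1, by
        obtain ⟨s, hs⟩ := x.2
        exact ⟨s.1, s.2, congrArg Multiplicative.toAdd hs⟩⟩
      invFun := fun w => ⟨Multiplicative.ofAdd w.1, by
        obtain ⟨s, hs, e1⟩ := w.2
        exact ⟨⟨s, hs⟩, congrArg Multiplicative.ofAdd e1⟩⟩
      left_inv := fun _ => rfl
      right_inv := fun _ => rfl }
  have hk : Nat.card φ.ker = Nat.card (ctr hF P.ee St) := by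
    symm
    refine Nat.card_eq_of_bijective (fun c => ⟨⟨tv hF P.ee c.1, c.2⟩, MonoidHom.mem_ker.2
      (congrArg Multiplicative.ofAdd (wOf_cOf hF P (wSub q e f).zero_mem (suVal_tv hF P.ee c.1)).1)⟩)
      ⟨fun a b hab => ?_, fun x => ?_⟩
    · have h2 := congrArg (fun y : φ.ker => cOf f (y.1.1 : SU n F q)) hab
      simp only [(wOf_cOf hF P (wSub q e f).zero_mem (suVal_tv hF P.ee _)).2] at h2
      exact Subtype.ext (Subtype.ext h2)
    · obtain ⟨c, -, hc⟩ := eq_tv_of_wOf hF P hX hSt (hSt x.1.2)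
        (congrArg Multiplicative.toAdd (MonoidHom.mem_ker.1 x.2))
      exact ⟨⟨c, show tv hF P.ee c ∈ St from hc ▸ x.1.2⟩, Subtype.ext (Subtype.ext hc.symm)⟩
  rw [← hk, ← hr, ← Subgroup.index_ker, Subgroup.card_mul_index]

/-- Commutators lie in the centre. -/
theorem comm_mem_ctr {w w' : V} (hw : w ∈ img hF P hX hSt) (hw' : w' ∈ img hF P hX hSt) :
    ∃ c ∈ ctr hF P.ee St, (c : F) = h w w' - h w' w := by
  obtain ⟨s, hs, rfl⟩ := hw
  obtain ⟨t, ht, rfl⟩ := hw'
  set w := wOf e f s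
  set w' := wOf e f t
  obtain ⟨-, H, e1⟩ := heisX_eq hF P hX (hSt hs)
  obtain ⟨-, H', e2⟩ := heisX_eq hF P hX (hSt ht)
  have hc : (h w w' - h w' w) + cj (h w w' - h w' w) = 0 := by rw [map_sub, cj_h hF, cj_h hF]; ring
  refine ⟨⟨_, hc⟩, ?_, rfl⟩
  show tv hF P.ee ⟨_, hc⟩ ∈ St
  have key : tv hF P.ee ⟨_, hc⟩ * (t * s) = s * t := suVal_ext (by
    conv_lhs => rw [e1, e2, suVal_mul, suVal_mul, suVal_eSU, suVal_eSU, suVal_tv, eMat_mul hF H' H]
    conv_rhs => rw [e1, e2, suVal_mul, suVal_eSU, suVal_eSU, eMat_mul hF H H']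
    refine (eMat_mul hF (eOK_transvection hF P.ee hc) (H'.mul hF H)).trans ?_
    rw [h_zero_right hF, zero_add, add_comm w' w]
    congr 1
    ring)
  rw [eq_mul_inv_of_mul_eq key]
  exact St.mul_mem (St.mul_mem hs ht) (St.inv_mem (St.mul_mem ht hs))

/-- With a character trivial on the centre, the coordinates are a half-orthogonal group. -/
theorem psi_img {c0 : F} (h0 : c0 ≠ 0) (hc0 : c0 + cj c0 = 0) {χ : AddChar (skew hF) ℂ}
    (hχ : ∀ c ∈ ctr hF P.ee St, χ c = 1) {w w' : V} (hw : w ∈ img hF P hX hSt) (hw' : w' ∈ img hF P hX hSt) :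
    psi hF hc0 χ (h (c0⁻¹ • w) w') = 1 := by
  obtain ⟨c, hc, e1⟩ := comm_mem_ctr hF P hX hSt hw hw'
  rw [← hχ c hc, psi_eq_of_trace hF hc0 χ (c := c)]
  rw [e1, h_smul_left, map_mul, map_inv₀, eq_neg_of_add_eq_zero_right hc0, cj_h hF]
  field_simp
  ring

/-- A subgroup missing part of the centre is small. -/
theorem four_sq_card_le (hnd : Nondeg q X) (hne : ∃ c : skew hF, tv hF P.ee c ∉ St) :
    4 * (Nat.card St * Nat.card St) ≤ q * q * Nat.card X := by
  obtain ⟨a, ha⟩ := hne
  set C := ctr hF P.ee St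
  obtain ⟨c0, h0, hc0⟩ := exists_trace_zero hF
  obtain ⟨χ', hχ'⟩ := (AddChar.exists_apply_ne_zero (α := skew hF ⧸ C) (a := (a : skew hF ⧸ C))).2
    fun e0 => ha ((QuotientAddGroup.eq_zero_iff a).1 e0)
  let χ : AddChar (skew hF) ℂ := χ'.compAddMonoidHom (QuotientAddGroup.mk' C)
  have hχ : ∀ c ∈ C, χ c = 1 := fun c hc => by
    show χ' (c : skew hF ⧸ C) = 1
    rw [(QuotientAddGroup.eq_zero_iff c).2 hc, AddChar.map_zero_eq_one]
  have hS := sq_card_le hF hc0 χ h0 (c := a) hχ' hnd (fun s hs => img_le hF P hX hSt hs)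
    (inv_ne_zero h0) fun s hs s' hs' => psi_img hF P hX hSt h0 hc0 hχ hs hs'
  have hC : 2 * Nat.card C ≤ q := by
    have h1 := C.card_mul_index
    rw [card_skew hF] at h1
    have hi0 : C.index ≠ 0 := AddSubgroup.FiniteIndex.index_ne_zero
    have hi1 : C.index ≠ 1 := fun e1 => ha (show a ∈ C from AddSubgroup.index_eq_one.1 e1 ▸ AddSubgroup.mem_top a)
    nlinarith [show 2 ≤ C.index by omega]
  rw [card_st hF P hX hSt]
  calc 4 * ((Nat.card C * Nat.card (img hF P hX hSt)) * (Nat.card C * Nat.card (img hF P hX hSt))) =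
        (2 * Nat.card C) * (2 * Nat.card C) * (Nat.card (img hF P hX hSt) * Nat.card (img hF P hX hSt)) := by ring
    _ ≤ _ := by gcongr

end Cfsg.Agent.Lie.MinIndexUnit
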