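import Cfsg.Agent.Lib.Lie.MinIndexUnitFew

/-! Subspaces of the orthogonal space of a pair cut out by further vectors. -/

set_option autoImplicit false
set_option linter.unusedSectionVars false

namespace Cfsg.Agent.Lie.MinIndexUnit

open Matrix Finset MulAction Cfsg Cfsg.Agent.Classical Cfsg.Agent.Classical.PSUAut

universe u

attribute [local instance 10] _root_.Classical.propDecidable

variable {F : Type*} [Field F] [Fintype F] {q n : ℕ}

local notation "V" => (Fin n → F)

/-- The vectors of `W` orthogonal to two vectors of a pair and to a third. -/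
def perp3 (q : ℕ) (W : Submodule F (Fin n → F)) (v u u' : Fin n → F) : Submodule F (Fin n → F) where
  carrier := {x | x ∈ W ∧ hermForm n F q x v = 0 ∧ hermForm n F q x u = 0 ∧ hermForm n F q x u' = 0}
  add_mem' := fun {a b} ha hb => ⟨W.add_mem ha.1 hb.1, by rw [hermForm_add_left, ha.2.1, hb.2.1, add_zero],
    by rw [hermForm_add_left, ha.2.2.1, hb.2.2.1, add_zero], by rw [hermForm_add_left, ha.2.2.2, hb.2.2.2, add_zero]⟩
  zero_mem' := ⟨W.zero_mem, h_zero_left v, h_zero_left u, h_zero_left u'⟩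
  smul_mem' := fun c {a} ha => ⟨W.smul_mem c ha.1, by rw [hermForm_smul_left, ha.2.1, mul_zero],
    by rw [hermForm_smul_left, ha.2.2.1, mul_zero], by rw [hermForm_smul_left, ha.2.2.2, mul_zero]⟩

/-- The vectors of `W` orthogonal to a pair. -/
def perp2 (q : ℕ) (W : Submodule F (Fin n → F)) (u u' : Fin n → F) : Submodule F (Fin n → F) :=
  W ⊓ wSub q u u'

variable (hF : Fintype.card F = q ^ 2)

local notation "h" => hermForm n F q
local notation "cj" => qFrob hF

include hF

variable {e f : Fin n → F} (P : IsPair (q := q) e f) {u u' : Fin n → F}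
  (P' : IsPair (q := q) u u') (hu : u ∈ wSub q e f) (hu' : u' ∈ wSub q e f)

include P P' hu hu'

theorem wPart_mem_perp2 {x : V} (hx : x ∈ wSub q e f) :
    wPart (q := q) u u' x ∈ perp2 q (wSub q e f) u u' :=
  ⟨(wSub q e f).sub_mem hx ((wSub q e f).add_mem ((wSub q e f).smul_mem _ hu) ((wSub q e f).smul_mem _ hu')),
    wPart_mem hF P' x⟩

theorem card_perp2 : Nat.card (perp2 q (wSub q e f) u u') * (q ^ 2) ^ 2 = Nat.card (wSub q e f) := by
  have e1 : wSub q e f ≃ (F × F) × perp2 q (wSub q e f) u u' :=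
    { toFun := fun x => ((h (x : V) u', h (x : V) u), ⟨_, wPart_mem_perp2 hF P P' hu hu' x.2⟩)
      invFun := fun p => ⟨p.1.1 • u + p.1.2 • u' + (p.2 : V), (wSub q e f).add_mem
        ((wSub q e f).add_mem ((wSub q e f).smul_mem _ hu) ((wSub q e f).smul_mem _ hu')) p.2.2.1⟩
      left_inv := fun x => Subtype.ext (wPart_eq (q := q) u u' (x : V)).symm
      right_inv := fun p => by
        obtain ⟨⟨a, b⟩, ⟨y, hy⟩⟩ := p
        have h1 := (coordEquiv hF P').right_inv (a, b, ⟨y, hy.2⟩)
        simp only [coordEquiv, Prod.mk.injEq, Subtype.mk.injEq] at h1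
        exact Prod.ext (Prod.ext h1.1 h1.2.1) (Subtype.ext h1.2.2) }
  rw [Nat.card_congr e1, Nat.card_prod, Nat.card_prod, Nat.card_eq_fintype_card (α := F), hF]
  ring

theorem nondeg_perp2 : Nondeg q (perp2 q (wSub q e f) u u') := fun x hx hx0 => by
  obtain ⟨y, hy, hne⟩ := nondeg_wSub hF P x hx.1 hx0
  exact ⟨_, wPart_mem_perp2 hF P P' hu hu' hy, by rwa [h_wPart_right hF hx.2]⟩

variable {v : Fin n → F} (hv : v ∈ wSub q e f) (hvv : hermForm n F q v v ≠ 0)
  (hvu : hermForm n F q v u = 0) (hvu' : hermForm n F q v u' = 0)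

omit hF in
/-- The projection away from an anisotropic vector. -/
def awayFrom (q : ℕ) (v x : Fin n → F) : Fin n → F :=
  x - (hermForm n F q x v / hermForm n F q v v) • v

include hv hvv hvu hvu'

theorem proj_mem_perp3 {x : V} (hx : x ∈ wSub q e f) :
    wPart (q := q) u u' (awayFrom q v x) ∈ perp3 q (wSub q e f) v u u' := by
  have h1 : awayFrom q v x ∈ wSub q e f := (wSub q e f).sub_mem hx ((wSub q e f).smul_mem _ hv)
  obtain ⟨h2, h3⟩ := wPart_mem_perp2 hF P P' hu hu' h1
  refine ⟨h2, ?_, h3.1, h3.2⟩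
  rw [wPart, h_sub_left, h_add_left, h_smul_left, h_smul_left, h_comm_zero hF hvu, h_comm_zero hF hvu', awayFrom,
    h_sub_left, h_smul_left, div_mul_cancel₀ _ hvv]
  ring

theorem card_perp3 : Nat.card (perp3 q (wSub q e f) v u u') * q ^ 2 = Nat.card (perp2 q (wSub q e f) u u') := by
  have e1 : perp2 q (wSub q e f) u u' ≃ F × perp3 q (wSub q e f) v u u' :=
    { toFun := fun x => (h (x : V) v / h v v, ⟨awayFrom q v (x : V),
        (wSub q e f).sub_mem x.2.1 ((wSub q e f).smul_mem _ hv),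
        by rw [awayFrom, h_sub_left, h_smul_left, div_mul_cancel₀ _ hvv, sub_self],
        by rw [awayFrom, h_sub_left, h_smul_left, x.2.2.1, hvu]; ring,
        by rw [awayFrom, h_sub_left, h_smul_left, x.2.2.2, hvu']; ring⟩)
      invFun := fun p => ⟨p.1 • v + (p.2 : V), (wSub q e f).add_mem ((wSub q e f).smul_mem _ hv) p.2.2.1,
        (by rw [h_add_left, h_smul_left, hvu, p.2.2.2.2.1]; ring),
        (by rw [h_add_left, h_smul_left, hvu', p.2.2.2.2.2]; ring)⟩
      left_inv := fun x => Subtype.ext (by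
        show (h (x : V) v / h v v) • v + awayFrom q v (x : V) = x
        rw [awayFrom]; abel)
      right_inv := fun p => by
        obtain ⟨a, ⟨y, hy⟩⟩ := p
        have h1 : h (a • v + y) v / h v v = a := by
          rw [h_add_left, h_smul_left, hy.2.1, add_zero, mul_div_cancel_right₀ _ hvv]
        refine Prod.ext h1 (Subtype.ext ?_)
        show awayFrom q v (a • v + y) = y
        rw [awayFrom, h1]; abel }
  rw [Nat.card_congr e1, Nat.card_prod, Nat.card_eq_fintype_card (α := F), hF, mul_comm]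

theorem nondeg_perp3 : Nondeg q (perp3 q (wSub q e f) v u u') := fun x hx hx0 => by
  obtain ⟨y, hy, hne⟩ := nondeg_wSub hF P x hx.1 hx0
  refine ⟨_, proj_mem_perp3 hF P P' hu hu' hv hvv hvu hvu' hy, ?_⟩
  rwa [h_wPart_right hF (show x ∈ wSub q u u' from hx.2.2), awayFrom, h_sub_right hF, h_smul_right hF, hx.2.1,
    mul_zero, sub_zero]

omit P P' hu hu' hv hvv hvu hvu'

/-- A partner of a singular vector orthogonal to an anisotropic one. -/
theorem exists_partner_perp (P : IsPair (q := q) e f) {v : V} (hv : v ∈ wSub q e f) (hvv : h v v ≠ 0) {u : V}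
    (hu : u ∈ wSub q e f) (hu0 : u ≠ 0) (huu : h u u = 0) (hvu : h v u = 0) :
    ∃ u' ∈ wSub q e f, IsPair (q := q) u u' ∧ h v u' = 0 := by
  obtain ⟨y, hy, -, huy⟩ := wSub_partner hF P hu hu0 huu
  set y' := awayFrom q v y with hy'
  have hy'm : y' ∈ wSub q e f := Submodule.sub_mem _ hy (Submodule.smul_mem _ _ hv)
  have huy' : h u y' = 1 := by
    rw [hy', awayFrom, h_sub_right hF, h_smul_right hF, huy, h_comm_zero hF hvu, mul_zero, sub_zero]
  have hy'v : h y' v = 0 := by rw [hy', awayFrom, h_sub_left, h_smul_left, div_mul_cancel₀ _ hvv, sub_self]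
  obtain ⟨a, ha⟩ := exists_trace_eq hF (a := -h y' y') (by rw [map_neg, cj_h_self hF])
  refine ⟨y' + a • u, Submodule.add_mem _ hy'm (Submodule.smul_mem _ a hu), ⟨huu, ?_, ?_⟩, ?_⟩
  · rw [h_add_left, h_add_right hF, h_add_right hF, h_smul_right hF, h_smul_right hF, h_smul_left, h_smul_left,
      huu, huy', ← cj_h hF u y', huy', map_one]
    linear_combination ha
  · rw [h_add_right hF, h_smul_right hF, huy', huu, mul_zero, add_zero]
  · rw [h_add_right hF, h_smul_right hF, hvu, h_comm_zero hF hy'v, mul_zero, add_zero]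

/-- A singular vector orthogonal to an anisotropic one. -/
theorem exists_singular_perp (P : IsPair (q := q) e f) {d : ℕ} (hd : n = d + 2) (hd3 : 3 ≤ d) {v : V}
    (hv : v ∈ wSub q e f) (hvv : h v v ≠ 0) : ∃ u ∈ wSub q e f, u ≠ 0 ∧ h u u = 0 ∧ h v u = 0 := by
  have hq := two_le_q hF
  obtain ⟨z, hz, hzv, hzz⟩ := exists_aniso_perp hF P hd hd3 v
  -- the vectors orthogonal to both are many
  let φ : wSub q e f →+ F × F :=
    { toFun := fun x => (h (x : V) v, h (x : V) z)
      map_zero' := Prod.ext (h_zero_left v) (h_zero_left z)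
      map_add' := fun a b => Prod.ext (h_add_left _ _ v) (h_add_left _ _ z) }
  obtain ⟨x, hx0, hx⟩ : ∃ x : wSub q e f, x ≠ 0 ∧ φ x = 0 := by
    have h1 := AddSubgroup.card_mul_index φ.ker
    rw [AddSubgroup.index_ker, card_wSub hF P hd] at h1
    have h2 : Nat.card φ.range ≤ q ^ 2 * q ^ 2 := by
      refine le_trans (AddSubgroup.card_le_card_addGroup _) ?_
      rw [Nat.card_prod, Nat.card_eq_fintype_card, hF]
    have h3 : 1 < Nat.card φ.ker := by
      by_contra hcon
      have h4 := (Nat.mul_le_mul (not_lt.1 hcon) h2)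
      rw [h1, one_mul, ← pow_add] at h4
      have := (Nat.pow_le_pow_iff_right (show 1 < q by omega)).1 h4
      omega
    obtain ⟨x, hx, hx0⟩ := φ.ker.bot_or_exists_ne_zero.resolve_left (fun e0 => by
      rw [e0, AddSubgroup.card_bot] at h3; omega)
    exact ⟨x, hx0, hx⟩
  obtain ⟨hxv, hxz⟩ := Prod.ext_iff.1 hx
  change h (x : V) v = 0 at hxv
  change h (x : V) z = 0 at hxz
  by_cases hxx : h (x : V) (x : V) = 0
  · exact ⟨x, x.2, fun e0 => hx0 (Subtype.ext e0), hxx, h_comm_zero hF hxv⟩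
  · obtain ⟨b, hb⟩ := exists_norm hF (a := -h (x : V) (x : V) / h z z) (by
      rw [map_div₀, map_neg, cj_h_self hF, cj_h_self hF])
    refine ⟨(x : V) + b • z, Submodule.add_mem _ x.2 (Submodule.smul_mem _ b hz), fun e0 => hxx ?_, ?_, ?_⟩
    · have h1 := congrArg (fun y => h y (x : V)) e0
      simpa [h_add_left, h_smul_left, h_comm_zero hF hxz, h_zero_left] using h1
    · rw [h_add_left, h_add_right hF, h_add_right hF, h_smul_right hF, h_smul_right hF, h_smul_left, h_smul_left,
        hxz, h_comm_zero hF hxz]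
      linear_combination h z z * hb + div_mul_cancel₀ (-h (x : V) (x : V)) hzz
    · rw [h_add_right hF, h_smul_right hF, h_comm_zero hF hxv, h_comm_zero hF hzv, mul_zero, add_zero]

/-- A singular vector orthogonal to an anisotropic one and not to a given vector. -/
theorem exists_singular_h_ne (P : IsPair (q := q) e f) {d : ℕ} (hd : n = d + 2) (hd3 : 3 ≤ d) {v : V}
    (hv : v ∈ wSub q e f) (hvv : h v v ≠ 0) {x : V} (hx : x ∈ wSub q e f) (hx0 : x ≠ 0) (hxv : h v x = 0) :
    ∃ u ∈ wSub q e f, h u u = 0 ∧ h v u = 0 ∧ h x u ≠ 0 := by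
  by_cases hxx : h x x = 0
  · obtain ⟨x', hx', P', hx'v⟩ := exists_partner_perp hF P hv hvv hx hx0 hxx hxv
    exact ⟨x', hx', P'.ff, hx'v, by rw [P'.ef]; exact one_ne_zero⟩
  obtain ⟨u0, hu0, hu00, huu0, hvu0⟩ := exists_singular_perp hF P hd hd3 hv hvv
  obtain ⟨u1, hu1, P', hvu1⟩ := exists_partner_perp hF P hv hvv hu0 hu00 huu0 hvu0
  by_cases h0 : h x u0 ≠ 0
  · exact ⟨u0, hu0, huu0, hvu0, h0⟩
  by_cases h1 : h x u1 ≠ 0
  · exact ⟨u1, hu1, P'.ff, hvu1, h1⟩
  push Not at h0 h1
  obtain ⟨a, ha⟩ := exists_trace_eq hF (a := -h x x) (by rw [map_neg, cj_h_self hF])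
  refine ⟨u0 + a • u1 + x, Submodule.add_mem _ (Submodule.add_mem _ hu0 (Submodule.smul_mem _ a hu1)) hx, ?_, ?_,
    ?_⟩
  · simp only [h_add_left, h_add_right hF, h_smul_left, h_smul_right hF, huu0, P'.ff, P'.ef, P'.fe hF, h0, h1,
      h_comm_zero hF h0, h_comm_zero hF h1]
    linear_combination ha
  · rw [h_add_right hF, h_add_right hF, h_smul_right hF, hvu0, hvu1, hxv]; ring
  · rw [h_add_right hF, h_add_right hF, h_smul_right hF, h0, h1]
    simpa using hxx


variable (D : Data hF n) {Ω : Type u} [Fintype Ω] [MulAction (SU n F q) Ω]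

open Data

theorem mem_Av {b : Ω} (hb : b ∈ D.M) {v : V} (hv : v ∈ D.A b) : D.A b ∈ D.Av Ω v :=
  Finset.mem_image_of_mem _ (Finset.mem_filter.2 ⟨hb, hv⟩)

end Cfsg.Agent.Lie.MinIndexUnit
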