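import Cfsg.Agent.Lib.Lie.MinIndexUnitAnn

/-!
In an action on few points a point of the regular orbit of the Heisenberg group is fixed by all transvections of
the space orthogonal to the pair.
-/

set_option autoImplicit false
set_option linter.unusedSectionVars false
set_option maxHeartbeats 1000000

namespace Cfsg.Agent.Lie.MinIndexUnit

open Matrix Finset MulAction Cfsg Cfsg.Agent.Classical Cfsg.Agent.Classical.PSUAut

universe u

attribute [local instance 10] _root_.Classical.propDecidable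

variable {F : Type*} [Field F] [Fintype F] {q n : ℕ}

local notation "V" => (Fin n → F)

variable (hF : Fintype.card F = q ^ 2)

local notation "h" => hermForm n F q
local notation "cj" => qFrob hF

include hF

/-- The product of three transvections exchanging the lines of a pair. -/
theorem exists_swap {u u' : V} (P : IsPair (q := q) u u') {c : F} (hc : c + cj c = 0) (hc0 : c ≠ 0)
    {G : Subgroup (SU n F q)} (hu : ∀ c, tv hF P.ee c ∈ G) (hu' : ∀ c, tv hF P.ff c ∈ G) :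
    ∃ g ∈ G, suVal g *ᵥ u = (-c⁻¹) • u' ∧ suVal g *ᵥ u' = c • u ∧
      ∀ x ∈ wSub q u u', suVal g *ᵥ x = x := by
  have hd : -c⁻¹ + cj (-c⁻¹) = 0 := by
    rw [map_neg, map_inv₀, eq_neg_of_add_eq_zero_right hc, inv_neg, neg_neg, neg_add_cancel]
  refine ⟨tv hF P.ee ⟨c, hc⟩ * tv hF P.ff ⟨_, hd⟩ * tv hF P.ee ⟨c, hc⟩, G.mul_mem (G.mul_mem (hu _) (hu' _)) (hu _),
    ?_, ?_, ?_⟩
  all_goals
    intros
    rw [suVal_mul, suVal_mul, ← Matrix.mulVec_mulVec, ← Matrix.mulVec_mulVec, suVal_tv, suVal_tv]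
  · show eMat q u 0 c *ᵥ (eMat q u' 0 (-c⁻¹) *ᵥ (eMat q u 0 c *ᵥ u)) = _
    rw [tv_apply' hF u c u, P.ee, mul_zero, zero_smul, add_zero, tv_apply' hF u' (-c⁻¹) u, P.ef, mul_one,
      tv_apply' hF, h_add_left, h_smul_left, P.ee, P.fe hF, zero_add, mul_one,
      show c * -c⁻¹ = -1 by rw [mul_neg, mul_inv_cancel₀ hc0], neg_one_smul]
    abel
  · show eMat q u 0 c *ᵥ (eMat q u' 0 (-c⁻¹) *ᵥ (eMat q u 0 c *ᵥ u')) = _
    rw [tv_apply' hF u c u', P.fe hF, mul_one, tv_apply' hF u', h_add_left, h_smul_left, P.ff, P.ef, zero_add,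
      mul_one, show -c⁻¹ * c = -1 by rw [neg_mul, inv_mul_cancel₀ hc0], neg_one_smul,
      add_right_comm u', add_neg_cancel, zero_add, tv_apply' hF, h_smul_left, P.ee, mul_zero, mul_zero, zero_smul,
      add_zero]
  · rename_i x hx
    show eMat q u 0 c *ᵥ (eMat q u' 0 (-c⁻¹) *ᵥ (eMat q u 0 c *ᵥ x)) = _
    rw [tv_apply' hF u c x, hx.1, mul_zero, zero_smul, add_zero, tv_apply' hF u' (-c⁻¹) x, hx.2, mul_zero, zero_smul, add_zero,
      tv_apply' hF, hx.1, mul_zero, zero_smul, add_zero]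

/-- The diagonal element of a pair, as a product of transvections. -/
theorem exists_torus {u u' : V} (P : IsPair (q := q) u u') {r : F} (hr : cj r = r) (hr0 : r ≠ 0)
    {G : Subgroup (SU n F q)} (hu : ∀ c, tv hF P.ee c ∈ G) (hu' : ∀ c, tv hF P.ff c ∈ G) :
    ∃ t ∈ G, suVal t *ᵥ u = r • u ∧ suVal t *ᵥ u' = r⁻¹ • u' ∧ ∀ x ∈ wSub q u u', suVal t *ᵥ x = x := by
  obtain ⟨c, hc0, hc⟩ := exists_trace_zero hF
  have hc' : -(r * c) + cj (-(r * c)) = 0 := by
    rw [map_neg, ← neg_add, real_mul_skew hF hr hc, neg_zero]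
  obtain ⟨g, hg, g1, g2, g3⟩ := exists_swap hF P hc hc0 hu hu'
  obtain ⟨k, hk, k1, k2, k3⟩ := exists_swap hF P hc' (neg_ne_zero.2 (mul_ne_zero hr0 hc0)) hu hu'
  refine ⟨k * g, G.mul_mem hk hg, ?_, ?_, fun x hx => ?_⟩
  · rw [suVal_mul, ← Matrix.mulVec_mulVec, g1, Matrix.mulVec_smul, k2, smul_smul]
    congr 1
    field_simp
  · rw [suVal_mul, ← Matrix.mulVec_mulVec, g2, Matrix.mulVec_smul, k1, smul_smul]
    congr 1
    field_simp
  · rw [suVal_mul, ← Matrix.mulVec_mulVec, g3 x hx, k3 x hx]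

/-- A real element of prime order dividing `q - 1`. -/
theorem exists_real_root (hq : 3 ≤ q) :
    ∃ (r : F) (l : ℕ), l.Prime ∧ l ∣ q - 1 ∧ cj r = r ∧ r ≠ 0 ∧ r ≠ 1 ∧ r ^ l = 1 := by
  obtain ⟨l, hl, hlq⟩ := Nat.exists_prime_and_dvd (show q - 1 ≠ 1 by omega)
  have : Fact l.Prime := ⟨hl⟩
  have h1 : l ∣ Nat.card Fˣ := by
    rw [Nat.card_units, Nat.card_eq_fintype_card, hF]
    exact hlq.trans (by simpa using Nat.sub_dvd_pow_sub_pow q 1 2)
  obtain ⟨a, ha⟩ := exists_prime_orderOf_dvd_card' l h1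
  have e1 : (a : F) ^ l = 1 := by rw [← Units.val_pow_eq_pow_val, ← ha, pow_orderOf_eq_one, Units.val_one]
  refine ⟨a, l, hl, hlq, ?_, a.ne_zero, fun e0 => ?_, e1⟩
  · obtain ⟨m, hm⟩ := hlq
    rw [← cj_pow hF]
    conv_lhs => rw [show q = l * m + 1 by omega, pow_succ, pow_mul, e1, one_pow, one_mul]
  · rw [Units.val_eq_one.1 e0, orderOf_one] at ha
    exact hl.ne_one ha.symm

variable (D : Data hF n) {Ω : Type u} [Fintype Ω] [MulAction (SU n F q) Ω]

open Data

variable {b : Ω} (hfree : ∀ x ∈ D.Q, x • b = b → x = 1)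
  (hout : ∀ b' : Ω, b' ∉ orbit D.Q b → ∀ c : skew hF, D.z c • b' = b')
include hfree

theorem free_orbit {x : Ω} (hx : x ∈ orbit D.Q b) {g : SU n F q} (hg : g ∈ D.Q) (hgx : g • x = x) : g = 1 := by
  obtain ⟨y, hy, rfl⟩ := smul_mem_of_orbit hF D hx
  have h1 : (y⁻¹ * g * y) • b = b := by rw [mul_smul, mul_smul, hgx, inv_smul_smul]
  have h2 := hfree _ (mul_mem (mul_mem (inv_mem hy) hg) hy) h1
  rwa [mul_assoc, inv_mul_eq_one, eq_comm, mul_eq_right] at h2

theorem moved_of_orbit {x : Ω} (hx : x ∈ orbit D.Q b) {c : skew hF} (hc : D.z c • x = x) : c = 0 := by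
  have h1 := free_orbit hF D hfree hx (tv_mem_Q hF D c) hc
  have h2 := (wOf_cOf hF D.pair D.W.zero_mem (suVal_tv hF D.pair.ee c)).2
  rw [show tv hF D.pair.ee c = 1 from h1, cOf, show suVal (1 : SU n F q) = 1 from rfl, Matrix.one_mulVec,
    D.pair.ff] at h2
  exact Subtype.ext h2.symm

theorem card_orbit : Nat.card {x : Ω // x ∈ orbit D.Q b} = q ^ (2 * D.d) * q := by
  have h1 := orbit_sum hF D b
  have : D.stQ b = ⊥ := (Subgroup.eq_bot_iff_forall _).2 fun x hx => hfree x hx.1 hx.2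
  rwa [this, Subgroup.card_bot, mul_one] at h1

include hout

/-- An element fixing the line of the first vector preserves the regular orbit. -/
theorem orbit_smul_mem {g : SU n F q} {a : F} (hg : suVal g *ᵥ D.e = a • D.e) {x : Ω}
    (hx : x ∈ orbit D.Q b) : g • x ∈ orbit D.Q b := by
  by_contra hne
  have hc : D.c0 + cj D.c0 = 0 := D.c0_skew
  have hc' : a * cj a * D.c0 + cj (a * cj a * D.c0) = 0 :=
    real_mul_skew hF (by rw [map_mul, cj_cj, mul_comm]) hc
  have e1 : g * D.z ⟨D.c0, hc⟩ * g⁻¹ = D.z ⟨_, hc'⟩ := suVal_ext (by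
    rw [suVal_mul, suVal_mul, suVal_tv, suVal_tv, eMat_conj hF, Matrix.mulVec_zero, hg, tv_smul hF]; rfl)
  have h2 := hout _ hne ⟨_, hc'⟩
  rw [← e1, mul_smul, mul_smul, inv_smul_smul, smul_left_cancel_iff] at h2
  exact D.c0_ne (congrArg Subtype.val (moved_of_orbit hF D hfree hx h2))

/-- An element normalising the Heisenberg group fixes a point of the regular orbit. -/
theorem exists_fixed {t : SU n F q} {a : F} (ha : a ≠ 0) (te : suVal t *ᵥ D.e = a • D.e) {l : ℕ} (hl : l.Prime)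
    (hlq : ¬ l ∣ q) (tl : t ^ l = 1) : ∃ b0 ∈ orbit D.Q b, t • b0 = b0 := by
  have te' : suVal t⁻¹ *ᵥ D.e = a⁻¹ • D.e := by
    have h1 : suVal t⁻¹ *ᵥ (a • D.e) = D.e := by
      rw [← te, Matrix.mulVec_mulVec, suVal_inv_mul, Matrix.one_mulVec]
    rw [Matrix.mulVec_smul] at h1
    rw [eq_comm, inv_smul_eq_iff₀ ha, h1]
  let σ : Equiv.Perm {x : Ω // x ∈ orbit D.Q b} :=
    { toFun := fun x => ⟨t • x.1, orbit_smul_mem hF D hfree hout te x.2⟩
      invFun := fun x => ⟨t⁻¹ • x.1, orbit_smul_mem hF D hfree hout te' x.2⟩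
      left_inv := fun x => Subtype.ext (inv_smul_smul t x.1)
      right_inv := fun x => Subtype.ext (smul_inv_smul t x.1) }
  have hσk : ∀ (k : ℕ) (x : {x : Ω // x ∈ orbit D.Q b}), ((σ ^ k) x).1 = t ^ k • x.1 := by
    intro k
    induction k with
    | zero => intro x; rw [pow_zero, pow_zero, one_smul]; rfl
    | succ k ih => intro x; rw [pow_succ', pow_succ', mul_smul, ← ih x]; rfl
  have : Fact l.Prime := ⟨hl⟩
  have hndvd : ¬ l ∣ Fintype.card {x : Ω // x ∈ orbit D.Q b} := by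
    rw [← Nat.card_eq_fintype_card, card_orbit hF D hfree, ← pow_succ]
    exact fun hd => hlq (hl.dvd_of_dvd_pow hd)
  obtain ⟨x, hx⟩ := Equiv.Perm.exists_fixed_point_of_prime (p := l) (n := 1) hndvd (σ := σ)
    (by
      rw [pow_one]
      exact Equiv.ext fun x => Subtype.ext (by rw [hσk, tl, one_smul]; rfl))
  exact ⟨x.1, x.2, congrArg Subtype.val hx⟩

/-- Two fixed points of such an element differ by a transvection. -/
theorem fixed_differ {t : SU n F q} {a : F} (te : suVal t *ᵥ D.e = a • D.e)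
    (tW : ∀ w ∈ D.W, suVal t *ᵥ w ∈ D.W) (tfree : ∀ w ∈ D.W, cj a • (suVal t *ᵥ w) = w → w = 0)
    {b0 : Ω} (hb0 : b0 ∈ orbit D.Q b) (ht : t • b0 = b0) {y : Ω} (hy : y ∈ orbit D.Q b) (hty : t • y = y) :
    ∃ c : skew hF, y = D.z c • b0 := by
  rw [← orbit_eq_iff.2 hb0] at hy
  obtain ⟨x, hx, rfl⟩ := smul_mem_of_orbit hF D hy
  obtain ⟨hw, H, e1⟩ := heisX_eq hF D.pair (le_refl D.W) hx
  set w := wOf D.e D.f x
  set c := cOf D.f x
  set w' := cj a • (suVal t *ᵥ w)
  have hw' : w' ∈ D.W := D.W.smul_mem _ (tW _ hw)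
  have H' : EOK (q := q) D.e w' (a * cj a * c) := ⟨D.pair.ee, hw'.1, by
    have h1 := H.cc
    rw [cj_pow hF] at h1 ⊢
    rw [map_mul, map_mul, cj_cj, h_smul_left, h_smul_right hF, cj_cj, su_form]
    linear_combination (a * cj a) * h1⟩
  have e2 : t * x * t⁻¹ = eSU hF H' := suVal_ext (by
    rw [e1, suVal_mul, suVal_mul, suVal_eSU, suVal_eSU, eMat_conj hF, te, PSUAut.eMat_smul hF])
  have hQ : t * x * t⁻¹ ∈ D.Q := by rw [e2]; exact eSU_mem_heisX hF hw' H'
  have h3 : (x⁻¹ * (t * x * t⁻¹)) • b0 = b0 := by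
    rw [mul_smul, mul_smul, mul_smul, inv_smul_eq_iff.2 ht.symm, hty, inv_smul_smul]
  have h5 := free_orbit hF D hfree hb0 (mul_mem (inv_mem hx) hQ) h3
  rw [inv_mul_eq_one, e2] at h5
  have h6 := (wOf_cOf hF D.pair hw' (show suVal x = _ by rw [h5, suVal_eSU])).1
  obtain ⟨d, -, hd⟩ := eq_tv_of_wOf hF D.pair (le_refl D.W) (St := D.Q) le_rfl hx (tfree _ hw h6.symm)
  exact ⟨d, by rw [hd]⟩

omit hfree hout

/-- The diagonal elements on a pair, its orthogonal space and an anisotropic vector of that space. -/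
theorem exists_diag {v : V} (hv : v ∈ D.W) (hvv : h v v ≠ 0) {μ α β : F} (hμ : μ * cj μ = 1) (hα : α * cj α = 1)
    (hβ : β * cj β = 1) (hdet : μ ^ n * α * α * β = 1) :
    ∃ t : SU n F q, ∀ x : V, suVal t *ᵥ x =
      μ • (x + (α - 1) • (h x D.f • D.e + h x D.e • D.f) + ((β - 1) * h x v / h v v) • v) := by
  obtain ⟨τ, hτ⟩ : ∃ τ : F, τ + cj τ = 1 := exists_trace_eq hF (map_one cj)
  set p1 := D.e + τ • D.f with hp1
  set p2 := D.e - cj τ • D.f with hp2
  have h11 : h p1 p1 = 1 := by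
    simp only [hp1, h_add_left, h_add_right hF, h_smul_left, h_smul_right hF, D.pair.ee, D.pair.ef, D.pair.fe hF,
      D.pair.ff]
    linear_combination hτ
  have h22 : h p2 p2 = -1 := by
    simp only [hp2, h_sub_left, h_sub_right hF, h_smul_left, h_smul_right hF, D.pair.ee, D.pair.ef, D.pair.fe hF,
      D.pair.ff, cj_cj]
    linear_combination -hτ
  have h12 : h p1 p2 = 0 := by
    simp only [hp1, hp2, h_add_left, h_sub_right hF, h_smul_left, h_smul_right hF, D.pair.ee, D.pair.ef,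
      D.pair.fe hF, D.pair.ff, cj_cj]
    ring
  have hv1 : h v p1 = 0 := by rw [hp1, h_add_right hF, h_smul_right hF, hv.1, hv.2]; ring
  have hv2 : h v p2 = 0 := by rw [hp2, h_sub_right hF, h_smul_right hF, hv.1, hv.2]; ring
  obtain ⟨R1, hR1, d1, f1⟩ := exists_reflection hF (u := p1) (by rw [h11]; exact one_ne_zero) hα
  obtain ⟨R2, hR2, d2, f2⟩ := exists_reflection hF (u := p2) (by rw [h22]; simp) hα
  obtain ⟨R3, hR3, d3, f3⟩ := exists_reflection hF hvv hβ
  let M : Matrix (Fin n) (Fin n) F := μ • ((R1 : Matrix (Fin n) (Fin n) F) * (R2 : Matrix (Fin n) (Fin n) F) *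
    (R3 : Matrix (Fin n) (Fin n) F))
  have hM : M.det = 1 := by
    rw [Matrix.det_smul, Matrix.det_mul, Matrix.det_mul, d1, d2, d3, Fintype.card_fin]
    linear_combination hdet
  let t : SU n F q := ⟨⟨M, hM⟩, fun x z => by
    show h (M *ᵥ x) (M *ᵥ z) = h x z
    rw [Matrix.smul_mulVec, Matrix.smul_mulVec, h_smul_left, h_smul_right hF, ← Matrix.mulVec_mulVec,
      ← Matrix.mulVec_mulVec, ← Matrix.mulVec_mulVec, ← Matrix.mulVec_mulVec, ← mul_assoc, hμ, one_mul]
    exact (hR1 _ _).trans ((hR2 _ _).trans (hR3 x z))⟩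
  refine ⟨t, fun x => ?_⟩
  show M *ᵥ x = _
  rw [Matrix.smul_mulVec, ← Matrix.mulVec_mulVec, ← Matrix.mulVec_mulVec, f3, f2, f1]
  congr 1
  simp only [h_add_left, h_smul_left, hv1, hv2, h11, h22, h_comm_zero hF h12]
  simp only [hp1, hp2, h_add_right hF, h_sub_right hF, h_smul_right hF, cj_cj, div_one, div_neg, mul_zero,
    add_zero]
  match_scalars <;> first
    | ring1
    | linear_combination ((α - 1) * h x D.f) * hτ
    | linear_combination ((α - 1) * h x D.e) * hτ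

/-- An anisotropic vector orthogonal to three vectors. -/
theorem exists_aniso_three (hd : 7 ≤ D.d) (a b c : V) :
    ∃ x ∈ D.W, h x x ≠ 0 ∧ h x a = 0 ∧ h x b = 0 ∧ h x c = 0 := by
  by_contra hcon
  push Not at hcon
  let φ : D.W →+ F × F × F :=
    { toFun := fun x => (h (x : V) a, h (x : V) b, h (x : V) c)
      map_zero' := by simp [h_zero_left]
      map_add' := fun x y => by simp [h_add_left] }
  set S := φ.ker.map (D.W.subtype.toAddMonoidHom) with hSdef
  have hS : Nat.card S * Nat.card S ≤ Nat.card D.W := by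
    refine sq_card_singular_le hF (nondeg_wSub hF D.pair) (fun s hs => ?_) fun s hs => ?_ <;>
      obtain ⟨y, hy, rfl⟩ := hs
    · exact y.2
    · obtain ⟨h1, h2, h3⟩ : h (y : V) a = 0 ∧ h (y : V) b = 0 ∧ h (y : V) c = 0 := by
        simpa [φ, Prod.ext_iff] using (show φ y = 0 from hy)
      by_contra hyy
      exact hcon y y.2 hyy h1 h2 h3
  rw [hSdef, AddSubgroup.card_map_of_injective D.W.subtype_injective, card_wSub hF D.pair D.dim] at hS
  have h1 := AddSubgroup.card_mul_index φ.ker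
  rw [AddSubgroup.index_ker, card_wSub hF D.pair D.dim] at h1
  have h2 : Nat.card φ.range ≤ q ^ 6 := by
    refine (AddSubgroup.card_le_card_addGroup _).trans (le_of_eq ?_)
    rw [Nat.card_prod, Nat.card_prod, Nat.card_eq_fintype_card, hF]; ring
  have hq := two_le_q hF
  set k := Nat.card φ.ker
  have h3 : q ^ (2 * D.d) * q ^ (2 * D.d) ≤ q ^ (2 * D.d) * (q ^ 6 * q ^ 6) :=
    calc q ^ (2 * D.d) * q ^ (2 * D.d) = (k * Nat.card φ.range) * (k * Nat.card φ.range) := by rw [h1]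
      _ ≤ (k * q ^ 6) * (k * q ^ 6) := by gcongr
      _ = (k * k) * (q ^ 6 * q ^ 6) := by ring
      _ ≤ _ := by gcongr
  have h4 := Nat.le_of_mul_le_mul_left h3 (pow_pos (by omega) _)
  rw [← pow_add] at h4
  have := (Nat.pow_le_pow_iff_right (by omega)).1 h4
  omega

include hfree hout

/-- A point of the orbit whose images under the elements fixing the pair differ by transvections, over the field
with four elements. -/
theorem exists_base_two (hbig : 7 ≤ D.d ∨ D.d % 3 ≠ 1) (hq2 : q = 2) : ∃ b0 ∈ orbit D.Q b,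
    ∀ g ∈ gW q D.e D.f, ∃ c : skew hF, g • b0 = D.z c • b0 := by
  obtain ⟨v0, hv0, hv00⟩ := exists_aniso hF (nondeg_wSub hF D.pair) (by
    rw [card_wSub hF D.pair D.dim]
    exact Nat.one_lt_pow (by have := D.dge; omega) (by omega))
  have hge1 : ∀ {g : SU n F q}, g ∈ gW q D.e D.f → suVal g *ᵥ D.e = (1 : F) • D.e := fun hg => by
    rw [one_smul]; exact hg.1
  have : Fact (Nat.Prime 3) := ⟨Nat.prime_three⟩
  obtain ⟨u, hu⟩ := exists_prime_orderOf_dvd_card' (G := Fˣ) 3 (by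
    rw [Nat.card_units, Nat.card_eq_fintype_card, hF, hq2]; norm_num)
  set ω : F := (u : F)
  have hω3 : ω ^ 3 = 1 := by
    rw [← Units.val_pow_eq_pow_val, show u ^ 3 = 1 by rw [← hu]; exact pow_orderOf_eq_one u, Units.val_one]
  have hω1 : ω ≠ 1 := fun e0 => by
    rw [Units.val_eq_one.1 e0, orderOf_one] at hu
    norm_num at hu
  have hω0 : ω ≠ 0 := u.ne_zero
  have hω2 : ω ^ 2 ≠ 1 := fun e0 => hω1 (by
    calc ω = ω * ω ^ 2 := by rw [e0, mul_one]
      _ = ω ^ 3 := by ring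
      _ = 1 := hω3)
  have hcj : ∀ x : F, cj x = x ^ 2 := fun x => (cj_pow hF x).symm.trans (congrArg (x ^ ·) hq2)
  have hN : ∀ k : ℕ, ω ^ k * cj (ω ^ k) = 1 := fun k => by
    rw [hcj, ← pow_succ', ← pow_mul, mul_comm k, pow_mul, hω3, one_pow]
  have hmod : ∀ {k : ℕ}, 3 ∣ k → ω ^ k = 1 := fun hk => by
    obtain ⟨j, rfl⟩ := hk
    rw [pow_mul, hω3, one_pow]
  have h3q : ¬ 3 ∣ q := by rw [hq2]; norm_num
  by_cases hd : D.d % 3 = 1
  swap
  · -- a scalar element
    set α := ω ^ (D.d + 2)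
    obtain ⟨t, ht⟩ := exists_diag hF D hv0 hv00 (μ := ω) (α := α) (β := 1) (by simpa using hN 1) (hN _)
      (by rw [map_one, mul_one]) (by
        rw [mul_one, ← pow_add, ← pow_add]
        exact hmod (by have := D.dim; omega))
    have te : suVal t *ᵥ D.e = (ω * α) • D.e := by
      rw [ht, D.pair.ee, D.pair.ef]; simp [smul_smul, ← add_smul]; module
    have tW : ∀ w ∈ D.W, suVal t *ᵥ w = ω • w := fun w hw => by rw [ht, hw.1, hw.2]; simp
    have tfix : ∀ y : V, suVal t *ᵥ y =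
        (ω * α) • (h y D.f • D.e + h y D.e • D.f) + ω • wPart (q := q) D.e D.f y := fun y => by
      rw [ht, wPart]
      simp only [sub_self, zero_mul, zero_div, zero_smul, add_zero]
      module
    have tl : t ^ 3 = 1 := suVal_ext (Matrix.ext_iff_mulVec.2 fun x => by
      rw [pow_succ, pow_succ, pow_one, suVal_mul, suVal_mul, ← Matrix.mulVec_mulVec, ← Matrix.mulVec_mulVec, ht x,
        show suVal (1 : SU n F q) = 1 from rfl, Matrix.one_mulVec]
      simp only [sub_self, zero_mul, zero_div, zero_smul, add_zero, ht, h_smul_left, h_add_left, D.pair.ee,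
        D.pair.ef, D.pair.fe hF, D.pair.ff]
      have ha : α ^ 3 = 1 := by rw [← pow_mul, hmod (Dvd.intro_left _ rfl)]
      match_scalars <;> first
        | linear_combination hω3
        | linear_combination (h x D.f) * (α ^ 3 - 1) * hω3 + (h x D.f) * ha
        | linear_combination (h x D.e) * (α ^ 3 - 1) * hω3 + (h x D.e) * ha)
    obtain ⟨b0, hb0, htb⟩ := exists_fixed hF D hfree hout (mul_ne_zero hω0 (pow_ne_zero _ hω0)) te Nat.prime_three
      h3q tl
    refine ⟨b0, hb0, fun g hg => ?_⟩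
    have hgb : g • b0 ∈ orbit D.Q b := orbit_smul_mem hF D hfree hout (hge1 hg) hb0
    have hgt : g * t = t * g := suVal_ext (Matrix.ext_iff_mulVec.2 fun x => by
      rw [suVal_mul, suVal_mul, ← Matrix.mulVec_mulVec, ← Matrix.mulVec_mulVec, tfix, tfix (suVal g *ᵥ x),
        Matrix.mulVec_add, Matrix.mulVec_smul, Matrix.mulVec_smul, Matrix.mulVec_add, Matrix.mulVec_smul,
        Matrix.mulVec_smul, hg.1, hg.2]
      have e1 : h (suVal g *ᵥ x) D.f = h x D.f := by conv_lhs => rw [← hg.2, su_form]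
      have e2 : h (suVal g *ᵥ x) D.e = h x D.e := by conv_lhs => rw [← hg.1, su_form]
      rw [wPart, wPart, e1, e2, Matrix.mulVec_sub, Matrix.mulVec_add, Matrix.mulVec_smul, Matrix.mulVec_smul, hg.1,
        hg.2])
    refine fixed_differ hF D hfree hout te (fun w hw => by rw [tW w hw]; exact D.W.smul_mem _ hw) (fun w hw e0 => ?_)
      hb0 htb hgb (by rw [← mul_smul, ← hgt, mul_smul, htb])
    rw [tW w hw, smul_smul] at e0
    by_contra hw0
    have e1 : cj (ω * α) * ω = 1 := smul_left_injective F hw0 (by simpa using e0)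
    rw [← pow_succ', hcj, ← pow_mul, ← pow_succ] at e1
    have e2 : (orderOf u) ∣ (D.d + 2 + 1) * 2 + 1 := orderOf_dvd_of_pow_eq_one (Units.ext (by simpa using e1))
    rw [hu] at e2
    omega
  -- a family of commuting elements
  have hd7 : 7 ≤ D.d := hbig.resolve_right (not_not.2 hd)
  have hex : ∀ v : {v : V // v ∈ D.W ∧ h v v ≠ 0}, ∃ t : SU n F q, ∀ x : V, suVal t *ᵥ x =
      ω • x + (1 - ω) • (h x D.f • D.e + h x D.e • D.f + (h x v.1 / h v.1 v.1) • v.1) := fun v => by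
    obtain ⟨t, ht⟩ := exists_diag hF D v.2.1 v.2.2 (μ := ω) (α := ω ^ 2) (β := ω ^ 2) (by simpa using hN 1)
      (hN 2) (hN 2) (by rw [← pow_add, ← pow_add, ← pow_add]; exact hmod (by have := D.dim; omega))
    refine ⟨t, fun x => ?_⟩
    rw [ht]
    match_scalars <;> first
      | ring1
      | linear_combination h x D.f * hω3
      | linear_combination h x D.e * hω3
      | linear_combination (h x v.1 / h v.1 v.1) * hω3
  choose T hT using hex
  have Te : ∀ v, suVal (T v) *ᵥ D.e = D.e := fun v => by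
    rw [hT, D.pair.ee, D.pair.ef, h_comm_zero hF v.2.1.1]; simp [← add_smul]
  have TW : ∀ v, ∀ w ∈ D.W, suVal (T v) *ᵥ w ∈ D.W := fun v w hw => by
    rw [hT, hw.1, hw.2]
    simp only [zero_smul, zero_add]
    exact D.W.add_mem (D.W.smul_mem _ hw) (D.W.smul_mem _ (D.W.smul_mem _ v.2.1))
  have Tcomm : ∀ v v', h v.1 v'.1 = 0 → T v * T v' = T v' * T v := fun v v' hvv' =>
    suVal_ext (Matrix.ext_iff_mulVec.2 fun x => by
      rw [suVal_mul, suVal_mul, ← Matrix.mulVec_mulVec, ← Matrix.mulVec_mulVec]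
      simp only [hT, h_add_left, h_smul_left, hvv', h_comm_zero hF hvv', D.pair.ee, D.pair.ef, D.pair.fe hF,
        D.pair.ff, h_comm_zero hF v.2.1.1, h_comm_zero hF v.2.1.2, h_comm_zero hF v'.2.1.1, h_comm_zero hF v'.2.1.2,
        v.2.1.1, v.2.1.2, v'.2.1.1, v'.2.1.2, mul_zero, add_zero, zero_add, mul_one]
      module)
  have Tfix : ∀ v, ∀ p, suVal (T v) *ᵥ (h p D.f • D.e + h p D.e • D.f + (h p v.1 / h v.1 v.1) • v.1) =
      h p D.f • D.e + h p D.e • D.f + (h p v.1 / h v.1 v.1) • v.1 := fun v p => by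
    rw [hT]
    simp only [h_add_left, h_smul_left, D.pair.ee, D.pair.ef, D.pair.fe hF, D.pair.ff, h_comm_zero hF v.2.1.1,
      h_comm_zero hF v.2.1.2, v.2.1.1, v.2.1.2, mul_zero, add_zero, zero_add, mul_one,
      div_mul_cancel₀ _ v.2.2]
    module
  have T3 : ∀ v, T v ^ 3 = 1 := fun v => suVal_ext (Matrix.ext_iff_mulVec.2 fun x => by
    rw [pow_succ, pow_succ, pow_one, suVal_mul, suVal_mul, ← Matrix.mulVec_mulVec, ← Matrix.mulVec_mulVec, hT v x,
      show suVal (1 : SU n F q) = 1 from rfl, Matrix.one_mulVec]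
    have hP := Tfix v x
    have hx := hT v x
    generalize h x D.f • D.e + h x D.e • D.f + (h x v.1 / h v.1 v.1) • v.1 = P at hP hx ⊢
    simp only [Matrix.mulVec_add, Matrix.mulVec_smul, hP, hx]
    match_scalars <;> first
      | linear_combination hω3
      | linear_combination -hω3)
  have Tconj : ∀ g ∈ gW q D.e D.f, ∀ v v', suVal g *ᵥ v.1 = v'.1 → g * T v = T v' * g := fun g hg v v' hgv =>
    suVal_ext (Matrix.ext_iff_mulVec.2 fun x => by
      rw [suVal_mul, suVal_mul, ← Matrix.mulVec_mulVec, ← Matrix.mulVec_mulVec, hT, hT, ← hgv, su_form, su_form,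
        show h (suVal g *ᵥ x) D.f = h x D.f by conv_lhs => rw [← hg.2, su_form],
        show h (suVal g *ᵥ x) D.e = h x D.e by conv_lhs => rw [← hg.1, su_form]]
      simp only [Matrix.mulVec_add, Matrix.mulVec_smul, hg.1, hg.2])
  have sfree : ∀ v v', h v.1 v'.1 = 0 → ∀ w ∈ D.W, cj (1 : F) • (suVal (T v * T v') *ᵥ w) = w → w = 0 := by
    intro v v' hvv' w hw e0
    rw [map_one, one_smul, suVal_mul, ← Matrix.mulVec_mulVec] at e0
    simp only [hT, hw.1, hw.2, h_add_left, h_smul_left, h_comm_zero hF hvv', v'.2.1.1, v'.2.1.2, zero_smul,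
      zero_add, mul_zero, add_zero] at e0
    have h1 := congrArg (fun y => h y v.1) e0
    simp only [h_add_left, h_smul_left, h_comm_zero hF hvv', div_mul_cancel₀ _ v.2.2, mul_zero, add_zero] at h1
    have hwv : h w v.1 = 0 := by
      by_contra hne
      exact hω1 (mul_right_cancel₀ hne (by linear_combination h1))
    have h2 := congrArg (fun y => h y v'.1) e0
    simp only [h_add_left, h_smul_left, hvv', hwv, div_mul_cancel₀ _ v'.2.2, zero_div, mul_zero, add_zero,
      zero_mul] at h2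
    have hwv' : h w v'.1 = 0 := by
      by_contra hne
      exact hω1 (mul_right_cancel₀ hne (by linear_combination h2))
    simp only [hwv, hwv', zero_div, mul_zero, zero_smul, smul_zero, add_zero, smul_smul] at e0
    by_contra hw0
    exact hω2 (smul_left_injective F hw0 (show ω ^ 2 • w = (1 : F) • w by rw [one_smul, sq]; exact e0))
  obtain ⟨a, ha, haa, hav, -, -⟩ := exists_aniso_three hF D hd7 v0 v0 v0
  let a1 : {v : V // v ∈ D.W ∧ h v v ≠ 0} := ⟨v0, hv0, hv00⟩
  let a2 : {v : V // v ∈ D.W ∧ h v v ≠ 0} := ⟨a, ha, haa⟩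
  have h12 : h a1.1 a2.1 = 0 := h_comm_zero hF hav
  have se : ∀ v v', suVal (T v * T v') *ᵥ D.e = (1 : F) • D.e := fun v v' => by
    rw [suVal_mul, ← Matrix.mulVec_mulVec, Te, Te, one_smul]
  obtain ⟨b0, hb0, hsb⟩ := exists_fixed hF D hfree hout one_ne_zero (se a1 a2) Nat.prime_three h3q (by
    rw [(show Commute (T a1) (T a2) from Tcomm a1 a2 h12).mul_pow, T3, T3, one_mul])
  have hdiff : ∀ v v', h v.1 v'.1 = 0 → (T v * T v') • b0 = b0 → ∀ y ∈ orbit D.Q b, (T v * T v') • y = y →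
      ∃ c : skew hF, y = D.z c • b0 := fun v v' hvv' hs y hy hsy =>
    fixed_differ hF D hfree hout (se v v') (fun w hw => by
      rw [suVal_mul, ← Matrix.mulVec_mulVec]; exact TW v _ (TW v' w hw)) (sfree v v' hvv') hb0 hs hy hsy
  -- what commutes with such a product fixes the point
  have hcommfix : ∀ v v', h v.1 v'.1 = 0 → (T v * T v') • b0 = b0 → ∀ x,
      T x * (T v * T v') = (T v * T v') * T x → T x • b0 = b0 := by
    intro v v' hvv' hs x hxs
    obtain ⟨c, hc⟩ := hdiff v v' hvv' hs (T x • b0)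
      (orbit_smul_mem hF D hfree hout (show suVal (T x) *ᵥ D.e = (1 : F) • D.e by rw [Te, one_smul]) hb0)
      (by rw [← mul_smul, ← hxs, mul_smul, hs])
    have hswap : ∀ y : Ω, T x • D.z c • y = D.z c • T x • y := fun y => by
      rw [smul_smul, smul_smul, tv_comm_of_fix hF D (g := T x) (Te x) c]
    have h1 : (T x ^ 3) • b0 = D.z (c + (c + c)) • b0 := by
      rw [pow_succ', pow_succ', pow_one, mul_smul, mul_smul, hc, hswap, hc, hswap, hswap, hc, smul_smul, smul_smul]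
      congr 1
      simp only [Data.z, ← tv_add, add_assoc]
    rw [T3, one_smul] at h1
    have h2 := moved_of_orbit hF D hfree hb0 h1.symm
    have h3 : c + c = 0 := by
      have h4 : Nat.card (skew hF) • c = 0 := card_nsmul_eq_zero'
      rw [(card_skew hF).trans hq2, two_nsmul] at h4
      exact h4
    rw [h3, add_zero] at h2
    rw [hc, h2, Data.z, tv_zero, one_smul]
  have hfix : ∀ v v', h v.1 v'.1 = 0 → (T v * T v') • b0 = b0 → ∀ x, h x.1 v.1 = 0 → h x.1 v'.1 = 0 →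
      T x • b0 = b0 := fun v v' hvv' hs x hxv hxv' => hcommfix v v' hvv' hs x (by
    rw [← mul_assoc, Tcomm x v hxv, mul_assoc, Tcomm x v' hxv', mul_assoc])
  have hprod : ∀ v v', T v • b0 = b0 → T v' • b0 = b0 → (T v * T v') • b0 = b0 := fun v v' h1 h2 => by
    rw [mul_smul, h2, h1]
  have ha1fix : T a1 • b0 = b0 := hcommfix a1 a2 h12 hsb a1 (by rw [mul_assoc, ← Tcomm a1 a2 h12])
  have hperp1 : ∀ x, h x.1 a1.1 = 0 → T x • b0 = b0 := fun x hx => by
    obtain ⟨z, hz, hzz, hz1, hz2, hz3⟩ := exists_aniso_three hF D hd7 a1.1 a2.1 x.1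
    have hz' : T ⟨z, hz, hzz⟩ • b0 = b0 := hfix a1 a2 h12 hsb _ hz1 hz2
    exact hfix a1 ⟨z, hz, hzz⟩ (h_comm_zero hF hz1) (hprod _ _ ha1fix hz') x hx (h_comm_zero hF hz3)
  have hall : ∀ x, T x • b0 = b0 := fun x => by
    obtain ⟨y, hy, hyy, hy1, hy2, -⟩ := exists_aniso_three hF D hd7 a1.1 x.1 x.1
    obtain ⟨z, hz, hzz, hz1, hz2, hz3⟩ := exists_aniso_three hF D hd7 a1.1 x.1 y
    exact hfix ⟨y, hy, hyy⟩ ⟨z, hz, hzz⟩ (h_comm_zero hF hz3)
      (hprod _ _ (hperp1 _ hy1) (hperp1 _ hz1)) x (h_comm_zero hF hy2) (h_comm_zero hF hz2)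
  refine ⟨b0, hb0, fun g hg => hdiff a1 a2 h12 hsb _
    (orbit_smul_mem hF D hfree hout (hge1 hg) hb0) ?_⟩
  have hmove : ∀ v, T v • (g • b0) = g • b0 := fun v => by
    let v' : {v : V // v ∈ D.W ∧ h v v ≠ 0} :=
      ⟨suVal g⁻¹ *ᵥ v.1, gW_mem_wSub (inv_mem hg) v.2.1, by rw [su_form]; exact v.2.2⟩
    rw [← mul_smul, ← Tconj g hg v' v (by
      show suVal g *ᵥ (suVal g⁻¹ *ᵥ v.1) = v.1
      rw [Matrix.mulVec_mulVec, suVal_mul_inv, Matrix.one_mulVec]), mul_smul, hall]
  rw [mul_smul, hmove, hmove]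

omit hfree hout

/-- A point of the regular orbit fixed by the transvections of the orthogonal space. -/
theorem exists_point (hfew : Few n F q Ω) (hok : 3 ≤ q ∨ 7 ≤ D.d ∨ D.d % 3 ≠ 1) : ∃ b : Ω, (∀ x ∈ D.Q, x • b = b → x = 1) ∧
    (∀ b' : Ω, b' ∉ orbit D.Q b → ∀ c : skew hF, D.z c • b' = b') ∧
    ∀ u ∈ D.W, ∀ (hu : h u u = 0) (c : skew hF), tv hF hu c • b = b := by
  obtain ⟨b, hfree, hout⟩ := exists_regular hF D hfew
  obtain ⟨b0, hb0, key⟩ : ∃ b0 ∈ orbit D.Q b, ∀ g ∈ gW q D.e D.f, ∃ a : skew hF, g • b0 = D.z a • b0 := by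
    rcases (two_le_q hF).eq_or_lt with hq2 | hq3
    · exact exists_base_two hF D hfree hout (hok.resolve_left (by omega)) hq2.symm
    obtain ⟨r, l, hl, hlq, hr, hr0, hr1, hrl⟩ := exists_real_root hF hq3
    obtain ⟨t, -, te, tf, tW⟩ := exists_torus hF D.pair hr hr0 (G := ⊤) (fun _ => trivial) fun _ => trivial
    have tform : ∀ x : V, suVal t *ᵥ x =
        (h x D.f * r) • D.e + (h x D.e * r⁻¹) • D.f + wPart (q := q) D.e D.f x := fun x => by
      conv_lhs => rw [wPart_eq (q := q) D.e D.f x]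
      rw [Matrix.mulVec_add, Matrix.mulVec_add, Matrix.mulVec_smul, Matrix.mulVec_smul, te, tf,
        tW _ (wPart_mem hF D.pair x), smul_smul, smul_smul]
    have tpow : ∀ (k : ℕ) (x : V), suVal (t ^ k) *ᵥ x =
        (h x D.f * r ^ k) • D.e + (h x D.e * r⁻¹ ^ k) • D.f + wPart (q := q) D.e D.f x := by
      intro k x
      induction k with
      | zero =>
        rw [pow_zero, show suVal (1 : SU n F q) = 1 from rfl, Matrix.one_mulVec, pow_zero, pow_zero, mul_one, mul_one]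
        exact wPart_eq (q := q) D.e D.f x
      | succ k ih =>
        rw [pow_succ', suVal_mul, ← Matrix.mulVec_mulVec, ih, Matrix.mulVec_add, Matrix.mulVec_add,
          Matrix.mulVec_smul, Matrix.mulVec_smul, te, tf, tW _ (wPart_mem hF D.pair x), smul_smul, smul_smul,
          mul_assoc, mul_assoc, ← pow_succ, ← pow_succ]
    have tl : t ^ l = 1 := suVal_ext (Matrix.ext_iff_mulVec.2 fun x => by
      rw [tpow, inv_pow, hrl, inv_one, mul_one, mul_one, show suVal (1 : SU n F q) = 1 from rfl, Matrix.one_mulVec]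
      exact (wPart_eq (q := q) D.e D.f x).symm)
    have hlq' : ¬ l ∣ q := fun h1 => by
      have h2 := Nat.dvd_sub h1 hlq
      rw [Nat.sub_sub_self (show 1 ≤ q by omega)] at h2
      exact hl.ne_one (Nat.dvd_one.1 h2)
    obtain ⟨b0, hb0, htb⟩ := exists_fixed hF D hfree hout hr0 te hl hlq' tl
    refine ⟨b0, hb0, fun g hg => ?_⟩
    have hgt : g * t = t * g := suVal_ext (Matrix.ext_iff_mulVec.2 fun x => by
      rw [suVal_mul, suVal_mul, ← Matrix.mulVec_mulVec, ← Matrix.mulVec_mulVec, tform]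
      conv_rhs => rw [wPart_eq (q := q) D.e D.f x]
      simp only [Matrix.mulVec_add, Matrix.mulVec_smul, hg.1, hg.2, te, tf,
        tW _ (gW_mem_wSub hg (wPart_mem hF D.pair x)), smul_smul])
    refine fixed_differ hF D hfree hout te (fun w hw => by rw [tW w hw]; exact hw) (fun w hw e0 => ?_) hb0 htb
      (orbit_smul_mem hF D hfree hout (show suVal g *ᵥ D.e = (1 : F) • D.e by rw [one_smul]; exact hg.1) hb0)
      (by rw [← mul_smul, ← hgt, mul_smul, htb])
    rw [tW w hw, hr] at e0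
    by_contra hw0
    exact hr1 (smul_left_injective F hw0 (by simpa using e0))
  have horb : orbit D.Q b0 = orbit D.Q b := orbit_eq_iff.2 hb0
  have hfree0 : ∀ x ∈ D.Q, x • b0 = b0 → x = 1 := fun x hx he => free_orbit hF D hfree hb0 hx he
  have hout0 : ∀ b' : Ω, b' ∉ orbit D.Q b0 → ∀ c : skew hF, D.z c • b' = b' := by rwa [horb]
  refine ⟨b0, hfree0, hout0, ?_⟩
  have hcomm : ∀ g ∈ gW q D.e D.f, ∀ k ∈ gW q D.e D.f, (g * k) • b0 = (k * g) • b0 := by
    intro g hg k hk
    obtain ⟨a, ha⟩ := key g hg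
    obtain ⟨a', ha'⟩ := key k hk
    rw [mul_smul, mul_smul, ha', ha, ← mul_smul, ← mul_smul, tv_comm_of_fix hF D hg.1,
      tv_comm_of_fix hF D hk.1, mul_smul, mul_smul, ha, ha', ← mul_smul, ← mul_smul, Data.z, Data.z,
      tv_comm hF D.pair.ee]
  intro u hu huu c
  rcases eq_or_ne u 0 with rfl | hu0
  · rw [show tv hF huu c = 1 from suVal_ext (Matrix.ext_iff_mulVec.2 fun x => by
      rw [suVal_tv, tv_apply' hF, smul_zero, add_zero]; exact (Matrix.one_mulVec x).symm), one_smul]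
  obtain ⟨u', hu', hu'u', huu'⟩ := wSub_partner hF D.pair hu hu0 huu
  have P' : IsPair (q := q) u u' := ⟨huu, hu'u', huu'⟩
  obtain ⟨x, hx, hxx⟩ := exists_aniso hF (nondeg_perp2 hF D.pair P' hu hu') (by
    by_contra hcon
    have e1 := card_perp2 hF D.pair P' hu hu'
    rw [card_wSub hF D.pair D.dim] at e1
    have h3 : q ^ (2 * D.d) ≤ 1 * (q ^ 2) ^ 2 := by
      rw [← e1]
      gcongr
      exact not_lt.1 hcon
    rw [one_mul, ← pow_mul] at h3
    have := (Nat.pow_le_pow_iff_right (show 1 < q by have := (two_le_q hF); omega)).1 h3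
    have := D.dge
    omega)
  obtain ⟨t0, ht0⟩ : ∃ t0 : F, t0 + cj t0 = 1 := exists_trace_eq hF (map_one cj)
  set k := (c : F) / h x x with hkdef
  have hk : k + cj k = 0 := by
    rw [hkdef, map_div₀, cj_h_self hF, ← add_div, (mem_skew hF).1 c.2, zero_div]
  set lam := -k * t0 with hlam
  have hl : cj lam - lam = k := by
    rw [hlam, map_mul, map_neg, eq_neg_of_add_eq_zero_right hk, neg_neg]
    linear_combination k * ht0
  have hx' : x ∈ wSub q u u' := hx.2
  obtain ⟨c1, H1⟩ := EOK.exists_c hF (w := x) huu hx'.1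
  obtain ⟨c2, H2⟩ := EOK.exists_c hF (w := lam • x) huu (by rw [h_smul_left, hx'.1, mul_zero])
  have g1 : eSU hF H1 ∈ gW q D.e D.f := eSU_mem_gW hF hu hx.1 H1
  have g2 : eSU hF H2 ∈ gW q D.e D.f := eSU_mem_gW hF hu (D.W.smul_mem lam hx.1) H2
  have e1 : eSU hF H1 * eSU hF H2 = tv hF huu c * (eSU hF H2 * eSU hF H1) := suVal_ext (by
    rw [suVal_mul, suVal_eSU, suVal_eSU, eMat_mul hF H1 H2, suVal_mul, suVal_tv, suVal_mul, suVal_eSU,
      suVal_eSU, eMat_mul hF H2 H1]
    refine Eq.symm ((eMat_mul hF (eOK_transvection hF huu ((mem_skew hF).1 c.2)) (H2.mul hF H1)).trans ?_)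
    rw [h_zero_right hF, zero_add, add_comm (lam • x) x]
    congr 1
    rw [h_smul_right hF, h_smul_left]
    have : k * h x x = c := div_mul_cancel₀ _ hxx
    linear_combination -this - h x x * hl)
  have h1 := hcomm _ g2 _ g1
  rw [e1, mul_smul (tv hF huu c)] at h1
  obtain ⟨a, ha⟩ := key _ (mul_mem g2 g1)
  rw [ha, ← mul_smul, tv_comm_of_fix hF D (g := tv hF huu c) (tv_mem_gW hF hu _).1, mul_smul, smul_left_cancel_iff] at h1
  exact h1.symm

end Cfsg.Agent.Lie.MinIndexUnit
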