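import Cfsg.Agent.Lib.Lie.MinIndexUnit

/-!
The minimal index in `PSU_n(2)` for `n` divisible by six, where the nonsingular points are fewer than the isotropic
ones.  For `n = 6` an action on fewer points is excluded by counting the transvections fixing a point.
-/

set_option autoImplicit false
set_option linter.unusedSectionVars false
set_option maxHeartbeats 2000000

namespace Cfsg.Agent.Lie.MinIndexUnit

open Matrix Finset MulAction Cfsg Cfsg.Agent.Classical Cfsg.Agent.Classical.PSUAut

universe u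

attribute [local instance 10] _root_.Classical.propDecidable

variable {F : Type*} [Field F] [Fintype F] {n : ℕ}

local notation "V" => (Fin n → F)

variable (hF : Fintype.card F = 2 ^ 2)

local notation "h" => hermForm n F 2
local notation "cj" => qFrob hF

include hF

theorem two_zero : (2 : F) = 0 := by
  have e1 := FiniteField.cast_card_eq_zero F
  rw [hF] at e1
  norm_num at e1
  exact mul_self_eq_zero.1 (show (2 : F) * 2 = 0 by linear_combination e1)

theorem cj_sq (x : F) : cj x = x ^ 2 := (cj_pow hF x).symm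

theorem one_skew : (1 : F) + cj 1 = 0 := by rw [map_one]; linear_combination two_zero hF

theorem skew_cases (c : skew hF) : c = 0 ∨ c = ⟨1, one_skew hF⟩ := by
  have h1 : (c : F) * (1 + c) = 0 := by
    have := (mem_skew hF).1 c.2
    rw [cj_sq hF] at this
    linear_combination this
  rcases mul_eq_zero.1 h1 with h2 | h2
  · exact Or.inl (Subtype.ext h2)
  · exact Or.inr (Subtype.ext (show (c : F) = 1 by linear_combination h2 - two_zero hF))

variable {Ω : Type u} [Fintype Ω] [MulAction (SU n F 2) Ω]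

theorem inR_conj {x : Ω} {v : V} (hx : InR hF x v) (g : SU n F 2) : InR hF (g • x) (suVal g *ᵥ v) := by
  obtain ⟨hv, hfix⟩ := hx
  refine ⟨by rw [su_form, hv], fun c => ?_⟩
  rw [show tv hF (show h (suVal g *ᵥ v) (suVal g *ᵥ v) = 0 by rw [su_form, hv]) c = g * tv hF hv c * g⁻¹ from
    suVal_ext (by rw [suVal_mul, suVal_mul, suVal_tv, suVal_tv, eMat_conj hF, Matrix.mulVec_zero]),
    mul_smul, mul_smul, inv_smul_smul, hfix]

theorem inR_conj_iff {x : Ω} {v : V} (g : SU n F 2) : InR hF (g • x) (suVal g *ᵥ v) ↔ InR hF x v := by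
  refine ⟨fun hx => ?_, fun hx => inR_conj hF hx g⟩
  have := inR_conj hF hx g⁻¹
  rwa [inv_smul_smul, Matrix.mulVec_mulVec, suVal_inv_mul, Matrix.one_mulVec] at this

theorem inR_smul_iff {x : Ω} {v : V} {t : F} (ht : t ≠ 0) : InR hF x (t • v) ↔ InR hF x v := by
  refine ⟨fun hx => ?_, fun hx => inR_smul hF hx t⟩
  have := inR_smul hF hx t⁻¹
  rwa [inv_smul_smul₀ ht] at this

/-- The points fixed by the transvections of two vectors. -/
theorem card_common {v v' w w' : V} (g : SU n F 2) {t t' : F} (ht : t ≠ 0) (ht' : t' ≠ 0)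
    (hv : suVal g *ᵥ v = t • w) (hv' : suVal g *ᵥ v' = t' • w') :
    (univ.filter fun x : Ω => InR hF x v ∧ InR hF x v').card =
      (univ.filter fun x : Ω => InR hF x w ∧ InR hF x w').card := by
  refine Finset.card_equiv (MulAction.toPerm g) fun x => ?_
  simp only [Finset.mem_filter, Finset.mem_univ, true_and, MulAction.toPerm_apply]
  rw [← inR_conj_iff hF g (v := v), ← inR_conj_iff hF g (v := v'), hv, hv', inR_smul_iff hF ht, inR_smul_iff hF ht']

variable (D : Data hF n) (hd : D.d = 4)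

open Data

include hd

theorem counts :
    (univ.filter fun v : V => v ≠ 0 ∧ h v v = 0).card = 2079 ∧
      (univ.filter fun v : V => h v v = 0 ∧ h v D.e = 0).card = 544 := by
  constructor
  · rw [← Fintype.card_subtype, ← Nat.card_eq_fintype_card, card_iso hF]
    obtain ⟨j, rfl⟩ : ∃ j, n = j + 2 := ⟨n - 2, by have := D.dim; omega⟩
    have h1 := Cfsg.Agent.Fus.UnitStab.iso_count (F := F) hF j
    rw [show j = 4 by have := D.dim; omega] at h1 ⊢
    norm_num at h1
    rw [isoNum]
    exact_mod_cast h1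
  · have hw : wCount 2 D.e D.f (0 : F) = 136 := by
      have h1 := wCount_zero hF D.pair D.dim
      rw [hd] at h1
      norm_num at h1
      omega
    let φ : {v : V // h v v = 0 ∧ h v D.e = 0} ≃ F × {w : wSub 2 D.e D.f // h (w : V) (w : V) = 0} :=
      { toFun := fun v => (h v.1 D.f, ⟨⟨_, wPart_mem hF D.pair v.1⟩, by
          have h1 := v.2.1
          obtain ⟨hwe, hwf⟩ := wPart_orth hF D.pair v.1
          have h2 := wPart_eq (q := 2) D.e D.f v.1
          rw [v.2.2, zero_smul, add_zero] at h2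
          rw [h2] at h1
          simp only [h_add_left, h_add_right hF, h_smul_left, h_smul_right hF, D.pair.ee, hwe,
            h_comm_zero hF hwe, mul_zero, add_zero, zero_add] at h1
          exact h1⟩)
        invFun := fun p => ⟨p.1 • D.e + (p.2.1 : V), by
          simp only [h_add_left, h_add_right hF, h_smul_left, h_smul_right hF, D.pair.ee, p.2.1.2.1,
            h_comm_zero hF p.2.1.2.1, p.2.2, mul_zero, add_zero], by
          rw [h_add_left, h_smul_left, D.pair.ee, p.2.1.2.1]; ring⟩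
        left_inv := fun v => Subtype.ext (by
          have h2 := wPart_eq (q := 2) D.e D.f v.1
          rw [v.2.2, zero_smul, add_zero] at h2
          exact h2.symm)
        right_inv := fun p => by
          obtain ⟨a, ⟨⟨w, hw⟩, hww⟩⟩ := p
          have h1 := (coordEquiv hF D.pair).right_inv (a, 0, ⟨w, hw⟩)
          simp only [coordEquiv, Prod.mk.injEq, Subtype.mk.injEq, zero_smul, add_zero] at h1
          exact Prod.ext h1.1 (Subtype.ext (Subtype.ext h1.2.2)) }
    rw [← Fintype.card_subtype, ← Nat.card_eq_fintype_card, Nat.card_congr φ, Nat.card_prod,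
      Nat.card_eq_fintype_card (α := F), hF]
    change 2 ^ 2 * wCount 2 D.e D.f (0 : F) = 544
    rw [hw]; norm_num

/-- No action of `SU_6(2)` on fewer points than nonsingular ones. -/
theorem not_few_six (hfew : Few n F 2 Ω) (hlt : 3 * Fintype.card Ω < normCount n F 2 (1 : F)) : False := by
  obtain ⟨b, hfree, hout⟩ := exists_regular hF D hfew
  have hn : 3 ≤ n := by have := D.dim; omega
  have h20 := two_zero hF
  have hΩ : Fintype.card Ω < 672 := by
    have h1 := normCount_one (F := F) hF n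
    rw [show n = 6 by have := D.dim; omega] at h1 hlt
    norm_num at h1
    omega
  -- the points fixed by the transvections of the first vector
  have hfixe : ∀ x : Ω, InR hF x D.e ↔ x ∉ orbit D.Q b := fun x =>
    ⟨fun hx hxo => by
      obtain ⟨hee, hfix⟩ := hx
      exact D.c0_ne (congrArg Subtype.val (moved_of_orbit hF D hfree hxo (hfix ⟨D.c0, D.c0_skew⟩))),
    fun hx => ⟨D.pair.ee, fun c => hout x hx c⟩⟩
  set Fx := fun v : V => univ.filter fun x : Ω => InR hF x v with hFx
  set r := (Fx D.e).card with hrdef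
  have hr : r + 512 = Fintype.card Ω := by
    have h1 := card_orbit hF D hfree
    rw [hd, Nat.card_eq_fintype_card, Fintype.card_subtype] at h1
    rw [← Finset.card_univ, ← Finset.card_filter_add_card_filter_not (fun x => x ∈ orbit D.Q b), h1, add_comm]
    congr 1
    exact congrArg Finset.card (Finset.filter_congr fun x _ => hfixe x)
  set S := univ.filter fun v : V => v ≠ 0 ∧ h v v = 0 with hS
  obtain ⟨hcS, hcperp⟩ := counts hF D hd
  change S.card = 2079 at hcS
  have hFxv : ∀ v ∈ S, (Fx v).card = r := fun v hv => by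
    obtain ⟨-, hv0, hvv⟩ := Finset.mem_filter.1 hv
    obtain ⟨s, hs⟩ := su_transitive hF hn D.pair.ne_zero D.pair.ee hv0 hvv
    symm
    refine Finset.card_equiv (MulAction.toPerm s) fun x => ?_
    simp only [Fx, Finset.mem_filter, Finset.mem_univ, true_and, MulAction.toPerm_apply]
    rw [← hs, inR_conj_iff hF]
  -- each point is fixed by equally many
  have htrans := hfew.trans
  set K := (S.filter fun v => InR hF b v).card
  have hK : ∀ x : Ω, (S.filter fun v => InR hF x v).card = K := fun x => by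
    obtain ⟨g, rfl⟩ := exists_smul_eq (SU n F 2) b x
    symm
    refine Finset.card_nbij' (fun v => suVal g *ᵥ v) (fun v => suVal g⁻¹ *ᵥ v) ?_ ?_ ?_ ?_
    · intro v hv
      simp only [S, Finset.coe_filter, Finset.mem_filter, Finset.mem_univ, true_and, Set.mem_setOf_eq] at hv ⊢
      exact ⟨⟨fun e0 => hv.1.1 (su_injective g e0), by rw [su_form, hv.1.2]⟩, inR_conj hF hv.2 g⟩
    · intro v hv
      simp only [S, Finset.coe_filter, Finset.mem_filter, Finset.mem_univ, true_and, Set.mem_setOf_eq] at hv ⊢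
      refine ⟨⟨fun e0 => hv.1.1 (su_injective g⁻¹ e0), by rw [su_form, hv.1.2]⟩, ?_⟩
      have := inR_conj hF hv.2 g⁻¹
      rwa [inv_smul_smul] at this
    · intro v _; simp [Matrix.mulVec_mulVec, suVal_inv_mul]
    · intro v _; simp [Matrix.mulVec_mulVec, suVal_mul_inv]
  have eq1 : Fintype.card Ω * K = 2079 * r := by
    have h1 := Finset.sum_card_bipartiteAbove_eq_sum_card_bipartiteBelow (s := (univ : Finset Ω)) (t := S)
      (fun x v => InR hF x v)
    simp only [Finset.bipartiteAbove, Finset.bipartiteBelow] at h1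
    rw [Finset.sum_congr rfl (fun x _ => hK x), Finset.sum_congr rfl hFxv, Finset.sum_const, Finset.sum_const,
      Finset.card_univ, hcS, smul_eq_mul, smul_eq_mul] at h1
    exact h1
  -- the pairs through the first vector
  obtain ⟨a, c, eq2⟩ : ∃ a c : ℕ, r * K = 3 * r + 540 * a + 1536 * c := by
    set f := fun v : V => (univ.filter fun x : Ω => InR hF x D.e ∧ InR hF x v).card
    have h1 := Finset.sum_card_bipartiteAbove_eq_sum_card_bipartiteBelow (s := Fx D.e) (t := S)
      (fun x v => InR hF x v)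
    simp only [Finset.bipartiteAbove, Finset.bipartiteBelow] at h1
    rw [Finset.sum_congr rfl (fun x _ => hK x), Finset.sum_const, smul_eq_mul, ← hrdef] at h1
    have hf : ∀ v ∈ S, ((Fx D.e).filter fun x => InR hF x v).card = f v := fun v _ => by
      simp only [Fx, f, Finset.filter_filter]
    rw [Finset.sum_congr rfl hf] at h1
    set P := univ.filter fun v : V => ∃ t : F, t ≠ 0 ∧ v = t • D.e
    have hP : P.card = 3 := by
      have e1 : P = (univ.filter fun t : F => t ≠ 0).image fun t => t • D.e := by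
        ext v
        simp [P, eq_comm, and_comm]
      rw [e1, Finset.card_image_of_injective _ (smul_left_injective F D.pair.ne_zero), Finset.filter_ne',
        Finset.card_erase_of_mem (Finset.mem_univ _), Finset.card_univ, hF]
      norm_num
    have hPS : P ⊆ S.filter fun v => h v D.e = 0 := fun v hv => by
      obtain ⟨t, ht, rfl⟩ := (Finset.mem_filter.1 hv).2
      simp [S, h_smul_left, h_smul_right hF, D.pair.ee, ht, D.pair.ne_zero]
    have hperp : (S.filter fun v => h v D.e = 0).card = 543 := by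
      rw [show S.filter (fun v => h v D.e = 0) = (univ.filter fun v : V => h v v = 0 ∧ h v D.e = 0).erase 0 by
        ext v; simp [S, and_assoc]]
      rw [Finset.card_erase_of_mem (Finset.mem_filter.2 ⟨Finset.mem_univ _, h_zero_left _, h_zero_left _⟩), hcperp]
    have hnon : (S.filter fun v => ¬ h v D.e = 0).card = 1536 := by
      have := Finset.card_filter_add_card_filter_not (s := S) (fun v => h v D.e = 0)
      omega
    have hpar : ∑ v ∈ P, f v = 3 * r := by
      rw [Finset.sum_congr rfl (fun v hv => by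
        obtain ⟨t, ht, rfl⟩ := (Finset.mem_filter.1 hv).2
        simp only [f, inR_smul_iff hF ht, and_self]
        rfl : ∀ v ∈ P, f v = r), Finset.sum_const, hP, smul_eq_mul]
    rw [← Finset.sum_filter_add_sum_filter_not S (fun v => h v D.e = 0), ← Finset.sum_sdiff hPS] at h1
    change r * K = (∑ v ∈ (S.filter fun v => h v D.e = 0) \ P, f v) + (∑ v ∈ P, f v) +
      ∑ v ∈ S.filter (fun v => ¬ h v D.e = 0), f v at h1
    rw [hpar] at h1
    -- two vectors of the orthogonal part are equivalent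
    obtain ⟨a, ha⟩ : ∃ a, ∀ v ∈ (S.filter fun v => h v D.e = 0) \ P, f v = a := by
      have hmove : ∀ v ∈ (S.filter fun v => h v D.e = 0) \ P, ∃ w ∈ D.W, w ≠ 0 ∧ h w w = 0 ∧
          f v = f w := by
        intro v hv
        simp only [S, P, Finset.mem_sdiff, Finset.mem_filter, Finset.mem_univ, true_and] at hv
        obtain ⟨⟨⟨hv0, hvv⟩, hve⟩, hvP⟩ := hv
        set α := h v D.f
        set w := wPart (q := 2) D.e D.f v
        have hwW : w ∈ D.W := wPart_mem hF D.pair v
        have hveq : v = α • D.e + w := by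
          have := wPart_eq (q := 2) D.e D.f v
          rwa [hve, zero_smul, add_zero] at this
        have hw0 : w ≠ 0 := fun e0 => hvP ⟨α, fun e1 => hv0 (by rw [hveq, e0, e1, zero_smul, add_zero]),
          by rw [hveq, e0, add_zero]⟩
        obtain ⟨y, hy, hne⟩ := nondeg_wSub hF D.pair w hwW hw0
        set y' := cj (α / h w y) • y with hy'
        have hy'W : y' ∈ D.W := D.W.smul_mem _ hy
        have hwy : h w y' = α := by rw [hy', h_smul_right hF, cj_cj, div_mul_cancel₀ _ hne]
        obtain ⟨c, H⟩ := EOK.exists_c hF (w := y') D.pair.ee hy'W.1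
        have hge : suVal (eSU hF H) *ᵥ D.e = D.e :=
          Q_fix hF D (eSU_mem_heisX hF hy'W H)
        have hgv : suVal (eSU hF H) *ᵥ v = w := by
          rw [suVal_eSU, eMat_mulVec, hve, hveq, h_add_left, h_smul_left, h_comm_zero hF hy'W.1, hwy]
          module
        refine ⟨w, hwW, hw0, ?_, card_common hF (eSU hF H) one_ne_zero one_ne_zero (by rw [one_smul, hge])
          (by rw [one_smul, hgv])⟩
        rw [← hgv, su_form, hvv]
      by_cases hne : ((S.filter fun v => h v D.e = 0) \ P).Nonempty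
      · obtain ⟨v0, hv0⟩ := hne
        refine ⟨f v0, fun v hv => ?_⟩
        obtain ⟨w, hw, hw0, hww, e1⟩ := hmove v hv
        obtain ⟨w', hw', hw'0, hw'w', e2⟩ := hmove v0 hv0
        obtain ⟨g, hg, hgw⟩ := gW_transitive hF D.pair D.dim (d_three hF D) hw hw0 hw' hw'0 (by rw [hww, hw'w'])
        rw [e1, e2]
        exact card_common hF g one_ne_zero one_ne_zero (by rw [one_smul, hg.1]) (by rw [one_smul, hgw])
      · exact ⟨0, fun v hv => absurd ⟨v, hv⟩ hne⟩
    obtain ⟨c, hc⟩ : ∃ c, ∀ v ∈ S.filter (fun v => ¬ h v D.e = 0), f v = c := by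
      refine ⟨f D.f, fun v hv => ?_⟩
      simp only [S, Finset.mem_filter, Finset.mem_univ, true_and] at hv
      obtain ⟨⟨hv0, hvv⟩, hve⟩ := hv
      have P' : IsPair (q := 2) D.e ((h v D.e)⁻¹ • v) := ⟨D.pair.ee, by
        rw [h_smul_left, h_smul_right hF, hvv, mul_zero, mul_zero], by
        rw [h_smul_right hF, ← cj_h hF v D.e, ← map_mul, inv_mul_cancel₀ hve, map_one]⟩
      obtain ⟨s, hse, hsf⟩ := exists_su_pair hF hn D.pair P'
      exact (card_common hF s one_ne_zero (inv_ne_zero hve) (by rw [one_smul, hse]) hsf).symm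
    rw [Finset.sum_congr rfl ha, Finset.sum_congr rfl hc, Finset.sum_const, Finset.sum_const,
      Finset.card_sdiff_of_subset hPS, hperp, hP, hnon, smul_eq_mul, smul_eq_mul] at h1
    exact ⟨a, c, by omega⟩
  have hrlt : r < 160 := by omega
  rw [← hr] at eq1
  by_cases hr0 : r = 0
  swap
  · clear_value r K
    interval_cases r <;> omega
  -- the regular case
  have hfree0 : ∀ (x : Ω) {v : V}, v ≠ 0 → h v v = 0 → ¬ InR hF x v := fun x v hv hvv hx => by
    have h1 : 0 < (Fx v).card := Finset.card_pos.2 ⟨x, Finset.mem_filter.2 ⟨Finset.mem_univ _, hx⟩⟩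
    rw [hFxv v (Finset.mem_filter.2 ⟨Finset.mem_univ _, hv, hvv⟩)] at h1
    omega
  have hall : ∀ x : Ω, x ∈ orbit D.Q b := fun x => by
    by_contra hx
    exact hfree0 x D.pair.ne_zero D.pair.ee ((hfixe x).2 hx)
  obtain ⟨v0, hv0, hv00⟩ := exists_aniso hF (nondeg_wSub hF D.pair) (by
    rw [card_wSub hF D.pair D.dim, hd]; norm_num)
  obtain ⟨u, hu, hu0, huu, -⟩ := exists_singular_perp hF D.pair D.dim D.dge hv0 hv00
  obtain ⟨u', hu', hu'u', huu'⟩ := wSub_partner hF D.pair hu hu0 huu
  have P' : IsPair (q := 2) u u' := ⟨huu, hu'u', huu'⟩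
  set one : skew hF := ⟨1, one_skew hF⟩
  set T := tv hF huu one
  have hTg : T ∈ gW 2 D.e D.f := tv_mem_gW hF hu _
  obtain ⟨x, hx, hxb⟩ := smul_mem_of_orbit hF D (hall (T • b))
  -- the orthogonal coordinate of the translation
  have hsquare : ∀ y ∈ perp2 2 D.W u u', h y y ≠ 0 → ∃ a a' : F, wOf D.e D.f x = a • y + a' • u := by
    intro y hy hyy
    obtain ⟨c, H⟩ := EOK.exists_c hF (w := y) huu hy.2.1
    have hgg : eSU hF H * eSU hF H = T := by
      refine suVal_ext ?_
      rw [suVal_mul, suVal_eSU, eMat_mul hF H H, suVal_tv]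
      have h1 : h y y = 1 := by
        have e := cj_h_self hF y
        rw [cj_sq hF] at e
        exact mul_left_cancel₀ hyy (show h y y * h y y = h y y * 1 by linear_combination e)
      congr 1
      · rw [← two_smul F, h20, zero_smul]
      · show c + c - h y y = 1
        linear_combination (c - 1) * h20 - h1
    set g := eSU hF H
    have hgW : g ∈ gW 2 D.e D.f := eSU_mem_gW hF hu hy.1 H
    obtain ⟨x1, hx1, hx1b⟩ := smul_mem_of_orbit hF D (hall (g • b))
    obtain ⟨hconj, hwconj⟩ := wOf_conj hF D hgW hx1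
    have h1 : x • b = (g * x1 * g⁻¹ * x1) • b := by
      rw [hxb, ← hgg, mul_smul, ← hx1b, mul_smul, mul_smul (g * x1), hx1b, inv_smul_smul, mul_smul, hx1b]
    have h2 : x = g * x1 * g⁻¹ * x1 := by
      have h3 := hfree _ (mul_mem (inv_mem (mul_mem hconj hx1)) hx) (by
        rw [mul_smul, h1, inv_smul_smul])
      exact (inv_mul_eq_one.1 h3).symm
    rw [h2, wOf_mul hF D.pair (le_refl D.W) hconj hx1, hwconj, suVal_eSU, eMat_mulVec]
    refine ⟨h (wOf D.e D.f x1) u, c * h (wOf D.e D.f x1) u - h (wOf D.e D.f x1) y, ?_⟩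
    match_scalars <;> first
      | ring1
      | linear_combination h20
  obtain ⟨y, hy, hyy⟩ := exists_aniso hF (nondeg_perp2 hF D.pair P' hu hu') (by
    by_contra hcon
    change ¬ 1 < Nat.card (perp2 2 (wSub 2 D.e D.f) u u') at hcon
    have e1 := card_perp2 hF D.pair P' hu hu'
    rw [card_wSub hF D.pair D.dim, hd] at e1
    norm_num only at e1
    omega)
  have hy3 : h y u = 0 := hy.2.1
  have hy4 : h y u' = 0 := hy.2.2
  obtain ⟨z, hz, hzz⟩ := exists_aniso hF (nondeg_perp3 hF D.pair P' hu hu' hy.1 hyy hy3 hy4) (by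
    by_contra hcon
    change ¬ 1 < Nat.card (perp3 2 (wSub 2 D.e D.f) y u u') at hcon
    have e1 := card_perp3 hF D.pair P' hu hu' hy.1 hyy hy3 hy4
    have e2 := card_perp2 hF D.pair P' hu hu'
    rw [card_wSub hF D.pair D.dim, hd] at e2
    norm_num only at e1 e2
    omega)
  obtain ⟨a, l, hal⟩ := hsquare y hy hyy
  obtain ⟨a1, l1, hal1⟩ := hsquare z ⟨hz.1, hz.2.2.1, hz.2.2.2⟩ hzz
  have hw : wOf D.e D.f x = l • u := by
    have e1 : h (wOf D.e D.f x) y = a * h y y := by
      rw [hal, h_add_left, h_smul_left, h_smul_left, h_comm_zero hF hy3, mul_zero, add_zero]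
    rw [hal1, h_add_left, h_smul_left, h_smul_left, hz.2.1, h_comm_zero hF hy3, mul_zero, mul_zero, add_zero] at e1
    rw [hal, (mul_eq_zero.1 e1.symm).resolve_right hyy, zero_smul, zero_add]
  -- a coset fixed by the transvection
  set w0 := l • u' with hw0
  have hw0W : w0 ∈ D.W := D.W.smul_mem l hu'
  obtain ⟨c0, H0⟩ := EOK.exists_c hF (w := w0) D.pair.ee hw0W.1
  set x0 := eSU hF H0
  have hx0 : x0 ∈ D.Q := eSU_mem_heisX hF hw0W H0
  obtain ⟨hc1, hc2⟩ := wOf_conj hF D hTg hx0
  have hw0' : wOf D.e D.f x0 = w0 := (wOf_cOf hF D.pair hw0W (suVal_eSU hF H0)).1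
  have hy0 : T • x0 • b = (T * x0 * T⁻¹ * x) • b := by
    rw [mul_smul (T * x0 * T⁻¹), hxb, mul_smul, mul_smul, inv_smul_smul]
  set d := T * x0 * T⁻¹ * x * x0⁻¹ with hddef
  have hdQ : d ∈ D.Q := mul_mem (mul_mem hc1 hx) (inv_mem hx0)
  have hd0 : wOf D.e D.f d = 0 := by
    have e1 := wOf_mul hF D.pair (le_refl D.W) hdQ hx0
    rw [hddef, inv_mul_cancel_right, wOf_mul hF D.pair (le_refl D.W) hc1 hx, hc2, hw0', hw, suVal_tv,
      tv_apply' hF, hw0, h_smul_left, P'.fe hF, mul_one] at e1
    rw [← hddef] at e1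
    refine (add_eq_right.1 (e1.symm.trans ?_))
    show l • u' + ((1 : F) * l) • u + l • u = l • u'
    rw [one_mul, add_assoc, ← two_smul F (l • u), h20, zero_smul, add_zero]
  obtain ⟨cd, -, hcd⟩ := eq_tv_of_wOf hF D.pair (le_refl D.W) (St := D.Q) le_rfl hdQ hd0
  have hTd : T • x0 • b = D.z cd • x0 • b := by
    rw [hy0, show D.z cd = d from hcd.symm, hddef, ← mul_smul, inv_mul_cancel_right]
  rcases skew_cases hF cd with rfl | rfl
  · rw [Data.z, tv_zero, one_smul] at hTd
    refine hfree0 (x0 • b) hu0 huu ⟨huu, fun c => ?_⟩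
    rcases skew_cases hF c with rfl | rfl
    · rw [tv_zero, one_smul]
    · exact hTd
  -- the product of two orthogonal transvections is conjugate to a translation
  obtain ⟨ω, hω, hω3, hω1⟩ : ∃ ω : F, ω ≠ 0 ∧ ω ^ 3 = 1 ∧ ω ≠ 1 := by
    have : Fact (Nat.Prime 3) := ⟨Nat.prime_three⟩
    obtain ⟨w, hw3⟩ := exists_prime_orderOf_dvd_card' (G := Fˣ) 3 (by
      rw [Nat.card_units, Nat.card_eq_fintype_card, hF]; norm_num)
    refine ⟨(w : F), w.ne_zero, ?_, fun e0 => ?_⟩
    · rw [← Units.val_pow_eq_pow_val, show w ^ 3 = 1 by rw [← hw3]; exact pow_orderOf_eq_one w, Units.val_one]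
    · rw [Units.val_eq_one.1 e0, orderOf_one] at hw3
      norm_num at hw3
  have hsum : 1 + ω + ω ^ 2 = 0 :=
    (mul_eq_zero.1 (show (ω - 1) * (1 + ω + ω ^ 2) = 0 by linear_combination hω3)).resolve_left
      (sub_ne_zero.2 hω1)
  set p := D.e + ω • u with hp
  set p' := D.e + ω ^ 2 • u with hp'
  have heu : h D.e u = 0 := h_comm_zero hF hu.1
  have hpp : h p p = 0 := by
    simp only [hp, h_add_left, h_add_right hF, h_smul_left, h_smul_right hF, D.pair.ee, heu, hu.1, huu, mul_zero,
      add_zero]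
  have hp'p' : h p' p' = 0 := by
    simp only [hp', h_add_left, h_add_right hF, h_smul_left, h_smul_right hF, D.pair.ee, heu, hu.1, huu, mul_zero,
      add_zero]
  have hpp' : h p' p = 0 := by
    simp only [hp, hp', h_add_left, h_add_right hF, h_smul_left, h_smul_right hF, D.pair.ee, heu, hu.1, huu,
      mul_zero, add_zero]
  have HE : EOK (q := 2) D.e u (0 : F) := ⟨D.pair.ee, hu.1, by rw [cj_pow hF, map_zero, huu]; ring⟩
  have key : eSU hF HE = tv hF hpp one * tv hF hp'p' one := suVal_ext (Matrix.ext_iff_mulVec.2 fun z => by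
    rw [suVal_mul, ← Matrix.mulVec_mulVec, suVal_eSU, suVal_tv, suVal_tv]
    show eMat 2 D.e u 0 *ᵥ z = eMat 2 p 0 (1 : F) *ᵥ (eMat 2 p' 0 (1 : F) *ᵥ z)
    simp only [tv_apply' hF, eMat_mulVec, hp, hp', h_add_left, h_add_right hF, h_smul_left, h_smul_right hF,
      D.pair.ee, heu, hu.1, huu, cj_sq hF, mul_zero, add_zero, one_mul]
    match_scalars <;> first
      | ring1
      | linear_combination -(h z u) * hsum - (h z u * ω) * hω3 - h z D.e * h20
      | linear_combination (h z u) * hsum + (h z u * ω) * hω3 + h z D.e * h20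
      | linear_combination (h z D.e - h z u) * h20 - (h z D.e) * hsum - (h z u * (ω ^ 3 + 2)) * hω3
      | linear_combination -((h z D.e - h z u) * h20) + (h z D.e) * hsum + (h z u * (ω ^ 3 + 2)) * hω3)
  obtain ⟨s, hs⟩ := su_transitive hF hn (fun e0 => by
    have := congrArg (fun y => h y D.f) e0
    rw [hp, h_add_left, h_smul_left, D.pair.ef, hu.2, h_zero_left] at this
    simp at this) hpp D.pair.ne_zero D.pair.ee
  set p2 := suVal s *ᵥ p' with hp2
  set w := wPart (q := 2) D.e D.f p2
  have hwW : w ∈ D.W := wPart_mem hF D.pair p2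
  have hp2e : h p2 D.e = 0 := by rw [← hs, hp2, su_form, hpp']
  have hp2eq : p2 = h p2 D.f • D.e + w := by
    have := wPart_eq (q := 2) D.e D.f p2
    rwa [hp2e, zero_smul, add_zero] at this
  have hww0 : w ≠ 0 := fun e0 => by
    have h1 : suVal s *ᵥ p' = suVal s *ᵥ (h p2 D.f • p) := by
      rw [Matrix.mulVec_smul, hs, ← hp2]
      conv_lhs => rw [hp2eq, e0, add_zero]
    have h2 : p' - h p2 D.f • p = 0 := su_injective s (by rw [Matrix.mulVec_sub, h1, sub_self])
    have h3 := congrArg (fun y => h y D.f) h2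
    have h4 := congrArg (fun y => h y u') h2
    simp only [hp, hp', h_sub_left, h_add_left, h_smul_left, D.pair.ef, hu.2, huu', h_comm_zero hF hu'.1,
      h_zero_left, mul_zero, add_zero, zero_add, mul_one] at h3 h4
    have h5 : ω * (ω - 1) = 0 := by linear_combination h4 - ω * h3
    exact mul_ne_zero hω (sub_ne_zero.2 hω1) h5
  obtain ⟨y', hy', hne⟩ := nondeg_wSub hF D.pair w hwW hww0
  set y2 := cj (h p2 D.f / h w y') • y' with hy2
  have hy2W : y2 ∈ D.W := D.W.smul_mem _ hy'
  have hwy : h w y2 = h p2 D.f := by rw [hy2, h_smul_right hF, cj_cj, div_mul_cancel₀ _ hne]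
  obtain ⟨c2, H2⟩ := EOK.exists_c hF (w := y2) D.pair.ee hy2W.1
  have hge : suVal (eSU hF H2) *ᵥ D.e = D.e := Q_fix hF D (eSU_mem_heisX hF hy2W H2)
  have hgw : suVal (eSU hF H2) *ᵥ p2 = w := by
    rw [suVal_eSU, eMat_mulVec, hp2e, hp2eq, h_add_left, h_smul_left, h_comm_zero hF hy2W.1, hwy]
    module
  have hww : h w w = 0 := by rw [← hgw, su_form, hp2, su_form, hp'p']
  obtain ⟨g3, hg3, hg3w⟩ := gW_transitive hF D.pair D.dim (d_three hF D) hwW hww0 hu hu0 (by rw [hww, huu])
  set σ := g3 * eSU hF H2 * s with hσ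
  have hσp : suVal σ *ᵥ p = D.e := by
    rw [hσ, suVal_mul, suVal_mul, ← Matrix.mulVec_mulVec, ← Matrix.mulVec_mulVec, hs, hge, hg3.1]
  have hσp' : suVal σ *ᵥ p' = u := by
    rw [hσ, suVal_mul, suVal_mul, ← Matrix.mulVec_mulVec, ← Matrix.mulVec_mulVec, ← hp2, hgw, hg3w]
  have hconj : σ * eSU hF HE * σ⁻¹ = D.z one * T := suVal_ext (by
    have e1 : σ * eSU hF HE * σ⁻¹ = (σ * tv hF hpp one * σ⁻¹) * (σ * tv hF hp'p' one * σ⁻¹) := by
      rw [key]; group
    have c1 : σ * tv hF hpp one * σ⁻¹ = D.z one := suVal_ext (by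
      clear_value σ
      rw [suVal_mul, suVal_mul, suVal_tv, suVal_tv, eMat_conj hF, Matrix.mulVec_zero, hσp])
    have c2 : σ * tv hF hp'p' one * σ⁻¹ = T := suVal_ext (by
      clear_value σ
      rw [suVal_mul, suVal_mul, suVal_tv, suVal_tv, eMat_conj hF, Matrix.mulVec_zero, hσp'])
    rw [e1, c1, c2])
  have hfixed : (D.z one * T) • x0 • b = x0 • b := by
    rw [mul_smul, hTd, ← mul_smul, Data.z, ← tv_add,
      show (one + one : skew hF) = 0 from Subtype.ext (show (1 : F) + 1 = 0 by linear_combination h20),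
      tv_zero, one_smul]
  rw [← hconj, mul_smul, mul_smul, ← eq_inv_smul_iff] at hfixed
  have h1 := free_orbit hF D hfree (hall _) (eSU_mem_heisX hF hu HE) hfixed
  have h2 := congrArg (fun s => suVal s *ᵥ D.f) h1
  simp only [suVal_eSU, show suVal (1 : SU n F 2) = 1 from rfl, Matrix.one_mulVec,
    eMat_apply_f hF D.pair hu, zero_smul, zero_add] at h2
  exact hu0 (add_eq_left.1 h2)

omit hd

/-- The lower bound and the attained value for `PSU_n(2)`, `n` divisible by six. -/
theorem min_index_six (hn : 6 ∣ n) (hpos : 6 ≤ n) :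
    (∀ H : Subgroup (PSU n F 2), H ≠ ⊤ → 2 ^ (n - 1) * (2 ^ n - 1) / 3 ≤ H.index) ∧
      ∃ H : Subgroup (PSU n F 2), H.index = 2 ^ (n - 1) * (2 ^ n - 1) / 3 := by
  obtain ⟨e, he0, hee⟩ := exists_isotropic (n := n) hF (by omega)
  obtain ⟨f, P⟩ := exists_pair hF he0 hee
  obtain ⟨c0, hc00, hc0⟩ := exists_trace_zero hF
  obtain ⟨χ, hχ⟩ := (AddChar.exists_apply_ne_zero (α := skew hF) (a := ⟨c0, hc0⟩)).2
    fun e1 => hc00 (congrArg Subtype.val e1)
  let D : Data hF n := ⟨e, f, n - 2, P, by omega, by omega, c0, hc00, hc0, χ, hχ⟩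
  obtain ⟨m, hm⟩ := hn
  have heven : Even n := ⟨3 * m, by omega⟩
  obtain ⟨k, hk⟩ : 3 ∣ 2 ^ n - 1 := by
    rw [show n = 2 * (3 * m) by omega, pow_mul]
    have := Nat.sub_dvd_pow_sub_pow (2 ^ 2) 1 (3 * m)
    norm_num at this ⊢
    exact this
  rw [hk, mul_left_comm, Nat.mul_div_cancel_left _ (show 0 < 3 by norm_num)]
  have hN : normCount n F 2 (1 : F) = 3 * (2 ^ (n - 1) * k) := by
    obtain ⟨j, rfl⟩ : ∃ j, n = j + 1 := ⟨n - 1, by omega⟩
    have h1 := normCount_one (F := F) hF (j + 1)
    rw [heven.neg_one_pow] at h1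
    have h2 : ((2 : ℤ) ^ (j + 1) - 1) = 3 * k := by
      have := congrArg (Nat.cast : ℕ → ℤ) hk
      rw [Nat.cast_sub Nat.one_le_two_pow] at this
      push_cast at this
      exact this
    rw [Nat.add_sub_cancel]
    exact_mod_cast mul_right_cancel₀ (show (2 : ℤ) ≠ 0 by norm_num)
      (show (normCount (j + 1) F 2 (1 : F) : ℤ) * 2 = (3 * (2 ^ j * (k : ℤ))) * 2 by
        push_cast at h1
        rw [h1, two_mul (j + 1), pow_add, show (3 : ℤ) * (2 ^ j * k) * 2 = 2 ^ (j + 1) * (3 * k) by ring, ← h2]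
        ring)
  have hisoN : 3 * (2 ^ (n - 1) * k) ≤ isoNum n F 2 := by
    obtain ⟨j, rfl⟩ : ∃ j, n = j + 2 := ⟨n - 2, by omega⟩
    have h1 := Cfsg.Agent.Fus.UnitStab.iso_count (F := F) hF j
    have hje : Even j := ⟨3 * m - 1, by omega⟩
    rw [hje.neg_one_pow, (hje.add_one).neg_one_pow] at h1
    have h2 : isoNum (j + 2) F 2 = (2 ^ (j + 2) - 1) * (2 ^ (j + 1) + 1) := by
      zify [Nat.one_le_two_pow (n := j + 2)]
      simpa [isoNum, sub_eq_add_neg] using h1
    rw [h2, hk, show j + 2 - 1 = j + 1 by omega]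
    calc 3 * (2 ^ (j + 1) * k) = 3 * k * 2 ^ (j + 1) := by ring
      _ ≤ _ := Nat.mul_le_mul_left _ (Nat.le_succ _)
  refine ⟨fun H hH => ?_, ?_⟩
  · set H' := H.comap (suToPSU n F 2)
    have hidx : H'.index = H.index := Subgroup.index_comap_of_surjective H pi_surjective
    by_contra hcon
    letI : Fintype (SU n F 2 ⧸ H') := Fintype.ofFinite _
    have hcard : Fintype.card (SU n F 2 ⧸ H') = H.index := by
      rw [← Nat.card_eq_fintype_card, ← hidx]; rfl
    have hlt : 3 * Fintype.card (SU n F 2 ⧸ H') < normCount n F 2 (1 : F) := by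
      rw [hcard, hN]; omega
    have hfew : Few n F 2 (SU n F 2 ⧸ H') := ⟨inferInstance, by
      rw [hcard]
      have h0 : H'.index ≠ 0 := Subgroup.index_ne_zero_of_finite
      have h1 : H.index ≠ 1 := fun e1 => hH (Subgroup.index_eq_one.1 e1)
      omega, by
      rw [hcard, show 2 ^ 2 - 1 = 3 by norm_num]
      omega⟩
    by_cases h6 : n = 6
    · exact not_few_six hF D (show n - 2 = 4 by omega) hfew hlt
    · exact not_few hF D (Or.inr (Or.inr hlt)) (Or.inr (Or.inl (show 7 ≤ n - 2 by omega))) hfew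
  -- the stabiliser of a nonsingular line
  obtain ⟨v, -, hvv⟩ := exists_aniso hF (nondeg_wSub hF P) (by
    rw [card_wSub hF P D.dim]; exact Nat.one_lt_pow (show 2 * (n - 2) ≠ 0 by omega) (by norm_num))
  have hv0 : v ≠ 0 := fun e1 => hvv (by rw [e1, h_zero_left])
  let S : Subgroup (SU n F 2) :=
    { carrier := {s | ∃ a : F, suVal s *ᵥ v = a • v}
      one_mem' := ⟨1, by rw [one_smul]; exact Matrix.one_mulVec v⟩
      mul_mem' := by
        rintro s t ⟨a, ha⟩ ⟨a', ha'⟩
        exact ⟨a' * a, by rw [suVal_mul, ← Matrix.mulVec_mulVec, ha', Matrix.mulVec_smul, ha, smul_smul]⟩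
      inv_mem' := by
        rintro s ⟨a, ha⟩
        refine ⟨a⁻¹, ?_⟩
        have ha0 : a ≠ 0 := fun e1 => hv0 (su_injective s (by rw [ha, e1, zero_smul]))
        have h1 : suVal s⁻¹ *ᵥ (a • v) = v := by
          rw [← ha, Matrix.mulVec_mulVec, suVal_inv_mul, Matrix.one_mulVec]
        rw [Matrix.mulVec_smul] at h1
        rw [eq_comm, inv_smul_eq_iff₀ ha0, h1] }
  refine ⟨S.map (suToPSU n F 2), ?_⟩
  rw [Subgroup.index_map_eq S pi_surjective fun s hs => by
    obtain ⟨l, hl⟩ := (pi_eq_one_iff hF).1 hs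
    exact ⟨l, by rw [hl, Matrix.smul_mulVec, Matrix.one_mulVec]⟩]
  have hcube : ∀ a : F, a ≠ 0 → a * cj a = 1 := fun a ha => by
    have := FiniteField.pow_card_sub_one_eq_one a ha
    rw [hF] at this
    rw [cj_sq hF]
    linear_combination this
  let φ : (SU n F 2 ⧸ S) × Fˣ → {x : V // h x x = h v v} := fun p =>
    ⟨(p.2 : F) • (suVal p.1.out *ᵥ v), by
      rw [h_smul_left, h_smul_right hF, su_form, ← mul_assoc, hcube _ p.2.ne_zero, one_mul]⟩
  have hφ : Function.Bijective φ := by
    constructor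
    · rintro ⟨x, a⟩ ⟨y, a'⟩ hab
      have h1 : (a : F) • (suVal x.out *ᵥ v) = (a' : F) • (suVal y.out *ᵥ v) := congrArg Subtype.val hab
      have h2 : x = y := by
        rw [← QuotientGroup.out_eq' x, ← QuotientGroup.out_eq' y, QuotientGroup.eq]
        refine ⟨(a' : F)⁻¹ * a, ?_⟩
        rw [← smul_smul, eq_inv_smul_iff₀ a'.ne_zero, suVal_mul, ← Matrix.mulVec_mulVec, ← Matrix.mulVec_smul,
          ← h1, Matrix.mulVec_smul, Matrix.mulVec_mulVec, suVal_inv_mul, Matrix.one_mulVec]
      subst h2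
      exact Prod.ext rfl (Units.ext (smul_left_injective F (fun e1 => hv0 (su_injective _ e1)) h1))
    · rintro ⟨x, hx⟩
      obtain ⟨s, hs⟩ := su_transitive_norm hF D hvv hx.symm
      obtain ⟨a, ha⟩ : ((QuotientGroup.mk s : SU n F 2 ⧸ S).out)⁻¹ * s ∈ S :=
        QuotientGroup.eq.1 (QuotientGroup.out_eq' _)
      set y : SU n F 2 ⧸ S := QuotientGroup.mk s
      have h1 : x = a • (suVal y.out *ᵥ v) := by
        rw [← Matrix.mulVec_smul, ← ha, suVal_mul, ← Matrix.mulVec_mulVec, Matrix.mulVec_mulVec _ (suVal y.out),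
          suVal_mul_inv, Matrix.one_mulVec, hs]
      exact ⟨(y, Units.mk0 a fun e1 => hvv (by rw [← hx, h1, e1, zero_smul, h_zero_left])), Subtype.ext h1.symm⟩
  have h1 := Nat.card_eq_of_bijective φ hφ
  rw [normCount_ne hF (cj_h_self hF v) hvv, hN, Nat.card_prod, Nat.card_units,
    Nat.card_eq_fintype_card (α := F), hF] at h1
  change S.index * (2 ^ 2 - 1) = _ at h1
  omega

end Cfsg.Agent.Lie.MinIndexUnit
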