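import Cfsg.Agent.Lib.Lie.MinIndexUnitPerp
import Mathlib.FieldTheory.ChevalleyWarning

/-!
In an action on few points, when the orthogonal space of the pair has dimension three, the annihilators are the
whole space.
-/

set_option autoImplicit false
set_option linter.unusedSectionVars false
set_option maxHeartbeats 1000000

namespace Cfsg.Agent.Lie.MinIndexUnit

open Matrix Finset MulAction Cfsg Cfsg.Agent.Classical Cfsg.Agent.Classical.PSUAut

universe u

attribute [local instance 10] _root_.Classical.propDecidable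

variable {F : Type*} [Field F] [Fintype F] {q n : ℕ}

local notation "V" => (Fin n → F)

variable (hF : Fintype.card F = q ^ 2)

local notation "h" => hermForm n F q
local notation "cj" => qFrob hF

include hF

/-- A group of more than `q ^ 2` vectors has a nonzero singular one. -/
theorem exists_singular_of_card {A : AddSubgroup V} (hA : q ^ 2 < Nat.card A) :
    ∃ a ∈ A, a ≠ 0 ∧ h a a = 0 := by
  obtain ⟨p, hp⟩ := CharP.exists F
  have : Fact p.Prime := ⟨CharP.char_is_prime F p⟩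
  let _ : Algebra (ZMod p) F := ZMod.algebra F p
  let A' : Submodule (ZMod p) V := AddSubgroup.toZModSubmodule p A
  let T : F →+ F := (AddMonoidHom.id F) + (qFrob hF).toAddMonoidHom
  let R : Submodule (ZMod p) F := AddSubgroup.toZModSubmodule p
    { carrier := {x : F | cj x = x}
      add_mem' := fun {x y} hx hy => by show cj (x + y) = x + y; rw [map_add, hx, hy]
      zero_mem' := map_zero _
      neg_mem' := fun {x} hx => by show cj (-x) = -x; rw [map_neg, hx] }
  obtain ⟨t, ht⟩ : ∃ t : F, t + cj t = 1 := exists_trace_eq hF (map_one cj)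
  let π : F →+ R :=
    { toFun := fun x => ⟨T (t * x), show cj (t * x + cj (t * x)) = t * x + cj (t * x) by
        rw [map_add, cj_cj, add_comm]⟩
      map_zero' := Subtype.ext (by simp [T])
      map_add' := fun x y => Subtype.ext (by
        show T (t * (x + y)) = T (t * x) + T (t * y)
        rw [mul_add, map_add]) }
  have hπ : ∀ x : F, cj x = x → (π x : F) = x := fun x hx => by
    show t * x + cj (t * x) = x
    rw [map_mul, hx]
    linear_combination x * ht
  let bA := Module.finBasis (ZMod p) A'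
  let bR := Module.finBasis (ZMod p) R
  have hkA : Nat.card A = p ^ Module.finrank (ZMod p) A' := by
    have : Nat.card A' = Nat.card (ZMod p) ^ Module.finrank (ZMod p) A' := Module.natCard_eq_pow_finrank
    rwa [Nat.card_zmod] at this
  have hkR : q = p ^ Module.finrank (ZMod p) R := by
    have : Nat.card R = Nat.card (ZMod p) ^ Module.finrank (ZMod p) R := Module.natCard_eq_pow_finrank
    rw [Nat.card_zmod] at this
    exact (card_fixed hF).symm.trans this
  have hdeg : 2 * Module.finrank (ZMod p) R < Module.finrank (ZMod p) A' := by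
    rw [hkA, hkR, ← pow_mul, mul_comm] at hA
    exact (Nat.pow_lt_pow_iff_right (Fact.out : p.Prime).one_lt).1 hA
  let f : Fin (Module.finrank (ZMod p) R) → MvPolynomial (Fin (Module.finrank (ZMod p) A')) (ZMod p) := fun j =>
    ∑ i, ∑ l, MvPolynomial.C (bR.repr (π (h (bA i : V) (bA l : V))) j) * MvPolynomial.X i * MvPolynomial.X l
  have hf : ∀ j, (f j).totalDegree ≤ 2 := fun j => by
    refine MvPolynomial.totalDegree_finsetSum_le fun i _ => MvPolynomial.totalDegree_finsetSum_le fun l _ => ?_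
    refine (MvPolynomial.totalDegree_mul _ _).trans ?_
    refine le_trans (Nat.add_le_add_right (MvPolynomial.totalDegree_mul _ _) _) ?_
    simp [MvPolynomial.totalDegree_C, MvPolynomial.totalDegree_X]
  have hsum : ∑ j, (f j).totalDegree < Fintype.card (Fin (Module.finrank (ZMod p) A')) := by
    rw [Fintype.card_fin]
    refine lt_of_le_of_lt (Finset.sum_le_sum fun j _ => hf j) ?_
    rw [Finset.sum_const, Finset.card_univ, Fintype.card_fin, smul_eq_mul, mul_comm]
    exact hdeg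
  have hdvd := char_dvd_card_solutions_of_fintype_sum_lt p hsum
  obtain ⟨x, hx, hx0⟩ : ∃ x : Fin (Module.finrank (ZMod p) A') → ZMod p,
      (∀ j, MvPolynomial.eval x (f j) = 0) ∧ x ≠ 0 := by
    by_contra hcon
    push Not at hcon
    have h0 : ∀ j, MvPolynomial.eval (0 : Fin (Module.finrank (ZMod p) A') → ZMod p) (f j) = 0 := fun j => by
      simp [f, map_sum]
    have h1 : Fintype.card {x : Fin (Module.finrank (ZMod p) A') → ZMod p //
        ∀ j, MvPolynomial.eval x (f j) = 0} = 1 :=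
      Fintype.card_eq_one_iff.2 ⟨⟨0, h0⟩, fun y => Subtype.ext (hcon y.1 y.2)⟩
    replace hdvd : p ∣ 1 := by convert hdvd using 1; convert h1.symm using 2
    exact (Fact.out : p.Prime).one_lt.ne' (Nat.dvd_one.1 hdvd)
  set a := ∑ i, x i • bA i
  refine ⟨(a : V), a.2, fun e0 => hx0 ?_, ?_⟩
  · funext i
    exact Fintype.linearIndependent_iff.1 bA.linearIndependent x (Subtype.ext e0) i
  · let hL : V → V →+ F := fun v =>
      { toFun := fun y => h y v, map_zero' := h_zero_left v, map_add' := fun y z => h_add_left y z v }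
    let hR : V → V →+ F := fun v =>
      { toFun := fun y => h v y, map_zero' := h_zero_right hF v, map_add' := fun y z => h_add_right hF v y z }
    have e1 : h (a : V) (a : V) = ∑ i, ∑ l, (x i * x l) • h (bA i : V) (bA l : V) := by
      rw [show (a : V) = ∑ i, x i • (bA i : V) by simp [a]]
      show hL _ (∑ i, x i • (bA i : V)) = _
      rw [map_sum]
      refine Finset.sum_congr rfl fun i _ => ?_
      rw [ZMod.map_smul (hL _)]
      show x i • hR _ (∑ l, x l • (bA l : V)) = _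
      rw [map_sum, Finset.smul_sum]
      refine Finset.sum_congr rfl fun l _ => ?_
      rw [ZMod.map_smul (hR _), smul_smul]
      rfl
    have e2 : π (h (a : V) (a : V)) = 0 := by
      refine bR.repr.injective (Finsupp.ext fun j => ?_)
      rw [map_zero, Finsupp.zero_apply, e1, map_sum, map_sum, Finsupp.finsetSum_apply, ← hx j]
      simp only [f, map_sum, Finsupp.finsetSum_apply, map_mul, MvPolynomial.eval_C, MvPolynomial.eval_X]
      refine Finset.sum_congr rfl fun i _ => Finset.sum_congr rfl fun l _ => ?_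
      rw [ZMod.map_smul π, map_smul, Finsupp.smul_apply, smul_eq_mul]
      ring
    exact (hπ _ (cj_h_self hF _)).symm.trans (congrArg Subtype.val e2)

variable (D : Data hF n) {Ω : Type u} [Fintype Ω] [MulAction (SU n F q) Ω] (hfew : Few n F q Ω) (hd3 : D.d = 3)

open Data

include hfew hd3

theorem card_classes {x : V} (hx : h x x = 0) {y : V} (hy : h y y ≠ 0) :
    Nat.card {w : D.W // w ≠ 0 ∧ h (w : V) (w : V) = h x x} + 1 + q ^ 3 = q ^ 5 + q ^ 2 ∧
      Nat.card {w : D.W // w ≠ 0 ∧ h (w : V) (w : V) = h y y} = q ^ 5 + q ^ 2 ∧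
      D.m Ω < q ^ 7 + q ^ 5 + q ^ 2 + 1 := by
  obtain ⟨h1, h2, h3⟩ := isoNum_three hF D.pair (hd3 ▸ D.dim)
  refine ⟨?_, ?_, lt_of_mul_iso hF D hfew h1.le⟩
  · have hw : Nat.card {w : D.W // w ≠ 0 ∧ h (w : V) (w : V) = h x x} + 1 = wCount q D.e D.f 0 := by
      rw [hx, wCount, Nat.card_eq_fintype_card, Nat.card_eq_fintype_card, Fintype.card_subtype,
        Fintype.card_subtype]
      refine Eq.trans ?_ (Finset.card_erase_add_one (a := (0 : D.W))
        (Finset.mem_filter.2 ⟨Finset.mem_univ _, by rw [ZeroMemClass.coe_zero, h_zero_left]⟩))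
      congr 2
      ext w
      simp [and_comm]
    omega
  · rw [← h3 _ (cj_h_self hF y) hy]
    exact Nat.card_congr (Equiv.subtypeEquivRight fun w => ⟨fun x => x.2, fun e1 => ⟨fun e0 => hy (by
      rw [← e1, e0, ZeroMemClass.coe_zero, h_zero_left]), e1⟩⟩)

theorem Av_le_q {v : V} (hv : v ∈ D.W) (hvv : h v v ≠ 0) : (D.Av Ω v).card ≤ q := by
  by_contra hcon
  have hq := two_le_q hF
  obtain ⟨-, h2, h3⟩ := card_classes hF D hfew hd3 (h_zero_left (0 : V)) hvv
  have h4 := class_le hF D (Ω := Ω) hv (fun e0 => hvv (by rw [e0, h_zero_left]))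
  rw [h2] at h4
  have h5 := le_trans (Nat.mul_le_mul_left (q * (q ^ 5 + q ^ 2)) (not_le.1 hcon)) h4
  have e1 : q ^ 5 ≤ q ^ 6 := Nat.pow_le_pow_right (by omega) (by norm_num)
  have e2 : q ^ 2 ≤ q ^ 4 := Nat.pow_le_pow_right (by omega) (by norm_num)
  have e3 : 1 ≤ q ^ 3 := Nat.one_le_pow _ _ (by omega)
  have e4 : q * (q ^ 5 + q ^ 2) * (q + 1) = q ^ 7 + q ^ 6 + q ^ 4 + q ^ 3 := by ring
  change q * (q ^ 5 + q ^ 2) * (q + 1) ≤ D.m Ω at h5
  omega

theorem Av_lt_sing {u : V} (hu : u ∈ D.W) (hu0 : u ≠ 0) (huu : h u u = 0) : (D.Av Ω u).card < 2 * q := by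
  by_contra hcon
  have hq := two_le_q hF
  obtain ⟨a, ha, haa⟩ := exists_aniso hF (nondeg_wSub hF D.pair) (by
    rw [card_wSub hF D.pair D.dim]; exact Nat.one_lt_pow (by omega) (by omega))
  obtain ⟨h1, -, h3⟩ := card_classes hF D hfew hd3 huu haa
  have h4 := class_le hF D (Ω := Ω) hu hu0
  set c := Nat.card {w : D.W // w ≠ 0 ∧ h (w : V) (w : V) = h u u}
  have h5 := le_trans (Nat.mul_le_mul_left (q * c) (not_lt.1 hcon)) h4
  have e4 : q * c * (2 * q) + 2 * q ^ 2 + 2 * q ^ 5 = 2 * q ^ 2 * (c + 1 + q ^ 3) := by ring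
  rw [h1] at e4
  have e5 : 2 * q ^ 2 * (q ^ 5 + q ^ 2) = 2 * q ^ 7 + 2 * q ^ 4 := by ring
  have e6 : 4 * q ^ 5 ≤ q ^ 7 :=
    le_trans (Nat.mul_le_mul_right _ (Nat.pow_le_pow_left hq 2)) (le_of_eq (by ring))
  have e7 : 4 * q ^ 2 ≤ q ^ 4 :=
    le_trans (Nat.mul_le_mul_right _ (Nat.pow_le_pow_left hq 2)) (le_of_eq (by ring))
  have e8 : 1 ≤ q ^ 2 := Nat.one_le_pow _ _ (by omega)
  omega

theorem Av_sing_lt_q {u v : V} (hu : u ∈ D.W) (hu0 : u ≠ 0) (huu : h u u = 0) (hv : v ∈ D.W) (hvv : h v v ≠ 0)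
    (hne : (D.Av Ω v).Nonempty) : (D.Av Ω u).card < q := by
  by_contra hcon
  have hq := two_le_q hF
  obtain ⟨h1, h2, h3⟩ := card_classes hF D hfew hd3 huu hvv
  have h4 := class_add_le hF D (Ω := Ω) hu hu0 hv (fun e0 => hvv (by rw [e0, h_zero_left]))
    (fun e0 => hvv (by rw [← e0, huu]))
  set c := Nat.card {w : D.W // w ≠ 0 ∧ h (w : V) (w : V) = h u u}
  rw [h2] at h4
  have h5 := le_trans (Nat.add_le_add (Nat.mul_le_mul_left (q * c) (not_lt.1 hcon))
    (Nat.mul_le_mul_left (q * (q ^ 5 + q ^ 2)) (Finset.one_le_card.2 hne))) h4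
  have e4 : q * c * q + q ^ 2 + q ^ 5 = q ^ 2 * (c + 1 + q ^ 3) := by ring
  rw [h1] at e4
  have e5 : q ^ 2 * (q ^ 5 + q ^ 2) = q ^ 7 + q ^ 4 := by ring
  have e6 : q * (q ^ 5 + q ^ 2) * 1 = q ^ 6 + q ^ 3 := by ring
  have e7 : 2 * q ^ 5 ≤ q ^ 6 := le_trans (Nat.mul_le_mul_right _ hq) (le_of_eq (by ring))
  have e8 : 4 * q ^ 2 ≤ q ^ 4 :=
    le_trans (Nat.mul_le_mul_right _ (Nat.pow_le_pow_left hq 2)) (le_of_eq (by ring))
  have e9 : 1 ≤ q ^ 3 := Nat.one_le_pow _ _ (by omega)
  omega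

omit hfew in
/-- The orthogonal space of two pairs is an anisotropic line. -/
theorem perp2_line {u u' : V} (P' : IsPair (q := q) u u') (hu : u ∈ D.W) (hu' : u' ∈ D.W) {x : V}
    (hx : x ∈ perp2 q D.W u u') (hx0 : x ≠ 0) :
    h x x ≠ 0 ∧ ∀ y ∈ perp2 q D.W u u', ∃ t : F, y = t • x := by
  have hq := two_le_q hF
  have hcard : Nat.card (perp2 q D.W u u') = q ^ 2 := by
    have e1 := card_perp2 hF D.pair P' hu hu'
    rw [card_wSub hF D.pair D.dim, hd3] at e1
    exact Nat.eq_of_mul_eq_mul_right (show 0 < (q ^ 2) ^ 2 by positivity) (e1.trans (by ring))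
  let φ : F → perp2 q D.W u u' := fun t => ⟨t • x, Submodule.smul_mem _ t hx⟩
  have hbij : Function.Bijective φ := (Nat.bijective_iff_injective_and_card _).2
    ⟨fun a b hab => smul_left_injective F hx0 (congrArg Subtype.val hab), by
      rw [hcard, Nat.card_eq_fintype_card, hF]⟩
  have hspan : ∀ y ∈ perp2 q D.W u u', ∃ t : F, y = t • x := fun y hy => by
    obtain ⟨t, ht⟩ := hbij.2 ⟨y, hy⟩
    exact ⟨t, (congrArg Subtype.val ht).symm⟩
  refine ⟨fun hxx => ?_, hspan⟩
  obtain ⟨y, hy, hyy⟩ := exists_aniso hF (nondeg_perp2 hF D.pair P' hu hu') (by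
    rw [hcard]; exact Nat.one_lt_pow two_ne_zero (by omega))
  obtain ⟨t, rfl⟩ := hspan y hy
  exact hyy (by rw [h_smul_left, h_smul_right hF, hxx, mul_zero, mul_zero])

/-- An annihilator through a singular vector and a vector not orthogonal to it. -/
theorem key_pair {b : Ω} (hb : b ∈ D.M) {u u' : V} (P' : IsPair (q := q) u u') (hu : u ∈ D.W) (hu' : u' ∈ D.W)
    (huA : u ∈ D.A b) {a : V} (ha : a ∈ D.A b) (hne : h a u ≠ 0) :
    (∀ t : F, t • u ∈ D.A b) ∧ ∃ x ∈ perp2 q D.W u u', x ≠ 0 ∧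
      ∀ t : F, t • u' ∈ D.A b → t • x ∈ D.A b := by
  have hq := two_le_q hF
  set X := perp2 q D.W u u'
  have hX : X ≤ wSub q u u' := inf_le_right
  let St : Subgroup (SU n F q) :=
    { carrier := {g | g ∈ heisX hF P'.ee X ∧ mapA g (D.A b) = D.A b}
      one_mem' := ⟨one_mem _, mapA_one hF _⟩
      mul_mem' := fun {x y} hx hy => ⟨mul_mem hx.1 hy.1, by rw [mapA_mul hF, hy.2, hx.2]⟩
      inv_mem' := fun {x} hx => ⟨inv_mem hx.1, by
        conv_lhs => arg 2; rw [← hx.2]
        rw [← mapA_mul hF, inv_mul_cancel, mapA_one hF]⟩ }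
  have hSt : St ≤ heisX hF P'.ee X := fun g hg => hg.1
  have hu0 : u ≠ 0 := P'.ne_zero
  have hH := card_le_Av_mul hF D (Ω := Ω) (mem_Av hF D hb huA) (H := heisX hF P'.ee X) (fun g hg => ?_)
    (St := St) fun g => Iff.rfl
  swap
  · obtain ⟨y, hy, c', H, hs⟩ := hg
    have eg : g = eSU hF H := suVal_ext hs
    refine ⟨eg ▸ eSU_mem_gW hF hu hy.1 H, ?_⟩
    rw [hs, eMat_mulVec, P'.ee, H.ew hF]
    simp
  have hcX : Nat.card X = q ^ 2 := by
    have e1 := card_perp2 hF D.pair P' hu hu'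
    rw [card_wSub hF D.pair D.dim, hd3] at e1
    exact Nat.eq_of_mul_eq_mul_right (show 0 < (q ^ 2) ^ 2 by positivity) (e1.trans (by ring))
  rw [card_heisX hF P' hX, hcX] at hH
  set k := (D.Av Ω u).card
  have hk := Av_lt_sing hF D hfew hd3 hu hu0 P'.ee
  -- the centre fixes the annihilator
  have hc : ∀ c : skew hF, tv hF P'.ee c ∈ St := by
    by_contra hcon
    push Not at hcon
    have h2 := four_sq_card_le hF P' hX hSt (nondeg_perp2 hF D.pair P' hu hu') hcon
    rw [hcX] at h2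
    set s := Nat.card St
    have h3 : q ^ 2 * q * (q ^ 2 * q) * 4 ≤ k * k * (q * q * q ^ 2) :=
      calc q ^ 2 * q * (q ^ 2 * q) * 4 ≤ k * s * (k * s) * 4 := by gcongr
        _ = k * k * (4 * (s * s)) := by ring
        _ ≤ _ := by gcongr
    have h4 : 2 * q * (2 * q) ≤ k * k :=
      Nat.le_of_mul_le_mul_right (le_trans (le_of_eq (by ring)) h3) (show 0 < q * q * q ^ 2 by positivity)
    exact absurd (Nat.mul_self_le_mul_self_iff.1 h4) (not_le.2 hk)
  rw [card_st hF P' hX hSt] at hH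
  set i := Nat.card (img hF P' hX hSt)
  have hC : Nat.card (ctr hF P'.ee St) ≤ q := by
    refine le_trans (AddSubgroup.card_le_card_addGroup _) ?_
    rw [card_skew hF]
  have hi : q * q ≤ k * i := by
    refine Nat.le_of_mul_le_mul_left ?_ (show 0 < q by omega)
    calc q * (q * q) = q ^ 2 * q := by ring
      _ ≤ k * (Nat.card (ctr hF P'.ee St) * i) := hH
      _ ≤ k * (q * i) := by gcongr
      _ = _ := by ring
  set γ := h a u with hγ
  have hmove : ∀ y ∈ img hF P' hX hSt, ∀ v ∈ D.A b, ∃ c : F,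
      h v u • y - h v y • u + (c * h v u) • u ∈ D.A b := by
    rintro _ ⟨g, hg, rfl⟩ v hv
    obtain ⟨-, H, hgeq⟩ := heisX_eq hF P' hX hg.1
    have hga : suVal g *ᵥ v ∈ D.A b := by
      have := mem_mapA hF (g := g) hv
      rwa [hg.2] at this
    refine ⟨cOf u' g, ?_⟩
    have := AddSubgroup.sub_mem _ hga hv
    conv at this => arg 2; rw [hgeq, suVal_eSU, eMat_mulVec, add_sub_cancel_left]
    exact this
  -- an anisotropic vector of the annihilator
  obtain ⟨x0, hx0m, hx00⟩ : ∃ x ∈ img hF P' hX hSt, x ≠ 0 := by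
    refine (img hF P' hX hSt).bot_or_exists_ne_zero.resolve_left fun e0 => ?_
    have h1 : i = 1 := by show Nat.card (img hF P' hX hSt) = 1; rw [e0, AddSubgroup.card_bot]
    rw [h1, mul_one] at hi
    have := Nat.mul_le_mul_right q hq
    omega
  obtain ⟨c0, hv0⟩ := hmove x0 hx0m a ha
  rw [← hγ] at hv0
  have hx0X : x0 ∈ X := img_le hF P' hX hSt hx0m
  have hxu : h x0 u = 0 := hx0X.2.1
  set v := γ • x0 - h a x0 • u + (c0 * γ) • u with hvdef
  have hvW : v ∈ D.W := Submodule.add_mem _ (Submodule.sub_mem _ (Submodule.smul_mem _ _ hx0X.1)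
    (Submodule.smul_mem _ _ hu)) (Submodule.smul_mem _ _ hu)
  have hvv : h v v ≠ 0 := by
    rw [hvdef]
    simp only [h_add_left, h_sub_left, h_add_right hF, h_sub_right hF, h_smul_left, h_smul_right hF, hxu,
      h_comm_zero hF hxu, P'.ee, mul_zero, sub_zero, add_zero, zero_sub, neg_zero]
    exact mul_ne_zero ((map_ne_zero _).2 hne) (mul_ne_zero hne (perp2_line hF D hd3 P' hu hu' hx0X hx00).1)
  have hkq := Av_sing_lt_q hF D hfew hd3 hu hu0 P'.ee hvW hvv ⟨_, mem_Av hF D hb hv0⟩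
  -- the line of the singular vector
  let G0 : AddSubgroup F :=
    { carrier := {t | (γ * t) • u ∈ D.A b}
      add_mem' := fun {s t} hs ht => by
        show (γ * (s + t)) • u ∈ D.A b
        rw [mul_add, add_smul]; exact AddSubgroup.add_mem _ hs ht
      zero_mem' := by show (γ * 0) • u ∈ D.A b; rw [mul_zero, zero_smul]; exact AddSubgroup.zero_mem _
      neg_mem' := fun {s} hs => by
        show (γ * -s) • u ∈ D.A b
        rw [mul_neg, neg_smul]; exact AddSubgroup.neg_mem _ hs }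
  have hskew : ∀ c : F, c + cj c = 0 → c ∈ G0 := fun c hcc => by
    have h1 := mem_mapA hF (g := tv hF P'.ee ⟨c, hcc⟩) ha
    rw [(hc ⟨c, hcc⟩).2, suVal_tv, tv_apply' hF, ← hγ] at h1
    have h2 := AddSubgroup.sub_mem _ h1 ha
    rw [add_sub_cancel_left, mul_comm] at h2
    exact h2
  have hprod : ∀ y ∈ img hF P' hX hSt, ∀ y' ∈ img hF P' hX hSt, h y y' ∈ G0 := by
    intro y hy y' hy'
    obtain ⟨c1, h1⟩ := hmove y hy a ha
    rw [← hγ] at h1
    set v1 := γ • y - h a y • u + (c1 * γ) • u with hv1def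
    have hyu : h y u = 0 := (img_le hF P' hX hSt hy).2.1
    have hy'u : h u y' = 0 := h_comm_zero hF (img_le hF P' hX hSt hy').2.1
    have e1 : h v1 u = 0 := by
      rw [hv1def, h_add_left, h_sub_left, h_smul_left, h_smul_left, h_smul_left, hyu, P'.ee]; ring
    have e2 : h v1 y' = γ * h y y' := by
      rw [hv1def, h_add_left, h_sub_left, h_smul_left, h_smul_left, h_smul_left, hy'u]; ring
    obtain ⟨c2, h2⟩ := hmove y' hy' v1 h1
    rw [e1, e2, zero_smul, mul_zero, zero_smul, add_zero, zero_sub, neg_mem_iff] at h2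
    exact h2
  have hline : ∀ t : F, t • u ∈ D.A b := by
    suffices hG : G0 = ⊤ by
      intro t
      have : t / γ ∈ G0 := by rw [hG]; trivial
      show t • u ∈ D.A b
      rw [← mul_div_cancel₀ t hne]
      exact this
    by_contra hG
    obtain ⟨r, hr⟩ : ∃ r : F, r ∉ G0 := by
      by_contra hcon
      push Not at hcon
      exact hG (eq_top_iff.2 fun r _ => hcon r)
    obtain ⟨φ', hφ'⟩ := (AddChar.exists_apply_ne_zero (α := F ⧸ G0) (a := (r : F ⧸ G0))).2
      fun e0 => hr ((QuotientAddGroup.eq_zero_iff r).1 e0)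
    let φ : AddChar F ℂ := φ'.compAddMonoidHom (QuotientAddGroup.mk' G0)
    have hφG : ∀ s ∈ G0, φ s = 1 := fun s hs => by
      show φ' (s : F ⧸ G0) = 1
      rw [(QuotientAddGroup.eq_zero_iff s).2 hs, AddChar.map_zero_eq_one]
    obtain ⟨k0, hk0, hk0'⟩ := exists_trace_zero hF
    have hex : ∀ c : skew hF, ∃ t : F, t + cj t = (c : F) / k0 := fun c =>
      exists_trace_eq hF (real_div_skew hF ((mem_skew hF).1 c.2) hk0')
    choose τ hτ using hex
    have hsame : ∀ s t : F, s + cj s = t + cj t → φ s = φ t := fun s t hst => by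
      have h1 : s - t ∈ G0 := hskew _ (by rw [map_sub]; linear_combination hst)
      rw [← mul_one (φ t), ← hφG _ h1, ← AddChar.map_add_eq_mul, add_sub_cancel]
    let χ : AddChar (skew hF) ℂ :=
      { toFun := fun c => φ (τ c)
        map_zero_eq_one' := by
          rw [hsame (τ 0) 0 (by rw [hτ, ZeroMemClass.coe_zero, zero_div, map_zero, add_zero]),
            AddChar.map_zero_eq_one]
        map_add_eq_mul' := fun c c' => by
          rw [← AddChar.map_add_eq_mul]
          refine hsame _ _ ?_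
          rw [hτ, map_add, AddMemClass.coe_add, add_div, ← hτ c, ← hτ c']
          ring }
    have hpsi : ∀ s : F, psi hF hk0' χ s = φ s := fun s => hsame _ _ (by
      rw [hτ]; exact mul_div_cancel_right₀ _ hk0)
    have hr' : χ ⟨(r + cj r) * k0, real_mul_skew hF (by rw [map_add, cj_cj, add_comm]) hk0'⟩ ≠ 1 := by
      intro e0
      exact hφ' ((hpsi r).symm.trans e0)
    have h5 := sq_card_le hF hk0' χ hk0 hr' (nondeg_perp2 hF D.pair P' hu hu')
      (fun s hs => img_le hF P' hX hSt hs) one_ne_zero fun s hs s' hs' => by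
        rw [one_smul, hpsi]; exact hφG _ (hprod s hs s' hs')
    rw [hcX, pow_two] at h5
    have h6 : i ≤ q := Nat.mul_self_le_mul_self_iff.1 h5
    have h7 : k * i + i ≤ q * i := by rw [← Nat.succ_mul]; exact Nat.mul_le_mul_right _ hkq
    have h8 : 0 < i := Nat.card_pos
    have h9 := Nat.mul_le_mul_left q h6
    omega
  refine ⟨hline, x0, hx0X, hx00, fun t ht => ?_⟩
  obtain ⟨c, h1⟩ := hmove x0 hx0m _ ht
  rw [h_smul_left, h_smul_left, P'.fe hF, h_comm_zero hF hx0X.2.2, mul_zero, mul_one, zero_smul, sub_zero] at h1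
  simpa using AddSubgroup.sub_mem _ h1 (hline (c * t))

/-- An annihilator is not orthogonal to a singular vector of its own. -/
theorem exists_not_orth {b : Ω} (hb : b ∈ D.M) {u : V} (huA : u ∈ D.A b) (hu0 : u ≠ 0) (huu : h u u = 0) :
    ∃ a ∈ D.A b, h a u ≠ 0 := by
  by_contra hcon
  push Not at hcon
  have hq := two_le_q hF
  have hu : u ∈ D.W := huA.1
  set L := (Submodule.span F {u}).toAddSubgroup
  have hLW : ∀ s ∈ L, s ∈ D.W := fun s hs => (Submodule.span_singleton_le_iff_mem u D.W).2 hu hs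
  have hSW : ∀ s ∈ D.S b, s ∈ D.W := fun s hs =>
    img_le hF D.pair (le_refl D.W) (St := D.stQ b) inf_le_left hs
  set S' := D.S b ⊔ L
  have hS'W : ∀ s ∈ S', s ∈ D.W := fun s hs => by
    obtain ⟨y, hy, z, hz, rfl⟩ := AddSubgroup.mem_sup.1 hs
    exact Submodule.add_mem _ (hSW y hy) (hLW z hz)
  have h1 : D.A b ≤ ann q (psi hF D.c0_skew D.χ) D.W S' := fun v hv => ⟨hv.1, fun s hs => by
    obtain ⟨y, hy, z, hz, rfl⟩ := AddSubgroup.mem_sup.1 hs
    obtain ⟨t, rfl⟩ := Submodule.mem_span_singleton.1 hz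
    rw [h_add_right hF, h_smul_right hF, hcon v hv, mul_zero, add_zero]
    exact hv.2 y hy⟩
  have h2 := card_ann hF D.c0_skew D.χ D.c0_ne D.χ_ne (nondeg_wSub hF D.pair) hS'W
  rw [card_wSub hF D.pair D.dim, ← card_A hF D b] at h2
  have h3 : Nat.card S' ≤ Nat.card (D.S b) := by
    refine Nat.le_of_mul_le_mul_left ?_ (show 0 < Nat.card (D.A b) from Nat.card_pos)
    rw [← h2]
    exact Nat.mul_le_mul_right _ (AddSubgroup.card_le_of_le h1)
  have h4 := AddSubgroup.eq_of_le_of_card_ge (le_sup_left : D.S b ≤ S') h3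
  have hline : ∀ t : F, t • u ∈ D.A b := fun t => by
    have h5 : (D.c0 * t) • u ∈ D.S b :=
      h4 ▸ (le_sup_right : L ≤ S') (Submodule.smul_mem _ _ (Submodule.mem_span_singleton_self u))
    refine ⟨D.W.smul_mem _ hu, fun s' hs' => ?_⟩
    have := psi_img hF D.pair (le_refl D.W) (St := D.stQ b) inf_le_left D.c0_ne D.c0_skew
      (fun c hc => (mem_M hF D).1 hb c (ctr_stQ hF D b ▸ hc)) h5 hs'
    rwa [← smul_smul, inv_smul_smul₀ D.c0_ne] at this
  -- an anisotropic vector
  have hbig : q ^ 2 < Nat.card (D.A b) := by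
    by_contra hle
    have h5 := (sq_card_A hF D hb).trans (Nat.mul_le_mul (not_lt.1 hle) (not_lt.1 hle))
    rw [← pow_add, hd3] at h5
    have := (Nat.pow_le_pow_iff_right (show 1 < q by omega)).1 h5
    omega
  obtain ⟨v, hvA, hvL⟩ : ∃ v ∈ D.A b, v ∉ Submodule.span F {u} := by
    by_contra hsub
    push Not at hsub
    have h5 := AddSubgroup.card_le_of_le (show D.A b ≤ L from hsub)
    have h6 : Nat.card L ≤ q ^ 2 := by
      rw [← hF, ← Nat.card_eq_fintype_card]
      exact Nat.card_le_card_of_surjective (fun t : F =>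
        (⟨t • u, Submodule.smul_mem _ _ (Submodule.mem_span_singleton_self u)⟩ : L)) fun s => by
          obtain ⟨t, ht⟩ := Submodule.mem_span_singleton.1 s.2
          exact ⟨t, Subtype.ext ht⟩
    omega
  obtain ⟨u', hu', hu'u', huu'⟩ := wSub_partner hF D.pair hu hu0 huu
  have P' : IsPair (q := q) u u' := ⟨huu, hu'u', huu'⟩
  set x := wPart (q := q) u u' v
  have hxX : x ∈ perp2 q D.W u u' := wPart_mem_perp2 hF D.pair P' hu hu' hvA.1
  have hveq := wPart_eq (q := q) u u' v
  rw [hcon v hvA, zero_smul, add_zero] at hveq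
  have hx0 : x ≠ 0 := fun e0 => hvL (by
    rw [hveq, show wPart (q := q) u u' v = x from rfl, e0, add_zero]
    exact Submodule.smul_mem _ _ (Submodule.mem_span_singleton_self u))
  have hvv : h v v ≠ 0 := by
    rw [hveq, show wPart (q := q) u u' v = x from rfl]
    simp only [h_add_left, h_add_right hF, h_smul_left, h_smul_right hF, huu, (show h x u = 0 from hxX.2.1),
      h_comm_zero hF (show h x u = 0 from hxX.2.1), mul_zero, add_zero, zero_add]
    exact (perp2_line hF D hd3 P' hu hu' hxX hx0).1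
  obtain ⟨u2, hu2, P2, hvu2⟩ := exists_partner_perp hF D.pair hvA.1 hvv hu hu0 huu (hcon v hvA)
  have horth : ∀ {g : SU n F q} {y : V}, y ∈ mapA g (D.A b) → h y (suVal g *ᵥ u) = 0 := by
    rintro g _ ⟨y, hy, rfl⟩
    exact (su_form g y u).trans (hcon y hy)
  let G : skew hF → AddSubgroup V := fun c => mapA (tv hF P2.ff c) (D.A b)
  have hTu : ∀ c : skew hF, suVal (tv hF P2.ff c) *ᵥ u = u + (c : F) • u2 := fun c => by
    rw [suVal_tv, tv_apply' hF, P2.ef, mul_one]
  have hTv : ∀ c : skew hF, suVal (tv hF P2.ff c) *ᵥ v = v := fun c => by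
    rw [suVal_tv, tv_apply' hF, hvu2, mul_zero, zero_smul, add_zero]
  have hG : ∀ c : skew hF, G c ∈ D.Av Ω v := fun c => by
    have := mapA_mem_Av hF D (g := tv hF P2.ff c) (tv_mem_gW hF hu2 _) (mem_Av hF D hb hvA)
    rwa [hTv] at this
  have hGinj : Function.Injective G := fun c c' hcc => by
    have h5 : suVal (tv hF P2.ff c) *ᵥ u ∈ G c' := hcc ▸ mem_mapA hF huA
    have h6 := horth h5
    rw [hTu, hTu, h_add_left, h_add_right hF, h_add_right hF, h_smul_left, h_smul_left, h_smul_right hF,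
      h_smul_right hF, huu, P2.ef, P2.fe hF, P2.ff] at h6
    refine Subtype.ext ?_
    linear_combination h6 - (mem_skew hF).1 c'.2
  obtain ⟨k0, hk0, hk⟩ := exists_trace_zero hF
  have hk' : -k0⁻¹ + cj (-k0⁻¹) = 0 := by
    rw [map_neg, map_inv₀, eq_neg_of_add_eq_zero_right hk, inv_neg, neg_neg, neg_add_cancel]
  set g := tv hF huu ⟨-k0⁻¹, hk'⟩ * tv hF P2.ff ⟨k0, hk⟩
  have hgu : suVal g *ᵥ u = k0 • u2 := by
    rw [suVal_mul, ← Matrix.mulVec_mulVec, hTu, suVal_tv, tv_apply' hF]
    show u + k0 • u2 + (-k0⁻¹ * h (u + k0 • u2) u) • u = k0 • u2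
    rw [h_add_left, h_smul_left, huu, P2.fe hF, zero_add, mul_one, neg_mul, inv_mul_cancel₀ hk0, neg_one_smul]
    abel
  have hgv : suVal g *ᵥ v = v := by
    rw [suVal_mul, ← Matrix.mulVec_mulVec, hTv, suVal_tv, tv_apply' hF, hcon v hvA, mul_zero, zero_smul, add_zero]
  have hgA : mapA g (D.A b) ∈ D.Av Ω v := by
    have := mapA_mem_Av hF D (g := g) (mul_mem (tv_mem_gW hF hu _) (tv_mem_gW hF hu2 _)) (mem_Av hF D hb hvA)
    rwa [hgv] at this
  have hnot : mapA g (D.A b) ∉ Finset.univ.image G := by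
    intro hmem
    obtain ⟨c, -, hc⟩ := Finset.mem_image.1 hmem
    have h5 : suVal g *ᵥ u ∈ G c := hc ▸ mem_mapA hF huA
    have h6 := horth h5
    rw [hgu, hTu, h_smul_left, h_add_right hF, h_smul_right hF, P2.fe hF, P2.ff, mul_zero, add_zero, mul_one] at h6
    exact hk0 h6
  have h8 := Finset.card_le_card (s := insert (mapA g (D.A b)) (Finset.univ.image G)) (t := D.Av Ω v) (by
      intro A hA
      rcases Finset.mem_insert.1 hA with rfl | hA
      · exact hgA
      · obtain ⟨c, -, rfl⟩ := Finset.mem_image.1 hA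
        exact hG c)
  rw [Finset.card_insert_of_notMem hnot, Finset.card_image_of_injective _ hGinj, Finset.card_univ,
    ← Nat.card_eq_fintype_card, card_skew hF] at h8
  have := Av_le_q hF D hfew hd3 hvA.1 hvv
  omega

/-- An annihilator is everything. -/
theorem A_eq_W_three {b : Ω} (hb : b ∈ D.M) {x : V} (hx : x ∈ D.W) : x ∈ D.A b := by
  have hq := two_le_q hF
  obtain ⟨u, huA, hu0, huu⟩ := exists_singular_of_card hF (A := D.A b) (by
    by_contra hle
    have h5 := (sq_card_A hF D hb).trans (Nat.mul_le_mul (not_lt.1 hle) (not_lt.1 hle))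
    rw [← pow_add, hd3] at h5
    have := (Nat.pow_le_pow_iff_right (show 1 < q by omega)).1 h5
    omega)
  have hu : u ∈ D.W := huA.1
  obtain ⟨a, ha, hne⟩ := exists_not_orth hF D hfew hd3 hb huA hu0 huu
  obtain ⟨u0', hu0', hu0'', hu0'''⟩ := wSub_partner hF D.pair hu hu0 huu
  have hline := (key_pair hF D hfew hd3 hb ⟨huu, hu0'', hu0'''⟩ hu hu0' huA ha hne).1
  -- a singular partner in the annihilator
  set γ := h a u with hγ
  have hcγ : cj γ ≠ 0 := (map_ne_zero _).2 hne
  obtain ⟨s, hs⟩ := exists_trace_eq hF (a := -h a a) (by rw [map_neg, cj_h_self hF])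
  set u1 := a + (s / cj γ) • u with hu1
  have hu1A : u1 ∈ D.A b := AddSubgroup.add_mem _ ha (hline _)
  have h11 : h u1 u1 = 0 := by
    rw [hu1, h_add_left, h_add_right hF, h_add_right hF, h_smul_left, h_smul_left, h_smul_right hF,
      h_smul_right hF, huu, ← hγ, ← cj_h hF a u, ← hγ, map_div₀, cj_cj, div_mul_cancel₀ _ hne,
      div_mul_cancel₀ _ hcγ, mul_zero, mul_zero, add_zero]
    linear_combination hs
  have h1u : h u1 u = γ := by rw [hu1, h_add_left, h_smul_left, huu, mul_zero, add_zero]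
  have hu10 : u1 ≠ 0 := fun e0 => hne (by rw [← h1u, e0, h_zero_left])
  obtain ⟨w1, hw1, hw11, hw1u⟩ := wSub_partner hF D.pair hu1A.1 hu10 h11
  have hline1 := (key_pair hF D hfew hd3 hb ⟨h11, hw11, hw1u⟩ hu1A.1 hw1 hu1A huA
    (fun e0 => hne (by rw [← h1u, h_comm_zero hF e0]))).1
  set u' := γ⁻¹ • u1 with hu'
  have hu'A : ∀ t : F, t • u' ∈ D.A b := fun t => by rw [hu', smul_smul]; exact hline1 _
  have P' : IsPair (q := q) u u' := ⟨huu, by rw [hu', h_smul_left, h_smul_right hF, h11, mul_zero, mul_zero], by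
    rw [hu', h_smul_right hF, ← cj_h hF u1 u, h1u, ← map_mul, inv_mul_cancel₀ hne, map_one]⟩
  have hu'W : u' ∈ D.W := Submodule.smul_mem _ _ hu1A.1
  obtain ⟨-, y, hy, hy0, hyA⟩ := key_pair hF D hfew hd3 hb P' hu hu'W huA ha hne
  obtain ⟨t, ht⟩ := (perp2_line hF D hd3 P' hu hu'W hy hy0).2 _ (wPart_mem_perp2 hF D.pair P' hu hu'W hx)
  rw [wPart_eq (q := q) u u' x, ht]
  exact AddSubgroup.add_mem _ (AddSubgroup.add_mem _ (hline _) (hu'A _)) (hyA t (hu'A t))

end Cfsg.Agent.Lie.MinIndexUnit
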