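import Cfsg.Agent.Lib.Lie.Sl2Pair

/-!
`SL₂(F)` is generated by an element of order prime to the characteristic and an element of order dividing it,
and `SL_n(F)` has no quotient of order two apart from `SL₂(2)`.
-/

set_option autoImplicit false
set_option linter.unusedSectionVars false
set_option maxHeartbeats 1000000

namespace Cfsg.Agent.Lie.Sl2Pair

open Matrix Cfsg.Agent.Lie.Sl2Pres

variable {F : Type*} [Field F] [Fintype F]

theorem nat_surj_of_card {p : ℕ} [Fact p.Prime] [CharP F p] (h : Fintype.card F = p) (t : F) :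
    ∃ n : ℕ, (n : F) = t := by
  letI : Algebra (ZMod p) F := ZMod.algebra F p
  obtain ⟨z, hz⟩ := ((Fintype.bijective_iff_injective_and_card (algebraMap (ZMod p) F)).2
    ⟨(algebraMap (ZMod p) F).injective, by rw [ZMod.card, h]⟩).2 t
  exact ⟨z.val, by rw [← hz, ← map_natCast (algebraMap (ZMod p) F), ZMod.natCast_zmod_val]⟩

/-- Two generators of coprime orders. -/
theorem exists_coprime_pair (p : ℕ) [Fact p.Prime] [CharP F p] :
    ∃ (A B : SpecialLinearGroup (Fin 2) F) (o : ℕ), Subgroup.closure {A, B} = ⊤ ∧
      Nat.Coprime o p ∧ A ^ o = 1 ∧ B ^ p = 1 := by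
  classical
  have hp : p.Prime := Fact.out
  have hp0 : (p : F) = 0 := CharP.cast_eq_zero F p
  obtain ⟨k, -, hk⟩ := FiniteField.card F p
  by_cases hq3 : Fintype.card F ≤ 3
  · have hpF : Fintype.card F = p := by
      have hk1 : (k : ℕ) = 1 := by
        by_contra hne
        have h2 : p ^ 2 ≤ p ^ (k : ℕ) := Nat.pow_le_pow_right hp.pos (by have := k.pos; omega)
        rw [← hk] at h2
        have := hp.two_le
        nlinarith
      rw [hk, hk1, pow_one]
    have hU : ∀ {K : Subgroup (SpecialLinearGroup (Fin 2) F)}, slU 1 ∈ K → ∀ t, slU t ∈ K := fun h t => by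
      obtain ⟨n, rfl⟩ := nat_surj_of_card hpF t
      have := Subgroup.pow_mem _ h n
      rwa [slU_pow, mul_one] at this
    have hL : ∀ {K : Subgroup (SpecialLinearGroup (Fin 2) F)}, slL 1 ∈ K → ∀ t, slL t ∈ K := fun h t => by
      obtain ⟨n, rfl⟩ := nat_surj_of_card hpF t
      have := Subgroup.pow_mem _ h n
      rwa [slL, ← map_pow, slU_pow, mul_one] at this
    rcases (show p = 2 ∨ p = 3 by have := hp.two_le; omega) with rfl | rfl
    · have h2 : (2 : F) = 0 := by simpa using hp0
      let A : SpecialLinearGroup (Fin 2) F := ⟨!![0, 1; 1, 1], by rw [det_fin_two_of]; linear_combination -h2⟩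
      refine ⟨A, slU 1, 3, ?_, by norm_num, ?_, ?_⟩
      · refine top_of_root_groups (hU (Subgroup.subset_closure (by simp))) (hL ?_)
        have e : slL 1 = A * slU 1 * A⁻¹ := by
          rw [eq_mul_inv_iff_mul_eq]
          refine Subtype.ext ?_
          show (slL (1 : F)).val * A.val = A.val * (slU (1 : F)).val
          rw [slL_val]
          simp [A, slU]
        rw [e]
        exact mul_mem (mul_mem (Subgroup.subset_closure (by simp)) (Subgroup.subset_closure (by simp)))
          (inv_mem (Subgroup.subset_closure (by simp)))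
      · refine Subtype.ext ?_
        rw [pow_succ, pow_two]
        show A.val * A.val * A.val = 1
        ext i j
        fin_cases i <;> fin_cases j <;> simp [A, Matrix.mul_apply, Fin.sum_univ_two] <;> linear_combination h2
      · rw [slU_pow]; simp [hp0, slU_zero, h2]
    · have h3 : (3 : F) = 0 := by simpa using hp0
      refine ⟨slW, slU 1, 4, ?_, by norm_num, ?_, ?_⟩
      · refine top_of_root_groups (hU (Subgroup.subset_closure (by simp))) (hL ?_)
        have e : slL (1 : F) = (slW * slU (1 : F) * slW⁻¹)⁻¹ := by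
          rw [eq_inv_iff_mul_eq_one, ← mul_assoc, mul_inv_eq_one]
          refine Subtype.ext ?_
          show (slL (1 : F)).val * ((slW : SpecialLinearGroup (Fin 2) F).val * (slU (1 : F)).val) = _
          rw [slL_val]
          simp [slW, slU]
        rw [e]
        exact inv_mem (mul_mem (mul_mem (Subgroup.subset_closure (by simp)) (Subgroup.subset_closure (by simp)))
          (inv_mem (Subgroup.subset_closure (by simp))))
      · refine Subtype.ext ?_
        rw [pow_succ, pow_succ, pow_two]
        show !![(0 : F), 1; -1, 0] * !![0, 1; -1, 0] * !![0, 1; -1, 0] * !![0, 1; -1, 0] = 1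
        ext i j
        fin_cases i <;> fin_cases j <;> simp [Matrix.mul_apply, Fin.sum_univ_two]
      · rw [slU_pow]; simp [h3, slU_zero]
  push Not at hq3
  obtain ⟨ω, hω⟩ := IsCyclic.exists_monoid_generator (α := Fˣ)
  have hgen : ∀ x : Fˣ, ∃ n : ℕ, x = ω ^ n := fun x => by
    obtain ⟨n, hn⟩ := hω x
    exact ⟨n, hn.symm⟩
  have hordU : orderOf ω = Nat.card F - 1 := by
    rw [orderOf_eq_card_of_forall_mem_zpowers (fun x => by
      obtain ⟨n, rfl⟩ := hgen x
      exact Subgroup.mem_zpowers_iff.2 ⟨n, zpow_natCast ω n⟩), Nat.card_units]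
  have hordF : orderOf (ω : F) = Nat.card F - 1 := by rw [orderOf_units, hordU]
  have hω2 : (ω : F) ^ 2 ≠ 1 := fun h => by
    have := Nat.le_of_dvd two_pos (orderOf_dvd_of_pow_eq_one h)
    rw [hordF, Nat.card_eq_fintype_card] at this
    omega
  have hcop : Nat.Coprime (Nat.card F - 1) p := by
    rw [Nat.card_eq_fintype_card, hk]
    refine Nat.Coprime.symm ((hp.coprime_iff_not_dvd).2 fun h => ?_)
    have h1 : p ∣ p ^ (k : ℕ) := dvd_pow_self p k.pos.ne'
    have h2 := Nat.dvd_sub h1 h
    rw [show p ^ (k : ℕ) - (p ^ (k : ℕ) - 1) = 1 by have := Nat.one_le_pow (k : ℕ) p hp.pos; omega] at h2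
    exact hp.one_lt.ne' (Nat.dvd_one.1 h2)
  have hA : (slH ω : SpecialLinearGroup (Fin 2) F) ^ (Nat.card F - 1) = 1 := by
    rw [slH_pow, ← hordU, pow_orderOf_eq_one]
    exact Subtype.ext (by simp [slH, Matrix.one_fin_two])
  by_cases h2 : p = 2
  · subst h2
    have h20 : (2 : F) = 0 := by simpa using hp0
    set a : F := (ω : F) with ha
    have ha0 : a ≠ 0 := ω.ne_zero
    have ha1 : 1 + a ≠ 0 := fun h => hω2 (by linear_combination (a - 1) * h)
    let B : SpecialLinearGroup (Fin 2) F := ⟨!![1 + a, a; a, 1 + a], by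
      rw [det_fin_two_of]; linear_combination a * h20⟩
    obtain ⟨j, hj⟩ := hgen (Units.mk0 (a / (1 + a)) (div_ne_zero ω.ne_zero ha1))
    refine ⟨slH ω, B, _, ?_, hcop, hA, ?_⟩
    · refine top_of_torus hordF hω2 (Subgroup.subset_closure (by simp)) (g := B * slH ω ^ j * B)
        (mul_mem (mul_mem (Subgroup.subset_closure (by simp)) (Subgroup.pow_mem _ (Subgroup.subset_closure (by simp)) j))
          (Subgroup.subset_closure (by simp))) ?_ ?_
      · rw [slH_pow, ← hj]
        show (B.val * (slH (Units.mk0 (a / (1 + a)) _)).val * B.val) 0 0 = 0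
        simp [B, slH, Matrix.mul_apply, Fin.sum_univ_two]
        field_simp
        grobner
      · rw [slH_pow, ← hj]
        show (B.val * (slH (Units.mk0 (a / (1 + a)) _)).val * B.val) 1 1 ≠ 0
        intro h
        simp [B, slH, Matrix.mul_apply, Fin.sum_univ_two] at h
        field_simp at h
        have : (1 : F) = 0 := by grobner
        exact one_ne_zero this
    · refine Subtype.ext ?_
      show (B ^ 2).val = 1
      rw [pow_two]
      show B.val * B.val = 1
      ext i j
      fin_cases i <;> fin_cases j <;> simp [B, Matrix.mul_apply, Fin.sum_univ_two] <;> linear_combination (a + a ^ 2) * h20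
  · have h20 : (2 : F) ≠ 0 := by
      intro h
      have : ((2 : ℕ) : F) = 0 := by exact_mod_cast h
      rw [CharP.cast_eq_zero_iff F p] at this
      exact h2 ((Nat.prime_dvd_prime_iff_eq hp Nat.prime_two).1 this)
    let B : SpecialLinearGroup (Fin 2) F := ⟨!![0, 1; -1, 2], by rw [det_fin_two_of]; ring⟩
    refine ⟨slH ω, B, _, top_of_torus hordF hω2 (Subgroup.subset_closure (by simp)) (g := B)
      (Subgroup.subset_closure (by simp)) (by simp [B]) (by simpa [B] using h20), hcop, hA, ?_⟩
    have hB : ∀ n : ℕ, (B ^ n).val = !![1 - (n : F), (n : F); -(n : F), 1 + (n : F)] := by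
      intro n
      induction n with
      | zero => simp [Matrix.one_fin_two]
      | succ n ih =>
        rw [pow_succ]
        show (B ^ n).val * B.val = _
        rw [ih]
        ext i j
        fin_cases i <;> fin_cases j <;> simp [B, Matrix.mul_apply, Fin.sum_univ_two] <;> ring
    refine Subtype.ext ?_
    rw [hB, hp0]
    simp [Matrix.one_fin_two]

theorem slU_prime_pow (p : ℕ) [CharP F p] (t : F) : slU t ^ p = 1 := by
  rw [slU_pow, CharP.cast_eq_zero F p, zero_mul, slU_zero]

end Cfsg.Agent.Lie.Sl2Pair
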