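import Cfsg.Agent.Lib.Lie.CurtisTitsOrth
import Cfsg.Agent.Lib.Lie.CurtisTitsTypeD
import Cfsg.Agent.Lib.Lie.SL2CoprimePair
import Cfsg.Agent.S2278
import Cfsg.Agent.S2279

/-! Generators and small lemmas for the presentation of `Ω⁺₂ₙ`. -/

set_option autoImplicit false
set_option linter.unusedSectionVars false
set_option maxHeartbeats 1000000

namespace Cfsg.Agent.Lie.OmegaPlus

open Matrix Cfsg.Agent.Lie.Chev Cfsg.Agent.Lie.CurtisTitsA
open scoped MatrixGroups

variable {F : Type*} [Field F] [Fintype F]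

theorem extSL_tvN {k m : ℕ} (f : Fin k ↪ Fin m) (i j : Fin k) (h : i ≠ j) (t : F) :
    SpnPres.extSL f (tvN i j h t) = tvN (f i) (f j) (fun e => h (f.injective e)) t := by
  apply Subtype.ext
  have e : Matrix.single i j t = t • vecMulVec (Pi.single i 1) (Pi.single j 1) := by
    rw [← Matrix.single_eq_single_vecMulVec_single, Matrix.smul_single, smul_eq_mul, mul_one]
  rw [SpnPres.extSL_val, tvN_val, tvN_val, SpnPres.extM, Matrix.transvection, Matrix.transvection,
    add_sub_cancel_left, e, Matrix.mul_smul, Matrix.smul_mul, mul_vecMulVec, vecMulVec_mul, vecMul_transpose,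
    SpnPres.incM_mulVec_single, SpnPres.incM_mulVec_single, ← Matrix.single_eq_single_vecMulVec_single,
    Matrix.smul_single, smul_eq_mul, mul_one]

theorem sign_trivial_perfect {k : ℕ} (hk : 3 ≤ k) (χ : Matrix.SpecialLinearGroup (Fin k) F →* ℤˣ)
    (x : Matrix.SpecialLinearGroup (Fin k) F) : χ x = 1 := by
  have h : x ∈ commutator (Matrix.SpecialLinearGroup (Fin k) F) := by
    rw [perfect_SL hk]; exact Subgroup.mem_top x
  exact MonoidHom.mem_ker.1 (Abelianization.commutator_subset_ker χ h)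

theorem sign_trivial_odd {p : ℕ} [Fact p.Prime] [CharP F p] (hp : p ≠ 2) {k : ℕ}
    (χ : Matrix.SpecialLinearGroup (Fin k) F →* ℤˣ) (x : Matrix.SpecialLinearGroup (Fin k) F) : χ x = 1 := by
  suffices h : (⊤ : Subgroup (Matrix.SpecialLinearGroup (Fin k) F)) ≤ χ.ker from h (Subgroup.mem_top x)
  rw [← Cfsg.Agent.Classical.SL_closure_transvections, Subgroup.closure_le]
  rintro _ ⟨⟨i, j, hij, t⟩, rfl⟩
  have e : (tvN i j hij t) ^ p = (1 : Matrix.SpecialLinearGroup (Fin k) F) := by
    have : ∀ n : ℕ, (tvN i j hij t) ^ n = tvN i j hij ((n : F) * t) := by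
      intro n
      induction n with
      | zero => exact Subtype.ext (by simp [tvN_val])
      | succ n ih =>
        rw [pow_succ, ih]
        refine Subtype.ext ?_
        rw [val_mulN, tvN_val, tvN_val, tvN_val, transvection_mul_transvection_same (h := hij), Nat.cast_succ,
          add_mul, one_mul]
    rw [this, CharP.cast_eq_zero F p, zero_mul]
    exact Subtype.ext (by simp [tvN_val])
  have h2 := congrArg χ e
  rw [map_pow, map_one, Int.units_pow_eq_pow_mod_two,
    Nat.odd_iff.1 ((Fact.out : p.Prime).odd_of_ne_two hp), pow_one] at h2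
  exact h2

/-- Two generators, the first of which is killed by every sign. -/
theorem exists_sign_gens (p : ℕ) [Fact p.Prime] [CharP F p] {k : ℕ} (hk : 2 ≤ k) :
    ∃ g h : Matrix.SpecialLinearGroup (Fin k) F, Subgroup.closure {g, h} = ⊤ ∧
      ∀ χ : Matrix.SpecialLinearGroup (Fin k) F →* ℤˣ, χ g = 1 := by
  rcases (show k = 2 ∨ k = 3 ∨ 4 ≤ k by omega) with rfl | rfl | h4
  · obtain ⟨A, B, o, hgen, hco, hA, -⟩ := Sl2Pair.exists_coprime_pair (F := F) p
    refine ⟨A, B, hgen, fun χ => ?_⟩
    by_cases hp : p = 2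
    · subst hp
      have h2 := congrArg χ hA
      rwa [map_pow, map_one, Int.units_pow_eq_pow_mod_two, Nat.odd_iff.1 (Nat.coprime_two_right.1 hco),
        pow_one] at h2
    · exact sign_trivial_odd hp χ A
  · obtain ⟨u, g, -, -, h⟩ := Cfsg.Agent.S2278.result (F := F)
    exact ⟨u, g * u * g⁻¹, h, fun χ => sign_trivial_perfect le_rfl χ u⟩
  · obtain ⟨⟨u, v, -, -, h⟩, -⟩ := Cfsg.Agent.S2279.result (F := F) k h4
    exact ⟨u, v, h, fun χ => sign_trivial_perfect (by omega) χ u⟩

/-- An element inverted or fixed by two generators, the first invisible to signs, is a central involution. -/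
theorem involution_of_sign {K G : Type*} [Group K] [Group G] (φ : K →* G) {g h : K}
    (hgen : Subgroup.closure {g, h} = ⊤) (hχ : ∀ χ : K →* ℤˣ, χ g = 1) {s : G}
    (hg : φ g * s * (φ g)⁻¹ = s⁻¹) (hh : φ h * s * (φ h)⁻¹ = s) :
    s * s = 1 ∧ ∀ x, Commute (φ x) s := by
  classical
  have hinv : ∀ {x : K} {ε : ℤ}, φ x * s * (φ x)⁻¹ = s ^ ε → φ x * s⁻¹ * (φ x)⁻¹ = (s ^ ε)⁻¹ := fun e => by
    rw [← e]; group
  have hall : ∀ x : K, φ x * s * (φ x)⁻¹ = s ∨ φ x * s * (φ x)⁻¹ = s⁻¹ := by
    intro x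
    have hx : x ∈ Subgroup.closure {g, h} := hgen ▸ Subgroup.mem_top x
    induction hx using Subgroup.closure_induction with
    | mem x hx => rcases hx with rfl | hx
                  · exact Or.inr hg
                  · rw [Set.mem_singleton_iff] at hx; subst hx; exact Or.inl hh
    | one => left; simp
    | mul x y _ _ hx hy =>
      rw [map_mul, show φ x * φ y * s * (φ x * φ y)⁻¹ = φ x * (φ y * s * (φ y)⁻¹) * (φ x)⁻¹ by group]
      rcases hy with e | e <;> rw [e]
      · exact hx
      · rcases hx with e' | e' <;> rw [show φ x * s⁻¹ * (φ x)⁻¹ = (φ x * s * (φ x)⁻¹)⁻¹ by group, e']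
        · exact Or.inr rfl
        · exact Or.inl (inv_inv s)
    | inv x _ hx =>
      rw [map_inv, inv_inv]
      rcases hx with e | e
      · left
        nth_rewrite 1 [← e]
        group
      · right
        calc (φ x)⁻¹ * s * φ x = (φ x)⁻¹ * (φ x * s * (φ x)⁻¹)⁻¹ * φ x := by rw [e, inv_inv]
          _ = _ := by group
  have hs : s * s = 1 := by
    by_contra hne
    have hne' : s ≠ s⁻¹ := fun e => hne (by nth_rewrite 2 [e]; exact mul_inv_cancel s)
    let χ : K →* ℤˣ :=
      { toFun := fun x => if φ x * s * (φ x)⁻¹ = s then 1 else -1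
        map_one' := by simp
        map_mul' := fun x y => by
          have e : φ (x * y) * s * (φ (x * y))⁻¹ = φ x * (φ y * s * (φ y)⁻¹) * (φ x)⁻¹ := by
            rw [map_mul]; group
          rw [e]
          rcases hall y with ey | ey <;> rcases hall x with ex | ex <;>
            simp [ey, ex, hne', Ne.symm hne', show φ x * s⁻¹ * (φ x)⁻¹ = (φ x * s * (φ x)⁻¹)⁻¹ by group] }
    have := hχ χ
    simp [χ, hg, Ne.symm hne'] at this
  refine ⟨hs, fun x => ?_⟩
  have : φ x * s * (φ x)⁻¹ = s := by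
    rcases hall x with e | e
    · exact e
    · rw [e]; exact inv_eq_of_mul_eq_one_right hs
  exact mul_inv_eq_iff_eq_mul.1 this

/-- A product of commuting elements of coprime orders knows its factors. -/
theorem commute_of_coprime {G : Type*} [Group G] {x y z : G} {o P : ℕ} (hco : Nat.Coprime o P)
    (hx : x ^ o = 1) (hy : y ^ P = 1) (hxy : Commute x y) (hz : Commute (x * y) z) :
    Commute x z ∧ Commute y z := by
  have key : ∀ {x y : G} {o P : ℕ}, Nat.Coprime o P → x ^ o = 1 → y ^ P = 1 → Commute x y →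
      Commute (x * y) z → Commute x z := by
    intro x y o P hco hx hy hxy hz
    have h1 : Commute (x ^ P) z := by
      have := hz.pow_left P
      rwa [hxy.mul_pow, hy, mul_one] at this
    have e : (x ^ P) ^ Nat.gcdB o P = x := by
      have hg := Nat.gcd_eq_gcd_ab o P
      rw [hco.gcd_eq_one, Nat.cast_one] at hg
      calc (x ^ P) ^ Nat.gcdB o P = (x ^ o) ^ Nat.gcdA o P * (x ^ P) ^ Nat.gcdB o P := by
            rw [hx, _root_.one_zpow, one_mul]
        _ = x := by rw [← zpow_natCast, ← zpow_natCast, ← _root_.zpow_mul, ← _root_.zpow_mul, ← _root_.zpow_add, ← hg, zpow_one]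
    rw [← e]
    exact h1.zpow_left _
  exact ⟨key hco hx hy hxy hz, key hco.symm hy hx hxy.symm (by rwa [← hxy.eq])⟩

/-- The unipotent element mixing a new coordinate in. -/
def mixW {m : ℕ} (d e f : Fin m) (hde : d ≠ e) (hfd : f ≠ d) : Matrix.SpecialLinearGroup (Fin m) F :=
  tvN d e hde 1 * tvN f d hfd 1

theorem mixW_pow (p : ℕ) [Fact p.Prime] [CharP F p] {m : ℕ} {d e f : Fin m} (hde : d ≠ e) (hfd : f ≠ d)
    (hef : e ≠ f) : (mixW d e f hde hfd : Matrix.SpecialLinearGroup (Fin m) F) ^ (p * p) = 1 := by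
  have hp : p.Prime := Fact.out
  set w : SL(3, F) := tvN 0 1 (by decide) 1 * tvN 2 0 (by decide) 1 with hw
  have hn : ∀ n : ℕ, (w ^ n).1 = !![1, (n : F), 0; 0, 1, 0; (n : F), ((n * (n - 1) / 2 : ℕ) : F), 1] := by
    intro n
    induction n with
    | zero => simp [Matrix.one_fin_three]
    | succ n ih =>
      have h2 : (n + 1) * (n + 1 - 1) / 2 = n * (n - 1) / 2 + n := by
        rw [Nat.add_sub_cancel]
        rcases Nat.eq_zero_or_pos n with rfl | hpos
        · rfl
        · rw [show (n + 1) * n = n * (n - 1) + n * 2 by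
            obtain ⟨j, rfl⟩ := Nat.exists_eq_add_of_le hpos
            simp; ring, Nat.add_mul_div_right _ _ two_pos]
      rw [pow_succ, val_mulN, ih, h2, hw, val_mulN, tvN_val, tvN_val]
      ext i j
      fin_cases i <;> fin_cases j <;>
        simp [transvection, Matrix.mul_apply, Fin.sum_univ_three, Matrix.one_apply] <;> ring
  have h1 : w ^ (p * p) = 1 := by
    refine Subtype.ext ?_
    rw [hn]
    have hdvd : p ∣ p * p * (p * p - 1) / 2 := by
      rcases hp.eq_two_or_odd' with rfl | hodd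
      · norm_num
      · have h2 : 2 ∣ p * p - 1 := by
          obtain ⟨j, rfl⟩ := hodd
          exact ⟨2 * j * j + 2 * j, by rw [Nat.sub_eq_iff_eq_add (by nlinarith)]; ring⟩
        rw [Nat.mul_div_assoc _ h2]
        exact Dvd.dvd.mul_right (dvd_mul_right p p) _
    rw [(CharP.cast_eq_zero_iff F p _).2 hdvd, Nat.cast_mul, CharP.cast_eq_zero F p, mul_zero, val_oneN]
    exact Matrix.one_fin_three.symm
  have hm : mixW d e f hde hfd = ext3 d e f hde (Ne.symm hfd) hef w := by
    rw [hw, map_mul, ext3_tv, ext3_tv]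
    rfl
  rw [hm, ← map_pow, h1, map_one]

/-- A subgroup containing the transvections off `d` and the mixing element contains those at `d`. -/
theorem tv_mem_of_mix {m : ℕ} (S : Fin m → Prop) {d e f : Fin m} (hd : ¬ S d) (he : S e) (hf : S f)
    (hde : d ≠ e) (hfd : f ≠ d) (hef : e ≠ f) (H : Subgroup (Matrix.SpecialLinearGroup (Fin m) F))
    (hS : ∀ (i j : Fin m) (h : i ≠ j), S i → S j → ∀ t, tvN i j h t ∈ H) (hw : mixW d e f hde hfd ∈ H) :
    ∀ (i j : Fin m) (h : i ≠ j), (S i ∨ i = d) → (S j ∨ j = d) → ∀ t, tvN i j h t ∈ H := by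
  have hef' := hS e f hef he hf
  have r0 : ∀ t, tvN d f hfd.symm t ∈ H := by
    intro t
    have e3 : ∀ x : SL(3, F), x = tvN 0 1 (by decide) 1 * tvN 2 0 (by decide) 1 * tvN 1 2 (by decide) t *
        (tvN 0 1 (by decide) 1 * tvN 2 0 (by decide) 1)⁻¹ →
        x * tvN 1 2 (by decide) 1 * x⁻¹ * (tvN 1 2 (by decide) 1)⁻¹ =
          tvN 0 2 (by decide) t * tvN 1 2 (by decide) t := by
      intro x hx
      rw [mul_inv_eq_iff_eq_mul, mul_inv_eq_iff_eq_mul, hx]
      generalize hw : (tvN 0 1 (by decide) 1 * tvN 2 0 (by decide) 1 : SL(3, F)) = w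
      have hwi : w⁻¹ = tvN 2 0 (by decide) (-1) * tvN 0 1 (by decide) (-1) := by
        rw [← hw, _root_.mul_inv_rev, ← tv_inv, ← tv_inv]
      rw [hwi, ← hw]
      refine Subtype.ext ?_
      simp only [val_mulN, tvN_val]
      ext i j
      fin_cases i <;> fin_cases j <;>
        simp [transvection, Matrix.mul_apply, Fin.sum_univ_three, Matrix.one_apply] <;> ring
    have h1 := congrArg (ext3 (F := F) d e f hde (Ne.symm hfd) hef) (e3 _ rfl)
    simp only [map_mul, map_inv, ext3_tv] at h1
    have hu : mixW d e f hde hfd * tvN e f hef t * (mixW d e f hde hfd)⁻¹ ∈ H :=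
      mul_mem (mul_mem hw (hef' t)) (inv_mem hw)
    have h2 : tvN d f hfd.symm t * tvN e f hef t ∈ H := by
      rw [show (tvN d f hfd.symm t * tvN e f hef t) = _ from h1.symm]
      exact mul_mem (mul_mem (mul_mem hu (hef' 1)) (inv_mem hu)) (inv_mem (hef' 1))
    simpa using mul_mem h2 (inv_mem (hef' t))
  have row : ∀ (j : Fin m) (h : d ≠ j), S j → ∀ t, tvN d j h t ∈ H := by
    intro j h hj t
    by_cases hjf : j = f
    · subst hjf; exact r0 t
    · rw [tv_eq_commutator hfd.symm (Ne.symm hjf) h t]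
      exact mul_mem (mul_mem (mul_mem (r0 _) (hS _ _ _ hf hj _)) (r0 _)) (hS _ _ _ hf hj _)
  have c0 : tvN f d hfd (1 : F) ∈ H := by
    have : tvN f d hfd (1 : F) = (tvN d e hde (1 : F))⁻¹ * mixW d e f hde hfd := by rw [mixW, inv_mul_cancel_left]
    rw [this]
    exact mul_mem (inv_mem (row e hde he 1)) hw
  have c0' : tvN f d hfd (-1 : F) ∈ H := by rw [← tv_inv]; exact inv_mem c0
  have col1 : ∀ (i : Fin m) (h : i ≠ d), S i → i ≠ f → ∀ t, tvN i d h t ∈ H := by
    intro i h hi hif t
    rw [tv_eq_commutator hif hfd h t]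
    exact mul_mem (mul_mem (mul_mem (hS _ _ _ hi hf _) c0) (hS _ _ _ hi hf _)) c0'
  have col : ∀ (i : Fin m) (h : i ≠ d), S i → ∀ t, tvN i d h t ∈ H := by
    intro i h hi t
    by_cases hif : i = f
    · subst hif
      rw [tv_eq_commutator (Ne.symm hef) (Ne.symm hde) h t]
      exact mul_mem (mul_mem (mul_mem (hS _ _ _ hi he _) (col1 e _ he hef _)) (hS _ _ _ hi he _))
        (col1 e _ he hef _)
    · exact col1 i h hi hif t
  intro i j h hi hj t
  rcases hi with hi | rfl <;> rcases hj with hj | rfl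
  · exact hS i j h hi hj t
  · exact col i h hi t
  · exact row j h hj t
  · exact absurd rfl h

end Cfsg.Agent.Lie.OmegaPlus
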