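import Cfsg.Agent.Lib.Lie.OmegaPlusSwap
import Cfsg.Agent.Lib.Lie.OmegaPlusGens

/-! From the relations to an edge of type `D`, and the triviality of the kernel. -/

set_option autoImplicit false
set_option linter.unusedSectionVars false
set_option maxHeartbeats 1000000

namespace Cfsg.Agent.Lie.OmegaPlus

open Matrix Cfsg.Agent.Lie.Chev Cfsg.Agent.Lie.CurtisTitsA
open scoped MatrixGroups

variable {F : Type*} [Field F] [Fintype F] {m : ℕ}

/-- Four distinct coordinates. -/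
structure Frame (m : ℕ) where
  a : Fin m
  b : Fin m
  cc : Fin m
  d : Fin m
  hab : a ≠ b
  hca : cc ≠ a
  hcb : cc ≠ b
  hda : d ≠ a
  hdb : d ≠ b
  hdc : d ≠ cc
  hm : 4 ≤ m

theorem tv_commute_ext2 {a b i j : Fin m} (hab : a ≠ b) (hij : i ≠ j) (hia : i ≠ a) (hib : i ≠ b) (hja : j ≠ a)
    (hjb : j ≠ b) (t : F) (x : SL(2, F)) : Commute (tvN i j hij t) (ext2 a b hab x) := by
  refine (Subgroup.mem_centralizer_singleton_iff.1 (range_le_two (φ := ext2 a b hab)
    (Subgroup.centralizer {tvN i j hij t}) (fun u => ?_) (fun u => ?_) ⟨x, rfl⟩)).symm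
  · rw [ext2_up]
    exact Subgroup.mem_centralizer_singleton_iff.2 (tv_comm₀ hab hij hib.symm hja.symm u t)
  · rw [ext2_lo]
    exact Subgroup.mem_centralizer_singleton_iff.2 (tv_comm₀ hab.symm hij hia.symm hjb.symm u t)

theorem val_ext2_diag {a b : Fin m} (hab : a ≠ b) (α : Fˣ) :
    (ext2 a b hab (diag2 α)).1 =
      Matrix.diagonal fun k => if k = a then (α : F) else if k = b then (↑α⁻¹ : F) else 1 := by
  ext i j
  have e : (ext2 a b hab (diag2 α)).1 i j = ((ext2 a b hab (diag2 α)).1 *ᵥ Pi.single j 1) i := by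
    simp [Matrix.mulVec_single]
  rw [e]
  by_cases hja : j = a
  · subst hja
    rw [ext2_fst]
    by_cases hi : i = j
    · subst hi; simp [diag2_val, hab]
    · simp [diag2_val, hi, Matrix.diagonal]
  · by_cases hjb : j = b
    · subst hjb
      rw [ext2_snd]
      by_cases hi : i = j
      · subst hi; simp [diag2_val, hja]
      · simp [diag2_val, hi, Matrix.diagonal]
    · rw [ext2_out hab hja hjb]
      by_cases hi : i = j
      · subst hi; simp [hja, hjb]
      · simp [hi, Matrix.diagonal]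

theorem oVal_sw_diag {a b : Fin m} (hab : a ≠ b) (α : Fˣ) :
    oVal (swO b (levO (ext2 a b hab (diag2 α)))) = fromBlocks
      (Matrix.diagonal fun k => if k = a ∨ k = b then (α : F) else 1) 0 0
      (Matrix.diagonal fun k => if k = a ∨ k = b then (↑α⁻¹ : F) else 1) := by
  have ht : tauN (diag2 α : SL(2, F)) = diag2 α⁻¹ := by
    refine ext_two ?_ ?_ ?_ ?_ <;> rw [tauN_val, diag2_inv] <;> simp [diag2_val]
  rw [oVal_swO, oVal_levO, tau_ext2, ht, val_ext2_diag, val_ext2_diag, inv_inv]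
  ext (i | i) (j | j)
  all_goals
    by_cases hia : i = a <;> by_cases hib : i = b <;> by_cases hja : j = a <;> by_cases hjb : j = b <;>
      simp_all [swE, Equiv.swap_apply_def, Matrix.diagonal] <;> grind

namespace Frame

variable (X : Frame m)

/-- The edge in the orthogonal group. -/
def trueData : SkewData F m (OGp m F) where
  a := X.a
  b := X.b
  cc := X.cc
  hab := X.hab
  hca := X.hca
  hcb := X.hcb
  hm := X.hm
  Φ := levO
  ψ := (swO X.b).comp (levO.comp (ext3 X.cc X.a X.b X.hca X.hcb X.hab))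
  hu t := by
    rw [up3_up]
    show swO X.b (levO (ext3 _ _ _ _ _ _ (tvN 0 1 _ t))) = _
    rw [ext3_tv]
    exact sw_fix_tv X.hca X.hcb X.hab t
  hl t := by
    rw [up3_lo]
    show swO X.b (levO (ext3 _ _ _ _ _ _ (tvN 1 0 _ t))) = _
    rw [ext3_tv]
    exact sw_fix_tv X.hca.symm X.hab X.hcb t
  hcomm i j h hij t u := by
    have hl := levO_commute X.hab (g := tvN i j h t) (tv_cg X.hab h hij t)
      (by rw [tauN_tv]; exact tv_cg X.hab h.symm (by tauto) (-t)) u
    constructor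
    · show Commute _ (swO X.b (levO (ext3 _ _ _ _ _ _ (tvN 1 2 _ u))))
      rw [ext3_tv]; exact hl.1
    · show Commute _ (swO X.b (levO (ext3 _ _ _ _ _ _ (tvN 2 1 _ u))))
      rw [ext3_tv]; exact hl.2

theorem trueData_x (t : F) : oVal ((X.trueData (F := F)).x t) = fromBlocks 1 (t • wB X.a X.b) 0 1 := by
  show oVal (swO X.b (levO (ext3 _ _ _ _ _ _ (tvN 1 2 _ t)))) = _
  rw [ext3_tv]
  exact oVal_sw_up X.hab t

theorem trueData_x' (t : F) :
    oVal ((X.trueData (F := F)).dual.x t) = fromBlocks 1 0 (t • wB X.a X.b) 1 := by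
  show oVal (swO X.b (levO (ext3 _ _ _ _ _ _ (tauN (tvN 1 2 _ t))))) = _
  rw [tauN_tv, ext3_tv]
  exact oVal_sw_lo X.hab t

theorem omega_eq : Cfsg.Omega F (Cfsg.quadFormPlus m F) =
    (levO (F := F) (m := m)).range ⊔ (X.trueData (F := F)).nd.range := by
  have := (X.trueData (F := F)).omega_eq_map (MonoidHom.id _) (fun g => oVal_levO g)
    (fun t => by rw [SkewData.S0]; exact X.trueData_x t) (fun t => by rw [SkewData.S0]; exact X.trueData_x' t)
  rwa [Subgroup.map_id] at this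

theorem trueData_nd (h : SL(2, F)) :
    (X.trueData (F := F)).nd h = swO X.b (levO (ext2 X.a X.b X.hab h)) := by
  show swO X.b (levO (((ext3 X.cc X.a X.b X.hca X.hcb X.hab).comp dn3) h)) = _
  rw [ext3_dn3]

/-- A monomial element moving `a` to `b` and `b` to `d`. -/
theorem exists_g0 : ∃ g : Matrix.SpecialLinearGroup (Fin m) F, tauN g = g ∧
    g.1 *ᵥ Pi.single X.a 1 = Pi.single X.b 1 ∧ g.1 *ᵥ Pi.single X.b 1 = Pi.single X.d 1 := by
  obtain ⟨g, hg, h⟩ := exists_mono (F := F) ![X.a, X.b] ![X.b, X.d]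
    (fun x y e => by fin_cases x <;> fin_cases y <;> simp_all [X.hab, Ne.symm X.hab])
    (fun x y e => by fin_cases x <;> fin_cases y <;> simp_all [X.hdb, Ne.symm X.hdb])
    (by have := X.hm; omega)
  exact ⟨g, hg, h 0, h 1⟩

/-- The moving element. -/
noncomputable def g0 : Matrix.SpecialLinearGroup (Fin m) F := (X.exists_g0 (F := F)).choose

/-- The exchange of the pairs at `b` and `d`. -/
noncomputable def sO : OGp m F := swapAt X.a X.b X.hab X.g0

theorem oVal_sO : oVal (X.sO (F := F)) = fromBlocks (1 - (Matrix.single X.b X.b 1 + Matrix.single X.d X.d 1))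
      (Matrix.single X.b X.b 1 + Matrix.single X.d X.d 1) (Matrix.single X.b X.b 1 + Matrix.single X.d X.d 1)
      (1 - (Matrix.single X.b X.b 1 + Matrix.single X.d X.d 1)) := by
  obtain ⟨h1, h2, h3⟩ := (X.exists_g0 (F := F)).choose_spec
  exact oVal_swapAt X.hab X.hdb.symm h1 h2 h3

theorem sO_conj (x : SL(3, F)) :
    X.sO * levO (ext3 X.cc X.a X.b X.hca X.hcb X.hab x) * X.sO⁻¹ =
      swO X.b (levO (ext3 X.cc X.a X.b X.hca X.hcb X.hab x)) :=
  swap_conj_ext3 X.hdb.symm X.oVal_sO X.hca X.hcb X.hab X.hda.symm X.hdc.symm x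

theorem sO_conj2 (x : SL(2, F)) :
    X.sO * levO (ext2 X.a X.b X.hab x) * X.sO⁻¹ = swO X.b (levO (ext2 X.a X.b X.hab x)) :=
  swap_conj_ext2 X.hdb.symm X.oVal_sO X.hab X.hda.symm x

/-- The coordinates outside `b` and `d`. -/
def offBD : Fin (m - 2) ↪ Fin m :=
  (((Finset.univ : Finset (Fin m)) \ {X.b, X.d}).orderEmbOfFin (by
    rw [Finset.card_sdiff, Finset.inter_univ, Finset.card_univ, Fintype.card_fin,
      Finset.card_pair X.hdb.symm])).toEmbedding

theorem mem_range_offBD {i : Fin m} : i ∈ Set.range X.offBD ↔ i ≠ X.b ∧ i ≠ X.d := by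
  show i ∈ Set.range (Finset.orderEmbOfFin _ _) ↔ _
  rw [Finset.range_orderEmbOfFin]
  simp

variable {G : Type*} [Group G] (Φ : Matrix.SpecialLinearGroup (Fin m) F →* G) (s : G)

/-- The conjugate copy of `SL₂`. -/
def cD : SL(2, F) →* G := (MulAut.conj s).toMonoidHom.comp (Φ.comp (ext2 X.a X.b X.hab))

theorem cD_apply (x : SL(2, F)) : X.cD Φ s x = s * Φ (ext2 X.a X.b X.hab x) * s⁻¹ := rfl

/-- What the relations give. -/
structure Derived : Prop where
  sq : s * s = 1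
  cent : ∀ (i j : Fin m) (h : i ≠ j), i ≠ X.b → i ≠ X.d → j ≠ X.b → j ≠ X.d → ∀ t, Commute (Φ (tvN i j h t)) s
  word : s = Φ X.g0 * Φ (ext2 X.a X.b X.hab wSL) * X.cD Φ s wSL⁻¹ * (Φ X.g0)⁻¹
  out : ∀ (i j : Fin m) (h : i ≠ j), i ≠ X.a → i ≠ X.b → j ≠ X.a → j ≠ X.b → ∀ t x,
    Commute (Φ (tvN i j h t)) (X.cD Φ s x)
  inn : ∀ x y, Commute (Φ (ext2 X.a X.b X.hab x)) (X.cD Φ s y)

variable {X Φ s}

/-- The edge in an abstract group. -/
def skew (D : X.Derived Φ s) : SkewData F m G where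
  a := X.a
  b := X.b
  cc := X.cc
  hab := X.hab
  hca := X.hca
  hcb := X.hcb
  hm := X.hm
  Φ := Φ
  ψ := (MulAut.conj s).toMonoidHom.comp (Φ.comp (ext3 X.cc X.a X.b X.hca X.hcb X.hab))
  hu t := by
    rw [up3_up]
    show s * Φ (ext3 _ _ _ _ _ _ (tvN 0 1 _ t)) * s⁻¹ = _
    rw [ext3_tv]
    exact mul_inv_eq_iff_eq_mul.2 (D.cent X.cc X.a X.hca X.hcb X.hdc.symm X.hab X.hda.symm t).symm
  hl t := by
    rw [up3_lo]
    show s * Φ (ext3 _ _ _ _ _ _ (tvN 1 0 _ t)) * s⁻¹ = _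
    rw [ext3_tv]
    exact mul_inv_eq_iff_eq_mul.2 (D.cent X.a X.cc X.hca.symm X.hab X.hda.symm X.hcb X.hdc.symm t).symm
  hcomm i j h hij t u := by
    have e1 : X.cD Φ s (upSL u) = s * Φ (tvN X.a X.b X.hab u) * s⁻¹ := by rw [cD_apply, ext2_up]
    have e2 : X.cD Φ s (loSL u) = s * Φ (tvN X.b X.a X.hab.symm u) * s⁻¹ := by rw [cD_apply, ext2_lo]
    have key : ∀ y, Commute (Φ (tvN i j h t)) (X.cD Φ s y) := by
      rcases hij with ⟨h1, h2, h3, h4⟩ | ⟨rfl, rfl⟩ | ⟨rfl, rfl⟩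
      · exact D.out i j h h1 h2 h3 h4 t
      · intro y
        rw [← ext2_up h t]
        exact D.inn _ y
      · intro y
        rw [← ext2_lo X.hab t]
        exact D.inn _ y
    constructor
    · show Commute _ (s * Φ (ext3 _ _ _ _ _ _ (tvN 1 2 _ u)) * s⁻¹)
      rw [ext3_tv]; exact e1 ▸ key _
    · show Commute _ (s * Φ (ext3 _ _ _ _ _ _ (tvN 2 1 _ u)) * s⁻¹)
      rw [ext3_tv]; exact e2 ▸ key _

theorem skew_nd (D : X.Derived Φ s) (h : SL(2, F)) : (skew D).nd h = X.cD Φ s h := by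
  show s * Φ (((ext3 X.cc X.a X.b X.hca X.hcb X.hab).comp dn3) h) * s⁻¹ = _
  rw [ext3_dn3]
  rfl

/-- The map to the orthogonal group is injective. -/
theorem injective_of_derived (D : X.Derived Φ s) (π : G →* OGp m F) (hπΦ : ∀ g, π (Φ g) = levO g)
    (hπs : π s = X.sO) (hgen : Φ.range ⊔ Subgroup.zpowers s = ⊤) : Function.Injective π := by
  have hψ : ∀ x, π ((skew D).ψ x) = swO X.b (levO (ext3 X.cc X.a X.b X.hca X.hcb X.hab x)) := fun x => by
    show π (s * Φ _ * s⁻¹) = _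
    rw [map_mul, map_mul, map_inv, hπs, hπΦ, X.sO_conj]
  let θ : G →* Matrix (Fin m ⊕ Fin m) (Fin m ⊕ Fin m) F := oVal.comp π
  have hθΦ : ∀ g, θ ((skew D).Φ g) = fromBlocks g.1 0 0 (tauN g).1 := fun g => by
    show oVal (π (Φ g)) = _; rw [hπΦ, oVal_levO]
  have hθx : ∀ t, θ ((skew D).x t) = fromBlocks 1 (t • (skew D).S0) 0 1 := fun t => by
    show oVal (π ((skew D).ψ _)) = _
    rw [hψ]; exact X.trueData_x t
  have hθx' : ∀ t, θ ((skew D).dual.x t) = fromBlocks 1 0 (t • (skew D).S0) 1 := fun t => by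
    show oVal (π ((skew D).ψ (tauN _))) = _
    rw [hψ]; exact X.trueData_x' t
  have hgen' : (skew D).Φ.range ⊔ (skew D).nd.range = ⊤ := by
    rw [eq_top_iff, ← hgen, sup_le_iff]
    refine ⟨le_sup_left, ?_⟩
    rw [Subgroup.zpowers_le]
    have hm : Φ X.g0 * Φ (ext2 X.a X.b X.hab wSL) * X.cD Φ s wSL⁻¹ * (Φ X.g0)⁻¹ ∈
        (skew D).Φ.range ⊔ (skew D).nd.range := by
      refine mul_mem (mul_mem (mul_mem ?_ ?_) (Subgroup.mem_sup_right ⟨wSL⁻¹, skew_nd D _⟩)) (inv_mem ?_) <;>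
        exact Subgroup.mem_sup_left ⟨_, rfl⟩
    rwa [← D.word] at hm
  rw [injective_iff_map_eq_one]
  intro z hz
  obtain ⟨-, g, α, rfl⟩ := (skew D).ker_levi θ hθΦ hθx hθx' hgen' (show oVal (π z) = 1 by rw [hz, map_one])
  set e2 := ext2 (F := F) X.a X.b X.hab
  have hnd : oVal (π ((skew D).nd (diag2 α))) = oVal (swO X.b (levO (e2 (diag2 α)))) := by
    refine congrArg oVal ?_
    rw [skew_nd, cD_apply, map_mul, map_mul, map_inv, hπs, hπΦ, X.sO_conj2]
  have hz' := congrArg oVal hz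
  rw [map_mul, map_mul, map_one, hnd, show (skew D).Φ g = Φ g from rfl, hπΦ, oVal_levO, oVal_sw_diag,
    fromBlocks_multiply, ← fromBlocks_one, fromBlocks_inj] at hz'
  simp only [zero_mul, add_zero] at hz'
  have hg1 := hz'.1
  have hα : α = 1 ∨ α = -1 := by
    have hdet := congrArg Matrix.det hg1
    rw [Matrix.det_mul, g.2, one_mul, Matrix.det_diagonal, Matrix.det_one,
      Finset.prod_eq_mul X.a X.b X.hab (fun c _ hc => by simp [hc.1, hc.2]) (by simp) (by simp)] at hdet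
    simp only [true_or, or_true, if_true] at hdet
    rcases mul_self_eq_one_iff.1 hdet with h | h
    · exact Or.inl (Units.ext h)
    · exact Or.inr (Units.ext (by rw [h, Units.val_neg, Units.val_one]))
  rcases hα with rfl | rfl
  · have : g = 1 := Subtype.ext (by simpa using hg1)
    subst this
    rw [show (diag2 1 : SL(2, F)) = 1 from ext_two (by simp [diag2_val]) (by simp [diag2_val])
      (by simp [diag2_val]) (by simp [diag2_val]), map_one, map_one, mul_one]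
  · have hg : g * e2 (diag2 (-1)) = 1 := by
      refine Subtype.ext ?_
      rw [val_mulN, val_oneN, val_ext2_diag]
      refine Eq.trans ?_ hg1
      congr 2
      funext k
      by_cases hka : k = X.a <;> by_cases hkb : k = X.b <;> simp [hka, hkb, X.hab, X.hab.symm]
    have hr : Commute (Φ (e2 wSL)) (X.cD Φ s wSL⁻¹) := D.inn _ _
    have hs2 := D.sq
    rw [D.word] at hs2
    have h1 : Φ (e2 wSL) * X.cD Φ s wSL⁻¹ * (Φ (e2 wSL) * X.cD Φ s wSL⁻¹) = 1 := by
      calc _ = (Φ X.g0)⁻¹ * ((Φ X.g0 * Φ (e2 wSL) * X.cD Φ s wSL⁻¹ * (Φ X.g0)⁻¹) *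
          (Φ X.g0 * Φ (e2 wSL) * X.cD Φ s wSL⁻¹ * (Φ X.g0)⁻¹)) * Φ X.g0 := by group
        _ = _ := by rw [hs2]; group
    have h2 : Φ (e2 (diag2 (-1))) * (X.cD Φ s (diag2 (-1)))⁻¹ = 1 := by
      rw [← wSL_sq, map_mul, map_mul, ← map_inv, _root_.mul_inv_rev, map_mul]
      rw [hr.mul_mul_mul_comm]
      exact h1
    show Φ g * (skew D).nd (diag2 (-1)) = 1
    rw [skew_nd, ← mul_inv_eq_one.1 h2, eq_inv_of_mul_eq_one_left hg, map_inv, inv_mul_cancel]

end Frame

end Cfsg.Agent.Lie.OmegaPlus
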