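import Cfsg.Agent.Lib.Lie.CurtisTitsTypeD

/-! The image of a copy of `SL_m` and an edge of type `D` in the orthogonal group. -/

set_option autoImplicit false
set_option linter.unusedSectionVars false
set_option maxHeartbeats 1000000

namespace Cfsg.Agent.Lie.CurtisTitsA

open Matrix Cfsg.Agent.Lie.Chev
open scoped MatrixGroups

variable {F : Type*} [Field F] {m : ℕ} {G : Type*} [Group G]

namespace SkewData

variable (A : SkewData F m G)

theorem d_mem_sup (S : Matrix (Fin m) (Fin m) F) : A.d S ∈ A.Φ.range ⊔ A.nd.range := by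
  classical
  unfold d
  split_ifs with h
  · refine mul_mem (mul_mem (Subgroup.mem_sup_left ⟨_, rfl⟩) (Subgroup.mem_sup_right ⟨upSL 1, A.nd_up 1⟩))
      (inv_mem (Subgroup.mem_sup_left ⟨_, rfl⟩))
  · exact one_mem _

theorem X_mem_sup (i j : Fin m) (t : F) : A.X i j t ∈ A.Φ.range ⊔ A.nd.range := A.d_mem_sup _

theorem dual_X_mem_sup (i j : Fin m) (t : F) : A.dual.X i j t ∈ A.Φ.range ⊔ A.nd.range := by
  have e : A.dual.nd.range ≤ A.nd.range := by
    rintro _ ⟨h, rfl⟩
    exact ⟨tauN h, (A.dual_nd h).symm⟩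
  exact sup_le_sup A.dual_range.le e (A.dual.X_mem_sup i j t)

variable [Fintype F]

/-- The image is `Ω`. -/
theorem omega_eq_map (ρ : G →* OGp m F)
    (hΦ : ∀ g, oVal (ρ (A.Φ g)) = fromBlocks g.1 0 0 (tauN g).1)
    (hx : ∀ t, oVal (ρ (A.x t)) = fromBlocks 1 (t • A.S0) 0 1)
    (hx' : ∀ t, oVal (ρ (A.dual.x t)) = fromBlocks 1 0 (t • A.S0) 1) :
    Cfsg.Omega F (Cfsg.quadFormPlus m F) = (A.Φ.range ⊔ A.nd.range).map ρ := by
  let θ : G →* Matrix (Fin m ⊕ Fin m) (Fin m ⊕ Fin m) F := oVal.comp ρ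
  have hθΦ : ∀ g, θ (A.Φ g) = fromBlocks g.1 0 0 (tauN g).1 := hΦ
  have hθx : ∀ t, θ (A.x t) = fromBlocks 1 (t • A.S0) 0 1 := hx
  have hθx' : ∀ t, θ (A.dual.x t) = fromBlocks 1 0 (t • A.S0) 1 := hx'
  have hperf : (A.Φ.range ⊔ A.nd.range).map ρ ≤ commutator (OGp m F) := by
    rw [Subgroup.map_sup, MonoidHom.map_range, MonoidHom.map_range, sup_le_iff]
    refine ⟨range_le_commutator (perfect_SL (by have := A.hm; omega)) _,
      le_trans ?_ (range_le_commutator (perfect_SL le_rfl) (ρ.comp A.ψ))⟩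
    rintro _ ⟨h, rfl⟩
    exact ⟨dn3 h, rfl⟩
  obtain ⟨K, hK⟩ : ∃ K : Subgroup (OGp m F), K = (A.Φ.range ⊔ A.nd.range).map ρ := ⟨_, rfl⟩
  rw [← hK]
  refine le_antisymm ?_ (hK ▸ hperf)
  obtain ⟨c, cadd, cX, -⟩ := A.exists_radical
  obtain ⟨c', cadd', cX', -⟩ := A.dual.exists_radical
  have hinv : ∀ g : Matrix.SpecialLinearGroup (Fin m) F, (tauN g⁻¹).1 = g.1ᵀ := fun g => by
    rw [tauN_val, inv_inv]
  have hup : ∀ (i j : Fin m) (s : F), i ≠ j →
      θ (A.X i j s) = fromBlocks 1 (s • wB i j) 0 1 := fun i j s hij => by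
    rw [← cX i j s hij]
    exact A.image_c cadd cX θ (fun S => fromBlocks 1 S 0 1) fromBlocks_one
      (fun S T => by simp [fromBlocks_multiply, add_comm])
      (fun g S => by
        rw [hθΦ, hθΦ, fromBlocks_multiply, fromBlocks_multiply, hinv]
        have h2 : (tauN g).1 * g.1ᵀ = 1 := by
          rw [← hinv g, ← val_mulN, ← map_mul, mul_inv_cancel, map_one, val_oneN]
        simp only [one_mul, mul_one, zero_mul, mul_zero, add_zero, zero_add, cg,
          SpnPres.sval_mul_inv g, h2]) hθx (skew_smul _ (skew_wedge _ _))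
  have hlo : ∀ (i j : Fin m) (s : F), i ≠ j →
      θ (A.dual.X i j s) = fromBlocks 1 0 (s • wB i j) 1 := fun i j s hij => by
    rw [← cX' i j s hij]
    exact A.dual.image_c cadd' cX' θ (fun S => fromBlocks 1 0 S 1) fromBlocks_one
      (fun S T => by simp [fromBlocks_multiply])
      (fun g S => by
        show θ (A.Φ (tauN g)) * _ * θ (A.Φ (tauN g⁻¹)) = _
        rw [hθΦ, hθΦ, fromBlocks_multiply, fromBlocks_multiply, tauN_tauN, tauN_tauN, hinv]
        have h2 : (tauN g).1 * g.1ᵀ = 1 := by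
          rw [← hinv g, ← val_mulN, ← map_mul, mul_inv_cancel, map_one, val_oneN]
        simp only [one_mul, mul_one, zero_mul, mul_zero, add_zero, zero_add, cg,
          SpnPres.sval_mul_inv g, h2]) hθx' (skew_smul _ (skew_wedge _ _))
  have hm3 : 3 ≤ m := by have := A.hm; omega
  suffices h : Cfsg.Omega F ⇑(Cfsg.Agent.Classical.qfPlus m F) ≤
      (K.map ((Subgroup.subtype _))).comap (Subgroup.subtype _) by
    intro x hx
    have hcoe := Cfsg.Agent.Classical.coe_qfPlus (F := F) m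
    revert h
    rw [hcoe]
    intro h
    obtain ⟨y, hy, hy'⟩ := h hx
    rwa [← (Subtype.ext hy' : y = x)]
  refine (Cfsg.Agent.Lie.OrthGen.omega_le_sR (Cfsg.Agent.Classical.nondegenerate_qfPlus (F := F) m)
    (Cfsg.Agent.Classical.OrthAut.tri_qfPlus hm3)).trans
    (Cfsg.Agent.Lie.OrthGen.sR_le_of_coord (by omega) fun p q h1 h2 s => ?_)
  have key : ∀ z ∈ A.Φ.range ⊔ A.nd.range, θ z = Cfsg.Agent.Classical.OrthAut.ogVal
      (Cfsg.Agent.Lie.OrthGen.coordElt m F p q s) →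
      Cfsg.Agent.Lie.OrthGen.coordElt m F p q s ∈
        (K.map ((Subgroup.subtype _))).comap (Subgroup.subtype _) := fun z hz' hz =>
    ⟨ρ z, hK ▸ ⟨z, hz', rfl⟩, Units.ext hz⟩
  rcases p with i | i <;> rcases q with j | j
  · have hij : j ≠ i := fun e => h1 (by rw [e])
    refine key (A.X j i s) (A.X_mem_sup _ _ _) ?_
    rw [hup j i s hij, Cfsg.Agent.Lie.OrthGen.coordElt_val _ _ h2]
    ext (k | k) (l | l) <;>
      simp [Matrix.single_apply, wB_apply, Matrix.one_apply, eq_comm] <;> split_ifs <;> simp_all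
  · have hij : i ≠ j := fun e => h2 (by simp [e])
    refine key (A.Φ (tvN i j hij (-s))) (Subgroup.mem_sup_left ⟨_, rfl⟩) ?_
    rw [hθΦ, tauN_tv, tvN_val, tvN_val, Cfsg.Agent.Lie.OrthGen.coordElt_val _ _ h2]
    ext (k | k) (l | l) <;>
      simp [transvection, Matrix.single_apply, Matrix.one_apply, eq_comm]
  · have hij : j ≠ i := fun e => h2 (by simp [e])
    refine key (A.Φ (tvN j i hij s)) (Subgroup.mem_sup_left ⟨_, rfl⟩) ?_
    rw [hθΦ, tauN_tv, tvN_val, tvN_val, Cfsg.Agent.Lie.OrthGen.coordElt_val _ _ h2]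
    ext (k | k) (l | l) <;>
      simp [transvection, Matrix.single_apply, Matrix.one_apply, eq_comm]
  · have hij : j ≠ i := fun e => h1 (by rw [e])
    refine key (A.dual.X j i s) (A.dual_X_mem_sup _ _ _) ?_
    rw [hlo j i s hij, Cfsg.Agent.Lie.OrthGen.coordElt_val _ _ h2]
    ext (k | k) (l | l) <;>
      simp [Matrix.single_apply, wB_apply, Matrix.one_apply, eq_comm] <;> split_ifs <;> simp_all

end SkewData

end Cfsg.Agent.Lie.CurtisTitsA
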