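import Cfsg.Agent.Lib.Lie.OmegaPlusData
import Cfsg.Agent.Lib.Lie.PresOn

/-! `Ω⁺₂ₙ` from a presentation of `SL_n`, one generator and six or seven relations. -/

set_option autoImplicit false
set_option linter.unusedSectionVars false
set_option maxHeartbeats 1000000

namespace Cfsg.Agent.Lie.OmegaPlus

open Matrix Cfsg.Agent.Lie.Chev Cfsg.Agent.Lie.CurtisTitsA Cfsg.Agent.Lie.Pres
open scoped MatrixGroups commutatorElement

variable {F : Type*} [Field F] [Fintype F] {m : ℕ}

/-- The elements of `Ω⁺₂ₘ`. -/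
abbrev OmP (m : ℕ) (F : Type*) [Field F] := ↥(Cfsg.Omega F (Cfsg.quadFormPlus m F))

namespace Frame

variable (X : Frame m)

include X in
theorem levO_mem (g : Matrix.SpecialLinearGroup (Fin m) F) : levO g ∈ Cfsg.Omega F (Cfsg.quadFormPlus m F) := by
  rw [X.omega_eq]; exact Subgroup.mem_sup_left ⟨g, rfl⟩

theorem sO_mem : X.sO ∈ Cfsg.Omega F (Cfsg.quadFormPlus m F) := by
  rw [X.omega_eq, sO, swapAt, swapPair, ← X.trueData_nd]
  exact mul_mem (mul_mem (Subgroup.mem_sup_left ⟨_, rfl⟩)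
    (mul_mem (Subgroup.mem_sup_left ⟨_, rfl⟩) (Subgroup.mem_sup_right ⟨_, rfl⟩)))
    (inv_mem (Subgroup.mem_sup_left ⟨_, rfl⟩))

/-- The Levi factor inside `Ω`. -/
def levP : Matrix.SpecialLinearGroup (Fin m) F →* OmP m F := levO.codRestrict _ fun g => X.levO_mem g

/-- The exchange inside `Ω`. -/
noncomputable def sP : OmP m F := ⟨X.sO, X.sO_mem⟩

/-- The letters. -/
abbrev Word (F : Type*) [Field F] (m : ℕ) := FreeGroup (Matrix.SpecialLinearGroup (Fin m) F ⊕ Fin 1)

/-- A letter of `SL_m`. -/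
def lg (g : Matrix.SpecialLinearGroup (Fin m) F) : Word F m := FreeGroup.of (Sum.inl g)

/-- The new letter. -/
def ls : Word F m := FreeGroup.of (Sum.inr 0)

/-- The word relation. -/
noncomputable def wordRel : Word F m :=
  ls⁻¹ * (lg X.g0 * lg (ext2 X.a X.b X.hab wSL) * (ls * lg (ext2 X.a X.b X.hab wSL⁻¹) * ls⁻¹) * (lg X.g0)⁻¹)

/-- The two relations of the centraliser. -/
noncomputable def centRels (g h : Matrix.SpecialLinearGroup (Fin (m - 2)) F) : List (Word F m) :=
  [lg (SpnPres.extSL X.offBD g) * ls * (lg (SpnPres.extSL X.offBD g))⁻¹ * ls,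
    lg (SpnPres.extSL X.offBD h) * ls * (lg (SpnPres.extSL X.offBD h))⁻¹ * ls⁻¹]

/-- A commutation with the conjugate copy of `SL₂`. -/
def commRel (x : Matrix.SpecialLinearGroup (Fin m) F) (y : SL(2, F)) : Word F m :=
  ⁅lg x, ls * lg (ext2 X.a X.b X.hab y) * ls⁻¹⁆

theorem presOn_of_comm {α : Type} {v : α → Matrix.SpecialLinearGroup (Fin m) F} {r : ℕ} (hv : PresOn v r)
    (p : ℕ) [Fact p.Prime] [CharP F p] (E : List (Matrix.SpecialLinearGroup (Fin m) F × SL(2, F)))
    (hE : ∀ e ∈ E, Commute (levO e.1) (swO X.b (levO (ext2 X.a X.b X.hab e.2))))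
    (hsuff : ∀ (G : Type) [Group G] (Φ : Matrix.SpecialLinearGroup (Fin m) F →* G) (s : G), s * s = 1 →
      (∀ (i j : Fin m) (h : i ≠ j), i ≠ X.b → i ≠ X.d → j ≠ X.b → j ≠ X.d → ∀ t,
        Commute (Φ (tvN i j h t)) s) →
      (∀ e ∈ E, Commute (Φ e.1) (X.cD Φ s e.2)) →
      (∀ (i j : Fin m) (h : i ≠ j), i ≠ X.a → i ≠ X.b → j ≠ X.a → j ≠ X.b → ∀ t x,
        Commute (Φ (tvN i j h t)) (X.cD Φ s x)) ∧
      ∀ x y, Commute (Φ (ext2 X.a X.b X.hab x)) (X.cD Φ s y)) :
    PresOn (Sum.elim (X.levP ∘ v) fun _ : Fin 1 => X.sP) (r + (3 + E.length)) := by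
  classical
  obtain ⟨g, h, hgen, hχ⟩ := exists_sign_gens (F := F) p (k := m - 2) (by have := X.hm; omega)
  let L0 : List (Word F m) := X.wordRel :: X.centRels g h ++ E.map fun e => X.commRel e.1 e.2
  let ev : Word F m →* OmP m F := FreeGroup.lift (Sum.elim X.levP fun _ => X.sP)
  choose pre hpre using hv.surjective
  let tr : Word F m →* FreeGroup (α ⊕ Fin 1) :=
    FreeGroup.lift (Sum.elim (fun x => FreeGroup.map Sum.inl (pre x)) fun b => FreeGroup.of (Sum.inr b))
  have hsq : X.sO (F := F) * X.sO = 1 := swap_sq X.hdb.symm X.oVal_sO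
  have hcent : ∀ x : Matrix.SpecialLinearGroup (Fin (m - 2)) F,
      Commute (levO (SpnPres.extSL X.offBD x)) X.sO := by
    intro x
    suffices h : (⊤ : Subgroup (Matrix.SpecialLinearGroup (Fin (m - 2)) F)) ≤
        (Subgroup.centralizer {X.sO}).comap (levO.comp (SpnPres.extSL X.offBD)) from
      Subgroup.mem_centralizer_singleton_iff.1 (h (Subgroup.mem_top x))
    rw [← Cfsg.Agent.Classical.SL_closure_transvections, Subgroup.closure_le]
    rintro _ ⟨⟨i, j, hij, t⟩, rfl⟩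
    refine Subgroup.mem_centralizer_singleton_iff.2 ?_
    show levO (SpnPres.extSL X.offBD (tvN i j hij t)) * X.sO = X.sO * levO (SpnPres.extSL X.offBD (tvN i j hij t))
    rw [extSL_tvN]
    exact (swap_commute X.oVal_sO _ (X.mem_range_offBD.1 ⟨i, rfl⟩).1 (X.mem_range_offBD.1 ⟨i, rfl⟩).2
      (X.mem_range_offBD.1 ⟨j, rfl⟩).1 (X.mem_range_offBD.1 ⟨j, rfl⟩).2 t).eq
  have hval : ((Subgroup.subtype (Cfsg.Omega F (Cfsg.quadFormPlus m F))).comp ev) =
      FreeGroup.lift (Sum.elim levO fun _ => X.sO) := FreeGroup.ext_hom _ _ fun a => by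
    rcases a with x | b
    · simp only [ev, MonoidHom.comp_apply, FreeGroup.lift_apply_of, Sum.elim_inl]; rfl
    · simp only [ev, MonoidHom.comp_apply, FreeGroup.lift_apply_of, Sum.elim_inr]; rfl
  have htrue : ∀ x ∈ L0, ev x = 1 := by
    intro x hx
    apply Subgroup.subtype_injective
    rw [map_one, ← MonoidHom.comp_apply, hval]
    simp only [L0, centRels, List.cons_append, List.mem_cons, List.nil_append, List.mem_map] at hx
    rcases hx with rfl | rfl | rfl | ⟨e, he, rfl⟩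
    · simp only [wordRel, lg, ls, map_mul, map_inv, FreeGroup.lift_apply_of, Sum.elim_inl, Sum.elim_inr]
      rw [← map_inv levO (ext2 X.a X.b X.hab wSL), ← map_inv (ext2 X.a X.b X.hab), X.sO_conj2, sO, swapAt,
        swapPair]
      group
    · simp only [lg, ls, map_mul, map_inv, FreeGroup.lift_apply_of, Sum.elim_inl, Sum.elim_inr]
      rw [(hcent g).eq, mul_inv_cancel_right, hsq]
    · simp only [lg, ls, map_mul, map_inv, FreeGroup.lift_apply_of, Sum.elim_inl, Sum.elim_inr]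
      rw [(hcent h).eq, mul_inv_cancel_right, mul_inv_cancel]
    · simp only [commRel, lg, ls, map_commutatorElement, map_mul, map_inv, FreeGroup.lift_apply_of,
        Sum.elim_inl, Sum.elim_inr]
      rw [commutatorElement_eq_one_iff_commute, X.sO_conj2]
      exact hE e he
  have hevtr : (FreeGroup.lift (Sum.elim (X.levP ∘ v) fun _ : Fin 1 => X.sP)).comp tr = ev :=
    FreeGroup.ext_hom _ _ fun a => by
      rcases a with x | b
      · have hl : (FreeGroup.lift (Sum.elim (X.levP ∘ v) fun _ : Fin 1 => X.sP)).comp (FreeGroup.map Sum.inl) =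
            X.levP.comp (FreeGroup.lift v) := FreeGroup.ext_hom _ _ fun a => by simp
        simp [tr, ev, ← MonoidHom.comp_apply (FreeGroup.lift _), hl, hpre]
      · simp [tr, ev]
  refine (hv.extend X.levP (fun _ : Fin 1 => X.sP) ?_ (L0.map tr) ?_ ?_).mono (by simp [L0, centRels]; omega)
  · rw [eq_top_iff]
    intro y _
    have hy : (y : OGp m F) ∈ (levO (F := F) (m := m)).range ⊔ (X.trueData (F := F)).nd.range := by
      rw [← X.omega_eq]; exact y.2
    have hmap : ((X.levP (F := F)).range ⊔ Subgroup.closure (Set.range fun _ : Fin 1 => X.sP (F := F))).map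
        (Subgroup.subtype _) ≥ (levO (F := F) (m := m)).range ⊔ (X.trueData (F := F)).nd.range := by
      refine sup_le ?_ ?_
      · rintro _ ⟨g, rfl⟩
        exact ⟨X.levP g, Subgroup.mem_sup_left ⟨g, rfl⟩, rfl⟩
      · rintro _ ⟨x, rfl⟩
        rw [X.trueData_nd, ← X.sO_conj2]
        exact ⟨X.sP * X.levP (ext2 X.a X.b X.hab x) * X.sP⁻¹,
          mul_mem (mul_mem (Subgroup.mem_sup_right (Subgroup.subset_closure ⟨0, rfl⟩))
            (Subgroup.mem_sup_left ⟨_, rfl⟩))
            (inv_mem (Subgroup.mem_sup_right (Subgroup.subset_closure ⟨0, rfl⟩))), rfl⟩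
    obtain ⟨z, hz, e⟩ := hmap hy
    rwa [← Subtype.ext e]
  · intro x hx
    obtain ⟨y, hy, rfl⟩ := List.mem_map.1 hx
    rw [← MonoidHom.comp_apply, hevtr]
    exact htrue y hy
  intro G _ f Φ π htop hf hπΦ hπs hall
  set s := f (FreeGroup.of (Sum.inr 0)) with hs
  have hft : f.comp tr = FreeGroup.lift (Sum.elim Φ fun _ => s) := FreeGroup.ext_hom _ _ fun a => by
    rcases a with x | b
    · simp [tr, hf, hpre]
    · simp [tr, hs, Subsingleton.elim b 0]
  have hL : ∀ y ∈ L0, FreeGroup.lift (Sum.elim Φ fun _ => s) y = 1 := fun y hy => by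
    rw [← hft]; exact hall _ (List.mem_map.2 ⟨y, hy, rfl⟩)
  obtain ⟨hs2, hcom⟩ := involution_of_sign (Φ.comp (SpnPres.extSL X.offBD)) hgen hχ (s := s) (by
      have := hL (lg (SpnPres.extSL X.offBD g) * ls * (lg (SpnPres.extSL X.offBD g))⁻¹ * ls) (by simp [L0, centRels])
      simp only [lg, ls, map_mul, map_inv, FreeGroup.lift_apply_of, Sum.elim_inl, Sum.elim_inr] at this
      exact eq_inv_of_mul_eq_one_left this) (by
      have := hL (lg (SpnPres.extSL X.offBD h) * ls * (lg (SpnPres.extSL X.offBD h))⁻¹ * ls⁻¹) (by simp [L0, centRels])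
      simp only [lg, ls, map_mul, map_inv, FreeGroup.lift_apply_of, Sum.elim_inl, Sum.elim_inr] at this
      exact mul_inv_eq_one.1 this)
  have hc : ∀ (i j : Fin m) (h : i ≠ j), i ≠ X.b → i ≠ X.d → j ≠ X.b → j ≠ X.d → ∀ t,
      Commute (Φ (tvN i j h t)) s := by
    intro i j hij h1 h2 h3 h4 t
    obtain ⟨i', rfl⟩ := X.mem_range_offBD.2 ⟨h1, h2⟩
    obtain ⟨j', rfl⟩ := X.mem_range_offBD.2 ⟨h3, h4⟩
    have hij' : i' ≠ j' := fun e => hij (by rw [e])
    rw [← extSL_tvN X.offBD i' j' hij' t]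
    exact hcom (tvN i' j' hij' t)
  have hEc : ∀ e ∈ E, Commute (Φ e.1) (X.cD Φ s e.2) := fun e he => by
    have := hL (X.commRel e.1 e.2) (by simp only [L0]; exact List.mem_append_right _ (List.mem_map.2 ⟨e, he, rfl⟩))
    simp only [commRel, lg, ls, map_commutatorElement, map_mul, map_inv, FreeGroup.lift_apply_of, Sum.elim_inl,
      Sum.elim_inr, commutatorElement_eq_one_iff_commute] at this
    exact this
  obtain ⟨hout, hinn⟩ := hsuff G Φ s hs2 hc hEc
  have hw : s = Φ X.g0 * Φ (ext2 X.a X.b X.hab wSL) * X.cD Φ s wSL⁻¹ * (Φ X.g0)⁻¹ := by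
    have := hL X.wordRel (by simp [L0])
    simp only [wordRel, lg, ls, map_mul, map_inv, FreeGroup.lift_apply_of, Sum.elim_inl, Sum.elim_inr,
      inv_mul_eq_one] at this
    rw [cD_apply]
    simp only [map_inv] at this ⊢
    exact this
  have hgen' : Φ.range ⊔ Subgroup.zpowers s = ⊤ := by
    rw [eq_top_iff, ← htop]
    refine sup_le_sup le_rfl ((Subgroup.closure_le _).2 ?_)
    rintro _ ⟨b, rfl⟩
    rw [Subsingleton.elim b 0]
    exact Subgroup.mem_zpowers s
  have key := injective_of_derived (X := X) ⟨hs2, hc, hw, hout, hinn⟩ ((Subgroup.subtype _).comp π)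
    (fun x => congrArg Subtype.val (DFunLike.congr_fun hπΦ x)) (congrArg Subtype.val (hπs 0)) hgen'
  exact fun x y e => key (congrArg Subtype.val e)

theorem commute_all_of_pair {G : Type*} [Group G] {φ : SL(2, F) →* G} {z : G} {A B : SL(2, F)}
    (hgen : Subgroup.closure {A, B} = ⊤) (hA : Commute z (φ A)) (hB : Commute z (φ B)) (x : SL(2, F)) :
    Commute z (φ x) := by
  have h : (⊤ : Subgroup (SL(2, F))) ≤ (Subgroup.centralizer {z}).comap φ := by
    rw [← hgen, Subgroup.closure_le]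
    rintro y (rfl | hy)
    · exact Subgroup.mem_centralizer_singleton_iff.2 hA.eq.symm
    · rw [Set.mem_singleton_iff] at hy
      subst hy
      exact Subgroup.mem_centralizer_singleton_iff.2 hB.eq.symm
  exact (Subgroup.mem_centralizer_singleton_iff.1 (h (Subgroup.mem_top x))).symm

theorem levO_ext2_commute {a b i j : Fin m} (hab : a ≠ b) (hij : i ≠ j)
    (h : (i ≠ a ∧ i ≠ b ∧ j ≠ a ∧ j ≠ b) ∨ (i = a ∧ j = b) ∨ (i = b ∧ j = a)) (t : F) (y : SL(2, F)) :
    Commute (levO (tvN i j hij t)) (swO b (levO (ext2 a b hab y))) := by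
  have hl := fun u => levO_commute hab (g := tvN i j hij t) (tv_cg hab hij h t)
    (by rw [tauN_tv]; exact tv_cg hab hij.symm (by tauto) (-t)) u
  refine (Subgroup.mem_centralizer_singleton_iff.1 (range_le_two
    (φ := (swO b).comp (levO.comp (ext2 a b hab))) (Subgroup.centralizer {levO (tvN i j hij t)})
    (fun u => ?_) (fun u => ?_) ⟨y, rfl⟩)).symm
  · refine Subgroup.mem_centralizer_singleton_iff.2 ?_
    show swO b (levO (ext2 a b hab (upSL u))) * levO (tvN i j hij t) = levO (tvN i j hij t) * swO b (levO (ext2 a b hab (upSL u)))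
    rw [ext2_up]; exact (hl u).1.eq.symm
  · refine Subgroup.mem_centralizer_singleton_iff.2 ?_
    show swO b (levO (ext2 a b hab (loSL u))) * levO (tvN i j hij t) = levO (tvN i j hij t) * swO b (levO (ext2 a b hab (loSL u)))
    rw [ext2_lo]; exact (hl u).2.eq.symm

theorem levO_ext2_ext2_commute {a b i j : Fin m} (hab : a ≠ b) (hij : i ≠ j)
    (h : (i ≠ a ∧ i ≠ b ∧ j ≠ a ∧ j ≠ b) ∨ (i = a ∧ j = b)) (x y : SL(2, F)) :
    Commute (levO (ext2 i j hij x)) (swO b (levO (ext2 a b hab y))) := by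
  refine Subgroup.mem_centralizer_singleton_iff.1 (range_le_two (φ := levO.comp (ext2 i j hij))
    (Subgroup.centralizer {swO b (levO (ext2 a b hab y))}) (fun u => ?_) (fun u => ?_) ⟨x, rfl⟩)
  · refine Subgroup.mem_centralizer_singleton_iff.2 ?_
    show levO (ext2 i j hij (upSL u)) * swO b (levO (ext2 a b hab y)) = swO b (levO (ext2 a b hab y)) * levO (ext2 i j hij (upSL u))
    rw [ext2_up]; exact (levO_ext2_commute hab hij (by tauto) u y).eq
  · refine Subgroup.mem_centralizer_singleton_iff.2 ?_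
    show levO (ext2 i j hij (loSL u)) * swO b (levO (ext2 a b hab y)) = swO b (levO (ext2 a b hab y)) * levO (ext2 i j hij (loSL u))
    rw [ext2_lo]; exact (levO_ext2_commute hab hij.symm (by tauto) u y).eq

/-- Five or more coordinates. -/
theorem presOn_big (hm5 : 5 ≤ m) {α : Type} {v : α → Matrix.SpecialLinearGroup (Fin m) F} {r : ℕ}
    (hv : PresOn v r) (p : ℕ) [Fact p.Prime] [CharP F p] :
    PresOn (Sum.elim (X.levP ∘ v) fun _ : Fin 1 => X.sP) (r + 6) := by
  classical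
  obtain ⟨A, B, o, hgen, hco, hA, hB⟩ := Sl2Pair.exists_coprime_pair (F := F) p
  obtain ⟨f, hf⟩ : ∃ f : Fin m, f ≠ X.a ∧ f ≠ X.b ∧ f ≠ X.cc ∧ f ≠ X.d := by
    by_contra hne
    push Not at hne
    have h1 : (Finset.univ : Finset (Fin m)) ⊆ {X.a, X.b, X.cc, X.d} := fun k _ => by
      simp only [Finset.mem_insert, Finset.mem_singleton]
      by_cases h1 : k = X.a
      · exact Or.inl h1
      by_cases h2 : k = X.b
      · exact Or.inr (Or.inl h2)
      by_cases h3 : k = X.cc
      · exact Or.inr (Or.inr (Or.inl h3))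
      exact Or.inr (Or.inr (Or.inr (hne k h1 h2 h3)))
    have h2 := Finset.card_le_card h1
    rw [Finset.card_univ, Fintype.card_fin] at h2
    have := h2.trans Finset.card_le_four
    omega
  obtain ⟨hfa, hfb, hfc, hfd⟩ := hf
  set eA := ext2 X.a X.b X.hab A
  set eB := ext2 X.a X.b X.hab B
  set W : Matrix.SpecialLinearGroup (Fin m) F := mixW X.d X.cc f X.hdc hfd
  refine (X.presOn_of_comm hv p [(eA * W, A), (eA * W, B), (eB, B)] ?_ ?_).mono (by simp)
  · intro e he
    simp only [List.mem_cons, List.not_mem_nil, or_false] at he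
    have hW : ∀ y : SL(2, F), Commute (levO W) (swO X.b (levO (ext2 X.a X.b X.hab y))) := fun y => by
      show Commute (levO (mixW X.d X.cc f X.hdc hfd)) _
      rw [mixW, map_mul]
      exact (levO_ext2_commute X.hab X.hdc (Or.inl ⟨X.hda, X.hdb, X.hca, X.hcb⟩) 1 y).mul_left
        (levO_ext2_commute X.hab hfd (Or.inl ⟨hfa, hfb, X.hda, X.hdb⟩) 1 y)
    have hL : ∀ x y : SL(2, F), Commute (levO (ext2 X.a X.b X.hab x)) (swO X.b (levO (ext2 X.a X.b X.hab y))) :=
      fun x y => levO_ext2_ext2_commute X.hab X.hab (Or.inr ⟨rfl, rfl⟩) x y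
    rcases he with rfl | rfl | rfl
    · show Commute (levO (eA * W)) _; rw [map_mul]; exact (hL A A).mul_left (hW A)
    · show Commute (levO (eA * W)) _; rw [map_mul]; exact (hL A B).mul_left (hW B)
    · exact hL B B
  intro G _ Φ s hs hc hE
  have hAW : Commute eA W := by
    show Commute eA (mixW X.d X.cc f X.hdc hfd)
    rw [mixW]
    exact (tv_commute_ext2 X.hab X.hdc X.hda X.hdb X.hca X.hcb 1 A).symm.mul_right
      (tv_commute_ext2 X.hab hfd hfa hfb X.hda X.hdb 1 A).symm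
  have hco' : Nat.Coprime o (p * p) := Nat.Coprime.mul_right hco hco
  have hsplit : ∀ y, Commute (Φ (eA * W)) (X.cD Φ s y) →
      Commute (Φ eA) (X.cD Φ s y) ∧ Commute (Φ W) (X.cD Φ s y) := fun y hy => by
    rw [map_mul] at hy
    exact commute_of_coprime hco' (by rw [← map_pow, ← map_pow, hA, map_one, map_one])
      (by rw [← map_pow, mixW_pow p X.hdc hfd (Ne.symm hfc), map_one]) (hAW.map Φ) hy
  obtain ⟨hAA, hWA⟩ := hsplit A (hE (eA * W, A) (by simp))
  obtain ⟨hAB, hWB⟩ := hsplit B (hE (eA * W, B) (by simp))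
  have hBB : Commute (Φ eB) (X.cD Φ s B) := hE (eB, B) (by simp)
  have hsi : s⁻¹ = s := inv_eq_of_mul_eq_one_right hs
  have hBA : Commute (Φ eB) (X.cD Φ s A) := by
    have h1 := hAB.map (MulAut.conj s).toMonoidHom
    simp only [MulEquiv.coe_toMonoidHom, MulAut.conj_apply, cD_apply] at h1
    rw [show s * (s * Φ (ext2 X.a X.b X.hab B) * s⁻¹) * s⁻¹ = (s * s) * Φ (ext2 X.a X.b X.hab B) * (s * s)⁻¹ by group, hs] at h1
    rw [cD_apply]
    simpa using h1.symm
  have hin : ∀ x y, Commute (Φ (ext2 X.a X.b X.hab x)) (X.cD Φ s y) := fun x y =>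
    (commute_all_of_pair (φ := Φ.comp (ext2 X.a X.b X.hab)) hgen
      (commute_all_of_pair hgen hAA hAB y).symm (commute_all_of_pair hgen hBA hBB y).symm x).symm
  refine ⟨?_, hin⟩
  let H : Subgroup (Matrix.SpecialLinearGroup (Fin m) F) := (Subgroup.centralizer (Set.range (X.cD Φ s))).comap Φ
  have hH : ∀ g, g ∈ H ↔ ∀ x, Commute (Φ g) (X.cD Φ s x) := fun g => by
    simp only [H, Subgroup.mem_comap, Subgroup.mem_centralizer_iff, Set.forall_mem_range]
    exact forall_congr' fun x => ⟨fun e => e.symm, fun e => e.eq.symm⟩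
  have hmix := tv_mem_of_mix (fun i => i ≠ X.a ∧ i ≠ X.b ∧ i ≠ X.d) (d := X.d) (e := X.cc) (f := f)
    (fun h => h.2.2 rfl) ⟨X.hca, X.hcb, X.hdc.symm⟩ ⟨hfa, hfb, hfd⟩ X.hdc hfd (Ne.symm hfc) H
    (fun i j h hi hj t => (hH _).2 fun x => by
      rw [cD_apply]
      have h1 : Commute (Φ (tvN i j h t)) (Φ (ext2 X.a X.b X.hab x)) :=
        (tv_commute_ext2 X.hab h hi.1 hi.2.1 hj.1 hj.2.1 t x).map Φ
      have h2 := hc i j h hi.2.1 hi.2.2 hj.2.1 hj.2.2 t
      exact (h2.mul_right h1).mul_right h2.inv_right)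
    ((hH _).2 fun x => commute_all_of_pair hgen hWA hWB x)
  intro i j h h1 h2 h3 h4 t x
  refine (hH _).1 (hmix i j h ?_ ?_ t) x
  · by_cases e : i = X.d
    · exact Or.inr e
    · exact Or.inl ⟨h1, h2, e⟩
  · by_cases e : j = X.d
    · exact Or.inr e
    · exact Or.inl ⟨h3, h4, e⟩

/-- Four coordinates. -/
theorem presOn_four (hm4 : m = 4) {α : Type} {v : α → Matrix.SpecialLinearGroup (Fin m) F} {r : ℕ}
    (hv : PresOn v r) (p : ℕ) [Fact p.Prime] [CharP F p] :
    PresOn (Sum.elim (X.levP ∘ v) fun _ : Fin 1 => X.sP) (r + 7) := by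
  classical
  obtain ⟨A, B, o, hgen, hco, hA, hB⟩ := Sl2Pair.exists_coprime_pair (F := F) p
  set eA := ext2 X.a X.b X.hab A
  set eB := ext2 X.a X.b X.hab B
  set cA := ext2 X.cc X.d X.hdc.symm A
  set cB := ext2 X.cc X.d X.hdc.symm B
  refine (X.presOn_of_comm hv p [(eA * cB, A), (eA * cB, B), (eB * cA, A), (eB * cA, B)] ?_ ?_).mono (by simp)
  · have hL : ∀ x y : SL(2, F), Commute (levO (ext2 X.a X.b X.hab x)) (swO X.b (levO (ext2 X.a X.b X.hab y))) :=
      fun x y => levO_ext2_ext2_commute X.hab X.hab (Or.inr ⟨rfl, rfl⟩) x y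
    have hC : ∀ x y : SL(2, F), Commute (levO (ext2 X.cc X.d X.hdc.symm x)) (swO X.b (levO (ext2 X.a X.b X.hab y))) :=
      fun x y => levO_ext2_ext2_commute X.hab X.hdc.symm (Or.inl ⟨X.hca, X.hcb, X.hda, X.hdb⟩) x y
    intro e he
    simp only [List.mem_cons, List.not_mem_nil, or_false] at he
    rcases he with rfl | rfl | rfl | rfl
    · show Commute (levO (eA * cB)) _; rw [map_mul]; exact (hL A A).mul_left (hC B A)
    · show Commute (levO (eA * cB)) _; rw [map_mul]; exact (hL A B).mul_left (hC B B)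
    · show Commute (levO (eB * cA)) _; rw [map_mul]; exact (hL B A).mul_left (hC A A)
    · show Commute (levO (eB * cA)) _; rw [map_mul]; exact (hL B B).mul_left (hC A B)
  intro G _ Φ s hs hc hE
  have hd : ∀ x y : SL(2, F), Commute (ext2 X.a X.b X.hab x) (ext2 X.cc X.d X.hdc.symm y) := fun x y =>
    ext2_commute X.hab X.hdc.symm X.hca.symm X.hda.symm X.hcb.symm X.hdb.symm x y
  have sp : ∀ (x y : Matrix.SpecialLinearGroup (Fin m) F) (o P : ℕ) (z : G), Nat.Coprime o P → x ^ o = 1 →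
      y ^ P = 1 → Commute x y → Commute (Φ (x * y)) z → Commute (Φ x) z ∧ Commute (Φ y) z := by
    intro x y o P z h1 h2 h3 h4 h5
    rw [map_mul] at h5
    exact commute_of_coprime h1 (by rw [← map_pow, h2, map_one]) (by rw [← map_pow, h3, map_one]) (h4.map Φ) h5
  have pA : ∀ (i j : Fin m) (h : i ≠ j), (ext2 i j h A) ^ o = 1 := fun i j h => by rw [← map_pow, hA, map_one]
  have pB : ∀ (i j : Fin m) (h : i ≠ j), (ext2 i j h B) ^ p = 1 := fun i j h => by rw [← map_pow, hB, map_one]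
  obtain ⟨hAA, hbA⟩ := sp eA cB o p _ hco (pA _ _ _) (pB _ _ _) (hd A B) (hE (eA * cB, A) (by simp))
  obtain ⟨hAB, hbB⟩ := sp eA cB o p _ hco (pA _ _ _) (pB _ _ _) (hd A B) (hE (eA * cB, B) (by simp))
  obtain ⟨hBA, haA⟩ := sp eB cA p o _ hco.symm (pB _ _ _) (pA _ _ _) (hd B A) (hE (eB * cA, A) (by simp))
  obtain ⟨hBB, haB⟩ := sp eB cA p o _ hco.symm (pB _ _ _) (pA _ _ _) (hd B A) (hE (eB * cA, B) (by simp))
  have hin : ∀ x y, Commute (Φ (ext2 X.a X.b X.hab x)) (X.cD Φ s y) := fun x y =>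
    (commute_all_of_pair (φ := Φ.comp (ext2 X.a X.b X.hab)) hgen
      (commute_all_of_pair hgen hAA hAB y).symm (commute_all_of_pair hgen hBA hBB y).symm x).symm
  have hout : ∀ x y, Commute (Φ (ext2 X.cc X.d X.hdc.symm x)) (X.cD Φ s y) := fun x y =>
    (commute_all_of_pair (φ := Φ.comp (ext2 X.cc X.d X.hdc.symm)) hgen
      (commute_all_of_pair hgen haA haB y).symm (commute_all_of_pair hgen hbA hbB y).symm x).symm
  refine ⟨?_, hin⟩
  intro i j h h1 h2 h3 h4 t x
  have hcd : ∀ k : Fin m, k ≠ X.a → k ≠ X.b → k = X.cc ∨ k = X.d := fun k ha hb => by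
    by_contra hk
    push Not at hk
    have := Finset.card_le_univ ({X.a, X.b, X.cc, X.d, k} : Finset (Fin m))
    rw [Fintype.card_fin, Finset.card_insert_of_notMem (by simp [X.hab, X.hca.symm, X.hda.symm, ha.symm]),
      Finset.card_insert_of_notMem (by simp [X.hcb.symm, X.hdb.symm, hb.symm]),
      Finset.card_insert_of_notMem (by simp [X.hdc.symm, hk.1.symm]), Finset.card_pair hk.2.symm] at this
    omega
  rcases hcd i h1 h2 with rfl | rfl <;> rcases hcd j h3 h4 with rfl | rfl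
  · exact absurd rfl h
  · rw [← ext2_up h t]; exact hout _ x
  · rw [← ext2_lo h.symm t]; exact hout _ x
  · exact absurd rfl h

end Frame

end Cfsg.Agent.Lie.OmegaPlus
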