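import Cfsg.Agent.Lib.Lie.SLnSevenFinal

/-!
`SL₃(F)` on three generators with thirteen relations, and the presentations of `SL_n(F)` built on it.
-/

set_option autoImplicit false
set_option linter.unusedSectionVars false

namespace Cfsg.Agent.Lie.SLnSix

open Matrix Cfsg.Agent.Lie.Pres Cfsg.Agent.Lie.SLnPres Cfsg.Agent.Lie.Carmichael Cfsg.Agent.Lie.SLnSeven

universe u

/-- A generator equal to one which is a relation can be left out. -/
theorem presOn_drop {H : Type u} [Group H] {n r : ℕ} {R : Finset (FreeGroup (Fin (n + 1)))} (hc : R.card ≤ r + 1)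
    (hmem : FreeGroup.of (Fin.last n) ∈ R) (e : PresentedGroup (R : Set (FreeGroup (Fin (n + 1)))) ≃* H) :
    PresOn (fun a : Fin n => e (PresentedGroup.of a.castSucc)) r := by
  classical
  let d : FreeGroup (Fin (n + 1)) →* FreeGroup (Fin n) :=
    FreeGroup.lift (Fin.lastCases 1 fun a => FreeGroup.of a)
  let v : Fin n → H := fun a => e (PresentedGroup.of a.castSucc)
  set mk := PresentedGroup.mk (R : Set (FreeGroup (Fin (n + 1)))) with hmk
  have hlast : mk (FreeGroup.of (Fin.last n)) = 1 := PresentedGroup.one_of_mem (Finset.mem_coe.2 hmem)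
  have hd : (FreeGroup.lift v).comp d = e.toMonoidHom.comp mk := FreeGroup.ext_hom _ _ fun a => by
    induction a using Fin.lastCases with
    | last => simp [d, hlast]
    | cast a => simp [d, v, mk, PresentedGroup.of]
  refine (presOn_of_rels v ?_ ((R.erase (FreeGroup.of (Fin.last n))).toList.map d) ?_ ?_).mono ?_
  · intro y
    obtain ⟨z, hz⟩ := PresentedGroup.mk_surjective _ (e.symm y)
    refine ⟨d z, ?_⟩
    rw [← MonoidHom.comp_apply, hd, MonoidHom.comp_apply, hmk, hz]
    simp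
  · intro x hx
    obtain ⟨y, hy, rfl⟩ := List.mem_map.1 hx
    rw [← MonoidHom.comp_apply, hd, MonoidHom.comp_apply,
      PresentedGroup.one_of_mem (Finset.mem_coe.2 (Finset.mem_of_mem_erase (Finset.mem_toList.1 hy))), map_one]
  · intro G _ f π hf hπ hall
    let g : Fin (n + 1) → G := fun a => f (d (FreeGroup.of a))
    have hg : FreeGroup.lift g = f.comp d := FreeGroup.ext_hom _ _ fun a => by simp [g]
    have hR : ∀ x ∈ (R : Set (FreeGroup (Fin (n + 1)))), FreeGroup.lift g x = 1 := by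
      intro x hx
      rw [hg, MonoidHom.comp_apply]
      by_cases h : x = FreeGroup.of (Fin.last n)
      · rw [h, show d (FreeGroup.of (Fin.last n)) = 1 by simp [d], map_one]
      · exact hall _ (List.mem_map.2 ⟨x, Finset.mem_toList.2 (Finset.mem_erase.2 ⟨h, Finset.mem_coe.1 hx⟩), rfl⟩)
    set ι := (PresentedGroup.toGroup hR).comp e.symm.toMonoidHom with hι
    have hιf : ι.comp (FreeGroup.lift v) = f := FreeGroup.ext_hom _ _ fun a => by
      simp only [hι, MonoidHom.comp_apply, FreeGroup.lift_apply_of, v, MulEquiv.toMonoidHom_eq_coe,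
        MonoidHom.coe_coe, MulEquiv.symm_apply_apply]
      refine (PresentedGroup.toGroup.of hR).trans ?_
      simp [g, d]
    intro x y hxy
    obtain ⟨a, rfl⟩ := hf x
    obtain ⟨b, rfl⟩ := hf y
    rw [← MonoidHom.comp_apply, hπ, ← MonoidHom.comp_apply, hπ] at hxy
    exact (DFunLike.congr_fun hιf a).symm.trans ((congrArg ι hxy).trans (DFunLike.congr_fun hιf b))
  · rw [List.length_map, Finset.length_toList, Finset.card_erase_of_mem hmem]
    omega

variable {F : Type*} [Field F] [Fintype F]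

/-- The presentation of `SL₃`, with the cyclic permutation among the generators. -/
theorem presOn_three_pC :
    ∃ u : Fin 3 → SpecialLinearGroup (Fin 3) F, PresOn u 13 ∧ u 1 = Sl3Pres.pC := by
  obtain ⟨rels, hc, hmem, e, he⟩ := Sl3Pres.exists_presentation_of_three (F := F)
  exact ⟨_, presOn_drop (n := 3) (r := 13) hc hmem e, he⟩

/-- The presentation of `SL₃`. -/
theorem presOn_three : ∃ u : Fin 3 → SpecialLinearGroup (Fin 3) F, PresOn u 13 :=
  let ⟨u, h, _⟩ := presOn_three_pC (F := F)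
  ⟨u, h⟩

theorem presOn_small {k : ℕ} (hk : 1 ≤ k) {β : Type} {v : β → alternatingGroup (Fin (3 + k))} {r : ℕ}
    (hA : PresOn v r) :
    ∃ w : Fin 3 ⊕ β → SpecialLinearGroup (Fin (3 + k)) F, PresOn w (13 + (r + (2 + ((k - 1) + 2)))) := by
  obtain ⟨u, h3⟩ := presOn_three (F := F)
  refine ⟨_, (presOn_plain hk h3 hA (List.ofFn fun i => extStab hk (cyc i)) [rho hk, rho hk * sig hk] ?_
    (fun τ => stab_gens hk) ?_ (by simp) (Or.inl (by simp))).mono (by simp)⟩
  · intro s hs
    obtain ⟨i, rfl⟩ := List.mem_ofFn.1 hs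
    exact stab_ext hk _
  · intro ρ hρ
    simp only [List.mem_cons, List.not_mem_nil, or_false] at hρ
    rcases hρ with rfl | rfl
    exacts [rho_away hk, rho_sig_away hk]

theorem presOn_four : ∃ w : Fin 5 → SpecialLinearGroup (Fin 4) F, PresOn w 20 := by
  obtain ⟨v, hv⟩ := alt_fin (n := 3 + 1) (by norm_num) AltGlue.alt_four
  obtain ⟨w, hw⟩ := presOn_small (F := F) (k := 1) le_rfl hv
  obtain ⟨w', hw'⟩ := to_fin hw
  exact ⟨w', hw'⟩

theorem presOn_five : ∃ w : Fin 5 → SpecialLinearGroup (Fin 5) F, PresOn w 21 := by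
  obtain ⟨v, hv⟩ := AltFive.alt_five
  obtain ⟨w, hw⟩ := presOn_small (F := F) (k := 2) (by norm_num) (v := v) hv
  obtain ⟨w', hw'⟩ := to_fin hw
  exact ⟨w', hw'⟩

theorem presOn_six : ∃ w : Fin 5 → SpecialLinearGroup (Fin 6) F, PresOn w 23 := by
  obtain ⟨t, ht⟩ := AltGlue.alt_six
  obtain ⟨v, hv⟩ := alt_fin (n := 3 + 3) (by norm_num) ht
  obtain ⟨u, h3⟩ := presOn_three (F := F)
  obtain ⟨τ, hτ, h⟩ := cover_six (k := 3) le_rfl
  have h := presOn_plain (F := F) (k := 3) (by norm_num) h3 hv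
    (List.ofFn fun i : Fin 2 => extStab (k := 3) (by norm_num) (cyc i)) [rho (by norm_num)]
    (fun s hs => by obtain ⟨i, rfl⟩ := List.mem_ofFn.1 hs; exact stab_ext _ _)
    (fun τ => stab_gens (k := 3) (by norm_num)) (fun ρ hρ => by rw [List.mem_singleton] at hρ; subst hρ; exact rho_away _)
    (by simp) (Or.inr ⟨τ, hτ, h⟩)
  obtain ⟨w', hw'⟩ := to_fin h
  exact ⟨w', hw'.mono (by simp)⟩

theorem presOn_seven (n : ℕ) (hn : 7 ≤ n) : ∃ w : Fin 6 → SpecialLinearGroup (Fin n) F, PresOn w 24 := by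
  obtain ⟨k, rfl⟩ : ∃ k, n = 3 + k := ⟨n - 3, by omega⟩
  obtain ⟨v, hv, -⟩ := AltGlue.good_alternating (n := 3 + k) (by omega)
  obtain ⟨u, h3⟩ := presOn_three (F := F)
  obtain ⟨w', hw'⟩ := to_fin (presOn_shift (F := F) (k := k) (by omega) h3 hv)
  exact ⟨w', hw'⟩

end Cfsg.Agent.Lie.SLnSix
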