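import Cfsg.Agent.Lib.Lie.OmegaPlusPres
import Cfsg.Agent.Lib.Lie.SLnSix

/-! The centre of `Ω⁺₂ₙ` and the presentations on eight generators. -/

set_option autoImplicit false
set_option linter.unusedSectionVars false
set_option maxHeartbeats 1000000

namespace Cfsg.Agent.Lie.OmegaPlus

open Matrix Cfsg.Agent.Lie.Chev Cfsg.Agent.Lie.CurtisTitsA Cfsg.Agent.Lie.Pres
open scoped MatrixGroups

variable {F : Type*} [Field F] [Fintype F] {m : ℕ}

/-- The standard frame. -/
def stdFrame (hm : 4 ≤ m) : Frame m where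
  a := ⟨0, by omega⟩
  b := ⟨1, by omega⟩
  cc := ⟨2, by omega⟩
  d := ⟨3, by omega⟩
  hab := by simp
  hca := by simp
  hcb := by simp
  hda := by simp
  hdb := by simp
  hdc := by simp
  hm := hm

theorem center_val (X : Frame m) {z : OmP m F} (hz : z ∈ Subgroup.center (OmP m F)) :
    oVal (z : OGp m F) = 1 ∨ oVal (z : OGp m F) = -1 := by
  classical
  set M := oVal (z : OGp m F) with hM
  have hcom : ∀ y : OmP m F, M * oVal (y : OGp m F) = oVal (y : OGp m F) * M := fun y => by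
    rw [hM, ← map_mul, ← map_mul, ← Subgroup.coe_mul, ← Subgroup.coe_mul, (Subgroup.mem_center_iff.1 hz y)]
  have hlev : ∀ g : Matrix.SpecialLinearGroup (Fin m) F,
      M * fromBlocks g.1 0 0 (tauN g).1 = fromBlocks g.1 0 0 (tauN g).1 * M := fun g => by
    have := hcom ⟨levO g, X.levO_mem g⟩
    rwa [oVal_levO] at this
  rw [← fromBlocks_toBlocks M] at hlev ⊢
  set A := M.toBlocks₁₁
  set B := M.toBlocks₁₂
  set C := M.toBlocks₂₁
  set D := M.toBlocks₂₂
  have hn : ∀ (i j : Fin m), Matrix.single i j (-1 : F) = -Matrix.single i j 1 := fun i j => by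
    ext k l
    simp only [Matrix.single_apply, Matrix.neg_apply]
    split_ifs <;> simp
  have ht : ∀ (i j : Fin m), i ≠ j → Commute (Matrix.single i j (1 : F)) A ∧
      Commute (Matrix.single i j (1 : F)) D ∧
      B * Matrix.single j i 1 = -(Matrix.single i j 1 * B) ∧
      C * Matrix.single i j 1 = -(Matrix.single j i 1 * C) := by
    intro i j hij
    have h := hlev (tvN i j hij 1)
    rw [tauN_tv, tvN_val, tvN_val, transvection, transvection, fromBlocks_multiply, fromBlocks_multiply,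
      fromBlocks_inj] at h
    simp only [mul_add, add_mul, mul_one, one_mul, mul_zero, zero_mul, add_zero, zero_add,
      hn, Matrix.mul_neg, Matrix.neg_mul, add_right_inj, neg_inj] at h
    obtain ⟨h1, h2, h3, h4⟩ := h
    refine ⟨h1.symm, ?_, neg_eq_iff_eq_neg.1 h2, h3⟩
    · have h := hlev (tvN j i hij.symm 1)
      rw [tauN_tv, tvN_val, tvN_val, transvection, transvection, fromBlocks_multiply, fromBlocks_multiply,
        fromBlocks_inj] at h
      simp only [mul_add, add_mul, mul_one, one_mul, mul_zero, zero_mul, add_zero, zero_add,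
        hn, Matrix.mul_neg, Matrix.neg_mul, add_right_inj, neg_inj] at h
      exact h.2.2.2.symm
  have hA : ∃ a, A = Matrix.scalar (Fin m) a := by
    obtain ⟨a, ha⟩ := Matrix.mem_range_scalar_of_commute_single fun i j hij => (ht i j hij).1
    exact ⟨a, ha.symm⟩
  have hD : ∃ a, D = Matrix.scalar (Fin m) a := by
    obtain ⟨a, ha⟩ := Matrix.mem_range_scalar_of_commute_single fun i j hij => (ht i j hij).2.1
    exact ⟨a, ha.symm⟩
  have hzero : ∀ (N : Matrix (Fin m) (Fin m) F),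
      (∀ i j : Fin m, i ≠ j → N * Matrix.single j i 1 = -(Matrix.single i j 1 * N)) → N = 0 := by
    intro N hN
    ext j l
    obtain ⟨i, hij, hil⟩ : ∃ i : Fin m, i ≠ j ∧ i ≠ l := by
      by_contra hne
      push Not at hne
      have h1 : (Finset.univ : Finset (Fin m)) ⊆ {j, l} := fun k _ => by
        simp only [Finset.mem_insert, Finset.mem_singleton]
        exact or_iff_not_imp_left.2 (hne k)
      have h2 := Finset.card_le_card h1
      rw [Finset.card_univ, Fintype.card_fin] at h2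
      have := Finset.card_le_two (a := j) (b := l)
      have := X.hm
      omega
    have h := congrFun (congrFun (hN i j hij) i) l
    rw [Matrix.mul_single_apply_of_ne (hbj := hil.symm)] at h
    simpa using h.symm
  have hB : B = 0 := hzero B fun i j hij => (ht i j hij).2.2.1
  have hC : C = 0 := hzero C fun i j hij => by
    have := (ht j i hij.symm).2.2.2
    exact this
  obtain ⟨α, hα⟩ := hA
  obtain ⟨δ, hδ⟩ := hD
  have hs := hcom ⟨(X.trueData (F := F)).x 1, by
    rw [X.omega_eq]; exact Subgroup.mem_sup_right ⟨upSL 1, SkewData.nd_up _ 1⟩⟩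
  rw [X.trueData_x, ← fromBlocks_toBlocks M] at hs
  change fromBlocks A B C D * _ = _ * fromBlocks A B C D at hs
  rw [hB, hC, hα, hδ, fromBlocks_multiply, fromBlocks_multiply, fromBlocks_inj] at hs
  have hαδ : α = δ := by
    have h := congrFun (congrFun hs.2.1 X.a) X.b
    simpa [wB_apply, X.hab, Matrix.scalar, Matrix.diagonal_mul, Matrix.mul_diagonal] using h
  subst hαδ
  rw [hB, hC, hα, hδ]
  have hq := ((z : OGp m F)).2 (Pi.single (Sum.inl X.a) 1 + Pi.single (Sum.inr X.a) 1) 0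
  change Cfsg.quadFormPlus m F (oVal (z : OGp m F) *ᵥ _) = _ at hq
  rw [← hM, ← fromBlocks_toBlocks M] at hq
  change Cfsg.quadFormPlus m F (fromBlocks A B C D *ᵥ _) = _ at hq
  rw [hB, hC, hα, hδ] at hq
  have e1 : (fromBlocks (Matrix.scalar (Fin m) α) 0 0 (Matrix.scalar (Fin m) α) :
      Matrix (Fin m ⊕ Fin m) (Fin m ⊕ Fin m) F) = α • 1 := by
    rw [← fromBlocks_one, fromBlocks_smul, smul_zero]
    simp [Matrix.scalar, Matrix.smul_one_eq_diagonal]
  rw [e1] at hq ⊢
  simp [Cfsg.quadFormPlus, Pi.single_apply, Matrix.smul_mulVec, mul_add, add_mul] at hq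
  rcases mul_self_eq_one_iff.1 hq with h | h <;> rw [h]
  · left; rw [one_smul]
  · right; rw [neg_one_smul]

theorem exists_center_gen (X : Frame m) : ∃ z : OmP m F,
    QuotientGroup.mk' (Subgroup.center (OmP m F)) z = 1 ∧
      ∀ x, QuotientGroup.mk' (Subgroup.center (OmP m F)) x = 1 → x ∈ Subgroup.zpowers z := by
  classical
  have hinj : Function.Injective fun z : OmP m F => oVal (z : OGp m F) :=
    oVal_injective.comp Subtype.val_injective
  by_cases h : ∃ z : OmP m F, z ∈ Subgroup.center (OmP m F) ∧ z ≠ 1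
  · obtain ⟨z, hz, hne⟩ := h
    refine ⟨z, (QuotientGroup.eq_one_iff _).2 hz, fun x hx => ?_⟩
    have hx' := (QuotientGroup.eq_one_iff _).1 hx
    have e1 : oVal ((1 : OmP m F) : OGp m F) = 1 := map_one _
    have hz' : oVal (z : OGp m F) = -1 := (center_val X hz).resolve_left fun e => hne (hinj (e.trans e1.symm))
    rcases center_val X hx' with e | e
    · rw [show x = 1 from hinj (e.trans e1.symm)]; exact one_mem _
    · rw [show x = z from hinj (e.trans hz'.symm)]; exact Subgroup.mem_zpowers z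
  · push Not at h
    refine ⟨1, map_one _, fun x hx => ?_⟩
    rw [h x ((QuotientGroup.eq_one_iff _).1 hx)]; exact one_mem _

open Cfsg.Agent.Lie.SLnSeven (to_fin presOn_pad quot_cyclic)

theorem presOn_omega (n : ℕ) (hn : 4 ≤ n) :
    (∃ w : Fin 8 → OmP n F, PresOn w 31) ∧ (n ≤ 5 → ∃ w : Fin 8 → OmP n F, PresOn w 29) := by
  classical
  obtain ⟨p, hpc⟩ := CharP.exists F
  obtain ⟨_, hp, -⟩ := FiniteField.card F p
  haveI := Fact.mk hp
  let X := stdFrame hn
  rcases (show n = 4 ∨ n = 5 ∨ n = 6 ∨ 7 ≤ n by omega) with rfl | rfl | rfl | h7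
  · obtain ⟨v, hv⟩ := SLnSix.presOn_four (F := F)
    obtain ⟨w₁, h₁⟩ := to_fin (X.presOn_four rfl hv p)
    obtain ⟨w₂, h₂⟩ := to_fin (presOn_pad h₁)
    obtain ⟨w₃, h₃⟩ := to_fin (presOn_pad h₂)
    exact ⟨⟨w₃, h₃.mono (by norm_num)⟩, fun _ => ⟨w₃, h₃.mono (by norm_num)⟩⟩
  · obtain ⟨v, hv⟩ := SLnSix.presOn_five (F := F)
    obtain ⟨w₁, h₁⟩ := to_fin (X.presOn_big le_rfl hv p)
    obtain ⟨w₂, h₂⟩ := to_fin (presOn_pad h₁)
    obtain ⟨w₃, h₃⟩ := to_fin (presOn_pad h₂)
    exact ⟨⟨w₃, h₃.mono (by norm_num)⟩, fun _ => ⟨w₃, h₃.mono (by norm_num)⟩⟩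
  · obtain ⟨v, hv⟩ := SLnSix.presOn_six (F := F)
    obtain ⟨w₁, h₁⟩ := to_fin (X.presOn_big (by norm_num) hv p)
    obtain ⟨w₂, h₂⟩ := to_fin (presOn_pad h₁)
    obtain ⟨w₃, h₃⟩ := to_fin (presOn_pad h₂)
    exact ⟨⟨w₃, h₃.mono (by norm_num)⟩, fun h => absurd h (by norm_num)⟩
  · obtain ⟨v, hv⟩ := SLnSix.presOn_seven (F := F) n h7
    obtain ⟨w₁, h₁⟩ := to_fin (X.presOn_big (by omega) hv p)
    obtain ⟨w₂, h₂⟩ := to_fin (presOn_pad h₁)
    exact ⟨⟨w₂, h₂.mono (by norm_num)⟩, fun h => absurd h (by omega)⟩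

theorem presOn_quot {n : ℕ} (hn : 4 ≤ n) {w : Fin 8 → OmP n F} {r : ℕ} (h : PresOn w r) :
    ∃ w' : Fin 8 → Cfsg.POmega F (Cfsg.quadFormPlus n F), PresOn w' (r + 1) := by
  obtain ⟨z, hz, hker⟩ := exists_center_gen (F := F) (stdFrame hn)
  exact ⟨_, quot_cyclic h (QuotientGroup.mk' _) (QuotientGroup.mk'_surjective _) z hz hker⟩

end Cfsg.Agent.Lie.OmegaPlus
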