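import Cfsg.Agent.Lib.Lie.CurtisTitsOrth
import Cfsg.Agent.Lib.Lie.OmegaPlusImage

/-! The exchange of two hyperbolic pairs as a product of root elements. -/

set_option autoImplicit false
set_option linter.unusedSectionVars false
set_option maxHeartbeats 1000000

namespace Cfsg.Agent.Lie.OmegaPlus

open Matrix Cfsg.Agent.Lie.Chev Cfsg.Agent.Lie.CurtisTitsA
open scoped MatrixGroups

variable {F : Type*} [Field F] {m : ℕ}

/-- The Weyl element of `SL₂`. -/
def wSL : SL(2, F) := upSL 1 * loSL (-1) * upSL 1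

theorem wSL_sq : (wSL : SL(2, F)) * wSL = diag2 (-1) := by
  refine ext_two ?_ ?_ ?_ ?_ <;>
    simp [wSL, mul_val, upSL_val, loSL_val, diag2_val, Matrix.mul_apply, Fin.sum_univ_two]

theorem wSL_inv : (wSL : SL(2, F))⁻¹ = upSL (-1) * loSL 1 * upSL (-1) := by
  refine inv_eq_of_mul_eq_one_right (ext_two ?_ ?_ ?_ ?_) <;>
    simp [wSL, mul_val, val_oneN, upSL_val, loSL_val, Matrix.mul_apply, Fin.sum_univ_two]

theorem wB_single (a b : Fin m) :
    (wB a b : Matrix (Fin m) (Fin m) F) = Matrix.single a b 1 - Matrix.single b a 1 := by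
  rw [wB, wedge, ← Matrix.single_eq_single_vecMulVec_single, ← Matrix.single_eq_single_vecMulVec_single]

theorem wB_mul_self {a b : Fin m} (h : a ≠ b) :
    -((wB a b : Matrix (Fin m) (Fin m) F) * wB a b) = Matrix.single a a 1 + Matrix.single b b 1 := by
  simp [wB_single, sub_mul, mul_sub, single_mul_single_of_ne, h, Ne.symm h]

theorem val_ext2_w {a b : Fin m} (hab : a ≠ b) :
    (ext2 a b hab (wSL : SL(2, F))).1 = 1 + wB a b * wB a b + wB a b := by
  rw [show 1 + wB a b * wB a b + (wB a b : Matrix (Fin m) (Fin m) F) =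
    1 - -(wB a b * wB a b) + wB a b by abel, wB_mul_self hab, wB_single]
  simp only [wSL, map_mul, ext2_up, ext2_lo, val_mulN, tvN_val, transvection]
  simp only [add_mul, mul_add, one_mul, mul_one, single_mul_single_same,
    single_mul_single_of_ne _ _ _ _ hab, single_mul_single_of_ne _ _ _ _ (Ne.symm hab)]
  ext i j
  simp [Matrix.single_apply, Matrix.one_apply]
  split_ifs <;> simp_all

theorem tau_wSL : tauN (wSL : SL(2, F)) = wSL := by
  refine ext_two ?_ ?_ ?_ ?_ <;>
    simp [tauN_val, wSL_inv, wSL, mul_val, upSL_val, loSL_val, Matrix.mul_apply, Fin.sum_univ_two]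

/-- The exchange of the pairs at `a` and `b`. -/
def swapPair (a b : Fin m) (hab : a ≠ b) : OGp m F :=
  levO (ext2 a b hab wSL) * swO b (levO (ext2 a b hab wSL⁻¹))

theorem oVal_swapPair {a b : Fin m} (hab : a ≠ b) :
    oVal (swapPair (F := F) a b hab) = fromBlocks (1 + wB a b * wB a b) (-(wB a b * wB a b))
      (-(wB a b * wB a b)) (1 + wB a b * wB a b) := by
  set S : Matrix (Fin m) (Fin m) F := wB a b with hS
  have hS3 : S * S * S = -S := wB_cube hab
  have hQ1 : (1 + S * S) * S = 0 := by rw [add_mul, one_mul, hS3, add_neg_cancel]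
  have hQ2 : S * (1 + S * S) = 0 := by rw [mul_add, mul_one, ← mul_assoc, hS3, add_neg_cancel]
  have hQ3 : (1 + S * S) * (1 + S * S) = 1 + S * S := by
    rw [mul_add, mul_one, ← mul_assoc, hQ1, zero_mul, add_zero]
  have hr : oVal (levO (ext2 a b hab (wSL : SL(2, F)))) =
      fromBlocks (1 + S * S + S) 0 0 (1 + S * S + S) := by
    rw [oVal_levO, tau_ext2, tau_wSL, val_ext2_w hab]
  have hr' : oVal (swO b (levO (ext2 a b hab (wSL : SL(2, F))⁻¹))) =
      fromBlocks (1 + S * S) (-S) (-S) (1 + S * S) := by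
    have el : tvN b a hab.symm (1 : F) = tvN b a hab.symm (- (-1)) := by rw [neg_neg]
    rw [wSL_inv]
    simp only [map_mul, ext2_up, ext2_lo]
    rw [oVal_sw_up hab, el, oVal_sw_lo hab, fromBlocks_multiply, fromBlocks_multiply]
    simp only [one_mul, mul_one, zero_mul, mul_zero, add_zero, zero_add, neg_one_smul, neg_mul_neg]
    congr 1
    · rw [mul_neg, ← neg_mul, neg_add, ← hS]
      rw [add_mul, neg_mul, one_mul, neg_mul, hS3]
      abel
    · rw [hS, add_comm]
  rw [swapPair, map_mul, hr, hr', fromBlocks_multiply]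
  simp only [zero_mul, add_zero, zero_add, add_mul _ S, hQ3, hQ1, hQ2, mul_neg, neg_zero]

/-- The exchange of the pairs at `b` and `d`. -/
def swapAt (a b : Fin m) (hab : a ≠ b) (g : Matrix.SpecialLinearGroup (Fin m) F) : OGp m F :=
  levO g * swapPair a b hab * (levO g)⁻¹

theorem oVal_swapAt {a b d : Fin m} (hab : a ≠ b) (hbd : b ≠ d) {g : Matrix.SpecialLinearGroup (Fin m) F}
    (hg : tauN g = g) (ha : g.1 *ᵥ Pi.single a 1 = Pi.single b 1) (hb : g.1 *ᵥ Pi.single b 1 = Pi.single d 1) :
    oVal (swapAt a b hab g) = fromBlocks (1 - (Matrix.single b b 1 + Matrix.single d d 1))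
      (Matrix.single b b 1 + Matrix.single d d 1) (Matrix.single b b 1 + Matrix.single d d 1)
      (1 - (Matrix.single b b 1 + Matrix.single d d 1)) := by
  have hK : cg g (wB a b) = (wB b d : Matrix (Fin m) (Fin m) F) := by rw [cg_wB, ha, hb]; rfl
  have ht : (g⁻¹).1 = g.1ᵀ := by
    have := congrArg (fun x : Matrix.SpecialLinearGroup (Fin m) F => x.1) hg
    simp only [tauN_val] at this
    rw [← transpose_transpose (g⁻¹).1, this]
  have hgg : g.1ᵀ * g.1 = 1 := by rw [← ht, ← val_mulN, inv_mul_cancel, val_oneN]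
  have hgg' : g.1 * g.1ᵀ = 1 := by rw [← ht, ← val_mulN, mul_inv_cancel, val_oneN]
  have e2 : g.1 * (wB a b * wB a b) * g.1ᵀ = wB b d * wB b d := by
    rw [← hK, cg]
    calc g.1 * (wB a b * wB a b) * g.1ᵀ = g.1 * wB a b * (g.1ᵀ * g.1) * (wB a b * g.1ᵀ) := by
          rw [hgg]; simp only [mul_one, Matrix.mul_assoc]
      _ = _ := by simp only [Matrix.mul_assoc]
  rw [swapAt, ← map_inv, map_mul, map_mul, oVal_levO, oVal_levO, oVal_swapPair, map_inv, hg,
    fromBlocks_multiply, fromBlocks_multiply, ht, ← wB_mul_self hbd]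
  simp only [zero_mul, mul_zero, add_zero, zero_add, mul_add, add_mul, mul_one, hgg', Matrix.mul_neg,
    Matrix.neg_mul, e2, sub_neg_eq_add]

section

variable {b d : Fin m} (hbd : b ≠ d) {t : OGp m F}
  (ht : oVal t = fromBlocks (1 - (Matrix.single b b 1 + Matrix.single d d 1))
      (Matrix.single b b 1 + Matrix.single d d 1) (Matrix.single b b 1 + Matrix.single d d 1)
      (1 - (Matrix.single b b 1 + Matrix.single d d 1)))

include hbd ht in
theorem swap_sq : t * t = 1 := by
  apply oVal_injective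
  rw [map_mul, map_one, ht, fromBlocks_multiply, ← fromBlocks_one]
  have hP : (Matrix.single b b (1 : F) + Matrix.single d d 1) * (Matrix.single b b 1 + Matrix.single d d 1) =
      Matrix.single b b 1 + Matrix.single d d 1 := by
    simp [add_mul, mul_add, single_mul_single_of_ne, hbd, Ne.symm hbd]
  congr 1 <;> simp only [sub_mul, mul_sub, one_mul, mul_one, hP] <;> abel

include ht in
theorem swap_commute {i j : Fin m} (hij : i ≠ j) (hib : i ≠ b) (hid : i ≠ d) (hjb : j ≠ b) (hjd : j ≠ d)
    (u : F) : Commute (levO (tvN i j hij u)) t := by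
  apply oVal_injective
  rw [map_mul, map_mul, ht, oVal_levO, tauN_tv, tvN_val, tvN_val, transvection, transvection,
    fromBlocks_multiply, fromBlocks_multiply]
  congr 1 <;>
    simp [add_mul, mul_add, sub_mul, mul_sub, single_mul_single_of_ne, hib, hid, hjb, hjd,
      Ne.symm hib, Ne.symm hid, Ne.symm hjb, Ne.symm hjd] <;> abel

include hbd ht in
theorem swap_conj_tv {a : Fin m} (hab : a ≠ b) (had : a ≠ d) (u : F) :
    t * levO (tvN a b hab u) = swO b (levO (tvN a b hab u)) * t ∧
    t * levO (tvN b a hab.symm u) = swO b (levO (tvN b a hab.symm u)) * t := by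
  constructor
  · apply oVal_injective
    rw [map_mul, map_mul, ht, oVal_levO, oVal_sw_up hab, tauN_tv, tvN_val, tvN_val, transvection,
      transvection, fromBlocks_multiply, fromBlocks_multiply, wB_single]
    congr 1 <;>
      simp [add_mul, mul_add, sub_mul, mul_sub, smul_sub, single_mul_single_of_ne, hab, had, hbd,
        Ne.symm hab, Ne.symm had, Ne.symm hbd, Matrix.single_neg, Matrix.smul_single] <;> abel
  · apply oVal_injective
    rw [map_mul, map_mul, ht, oVal_levO, show u = -(-u) by rw [neg_neg], oVal_sw_lo hab, tauN_tv, tvN_val,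
      tvN_val, transvection, transvection, fromBlocks_multiply, fromBlocks_multiply, wB_single]
    congr 1 <;>
      simp [add_mul, mul_add, sub_mul, mul_sub, smul_sub, single_mul_single_of_ne, hab, had, hbd,
        Ne.symm hab, Ne.symm had, Ne.symm hbd, Matrix.single_neg, Matrix.smul_single] <;> abel

include hbd ht in
theorem swap_conj_ext2 {a : Fin m} (hab : a ≠ b) (had : a ≠ d) (x : SL(2, F)) :
    t * levO (ext2 a b hab x) * t⁻¹ = swO b (levO (ext2 a b hab x)) := by
  have e : ((MulAut.conj t).toMonoidHom.comp (levO.comp (ext2 a b hab))) =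
      (swO (F := F) b).comp ((levO (F := F)).comp (ext2 a b hab)) := by
    refine hom_ext2 (fun u => ?_) fun u => ?_
    · show t * levO (ext2 a b hab (upSL u)) * t⁻¹ = swO b (levO (ext2 a b hab (upSL u)))
      rw [ext2_up, mul_inv_eq_iff_eq_mul]
      exact (swap_conj_tv hbd ht hab had u).1
    · show t * levO (ext2 a b hab (loSL u)) * t⁻¹ = swO b (levO (ext2 a b hab (loSL u)))
      rw [ext2_lo, mul_inv_eq_iff_eq_mul]
      exact (swap_conj_tv hbd ht hab had u).2
  exact DFunLike.congr_fun e x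

include hbd ht in
theorem swap_conj_ext3 {a cc : Fin m} (hca : cc ≠ a) (hcb : cc ≠ b) (hab : a ≠ b) (had : a ≠ d) (hcd : cc ≠ d)
    (x : SL(3, F)) :
    t * levO (ext3 cc a b hca hcb hab x) * t⁻¹ = swO b (levO (ext3 cc a b hca hcb hab x)) := by
  have hfix : ∀ (i j : Fin m) (hij : i ≠ j), i ≠ b → i ≠ d → j ≠ b → j ≠ d → ∀ u,
      t * levO (tvN i j hij u) * t⁻¹ = swO b (levO (tvN i j hij u)) := fun i j hij h1 h2 h3 h4 u => by
    rw [sw_fix_tv hij h1 h3, ← (swap_commute ht hij h1 h2 h3 h4 u).eq, mul_inv_cancel_right]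
  have e : ((MulAut.conj t).toMonoidHom.comp (levO.comp (ext3 cc a b hca hcb hab))) =
      (swO (F := F) b).comp ((levO (F := F)).comp (ext3 cc a b hca hcb hab)) := by
    refine hom_ext_adjacent fun i j hij ha u => ?_
    show t * levO (ext3 cc a b hca hcb hab (tvN i j hij u)) * t⁻¹ = _
    rw [MonoidHom.comp_apply, MonoidHom.comp_apply, ext3_tv]
    fin_cases i <;> fin_cases j <;> simp at ha hij <;> first
      | exact hfix cc a hca hcb hcd hab had u
      | exact hfix a cc hca.symm hab had hcb hcd u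
      | exact (mul_inv_eq_iff_eq_mul.2 (swap_conj_tv hbd ht hab had u).1)
      | exact (mul_inv_eq_iff_eq_mul.2 (swap_conj_tv hbd ht hab had u).2)
  exact DFunLike.congr_fun e x

end

end Cfsg.Agent.Lie.OmegaPlus
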