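import Cfsg.Agent.Lib.Classical.OrthDickson

/-! In characteristic two, membership of `Ω` is the parity of `rank (g - 1)`. -/

set_option autoImplicit false

namespace Cfsg.Agent.Lie.OmegaRankParity

open Cfsg.Agent.Classical Cfsg.Agent.Classical.OrthAut

theorem mem_omega_iff_even {F : Type*} [Field F] [Fintype F] {ι : Type} [Fintype ι] [DecidableEq ι]
    {Q : QuadraticForm F (ι → F)} (h2 : (2 : F) = 0) (hQ : (QuadraticMap.polarBilin Q).Nondegenerate) (hT : Tri Q)
    (g : isometryGroup F ⇑Q) : g ∈ Omega F ⇑Q ↔ Even (ogVal g - 1).rank := by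
  have hrk : (ogVal g - 1).rank + Module.finrank F (fixSub g) = Fintype.card ι := by
    have h : (ogVal g - 1).mulVecLin = moveLin g := LinearMap.ext fun x => by
      rw [Matrix.mulVecLin_apply, Matrix.sub_mulVec, Matrix.one_mulVec, moveLin_apply]
    rw [Matrix.rank, h, fixSub, LinearMap.finrank_range_add_finrank_ker, Module.finrank_pi]
  rw [mem_omega_iff_dick hQ hT h2, dick, ← hrk, add_assoc, ← two_mul, pow_add, pow_mul, Int.units_sq, one_pow,
    mul_one]
  rcases Nat.even_or_odd (ogVal g - 1).rank with he | ho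
  · simp [he.neg_one_pow, he]
  · simp [ho.neg_one_pow, Nat.not_even_iff_odd.2 ho]

end Cfsg.Agent.Lie.OmegaRankParity
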