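import Cfsg.Agent.Lib.Classical.OrthSingular
import Cfsg.Agent.Lib.Classical.OrthDickson
import Cfsg.Agent.Lib.Lie.OmegaRankParity

/-! In characteristic two an involution class of `O` inside `Ω` splits only if its fixed space is totally singular
of half the dimension, and then by the parity of the intersection of the fixed spaces. -/

set_option autoImplicit false
set_option quotPrecheck false

namespace Cfsg.Agent.Lie.OmegaSplit

open Cfsg.Agent.Classical Cfsg.Agent.Classical.OrthAut Matrix Module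

variable {F : Type*} [Field F] [Fintype F] {ι : Type} [Fintype ι] [DecidableEq ι] {Q : QuadraticForm F (ι → F)}
  (h2 : (2 : F) = 0) (hQ : (QuadraticMap.polarBilin Q).Nondegenerate) (hT : Tri Q)

local notation "B" => QuadraticMap.polar ⇑Q
local notation "OG" => isometryGroup F ⇑Q

theorem rank_eq (t : OG) : (ogVal t - 1).rank = finrank F (LinearMap.range (moveLin t)) ∧
    LinearMap.range (Matrix.toLin' (ogVal t - 1)) = LinearMap.range (moveLin t) := by
  have h : (ogVal t - 1).mulVecLin = moveLin t := LinearMap.ext fun x => by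
    rw [Matrix.mulVecLin_apply, Matrix.sub_mulVec, Matrix.one_mulVec, moveLin_apply]
  exact ⟨by rw [Matrix.rank, h], by rw [Matrix.toLin'_apply', h]⟩

include hQ in
theorem range_of_half {t : OG} (hU : Half Q (fixSub t)) : LinearMap.range (moveLin t) = fixSub t := by
  rw [range_moveLin hQ]
  exact le_antisymm (fun x hx => half_orth hQ hU fun u hu => hx u hu) fun x hx u hu => half_polar hU hu hx

include h2 in
theorem range_le_fix {t : OG} (ht : t * t = 1) : LinearMap.range (moveLin t) ≤ fixSub t := by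
  rintro _ ⟨x, rfl⟩
  rw [mem_fixSub, moveLin_apply, Matrix.mulVec_sub, Matrix.mulVec_mulVec, ← ogVal_mul, ht, ogVal_one,
    Matrix.one_mulVec]
  linear_combination (norm := module) h2 • (x - ogVal t *ᵥ x)

include h2 hQ in
theorem half_iff {t : OG} (ht : t * t = 1) {m : ℕ} (hm : Fintype.card ι = m + m) :
    Half Q (fixSub t) ↔ (ogVal t - 1).rank = m ∧ ∀ v, Q (v + ogVal t *ᵥ v) = 0 := by
  have hdim := LinearMap.finrank_range_add_finrank_ker (moveLin t)
  rw [show LinearMap.ker (moveLin t) = fixSub t from rfl, Module.finrank_pi, hm] at hdim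
  have hmv : ∀ v, v + ogVal t *ᵥ v = moveLin t v := fun v => by
    rw [moveLin_apply]; linear_combination (norm := module) h2 • v
  constructor
  · intro hU
    refine ⟨?_, fun v => ?_⟩
    · rw [(rank_eq t).1, range_of_half hQ hU]
      have := hU.2; omega
    · rw [hmv]
      exact hU.1 _ (range_le_fix h2 ht ⟨v, rfl⟩)
  · rintro ⟨hr, hs⟩
    rw [(rank_eq t).1] at hr
    have he : LinearMap.range (moveLin t) = fixSub t :=
      Submodule.eq_of_le_of_finrank_le (range_le_fix h2 ht) (by omega)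
    refine ⟨fun u hu => ?_, by omega⟩
    rw [← he] at hu
    obtain ⟨v, rfl⟩ := hu
    rw [← hmv]
    exact hs v

include h2 hQ hT in
/-- Off the exceptional classes, conjugate involutions are conjugate in `Ω`. -/
theorem exists_conj {t s : OG} (ht : t * t = 1) (hconj : IsConj t s) (hne : ¬ Half Q (fixSub t)) :
    ∃ g ∈ Omega F ⇑Q, g * t * g⁻¹ = s := by
  obtain ⟨v, hv, hQv⟩ : ∃ v ∈ fixSub t, Q v ≠ 0 := by
    by_contra hcon
    push Not at hcon
    refine hne ⟨hcon, ?_⟩
    have hle : fixSub t ≤ LinearMap.range (moveLin t) := by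
      rw [range_moveLin hQ]
      intro x hx u hu
      show B u x = 0
      rw [QuadraticMap.polar, hcon _ (add_mem hu hx), hcon _ hu, hcon _ hx]; ring
    have hdim := LinearMap.finrank_range_add_finrank_ker (moveLin t)
    rw [show LinearMap.ker (moveLin t) = fixSub t from rfl, Module.finrank_pi,
      le_antisymm (range_le_fix h2 ht) hle] at hdim
    omega
  have hc : t * refl hQv = refl hQv * t := by
    refine Subtype.ext (Units.ext (Matrix.ext_iff_mulVec.2 fun x => ?_))
    show ogVal (t * refl hQv) *ᵥ x = ogVal (refl hQv * t) *ᵥ x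
    rw [ogVal_mul, ogVal_mul, ← Matrix.mulVec_mulVec, ← Matrix.mulVec_mulVec, refl_apply, refl_apply,
      Matrix.mulVec_sub, Matrix.mulVec_smul, mem_fixSub.1 hv]
    congr 3
    conv_rhs => rw [← mem_fixSub.1 hv]
    rw [isometry_polar (ogVal_quad t)]
  obtain ⟨h, hh⟩ := isConj_iff.1 hconj
  rcases Int.units_eq_one_or (dick h) with hd | hd
  · exact ⟨h, (mem_omega_iff_dick hQ hT h2 h).2 hd, hh⟩
  · refine ⟨h * refl hQv, (mem_omega_iff_dick hQ hT h2 _).2 ?_, ?_⟩
    · rw [dick_mul hQ hT, hd, dick_refl hQ hQv]; rfl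
    · rw [← hh, _root_.mul_inv_rev]
      simp only [mul_assoc]
      rw [← mul_assoc (refl hQv) t, ← hc, mul_assoc t, mul_inv_cancel_left]

theorem image_fixSub {t s h : OG} (hh : h * t * h⁻¹ = s) :
    imageSubmodule (ogVal h) (fixSub t) = fixSub s := by
  have key : ∀ x, ogVal s *ᵥ (ogVal h *ᵥ x) = ogVal h *ᵥ (ogVal t *ᵥ x) := fun x => by
    rw [Matrix.mulVec_mulVec, Matrix.mulVec_mulVec, ← ogVal_mul, ← ogVal_mul, ← hh, inv_mul_cancel_right]
  have hinv : ∀ x, ogVal h *ᵥ (ogVal h⁻¹ *ᵥ x) = x := fun x => by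
    rw [Matrix.mulVec_mulVec, ← ogVal_mul, mul_inv_cancel, ogVal_one, Matrix.one_mulVec]
  have hinv' : ∀ x, ogVal h⁻¹ *ᵥ (ogVal h *ᵥ x) = x := fun x => by
    rw [Matrix.mulVec_mulVec, ← ogVal_mul, inv_mul_cancel, ogVal_one, Matrix.one_mulVec]
  ext y
  rw [mem_imageSubmodule]
  constructor
  · rintro ⟨x, hx, rfl⟩
    rw [mem_fixSub, key, mem_fixSub.1 hx]
  · intro hy
    refine ⟨ogVal h⁻¹ *ᵥ y, mem_fixSub.2 ?_, hinv y⟩
    have := key (ogVal h⁻¹ *ᵥ y)
    rw [hinv, mem_fixSub.1 hy] at this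
    conv_rhs => rw [this]
    rw [hinv']

include h2 hQ hT in
/-- On an exceptional class, conjugacy in `Ω` is the parity of the intersection of the fixed spaces. -/
theorem conj_iff_even {t s : OG} (hconj : IsConj t s) (htO : t ∈ Omega F ⇑Q) (hU : Half Q (fixSub t)) :
    (∃ g ∈ Omega F ⇑Q, g * t * g⁻¹ = s) ↔
      Even (finrank F ↥(LinearMap.range (moveLin t) ⊓ LinearMap.range (moveLin s))) := by
  obtain ⟨h, hh⟩ := isConj_iff.1 hconj
  have hW : Half Q (fixSub s) := image_fixSub hh ▸ half_image_og h hU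
  have heven : Even (finrank F (fixSub t)) := by
    have := (OmegaRankParity.mem_omega_iff_even h2 hQ hT t).1 htO
    rwa [(rank_eq t).1, range_of_half hQ hU] at this
  rw [range_of_half hQ hU, range_of_half hQ hW]
  have hp : ∀ g : OG, g * t * g⁻¹ = s →
      (g ∈ Omega F ⇑Q ↔ Even (finrank F ↥(fixSub t ⊓ fixSub s))) := fun g hg => by
    have h1 := pSign_image hQ hT hU hU g
    rw [image_fixSub hg, pSign_self, mul_one] at h1
    rw [mem_omega_iff_dick hQ hT h2, ← h1, pSign]
    rcases Nat.even_or_odd (finrank F ↥(fixSub t ⊓ fixSub s)) with he | ho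
    · simp [he, (heven.add he).neg_one_pow]
    · simp [Nat.not_even_iff_odd.2 ho, (heven.add_odd ho).neg_one_pow]
  exact ⟨fun ⟨g, hg, hgs⟩ => (hp g hgs).1 hg, fun he => ⟨h, (hp h hh).2 he, hh⟩⟩

end Cfsg.Agent.Lie.OmegaSplit
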