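import Mathlib

/-! Arithmetic for the bound `|G| < q^{3N}`, `|G|^3 < q^{8N}` on groups of Lie type. -/

set_option autoImplicit false

namespace Cfsg.Agent.Lie.OrderBound

theorem exists_q {F : Type*} [Field F] [Fintype F] (p : ℕ) [CharP F p] :
    ∃ f : ℕ, 1 ≤ f ∧ Fintype.card F = p ^ f := by
  obtain ⟨n, -, hn⟩ := FiniteField.card F p
  exact ⟨n, n.pos, hn⟩

/-- The general estimate. -/
theorem bound {g q f p N M c P : ℕ} (hp : p.Prime) (hq : q = p ^ f) (hg : g ≠ 0)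
    (h : c * g = q ^ N * P) (hc : ¬ p ∣ c) (hP : P < q ^ M) (h1 : M ≤ 2 * N) :
    g < p ^ (3 * g.factorization p) ∧ (3 * M ≤ 5 * N → g ^ 3 < p ^ (8 * g.factorization p)) := by
  have hq0 : 0 < q := hq ▸ pow_pos hp.pos _
  have hk : f * N ≤ g.factorization p := by
    rw [← hp.pow_dvd_iff_le_factorization hg, pow_mul, ← hq]
    refine Nat.Coprime.dvd_of_dvd_mul_left ?_ (h ▸ Dvd.intro P rfl : q ^ N ∣ c * g)
    rw [hq, ← pow_mul]
    exact Nat.Coprime.pow_left _ (hp.coprime_iff_not_dvd.2 hc)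
  have hc1 : 1 ≤ c := Nat.one_le_iff_ne_zero.2 fun e => hc (e ▸ dvd_zero p)
  have hlt : g < q ^ (N + M) := by
    calc g ≤ c * g := Nat.le_mul_of_pos_left g hc1
      _ = q ^ N * P := h
      _ < q ^ N * q ^ M := Nat.mul_lt_mul_of_pos_left hP (pow_pos hq0 _)
      _ = q ^ (N + M) := (pow_add _ _ _).symm
  have hle : ∀ a b : ℕ, a ≤ b * N → q ^ a ≤ p ^ (b * g.factorization p) := fun a b hab => by
    rw [hq, ← pow_mul]
    exact Nat.pow_le_pow_right hp.pos ((Nat.mul_le_mul_left f hab).trans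
      (by rw [Nat.mul_left_comm]; exact Nat.mul_le_mul_left b hk))
  refine ⟨hlt.trans_le (hle _ _ (by omega)), fun h3 => ?_⟩
  calc g ^ 3 < (q ^ (N + M)) ^ 3 := Nat.pow_lt_pow_left hlt (by norm_num)
    _ = q ^ (3 * (N + M)) := by rw [← pow_mul, mul_comm]
    _ ≤ _ := hle _ _ (by omega)

theorem not_dvd_gcd_sub_one {p f n : ℕ} (hp : p.Prime) (hf : 1 ≤ f) :
    ¬ p ∣ Nat.gcd n (p ^ f - 1) := fun h => by
  have h1 : p ∣ p ^ f - 1 := h.trans (Nat.gcd_dvd_right _ _)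
  have h2 : p ∣ p ^ f := dvd_pow_self p (by omega)
  have h3 := Nat.dvd_sub h2 h1
  rw [Nat.sub_sub_self (Nat.one_le_pow _ _ hp.pos)] at h3
  exact hp.not_dvd_one h3

theorem not_dvd_gcd_add_one {p f n : ℕ} (hp : p.Prime) (hf : 1 ≤ f) :
    ¬ p ∣ Nat.gcd n (p ^ f + 1) := fun h => by
  have h1 : p ∣ p ^ f + 1 := h.trans (Nat.gcd_dvd_right _ _)
  exact hp.not_dvd_one ((Nat.dvd_add_right (dvd_pow_self p (by omega : f ≠ 0))).1 h1)

theorem prod_two_mul_lt {q : ℕ} (hq : 2 ≤ q) :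
    ∀ m : ℕ, ∏ i ∈ Finset.range (m + 1), (q ^ (2 * (i + 1)) - 1) < q ^ ((m + 1) * (m + 2))
  | 0 => by simpa using Nat.sub_lt (pow_pos (show 0 < q by omega) 2) one_pos
  | m + 1 => by
    rw [Finset.prod_range_succ, show (m + 1 + 1) * (m + 1 + 2) = (m + 1) * (m + 2) + 2 * (m + 1 + 1) by
      ring, pow_add q ((m + 1) * (m + 2))]
    exact lt_of_lt_of_le (Nat.mul_lt_mul_of_pos_right (prod_two_mul_lt hq m)
      (Nat.sub_pos_of_lt (Nat.one_lt_pow (by omega) (by omega)))) (Nat.mul_le_mul_left _ (Nat.sub_le _ _))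

theorem prod_linear_lt {q : ℕ} (hq : 2 ≤ q) :
    ∀ j : ℕ, ∏ i ∈ Finset.range (j + 1), (q ^ (i + 2) - 1) < q ^ ((j + 1) * (j + 4) / 2)
  | 0 => by simpa using Nat.sub_lt (pow_pos (show 0 < q by omega) 2) one_pos
  | j + 1 => by
    have e : (j + 1 + 1) * (j + 1 + 4) / 2 = (j + 1) * (j + 4) / 2 + (j + 1 + 2) := by
      have : (j + 1 + 1) * (j + 1 + 4) = (j + 1) * (j + 4) + 2 * (j + 1 + 2) := by ring
      rw [this]; omega
    rw [Finset.prod_range_succ, e, pow_add q ((j + 1) * (j + 4) / 2)]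
    exact lt_of_lt_of_le (Nat.mul_lt_mul_of_pos_right (prod_linear_lt hq j)
      (Nat.sub_pos_of_lt (Nat.one_lt_pow (by omega) (by omega)))) (Nat.mul_le_mul_left _ (Nat.sub_le _ _))

/-- The product in the unitary order formula. -/
def unitProd (q j : ℕ) : ℕ :=
  ∏ i ∈ Finset.range j, (if Even (i + 1) then q ^ (i + 2) + 1 else q ^ (i + 2) - 1)

theorem unitProd_le {q : ℕ} (hq : 2 ≤ q) :
    ∀ t : ℕ, unitProd q (2 * t) ≤ q ^ (t * (2 * t + 3)) ∧
      unitProd q (2 * t + 1) < q ^ (t * (2 * t + 3) + (2 * t + 2)) ∧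
      unitProd q (2 * t + 2) < q ^ ((t + 1) * (2 * t + 5)) := by
  have step : ∀ t : ℕ, unitProd q (2 * t) ≤ q ^ (t * (2 * t + 3)) →
      unitProd q (2 * t + 1) < q ^ (t * (2 * t + 3) + (2 * t + 2)) ∧
        unitProd q (2 * t + 2) < q ^ ((t + 1) * (2 * t + 5)) := by
    intro t ht
    have ho : ¬ Even (2 * t + 1) := by simp
    have he : Even (2 * t + 1 + 1) := ⟨t + 1, by omega⟩
    have e1 : unitProd q (2 * t + 1) = unitProd q (2 * t) * (q ^ (2 * t + 2) - 1) := by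
      rw [unitProd, Finset.prod_range_succ, if_neg ho, ← unitProd]
    have e2 : unitProd q (2 * t + 2) =
        unitProd q (2 * t) * ((q ^ (2 * t + 2) - 1) * (q ^ (2 * t + 3) + 1)) := by
      rw [← mul_assoc, ← e1, unitProd, Finset.prod_range_succ, if_pos he, ← unitProd]
    have hpos : 0 < q ^ (t * (2 * t + 3)) := pow_pos (by omega) _
    have hA : q ^ (2 * t + 2) - 1 < q ^ (2 * t + 2) := Nat.sub_lt (pow_pos (by omega) _) one_pos
    constructor
    · rw [e1, pow_add q (t * (2 * t + 3))]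
      exact lt_of_le_of_lt (Nat.mul_le_mul_right _ ht) (Nat.mul_lt_mul_of_pos_left hA hpos)
    · rw [e2, show (t + 1) * (2 * t + 5) = t * (2 * t + 3) + (2 * t + 2 + (2 * t + 3)) by ring,
        pow_add q (t * (2 * t + 3)), pow_add q (2 * t + 2)]
      refine lt_of_le_of_lt (Nat.mul_le_mul_right _ ht) (Nat.mul_lt_mul_of_pos_left ?_ hpos)
      have hab : q ^ (2 * t + 2) < q ^ (2 * t + 3) := Nat.pow_lt_pow_right (by omega) (by omega)
      obtain ⟨a, ha⟩ := Nat.exists_eq_succ_of_ne_zero (pow_ne_zero (2 * t + 2) (by omega : q ≠ 0))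
      rw [ha] at hab ⊢
      simp only [Nat.succ_eq_add_one, Nat.add_sub_cancel] at hab ⊢
      nlinarith
  intro t
  induction t with
  | zero => exact ⟨by simp [unitProd], step 0 (by simp [unitProd])⟩
  | succ t ih =>
    have h := le_of_lt ih.2.2
    rw [show 2 * t + 5 = 2 * (t + 1) + 3 by ring, show 2 * t + 2 = 2 * (t + 1) by ring] at h
    exact ⟨h, step _ h⟩

theorem unitProd_lt {q : ℕ} (hq : 2 ≤ q) (j : ℕ) :
    unitProd q (j + 1) < q ^ ((j + 1) * (j + 4) / 2) := by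
  rcases Nat.even_or_odd' j with ⟨t, rfl | rfl⟩
  · have : (2 * t + 1) * (2 * t + 4) / 2 = t * (2 * t + 3) + (2 * t + 2) := by
      rw [show (2 * t + 1) * (2 * t + 4) = (t * (2 * t + 3) + (2 * t + 2)) * 2 by ring,
        Nat.mul_div_cancel _ two_pos]
    exact this ▸ (unitProd_le hq t).2.1
  · have : (2 * t + 1 + 1) * (2 * t + 1 + 4) / 2 = (t + 1) * (2 * t + 5) := by
      rw [show (2 * t + 1 + 1) * (2 * t + 1 + 4) = (t + 1) * (2 * t + 5) * 2 by ring,
        Nat.mul_div_cancel _ two_pos]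
    exact this ▸ (unitProd_le hq t).2.2

theorem prod_pow_sub {q : ℕ} (n : ℕ) :
    ∏ i : Fin n, (q ^ n - q ^ (i : ℕ)) =
      q ^ (∑ i ∈ Finset.range n, i) * ∏ i ∈ Finset.range n, (q ^ (i + 1) - 1) := by
  rw [Fin.prod_univ_eq_prod_range (fun i => q ^ n - q ^ i) n, ← Finset.prod_pow_eq_pow_sum,
    ← Finset.prod_range_reflect (fun i => q ^ (i + 1) - 1) n, ← Finset.prod_mul_distrib]
  refine Finset.prod_congr rfl fun i hi => ?_
  rw [Finset.mem_range] at hi
  rw [Nat.mul_sub_one, ← pow_add]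
  congr 2
  omega

theorem factorization_eq_of_mul {p f g c P : ℕ} (hp : p.Prime) (hg : g ≠ 0) (hc : ¬ p ∣ c)
    (hP : ¬ p ∣ P) (h : c * g = p ^ f * P) : g.factorization p = f := by
  have hc0 : c ≠ 0 := fun e => hc (e ▸ dvd_zero p)
  have hP0 : P ≠ 0 := fun e => hP (e ▸ dvd_zero p)
  have := congrArg (fun x => x.factorization p) h
  simp only [Nat.factorization_mul hc0 hg, Nat.factorization_mul (pow_ne_zero f hp.ne_zero) hP0,
    Finsupp.add_apply, Nat.factorization_eq_zero_of_not_dvd hc, Nat.factorization_eq_zero_of_not_dvd hP,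
    Nat.factorization_pow, Finsupp.smul_apply, Nat.Prime.factorization_self hp] at this
  simpa using this

end Cfsg.Agent.Lie.OrderBound
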