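import Cfsg.Agent.Lib.Classical.RootOrders
import Cfsg.Agent.Lib.Classical.UnitDichotomy

/-! The bound `(q - 1) |g| ≤ q ^ (m + 1)` for isometries of a non-degenerate form in dimension `2 m (+ 1)`. -/

set_option autoImplicit false

namespace Cfsg.Agent.Lie.OrderBoundForm

open Polynomial Matrix Cfsg.Agent.Classical

/-- Odd multiples: the least common multiple of the `x ^ c + 1`. -/
theorem lcm_odd_mul_le {x : ℕ} (hx : 1 ≤ x) (C : Finset ℕ) (hne : C.Nonempty) (hC : ∀ c ∈ C, Odd c) :
    C.lcm (fun c => x ^ c + 1) * x ≤ x ^ (∑ c ∈ C, c) * (x + 1) := by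
  induction C using Finset.induction_on with
  | empty => exact absurd hne (by simp)
  | @insert a s ha ih =>
    rw [Finset.lcm_insert, Finset.sum_insert ha]
    obtain ⟨b, rfl⟩ := hC a (Finset.mem_insert_self a s)
    have hb : (x ^ (2 * b + 1) + 1) * x ≤ x ^ (2 * b + 1) * (x + 1) := by
      have : x ≤ x ^ (2 * b + 1) := Nat.le_self_pow (by omega) x
      nlinarith
    rcases s.eq_empty_or_nonempty with rfl | hs
    · simpa using hb
    · obtain ⟨c, hc⟩ := hs
      have h1 : x + 1 ∣ x ^ (2 * b + 1) + 1 := by simpa using (odd_two_mul_add_one b).nat_add_dvd_pow_add_pow x 1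
      have h2 : x + 1 ∣ s.lcm (fun c => x ^ c + 1) := by
        refine dvd_trans ?_ (Finset.dvd_lcm hc)
        simpa using (hC c (Finset.mem_insert_of_mem hc)).nat_add_dvd_pow_add_pow x 1
      have hlcm : Nat.lcm (x ^ (2 * b + 1) + 1) (s.lcm fun c => x ^ c + 1) * (x + 1) ≤
          (x ^ (2 * b + 1) + 1) * s.lcm (fun c => x ^ c + 1) :=
        calc Nat.lcm (x ^ (2 * b + 1) + 1) (s.lcm fun c => x ^ c + 1) * (x + 1)
            ≤ Nat.lcm (x ^ (2 * b + 1) + 1) (s.lcm fun c => x ^ c + 1) *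
                Nat.gcd (x ^ (2 * b + 1) + 1) (s.lcm fun c => x ^ c + 1) :=
              Nat.mul_le_mul_left _ (Nat.le_of_dvd (Nat.gcd_pos_of_pos_left _ (by positivity)) (Nat.dvd_gcd h1 h2))
          _ = _ := by rw [mul_comm, Nat.gcd_mul_lcm]
      have hih := ih ⟨c, hc⟩ fun d hd => hC d (Finset.mem_insert_of_mem hd)
      refine Nat.le_of_mul_le_mul_right ?_ (show 0 < (x + 1) * x by positivity)
      calc Nat.lcm (x ^ (2 * b + 1) + 1) (s.lcm fun c => x ^ c + 1) * x * ((x + 1) * x)
          = Nat.lcm (x ^ (2 * b + 1) + 1) (s.lcm fun c => x ^ c + 1) * (x + 1) * (x * x) := by ring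
        _ ≤ (x ^ (2 * b + 1) + 1) * s.lcm (fun c => x ^ c + 1) * (x * x) := Nat.mul_le_mul_right _ hlcm
        _ = ((x ^ (2 * b + 1) + 1) * x) * (s.lcm (fun c => x ^ c + 1) * x) := by ring
        _ ≤ (x ^ (2 * b + 1) * (x + 1)) * (x ^ (∑ c ∈ s, c) * (x + 1)) := Nat.mul_le_mul hb hih
        _ = x ^ (2 * b + 1 + ∑ c ∈ s, c) * (x + 1) * (x + 1) := by rw [pow_add]; ring
        _ ≤ x ^ (2 * b + 1 + ∑ c ∈ s, c) * (x + 1) * ((x + 1) * x) :=
          Nat.mul_le_mul_left _ (Nat.le_mul_of_pos_right _ hx)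

/-- `(q - 1) * lcm (q ^ d + 1) ≤ q ^ (1 + ∑ d)`. -/
theorem sub_one_mul_lcm_le (k : ℕ) : ∀ q : ℕ, 2 ≤ q → ∀ D : Finset ℕ, (∀ d ∈ D, 1 ≤ d) → ∑ d ∈ D, d ≤ k →
    (q - 1) * D.lcm (fun d => q ^ d + 1) ≤ q ^ (1 + ∑ d ∈ D, d) := by
  induction k with
  | zero =>
    intro q hq D hD hk
    rcases D.eq_empty_or_nonempty with rfl | ⟨d, hd⟩
    · simp
    · have h1 := Finset.single_le_sum (fun i _ => Nat.zero_le i) hd
      have h2 := hD d hd
      omega
  | succ k ih =>
    intro q hq D hD hk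
    rcases D.eq_empty_or_nonempty with rfl | hne
    · simp
    set O := D.filter Odd with hO
    set E := (D.filter (fun d => ¬ Odd d)).image (fun d => d / 2) with hE
    have hinj : Set.InjOn (fun d => d / 2) ↑(D.filter (fun d => ¬ Odd d)) := by
      intro a ha b hb hab
      simp only [Finset.coe_filter, Set.mem_setOf_eq, Nat.not_odd_iff_even, Nat.even_iff] at ha hb
      simp only at hab
      omega
    have hsumE : ∑ d ∈ D.filter (fun d => ¬ Odd d), d = 2 * ∑ e ∈ E, e := by
      rw [hE, Finset.sum_image hinj, Finset.mul_sum]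
      refine Finset.sum_congr rfl fun d hd => ?_
      rw [Finset.mem_filter, Nat.not_odd_iff_even, Nat.even_iff] at hd
      omega
    have hsum : ∑ d ∈ D, d = (∑ d ∈ O, d) + 2 * ∑ e ∈ E, e := by
      rw [← hsumE, hO, Finset.sum_filter_add_sum_filter_not]
    have hE1 : ∀ e ∈ E, 1 ≤ e := by
      intro e he
      rw [hE, Finset.mem_image] at he
      obtain ⟨d, hd, rfl⟩ := he
      rw [Finset.mem_filter, Nat.not_odd_iff_even, Nat.even_iff] at hd
      have := hD d hd.1
      omega
    have hEk : ∑ e ∈ E, e ≤ k := by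
      rcases Nat.eq_zero_or_pos (∑ e ∈ E, e) with h0 | h0 <;> omega
    have hq2 : 2 ≤ q ^ 2 := hq.trans (Nat.le_self_pow (by norm_num) q)
    have hLE := ih (q ^ 2) hq2 E hE1 hEk
    have hdvd : D.lcm (fun d => q ^ d + 1) ∣
        Nat.lcm (O.lcm fun d => q ^ d + 1) (E.lcm fun e => (q ^ 2) ^ e + 1) := by
      refine Finset.lcm_dvd fun d hd => ?_
      rcases em (Odd d) with ho | ho
      · exact (Finset.dvd_lcm (f := fun d => q ^ d + 1) (Finset.mem_filter.2 ⟨hd, ho⟩)).trans
          (Nat.dvd_lcm_left _ _)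
      · have he : d / 2 ∈ E := Finset.mem_image.2 ⟨d, Finset.mem_filter.2 ⟨hd, ho⟩, rfl⟩
        refine dvd_trans (dvd_of_eq ?_) ((Finset.dvd_lcm (f := fun e => (q ^ 2) ^ e + 1) he).trans
          (Nat.dvd_lcm_right _ _))
        rw [← pow_mul]
        rw [Nat.not_odd_iff_even, Nat.even_iff] at ho
        congr 2
        omega
    set LO := O.lcm fun d => q ^ d + 1
    set LE := E.lcm fun e => (q ^ 2) ^ e + 1
    have hLO : 0 < LO := Nat.pos_of_ne_zero (by rw [Ne, Finset.lcm_eq_zero_iff]; simp)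
    have hLE0 : 0 < LE := Nat.pos_of_ne_zero (by rw [Ne, Finset.lcm_eq_zero_iff]; simp)
    have hle : D.lcm (fun d => q ^ d + 1) ≤ LO * LE :=
      Nat.le_of_dvd (Nat.mul_pos hLO hLE0) (hdvd.trans (Nat.lcm_dvd_mul _ _))
    have hq21 : q ^ 2 - 1 = (q + 1) * (q - 1) := by rw [← Nat.sq_sub_sq]
    rw [hq21] at hLE
    refine Nat.le_of_mul_le_mul_right ?_ (show 0 < q * (q + 1) by positivity)
    rcases O.eq_empty_or_nonempty with h0 | h0
    · have hLO1 : LO = 1 := by simp [LO, h0]
      calc (q - 1) * D.lcm (fun d => q ^ d + 1) * (q * (q + 1))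
          ≤ (q - 1) * (LO * LE) * (q * (q + 1)) := by gcongr
        _ = q * ((q + 1) * (q - 1) * LE) := by rw [hLO1]; ring
        _ ≤ q * (q ^ 2) ^ (1 + ∑ e ∈ E, e) := Nat.mul_le_mul_left _ hLE
        _ = q ^ (1 + ∑ d ∈ D, d) * (q * q) := by
          rw [hsum, h0, Finset.sum_empty, ← pow_mul]; ring
        _ ≤ _ := Nat.mul_le_mul_left _ (Nat.mul_le_mul_left _ (Nat.le_succ q))
    · calc (q - 1) * D.lcm (fun d => q ^ d + 1) * (q * (q + 1))
          ≤ (q - 1) * (LO * LE) * (q * (q + 1)) := by gcongr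
        _ = (LO * q) * ((q + 1) * (q - 1) * LE) := by ring
        _ ≤ (q ^ (∑ d ∈ O, d) * (q + 1)) * (q ^ 2) ^ (1 + ∑ e ∈ E, e) :=
          Nat.mul_le_mul (lcm_odd_mul_le (by omega) O h0 fun c hc => (Finset.mem_filter.1 hc).2) hLE
        _ = q ^ (1 + ∑ d ∈ D, d) * (q * (q + 1)) := by rw [hsum, ← pow_mul]; ring

theorem pow_self_le_self_pow {p t k : ℕ} (hp : 2 ≤ p) (hk : p ^ (t - 1) < k) : t ≤ k - 1 := by
  have := Nat.lt_pow_self (n := t - 1) hp
  omega

/-- Exponents for a pair of eigenvalues `±1` of total multiplicity at most `2 a + e`. -/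
theorem le_of_pow_pred_lt {p t k a e : ℕ} (hp : 2 ≤ p) (he : e ≤ 1) (hpe : e = 1 → 3 ≤ p) (hk : p ^ (t - 1) < k)
    (hka : k ≤ 2 * a + e) : t ≤ a := by
  by_contra h
  have h1 : p ^ a ≤ p ^ (t - 1) := Nat.pow_le_pow_right (by omega) (by omega)
  rcases Nat.eq_zero_or_pos e with rfl | he1
  · have h2 : 2 * a ≤ 2 ^ a := by
      rcases a with _ | a
      · simp
      · have := Nat.lt_pow_self (n := a) (show 1 < 2 by norm_num)
        rw [pow_succ]; omega
    have h3 : 2 ^ a ≤ p ^ a := Nat.pow_le_pow_left hp a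
    omega
  · have h2 : 2 * a + 1 ≤ 3 ^ a := by
      clear h1 hka h
      induction a with
      | zero => simp
      | succ a ih => rw [pow_succ]; omega
    have h3 : 3 ^ a ≤ p ^ a := Nat.pow_le_pow_left (hpe (by omega)) a
    omega

theorem le_pred_of_pow_pred_lt {p t k m e : ℕ} (hp : 3 ≤ p) (he : e ≤ 1) (hm : 2 ≤ m) (hm3 : e = 1 → 3 ≤ m)
    (hk : p ^ (t - 1) < k) (hkm : k + 1 ≤ 2 * m + e) : t ≤ m - 1 := by
  by_contra h
  have h1 : p ^ (m - 1) ≤ p ^ (t - 1) := Nat.pow_le_pow_right (by omega) (by omega)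
  have h2 : ∀ n, 2 ≤ n → 2 * n + 2 ≤ 3 ^ n := by
    intro n hn
    induction n, hn using Nat.le_induction with
    | base => norm_num
    | succ n _ ih => rw [pow_succ]; omega
  have h3 : 3 ^ (m - 1) ≤ p ^ (m - 1) := Nat.pow_le_pow_left hp _
  rcases eq_or_lt_of_le hm with rfl | hm'
  · norm_num at h1 h3; omega
  · have := h2 (m - 1) (by omega); omega

variable {K : Type*} [Field K] [DecidableEq K]

/-- Period of `x` under `y ↦ y ^ q`. -/
noncomputable def per (q : ℕ) (x : K) : ℕ := Function.minimalPeriod (fun y : K => y ^ q) x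

/-- The inverse of `x` lies in its orbit. -/
def SelfInv (q : ℕ) (x : K) : Prop := ∃ j, (fun y : K => y ^ q)^[j] x = x⁻¹

theorem pow_iterate_eq (q j : ℕ) (x : K) : (fun y : K => y ^ q)^[j] x = x ^ q ^ j :=
  congrFun (pow_iterate q j) x

section

variable {q : ℕ} {R : Multiset K}

noncomputable local instance : DecidablePred (SelfInv (K := K) q) := fun _ => _root_.Classical.propDecidable _

theorem count_map_inv (hinv : R.map (fun x => x⁻¹) = R) (x : K) : R.count x⁻¹ = R.count x := by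
  conv_lhs => rw [← hinv]
  exact Multiset.count_map_eq_count' _ _ inv_injective _

theorem count_iterate (hinj : Function.Injective fun y : K => y ^ q) (hfr : R.map (fun y => y ^ q) = R) (x : K) :
    ∀ j, R.count ((fun y : K => y ^ q)^[j] x) = R.count x
  | 0 => rfl
  | j + 1 => by
    rw [Function.iterate_succ', Function.comp_apply]
    conv_lhs => rw [← hfr]
    rw [Multiset.count_map_eq_count' _ _ hinj]
    exact count_iterate hinj hfr x j

theorem mem_iterate (hinj : Function.Injective fun y : K => y ^ q) (hfr : R.map (fun y => y ^ q) = R) {x : K}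
    (hx : x ∈ R) (j : ℕ) : (fun y : K => y ^ q)^[j] x ∈ R := by
  rw [← Multiset.one_le_count_iff_mem, count_iterate hinj hfr, Multiset.one_le_count_iff_mem]; exact hx

theorem per_pos (hinj : Function.Injective fun y : K => y ^ q) (hfr : R.map (fun y => y ^ q) = R) {x : K}
    (hx : x ∈ R) : 0 < per q x := by
  obtain ⟨i, -, j, -, hne, he⟩ := Finset.exists_ne_map_eq_of_card_lt_of_maps_to
    (s := Finset.range (R.toFinset.card + 1)) (t := R.toFinset) (by simp)
    (f := fun j => (fun y : K => y ^ q)^[j] x) (fun j _ => Multiset.mem_toFinset.2 (mem_iterate hinj hfr hx j))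
  wlog hij : i < j generalizing i j
  · exact this j i hne.symm he.symm (by omega)
  refine Function.minimalPeriod_pos_of_mem_periodicPts ⟨j - i, by omega, ?_⟩
  show (fun y : K => y ^ q)^[j - i] x = x
  apply hinj.iterate i
  rw [← Function.iterate_add_apply, show i + (j - i) = j by omega]
  exact he.symm

theorem inv_iterate (q j : ℕ) (x : K) : (fun y : K => y ^ q)^[j] x⁻¹ = ((fun y : K => y ^ q)^[j] x)⁻¹ := by
  simp only [pow_iterate_eq, inv_pow]

theorem per_inv (x : K) : per q x⁻¹ = per q x := by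
  refine Function.minimalPeriod_eq_minimalPeriod_iff.2 fun j => ?_
  simp only [Function.IsPeriodicPt, Function.IsFixedPt, inv_iterate]
  exact inv_injective.eq_iff

theorem selfInv_inv (x : K) : SelfInv q x⁻¹ ↔ SelfInv q x := by
  refine exists_congr fun j => ?_
  rw [inv_iterate, inv_injective.eq_iff]

theorem per_iterate (hinj : Function.Injective fun y : K => y ^ q) (x : K) (i : ℕ) :
    per q ((fun y : K => y ^ q)^[i] x) = per q x := by
  refine Function.minimalPeriod_eq_minimalPeriod_iff.2 fun j => ?_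
  simp only [Function.IsPeriodicPt, Function.IsFixedPt]
  rw [← Function.iterate_add_apply, add_comm, Function.iterate_add_apply]
  exact (hinj.iterate i).eq_iff

theorem selfInv_iterate (hinj : Function.Injective fun y : K => y ^ q) (x : K) (i : ℕ) :
    SelfInv q ((fun y : K => y ^ q)^[i] x) ↔ SelfInv q x := by
  refine exists_congr fun j => ?_
  rw [← Function.iterate_add_apply, add_comm, Function.iterate_add_apply, ← inv_iterate]
  exact (hinj.iterate i).eq_iff

/-- The period of a self-inverse element other than `±1` is even, and half way it is inverted. -/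
theorem per_selfInv (hinj : Function.Injective fun y : K => y ^ q) {x : K} (hper : 0 < per q x) (hne : x ≠ x⁻¹)
    (hs : SelfInv q x) : ∃ e, per q x = 2 * e ∧ x ^ q ^ e = x⁻¹ := by
  obtain ⟨j0, hj0⟩ := hs
  set j := j0 % per q x with hjdef
  have hj : (fun y : K => y ^ q)^[j] x = x⁻¹ := by
    rw [hjdef, per, Function.iterate_mod_minimalPeriod_eq]; exact hj0
  have hjlt : j < per q x := Nat.mod_lt _ hper
  have hj0' : j ≠ 0 := fun h => hne (by rw [h] at hj; simpa using hj)
  have h2 : per q x ∣ j + j := Function.IsPeriodicPt.minimalPeriod_dvd (show (fun y : K => y ^ q)^[j + j] x = x by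
    rw [Function.iterate_add_apply, hj, inv_iterate, hj, inv_inv])
  obtain ⟨c, hc⟩ := h2
  have hc2 : c < 2 := by
    by_contra h
    have : per q x * 2 ≤ per q x * c := Nat.mul_le_mul_left _ (by omega)
    omega
  interval_cases c
  · omega
  · exact ⟨j, by omega, by rw [← pow_iterate_eq]; exact hj⟩

/-- A class with given invariants has at least twice the weight many members. -/
theorem class_count (hinj : Function.Injective fun y : K => y ^ q) (hinv : R.map (fun x => x⁻¹) = R)
    (hfr : R.map (fun y => y ^ q) = R) (S : Finset K) (x : K) (hx : x ∈ R) (hne : x ≠ x⁻¹)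
    (hS : ∀ j, (fun y : K => y ^ q)^[j] x ∈ S ∧ ((fun y : K => y ^ q)^[j] x)⁻¹ ∈ S) :
    R.count x * (if SelfInv q x then per q x else 2 * per q x) ≤ ∑ y ∈ S, R.count y := by
  set f := fun y : K => y ^ q
  set O := (Finset.range (per q x)).image (fun j => f^[j] x) with hO
  have hcardO : O.card = per q x := by
    rw [hO, Finset.card_image_of_injOn, Finset.card_range]
    intro a ha b hb hab
    exact Function.iterate_injOn_Iio_minimalPeriod (Finset.mem_range.1 ha) (Finset.mem_range.1 hb) hab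
  have hcnt : ∀ y ∈ O, R.count y = R.count x := by
    intro y hy
    rw [hO, Finset.mem_image] at hy
    obtain ⟨j, -, rfl⟩ := hy
    exact count_iterate hinj hfr x j
  have hOS : O ⊆ S := by
    intro y hy
    rw [hO, Finset.mem_image] at hy
    obtain ⟨j, -, rfl⟩ := hy
    exact (hS j).1
  split_ifs with hs
  · calc R.count x * per q x = ∑ y ∈ O, R.count y := by
          rw [Finset.sum_congr rfl hcnt, Finset.sum_const, hcardO, smul_eq_mul, mul_comm]
      _ ≤ _ := Finset.sum_le_sum_of_subset hOS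
  · set O' := O.image (fun y => y⁻¹) with hO'
    have hdisj : Disjoint O O' := by
      rw [Finset.disjoint_left]
      intro y hy hy'
      rw [hO', Finset.mem_image] at hy'
      obtain ⟨z, hz, rfl⟩ := hy'
      rw [hO, Finset.mem_image] at hy hz
      obtain ⟨i, hi, rfl⟩ := hz
      obtain ⟨j, hj, hj2⟩ := hy
      rw [Finset.mem_range] at hi hj
      apply hs
      refine ⟨j + (per q x - i), ?_⟩
      rw [show j + (per q x - i) = (per q x - i) + j from add_comm _ _, Function.iterate_add_apply, hj2,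
        inv_iterate, ← Function.iterate_add_apply, show per q x - i + i = per q x by omega]
      exact congrArg Inv.inv Function.iterate_minimalPeriod
    have hsub : O ∪ O' ⊆ S := by
      refine Finset.union_subset hOS fun y hy => ?_
      rw [hO', Finset.mem_image] at hy
      obtain ⟨z, hz, rfl⟩ := hy
      rw [hO, Finset.mem_image] at hz
      obtain ⟨j, -, rfl⟩ := hz
      exact (hS j).2
    calc R.count x * (2 * per q x) = ∑ y ∈ O ∪ O', R.count y := by
          rw [Finset.sum_union hdisj, hO', Finset.sum_image fun a _ b _ h => inv_injective h,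
            Finset.sum_congr rfl fun y hy => (count_map_inv hinv y).trans (hcnt y hy),
            Finset.sum_congr rfl hcnt, Finset.sum_const, hcardO, smul_eq_mul]
          ring
      _ ≤ _ := Finset.sum_le_sum_of_subset hsub

/-- For a Frobenius- and inversion-stable multiset of at most `2 m + e` non-zero values: a common exponent of
the members other than `±1`, small compared with the size. -/
theorem exists_exponent (hq : 2 ≤ q) (hinj : Function.Injective fun y : K => y ^ q)
    (hinv : R.map (fun x => x⁻¹) = R) (hfr : R.map (fun y => y ^ q) = R) (h0 : (0 : K) ∉ R)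
    {x₀ : K} (hx₀ : x₀ ∈ R) :
    ∃ n s r : ℕ, 0 < n ∧ (∀ x ∈ R, x ≠ x⁻¹ → x ^ n = 1) ∧ (q - 1) * n ≤ q ^ (1 + s) ∧
      ((∃ x ∈ R, x ≠ x⁻¹) → Odd q → Even n) ∧
      ((x₀ ≠ x₀⁻¹ → R.count x₀ ≤ r + 1 ∧ 2 * s + 2 * r ≤ Multiset.card R) ∧
        (x₀ = x₀⁻¹ → 2 * s + R.count x₀ ≤ Multiset.card R)) := by
  set f := fun y : K => y ^ q
  set T := R.toFinset.filter (fun x => x ≠ x⁻¹) with hT
  set wt : K → ℕ := fun x => if SelfInv q x then per q x / 2 else per q x with hwt
  set T1 := T.filter (fun x => SelfInv q x) with hT1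
  set T2 := T.filter (fun x => ¬ SelfInv q x) with hT2
  set D1 := T1.image wt with hD1
  set D2 := T2.image wt with hD2
  have memT : ∀ {x}, x ∈ T ↔ x ∈ R ∧ x ≠ x⁻¹ := fun {x} => by rw [hT, Finset.mem_filter, Multiset.mem_toFinset]
  have hT_iter : ∀ x ∈ T, ∀ j, f^[j] x ∈ T ∧ (f^[j] x)⁻¹ ∈ T := by
    intro x hx j
    rw [memT] at hx
    have h1 := mem_iterate hinj hfr hx.1 j
    have h2 : f^[j] x ≠ (f^[j] x)⁻¹ := fun h => hx.2 (hinj.iterate j (h.trans (inv_iterate q j x).symm))
    refine ⟨memT.2 ⟨h1, h2⟩, memT.2 ⟨?_, by rw [inv_inv]; exact h2.symm⟩⟩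
    rw [← Multiset.one_le_count_iff_mem, count_map_inv hinv, Multiset.one_le_count_iff_mem]; exact h1
  have hwt_it : ∀ x j, wt (f^[j] x) = wt x ∧ wt (f^[j] x)⁻¹ = wt x := by
    intro x j
    simp only [hwt]
    constructor
    · by_cases hs : SelfInv q x
      · rw [if_pos hs, if_pos ((selfInv_iterate hinj x j).2 hs), per_iterate hinj]
      · rw [if_neg hs, if_neg (fun h => hs ((selfInv_iterate hinj x j).1 h)), per_iterate hinj]
    · by_cases hs : SelfInv q x
      · rw [if_pos hs, if_pos ((selfInv_inv _).2 ((selfInv_iterate hinj x j).2 hs)), per_inv, per_iterate hinj]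
      · rw [if_neg hs, if_neg (fun h => hs ((selfInv_iterate hinj x j).1 ((selfInv_inv _).1 h))), per_inv,
          per_iterate hinj]
  have hperT : ∀ x ∈ T, 0 < per q x := fun x hx => per_pos hinj hfr (memT.1 hx).1
  -- fibres are large
  have fib : ∀ (x : K), x ∈ T → ∀ (U : Finset K), (∀ j, f^[j] x ∈ U ∧ (f^[j] x)⁻¹ ∈ U) →
      R.count x * (2 * wt x) ≤ ∑ y ∈ U, R.count y := by
    intro x hx U hU
    have h := class_count hinj hinv hfr U x (memT.1 hx).1 (memT.1 hx).2 hU
    by_cases hs : SelfInv q x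
    · rw [if_pos hs] at h
      obtain ⟨e, he, -⟩ := per_selfInv hinj (hperT x hx) (memT.1 hx).2 hs
      simp only [hwt, if_pos hs, he, Nat.mul_div_cancel_left e two_pos] at h ⊢
      exact h
    · rw [if_neg hs] at h
      simp only [hwt, if_neg hs]
      exact h
  have sum_fib : ∀ (P : K → Prop) [DecidablePred P], (∀ x j, P (f^[j] x) ↔ P x) → (∀ x, P x⁻¹ ↔ P x) →
      2 * ∑ d ∈ (T.filter P).image wt, d + (if x₀ ∈ T.filter P then 2 * wt x₀ * (R.count x₀ - 1) else 0) ≤
        ∑ y ∈ T.filter P, R.count y := by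
    intro P _ hP1 hP2
    rw [← Finset.sum_fiberwise_of_maps_to (g := wt) (fun x hx => Finset.mem_image_of_mem wt hx)
      (fun y => R.count y)]
    have hU : ∀ x ∈ T.filter P, ∀ j, f^[j] x ∈ (T.filter P).filter (fun y => wt y = wt x) ∧
        (f^[j] x)⁻¹ ∈ (T.filter P).filter (fun y => wt y = wt x) := by
      intro x hx j
      rw [Finset.mem_filter] at hx
      have h1 := hT_iter x hx.1 j
      simp only [Finset.mem_filter]
      exact ⟨⟨⟨h1.1, (hP1 x j).2 hx.2⟩, (hwt_it x j).1⟩, ⟨h1.2, (hP2 _).2 ((hP1 x j).2 hx.2)⟩, (hwt_it x j).2⟩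
    by_cases hx : x₀ ∈ T.filter P
    · rw [if_pos hx]
      have hmem : wt x₀ ∈ (T.filter P).image wt := Finset.mem_image_of_mem wt hx
      rw [← Finset.add_sum_erase _ _ hmem, ← Finset.add_sum_erase _ _ hmem, mul_add]
      have h1 : 2 * wt x₀ + 2 * wt x₀ * (R.count x₀ - 1) ≤
          ∑ y ∈ (T.filter P).filter (fun y => wt y = wt x₀), R.count y := by
        refine le_trans (le_of_eq ?_) (fib x₀ (Finset.mem_filter.1 hx).1 _ (hU x₀ hx))
        obtain ⟨k, hk⟩ := Nat.exists_eq_add_of_le (Multiset.one_le_count_iff_mem.2 hx₀)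
        rw [hk, Nat.add_sub_cancel_left]; ring
      have h2 : 2 * ∑ d ∈ ((T.filter P).image wt).erase (wt x₀), d ≤
          ∑ d ∈ ((T.filter P).image wt).erase (wt x₀),
            ∑ y ∈ (T.filter P).filter (fun y => wt y = d), R.count y := by
        rw [Finset.mul_sum]
        refine Finset.sum_le_sum fun d hd => ?_
        obtain ⟨x, hx1, rfl⟩ := Finset.mem_image.1 (Finset.mem_of_mem_erase hd)
        refine le_trans ?_ (fib x (Finset.mem_filter.1 hx1).1 _ (hU x hx1))
        exact Nat.le_mul_of_pos_left _ (Multiset.one_le_count_iff_mem.2 (memT.1 (Finset.mem_filter.1 hx1).1).1)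
      omega
    · rw [if_neg hx, add_zero, Finset.mul_sum]
      refine Finset.sum_le_sum fun d hd => ?_
      obtain ⟨x, hx1, rfl⟩ := Finset.mem_image.1 hd
      refine le_trans ?_ (fib x (Finset.mem_filter.1 hx1).1 _ (hU x hx1))
      exact Nat.le_mul_of_pos_left _ (Multiset.one_le_count_iff_mem.2 (memT.1 (Finset.mem_filter.1 hx1).1).1)
  have hS1 := sum_fib (fun x => SelfInv q x) (selfInv_iterate hinj) selfInv_inv
  have hS2 := sum_fib (fun x => ¬ SelfInv q x) (fun x j => not_congr (selfInv_iterate hinj x j))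
    (fun x => not_congr (selfInv_inv x))
  have hTsum : ∑ y ∈ T1, R.count y + ∑ y ∈ T2, R.count y = ∑ y ∈ T, R.count y :=
    Finset.sum_filter_add_sum_filter_not _ _ _
  have hRsum : ∑ y ∈ T, R.count y + ∑ y ∈ R.toFinset.filter (fun x => ¬ x ≠ x⁻¹), R.count y =
      Multiset.card R := by
    rw [hT, Finset.sum_filter_add_sum_filter_not, Multiset.toFinset_sum_count_eq]
  simp only [← hT1, ← hT2, ← hD1, ← hD2] at hS1 hS2
  -- exponents
  have hroot1 : ∀ x ∈ T1, x ^ (q ^ wt x + 1) = 1 ∧ 1 ≤ wt x := by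
    intro x hx
    rw [hT1, Finset.mem_filter] at hx
    obtain ⟨e, he, hex⟩ := per_selfInv hinj (hperT x hx.1) (memT.1 hx.1).2 hx.2
    have hw : wt x = e := by simp only [hwt, if_pos hx.2, he, Nat.mul_div_cancel_left e two_pos]
    have := hperT x hx.1
    refine ⟨?_, by omega⟩
    rw [hw, pow_succ, hex, inv_mul_cancel₀]
    exact fun h => h0 (h ▸ (memT.1 hx.1).1)
  have hroot2 : ∀ x ∈ T2, x ^ (q ^ wt x - 1) = 1 ∧ 1 ≤ wt x := by
    intro x hx
    rw [hT2, Finset.mem_filter] at hx
    have hw : wt x = per q x := by simp only [hwt, if_neg hx.2]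
    refine ⟨?_, hw ▸ hperT x hx.1⟩
    have hxx : x ^ q ^ per q x = x := by rw [← pow_iterate_eq]; exact Function.iterate_minimalPeriod
    refine mul_left_cancel₀ (fun h => h0 (h ▸ (memT.1 hx.1).1) : x ≠ 0) ?_
    rw [hw, ← pow_succ', Nat.sub_add_cancel (Nat.one_le_pow _ _ (by omega)), hxx, mul_one]
  set L1 := D1.lcm (fun d => q ^ d + 1) with hL1
  set L2 := D2.lcm (fun d => q ^ d - 1) with hL2
  have hL1pos : 0 < L1 := Nat.pos_of_ne_zero (by rw [Ne, hL1, Finset.lcm_eq_zero_iff]; simp)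
  have hpos2 : ∀ d ∈ D2, 0 < q ^ d - 1 := by
    intro d hd
    obtain ⟨x, hx, rfl⟩ := Finset.mem_image.1 hd
    exact Nat.sub_pos_of_lt (Nat.one_lt_pow (by have := (hroot2 x hx).2; omega) (by omega))
  have hL2le : L2 ≤ q ^ ∑ d ∈ D2, d := by
    refine (Nat.le_of_dvd (Finset.prod_pos hpos2) (Finset.lcm_dvd fun d hd => Finset.dvd_prod_of_mem _ hd)).trans ?_
    rw [← Finset.prod_pow_eq_pow_sum]
    exact Finset.prod_le_prod (fun d _ => Nat.zero_le _) fun d _ => Nat.sub_le _ _
  have hL2pos : 0 < L2 := Nat.pos_of_ne_zero (by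
    rw [Ne, hL2, Finset.lcm_eq_zero_iff]
    rintro ⟨d, hd, hd0⟩
    exact (hpos2 d hd).ne' hd0)
  refine ⟨Nat.lcm L1 L2, (∑ d ∈ D1, d) + ∑ d ∈ D2, d, R.count x₀ - 1, Nat.lcm_pos hL1pos hL2pos, ?_, ?_, ?_,
    fun hne => ?_, fun he => ?_⟩
  · intro x hx hne
    by_cases hs : SelfInv q x
    · have hx1 : x ∈ T1 := Finset.mem_filter.2 ⟨memT.2 ⟨hx, hne⟩, hs⟩
      obtain ⟨c, hc⟩ := (Finset.dvd_lcm (f := fun d => q ^ d + 1) (Finset.mem_image_of_mem wt hx1)).trans
        (Nat.dvd_lcm_left L1 L2)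
      rw [hc, pow_mul, (hroot1 x hx1).1, one_pow]
    · have hx1 : x ∈ T2 := Finset.mem_filter.2 ⟨memT.2 ⟨hx, hne⟩, hs⟩
      obtain ⟨c, hc⟩ := (Finset.dvd_lcm (f := fun d => q ^ d - 1) (Finset.mem_image_of_mem wt hx1)).trans
        (Nat.dvd_lcm_right L1 L2)
      rw [hc, pow_mul, (hroot2 x hx1).1, one_pow]
  · calc (q - 1) * Nat.lcm L1 L2 ≤ (q - 1) * (L1 * L2) :=
          Nat.mul_le_mul_left _ (Nat.le_of_dvd (Nat.mul_pos hL1pos hL2pos) (Nat.lcm_dvd_mul _ _))
      _ = (q - 1) * L1 * L2 := (mul_assoc _ _ _).symm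
      _ ≤ q ^ (1 + ∑ d ∈ D1, d) * q ^ ∑ d ∈ D2, d := Nat.mul_le_mul
          (sub_one_mul_lcm_le _ q hq D1 (fun d hd => by
            obtain ⟨x, hx, rfl⟩ := Finset.mem_image.1 hd
            exact (hroot1 x hx).2) le_rfl) hL2le
      _ = _ := by rw [← pow_add, add_assoc]
  · rintro ⟨x, hx, hne⟩ hodd
    rw [even_iff_two_dvd]
    by_cases hs : SelfInv q x
    · refine dvd_trans ?_ ((Finset.dvd_lcm (f := fun d => q ^ d + 1) (Finset.mem_image_of_mem wt
        (Finset.mem_filter.2 ⟨memT.2 ⟨hx, hne⟩, hs⟩ : x ∈ T1))).trans (Nat.dvd_lcm_left L1 L2))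
      exact even_iff_two_dvd.1 (hodd.pow.add_odd odd_one)
    · refine dvd_trans ?_ ((Finset.dvd_lcm (f := fun d => q ^ d - 1) (Finset.mem_image_of_mem wt
        (Finset.mem_filter.2 ⟨memT.2 ⟨hx, hne⟩, hs⟩ : x ∈ T2))).trans (Nat.dvd_lcm_right L1 L2))
      exact even_iff_two_dvd.1 (Nat.Odd.sub_odd hodd.pow odd_one)
  · have hxT : x₀ ∈ T := memT.2 ⟨hx₀, hne⟩
    have hk : R.count x₀ ≤ (R.count x₀ - 1) + 1 := by omega
    refine ⟨hk, ?_⟩
    by_cases hs : SelfInv q x₀
    · have h1 : x₀ ∈ T1 := Finset.mem_filter.2 ⟨hxT, hs⟩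
      rw [if_pos h1] at hS1
      have : 2 * 1 * (R.count x₀ - 1) ≤ 2 * wt x₀ * (R.count x₀ - 1) := by
        gcongr; exact (hroot1 x₀ h1).2
      omega
    · have h1 : x₀ ∈ T2 := Finset.mem_filter.2 ⟨hxT, hs⟩
      rw [if_pos h1] at hS2
      have : 2 * 1 * (R.count x₀ - 1) ≤ 2 * wt x₀ * (R.count x₀ - 1) := by
        gcongr; exact (hroot2 x₀ h1).2
      omega
  · have h1 : R.count x₀ ≤ ∑ y ∈ R.toFinset.filter (fun x => ¬ x ≠ x⁻¹), R.count y :=
      Finset.single_le_sum (f := fun y => R.count y) (fun _ _ => Nat.zero_le _)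
        (Finset.mem_filter.2 ⟨Multiset.mem_toFinset.2 hx₀, not_not.2 he⟩)
    omega

end

section Matrices

variable {F : Type*} [Field F] {ι : Type*} [Fintype ι] [DecidableEq ι]

/-- If every eigenvalue satisfies `x ^ M = c` and occurs at most `p ^ t` times, then `A ^ (p ^ t * M)` is a scalar. -/
theorem pow_eq_scalar_of_eigRoots {L : Type*} [Field L] [Algebra F L] [IsAlgClosed L] [DecidableEq L] (p : ℕ)
    [Fact p.Prime] [CharP F p] (A : Matrix ι ι F) {t M : ℕ} (hM : M ≠ 0) (c : F)
    (hroot : ∀ x ∈ eigRoots L A, x ^ M = algebraMap F L c)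
    (hmult : ∀ x ∈ eigRoots L A, (eigRoots L A).count x ≤ p ^ t) : A ^ (p ^ t * M) = c ^ p ^ t • 1 := by
  set R := eigRoots L A with hR
  set AK := A.map (algebraMap F L)
  set f : F[X] := X ^ M - C c with hf
  have hfne : f.map (algebraMap F L) ≠ 0 :=
    (Polynomial.map_ne_zero_iff (algebraMap F L).injective).2 (monic_X_pow_sub_C c hM).ne_zero
  have hsplit : AK.charpoly = (R.map fun a => X - C a).prod :=
    (IsAlgClosed.splits _).eq_prod_roots_of_monic (Matrix.charpoly_monic _)
  have hdvd : AK.charpoly ∣ (f.map (algebraMap F L)) ^ p ^ t := by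
    have h2 : (R.toFinset.val.map fun a => X - C a).prod ∣ f.map (algebraMap F L) := by
      refine (Multiset.prod_X_sub_C_dvd_iff_le_roots hfne _).2 ((Multiset.le_iff_subset R.toFinset.nodup).2 ?_)
      intro x hx
      rw [Polynomial.mem_roots hfne, IsRoot, eval_map_algebraMap, hf, map_sub, map_pow, aeval_X, aeval_C,
        hroot x (Multiset.mem_toFinset.1 hx), sub_self]
    have h3 : R ≤ p ^ t • R.toFinset.val := Multiset.le_iff_count.2 fun x => by
      rw [Multiset.count_nsmul]
      by_cases hx : x ∈ R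
      · rw [Multiset.count_eq_one_of_mem R.toFinset.nodup (Multiset.mem_toFinset.2 hx), mul_one]
        exact hmult x hx
      · rw [Multiset.count_eq_zero.2 hx]; exact Nat.zero_le _
    rw [hsplit]
    refine (Multiset.prod_dvd_prod_of_le (Multiset.map_le_map h3)).trans ?_
    rw [Multiset.map_nsmul, Multiset.prod_nsmul]
    exact pow_dvd_pow_of_dvd h2 _
  have hpow : f ^ p ^ t = X ^ (p ^ t * M) - C (c ^ p ^ t) := by
    rw [hf, sub_pow_char_pow, ← pow_mul, mul_comm M, C_pow]
  rw [← Polynomial.map_pow, hpow] at hdvd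
  obtain ⟨g, hg⟩ := hdvd
  have h4 := congrArg (aeval AK) hg
  rw [map_mul, Matrix.aeval_self_charpoly, zero_mul, aeval_map_algebraMap] at h4
  have h5 : (aeval A (X ^ (p ^ t * M) - C (c ^ p ^ t))).map (algebraMap F L) = 0 :=
    (Polynomial.aeval_algHom_apply (Algebra.ofId F L).mapMatrix A _).symm.trans h4
  rw [← sub_eq_zero, ← Algebra.algebraMap_eq_smul_one]
  refine Matrix.map_injective (algebraMap F L).injective ?_
  refine Eq.trans ?_ (h5.trans (Matrix.map_zero _ (map_zero _)).symm)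
  simp only [map_sub, map_pow, aeval_X, aeval_C]

/-- The exponent bound for a matrix similar to the transpose of its inverse. -/
theorem exists_pow_eq_sign [Fintype F] (A A' : Matrix ι ι F) (hinv : A' * A = 1)
    (hsim : A'.charpoly = A.charpoly) {m e : ℕ} (hcard : Fintype.card ι = 2 * m + e) (he : e ≤ 1) (hm : 2 ≤ m)
    (hodd : e = 1 → (2 : F) ≠ 0 ∧ 3 ≤ m) :
    ∃ B : ℕ, 0 < B ∧ (A ^ B = 1 ∨ A ^ B = (-1 : F) • 1) ∧
      (Fintype.card F - 1) * B ≤ Fintype.card F ^ (m + 1) := by
  classical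
  obtain ⟨p, hp⟩ := CharP.exists F
  haveI := hp
  haveI : Fact p.Prime := ⟨CharP.char_is_prime F p⟩
  set L := AlgebraicClosure F
  haveI : CharP L p := charP_of_injective_algebraMap (algebraMap F L).injective p
  set q := Fintype.card F with hq
  have hq2 : 2 ≤ q := Fintype.one_lt_card
  obtain ⟨f, hf, hqf⟩ : ∃ f, 1 ≤ f ∧ q = p ^ f := by
    obtain ⟨n, -, hn⟩ := FiniteField.card F p
    exact ⟨n, n.pos, hn⟩
  have hp2 : 2 ≤ p := (Fact.out : p.Prime).two_le
  have hpq : p ≤ q := hqf ▸ Nat.le_self_pow (by omega) p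
  have hodd3 : (2 : F) ≠ 0 → 3 ≤ p := by
    intro h2
    rcases eq_or_lt_of_le hp2 with h | h
    · subst h; exact absurd (by exact_mod_cast CharP.cast_eq_zero F 2) h2
    · exact h
  set R := eigRoots L A with hR
  have hAL : A'.map (algebraMap F L) * A.map (algebraMap F L) = 1 := by
    rw [← Matrix.map_mul, hinv, Matrix.map_one _ (map_zero _) (map_one _)]
  have h0 : (0 : L) ∉ R := by
    intro h
    have hdet : (A.map (algebraMap F L)).det ≠ 0 := by
      intro hd
      have := congrArg Matrix.det hAL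
      rw [Matrix.det_mul, hd, mul_zero, Matrix.det_one] at this
      exact zero_ne_one this
    apply hdet
    rw [Matrix.det_eq_prod_roots_charpoly]
    exact Multiset.prod_eq_zero h
  have hRinv : R.map (fun x => x⁻¹) = R := by
    rw [hR, eigRoots, ← roots_charpoly_inv hAL, Matrix.charpoly_map, hsim, Matrix.charpoly_map]
  set φ : L →+* L := (FiniteField.frobeniusAlgHom F L : L →ₐ[F] L).toRingHom with hφ
  have hφ' : ∀ y, φ y = y ^ q := fun y => by simp [φ, q]
  have hfun : (fun y : L => y ^ q) = φ := funext fun y => (hφ' y).symm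
  have hinj : Function.Injective (fun y : L => y ^ q) := hfun ▸ φ.injective
  have hRfr : R.map (fun y => y ^ q) = R := by
    rw [hfun, hR, eigRoots, Matrix.charpoly_map, ← (IsAlgClosed.splits _).roots_map φ, Polynomial.map_map]
    congr 2
    exact (FiniteField.frobeniusAlgHom F L : L →ₐ[F] L).comp_algebraMap
  have hcardR : Multiset.card R = 2 * m + e := by rw [hR, card_eigRoots, hcard]
  obtain ⟨x₀, hx₀, hmax⟩ : ∃ x₀ ∈ R, ∀ x ∈ R, R.count x ≤ R.count x₀ := by
    have hne : R.toFinset.Nonempty := by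
      obtain ⟨x, hx⟩ := Multiset.exists_mem_of_ne_zero (s := R) (fun h => by rw [h] at hcardR; simp at hcardR; omega)
      exact ⟨x, Multiset.mem_toFinset.2 hx⟩
    obtain ⟨x, hx, h⟩ := Finset.exists_max_image R.toFinset (fun x => R.count x) hne
    exact ⟨x, Multiset.mem_toFinset.1 hx, fun y hy => h y (Multiset.mem_toFinset.2 hy)⟩
  set k := R.count x₀ with hk
  obtain ⟨t, hkt, ht⟩ : ∃ t, k ≤ p ^ t ∧ (t ≠ 0 → p ^ (t - 1) < k) := by
    refine ⟨Nat.clog p k, Nat.le_pow_clog (by omega) k, fun ht => ?_⟩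
    rcases Nat.lt_or_ge 1 k with h1 | h1
    · exact Nat.pow_pred_clog_lt_self (by omega) h1
    · exact absurd (Nat.clog_of_right_le_one h1 p) ht
  have hmult : ∀ x ∈ R, R.count x ≤ p ^ t := fun x hx => (hmax x hx).trans hkt
  have hptq : ∀ r, t ≤ r → p ^ t ≤ q ^ r := fun r hr =>
    (Nat.pow_le_pow_right (by omega) hr).trans (Nat.pow_le_pow_left hpq r)
  have hpm : ∀ x : L, x = x⁻¹ → x ∈ R → x = 1 ∨ x = -1 := fun x hx hxR => by
    have hx0 : x ≠ 0 := fun h => h0 (h ▸ hxR)
    refine sq_eq_one_iff.1 ?_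
    calc x ^ 2 = x * x⁻¹ := by rw [sq]; nth_rewrite 2 [hx]; rfl
      _ = 1 := mul_inv_cancel₀ hx0
  have hpt0 : 0 < p ^ t := pow_pos (by omega) t
  have hqpow : ∀ s r, s + r ≤ m → q ^ (1 + s) * q ^ r ≤ q ^ (m + 1) := fun s r h => by
    rw [← pow_add]; exact Nat.pow_le_pow_right (by omega) (by omega)
  have hneg_pow : ((-1 : F)) ^ p ^ t = -1 := by
    have h := map_neg (iterateFrobenius F p t) (1 : F)
    rwa [map_one, iterateFrobenius_def] at h
  by_cases hT : ∃ x ∈ R, x ≠ x⁻¹
  · obtain ⟨n, s, r, hn, hroot, hbound, heven, hne, heq⟩ := exists_exponent hq2 hinj hRinv hRfr h0 hx₀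
    have hroot' : ∀ x ∈ R, x ^ n = algebraMap F L 1 := by
      intro x hx
      rw [map_one]
      by_cases hxx : x = x⁻¹
      · rcases hpm x hxx hx with rfl | rfl
        · exact one_pow n
        · by_cases h2 : (2 : F) = 0
          · have : (-1 : L) = 1 := by
              have h2L : (2 : L) = 0 := by rw [← map_ofNat (algebraMap F L) 2, h2, map_zero]
              linear_combination -h2L
            rw [this, one_pow]
          · refine (heven hT ?_).neg_one_pow
            rw [hqf]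
            exact ((Fact.out : p.Prime).odd_of_ne_two (by have := hodd3 h2; omega)).pow
      · exact hroot x hx hxx
    have hA := pow_eq_scalar_of_eigRoots p A hn.ne' (1 : F) hroot' hmult
    rw [one_pow, one_smul] at hA
    refine ⟨p ^ t * n, Nat.mul_pos hpt0 hn, Or.inl hA, ?_⟩
    obtain ⟨r', hr', hsr⟩ : ∃ r', t ≤ r' ∧ s + r' ≤ m := by
      by_cases hx : x₀ = x₀⁻¹
      · have h := heq hx
        refine ⟨m - s, ?_, by omega⟩
        by_cases ht0 : t = 0
        · omega
        · exact le_of_pow_pred_lt hp2 he (fun h1 => hodd3 (hodd h1).1) (ht ht0) (by omega)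
      · obtain ⟨h1, h2⟩ := hne hx
        refine ⟨r, ?_, by omega⟩
        by_cases ht0 : t = 0
        · omega
        · have := pow_self_le_self_pow hp2 (ht ht0); omega
    calc (q - 1) * (p ^ t * n) = (q - 1) * n * p ^ t := by ring
      _ ≤ q ^ (1 + s) * q ^ r' := Nat.mul_le_mul hbound (hptq r' hr')
      _ ≤ _ := hqpow s r' hsr
  · push_neg at hT
    by_cases hall : ∀ x ∈ R, x = x₀
    · have hb : (q - 1) * (p ^ t * 1) ≤ q ^ (m + 1) := by
        have htm : t ≤ m := by
          by_cases ht0 : t = 0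
          · omega
          · refine le_of_pow_pred_lt hp2 he (fun h1 => hodd3 (hodd h1).1) (ht ht0) ?_
            exact (Multiset.count_le_card x₀ R).trans_eq hcardR
        rw [mul_one, pow_succ, mul_comm]
        exact Nat.mul_le_mul (hptq m htm) (Nat.sub_le q 1)
      rcases hpm x₀ (hT x₀ hx₀) hx₀ with hx1 | hx1
      · have hA := pow_eq_scalar_of_eigRoots p A one_ne_zero (1 : F)
          (fun x hx => by rw [hall x hx, hx1, pow_one, map_one]) hmult
        rw [one_pow, one_smul] at hA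
        exact ⟨_, by omega, Or.inl hA, hb⟩
      · have hA := pow_eq_scalar_of_eigRoots p A one_ne_zero (-1 : F)
          (fun x hx => by rw [hall x hx, hx1, pow_one, map_neg, map_one]) hmult
        rw [hneg_pow] at hA
        exact ⟨_, by omega, Or.inr hA, hb⟩
    · push_neg at hall
      obtain ⟨y, hy, hyx⟩ := hall
      have h2 : (2 : F) ≠ 0 := by
        intro h2
        apply hyx
        have h2L : (2 : L) = 0 := by rw [← map_ofNat (algebraMap F L) 2, h2, map_zero]
        have hm1 : ∀ z : L, z = z⁻¹ → z ∈ R → z = 1 := fun z hz hzR => (hpm z hz hzR).elim id fun h => by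
          rw [h]; linear_combination -h2L
        rw [hm1 y (hT y hy) hy, hm1 x₀ (hT x₀ hx₀) hx₀]
      have hA := pow_eq_scalar_of_eigRoots p A two_ne_zero (1 : F) (fun x hx => by
        rcases hpm x (hT x hx) hx with rfl | rfl <;> simp) hmult
      rw [one_pow, one_smul] at hA
      refine ⟨p ^ t * 2, by omega, Or.inl hA, ?_⟩
      have hk1 : k + 1 ≤ 2 * m + e := by
        have h1 : R.count x₀ + R.count y ≤ Multiset.card R := by
          rw [← Multiset.toFinset_sum_count_eq R]
          calc R.count x₀ + R.count y = ∑ z ∈ {x₀, y}, R.count z := by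
                rw [Finset.sum_insert (by simpa using hyx.symm), Finset.sum_singleton]
            _ ≤ _ := Finset.sum_le_sum_of_subset (by
              intro z hz
              simp only [Finset.mem_insert, Finset.mem_singleton] at hz
              rcases hz with rfl | rfl <;> simpa using by assumption)
        have := Multiset.one_le_count_iff_mem.2 hy
        omega
      have htm : t ≤ m - 1 := by
        by_cases ht0 : t = 0
        · omega
        · exact le_pred_of_pow_pred_lt (hodd3 h2) he hm (fun h1 => (hodd h1).2) (ht ht0) hk1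
      have hq1 : 2 * (q - 1) ≤ q ^ 2 := by
        have : 2 * q ≤ q ^ 2 := by rw [sq]; exact Nat.mul_le_mul_right q hq2
        omega
      calc (q - 1) * (p ^ t * 2) = p ^ t * (2 * (q - 1)) := by ring
        _ ≤ q ^ (m - 1) * q ^ 2 := Nat.mul_le_mul (hptq _ htm) hq1
        _ = q ^ (m + 1) := by rw [← pow_add]; congr 1; omega

/-- Preservers of a non-degenerate bilinear form are similar to the transposes of their inverses. -/
theorem charpoly_inv_of_form {M A A' : Matrix ι ι F} (hM : IsUnit M.det) (h : Aᵀ * M * A = M) (hA : A * A' = 1) :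
    A'.charpoly = A.charpoly := by
  have h1 : M * A' = Aᵀ * M := by
    calc M * A' = Aᵀ * M * A * A' := by rw [h]
      _ = _ := by rw [Matrix.mul_assoc _ A, hA, Matrix.mul_one]
  obtain ⟨u, hu⟩ := (Matrix.isUnit_iff_isUnit_det M).2 hM
  rw [← hu] at h1
  rw [← Matrix.charpoly_units_conj u A', h1, Matrix.mul_assoc]
  simp [Matrix.charpoly_transpose]

/-- The bound in a group of matrices modulo its centre. -/
theorem orderOf_mk_center {G : Type*} [Group G] (φ : G →* Matrix ι ι F) (hφ : Function.Injective φ) (g : G)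
    {B : ℕ} (hB : 0 < B) (h : φ g ^ B = 1 ∨ φ g ^ B = (-1 : F) • 1) :
    orderOf (g : G ⧸ Subgroup.center G) ≤ B := by
  refine Nat.le_of_dvd hB (orderOf_dvd_of_pow_eq_one ?_)
  rw [← QuotientGroup.mk_pow, QuotientGroup.eq_one_iff, Subgroup.mem_center_iff]
  intro x
  apply hφ
  rw [map_mul, map_mul, map_pow]
  rcases h with h | h <;> rw [h] <;> simp

end Matrices

end Cfsg.Agent.Lie.OrderBoundForm
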