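import Cfsg.Agent.Lib.Classical.OrthSpinor
import Cfsg.Agent.Lib.Classical.OrthSemi
import Cfsg.Agent.Lib.Classical.OrthModels

/-! The order of `PΩ(Q)` in terms of the order of `O(Q)`. -/

set_option autoImplicit false

namespace Cfsg.Agent.Lie.OrderBound

open Cfsg.Agent.Classical Cfsg.Agent.Classical.OrthAut

variable {F : Type*} [Field F] [Fintype F] {p : ℕ} [Fact p.Prime] [CharP F p]

theorem natCard_pOmega {ι : Type} [Fintype ι] [DecidableEq ι] {Q : QuadraticForm F (ι → F)}
    (hQ : (QuadraticMap.polarBilin Q).Nondegenerate) (hT : Tri Q) (hn : 5 ≤ Fintype.card ι) :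
    ∃ c : ℕ, ¬ p ∣ c ∧ c * Nat.card (POmega F ⇑Q) * 2 = Nat.card (isometryGroup F ⇑Q) := by
  classical
  have hG : GenQ F ι := genQ_of_card (Or.inr (by omega))
  set Om := Omega F ⇑Q
  set Z := Subgroup.center Om
  have hι : Nonempty ι := Fintype.card_pos_iff.1 (by omega)
  -- central elements are scalars `l` with `l ^ 2 = 1`
  have hsc : ∀ z : Z, ∃ l : F, l ^ 2 = 1 ∧ omVal (z : Om) = l • 1 := by
    intro z
    obtain ⟨l, hl⟩ := (omPi_eq_one_iff hQ hT (p := p) (s := (z : Om))).1
      ((QuotientGroup.eq_one_iff _).2 z.2)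
    refine ⟨l, ?_, hl⟩
    obtain ⟨v, hv⟩ := exists_anisotropic hQ (by omega : 1 ≤ Fintype.card ι)
    have := omVal_quad (z : Om) v
    rw [hl, Matrix.smul_mulVec, Matrix.one_mulVec, QuadraticMap.map_smul, smul_eq_mul] at this
    exact mul_right_cancel₀ hv (by rw [one_mul, sq]; exact this)
  choose f hf1 hf2 using hsc
  have hinj : Function.Injective f := fun a b h =>
    Subtype.ext (omVal_ext ((hf2 a).trans (by rw [h]; exact (hf2 b).symm)))
  have hmul : Nat.card Z * Nat.card (POmega F ⇑Q) * Om.index = Nat.card (isometryGroup F ⇑Q) := by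
    rw [← Om.card_mul_index, Subgroup.card_eq_card_quotient_mul_card_subgroup Z, mul_comm (Nat.card Z)]
  by_cases h2 : (2 : F) = 0
  · have : Nat.card Z = 1 := by
      have : Subsingleton Z := ⟨fun a b => hinj (by
        have key : ∀ z, f z = 1 := fun z => by
          have : (f z - 1) ^ 2 = 0 := by linear_combination hf1 z + (1 - f z) * h2
          exact sub_eq_zero.1 (pow_eq_zero_iff two_ne_zero |>.1 this)
        rw [key a, key b])⟩
      exact Nat.card_unique
    rw [this, index_omega_two hQ hG h2 (by omega)] at hmul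
    exact ⟨1, fun h => (Fact.out : p.Prime).not_dvd_one h, hmul⟩
  · have hle : Nat.card Z ≤ 2 := by
      have h2' := Nat.card_le_card_of_injective
        (fun z => (⟨f z, by
          rcases sq_eq_one_iff.1 (hf1 z) with h | h <;> simp [h]⟩ : ↥({1, -1} : Finset F)))
        (fun a b h => hinj (congrArg Subtype.val h))
      rw [Nat.card_eq_finsetCard] at h2'
      exact h2'.trans Finset.card_le_two
    have hp2 : p ≠ 2 := by
      rintro rfl
      exact h2 (CharP.cast_eq_zero F 2)
    rw [index_omega_odd hQ hG h2 (by omega)] at hmul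
    refine ⟨2 * Nat.card Z, fun h => ?_, by rw [← hmul]; ring⟩
    have hp := (Fact.out : p.Prime)
    have h3 := hp.two_le
    rcases hp.dvd_mul.1 h with h | h
    · exact hp2 ((Nat.prime_dvd_prime_iff_eq hp Nat.prime_two).1 h)
    · have := Nat.le_of_dvd Nat.card_pos h
      omega

end Cfsg.Agent.Lie.OrderBound
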