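import Cfsg.Agent.Lib.Lie.RepDegSLStep
import Cfsg.Agent.Lib.Char.TwoTransConstituent
import Mathlib.LinearAlgebra.Projectivization.Cardinality
import Mathlib.LinearAlgebra.Projectivization.Action

/-! The smallest degree of a non-trivial representation of `SL_n`, `n ≥ 3`. -/

set_option autoImplicit false
set_option linter.unusedSectionVars false
set_option maxHeartbeats 800000

namespace Cfsg.Agent.Lie.RepDeg

open Matrix Module MinIndex Finset

universe u v w

variable {F : Type u} [Field F] [Fintype F] {k : ℕ}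

local notation "V" => (Fin (k + 3) → F)
local notation "Mn" => Matrix (Fin (k + 3)) (Fin (k + 3)) F
local notation "SL" => Matrix.SpecialLinearGroup (Fin (k + 3)) F

theorem isConj_T {v f v' f' : V} (hv : v ≠ 0) (hf : f ≠ 0) (hfv : f ⬝ᵥ v = 0)
    (hv' : v' ≠ 0) (hf' : f' ≠ 0) (hfv' : f' ⬝ᵥ v' = 0) : IsConj (T v f) (T v' f') := by
  obtain ⟨g, hg⟩ := Classical.exists_sl_conj_std (T v f) (isTransvection_T hv hf hfv)
  obtain ⟨g', hg'⟩ := Classical.exists_sl_conj_std (T v' f') (isTransvection_T hv' hf' hfv')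
  have e : g⁻¹ * T v f * g = g'⁻¹ * T v' f' * g' := ext' (hg.trans hg'.symm)
  refine isConj_iff.2 ⟨g' * g⁻¹, ?_⟩
  calc g' * g⁻¹ * T v f * (g' * g⁻¹)⁻¹ = g' * (g⁻¹ * T v f * g) * g'⁻¹ := by group
    _ = g' * (g'⁻¹ * T v' f' * g') * g'⁻¹ := by rw [e]
    _ = _ := by group

theorem T_ne_zero {v f : V} (h : f ⬝ᵥ v = 0) (hne : T v f ≠ 1) : v ≠ 0 ∧ f ≠ 0 := by
  refine ⟨fun e => hne ?_, fun e => hne ?_⟩
  · subst e
    exact ext' (by rw [T_val h]; simp)
  · rw [e, T_zero]

theorem transvection_eq_T (i j : Fin (k + 3)) (hij : i ≠ j) (c : F) :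
    (Pi.single j 1 : V) ⬝ᵥ Pi.single i c = 0 ∧
      (TransvectionStruct.mk i j hij c).toSpecialLinearGroup = T (Pi.single i c) (Pi.single j 1) := by
  have hd : (Pi.single j 1 : V) ⬝ᵥ Pi.single i c = 0 := by simp [hij.symm]
  refine ⟨hd, ext' ?_⟩
  rw [T_val hd]
  show Matrix.transvection i j c = _
  rw [Matrix.transvection]
  congr 1
  ext x y
  rw [vecMulVec_apply, Matrix.single_apply]
  rcases eq_or_ne x i with rfl | hx
  · rcases eq_or_ne y j with rfl | hy
    · simp
    · simp [hy, hy.symm]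
  · simp [hx, hx.symm]

/-- If the image is non-trivial then every transvection acts non-trivially. -/
theorem all_T_ne {H : Type v} [Monoid H] (π : Matrix.SpecialLinearGroup (Fin (k + 3)) F →* H)
    {g₀ : Matrix.SpecialLinearGroup (Fin (k + 3)) F} (hg₀ : π g₀ ≠ 1) {v f : V} (hv : v ≠ 0)
    (hf : f ≠ 0) (hfv : f ⬝ᵥ v = 0) : π (T v f) ≠ 1 := by
  intro h1
  apply hg₀
  have hker : (⊤ : Subgroup SL) ≤ π.ker := by
    rw [← Classical.SL_closure_transvections, Subgroup.closure_le]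
    rintro _ ⟨⟨i, j, hij, c⟩, rfl⟩
    obtain ⟨hd, e⟩ := transvection_eq_T i j hij c
    rw [SetLike.mem_coe, MonoidHom.mem_ker, e]
    by_cases hne : T (Pi.single i c : V) (Pi.single j 1) = 1
    · rw [hne, map_one]
    · obtain ⟨h2, h3⟩ := T_ne_zero hd hne
      obtain ⟨g, hg⟩ := isConj_iff.1 (isConj_T hv hf hfv h2 h3 hd)
      rw [← hg, map_mul, map_mul, h1, mul_one, ← map_mul, mul_inv_cancel, map_one]
  exact hker (Subgroup.mem_top g₀)

/-- The number of transvections. -/
theorem index_centralizer_T {v₀ f₀ : V} (hv₀ : v₀ ≠ 0) (hf₀ : f₀ ≠ 0) (h00 : f₀ ⬝ᵥ v₀ = 0) :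
    (Subgroup.centralizer ({T v₀ f₀} : Set SL)).index * (Fintype.card F - 1) =
      (Fintype.card F ^ (k + 3) - 1) * (Fintype.card F ^ (k + 2) - 1) := by
  classical
  rw [← Char.card_conjClass]
  let P := Σ v : {v : V // v ≠ 0}, {f : D v.1 // f ≠ 0}
  have hP : Nat.card P = (Fintype.card F ^ (k + 3) - 1) * (Fintype.card F ^ (k + 2) - 1) := by
    have key : ∀ (A : Type u) [Zero A] [Finite A], Nat.card {a : A // a ≠ 0} = Nat.card A - 1 := by
      intro A _ _
      haveI := Fintype.ofFinite A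
      rw [Nat.card_eq_fintype_card, Nat.card_eq_fintype_card, Fintype.card_subtype_compl,
        Fintype.card_subtype_eq]
    haveI : Fintype {v : V // v ≠ 0} := Fintype.ofFinite _
    rw [Nat.card_sigma, Finset.sum_congr rfl (fun (v : {v : V // v ≠ 0}) _ =>
      (key (D v.1)).trans (by rw [card_D v.2])), Finset.sum_const, Finset.card_univ,
      ← Nat.card_eq_fintype_card, key V, Nat.card_fun, Nat.card_eq_fintype_card, Nat.card_eq_fintype_card,
      Fintype.card_fin, smul_eq_mul]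
  have hrep : ∀ t : {x : SL // IsConj (T v₀ f₀) x}, ∃ v f : V, v ≠ 0 ∧ f ≠ 0 ∧ f ⬝ᵥ v = 0 ∧ t.1 = T v f := by
    rintro ⟨t, ht⟩
    obtain ⟨g, rfl⟩ := isConj_iff.1 ht
    have hd : (f₀ ᵥ* ((g⁻¹ : SL) : Mn)) ⬝ᵥ ((g : Mn) *ᵥ v₀) = 0 := by rw [dot_conj, h00]
    have hne : T ((g : Mn) *ᵥ v₀) (f₀ ᵥ* ((g⁻¹ : SL) : Mn)) ≠ 1 := by
      rw [← T_conj g h00]
      intro e
      exact T_ne_one hv₀ hf₀ h00 (by
        have := congrArg (fun x => g⁻¹ * x * g) e
        simpa [mul_assoc] using this)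
    exact ⟨_, _, (T_ne_zero hd hne).1, (T_ne_zero hd hne).2, hd, T_conj g h00⟩
  choose vv ff hvv hff hfvv htt using hrep
  let θ : {x : SL // IsConj (T v₀ f₀) x} × Fˣ → P := fun p =>
    ⟨⟨(p.2 : F) • vv p.1, smul_ne_zero p.2.ne_zero (hvv p.1)⟩,
      ⟨⟨(p.2 : F)⁻¹ • ff p.1, by
        rw [mem_D, smul_dotProduct, dotProduct_smul, hfvv, smul_zero, smul_zero]⟩,
      fun e => smul_ne_zero (inv_ne_zero p.2.ne_zero) (hff p.1) (congrArg Subtype.val e)⟩⟩
  have hθT : ∀ p, T (θ p).1.1 (θ p).2.1.1 = p.1.1 := by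
    intro p
    show T ((p.2 : F) • vv p.1) ((p.2 : F)⁻¹ • ff p.1) = _
    rw [T_smul _ (by rw [smul_dotProduct, hfvv, smul_zero]), smul_smul, mul_inv_cancel₀ p.2.ne_zero,
      one_smul, ← htt]
  have hext : ∀ x y : P, x.1.1 = y.1.1 → x.2.1.1 = y.2.1.1 → x = y := by
    rintro ⟨⟨v, hv⟩, ⟨⟨f, hfv⟩, hf⟩⟩ ⟨⟨v', hv'⟩, ⟨⟨f', hfv'⟩, hf'⟩⟩ (rfl : v = v') (rfl : f = f')
    rfl
  have hbij : Function.Bijective θ := by
    refine ⟨fun p p' h => ?_, fun x => ?_⟩
    · have h1 : p.1 = p'.1 := Subtype.ext (by rw [← hθT p, h, hθT p'])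
      refine Prod.ext h1 (Units.ext ?_)
      have h2 : (p.2 : F) • vv p.1 = (p'.2 : F) • vv p'.1 := congrArg (fun x : P => x.1.1) h
      rw [← h1] at h2
      exact smul_left_injective F (hvv p.1) h2
    · obtain ⟨⟨v, hv⟩, ⟨⟨f, hfv⟩, hf⟩⟩ := x
      have hf' : f ≠ 0 := fun e => hf (Subtype.ext e)
      let t : {x : SL // IsConj (T v₀ f₀) x} := ⟨T v f, isConj_T hv₀ hf₀ h00 hv hf' hfv⟩
      have e : (vecMulVec v f : Mn) = vecMulVec (vv t) (ff t) := by
        have := congrArg (fun x : SL => (x : Mn)) (htt t)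
        simp only [t, T_val (mem_D.1 hfv), T_val (hfvv t)] at this
        exact add_left_cancel this
      obtain ⟨j, hj⟩ := Function.ne_iff.1 hf'
      have hve : v = (ff t j / f j) • vv t := by
        ext i
        have h1 := congrFun (congrFun e i) j
        simp only [vecMulVec_apply] at h1
        rw [Pi.smul_apply, smul_eq_mul, div_mul_eq_mul_div, mul_comm, ← h1, mul_div_assoc,
          div_self hj, mul_one]
      have hc : ff t j / f j ≠ 0 := fun h0 => hv (by rw [hve, h0, zero_smul])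
      have hfe : f = (ff t j / f j)⁻¹ • ff t := by
        ext i
        obtain ⟨l, hl⟩ := Function.ne_iff.1 (hvv t)
        have h1 := congrFun (congrFun e l) i
        simp only [vecMulVec_apply] at h1
        have h2 : v l = (ff t j / f j) * vv t l := congrFun hve l
        rw [h2, mul_assoc, mul_left_comm] at h1
        rw [Pi.smul_apply, smul_eq_mul, eq_inv_mul_iff_mul_eq₀ hc]
        exact mul_left_cancel₀ hl h1
      exact ⟨(t, Units.mk0 _ hc), hext _ _ hve.symm hfe.symm⟩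
  rw [← hP, ← Nat.card_eq_of_bijective θ hbij, Nat.card_prod, Nat.card_units, Nat.card_eq_fintype_card (α := F)]

theorem realised_SL (M : Matrix (Fin (k + 3)) (Fin (k + 3)) F) (hM : M.det = 1) :
    Realised (MonoidHom.id (Matrix.SpecialLinearGroup (Fin (k + 3)) F)) M := by
  let h : SL := ⟨M, hM⟩
  refine ⟨h, fun v f v' f' hfv hv hf => ?_⟩
  have hf' : f' = f ᵥ* ((h⁻¹ : SL) : Mn) := by
    rw [← hf, vecMul_vecMul, show M = ((h : SL) : Mn) from rfl, ← Matrix.SpecialLinearGroup.coe_mul,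
      mul_inv_cancel, Matrix.SpecialLinearGroup.coe_one, vecMul_one]
  show h * T v f * h⁻¹ = T v' f'
  rw [T_conj h hfv, hf', ← hv]

theorem toGL_val (g : Matrix.SpecialLinearGroup (Fin (k + 3)) F) :
    ((Matrix.SpecialLinearGroup.toGL g : GL (Fin (k + 3)) F) : Mn) = (g : Mn) := rfl

theorem realised_GL (M : Matrix (Fin (k + 3)) (Fin (k + 3)) F) (hM : M.det ≠ 0) :
    Realised (Matrix.SpecialLinearGroup.toGL :
      Matrix.SpecialLinearGroup (Fin (k + 3)) F →* GL (Fin (k + 3)) F) M := by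
  refine ⟨Matrix.GeneralLinearGroup.mkOfDetNeZero M hM, fun v f v' f' hfv hv hf => ?_⟩
  have hd : f' ⬝ᵥ v' = 0 := by rw [← hv, dotProduct_mulVec, hf, hfv]
  rw [mul_inv_eq_iff_eq_mul]
  refine Units.ext ?_
  rw [Units.val_mul, Units.val_mul, toGL_val, toGL_val, T_val hfv, T_val hd]
  show M * (1 + vecMulVec v f) = (1 + vecMulVec v' f') * M
  rw [mul_add, add_mul, mul_one, one_mul, mul_vecMulVec, vecMulVec_mul, hv, hf]

theorem exists_pow_ne_one (j : ℕ) (hj : j ≠ 0) (h : ¬ (Fintype.card F - 1) ∣ j) :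
    ∃ t : F, t ≠ 0 ∧ t ^ j ≠ 1 := by
  obtain ⟨g, hg⟩ := IsCyclic.exists_generator (α := Fˣ)
  refine ⟨(g : F), g.ne_zero, fun e => h ?_⟩
  have h1 : g ^ j = 1 := Units.ext (by rw [Units.val_pow_eq_pow_val, e, Units.val_one])
  have h2 := orderOf_dvd_of_pow_eq_one h1
  rwa [orderOf_eq_card_of_forall_mem_zpowers hg, Nat.card_units, Nat.card_eq_fintype_card] at h2

/-- The exceptions of the estimate. -/
def Ok (k q : ℕ) : Prop := ¬ (k = 0 ∧ (q = 2 ∨ q = 4)) ∧ ¬ (k = 1 ∧ (q = 2 ∨ q = 3))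

theorem canMove_SL (hok : Ok k (Fintype.card F)) {v₀ f₀ : V} (hv₀ : v₀ ≠ 0) (hf₀ : f₀ ≠ 0)
    (h00 : f₀ ⬝ᵥ v₀ = 0) :
    CanMove (MonoidHom.id (Matrix.SpecialLinearGroup (Fin (k + 3)) F)) v₀ f₀ := by
  have hq := Fintype.one_lt_card (α := F)
  refine canMove _ False (fun M _ h => realised_SL M (h.resolve_right id)) (fun hk => ?_) (fun hk => ?_)
    hv₀ hf₀ h00
  · have h1 : ¬ (Fintype.card F - 1) ∣ 3 := fun hd => hok.1 ⟨hk, by
      have := Nat.le_of_dvd (by norm_num) hd
      rcases (Nat.dvd_prime Nat.prime_three).1 hd with h | h <;> omega⟩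
    obtain ⟨t, ht, ht3⟩ := exists_pow_ne_one 3 (by norm_num) h1
    refine ⟨t, (t ^ 3)⁻¹, ht, inv_ne_zero (pow_ne_zero _ ht), fun e => ht3 (by simpa using e),
      Or.inl (mul_inv_cancel₀ (pow_ne_zero _ ht))⟩
  · have h1 : ¬ (Fintype.card F - 1) ∣ 2 := fun hd => hok.2 ⟨hk, by
      rcases (Nat.dvd_prime Nat.prime_two).1 hd with h | h <;> omega⟩
    obtain ⟨r, hr, hr2⟩ := exists_pow_ne_one 2 (by norm_num) h1
    refine ⟨r, r⁻¹, hr, inv_ne_zero hr, fun e => hr2 ?_, Or.inl (mul_inv_cancel₀ hr)⟩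
    rw [pow_two]
    nth_rw 2 [e]
    exact mul_inv_cancel₀ hr

theorem canMove_GL (hq : 3 ≤ Fintype.card F) {v₀ f₀ : V} (hv₀ : v₀ ≠ 0) (hf₀ : f₀ ≠ 0)
    (h00 : f₀ ⬝ᵥ v₀ = 0) :
    CanMove (Matrix.SpecialLinearGroup.toGL :
      Matrix.SpecialLinearGroup (Fin (k + 3)) F →* GL (Fin (k + 3)) F) v₀ f₀ := by
  obtain ⟨s, hs, hs1⟩ := exists_pow_ne_one (F := F) 1 one_ne_zero (fun hd => by
    have := Nat.le_of_dvd Nat.one_pos hd
    omega)
  rw [pow_one] at hs1
  exact canMove _ True (fun M hM _ => realised_GL M hM)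
    (fun _ => ⟨1, s, one_ne_zero, hs, hs1, Or.inr trivial⟩)
    (fun _ => ⟨s, 1, hs, one_ne_zero, hs1, Or.inr trivial⟩) hv₀ hf₀ h00

section Emb

/-- The embedding of `GL_{k+3}` in `SL_{k+4}` fixing the last line. -/
def blk (d : F) (g : Matrix (Fin (k + 3)) (Fin (k + 3)) F) :
    Matrix (Fin (k + 1 + 3)) (Fin (k + 1 + 3)) F :=
  Matrix.of (Fin.snoc (α := fun _ => Fin (k + 3 + 1) → F) (fun i => Fin.snoc (g i) 0) (Fin.snoc 0 d))

theorem blk_mul (d d' : F) (g g' : Mn) : blk (k := k) d g * blk d' g' = blk (d * d') (g * g') := by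
  ext i j
  rw [Matrix.mul_apply, show (Finset.univ : Finset (Fin (k + 1 + 3))) = (Finset.univ : Finset (Fin (k + 3 + 1))) from rfl,
    Fin.sum_univ_castSucc]
  induction i using Fin.lastCases (n := k + 3) with
  | last =>
    induction j using Fin.lastCases (n := k + 3) with
    | last => simp [blk]
    | cast j => simp [blk]
  | cast i =>
    induction j using Fin.lastCases (n := k + 3) with
    | last => simp [blk]
    | cast j => simp [blk, Matrix.mul_apply]

theorem det_blk (d : F) (g : Mn) : (blk (k := k) d g).det = d * g.det := by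
  have e : blk (k := k) d g =
      (Matrix.reindex finSumFinEquiv finSumFinEquiv (fromBlocks g 0 0 (d • (1 : Matrix (Fin 1) (Fin 1) F))) :
        Matrix (Fin (k + 3 + 1)) (Fin (k + 3 + 1)) F) := by
    ext i j
    induction i using Fin.lastCases (n := k + 3) with
    | last =>
      induction j using Fin.lastCases (n := k + 3) with
      | last => simp [blk]
      | cast j => simp [blk]
    | cast i =>
      induction j using Fin.lastCases (n := k + 3) with
      | last => simp [blk]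
      | cast j => simp [blk]
  rw [e]
  show ((Matrix.reindex finSumFinEquiv finSumFinEquiv) _).det = _
  rw [Matrix.det_reindex_self, det_fromBlocks_zero₂₁]
  simp [mul_comm]

theorem blk_one : blk (k := k) (1 : F) 1 = 1 := by
  ext i j
  induction i using Fin.lastCases (n := k + 3) with
  | last =>
    induction j using Fin.lastCases (n := k + 3) with
    | last => simp [blk]
    | cast j => simp [blk, Fin.castSucc_ne_last, (Fin.castSucc_ne_last _).symm]
  | cast i =>
    induction j using Fin.lastCases (n := k + 3) with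
    | last => simp [blk, Fin.castSucc_ne_last]
    | cast j => simp [blk, Matrix.one_apply]

/-- `g ↦ diag (g, det g⁻¹)`. -/
noncomputable def emb : GL (Fin (k + 3)) F →* Matrix.SpecialLinearGroup (Fin (k + 1 + 3)) F where
  toFun g := ⟨blk ((g : Mn).det)⁻¹ (g : Mn), by
    rw [det_blk, inv_mul_cancel₀]
    exact ((Matrix.isUnit_iff_isUnit_det _).1 g.isUnit).ne_zero⟩
  map_one' := Subtype.ext (by
    show blk ((1 : GL (Fin (k + 3)) F) : Mn).det⁻¹ ((1 : GL (Fin (k + 3)) F) : Mn) = 1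
    rw [Units.val_one, det_one, inv_one, blk_one])
  map_mul' g g' := Subtype.ext (by
    show blk _ _ = blk _ _ * blk _ _
    rw [blk_mul, Units.val_mul, det_mul, mul_inv]
    )

/-- The last basis vector. -/
def eLast : Fin (k + 1 + 3) → F := Fin.snoc (α := fun _ => F) (0 : Fin (k + 3) → F) 1

/-- Padding with a zero. -/
def pad (a : V) : Fin (k + 1 + 3) → F := Fin.snoc (α := fun _ => F) a 0

theorem pad_dot (a b : V) : pad a ⬝ᵥ pad b = a ⬝ᵥ b := by
  show ∑ i : Fin (k + 3 + 1), pad a i * pad b i = _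
  rw [Fin.sum_univ_castSucc]
  simp [pad, dotProduct]

theorem eLast_dot (b : V) : eLast ⬝ᵥ pad b = (0 : F) := by
  show ∑ i : Fin (k + 3 + 1), eLast i * pad b i = _
  rw [Fin.sum_univ_castSucc]
  simp [pad, eLast]

theorem emb_T {a b : V} (h : b ⬝ᵥ a = 0) :
    emb (Matrix.SpecialLinearGroup.toGL (T a b)) = T (pad a) (pad b) := by
  refine Subtype.ext ?_
  rw [T_val (by rw [pad_dot, h])]
  show blk ((T a b : SL) : Mn).det⁻¹ ((T a b : SL) : Mn) = _
  rw [Matrix.SpecialLinearGroup.det_coe, inv_one, T_val h]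
  ext i j
  induction i using Fin.lastCases (n := k + 3) with
  | last =>
    induction j using Fin.lastCases (n := k + 3) with
    | last => simp [blk, pad, vecMulVec_apply]
    | cast j => simp [blk, pad, vecMulVec_apply, (Fin.castSucc_ne_last _).symm]
  | cast i =>
    induction j using Fin.lastCases (n := k + 3) with
    | last => simp [blk, pad, vecMulVec_apply, Fin.castSucc_ne_last]
    | cast j => simp [blk, pad, vecMulVec_apply, Matrix.one_apply]

theorem emb_eLast (g : GL (Fin (k + 3)) F) :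
    ((emb g : Matrix.SpecialLinearGroup (Fin (k + 1 + 3)) F) :
      Matrix (Fin (k + 1 + 3)) (Fin (k + 1 + 3)) F) *ᵥ eLast = ((g : Mn).det)⁻¹ • eLast := by
  ext i
  show ∑ j : Fin (k + 3 + 1), blk _ (g : Mn) i j * eLast j = _
  rw [Fin.sum_univ_castSucc]
  induction i using Fin.lastCases (n := k + 3) with
  | last => simp [blk, eLast]
  | cast i => simp [blk, eLast]

/-- The representation of `GL_{k+3}` on the fixed space of a transvection group. -/
noncomputable def resR {E : Type w} [AddCommGroup E] [Module ℂ E]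
    (ρ : Representation ℂ (Matrix.SpecialLinearGroup (Fin (k + 1 + 3)) F) E) :
    Representation ℂ (GL (Fin (k + 3)) F)
      (LinearMap.range (fixA (MonoidHom.id _) ρ (eLast (F := F) (k := k)))) where
  toFun g := (ρ (emb g)).restrict (p := LinearMap.range (fixA (MonoidHom.id _) ρ eLast))
    (q := LinearMap.range (fixA (MonoidHom.id _) ρ eLast)) (by
      rintro _ ⟨w, rfl⟩
      refine ⟨ρ (emb g) w, ?_⟩
      have key : ρ (emb g) * fixA (MonoidHom.id _) ρ eLast = fixA (MonoidHom.id _) ρ eLast * ρ (emb g) := by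
        letI := Fintype.ofFinite (D (eLast (F := F) (k := k)))
        have hv := emb_eLast g
        have hd : ((g : Mn).det)⁻¹ ≠ 0 :=
          inv_ne_zero ((Matrix.isUnit_iff_isUnit_det _).1 g.isUnit).ne_zero
        set M := emb g
        set dd := ((g : Mn).det)⁻¹
        simp only [fixA, mul_smul_comm, smul_mul_assoc, Finset.mul_sum, Finset.sum_mul]
        congr 1
        have hval : ∀ f : D (eLast (F := F) (k := k)), (f.1 ᵥ* ((M⁻¹ : Matrix.SpecialLinearGroup (Fin (k + 1 + 3)) F) :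
            Matrix (Fin (k + 1 + 3)) (Fin (k + 1 + 3)) F)) ⬝ᵥ eLast = 0 := fun f => by
          have h1 := dot_conj M f.1 eLast
          rw [hv, dotProduct_smul, smul_eq_mul, mem_D.1 f.2] at h1
          exact (mul_eq_zero.1 h1).resolve_left hd
        let σ : D (eLast (F := F) (k := k)) → D (eLast (F := F) (k := k)) := fun f =>
          ⟨dd • (f.1 ᵥ* ((M⁻¹ : Matrix.SpecialLinearGroup (Fin (k + 1 + 3)) F) :
            Matrix (Fin (k + 1 + 3)) (Fin (k + 1 + 3)) F)), by
            rw [mem_D, smul_dotProduct, hval, smul_zero]⟩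
        have hσ : Function.Injective σ := fun f f' h => by
          have h1 := smul_right_injective _ hd (congrArg Subtype.val h)
          refine Subtype.ext (Matrix.vecMul_injective_of_isUnit ?_ h1)
          exact (Matrix.isUnit_iff_isUnit_det _).2 (by rw [Matrix.SpecialLinearGroup.det_coe]; exact isUnit_one)
        refine Fintype.sum_equiv (Equiv.ofBijective σ (Finite.injective_iff_bijective.1 hσ)) _ _ fun f => ?_
        show ρ M * ρ (T eLast f.1) = ρ (T eLast (σ f).1) * ρ M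
        rw [← map_mul, ← map_mul]
        congr 1
        rw [← mul_inv_eq_iff_eq_mul, T_conj M f.2, hv,
          T_smul dd (hval f)]
      exact (LinearMap.congr_fun key w).symm)
  map_one' := by
    ext x
    simp [LinearMap.restrict_coe_apply]
  map_mul' g g' := by
    ext x
    simp [LinearMap.restrict_coe_apply]

theorem resR_nontrivial {E : Type w} [AddCommGroup E] [Module ℂ E] [FiniteDimensional ℂ E]
    (ρ : Representation ℂ (Matrix.SpecialLinearGroup (Fin (k + 1 + 3)) F) E) {b : V} (hb : b ≠ 0)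
    (hu : ∃ u, pad b ⬝ᵥ u = 0 ∧
      ρ (T u (pad b)) * fixA (MonoidHom.id _) ρ eLast ≠ fixA (MonoidHom.id _) ρ eLast) :
    ∀ {x y : V}, x ≠ 0 → y ≠ 0 → y ⬝ᵥ x = 0 → resR ρ (Matrix.SpecialLinearGroup.toGL (T x y)) ≠ 1 := by
  obtain ⟨u, hu, hne⟩ := hu
  set E₀ := fixA (MonoidHom.id (Matrix.SpecialLinearGroup (Fin (k + 1 + 3)) F)) ρ eLast
  let u' : V := fun i => u i.castSucc
  have hu' : u = pad u' + u (Fin.last (k + 3)) • eLast := by
    ext i
    induction i using Fin.lastCases (n := k + 3) with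
    | last => simp [pad, eLast]
    | cast i => simp [pad, eLast, u']
  have hbe : pad b ⬝ᵥ eLast = 0 := by rw [dotProduct_comm, eLast_dot]
  have hbu : b ⬝ᵥ u' = 0 := by
    rw [hu', dotProduct_add, dotProduct_smul, hbe, smul_zero, add_zero, pad_dot] at hu
    exact hu
  set c := u (Fin.last (k + 3))
  have hfix : ρ (T (c • eLast) (pad b)) * E₀ = E₀ := by
    letI := Fintype.ofFinite (D (eLast (F := F) (k := k)))
    rw [T_smul c hbe]
    simp only [E₀, fixA, mul_smul_comm, Finset.mul_sum]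
    congr 1
    let cb : D (eLast (F := F) (k := k)) := ⟨c • pad b, by rw [mem_D, smul_dotProduct, hbe, smul_zero]⟩
    refine Fintype.sum_equiv (Equiv.addLeft cb) _ _ fun f => ?_
    show ρ (T eLast (c • pad b)) * ρ (T eLast f.1) = ρ (T eLast (c • pad b + f.1))
    rw [← map_mul, T_mul cb.2 f.2]
  have hTu : T u (pad b) = T (pad u') (pad b) * T (c • eLast) (pad b) := by
    rw [T_mul_left (by rw [pad_dot, hbu]) (by rw [dotProduct_smul, hbe, smul_zero]), ← hu']
  rw [hTu, map_mul, mul_assoc, hfix] at hne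
  have h0 : resR ρ (Matrix.SpecialLinearGroup.toGL (T u' b)) ≠ 1 := by
    intro h1
    apply hne
    refine LinearMap.ext fun w => ?_
    have := congrArg Subtype.val (LinearMap.congr_fun h1 ⟨E₀ w, LinearMap.mem_range_self _ w⟩)
    rw [Module.End.mul_apply, ← emb_T hbu]
    exact this
  intro x y hx hy hxy
  exact all_T_ne ((resR ρ).comp Matrix.SpecialLinearGroup.toGL) h0 hx hy hxy

end Emb

end Cfsg.Agent.Lie.RepDeg
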