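import Cfsg.Agent.Lib.Lie.RepDegSL

/-! The smallest degree of a non-trivial representation of `SL_n`, `n ≥ 3`: conclusion. -/

set_option autoImplicit false
set_option linter.unusedSectionVars false
set_option maxHeartbeats 800000

namespace Cfsg.Agent.Lie.RepDeg

open Matrix Module MinIndex Finset Representation

universe u v w

variable {F : Type u} [Field F] [Fintype F] {k : ℕ}

local notation "V" => (Fin (k + 3) → F)
local notation "Mn" => Matrix (Fin (k + 3)) (Fin (k + 3)) F
local notation "SL" => Matrix.SpecialLinearGroup (Fin (k + 3)) F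
local notation "V'" => (Fin (k + 1 + 3) → F)

/-- The estimate for irreducible representations. -/
def Low (F : Type u) [Field F] [Fintype F] (k : ℕ) : Prop :=
  ∀ (n : ℕ) (σ : Representation ℂ (Matrix.SpecialLinearGroup (Fin (k + 3)) F) (Fin n → ℂ)),
    σ.IsIrreducible → (∃ g, σ g ≠ 1) → Ok k (Fintype.card F) → B (Fintype.card F) (k + 3) ≤ n + 1

theorem low_any (h : Low F k) (hok : Ok k (Fintype.card F)) {E : Type w} [AddCommGroup E] [Module ℂ E]
    [FiniteDimensional ℂ E] (π : Representation ℂ (Matrix.SpecialLinearGroup (Fin (k + 3)) F) E)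
    {g₀ : Matrix.SpecialLinearGroup (Fin (k + 3)) F} (hg₀ : π g₀ ≠ 1) :
    B (Fintype.card F) (k + 3) ≤ finrank ℂ E + 1 := by
  classical
  haveI := Fintype.ofFinite (Matrix.SpecialLinearGroup (Fin (k + 3)) F)
  obtain ⟨n, σ, hσ, -, hn, hg⟩ := Char.exists_nontrivial_constituent π hg₀
  have := h n σ hσ hg hok
  omega

theorem B_mul (q n : ℕ) (hq : 1 ≤ q) : B q n * (q - 1) = q ^ n - 1 := by
  have h := geom_sum_mul_add (q - 1) n
  rw [Nat.sub_add_cancel hq] at h
  show (∑ i ∈ Finset.range n, q ^ i) * (q - 1) = q ^ n - 1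
  omega

/-- The size of the class of transvections. -/
theorem class_size {v₀ f₀ : V} (hv₀ : v₀ ≠ 0) (hf₀ : f₀ ≠ 0) (h00 : f₀ ⬝ᵥ v₀ = 0) :
    (Subgroup.centralizer ({T v₀ f₀} : Set SL)).index =
      B (Fintype.card F) (k + 3) * (Fintype.card F ^ (k + 2) - 1) := by
  have hq := Fintype.one_lt_card (α := F)
  refine Nat.eq_of_mul_eq_mul_right (Nat.sub_pos_of_lt hq) ?_
  rw [index_centralizer_T hv₀ hf₀ h00, mul_right_comm, B_mul _ _ hq.le]

theorem degree_dvd {E : Type w} [AddCommGroup E] [Module ℂ E] [FiniteDimensional ℂ E]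
    (σ : Representation ℂ (Matrix.SpecialLinearGroup (Fin (k + 3)) F) E) [σ.IsIrreducible]
    {v₀ f₀ : V} (hv₀ : v₀ ≠ 0) (hf₀ : f₀ ≠ 0) (h00 : f₀ ⬝ᵥ v₀ = 0) {z : ℤ}
    (hz : σ.character (T v₀ f₀) = z) :
    (finrank ℂ E : ℤ) ∣
      ((B (Fintype.card F) (k + 3) * (Fintype.card F ^ (k + 2) - 1) : ℕ) : ℤ) * z := by
  rw [← class_size hv₀ hf₀ h00]
  exact Char.dvd_index_mul σ _ hz

/-- The trace relation without any moving hypothesis. -/
theorem step_basic {E : Type w} [AddCommGroup E] [Module ℂ E] [FiniteDimensional ℂ E]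
    (σ : Representation ℂ (Matrix.SpecialLinearGroup (Fin (k + 3)) F) E) {v₀ f₀ : V}
    (hv₀ : v₀ ≠ 0) (hf₀ : f₀ ≠ 0) (h00 : f₀ ⬝ᵥ v₀ = 0) (hnt : σ (T v₀ f₀) ≠ 1) :
    ∃ a m : ℕ, 1 ≤ m ∧ finrank ℂ E + m = a + Fintype.card F ^ (k + 2) * m ∧
      σ.character (T v₀ f₀) = (a : ℂ) - m := by
  classical
  obtain ⟨ψ, hψ1⟩ := (AddChar.exists_apply_ne_zero (a := (1 : F))).2 one_ne_zero
  have hψ : ψ ≠ 1 := fun h => hψ1 (by rw [h]; rfl)
  haveI := Fintype.ofFinite (D v₀)
  let aA : D v₀ → Module.End ℂ E := fun f => σ (T v₀ f.1)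
  have ha0 : aA 0 = 1 := by simp [aA, T_zero]
  have hamul : ∀ f g, aA (f + g) = aA f * aA g := fun f g => by
    simp only [aA, ← map_mul, T_mul f.2 g.2]; rfl
  have hone : LinearMap.trace ℂ E 1 = (finrank ℂ E : ℂ) := by
    rw [Module.End.one_eq_id, LinearMap.trace_id]
  have hac : ∀ f : D v₀, f ≠ 0 → LinearMap.trace ℂ E (aA f) = σ.character (T v₀ f₀) := fun f hf =>
    char_T (MonoidHom.id _) σ hv₀ (fun e => hf (Subtype.ext e)) f.2 hv₀ hf₀ h00
  have hN : Fintype.card (D v₀) = Fintype.card F ^ (k + 2) := by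
    rw [← Nat.card_eq_fintype_card, card_D hv₀]
  have hN0 : ((Fintype.card F ^ (k + 2) : ℕ) : ℂ) ≠ 0 :=
    Nat.cast_ne_zero.mpr (pow_ne_zero _ Fintype.card_ne_zero)
  obtain ⟨β, hβ⟩ : ∃ β : D v₀ →ₗ[F] F, β ≠ 0 := by
    haveI : Nontrivial (D v₀) := Module.nontrivial_of_finrank_pos (R := F) (by rw [finrank_D hv₀]; omega)
    exact exists_ne 0
  obtain ⟨m, hm, -, -⟩ := Char.idem_trace_nat (Char.cproj_idem hψ hamul β)
  obtain ⟨a, ha, -, -⟩ := Char.idem_trace_nat (Char.cproj_idem hψ hamul (0 : D v₀ →ₗ[F] F))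
  rw [Char.trace_cproj hψ ha0 hone hac, if_neg hβ, hN, inv_mul_eq_iff_eq_mul₀ hN0] at hm
  rw [Char.trace_cproj hψ ha0 hone hac, if_pos rfl, hN, inv_mul_eq_iff_eq_mul₀ hN0] at ha
  have hc : σ.character (T v₀ f₀) = (a : ℂ) - m := by
    refine mul_left_cancel₀ hN0 ?_
    linear_combination ha - hm
  have hd : (finrank ℂ E : ℂ) + m = a + ((Fintype.card F ^ (k + 2) : ℕ) : ℂ) * m := by
    linear_combination hm + hc
  refine ⟨a, m, Nat.one_le_iff_ne_zero.2 fun h0 => hnt ?_, by exact_mod_cast hd, hc⟩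
  subst h0
  have h1 : σ.character (T v₀ f₀) = (finrank ℂ E : ℂ) := by
    rw [hc]
    simp only [Nat.cast_zero, mul_zero, add_zero] at hd
    rw [Nat.cast_zero, sub_zero, hd]
  rw [(Char.character_eq_finrank_iff σ _).1 h1, Module.End.one_eq_id]

theorem low_zero : Low F 0 := by
  intro n σ hσ hg hok
  obtain ⟨g, hg⟩ := hg
  by_contra hlt
  push Not at hlt
  have hq := Fintype.one_lt_card (α := F)
  haveI := hσ
  let v₀ : Fin (0 + 3) → F := Pi.single 0 1
  let f₀ : Fin (0 + 3) → F := Pi.single 1 1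
  have hv₀ : v₀ ≠ 0 := by simp [v₀]
  have hf₀ : f₀ ≠ 0 := by simp [f₀]
  have h00 : f₀ ⬝ᵥ v₀ = 0 := by simp [v₀, f₀]
  have hnt := all_T_ne σ hg hv₀ hf₀ h00
  have hB : B (Fintype.card F) (0 + 3) = 1 + Fintype.card F + Fintype.card F ^ 2 := by
    simp [B, Finset.sum_range_succ]
  have hsmall : finrank ℂ (Fin n → ℂ) + 2 < 2 * Fintype.card F ^ (0 + 2) := by
    rw [Module.finrank_fin_fun]
    norm_num
    nlinarith
  obtain ⟨a, hd, hc, ha, -, -, -⟩ := step (MonoidHom.id _) σ hv₀ hf₀ h00 (canMove_SL hok hv₀ hf₀ h00) hnt hsmall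
  rw [Module.finrank_fin_fun] at hd
  have hdvd := degree_dvd σ hv₀ hf₀ h00 (z := (a : ℤ) - 1) (by
    rw [show σ.character (T v₀ f₀) = _ from hc]; push_cast; rfl)
  rw [Module.finrank_fin_fun, hB, Nat.cast_mul,
    Nat.cast_sub (Nat.one_le_pow _ _ (by omega))] at hdvd
  push_cast at hdvd
  set q := Fintype.card F with hqd
  norm_num at hd ha
  have hq2 : q ≠ 2 := fun h => hok.1 ⟨rfl, Or.inl h⟩
  have hq4 : q ≠ 4 := fun h => hok.1 ⟨rfl, Or.inr h⟩
  rcases Nat.lt_or_ge a q with hcase | hcase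
  · -- `a = q - 1`
    have ha' : (a : ℤ) = (q : ℤ) - 1 := by omega
    have hn : (n : ℤ) = (q + 2) * (q - 1) := by
      have : (n : ℤ) + 1 = (q : ℤ) ^ 2 + a := by exact_mod_cast hd
      linear_combination this + ha'
    rw [ha', hn, show (1 + (q : ℤ) + q ^ 2) * (q ^ 2 - 1) * (q - 1 - 1) =
      ((1 + (q : ℤ) + q ^ 2) * (q + 1) * (q - 2)) * (q - 1) by ring] at hdvd
    have h1 := (mul_dvd_mul_iff_right (show (q : ℤ) - 1 ≠ 0 by omega)).1 hdvd
    have h2 : ((q : ℤ) + 2) ∣ 12 := by
      have e : (12 : ℤ) = (1 + (q : ℤ) + q ^ 2) * (q + 1) * (q - 2) -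
          (q + 2) * ((q - 1) * (q + 1) * (q - 2) + 3 * (q - 2) - 3) := by ring
      rw [e]
      exact dvd_sub h1 (dvd_mul_right _ _)
    have h3 : q + 2 ∣ 12 := by exact_mod_cast h2
    have h4 := Nat.le_of_dvd (by norm_num) h3
    have h10 : q ≠ 10 := fun h => by
      have hp := FiniteField.isPrimePow_card F
      rw [← hqd, h] at hp
      obtain ⟨p, e, hp, he, hpe⟩ := hp
      have hp' : p.Prime := hp.nat_prime
      have h2p : p = 2 := ((Nat.prime_dvd_prime_iff_eq Nat.prime_two hp').1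
        (Nat.prime_two.dvd_of_dvd_pow (show 2 ∣ p ^ e by rw [hpe]; norm_num))).symm
      subst h2p
      rcases Nat.lt_or_ge e 4 with h' | h'
      · interval_cases e <;> simp at hpe
      · have := Nat.pow_le_pow_right (show 1 ≤ 2 by norm_num) h'
        omega
    have h11 : q ≤ 10 := by omega
    interval_cases q <;> omega
  · -- `a = q`
    have ha' : (a : ℤ) = (q : ℤ) := by omega
    have hn : (n : ℤ) = (q : ℤ) ^ 2 + q - 1 := by
      have : (n : ℤ) + 1 = (q : ℤ) ^ 2 + a := by exact_mod_cast hd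
      linear_combination this + ha'
    rw [ha', hn] at hdvd
    have h2 : ((q : ℤ) ^ 2 + q - 1) ∣ (4 * (q : ℤ) - 2) := by
      have e : 4 * (q : ℤ) - 2 = (1 + (q : ℤ) + q ^ 2) * (q ^ 2 - 1) * (q - 1) -
          ((q : ℤ) ^ 2 + q - 1) * (((q : ℤ) ^ 2 + 1) * (q - 1) - 2) := by ring
      rw [e]
      exact dvd_sub hdvd (dvd_mul_right _ _)
    have h5 := Int.le_of_dvd (by omega) h2
    have hq3 : (3 : ℤ) ≤ q := by omega
    nlinarith

theorem pad_single_ne (hb : (Pi.single 0 1 : V) ≠ 0) : pad (Pi.single 0 1 : V) ≠ 0 := by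
  intro h
  apply hb
  ext i
  have := congrFun h (Fin.castSucc i)
  simpa [pad] using this

theorem eLast_ne : (eLast : V') ≠ 0 := by
  intro h
  have := congrFun h (Fin.last (k + 3))
  simp [eLast] at this

/-- For two elements, the stabiliser of a point is generated by the embedded subgroup and the transvections. -/
theorem stab_decomp (hq : Fintype.card F = 2)
    (M : Matrix.SpecialLinearGroup (Fin (k + 1 + 3)) F)
    (hM : M • Projectivization.mk F (eLast : V') eLast_ne = Projectivization.mk F (eLast : V') eLast_ne) :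
    ∃ (g : Matrix.SpecialLinearGroup (Fin (k + 3)) F) (f : V'), f ⬝ᵥ eLast = 0 ∧
      M = emb (Matrix.SpecialLinearGroup.toGL g) * T eLast f := by
  have hMe : (M : Matrix (Fin (k + 1 + 3)) (Fin (k + 1 + 3)) F) *ᵥ (eLast : V') = eLast := by
    rw [Projectivization.matrixSpecialLinearGroup_smul_def, Projectivization.specialLinearGroup_smul_def,
      Projectivization.smul_mk] at hM
    obtain ⟨c, hc⟩ := (Projectivization.mk_eq_mk_iff' F _ _ _ _).1 hM
    have hc1 : c = 1 := by
      have hc0 : c ≠ 0 := fun h => by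
        rw [h, zero_smul] at hc
        have e := dot_conj M (Pi.single (Fin.last (k + 3)) 1) (eLast : V')
        change _ = (M : Matrix (Fin (k + 1 + 3)) (Fin (k + 1 + 3)) F) *ᵥ _ at hc
        rw [← hc, dotProduct_zero, single_dotProduct] at e
        simp [eLast] at e
      exact (FiniteField.pow_card_sub_one_eq_one c hc0).symm.trans (by rw [hq, pow_one]) |>.symm
    rw [hc1, one_smul] at hc
    exact hc.symm
  set φ : V' := eLast with hφ
  have hφφ : φ ⬝ᵥ (eLast : V') = 1 := by
    show ∑ i : Fin (k + 3 + 1), eLast i * eLast i = (1 : F)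
    rw [Fin.sum_univ_castSucc]
    simp [eLast]
  set f' : V' := φ - φ ᵥ* (M : Matrix (Fin (k + 1 + 3)) (Fin (k + 1 + 3)) F)
  have hf' : f' ⬝ᵥ (eLast : V') = 0 := by
    rw [sub_dotProduct, ← dotProduct_mulVec, hMe, sub_self]
  set X := M * T eLast f'
  have hXe : (X : Matrix (Fin (k + 1 + 3)) (Fin (k + 1 + 3)) F) *ᵥ (eLast : V') = eLast := by
    rw [Matrix.SpecialLinearGroup.coe_mul, ← mulVec_mulVec, T_mulVec hf', hf', zero_smul, add_zero, hMe]
  have hXφ : φ ᵥ* (X : Matrix (Fin (k + 1 + 3)) (Fin (k + 1 + 3)) F) = φ := by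
    rw [Matrix.SpecialLinearGroup.coe_mul, ← vecMul_vecMul, vecMul_T hf', ← dotProduct_mulVec, hMe,
      hφφ, one_smul, add_sub_cancel]
  have hcol : ∀ i, (X : Matrix (Fin (k + 1 + 3)) (Fin (k + 1 + 3)) F) i (Fin.last (k + 3)) = eLast i := by
    intro i
    conv_rhs => rw [← hXe]
    show _ = ∑ j : Fin (k + 3 + 1), _ * eLast j
    rw [Fin.sum_univ_castSucc]
    simp [eLast]
  have hrow : ∀ j, (X : Matrix (Fin (k + 1 + 3)) (Fin (k + 1 + 3)) F) (Fin.last (k + 3)) j = eLast j := by
    intro j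
    conv_rhs => rw [← hφ, ← hXφ]
    show _ = ∑ i : Fin (k + 3 + 1), eLast i * _
    rw [Fin.sum_univ_castSucc]
    simp [eLast]
  let g₀ : Mn := Matrix.of fun i j => (X : Matrix (Fin (k + 1 + 3)) (Fin (k + 1 + 3)) F) i.castSucc j.castSucc
  have hX : (X : Matrix (Fin (k + 1 + 3)) (Fin (k + 1 + 3)) F) = blk 1 g₀ := by
    ext i j
    induction i using Fin.lastCases (n := k + 3) with
    | last =>
      rw [hrow j]
      induction j using Fin.lastCases (n := k + 3) with
      | last => simp [blk, eLast]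
      | cast j => simp [blk, eLast]
    | cast i =>
      induction j using Fin.lastCases (n := k + 3) with
      | last => rw [hcol]; simp [blk, eLast]
      | cast j => simp [blk, g₀]
  have hg₀ : g₀.det = 1 := by
    have := congrArg Matrix.det hX
    rw [Matrix.SpecialLinearGroup.det_coe, det_blk, one_mul] at this
    exact this.symm
  refine ⟨⟨g₀, hg₀⟩, -f', by rw [neg_dotProduct, hf', neg_zero], ?_⟩
  have hemb : emb (Matrix.SpecialLinearGroup.toGL (⟨g₀, hg₀⟩ : SL)) = X := by
    refine Subtype.ext ?_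
    show blk (g₀.det)⁻¹ g₀ = _
    rw [hg₀, inv_one]
    exact hX.symm
  rw [hemb, ← T_inv hf', mul_inv_cancel_right]

theorem low_succ (ih : Low F k) : Low F (k + 1) := by
  intro n σ hσ hg hok
  obtain ⟨g, hg⟩ := hg
  by_contra hlt
  push Not at hlt
  have hq := Fintype.one_lt_card (α := F)
  haveI := hσ
  classical
  let b₀ : V := Pi.single 0 1
  have hb₀ : b₀ ≠ 0 := by simp [b₀]
  have hf₀ := pad_single_ne hb₀
  have h00 : pad b₀ ⬝ᵥ (eLast : V') = 0 := by rw [dotProduct_comm, eLast_dot]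
  have hnt := all_T_ne σ hg eLast_ne hf₀ h00
  have hB : B (Fintype.card F) (k + 1 + 3) =
      B (Fintype.card F) (k + 3) + Fintype.card F ^ (k + 3) := B_succ _ _
  have hB' := B_le hq (k + 3)
  have hNN : Fintype.card F ^ (k + 1 + 2) = Fintype.card F ^ (k + 3) := rfl
  have hsmall : finrank ℂ (Fin n → ℂ) + 2 < 2 * Fintype.card F ^ (k + 1 + 2) := by
    rw [Module.finrank_fin_fun, hNN]
    omega
  obtain ⟨a, hd, hc, ha, hidem, htr, hu⟩ :=
    step (MonoidHom.id _) σ eLast_ne hf₀ h00 (canMove_SL hok eLast_ne hf₀ h00) hnt hsmall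
  rw [Module.finrank_fin_fun, hNN] at hd
  have ha' : Fintype.card F ^ (k + 2) ≤ a + 1 := ha
  obtain ⟨a₂, ha₂, hra, -⟩ := Char.idem_trace_nat hidem
  have hdim : finrank ℂ (LinearMap.range (fixA (MonoidHom.id _) σ (eLast : V'))) = a := by
    rw [← hra]
    exact_mod_cast ha₂.symm.trans htr
  have hne : ∀ {x y : V}, x ≠ 0 → y ≠ 0 → y ⬝ᵥ x = 0 →
      resR σ (Matrix.SpecialLinearGroup.toGL (T x y)) ≠ 1 := resR_nontrivial σ hb₀ hu
  have hdvd := degree_dvd σ eLast_ne hf₀ h00 (z := (a : ℤ) - 1) (by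
    rw [show σ.character (T eLast (pad b₀)) = _ from hc]; push_cast; rfl)
  rw [Module.finrank_fin_fun, hNN] at hdvd
  -- a transvection of the smaller group
  let x₀ : V := Pi.single 0 1
  let y₀ : V := Pi.single 1 1
  have hx₀ : x₀ ≠ 0 := by simp [x₀]
  have hy₀ : y₀ ≠ 0 := by simp [y₀]
  have hxy : y₀ ⬝ᵥ x₀ = 0 := by simp [x₀, y₀]
  by_cases hk : Ok k (Fintype.card F)
  · have hR := low_any ih hk ((resR σ).comp Matrix.SpecialLinearGroup.toGL) (hne hx₀ hy₀ hxy)
    rw [hdim] at hR
    set q := Fintype.card F with hqd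
    set B' := B q (k + 3) with hB'd
    have hn : n + 2 = B q (k + 1 + 3) := by omega
    have hB1 : B q (k + 1 + 3) = q * B' + 1 := B_succ' q (k + 3)
    have hB3 : 3 ≤ B' := by
      have h1 : q ^ (k + 2) ≤ B' := by
        rw [hB'd, B_succ]
        omega
      have h2 : q * q ≤ q ^ (k + 2) := by
        rw [← pow_two]
        exact Nat.pow_le_pow_right (by omega) (by omega)
      have h4 : 2 * 2 ≤ q * q := Nat.mul_le_mul hq hq
      omega
    have hN1 : 1 ≤ q ^ (k + 3) := Nat.one_le_pow _ _ (by omega)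
    rw [Nat.cast_mul, Nat.cast_sub hN1, ← hn] at hdvd
    push_cast at hdvd
    have hcop : IsCoprime (n : ℤ) ((q : ℤ) ^ (k + 3)) := by
      refine IsCoprime.pow_right ⟨-1, B', ?_⟩
      have : ((n + 2 : ℕ) : ℤ) = ((q * B' + 1 : ℕ) : ℤ) := by rw [hn, hB1]
      push_cast at this
      linear_combination -this
    have ha1 : (a : ℤ) - 1 = n - (q : ℤ) ^ (k + 3) := by
      have : (n : ℤ) + 1 = (q : ℤ) ^ (k + 3) + a := by exact_mod_cast hd
      linear_combination -this
    rw [ha1] at hdvd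
    have h1 : (n : ℤ) ∣ ((n : ℤ) + 2) * ((q : ℤ) ^ (k + 3) - 1) := by
      refine hcop.dvd_of_dvd_mul_right ?_
      have e : ((n : ℤ) + 2) * ((q : ℤ) ^ (k + 3) - 1) * (q : ℤ) ^ (k + 3) =
          ((n : ℤ) + 2) * ((q : ℤ) ^ (k + 3) - 1) * n -
            ((n : ℤ) + 2) * ((q : ℤ) ^ (k + 3) - 1) * ((n : ℤ) - (q : ℤ) ^ (k + 3)) := by ring
      rw [e]
      exact dvd_sub (dvd_mul_left _ _) hdvd
    have h2 : (n : ℤ) ∣ 2 * ((q : ℤ) ^ (k + 3) - 1) := by
      have e : 2 * ((q : ℤ) ^ (k + 3) - 1) =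
          ((n : ℤ) + 2) * ((q : ℤ) ^ (k + 3) - 1) - n * ((q : ℤ) ^ (k + 3) - 1) := by ring
      rw [e]
      exact dvd_sub h1 (dvd_mul_right _ _)
    have h3 : n ∣ 2 * (q ^ (k + 3) - 1) := by
      rw [← Int.natCast_dvd_natCast, Nat.cast_mul, Nat.cast_sub hN1]
      push_cast
      exact h2
    obtain ⟨c, hc'⟩ := h3
    have hc2 : c < 2 := by
      by_contra h
      push Not at h
      have := Nat.mul_le_mul_left n h
      omega
    interval_cases c <;> omega
  -- the small exceptional cases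
  obtain ⟨hok1, hok2⟩ := hok
  rw [Ok] at hk
  set q := Fintype.card F with hqd
  have hcases : (k = 0 ∧ q = 4) ∨ (k = 1 ∧ q = 3) ∨ (k = 1 ∧ q = 2) := by
    by_contra hcon
    apply hk
    refine ⟨fun ⟨h1, h2⟩ => ?_, fun ⟨h1, h2⟩ => ?_⟩
    · rcases h2 with h2 | h2
      · exact hok2 ⟨by omega, Or.inl h2⟩
      · exact hcon (Or.inl ⟨h1, h2⟩)
    · rcases h2 with h2 | h2
      · exact hcon (Or.inr (Or.inr ⟨h1, h2⟩))
      · exact hcon (Or.inr (Or.inl ⟨h1, h2⟩))
  have hGL : 3 ≤ q → a + 2 < 2 * q ^ (k + 2) → q ^ (k + 2) + q ^ (k + 1) ≤ a + 2 := by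
    intro hq3 hsm
    obtain ⟨a', hd', -, ha2, -, -, -⟩ := step (Matrix.SpecialLinearGroup.toGL :
      Matrix.SpecialLinearGroup (Fin (k + 3)) F →* GL (Fin (k + 3)) F) (resR σ) hx₀ hy₀ hxy
      (canMove_GL hq3 hx₀ hy₀ hxy) (hne hx₀ hy₀ hxy) (by rw [hdim]; exact hsm)
    rw [hdim] at hd'
    change q ^ (k + 1) ≤ a' + 1 at ha2
    change a + 1 = q ^ (k + 2) + a' at hd'
    omega
  rcases hcases with ⟨rfl, hq4⟩ | ⟨rfl, hq3⟩ | ⟨rfl, hq2⟩
  · rw [hq4] at hlt hd ha' hdvd hGL
    simp [B, Finset.sum_range_succ] at hlt hdvd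
    norm_num at hd ha' hGL
    have hbound := hGL (by omega)
    have hz : ((n : ℤ)) = 63 + a := by omega
    rw [hz] at hdvd
    have ha18 : 18 ≤ a := by omega
    have ha20 : a ≤ 20 := by omega
    interval_cases a <;> norm_num at hdvd
  · rw [hq3] at hlt hd ha' hdvd hGL
    simp [B, Finset.sum_range_succ] at hlt hdvd
    norm_num at hd ha' hGL
    have hbound := hGL (by omega)
    have hz : ((n : ℤ)) = 80 + a := by omega
    rw [hz] at hdvd
    have ha34 : 34 ≤ a := by omega
    have ha39 : a ≤ 39 := by omega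
    interval_cases a <;> norm_num at hdvd
  · rw [hq2] at hlt hd ha' hdvd
    simp [B, Finset.sum_range_succ] at hlt hdvd
    norm_num at hd ha'
    have hz : ((n : ℤ)) = 15 + a := by omega
    rw [hz] at hdvd
    have ha9 : a = 9 := by
      have h7 : 7 ≤ a := by omega
      have h14 : a ≤ 14 := by omega
      interval_cases a <;> norm_num at hdvd
      all_goals rfl
    subst ha9
    let π : Representation ℂ (Matrix.SpecialLinearGroup (Fin (1 + 3)) F)
        (LinearMap.range (fixA (MonoidHom.id _) σ (eLast : Fin (1 + 1 + 3) → F))) :=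
      (resR σ).comp Matrix.SpecialLinearGroup.toGL
    haveI := Fintype.ofFinite (Matrix.SpecialLinearGroup (Fin (1 + 3)) F)
    obtain ⟨cf, hcf, hdec⟩ := Char.IsChar.exists_decomp_inner (Char.isCharacter_character π)
    by_cases htriv : classInner π.character (fun _ => (1 : ℂ)) = 0
    · -- no fixed vector: the fixed space is irreducible of dimension 9
      obtain ⟨d', τ, hτ, hne', hd'le, g', hg'⟩ := Char.exists_nontrivial_constituent π (hne hx₀ hy₀ hxy)
      rw [hdim] at hd'le
      haveI := hτ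
      have hseven : ∀ φ : Cfsg.IrrCharacter (Matrix.SpecialLinearGroup (Fin (1 + 3)) F), cf φ ≠ 0 →
          ∃ e : ℕ, (φ : Matrix.SpecialLinearGroup (Fin (1 + 3)) F → ℂ) 1 = e ∧ 7 ≤ e := by
        intro φ hφ
        obtain ⟨e, θ, hθ, hθc⟩ := φ.2
        refine ⟨e, by rw [← hθc, Representation.char_one, Module.finrank_fin_fun], ?_⟩
        have hθne : ∃ g, θ g ≠ 1 := by
          by_contra hcon
          push Not at hcon
          have hconst : ∀ g, (φ : Matrix.SpecialLinearGroup (Fin (1 + 3)) F → ℂ) g =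
              (φ : Matrix.SpecialLinearGroup (Fin (1 + 3)) F → ℂ) 1 := fun g => by
            rw [← hθc]
            show LinearMap.trace ℂ _ (θ g) = LinearMap.trace ℂ _ (θ 1)
            rw [hcon g, hcon 1]
          have := hcf φ
          rw [Char.irr_const_eq_one φ.2 hconst, htriv] at this
          exact hφ (by exact_mod_cast this.symm)
        obtain ⟨g'', hg''⟩ := hθne
        obtain ⟨a', m', hm', he, -⟩ := step_basic θ hx₀ hy₀ hxy (all_T_ne θ hg'' hx₀ hy₀ hxy)
        rw [Module.finrank_fin_fun, ← hqd, hq2] at he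
        norm_num at he
        omega
      have hsum : (9 : ℕ) = ∑ φ, cf φ * (if h : cf φ ≠ 0 then (hseven φ h).choose else 0) := by
        have h1 := congrFun hdec 1
        rw [Representation.char_one, hdim, Char.sum_irr_apply] at h1
        have h2 : ((9 : ℕ) : ℂ) =
            ((∑ φ, cf φ * (if h : cf φ ≠ 0 then (hseven φ h).choose else 0) : ℕ) : ℂ) := by
          rw [h1, Nat.cast_sum]
          refine Finset.sum_congr rfl fun φ _ => ?_
          by_cases h : cf φ ≠ 0
          · rw [dif_pos h, Nat.cast_mul]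
            exact congrArg _ (hseven φ h).choose_spec.1
          · simp [not_not.1 h]
        exact_mod_cast h2
      let φ₀ : Cfsg.IrrCharacter (Matrix.SpecialLinearGroup (Fin (1 + 3)) F) :=
        ⟨τ.character, Char.isIrrCharacter_character τ⟩
      have hφ₀ : cf φ₀ ≠ 0 := fun h => hne' (by rw [show τ.character = φ₀.1 from rfl, hcf, h, Nat.cast_zero])
      rw [← Finset.add_sum_erase _ _ (Finset.mem_univ φ₀), dif_pos hφ₀] at hsum
      obtain ⟨h71, h72⟩ := (hseven φ₀ hφ₀).choose_spec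
      set e₀ := (hseven φ₀ hφ₀).choose
      have he₀ : e₀ = d' := by
        have := h71
        rw [show φ₀.1 1 = _ from Representation.char_one τ, Module.finrank_fin_fun] at this
        exact_mod_cast this.symm
      have hone : cf φ₀ = 1 := by
        rcases Nat.lt_or_ge (cf φ₀) 2 with h | h
        · omega
        · have := Nat.mul_le_mul h h72
          omega
      have hrest : ∑ φ ∈ Finset.univ.erase φ₀,
          cf φ * (if h : cf φ ≠ 0 then (hseven φ h).choose else 0) = 0 := by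
        by_contra hne0
        obtain ⟨φ, hφm, hφ⟩ := Finset.exists_ne_zero_of_sum_ne_zero hne0
        have h := left_ne_zero_of_mul hφ
        have h7 : 7 ≤ cf φ * (if h : cf φ ≠ 0 then (hseven φ h).choose else 0) := by
          rw [dif_pos h]
          exact le_trans (hseven φ h).choose_spec.2 (Nat.le_mul_of_pos_left _ (Nat.pos_of_ne_zero h))
        have := Finset.single_le_sum (f := fun φ => cf φ * (if h : cf φ ≠ 0 then (hseven φ h).choose else 0))
          (fun _ _ => Nat.zero_le _) hφm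
        rw [hone, one_mul] at hsum
        omega
      rw [hone, one_mul, hrest, add_zero, he₀] at hsum
      subst hsum
      obtain ⟨a', m', hm', he, hc'⟩ := step_basic τ hx₀ hy₀ hxy (all_T_ne τ hg' hx₀ hy₀ hxy)
      rw [Module.finrank_fin_fun, ← hqd, hq2] at he
      norm_num at he
      obtain ⟨rfl, rfl⟩ : m' = 1 ∧ a' = 2 := by omega
      have := degree_dvd τ hx₀ hy₀ hxy (z := 1) (by rw [hc']; norm_num)
      rw [Module.finrank_fin_fun, ← hqd, hq2] at this
      norm_num [B, Finset.sum_range_succ] at this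
    · -- a fixed vector of a point stabiliser
      obtain ⟨w, hw⟩ : ∃ w, (∑ g, π g) w ≠ 0 := by
        by_contra hcon
        push Not at hcon
        apply htriv
        have h1 : ∑ g, π.character g = 0 := by
          show ∑ g, LinearMap.trace ℂ _ (π g) = 0
          rw [← map_sum, show (∑ g, π g) = 0 from LinearMap.ext fun x => hcon x, map_zero]
        simp [classInner, h1]
      set v := (∑ g, π g) w with hv
      have hvfix : ∀ g, π g v = v := by
        intro g
        rw [hv, ← Module.End.mul_apply, Finset.mul_sum]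
        congr 1
        exact Fintype.sum_equiv (Equiv.mulLeft g) _ _ fun h => (map_mul π g h).symm
      let p₀ := Projectivization.mk F (eLast : Fin (1 + 1 + 3) → F) eLast_ne
      haveI : Fintype (Projectivization F (Fin (1 + 1 + 3) → F)) := Fintype.ofFinite _
      haveI := Fintype.ofFinite (Matrix.SpecialLinearGroup (Fin (1 + 1 + 3)) F)
      have hX : Fintype.card (Projectivization F (Fin (1 + 1 + 3) → F)) = 31 := by
        have h1 := Projectivization.card F (Fin (1 + 1 + 3) → F)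
        rw [Nat.card_fun, Nat.card_eq_fintype_card, Nat.card_eq_fintype_card,
          Nat.card_eq_fintype_card, ← hqd, hq2, Fintype.card_fin] at h1
        norm_num at h1
        exact h1.symm
      have hfix : ∀ M : Matrix.SpecialLinearGroup (Fin (1 + 1 + 3)) F, M • p₀ = p₀ →
          σ M (v : Fin n → ℂ) = v := by
        intro M hM
        obtain ⟨g', f, hf, rfl⟩ := stab_decomp (by rw [← hqd]; exact hq2) M hM
        have h1 : σ (T eLast f) (v : Fin n → ℂ) = v := by
          obtain ⟨z, hz⟩ := LinearMap.mem_range.1 v.2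
          rw [← hz, ← Module.End.mul_apply]
          congr 1
          letI := Fintype.ofFinite (D (eLast : Fin (1 + 1 + 3) → F))
          simp only [fixA, mul_smul_comm, Finset.mul_sum]
          congr 1
          let fb : D (eLast : Fin (1 + 1 + 3) → F) := ⟨f, hf⟩
          refine Fintype.sum_equiv (Equiv.addLeft fb) _ _ fun f' => ?_
          show σ (T eLast f) * σ (T eLast f'.1) = σ (T eLast (f + f'.1))
          rw [← map_mul, T_mul hf f'.2]
        rw [map_mul, Module.End.mul_apply, h1]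
        exact congrArg Subtype.val (hvfix g')
      have h31 := Char.finrank_of_fixed_vector (G := Matrix.SpecialLinearGroup (Fin (1 + 1 + 3)) F)
        (Ω := Projectivization F (Fin (1 + 1 + 3) → F)) inferInstance (by omega) p₀ σ hg
        (fun h => hw (Subtype.ext h)) hfix
      rw [Module.finrank_fin_fun, hX] at h31
      omega

theorem low : ∀ k : ℕ, Low F k
  | 0 => low_zero
  | k + 1 => low_succ (low k)

/-- An irreducible representation of the smallest degree. -/
theorem exists_min_irreducible :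
    ∃ ρ : Representation ℂ (Matrix.SpecialLinearGroup (Fin (k + 3)) F)
      (Fin (B (Fintype.card F) (k + 3) - 1) → ℂ), ρ.IsIrreducible := by
  classical
  haveI := Fintype.ofFinite (Matrix.SpecialLinearGroup (Fin (k + 3)) F)
  haveI : Fintype (Projectivization F V) := Fintype.ofFinite _
  have hq := Fintype.one_lt_card (α := F)
  have hX : Fintype.card (Projectivization F V) = B (Fintype.card F) (k + 3) := by
    have h1 := Projectivization.card F V
    rw [Nat.card_fun, Nat.card_eq_fintype_card, Nat.card_eq_fintype_card, Nat.card_eq_fintype_card,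
      Fintype.card_fin, ← B_mul _ _ hq.le] at h1
    exact (Nat.eq_of_mul_eq_mul_right (Nat.sub_pos_of_lt hq) h1).symm
  have h2 : 2 ≤ Fintype.card (Projectivization F V) := by
    rw [hX, B_succ']
    have : 1 ≤ B (Fintype.card F) (k + 2) := by rw [B_succ']; omega
    have := Nat.mul_le_mul hq.le this
    omega
  obtain ⟨hdeg, χ, hχ1, hχm⟩ := Char.two_trans_constituent
    (G := Matrix.SpecialLinearGroup (Fin (k + 3)) F) (Ω := Projectivization F V) inferInstance h2
  have h := hdeg χ hχ1 hχm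
  obtain ⟨n, σ, hσ, hσc⟩ := χ.2
  rw [← hσc, Representation.char_one, Module.finrank_fin_fun, hX] at h
  have hn : n + 1 = B (Fintype.card F) (k + 3) := by exact_mod_cast h
  have hn' : n = B (Fintype.card F) (k + 3) - 1 := by omega
  subst hn'
  exact ⟨σ, hσ⟩

end Cfsg.Agent.Lie.RepDeg
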