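import Cfsg.Agent.Lib.Classical.OrthSpinor

/-!
An orthogonal group in odd dimension `2m + 3` has no element of order `p (q^m ± 1)` in `Ω`, the sign
chosen so that `q^m ± 1` is twice an odd number.
-/

set_option autoImplicit false
set_option linter.unusedSectionVars false
set_option quotPrecheck false

namespace Cfsg.Agent.Lie.OrthSpectrumOdd

open Module Matrix Cfsg.Agent.Classical Cfsg.Agent.Classical.OrthAut

variable {F : Type*} [Field F] [Fintype F] {ι : Type} [Fintype ι] [DecidableEq ι]
  {Q : QuadraticForm F (ι → F)}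

/-- The two standard shapes of a non-degenerate even dimensional space. -/
theorem exists_std {V : Type*} [AddCommGroup V] [Module F V] [FiniteDimensional F V] {Q : QuadraticForm F V} (hn : (QuadraticMap.polarBilin Q).Nondegenerate) {m : ℕ}
    (hV : finrank F V = 2 * (m + 1)) :
    (∃ e : (Fin (m + 1) ⊕ Fin (m + 1) → F) ≃ₗ[F] V, ∀ v, Q (e v) = qfPlus (m + 1) F v) ∨
      (∃ (ζ : F) (e : ((Fin m ⊕ Fin m) ⊕ Fin 2 → F) ≃ₗ[F] V),
        (∀ t : F, t ^ 2 + t + ζ ≠ 0) ∧ ∀ v, Q (e v) = qfMinus m F 1 ζ v) := by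
  rcases exists_even_basis hV Q hn with ⟨bb, hq, hEF, hEE⟩ | ⟨-, bb, ζ, hζ, hq, hEF, hEE, hER, h0, h01, h1⟩
  · left
    have hex : ∃ e : (Fin (m + 1) ⊕ Fin (m + 1) → F) ≃ₗ[F] V, ∀ v, Q (e v) = qfPlus (m + 1) F v := by
      refine exists_isometry_of_bases (Q := qfPlus (m + 1) F) (Q' := Q) (Pi.basisFun F _) bb (fun i => ?_)
        fun i l => ?_
      · simp only [Pi.basisFun_apply]
        rcases i with i | i
        · rw [(hq i).1]; simp [qfPlus_apply, quadFormPlus]
        · rw [(hq i).2]; simp [qfPlus_apply, quadFormPlus]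
      · simp only [Pi.basisFun_apply, polar_qfPlus]
        rcases i with i | i <;> rcases l with l | l
        · rw [(hEE i l).1]; simp [Pi.single_apply]
        · rw [hEF i l]; simp [Pi.single_apply, eq_comm]
        · rw [QuadraticMap.polar_comm, hEF l i]; simp [Pi.single_apply, eq_comm]
        · rw [(hEE i l).2]; simp [Pi.single_apply]
    exact hex
  · right
    have hex : ∃ e : ((Fin m ⊕ Fin m) ⊕ Fin 2 → F) ≃ₗ[F] V, ∀ v, Q (e v) = qfMinus m F 1 ζ v := by
      refine exists_isometry_of_bases (Q := qfMinus m F 1 ζ) (Q' := Q) (Pi.basisFun F _) bb (fun i => ?_)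
        fun i l => ?_
      · simp only [Pi.basisFun_apply]
        rcases i with (i | i) | i
        · rw [(hq i).1]; simp [qfMinus_apply, quadFormMinus]
        · rw [(hq i).2]; simp [qfMinus_apply, quadFormMinus]
        · fin_cases i
          · simp only [Fin.zero_eta, Fin.isValue]; rw [h0]; simp [qfMinus_apply, quadFormMinus]
          · simp only [Fin.mk_one, Fin.isValue]; rw [h1]; simp [qfMinus_apply, quadFormMinus]
      · simp only [Pi.basisFun_apply, polar_qfMinus]
        rcases i with (i | i) | i <;> rcases l with (l | l) | l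
        · rw [(hEE i l).1]; simp [Pi.single_apply]
        · rw [hEF i l]; simp [Pi.single_apply, eq_comm]
        · rw [(hER i l).1]; simp [Pi.single_apply]
        · rw [QuadraticMap.polar_comm, hEF l i]; simp [Pi.single_apply, eq_comm]
        · rw [(hEE i l).2]; simp [Pi.single_apply]
        · rw [(hER i l).2]; simp [Pi.single_apply]
        · rw [QuadraticMap.polar_comm, (hER l i).1]; simp [Pi.single_apply]
        · rw [QuadraticMap.polar_comm, (hER l i).2]; simp [Pi.single_apply]
        · fin_cases i <;> fin_cases l <;>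
            simp only [Fin.zero_eta, Fin.mk_one, Fin.isValue, h01, QuadraticMap.polar_self, h0, h1,
              QuadraticMap.polar_comm _ (bb (Sum.inr 1)) (bb (Sum.inr 0))] <;>
            simp [Pi.single_apply] <;> ring
    obtain ⟨e, he⟩ := hex
    exact ⟨ζ, e, hζ, he⟩

theorem aniso_one {ζ : F} (hζ : ∀ t : F, t ^ 2 + t + ζ ≠ 0) :
    ∀ z₁ z₂ : F, z₁ ^ 2 + 1 * z₁ * z₂ + ζ * z₂ ^ 2 = 0 → z₁ = 0 ∧ z₂ = 0 := fun z₁ z₂ h => by
  by_cases hz : z₂ = 0
  · subst hz; exact ⟨by simpa using h, rfl⟩
  · exact absurd (by field_simp; linear_combination h : (z₁ / z₂) ^ 2 + z₁ / z₂ + ζ = 0) (hζ _)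

local notation "V" => (ι → F)
local notation "B" => QuadraticMap.polar ⇑Q
local notation "OG" => isometryGroup F ⇑Q

/-- An isometry as a linear map. -/
def act (g : isometryGroup F ⇑Q) : (ι → F) →ₗ[F] (ι → F) := Matrix.toLin' (ogVal g)

theorem act_apply (g : OG) (x : V) : act g x = ogVal g *ᵥ x := Matrix.toLin'_apply _ _

theorem act_mul (g k : OG) : act (g * k) = act g * act k := by
  rw [act, ogVal_mul, Matrix.toLin'_mul]; rfl

theorem act_one : act (1 : OG) = 1 := by
  rw [act, ogVal_one, Matrix.toLin'_one]; rfl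

theorem act_pow (g : OG) (k : ℕ) : act (g ^ k) = act g ^ k := by
  induction k with
  | zero => rw [pow_zero, pow_zero, act_one]
  | succ k ih => rw [pow_succ, pow_succ, act_mul, ih]

theorem polar_act (g : OG) (a b : V) : B (act g a) (act g b) = B a b := by
  simp only [act_apply, QuadraticMap.polar, ← Matrix.mulVec_add, ogVal_quad]

theorem act_inv (g : OG) (x : V) : act g⁻¹ (act g x) = x := by
  rw [act_apply, act_apply, ogVal_inv_cancel]

theorem act_injective (g : OG) : Function.Injective (act g) :=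
  Function.LeftInverse.injective (act_inv g)

theorem commute_apply {g k : OG} (h : Commute g k) (x : V) : act g (act k x) = act k (act g x) := by
  have := congrArg (fun t : OG => act t x) h.eq
  simpa [act_mul] using this

/-- A subspace on which the polar form is non-degenerate. -/
def Nd (Q : QuadraticForm F (ι → F)) (S : Submodule F (ι → F)) : Prop :=
  ∀ a ∈ S, (∀ b ∈ S, QuadraticMap.polar ⇑Q a b = 0) → a = 0

theorem even_of_skew {S : Submodule F V} (h2 : (2 : F) ≠ 0) (T : V →ₗ[F] V)
    (hskew : ∀ a ∈ S, ∀ b ∈ S, B (T a) b = -B (T b) a)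
    (hnd : ∀ a ∈ S, (∀ b ∈ S, B (T a) b = 0) → a = 0) : Even (finrank F S) := by
  classical
  let D : LinearMap.BilinForm F S :=
    (QuadraticMap.polarBilin Q).compl₁₂ (T ∘ₗ S.subtype) S.subtype
  have hD : ∀ a b : S, D a b = B (T a.1) b.1 := fun a b => rfl
  let b := Module.finBasis F S
  set M := BilinForm.toMatrix b D
  have hM : M.det ≠ 0 := by
    refine (LinearMap.BilinForm.nondegenerate_iff_det_ne_zero b).1 ?_
    have h1 : ∀ a : S, (∀ c, D a c = 0) → a = 0 := fun a ha =>
      Subtype.ext (hnd a.1 a.2 fun c hc => ha ⟨c, hc⟩)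
    exact ⟨h1, fun c hc => h1 c fun a => by
      rw [hD, hskew c.1 c.2 a.1 a.2, ← hD, hc a, neg_zero]⟩
  have hT : M.transpose = -M := by
    ext i j
    show M j i = -M i j
    show M j i = -M i j
    rw [show M j i = D (b j) (b i) from LinearMap.BilinForm.toMatrix_apply b D j i,
      show M i j = D (b i) (b j) from LinearMap.BilinForm.toMatrix_apply b D i j, hD, hD]
    exact hskew _ (b j).2 _ (b i).2
  have h := congrArg Matrix.det hT
  rw [Matrix.det_transpose, Matrix.det_neg, Fintype.card_fin] at h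
  rcases Nat.even_or_odd (finrank F S) with he | ho
  · exact he
  · rw [ho.neg_one_pow] at h
    refine absurd ?_ hM
    have : (2 : F) * M.det = 0 := by linear_combination h
    exact (mul_eq_zero.1 this).resolve_left h2

theorem dvd_card_sub_one {α : Type*} [Fintype α] {r : ℕ} [Fact r.Prime] (f : Function.End α) (hf : f ^ r = 1)
    (a₀ : α) (h0 : ∀ a, f a = a ↔ a = a₀) : r ∣ Fintype.card α - 1 := by
  classical
  have h := Equiv.Perm.card_fixedPoints_modEq (f := f) (p := r) (n := 1) (by rw [pow_one]; exact hf)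
  have hc : Fintype.card f.fixedPoints = 1 := by
    rw [Fintype.card_eq_one_iff]
    exact ⟨⟨a₀, (h0 a₀).2 rfl⟩, fun a => Subtype.ext ((h0 a.1).1 a.2)⟩
  replace h : Fintype.card α ≡ 1 [MOD r] := by convert h using 1; exact hc.symm
  exact (Nat.modEq_iff_dvd' (Fintype.card_pos_iff.2 ⟨a₀⟩)).1 h.symm

/-- A linear map on the members of an invariant set. -/
def fEnd {S : Submodule F V} {p : V → Prop} (f : V →ₗ[F] V) (hmap : ∀ v : {v : S // p v}, f v.1.1 ∈ S)
    (hp : ∀ v : {v : S // p v}, p (f v.1.1)) : Function.End {v : S // p v} :=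
  fun v => ⟨⟨f v.1.1, hmap v⟩, hp v⟩

theorem end_pow_apply {S : Submodule F V} {p : V → Prop} (f : V →ₗ[F] V)
    (hmap : ∀ v : {v : S // p v}, f v.1.1 ∈ S) (hp : ∀ v : {v : S // p v}, p (f v.1.1)) (k : ℕ)
    (v : {v : S // p v}) : ((fEnd f hmap hp ^ k) v).1.1 = (f ^ k) v.1.1 := by
  induction k generalizing v with
  | zero => rfl
  | succ k ih =>
    rw [pow_succ, pow_succ]
    show ((fEnd f hmap hp ^ k) (fEnd f hmap hp v)).1.1 = (f ^ k) (f v.1.1)
    rw [ih]
    rfl

/-- An element of order `r` without fixed points on an invariant subspace acts semiregularly. -/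
theorem dvd_card_invariant {r : ℕ} [Fact r.Prime] {g : OG} (hg : g ^ r = 1) {S : Submodule F V}
    (hS : ∀ v ∈ S, act g v ∈ S) (hfix : ∀ v ∈ S, act g v = v → v = 0) (p : V → Prop) (hp0 : p 0)
    (hp : ∀ v, p v → p (act g v)) : r ∣ Nat.card {v : S // p v} - 1 := by
  classical
  letI : Fintype {v : S // p v} := Fintype.ofFinite _
  rw [Nat.card_eq_fintype_card]
  let f : Function.End {v : S // p v} := fEnd (act g) (fun v => hS _ v.1.2) (fun v => hp _ v.2)
  refine dvd_card_sub_one f ?_ ⟨0, hp0⟩ fun v => ?_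
  · funext v
    refine Subtype.ext (Subtype.ext ?_)
    show ((f ^ r) v).1.1 = v.1.1
    rw [end_pow_apply, ← act_pow, hg, act_one]
    rfl
  · constructor
    · intro h
      refine Subtype.ext (Subtype.ext ?_)
      exact hfix _ v.1.2 (congrArg (fun w => w.1.1) h)
    · rintro rfl
      exact Subtype.ext (Subtype.ext (map_zero _))

theorem dvd_pow_finrank {r : ℕ} [Fact r.Prime] {g : OG} (hg : g ^ r = 1) {S : Submodule F V}
    (hS : ∀ v ∈ S, act g v ∈ S) (hfix : ∀ v ∈ S, act g v = v → v = 0) :
    r ∣ Fintype.card F ^ finrank F S - 1 := by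
  have h := dvd_card_invariant hg hS hfix (fun _ => True) trivial (fun _ _ => trivial)
  rwa [Nat.card_congr (Equiv.subtypeUnivEquiv fun _ => trivial), Module.natCard_eq_pow_finrank (K := F),
    Nat.card_eq_fintype_card] at h

/-- Eigen spaces of an involution inside a non-degenerate invariant subspace. -/
theorem eigen_split (h2 : (2 : F) ≠ 0) {z : OG} (hz : z * z = 1) {S : Submodule F V} (hS : Nd Q S)
    (hzS : ∀ v ∈ S, act z v ∈ S) :
    ∃ P M : Submodule F V, (∀ v ∈ P, v ∈ S ∧ act z v = v) ∧ (∀ v ∈ M, v ∈ S ∧ act z v = -v) ∧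
      (∀ v ∈ S, act z v = v → v ∈ P) ∧ (∀ v ∈ S, act z v = -v → v ∈ M) ∧
      P ⊔ M = S ∧ finrank F P + finrank F M = finrank F S ∧ Nd Q P ∧ Nd Q M := by
  let P := S ⊓ LinearMap.ker (act z - 1)
  let M := S ⊓ LinearMap.ker (act z + 1)
  have hP : ∀ v, v ∈ P ↔ v ∈ S ∧ act z v = v := fun v => by
    simp [P, sub_eq_zero]
  have hM : ∀ v, v ∈ M ↔ v ∈ S ∧ act z v = -v := fun v => by
    simp [M, add_eq_zero_iff_eq_neg]
  have hzz : ∀ v, act z (act z v) = v := fun v => by
    rw [← Module.End.mul_apply, ← act_mul, hz, act_one]; rfl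
  have hcross : ∀ a ∈ P, ∀ b ∈ M, B a b = 0 := by
    intro a ha b hb
    have h := polar_act z a b
    rw [((hP a).1 ha).2, ((hM b).1 hb).2, QuadraticMap.polar_neg_right] at h
    exact (mul_eq_zero.1 (show (2 : F) * B a b = 0 by linear_combination -h)).resolve_left h2
  have hsup : P ⊔ M = S := by
    refine le_antisymm (sup_le inf_le_left inf_le_left) fun v hv => ?_
    have : v = (2 : F)⁻¹ • (v + act z v) + (2 : F)⁻¹ • (v - act z v) := by
      rw [← smul_add, show v + act z v + (v - act z v) = (2 : F) • v by rw [two_smul]; abel, inv_smul_smul₀ h2]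
    rw [this]
    refine Submodule.add_mem_sup ((hP _).2 ⟨S.smul_mem _ (S.add_mem hv (hzS v hv)), ?_⟩)
      ((hM _).2 ⟨S.smul_mem _ (S.sub_mem hv (hzS v hv)), ?_⟩)
    · rw [map_smul, map_add, hzz, add_comm]
    · rw [map_smul, map_sub, hzz, ← smul_neg, neg_sub]
  have hinf : P ⊓ M = ⊥ := by
    refine eq_bot_iff.2 fun v hv => ?_
    have h1 := ((hP v).1 hv.1).2.symm.trans ((hM v).1 hv.2).2
    refine (Submodule.mem_bot F).2 ?_
    have : (2 : F) • v = 0 := by rw [two_smul]; nth_rewrite 1 [h1]; rw [neg_add_cancel]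
    exact (smul_eq_zero.1 this).resolve_left h2
  refine ⟨P, M, fun v => (hP v).1, fun v => (hM v).1, fun v a b => (hP v).2 ⟨a, b⟩,
    fun v a b => (hM v).2 ⟨a, b⟩, hsup, ?_, ?_, ?_⟩
  · rw [← Submodule.finrank_sup_add_finrank_inf_eq, hsup, hinf, finrank_bot, add_zero]
  · intro a ha hb
    refine hS a ((hP a).1 ha).1 fun b hbS => ?_
    obtain ⟨c, hc, d, hd, rfl⟩ := Submodule.mem_sup.1 (hsup.symm ▸ hbS)
    rw [QuadraticMap.polar_add_right, hb c hc, hcross a ha d hd, add_zero]
  · intro a ha hb
    refine hS a ((hM a).1 ha).1 fun b hbS => ?_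
    obtain ⟨c, hc, d, hd, rfl⟩ := Submodule.mem_sup.1 (hsup.symm ▸ hbS)
    rw [QuadraticMap.polar_add_right, hb d hd, QuadraticMap.polar_comm, hcross c hc a ha, add_zero]

/-- A unipotent isometry is trivial on a non-degenerate invariant plane. -/
theorem unipotent_small (h2 : (2 : F) ≠ 0) {u : OG} {S : Submodule F V} (hS : Nd Q S)
    (hd : finrank F S ≤ 2) (huS : ∀ v ∈ S, act u v ∈ S) {k : ℕ} (hk : (act u - 1) ^ k = 0) :
    ∀ v ∈ S, act u v = v := by
  obtain ⟨N, hN⟩ : ∃ N, N = act u - 1 := ⟨_, rfl⟩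
  rw [← hN] at hk
  have hNS : ∀ v ∈ S, N v ∈ S := fun v hv => by
    simp only [hN, LinearMap.sub_apply, Module.End.one_apply]
    exact S.sub_mem (huS v hv) hv
  by_contra hcon
  push Not at hcon
  obtain ⟨a₀, ha₀, ha₀'⟩ := hcon
  obtain ⟨w, hw⟩ : ∃ w, w = N a₀ := ⟨_, rfl⟩
  have hw0 : w ≠ 0 := fun h => ha₀' (by
    rw [hw, hN] at h
    exact sub_eq_zero.1 h)
  have hwS : w ∈ S := hw ▸ hNS a₀ ha₀
  have hnil : ∀ (c : F) (v : V), v ≠ 0 → N v = c • v → c = 0 := by
    intro c v hv h
    have hpow : ∀ j : ℕ, (N ^ j) v = c ^ j • v := by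
      intro j
      induction j with
      | zero => simp
      | succ j ih => rw [pow_succ', Module.End.mul_apply, ih, map_smul, h, smul_smul, ← pow_succ]
    have := hpow k
    rw [hk, LinearMap.zero_apply] at this
    exact eq_zero_of_pow_eq_zero ((smul_eq_zero.1 this.symm).resolve_right hv)
  -- the range is the line of `w`
  let NS : S →ₗ[F] S := N.restrict hNS
  have hker : 0 < finrank F (LinearMap.ker NS) := by
    rw [Nat.pos_iff_ne_zero]
    intro h0
    have hinj : Function.Injective NS := LinearMap.ker_eq_bot.1 (Submodule.finrank_eq_zero.1 h0)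
    have hpow : ∀ j (v : S), ((NS ^ j) v).1 = (N ^ j) v.1 := by
      intro j
      induction j with
      | zero => simp
      | succ j ih =>
        intro v
        rw [pow_succ', pow_succ', Module.End.mul_apply, Module.End.mul_apply, LinearMap.coe_restrict_apply, ih]
    have h2' : (NS ^ k) ⟨a₀, ha₀⟩ = (NS ^ k) 0 := by
      rw [map_zero]; exact Subtype.ext (by rw [hpow, hk]; rfl)
    have hi : Function.Injective (NS ^ k) := by
      rw [Module.End.coe_pow]; exact hinj.iterate k
    exact ha₀' (by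
      have := congrArg Subtype.val (hi h2')
      simp only [ZeroMemClass.coe_zero] at this
      rw [this, map_zero])
  have hrange : finrank F (LinearMap.range NS) ≤ 1 := by
    have := LinearMap.finrank_range_add_finrank_ker NS
    omega
  have hline : ∀ v ∈ S, ∃ c : F, N v = c • w := by
    intro v hv
    have hwne : (⟨w, hwS⟩ : S) ≠ 0 := fun h => hw0 (congrArg Subtype.val h)
    have hspan : LinearMap.range NS = Submodule.span F {(⟨w, hwS⟩ : S)} := by
      refine (Submodule.eq_of_le_of_finrank_le ((Submodule.span_singleton_le_iff_mem _ _).2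
        (LinearMap.mem_range.2 ⟨⟨a₀, ha₀⟩, Subtype.ext ((LinearMap.coe_restrict_apply _ _).trans hw.symm)⟩)) ?_).symm
      rw [finrank_span_singleton hwne]
      exact hrange
    have hmem : NS ⟨v, hv⟩ ∈ Submodule.span F {(⟨w, hwS⟩ : S)} := by
      rw [← hspan]; exact LinearMap.mem_range_self NS _
    obtain ⟨c, hc⟩ := Submodule.mem_span_singleton.1 hmem
    have h3 := congrArg Subtype.val hc
    rw [LinearMap.coe_restrict_apply, SetLike.val_smul] at h3
    exact ⟨c, h3.symm⟩
  have hrel : ∀ a b, B (N a) b + B a (N b) + B (N a) (N b) = 0 := by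
    intro a b
    have h := polar_act u a b
    rw [show act u a = N a + a by simp [hN], show act u b = N b + b by simp [hN],
      QuadraticMap.polar_add_left, QuadraticMap.polar_add_right, QuadraticMap.polar_add_right] at h
    linear_combination h
  have hNw : N w = 0 := by
    obtain ⟨c, hc⟩ := hline w hwS
    rw [hc, hnil c w hw0 hc, zero_smul]
  have hww : B w w = 0 := by
    have := hrel a₀ w
    rw [← hw] at this
    rwa [hNw, QuadraticMap.polar_zero_right, QuadraticMap.polar_zero_right, add_zero, add_zero] at this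
  have hskew : ∀ a ∈ S, ∀ b ∈ S, B (N a) b + B a (N b) = 0 := by
    intro a ha b hb
    obtain ⟨c, hc⟩ := hline a ha
    obtain ⟨d, hd⟩ := hline b hb
    have := hrel a b
    rw [hc, hd] at this
    simp only [QuadraticMap.polar_smul_left, QuadraticMap.polar_smul_right, hww, smul_zero, add_zero] at this ⊢
    rw [hc, hd]
    simp only [QuadraticMap.polar_smul_left, QuadraticMap.polar_smul_right] at this ⊢
    exact this
  refine hw0 (hS w hwS fun b hb => ?_)
  by_cases hNb : N b = 0
  · have := hskew a₀ ha₀ b hb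
    rw [← hw] at this
    rwa [hNb, QuadraticMap.polar_zero_right, add_zero] at this
  · obtain ⟨c, hc⟩ := hline b hb
    have h := hskew b hb b hb
    rw [hc, QuadraticMap.polar_smul_left, QuadraticMap.polar_smul_right, QuadraticMap.polar_comm _ b w,
      smul_eq_mul] at h
    have hc0 : c ≠ 0 := fun e => hNb (by rw [hc, e, zero_smul])
    exact (mul_eq_zero.1 (show (2 * c) * B w b = 0 by linear_combination h)).resolve_left
      (mul_ne_zero h2 hc0)

/-- A product of reflections in pairwise orthogonal vectors. -/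
theorem exists_prod_refl (hQ : (QuadraticMap.polarBilin Q).Nondegenerate) {κ : Type*} (v : κ → V)
    (hv : ∀ i, Q (v i) ≠ 0) (ho : ∀ i j, i ≠ j → B (v i) (v j) = 0) (s : Finset κ) :
    ∃ g : OG, (∀ i ∈ s, act g (v i) = -v i) ∧ (∀ y, (∀ i ∈ s, B (v i) y = 0) → act g y = y) ∧
      (ogVal g).det = (-1) ^ s.card ∧ spin g = ∏ i ∈ s, sqSign (Q (v i)) := by
  classical
  induction s using Finset.induction with
  | empty =>
    refine ⟨1, by simp, fun y _ => by rw [act_one]; rfl, by simp [ogVal_one], ?_⟩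
    rw [Finset.prod_empty, ← spinHom_apply hQ, map_one]
  | insert a s ha ih =>
    obtain ⟨g, g1, g2, g3, g4⟩ := ih
    refine ⟨refl (hv a) * g, fun i hi => ?_, fun y hy => ?_, ?_, ?_⟩
    · rw [act_mul, Module.End.mul_apply]
      rcases Finset.mem_insert.1 hi with rfl | hi
      · rw [g2 (v i) fun j hj => ho j i fun e => ha (e ▸ hj), act_apply, refl_apply, polar_self2]
        rw [mul_left_comm, inv_mul_cancel₀ (hv i), mul_one, two_smul]
        abel
      · rw [g1 i hi, map_neg, act_apply, refl_apply, ho a i fun e => ha (e ▸ hi), mul_zero, zero_smul, sub_zero]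
    · rw [act_mul, Module.End.mul_apply, g2 y fun i hi => hy i (Finset.mem_insert_of_mem hi), act_apply,
        refl_apply, hy a (Finset.mem_insert_self a s), mul_zero, zero_smul, sub_zero]
    · rw [ogVal_mul, Matrix.det_mul, refl_det, g3, Finset.card_insert_of_notMem ha, pow_succ']
    · rw [spin_mul hQ, spin_refl hQ, g4, Finset.prod_insert ha]

/-- The involution inverting `W` and fixing its orthogonal complement. -/
theorem det_spin_involution (hQ : (QuadraticMap.polarBilin Q).Nondegenerate) {κ : Type*} [Fintype κ]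
    {W C : Submodule F V} (hsup : W ⊔ C = ⊤) (horth : ∀ a ∈ W, ∀ b ∈ C, B a b = 0) (v : κ → V)
    (hvW : ∀ i, v i ∈ W) (hv : ∀ i, Q (v i) ≠ 0) (ho : ∀ i j, i ≠ j → B (v i) (v j) = 0)
    (hcard : Fintype.card κ = finrank F W) (h2 : (2 : F) ≠ 0) {z : OG} (hzW : ∀ a ∈ W, act z a = -a)
    (hzC : ∀ a ∈ C, act z a = a) :
    (ogVal z).det = (-1) ^ Fintype.card κ ∧ spin z = ∏ i, sqSign (Q (v i)) := by
  classical
  obtain ⟨g, g1, g2, g3, g4⟩ := exists_prod_refl hQ v hv ho Finset.univ
  have hli : LinearIndependent F (fun i => (⟨v i, hvW i⟩ : W)) := by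
    rw [Fintype.linearIndependent_iff]
    intro c hc i
    have h := congrArg (fun y : W => B y.1 (v i)) hc
    simp only [AddSubmonoidClass.coe_finsetSum, SetLike.val_smul, ZeroMemClass.coe_zero,
      QuadraticMap.polar_zero_left] at h
    rw [show B (∑ j, c j • v j) (v i) = QuadraticMap.polarBilin Q (∑ j, c j • v j) (v i) from rfl, map_sum,
      LinearMap.sum_apply, Finset.sum_eq_single i (fun j _ hj => by
        rw [map_smul, LinearMap.smul_apply, QuadraticMap.polarBilin_apply_apply, ho j i hj, smul_zero]) (by simp),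
      map_smul, LinearMap.smul_apply, QuadraticMap.polarBilin_apply_apply, polar_self2] at h
    exact (mul_eq_zero.1 h).resolve_right (mul_ne_zero h2 (hv i))
  have hspan : ∀ a ∈ W, a ∈ Submodule.span F (Set.range v) := by
    intro a ha
    have h1 : finrank F (Submodule.span F (Set.range v)) = finrank F W := by
      have hliV : LinearIndependent F v := hli.map' W.subtype W.ker_subtype
      rw [finrank_span_eq_card hliV, hcard]
    have h2' : Submodule.span F (Set.range v) = W :=
      Submodule.eq_of_le_of_finrank_eq (Submodule.span_le.2 (by rintro _ ⟨i, rfl⟩; exact hvW i)) h1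
    rw [h2']; exact ha
  have hgz : z = g := by
    refine ogVal_ext (Matrix.toLin'.injective ?_)
    show act z = act g
    refine LinearMap.ext fun y => ?_
    obtain ⟨a, ha, b, hb, rfl⟩ := Submodule.mem_sup.1 (hsup.symm ▸ (Submodule.mem_top (x := y)))
    rw [map_add, map_add, hzC b hb, g2 b fun i _ => horth _ (hvW i) b hb]
    congr 1
    have : Set.EqOn (act z) (act g) (Submodule.span F (Set.range v) : Set V) :=
      LinearMap.eqOn_span' (by
        rintro _ ⟨i, rfl⟩
        rw [hzW _ (hvW i), g1 i (Finset.mem_univ i)])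
    exact this (hspan a ha)
  rw [hgz, g3, g4, Finset.card_univ]
  exact ⟨rfl, rfl⟩

theorem sqSign_neg_one_pow (h2 : (2 : F) ≠ 0) (m : ℕ) :
    (Fintype.card F ^ m % 4 = 1 → sqSign (-1 : F) ^ m = 1) ∧
      (Fintype.card F ^ m % 4 = 3 → sqSign (-1 : F) ^ m = -1) := by
  have hodd : Fintype.card F % 2 = 1 := FiniteField.odd_card_of_char_ne_two fun hc => h2 (by
    haveI := ringChar.of_eq hc
    exact CharTwo.two_eq_zero)
  rw [Nat.pow_mod]
  by_cases h : Fintype.card F % 4 = 3
  · rw [h, sqSign_of_not (by rw [FiniteField.isSquare_neg_one_iff]; exact fun h' => h' h)]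
    rcases Nat.even_or_odd' m with ⟨k, rfl | rfl⟩
    · simp [pow_mul, Nat.pow_mod]
    · simp [pow_succ, pow_mul, Nat.pow_mod, Nat.mul_mod]
  · rw [show Fintype.card F % 4 = 1 by omega, sqSign_of_isSquare (FiniteField.isSquare_neg_one_iff.2 h)]
    simp

set_option maxHeartbeats 4000000 in
/-- The discriminant of the two types, as a product of values. -/
theorem exists_orth_values (h2 : (2 : F) ≠ 0) {W : Submodule F V} (hW : Nd Q W) {k : ℕ}
    (hd : finrank F W = 2 * (k + 1)) :
    ((Nat.card {v : W // Q v.1 = 0} : ℤ) * Fintype.card F =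
        (Fintype.card F : ℤ) ^ (2 * (k + 1)) + (Fintype.card F : ℤ) ^ (k + 2) - (Fintype.card F : ℤ) ^ (k + 1) ∧
      ∃ v : Fin (k + 1) ⊕ Fin (k + 1) → V, (∀ i, v i ∈ W) ∧ (∀ i, Q (v i) ≠ 0) ∧
        (∀ i j, i ≠ j → B (v i) (v j) = 0) ∧ ∏ i, sqSign (Q (v i)) = sqSign (-1 : F) ^ (k + 1)) ∨
    ((Nat.card {v : W // Q v.1 = 0} : ℤ) =
        (Fintype.card F : ℤ) ^ (2 * k + 1) + (Fintype.card F : ℤ) ^ k - (Fintype.card F : ℤ) ^ (k + 1) ∧
      ∃ v : (Fin k ⊕ Fin k) ⊕ Fin 2 → V, (∀ i, v i ∈ W) ∧ (∀ i, Q (v i) ≠ 0) ∧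
        (∀ i j, i ≠ j → B (v i) (v j) = 0) ∧ ∏ i, sqSign (Q (v i)) = -(sqSign (-1 : F) ^ (k + 1))) := by
  classical
  let Q' : QuadraticForm F W := Q.comp W.subtype
  have hB' : ∀ a b : W, QuadraticMap.polar ⇑Q' a b = B a.1 b.1 := fun a b => rfl
  have hn : (QuadraticMap.polarBilin Q').Nondegenerate := nondegenerate_of_separatingLeft Q' fun a ha =>
    Subtype.ext (hW a.1 a.2 fun b hb => ha ⟨b, hb⟩)
  rcases exists_std hn hd with ⟨e, he⟩ | ⟨ζ, e, hζ, he⟩
  · left
    refine ⟨?_, fun i => Sum.elim
      (fun j => (e (Pi.single (Sum.inl j) 1 + Pi.single (Sum.inr j) 1)).1)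
      (fun j => (e (Pi.single (Sum.inl j) 1 - Pi.single (Sum.inr j) 1)).1) i, ?_, ?_, ?_, ?_⟩
    · rw [← zeros_qfPlus (F := F) (k + 1), ← Nat.card_congr (e.toEquiv.subtypeEquiv fun v => by
        show qfPlus (k + 1) F v = 0 ↔ Q' (e v) = 0
        rw [he])]
    · rintro (j | j) <;> exact Submodule.coe_mem _
    · rintro (j | j) <;> simp only [Sum.elim_inl, Sum.elim_inr] <;> (show Q' (e _) ≠ 0) <;> rw [he] <;>
        simp [qfPlus_apply, quadFormPlus, Pi.single_apply]
    · rintro (i | i) (j | j) hij <;> simp only [Sum.elim_inl, Sum.elim_inr, ← hB'] <;>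
        rw [show ∀ a b, QuadraticMap.polar ⇑Q' (e a) (e b) = QuadraticMap.polar ⇑(qfPlus (k + 1) F) a b from
          fun a b => by simp only [QuadraticMap.polar, ← map_add, he]] <;>
        simp only [polar_qfPlus] <;> simp [Pi.single_apply, Finset.sum_add_distrib, add_mul, mul_add, sub_mul,
          mul_sub] <;> simp_all [eq_comm]
    · rw [Fintype.prod_sum_type]
      simp only [Sum.elim_inl, Sum.elim_inr]
      have hp : ∀ j, Q' (e (Pi.single (Sum.inl j) 1 + Pi.single (Sum.inr j) 1)) = 1 := fun j => by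
        rw [he]; simp [qfPlus_apply, quadFormPlus, Pi.single_apply]
      have hm : ∀ j, Q' (e (Pi.single (Sum.inl j) 1 - Pi.single (Sum.inr j) 1)) = -1 := fun j => by
        rw [he]; simp [qfPlus_apply, quadFormPlus, Pi.single_apply]
      show (∏ j, sqSign (Q' _)) * (∏ j, sqSign (Q' _)) = _
      simp only [hp, hm, sqSign_of_isSquare (IsSquare.one : IsSquare (1 : F)), Finset.prod_const_one, one_mul, Finset.prod_const,
        Finset.card_univ, Fintype.card_fin]
  · right
    have hab := aniso_one hζ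
    have hns : ¬ IsSquare (1 - 4 * ζ) := by
      rintro ⟨d, hd'⟩
      refine hζ ((d - 1) / 2) ?_
      field_simp
      linear_combination -hd'
    refine ⟨?_, fun i => Sum.elim (Sum.elim
      (fun j => (e (Pi.single (Sum.inl (Sum.inl j)) 1 + Pi.single (Sum.inl (Sum.inr j)) 1)).1)
      (fun j => (e (Pi.single (Sum.inl (Sum.inl j)) 1 - Pi.single (Sum.inl (Sum.inr j)) 1)).1))
      ![(e (Pi.single (Sum.inr 0) 1)).1, (e (Pi.single (Sum.inr 0) 1 - (2 : F) • Pi.single (Sum.inr 1) 1)).1] i,
      ?_, ?_, ?_, ?_⟩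
    · rw [← zeros_qfMinus (F := F) k hab, ← Nat.card_congr (e.toEquiv.subtypeEquiv fun v => by
        show qfMinus k F 1 ζ v = 0 ↔ Q' (e v) = 0
        rw [he])]
    · rintro ((j | j) | j)
      · exact Submodule.coe_mem _
      · exact Submodule.coe_mem _
      · fin_cases j <;> exact Submodule.coe_mem _
    · rintro ((j | j) | j)
      · show Q' (e _) ≠ 0
        rw [he]; simp [qfMinus_apply, quadFormMinus, Pi.single_apply]
      · show Q' (e _) ≠ 0
        rw [he]; simp [qfMinus_apply, quadFormMinus, Pi.single_apply]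
      · fin_cases j
        · show Q' (e _) ≠ 0
          rw [he]; simp [qfMinus_apply, quadFormMinus, Pi.single_apply]
        · show Q' (e _) ≠ 0
          rw [he]
          simp [qfMinus_apply, quadFormMinus, Pi.single_apply]
          intro h
          exact hns ⟨0, by linear_combination -h⟩
    · have hpol : ∀ a b, B (e a).1 (e b).1 = QuadraticMap.polar ⇑(qfMinus k F 1 ζ) a b := fun a b => by
        rw [← hB']; simp only [QuadraticMap.polar, ← map_add, he]
      let X : Fin k → F → ((Fin k ⊕ Fin k) ⊕ Fin 2 → F) := fun i c =>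
        Pi.single (Sum.inl (Sum.inl i)) 1 + Pi.single (Sum.inl (Sum.inr i)) c
      have hXn : ∀ i, Pi.single (Sum.inl (Sum.inl i)) (1 : F) - Pi.single (Sum.inl (Sum.inr i)) 1 = X i (-1) :=
        fun i => by simp only [X, Pi.single_neg, sub_eq_add_neg]
      have hXX : ∀ i j c d, QuadraticMap.polar ⇑(qfMinus k F 1 ζ) (X i c) (X j d) = if i = j then c + d else 0 := by
        intro i j c d
        rw [polar_qfMinus]
        by_cases hij : i = j
        · subst hij
          rw [Finset.sum_eq_single i (fun l _ hl => by simp [X, hl]) (by simp)]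
          simp [X]
          ring
        · rw [Finset.sum_eq_zero fun l _ => by
            by_cases hli : l = i
            · subst hli; simp [X, hij]
            · simp [X, hli]]
          simp [X, hij]
      have hX0 : ∀ i c (y : (Fin k ⊕ Fin k) ⊕ Fin 2 → F), (∀ l, y (Sum.inl l) = 0) →
          QuadraticMap.polar ⇑(qfMinus k F 1 ζ) (X i c) y = 0 := fun i c y hy => by
        rw [polar_qfMinus, Finset.sum_eq_zero fun l _ => by rw [hy, hy, mul_zero, zero_mul, add_zero]]
        simp [X]
      have hX0' : ∀ i c (y : (Fin k ⊕ Fin k) ⊕ Fin 2 → F), (∀ l, y (Sum.inl l) = 0) →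
          QuadraticMap.polar ⇑(qfMinus k F 1 ζ) y (X i c) = 0 := fun i c y hy => by
        rw [QuadraticMap.polar_comm, hX0 i c y hy]
      have hY0 : ∀ l, (Pi.single (Sum.inr 0) 1 : (Fin k ⊕ Fin k) ⊕ Fin 2 → F) (Sum.inl l) = 0 :=
        fun l => by simp
      have hY1 : ∀ l, (Pi.single (Sum.inr 0) 1 - (2 : F) • Pi.single (Sum.inr 1) 1 :
          (Fin k ⊕ Fin k) ⊕ Fin 2 → F) (Sum.inl l) = 0 := fun l => by simp
      have hY : QuadraticMap.polar ⇑(qfMinus k F 1 ζ) (Pi.single (Sum.inr 0) 1)
          (Pi.single (Sum.inr 0) 1 - (2 : F) • Pi.single (Sum.inr 1) 1) = 0 := by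
        rw [polar_qfMinus, Finset.sum_eq_zero fun l _ => by simp]
        simp
      rintro ((i | i) | i) ((j | j) | j) hij
      · show B (e (X i 1)).1 (e (X j 1)).1 = 0
        rw [hpol, hXX, if_neg fun h => hij (by rw [h])]
      · simp only [Sum.elim_inl, Sum.elim_inr, hXn]
        show B (e (X i 1)).1 (e (X j (-1))).1 = 0
        rw [hpol, hXX, add_neg_cancel, ite_self]
      · fin_cases j
        · exact (hpol _ _).trans (hX0 i 1 _ hY0)
        · exact (hpol _ _).trans (hX0 i 1 _ hY1)
      · simp only [Sum.elim_inl, Sum.elim_inr, hXn]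
        show B (e (X i (-1))).1 (e (X j 1)).1 = 0
        rw [hpol, hXX, neg_add_cancel, ite_self]
      · simp only [Sum.elim_inl, Sum.elim_inr, hXn]
        rw [hpol, hXX, if_neg fun h => hij (by rw [h])]
      · simp only [Sum.elim_inl, Sum.elim_inr, hXn]
        fin_cases j
        · exact (hpol _ _).trans (hX0 i (-1) _ hY0)
        · exact (hpol _ _).trans (hX0 i (-1) _ hY1)
      · fin_cases i
        · exact (hpol _ _).trans (hX0' j 1 _ hY0)
        · exact (hpol _ _).trans (hX0' j 1 _ hY1)
      · simp only [Sum.elim_inl, Sum.elim_inr, hXn]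
        fin_cases i
        · exact (hpol _ _).trans (hX0' j (-1) _ hY0)
        · exact (hpol _ _).trans (hX0' j (-1) _ hY1)
      · fin_cases i <;> fin_cases j
        · exact absurd rfl hij
        · exact (hpol _ _).trans hY
        · exact (hpol _ _).trans ((QuadraticMap.polar_comm _ _ _).trans hY)
        · exact absurd rfl hij
    · rw [Fintype.prod_sum_type, Fintype.prod_sum_type, Fin.prod_univ_two]
      simp only [Sum.elim_inl, Sum.elim_inr, Matrix.cons_val_zero, Matrix.cons_val_one]
      have hp : ∀ j, Q' (e (Pi.single (Sum.inl (Sum.inl j)) 1 + Pi.single (Sum.inl (Sum.inr j)) 1)) = 1 :=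
        fun j => by rw [he]; simp [qfMinus_apply, quadFormMinus, Pi.single_apply]
      have hm : ∀ j, Q' (e (Pi.single (Sum.inl (Sum.inl j)) 1 - Pi.single (Sum.inl (Sum.inr j)) 1)) = -1 :=
        fun j => by rw [he]; simp [qfMinus_apply, quadFormMinus, Pi.single_apply]
      have h0 : Q' (e (Pi.single (Sum.inr 0) 1)) = 1 := by
        rw [he]; simp [qfMinus_apply, quadFormMinus, Pi.single_apply]
      have h1 : Q' (e (Pi.single (Sum.inr 0) 1 - (2 : F) • Pi.single (Sum.inr 1) 1)) = -1 * (1 - 4 * ζ) := by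
        rw [he]; simp [qfMinus_apply, quadFormMinus, Pi.single_apply]; ring
      show (∏ j, sqSign (Q' _)) * (∏ j, sqSign (Q' _)) * (sqSign (Q' _) * sqSign (Q' _)) = _
      simp only [hp, hm, h0, h1]
      rw [sqSign_mul (show (-1 : F) ≠ 0 from neg_ne_zero.2 one_ne_zero)
        (show (1 - 4 * ζ) ≠ 0 from fun h => hns (by rw [h]; exact ⟨0, (mul_zero 0).symm⟩)), sqSign_of_not hns,
        sqSign_of_isSquare (IsSquare.one : IsSquare (1 : F)), Finset.prod_const_one, Finset.prod_const, Finset.card_univ,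
        Fintype.card_fin, pow_succ]
      simp

theorem dvd_of_prim {q n d r : ℕ} (hn : 1 ≤ n) (hdvd : r ∣ q ^ n - 1)
    (hmin : ∀ i, 1 ≤ i → i < n → ¬ r ∣ q ^ i - 1) (h : r ∣ q ^ d - 1) : n ∣ d := by
  have h1 := Nat.dvd_gcd hdvd h
  rw [Nat.pow_sub_one_gcd_pow_sub_one] at h1
  have hle : Nat.gcd n d ≤ n := Nat.le_of_dvd (by omega) (Nat.gcd_dvd_left n d)
  have hpos : 1 ≤ Nat.gcd n d := Nat.gcd_pos_of_pos_left _ (by omega)
  have he : Nat.gcd n d = n := by
    by_contra hne
    exact hmin _ hpos (by omega) h1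
  exact he ▸ Nat.gcd_dvd_right n d

set_option maxHeartbeats 1000000 in
/-- No element of `Ω` in dimension `2m + 3` has order `p e`, `e = q^m ± 1 ≡ 2 (mod 4)`. -/
theorem no_order (hQ : (QuadraticMap.polarBilin Q).Nondegenerate) (h2 : (2 : F) ≠ 0) {m : ℕ} (hm : 2 ≤ m)
    (hcard : Fintype.card ι = 2 * m + 3) {p : ℕ} [Fact p.Prime] [CharP F p] {r e : ℕ} [Fact r.Prime] (hr2 : r ≠ 2)
    (hcase : (Fintype.card F ^ m % 4 = 1 ∧ e = Fintype.card F ^ m + 1 ∧
        r ∣ Fintype.card F ^ (2 * m) - 1 ∧ (∀ i, 1 ≤ i → i < 2 * m → ¬ r ∣ Fintype.card F ^ i - 1)) ∨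
      (Fintype.card F ^ m % 4 = 3 ∧ e = Fintype.card F ^ m - 1 ∧ Odd m ∧
        r ∣ Fintype.card F ^ m - 1 ∧ (∀ i, 1 ≤ i → i < m → ¬ r ∣ Fintype.card F ^ i - 1)))
    (x : OG) (hspin : spin x = 1) (hdet : (ogVal x).det = 1) : orderOf x ≠ p * e := by
  classical
  intro hx
  have hrne : (r : F) ≠ 0 := by
    intro h0
    rw [CharP.cast_eq_zero_iff F p] at h0
    obtain rfl : p = r := (Nat.prime_dvd_prime_iff_eq Fact.out Fact.out).1 h0
    obtain ⟨a, ha, hF⟩ := FiniteField.card F p
    rw [hF] at hcase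
    have key : ∀ j : ℕ, j ≠ 0 → p ∣ (p ^ (a : ℕ)) ^ j - 1 → False := fun j hj h => by
      have h3 := Nat.dvd_sub (dvd_pow (dvd_pow_self p a.pos.ne') hj) h
      rw [Nat.sub_sub_self (Nat.one_le_pow _ _ (Nat.one_le_pow _ _ (Fact.out : p.Prime).pos))] at h3
      exact (Fact.out : p.Prime).one_lt.ne' (Nat.dvd_one.1 h3)
    rcases hcase with ⟨-, -, h, -⟩ | ⟨-, -, -, h, -⟩
    · exact key _ (by omega) h
    · exact key _ (by omega) h
  have he4 : e % 4 = 2 := by rcases hcase with ⟨h, rfl, -⟩ | ⟨h, rfl, -⟩ <;> omega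
  have hre : r ∣ e := by
    rcases hcase with ⟨-, rfl, h, hmin⟩ | ⟨-, rfl, -, h, -⟩
    · rw [mul_comm, pow_mul, show (Fintype.card F ^ m) ^ 2 - 1 = (Fintype.card F ^ m + 1) * (Fintype.card F ^ m - 1)
        by rw [← Nat.sq_sub_sq, one_pow]] at h
      exact ((Fact.out : r.Prime).dvd_mul.1 h).resolve_right (hmin m (by omega) (by omega))
    · exact h
  have hpe : ¬ p ∣ e := by
    obtain ⟨a, ha, hF⟩ := FiniteField.card F p
    intro hd
    have hq : p ∣ Fintype.card F ^ m := hF ▸ dvd_pow (dvd_pow_self p a.pos.ne') (by omega)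
    rcases hcase with ⟨-, rfl, -⟩ | ⟨-, rfl, -⟩
    · exact (Fact.out : p.Prime).one_lt.ne' (Nat.dvd_one.1 ((Nat.dvd_add_right hq).1 hd))
    · have h3 := Nat.dvd_sub hq hd
      rw [Nat.sub_sub_self (Nat.one_le_pow _ _ Fintype.card_pos)] at h3
      exact (Fact.out : p.Prime).one_lt.ne' (Nat.dvd_one.1 h3)
  have hp2 : p ≠ 2 := fun h => h2 (by subst h; exact_mod_cast CharP.cast_eq_zero F 2)
  have he0 : 0 < e := by omega
  have hppos := (Fact.out : p.Prime).pos
  have hpow : ∀ k, x ^ k = 1 ↔ p * e ∣ k := fun k => by rw [← hx, orderOf_dvd_iff_pow_eq_one]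
  obtain ⟨e', he'⟩ := hre
  obtain ⟨f, hf⟩ : ∃ f, e = 2 * f := ⟨e / 2, by omega⟩
  have hrpos := (Fact.out : r.Prime).pos
  set u := x ^ e with hu
  set sr := x ^ (p * e') with hsr
  set z := x ^ (p * f) with hz
  have hu1 : u ≠ 1 := fun h => hpe (by
    have := Nat.le_of_dvd he0 ((hpow e).1 h)
    exfalso
    nlinarith [(Fact.out : p.Prime).two_le])
  have hup : u ^ p = 1 := by rw [hu, ← pow_mul, mul_comm, hpow]
  have hsr1 : sr ^ r = 1 := by
    rw [hsr, ← pow_mul, hpow, mul_assoc, mul_comm e' r, ← he']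
  have hsrne : sr ≠ 1 := fun h => by
    have := (hpow _).1 h
    rw [he'] at this
    have h3 := Nat.dvd_of_mul_dvd_mul_left hppos this
    have he'0 : 0 < e' := Nat.pos_of_ne_zero fun h0 => by rw [h0, mul_zero] at he'; omega
    have h4 := Nat.le_of_dvd he'0 h3
    nlinarith [(Fact.out : r.Prime).two_le]
  have hzz : z * z = 1 := by rw [hz, ← pow_add, hpow, hf, show p * f + p * f = p * (2 * f) by ring]
  have hzne : z ≠ 1 := fun h => by
    have := (hpow _).1 h
    rw [hf] at this
    have h3 := Nat.dvd_of_mul_dvd_mul_left hppos this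
    have := Nat.le_of_dvd (by omega) h3
    omega
  have hzspin : spin z = 1 := by rw [← spinHom_apply hQ, hz, map_pow, spinHom_apply, hspin, one_pow]
  have hzdet : (ogVal z).det = 1 := by
    let d : OG →* Fˣ := Matrix.GeneralLinearGroup.det.comp (isometryGroup F ⇑Q).subtype
    have hd : ∀ g : OG, ((d g : Fˣ) : F) = (ogVal g).det := fun g => rfl
    rw [← hd, hz, map_pow, Units.val_pow_eq_pow_val, hd, hdet, one_pow]
  have cus : Commute sr u := Commute.pow_pow_self x _ _
  have czs : Commute z sr := Commute.pow_pow_self x _ _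
  have czu : Commute z u := Commute.pow_pow_self x _ _
  -- the moving and the fixed space of the element of order `r`
  set T := act sr - 1 with hT
  set W := LinearMap.range T with hW
  set C := LinearMap.ker T with hC
  have hCfix : ∀ c ∈ C, act sr c = c := fun c hc => sub_eq_zero.1 hc
  have hWfix : ∀ w ∈ W, act sr w = w → w = 0 := by
    rintro w ⟨a, rfl⟩ hw
    have hk : ∀ k : ℕ, (act sr ^ k) a = a + (k : F) • T a := by
      intro k
      induction k with
      | zero => simp
      | succ k ih =>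
        rw [pow_succ', Module.End.mul_apply, ih, map_add, map_smul, hw, Nat.cast_succ, add_smul, one_smul,
          show act sr a = a + T a by simp [hT]]
        abel
    have h3 := hk r
    rw [← act_pow, hsr1, act_one, Module.End.one_apply, left_eq_add] at h3
    exact (smul_eq_zero.1 h3).resolve_left hrne
  have horth : ∀ a ∈ W, ∀ b ∈ C, B a b = 0 := by
    rintro _ ⟨a, rfl⟩ b hb
    have h3 := polar_act sr a b
    rw [hCfix b hb] at h3
    rw [show T a = act sr a - a by simp [hT], QuadraticMap.polar_sub_left, h3, sub_self]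
  have hinf : W ⊓ C = ⊥ := eq_bot_iff.2 fun v hv =>
    (Submodule.mem_bot F).2 (hWfix v hv.1 (hCfix v hv.2))
  have hsum : finrank F W + finrank F C = 2 * m + 3 := by
    rw [hW, hC, LinearMap.finrank_range_add_finrank_ker, Module.finrank_pi, hcard]
  have hsup : W ⊔ C = ⊤ := by
    refine Submodule.eq_top_of_finrank_eq ?_
    have := Submodule.finrank_sup_add_finrank_inf_eq W C
    rw [hinf, finrank_bot] at this
    rw [Module.finrank_pi, hcard]
    omega
  have hndW : Nd Q W := fun a ha hb => eq_zero_of_polar hQ fun y => by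
    obtain ⟨c, hc, d, hd, rfl⟩ := Submodule.mem_sup.1 (hsup.symm ▸ (Submodule.mem_top (x := y)))
    rw [QuadraticMap.polar_add_right, hb c hc, horth a ha d hd, add_zero]
  have hndC : Nd Q C := fun a ha hb => eq_zero_of_polar hQ fun y => by
    obtain ⟨c, hc, d, hd, rfl⟩ := Submodule.mem_sup.1 (hsup.symm ▸ (Submodule.mem_top (x := y)))
    rw [QuadraticMap.polar_add_right, hb d hd, QuadraticMap.polar_comm, horth c hc a ha, add_zero]
  have hinvW : ∀ g : OG, Commute g sr → ∀ w ∈ W, act g w ∈ W := by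
    rintro g hg _ ⟨a, rfl⟩
    exact ⟨act g a, by simp [hT, commute_apply hg]⟩
  have hinvC : ∀ g : OG, Commute g sr → ∀ c ∈ C, act g c ∈ C := fun g hg c hc => by
    rw [hC, LinearMap.mem_ker, hT, LinearMap.sub_apply, Module.End.one_apply, sub_eq_zero, ← commute_apply hg,
      hCfix c hc]
  have hW0 : W ≠ ⊥ := fun h => hsrne (ogVal_ext (Matrix.toLin'.injective (by
    show act sr = act 1
    rw [act_one]
    exact sub_eq_zero.1 (LinearMap.range_eq_bot.1 h))))
  -- invariant subspaces of the moving space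
  obtain ⟨n₀, hn₀, hdiv, hn₀m⟩ : ∃ n₀, 1 ≤ n₀ ∧ (∀ d, r ∣ Fintype.card F ^ d - 1 → n₀ ∣ d) ∧
      (n₀ = 2 * m ∨ (n₀ = m ∧ Odd m)) := by
    rcases hcase with ⟨-, -, h, hmin⟩ | ⟨-, -, hodd, h, hmin⟩
    · exact ⟨2 * m, by omega, fun d hd => dvd_of_prim (by omega) h hmin hd, Or.inl rfl⟩
    · exact ⟨m, by omega, fun d hd => dvd_of_prim (by omega) h hmin hd, Or.inr ⟨rfl, hodd⟩⟩
  have hdim : ∀ S : Submodule F V, S ≤ W → (∀ v ∈ S, act sr v ∈ S) → n₀ ∣ finrank F S :=
    fun S hS hinv => hdiv _ (dvd_pow_finrank hsr1 hinv fun v hv h => hWfix v (hS hv) h)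
  have hmult : ∀ S : Submodule F V, S ≤ W → Nd Q S → (∀ v ∈ S, act sr v ∈ S) → 2 * m ∣ finrank F S := by
    intro S hS hnd hinv
    have h1 := hdim S hS hinv
    have hsq : ∀ v ∈ S, act sr (act sr v) = v → v = 0 := fun v hv h => by
      obtain ⟨k, hk⟩ : ∃ k, r = 2 * k + 1 := ((Fact.out : r.Prime).odd_of_ne_two hr2)
      have h3 : ∀ j, (act sr ^ (2 * j)) v = v := by
        intro j
        induction j with
        | zero => simp
        | succ j ih => rw [Nat.mul_succ, pow_add, Module.End.mul_apply, sq, Module.End.mul_apply, h, ih]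
      have h4 : act sr v = v := by
        have : (act sr ^ r) v = v := by rw [← act_pow, hsr1, act_one]; rfl
        rw [hk, pow_succ', Module.End.mul_apply, h3] at this
        exact this
      exact hWfix v (hS hv) h4
    have hrm : ∀ v ∈ S, act sr⁻¹ v ∈ S := fun v hv => by
      have : sr⁻¹ = sr ^ (r - 1) := by
        refine inv_eq_of_mul_eq_one_right ?_
        rw [← pow_succ', Nat.sub_add_cancel hrpos, hsr1]
      rw [this, act_pow]
      have : ∀ j, (act sr ^ j) v ∈ S := fun j => by
        induction j with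
        | zero => simpa using hv
        | succ j ih => rw [pow_succ', Module.End.mul_apply]; exact hinv _ ih
      exact this _
    have heven := even_of_skew (Q := Q) (S := S) h2 (act sr - act sr⁻¹) (fun a _ b _ => by
      have key : ∀ a b, B (act sr a) b = B a (act sr⁻¹ b) := fun a b => by
        have := polar_act sr⁻¹ (act sr a) b
        rw [act_inv] at this
        exact this.symm
      simp only [LinearMap.sub_apply, QuadraticMap.polar_sub_left, key, QuadraticMap.polar_comm _ (act sr⁻¹ a),
        QuadraticMap.polar_comm _ (act sr⁻¹ b)]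
      have e1 := key a b
      have e2 := key b a
      rw [QuadraticMap.polar_comm _ a (act sr⁻¹ b), QuadraticMap.polar_comm _ b (act sr⁻¹ a)]
      ring) (fun a ha hb => hsq a ha ?_)
    · rcases hn₀m with rfl | ⟨rfl, hodd⟩
      · exact h1
      · exact Nat.Coprime.mul_dvd_of_dvd_of_dvd hodd.coprime_two_left heven.two_dvd h1
    · have h3 : act sr a - act sr⁻¹ a = 0 := hnd _ (S.sub_mem (hinv a ha) (hrm a ha)) hb
      have h5 : act sr⁻¹ (act sr (act sr a)) = act sr a := act_inv _ _
      have h6 : act sr a = act sr⁻¹ a := sub_eq_zero.1 h3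
      rw [h6, ← Module.End.mul_apply, ← act_mul, mul_inv_cancel, act_one]
      rfl
  have hD : finrank F W = 2 * m := by
    obtain ⟨t, ht⟩ := hmult W le_rfl hndW (hinvW sr (Commute.refl _))
    have h0 : finrank F W ≠ 0 := fun h => hW0 (Submodule.finrank_eq_zero.1 h)
    rcases t with _ | _ | t
    · exact absurd (by simpa using ht) h0
    · simpa using ht
    · nlinarith
  -- the unipotent part is trivial on the moving space
  set N := act u - 1 with hN
  have hNp : ∀ k, p ≤ k → N ^ k = 0 := by
    intro k hk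
    haveI : Nontrivial V := by
      haveI : Nonempty ι := Fintype.card_pos_iff.1 (by omega)
      infer_instance
    haveI : CharP (Module.End F V) p :=
      charP_of_injective_algebraMap (algebraMap F (Module.End F V)).injective p
    have h3 : N ^ p = 0 := by
      rw [hN, sub_pow_char_of_commute p (Commute.one_right _), one_pow, ← act_pow, hup, act_one, sub_self]
    obtain ⟨j, rfl⟩ := Nat.exists_eq_add_of_le hk
    rw [pow_add, h3, zero_mul]
  have hNW : ∀ w ∈ W, N w ∈ W := fun w hw => by
    simp only [hN, LinearMap.sub_apply, Module.End.one_apply]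
    exact W.sub_mem (hinvW u cus.symm w hw) hw
  have hNs : ∀ v, act sr (N v) = N (act sr v) := fun v => by simp [hN, commute_apply cus]
  have huW : ∀ w ∈ W, act u w = w := by
    suffices h : ∀ w ∈ W, N w = 0 from fun w hw => sub_eq_zero.1 (h w hw)
    set K := W ⊓ LinearMap.ker N with hK
    set I := W.map N with hI
    have hKinv : ∀ v ∈ K, act sr v ∈ K := fun v hv => ⟨hinvW sr (Commute.refl _) v hv.1, by
      rw [SetLike.mem_coe, LinearMap.mem_ker, ← hNs, LinearMap.mem_ker.1 hv.2, map_zero]⟩
    have hIW : I ≤ W := by rintro _ ⟨w, hw, rfl⟩; exact hNW w hw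
    have hIinv : ∀ v ∈ I, act sr v ∈ I := by
      rintro _ ⟨w, hw, rfl⟩
      exact ⟨act sr w, hinvW sr (Commute.refl _) w hw, (hNs w).symm⟩
    have hrk : finrank F I + finrank F K = 2 * m := by
      rw [← hD]
      have h3 := LinearMap.finrank_range_add_finrank_ker (N.domRestrict W)
      rw [LinearMap.range_domRestrict, LinearMap.ker_domRestrict] at h3
      rw [hK, inf_comm, ← h3, (Submodule.equivMapOfInjective W.subtype W.injective_subtype _).finrank_eq,
        Submodule.map_comap_subtype, inf_comm]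
    intro w hw
    by_contra hne
    have hI0 : finrank F I ≠ 0 := fun h =>
      hne ((Submodule.mem_bot F).1 (Submodule.finrank_eq_zero.1 h ▸ ⟨w, hw, rfl⟩))
    -- a nilpotent map on a non-zero invariant space has a non-zero kernel there
    have hker : ∀ v ∈ W, v ≠ 0 → ∃ j, (N ^ j) v ≠ 0 ∧ (N ^ j) v ∈ K := by
      intro v hv hv0
      have hex : ∃ j, (N ^ j) v = 0 := ⟨p, by rw [hNp p le_rfl]; rfl⟩
      have hf1 : Nat.find hex ≠ 0 := fun h0 => hv0 (by simpa [h0] using Nat.find_spec hex)
      refine ⟨Nat.find hex - 1, Nat.find_min hex (by omega), ?_, ?_⟩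
      · have hm' : ∀ j, (N ^ j) v ∈ W := fun j => by
          induction j with
          | zero => simpa using hv
          | succ j ih => rw [pow_succ', Module.End.mul_apply]; exact hNW _ ih
        exact hm' _
      · rw [SetLike.mem_coe, LinearMap.mem_ker, ← Module.End.mul_apply, ← pow_succ', Nat.sub_add_cancel (by omega)]
        exact Nat.find_spec hex
    obtain ⟨v₀, hv₀, hv₀ne⟩ : ∃ v ∈ W, v ≠ 0 := (Submodule.ne_bot_iff W).1 hW0
    have hK0 : finrank F K ≠ 0 := fun h => by
      obtain ⟨j, hj, hjK⟩ := hker v₀ hv₀ hv₀ne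
      exact hj ((Submodule.mem_bot F).1 (Submodule.finrank_eq_zero.1 h ▸ hjK))
    have hdK := hdim K inf_le_left hKinv
    have hdI := hdim I hIW hIinv
    rcases hn₀m with rfl | ⟨rfl, hodd⟩
    · have := Nat.le_of_dvd (by omega) hdK
      have := Nat.le_of_dvd (by omega) hdI
      omega
    · have h1 := Nat.le_of_dvd (by omega) hdK
      have h1' := Nat.le_of_dvd (by omega) hdI
      have hIm : finrank F I = n₀ := by omega
      have hKm : finrank F K = n₀ := by omega
      -- the image is the kernel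
      have hIK : I = K := by
        have hne0 : I ⊓ K ≠ ⊥ := by
          obtain ⟨j, hj, hjK⟩ := hker (N w) (hNW w hw) hne
          refine fun h => hj ((Submodule.mem_bot F).1 (h ▸ ⟨?_, hjK⟩))
          have hpI : ∀ j, (N ^ j) (N w) ∈ I := fun j => by
            induction j with
            | zero => exact ⟨w, hw, by simp⟩
            | succ j ih =>
              rw [pow_succ', Module.End.mul_apply]
              exact ⟨_, hIW ih, rfl⟩
          exact hpI j
        have hinv' : ∀ v ∈ I ⊓ K, act sr v ∈ I ⊓ K := fun v hv => ⟨hIinv v hv.1, hKinv v hv.2⟩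
        have hd := hdim _ (inf_le_of_left_le hIW) hinv'
        have hpos : finrank F (I ⊓ K : Submodule F V) ≠ 0 := fun h => hne0 (Submodule.finrank_eq_zero.1 h)
        have := Nat.le_of_dvd (by omega) hd
        have hle := Submodule.finrank_mono (inf_le_left : I ⊓ K ≤ I)
        have e1 : I ⊓ K = I := Submodule.eq_of_le_of_finrank_eq inf_le_left (by omega)
        exact Submodule.eq_of_le_of_finrank_eq (inf_eq_left.1 e1) (by omega)
      have hrel : ∀ a b, B (N a) b + B a (N b) + B (N a) (N b) = 0 := fun a b => by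
        have h := polar_act u a b
        rw [show act u a = N a + a by simp [hN], show act u b = N b + b by simp [hN],
          QuadraticMap.polar_add_left, QuadraticMap.polar_add_right, QuadraticMap.polar_add_right] at h
        linear_combination h
      have hKI : ∀ k ∈ K, ∀ b, B k (N b) = 0 := fun k hk b => by
        have := hrel k b
        rwa [LinearMap.mem_ker.1 hk.2, QuadraticMap.polar_zero_left, QuadraticMap.polar_zero_left, zero_add,
          add_zero] at this
      obtain ⟨U, hU⟩ := Submodule.exists_isCompl K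
      have hUW : K ⊔ (U ⊓ W) = W := by
        rw [← sup_inf_assoc_of_le U (inf_le_left : K ≤ W), hU.sup_eq_top, top_inf_eq]
      have hUd : finrank F (U ⊓ W : Submodule F V) = n₀ := by
        have h3 := Submodule.finrank_sup_add_finrank_inf_eq K (U ⊓ W)
        rw [hUW, ← inf_assoc, hU.inf_eq_bot, bot_inf_eq, finrank_bot, hD, hKm] at h3
        omega
      refine Nat.not_even_iff_odd.2 hodd (hUd ▸ even_of_skew (Q := Q) (S := U ⊓ W) h2 N (fun a ha b hb => ?_)
        fun a ha hab => ?_)
      · have h3 := hrel a b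
        have h4 : B (N a) (N b) = 0 := hKI (N a) (hIK ▸ ⟨a, ha.2, rfl⟩) b
        rw [h4, add_zero, QuadraticMap.polar_comm _ a (N b)] at h3
        linear_combination h3
      · have hNa : N a = 0 := hndW _ (hNW a ha.2) fun b hb => by
          obtain ⟨c, hc, d, hd, rfl⟩ := Submodule.mem_sup.1 (hUW.symm ▸ hb)
          rw [QuadraticMap.polar_add_right, hab d hd, add_zero, QuadraticMap.polar_comm]
          exact hKI c hc a
        exact (Submodule.mem_bot F).1 (hU.inf_eq_bot ▸ ⟨⟨ha.2, hNa⟩, ha.1⟩)
  -- the involution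
  obtain ⟨P, M, hP, hM, hP', hM', hPM, hPMd, hndP, hndM⟩ := eigen_split h2 hzz hndW (hinvW z czs)
  obtain ⟨P₁, M₁, hP₁, hM₁, hP₁', hM₁', hPM₁, hPMd₁, hndP₁, hndM₁⟩ := eigen_split h2 hzz hndC (hinvC z czs)
  have hzW : (∀ w ∈ W, act z w = w) ∨ (∀ w ∈ W, act z w = -w) := by
    have hPW : P ≤ W := fun v hv => (hP v hv).1
    have hMW : M ≤ W := fun v hv => (hM v hv).1
    have hinv : ∀ v ∈ P, act sr v ∈ P := fun v hv => hP' _ (hinvW sr (Commute.refl _) v (hPW hv))
      (by rw [commute_apply czs, (hP v hv).2])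
    have hinv' : ∀ v ∈ M, act sr v ∈ M := fun v hv => hM' _ (hinvW sr (Commute.refl _) v (hMW hv))
      (by rw [commute_apply czs, (hM v hv).2, map_neg])
    obtain ⟨t, ht⟩ := hmult P hPW hndP hinv
    rcases t with _ | t
    · refine Or.inr fun w hw => (hM w ?_).2
      rw [Submodule.finrank_eq_zero.1 (show finrank F P = 0 by rw [ht, mul_zero]), bot_sup_eq] at hPM
      rwa [hPM]
    · refine Or.inl fun w hw => (hP w ?_).2
      have : finrank F M = 0 := by
        rw [hD, ht] at hPMd
        have : 2 * m * 1 ≤ 2 * m * (t + 1) := Nat.mul_le_mul_left _ (by omega)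
        omega
      rw [Submodule.finrank_eq_zero.1 this, sup_bot_eq] at hPM
      rwa [hPM]
  have hd3 : finrank F C = 3 := by omega
  have hzC : (∀ c ∈ C, act z c = c) ∨ (∀ c ∈ C, act z c = -c) := by
    by_cases hM0 : finrank F M₁ = 0
    · refine Or.inl fun c hc => (hP₁ c ?_).2
      rw [Submodule.finrank_eq_zero.1 hM0, sup_bot_eq] at hPM₁
      rwa [hPM₁]
    by_cases hP0 : finrank F P₁ = 0
    · refine Or.inr fun c hc => (hM₁ c ?_).2
      rw [Submodule.finrank_eq_zero.1 hP0, bot_sup_eq] at hPM₁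
      rwa [hPM₁]
    exfalso
    have hPfix := unipotent_small h2 hndP₁ (by omega) (fun v hv => hP₁' _ (hinvC u cus.symm v (hP₁ v hv).1)
      (by rw [commute_apply czu, (hP₁ v hv).2])) (hNp p le_rfl)
    have hMfix := unipotent_small h2 hndM₁ (by omega) (fun v hv => hM₁' _ (hinvC u cus.symm v (hM₁ v hv).1)
      (by rw [commute_apply czu, (hM₁ v hv).2, map_neg])) (hNp p le_rfl)
    refine hu1 (ogVal_ext (Matrix.toLin'.injective (LinearMap.ext fun y => ?_)))
    show act u y = act 1 y
    rw [act_one, Module.End.one_apply]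
    obtain ⟨w, hw, c, hc, rfl⟩ := Submodule.mem_sup.1 (hsup.symm ▸ (Submodule.mem_top (x := y)))
    obtain ⟨a, ha, b, hb, rfl⟩ := Submodule.mem_sup.1 (hPM₁.symm ▸ hc)
    rw [map_add, map_add, huW w hw, hPfix a ha, hMfix b hb]
  -- determinant and spinor norm
  obtain ⟨k, hk⟩ : ∃ k, m = k + 1 := ⟨m - 1, by omega⟩
  have hDk : finrank F W = 2 * (k + 1) := by rw [hD, hk]
  have hzeros : r ∣ Nat.card {v : W // Q v.1 = 0} - 1 :=
    dvd_card_invariant hsr1 (hinvW sr (Commute.refl _)) hWfix (fun v => Q v = 0) (QuadraticMap.map_zero _)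
      (fun v hv => by rw [act_apply, ogVal_quad, hv])
  have hpos : 1 ≤ Nat.card {v : W // Q v.1 = 0} := by
    haveI : Nonempty {v : W // Q v.1 = 0} := ⟨⟨0, QuadraticMap.map_zero _⟩⟩
    exact Nat.card_pos
  have hfin : ∀ {κ : Type} [Fintype κ] (v : κ → V), (∀ i, v i ∈ W) → (∀ i, Q (v i) ≠ 0) →
      (∀ i j, i ≠ j → B (v i) (v j) = 0) → Fintype.card κ = 2 * m → ∏ i, sqSign (Q (v i)) = 1 := by
    intro κ _ v h1 h3 h4 hc
    have hzW' : ∀ w ∈ W, act z w = -w := by
      rcases hzW with h | h
      · exfalso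
        rcases hzC with h' | h'
        · refine hzne (ogVal_ext (Matrix.toLin'.injective (LinearMap.ext fun y => ?_)))
          show act z y = act 1 y
          obtain ⟨w, hw, c, hc', rfl⟩ := Submodule.mem_sup.1 (hsup.symm ▸ (Submodule.mem_top (x := y)))
          rw [map_add, h w hw, h' c hc', act_one]; rfl
        · -- then minus `z` inverts the moving space, so `det z = -1`
          obtain ⟨g, g1, g2, g3, -⟩ := exists_prod_refl hQ v h3 h4 Finset.univ
          have hneg : ogVal z = -ogVal g := by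
            refine Matrix.toLin'.injective (LinearMap.ext fun y => ?_)
            rw [map_neg, LinearMap.neg_apply]
            show act z y = -act g y
            obtain ⟨w, hw, c, hc', rfl⟩ := Submodule.mem_sup.1 (hsup.symm ▸ (Submodule.mem_top (x := y)))
            have hgc : act g c = c := g2 c fun i _ => horth _ (h1 i) c hc'
            have hgw : act g w = -w := by
              have hspan : Submodule.span F (Set.range v) = W := by
                refine Submodule.eq_of_le_of_finrank_eq (Submodule.span_le.2 (by rintro _ ⟨i, rfl⟩; exact h1 i)) ?_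
                rw [finrank_span_eq_card, hc, hD]
                rw [Fintype.linearIndependent_iff]
                intro b hb i
                have h5 := congrArg (fun y : V => QuadraticMap.polarBilin Q y (v i)) hb
                simp only [map_sum, map_smul, LinearMap.sum_apply, LinearMap.smul_apply, map_zero,
                  LinearMap.zero_apply, QuadraticMap.polarBilin_apply_apply] at h5
                rw [Finset.sum_eq_single i (fun j _ hj => by rw [h4 j i hj, smul_zero]) (by simp), polar_self2,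
                  smul_eq_mul] at h5
                exact (mul_eq_zero.1 h5).resolve_right (mul_ne_zero h2 (h3 i))
              have : Set.EqOn (act g) (-(1 : V →ₗ[F] V)) (Submodule.span F (Set.range v) : Set V) :=
                LinearMap.eqOn_span' (f := act g) (g := -(1 : V →ₗ[F] V)) (s := Set.range v) (by rintro _ ⟨i, rfl⟩; exact g1 i (Finset.mem_univ i))
              exact this (hspan.symm ▸ hw)
            rw [map_add, map_add, hgc, hgw, h w hw, h' c hc']
            abel
          rw [hneg, Matrix.det_neg, g3, Finset.card_univ, hc, hcard, pow_succ, pow_succ, pow_succ, pow_mul,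
            neg_one_sq, one_pow] at hzdet
          exact h2 (by linear_combination -hzdet)
      · exact h
    have hzC' : ∀ c ∈ C, act z c = c := by
      rcases hzC with h | h
      · exact h
      · exfalso
        have hneg : ogVal z = -1 := by
          refine Matrix.toLin'.injective (LinearMap.ext fun y => ?_)
          rw [map_neg, Matrix.toLin'_one, LinearMap.neg_apply, LinearMap.id_apply]
          show act z y = -y
          obtain ⟨w, hw, c, hc', rfl⟩ := Submodule.mem_sup.1 (hsup.symm ▸ (Submodule.mem_top (x := y)))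
          rw [map_add, hzW' w hw, h c hc']
          abel
        rw [hneg, Matrix.det_neg, Matrix.det_one, mul_one, hcard, pow_succ, pow_succ, pow_succ, pow_mul,
          neg_one_sq, one_pow] at hzdet
        exact h2 (by linear_combination -hzdet)
    rw [← (det_spin_involution hQ hsup horth v h1 h3 h4 (by rw [hc, hD]) h2 hzW' hzC').2, hzspin]
  have hq1 : 1 ≤ Fintype.card F := Fintype.card_pos
  set q := Fintype.card F with hqdef
  rcases exists_orth_values h2 hndW hDk with ⟨hZ, v, v1, v2, v3, v4⟩ | ⟨hZ, v, v1, v2, v3, v4⟩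
  · -- hyperbolic moving space
    rcases hcase with ⟨-, -, hrd, hmin⟩ | ⟨hq4, -⟩
    · have key : r ∣ (q ^ m - 1) * (q * (q ^ (m - 1) + 1)) := by
        have h5 : ((((Nat.card {v : W // Q v.1 = 0} - 1) * q : ℕ) : ℤ)) =
            (((q ^ m - 1) * (q * (q ^ (m - 1) + 1)) : ℕ) : ℤ) := by
          push_cast [hpos, Nat.one_le_pow m q hq1]
          rw [hk, Nat.add_sub_cancel]
          linear_combination hZ
        rw [← Int.natCast_inj.1 h5]
        exact hzeros.mul_right q
      have hr' := (Fact.out : r.Prime)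
      rcases hr'.dvd_mul.1 key with h | h
      · exact hmin m (by omega) (by omega) h
      rcases hr'.dvd_mul.1 h with h | h
      · have h6 : r ∣ q ^ (2 * m) := dvd_pow h (by omega)
        have h7 := Nat.dvd_sub h6 hrd
        rw [Nat.sub_sub_self (Nat.one_le_pow _ _ hq1)] at h7
        exact hr'.one_lt.ne' (Nat.dvd_one.1 h7)
      · refine hmin (2 * (m - 1)) (by omega) (by omega) ?_
        rw [mul_comm 2, pow_mul, ← one_pow 2, Nat.sq_sub_sq]
        exact h.mul_right _
    · have h5 := hfin v v1 v2 v3 (by simp [hk]; ring)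
      rw [v4, ← hk, (sqSign_neg_one_pow h2 m).2 hq4] at h5
      exact absurd h5 (by decide)
  · -- elliptic moving space
    rcases hcase with ⟨hq4, -⟩ | ⟨-, -, hodd, hrd, hmin⟩
    · have h5 := hfin v v1 v2 v3 (by simp [hk]; ring)
      rw [v4, ← hk, (sqSign_neg_one_pow h2 m).1 hq4] at h5
      exact absurd h5 (by decide)
    · have key : r ∣ (q ^ m + 1) * (q ^ (m - 1) - 1) := by
        have h5 : (((Nat.card {v : W // Q v.1 = 0} - 1 : ℕ) : ℤ)) =
            (((q ^ m + 1) * (q ^ (m - 1) - 1) : ℕ) : ℤ) := by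
          push_cast [hpos, Nat.one_le_pow (m - 1) q hq1]
          rw [hk, Nat.add_sub_cancel]
          linear_combination hZ
        rw [← Int.natCast_inj.1 h5]
        exact hzeros
      have hr' := (Fact.out : r.Prime)
      rcases hr'.dvd_mul.1 key with h | h
      · have h7 := Nat.dvd_sub h hrd
        rw [show q ^ m + 1 - (q ^ m - 1) = 2 by have := Nat.one_le_pow m q hq1; omega] at h7
        exact hr2 ((Nat.prime_dvd_prime_iff_eq hr' Nat.prime_two).1 h7)
      · exact hmin (m - 1) (by omega) (by omega) h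

end Cfsg.Agent.Lie.OrthSpectrumOdd
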