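import Cfsg.Prelude.Def_Classical
import Mathlib

/-!
In characteristic two, isometries of a quadratic form that are conjugate by an isometry of its polar form are
conjugate in the orthogonal group: two invariant quadratic forms with the same polar form differ by the square
of a functional, and the sign sum `∑ χ (Q v)` decides that one transvection carries one to the other.
-/

set_option autoImplicit false

namespace Cfsg.Agent.Lie.OrthSympConj

open Finset

variable {F : Type*} [Field F] [Fintype F] [CharP F 2]

/-- `y ↦ y ^ 2 + y`. -/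
def artin (F : Type*) [Field F] [CharP F 2] : F →+ F where
  toFun y := y * y + y
  map_zero' := by simp
  map_add' a b := by linear_combination a * b * CharTwo.two_eq_zero (R := F)

theorem artin_apply (y : F) : artin F y = y * y + y := rfl

theorem index_range_artin : (artin F).range.index = 2 := by
  classical
  have hk : Nat.card (artin F).ker = 2 := by
    rw [show ((artin F).ker : Type _) = {y : F // artin F y = 0} from rfl, Nat.card_eq_fintype_card,
      Fintype.card_subtype]
    have : (univ.filter fun y : F => artin F y = 0) = {0, 1} := by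
      ext y
      have e : artin F y = y * (y + 1) := by rw [artin_apply]; ring
      simp [e, mul_eq_zero, CharTwo.add_eq_zero]
    rw [this, card_pair zero_ne_one]
  have h1 := (artin F).ker.card_eq_card_quotient_mul_card_addSubgroup
  rw [Nat.card_congr (QuotientAddGroup.quotientKerEquivRange (artin F)).toEquiv, hk] at h1
  have h2 := (artin F).range.index_mul_card
  have h3 : 0 < Nat.card (artin F).range := Nat.card_pos
  rw [h1, mul_comm] at h2
  exact Nat.eq_of_mul_eq_mul_left h3 (by linarith)

open scoped Classical in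
/-- The non-trivial additive sign that is invariant under squaring. -/
noncomputable def chi (x : F) : ℤ := if ∃ y, artin F y = x then 1 else -1

theorem chi_eq_one_iff {x : F} : chi x = 1 ↔ ∃ y, artin F y = x := by
  unfold chi; split_ifs with h <;> simp [h]

theorem chi_add (a b : F) : chi (a + b) = chi a * chi b := by
  classical
  have h : a + b ∈ (artin F).range ↔ (a ∈ (artin F).range ↔ b ∈ (artin F).range) :=
    AddSubgroup.add_mem_iff_of_index_two index_range_artin
  simp only [AddMonoidHom.mem_range] at h
  unfold chi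
  by_cases ha : ∃ y, artin F y = a <;> by_cases hb : ∃ y, artin F y = b <;> simp [ha, hb] at h <;>
    simp [ha, hb, h]

theorem chi_zero : chi (0 : F) = 1 := chi_eq_one_iff.2 ⟨0, map_zero _⟩

theorem chi_sq (x : F) : chi (x * x) = chi x := by
  have h : chi (x * x + x) = 1 := chi_eq_one_iff.2 ⟨x, rfl⟩
  rw [chi_add] at h
  rcases Int.eq_one_or_neg_one_of_mul_eq_one' h with ⟨h1, h2⟩ | ⟨h1, h2⟩ <;> rw [h1, h2]

theorem chi_mul_self (x : F) : chi x * chi x = 1 := by
  rw [← chi_add, CharTwo.add_self_eq_zero, chi_zero]

theorem exists_chi_neg : ∃ x : F, chi x = -1 := by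
  obtain ⟨x, hx⟩ : ∃ x, x ∉ (artin F).range := by
    by_contra h
    push Not at h
    have := index_range_artin (F := F)
    rw [AddSubgroup.index_eq_one.2 (eq_top_iff.2 fun x _ => h x)] at this
    omega
  refine ⟨x, ?_⟩
  unfold chi
  rw [if_neg fun ⟨y, hy⟩ => hx ⟨y, hy⟩]

variable {V : Type*} [AddCommGroup V] [Module F V] [Fintype V]

open QuadraticMap in
/-- The sign sum of a non-degenerate quadratic form does not vanish. -/
theorem sum_chi_ne_zero (Q : QuadraticForm F V) (hQ : (polarBilin Q).Nondegenerate) :
    (∑ v : V, chi (Q v)) ≠ 0 := by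
  classical
  have hinner : ∀ d : V, (∑ u : V, chi (polar Q u d)) = if d = 0 then (Fintype.card V : ℤ) else 0 := by
    intro d
    split_ifs with hd
    · subst hd
      rw [Finset.sum_congr rfl fun u _ => show chi (polar Q u 0) = 1 by
        rw [show polar Q u 0 = 0 from (polarBilin Q u).map_zero, chi_zero]]
      simp
    · obtain ⟨u₁, hu₁⟩ : ∃ u, polar Q u d ≠ 0 := by
        by_contra h
        push Not at h
        exact hd (hQ.2 d h)
      obtain ⟨x, hx⟩ := exists_chi_neg (F := F)
      set u₀ := (x / polar Q u₁ d) • u₁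
      have h0 : polar Q u₀ d = x := by
        show polarBilin Q u₀ d = x
        rw [map_smul, LinearMap.smul_apply, polarBilin_apply_apply, smul_eq_mul, div_mul_cancel₀ _ hu₁]
      have h := Fintype.sum_equiv (Equiv.addRight u₀) (fun u => chi (polar Q (u + u₀) d))
        (fun u => chi (polar Q u d)) (fun u => rfl)
      simp only [polar_add_left, chi_add, h0, hx, mul_neg, mul_one, Finset.sum_neg_distrib] at h
      omega
  intro hS
  have hsq : (∑ v : V, chi (Q v)) * ∑ v : V, chi (Q v) = (Fintype.card V : ℤ) := by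
    calc (∑ v : V, chi (Q v)) * ∑ v : V, chi (Q v) = ∑ u : V, ∑ v : V, chi (Q u) * chi (Q v) :=
          Finset.sum_mul_sum _ _ _ _
      _ = ∑ u : V, ∑ d : V, chi (Q d) * chi (polar Q u d) := by
          refine Finset.sum_congr rfl fun u _ => ?_
          rw [← Equiv.sum_comp (Equiv.addLeft u) (fun v => chi (Q u) * chi (Q v))]
          refine Finset.sum_congr rfl fun d _ => ?_
          rw [Equiv.coe_addLeft, QuadraticMap.map_add Q u d, chi_add, chi_add, ← mul_assoc, ← mul_assoc,
            chi_mul_self, one_mul]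
      _ = (Fintype.card V : ℤ) := by
          rw [Finset.sum_comm]
          simp only [← Finset.mul_sum, hinner, mul_ite, mul_zero, Finset.sum_ite_eq', mem_univ, if_true]
          rw [QuadraticMap.map_zero, chi_zero, one_mul]
  rw [hS, mul_zero] at hsq
  have : 0 < Fintype.card V := Fintype.card_pos
  omega

open QuadraticMap in
/-- An isometry of the polar form intertwining two isometries can be corrected by one transvection. -/
theorem exists_isometry (Q : QuadraticForm F V) (hQ : (polarBilin Q).Nondegenerate) [FiniteDimensional F V]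
    (t s g : V ≃ₗ[F] V) (ht : ∀ v, Q (t v) = Q v) (hs : ∀ v, Q (s v) = Q v)
    (hg : ∀ u v, polar Q (g u) (g v) = polar Q u v) (hgt : ∀ v, g (t v) = s (g v)) :
    ∃ h : V ≃ₗ[F] V, (∀ v, Q (h v) = Q v) ∧ ∀ v, h (t v) = s (h v) := by
  classical
  -- the semilinear difference
  have hsq : ∀ x : F, ∃ r, r * r = x := fun x => by
    obtain ⟨r, hr⟩ := FiniteField.isSquare_of_char_two (ringChar.eq F 2 : ringChar F = 2) x
    exact ⟨r, hr.symm⟩
  choose rt hrt using hsq
  have hrinj : ∀ a b : F, a * a = b * b → a = b := fun a b h => by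
    have h2 : (a + b) * (a + b) = 0 := by linear_combination h + (b * b + a * b) * CharTwo.two_eq_zero (R := F)
    exact CharTwo.add_eq_zero.1 (mul_self_eq_zero.1 h2)
  have h20 := CharTwo.two_eq_zero (R := F)
  let δ : V →ₗ[F] F :=
    { toFun := fun v => rt (Q (g v) + Q v)
      map_add' := fun u v => hrinj _ _ (by
        rw [map_add, QuadraticMap.map_add Q u v, QuadraticMap.map_add Q (g u) (g v), hg, hrt]
        linear_combination -hrt (Q (g u) + Q u) - hrt (Q (g v) + Q v) +
          (polar Q u v - rt (Q (g u) + Q u) * rt (Q (g v) + Q v)) * h20)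
      map_smul' := fun c v => hrinj _ _ (by
        rw [hrt, RingHom.id_apply, smul_eq_mul, map_smul, QuadraticMap.map_smul, QuadraticMap.map_smul, smul_eq_mul,
          smul_eq_mul]
        linear_combination -(c * c) * hrt (Q (g v) + Q v)) }
  have hδ : ∀ v, δ v * δ v = Q (g v) + Q v := fun v => hrt _
  set w := (LinearMap.BilinForm.toDual (polarBilin Q) hQ).symm δ
  have hw : ∀ v, polar Q w v = δ v := fun v => LinearMap.BilinForm.apply_toDual_symm_apply (hB := hQ) δ v
  have hQ' : ∀ v, Q (g v) = Q v + polar Q v w * polar Q v w := fun v => by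
    rw [QuadraticMap.polar_comm, hw]; linear_combination -hδ v - Q v * h20
  have htpolar : ∀ u v, polar Q (t u) (t v) = polar Q u v := fun u v => by
    simp only [polar, ← map_add, ht]
  have htw : t w = w := by
    have hinv : ∀ v, δ (t v) = δ v := fun v => hrinj _ _ (by rw [hδ, hδ, hgt, hs, ht])
    rw [← sub_eq_zero]
    refine hQ.1 _ fun y => ?_
    obtain ⟨v, rfl⟩ := t.surjective y
    rw [map_sub, LinearMap.sub_apply, polarBilin_apply_apply, polarBilin_apply_apply, htpolar, hw, hw, hinv, sub_self]
  -- the sign sum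
  have hsum : chi (Q w) = 1 := by
    have h1 : (∑ v : V, chi (Q v)) = (∑ v : V, chi (Q v)) * chi (Q w) := by
      calc (∑ v : V, chi (Q v)) = ∑ v : V, chi (Q (g v)) := (g.toEquiv.sum_comp fun v => chi (Q v)).symm
        _ = ∑ v : V, chi (Q (v + w)) * chi (Q w) := Finset.sum_congr rfl fun v _ => by
            rw [hQ', chi_add, chi_sq, QuadraticMap.map_add Q v w, chi_add, chi_add]
            linear_combination (-(chi (Q v) * chi (polar Q v w))) * chi_mul_self (Q w)
        _ = _ := by rw [← Finset.sum_mul, ← Equiv.sum_comp (Equiv.addRight w) (fun v => chi (Q v))]; rfl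
    have h2 : (∑ v : V, chi (Q v)) * (chi (Q w) - 1) = 0 := by linear_combination -h1
    exact sub_eq_zero.1 ((mul_eq_zero.1 h2).resolve_left (sum_chi_ne_zero Q hQ))
  obtain ⟨y, hy⟩ := chi_eq_one_iff.1 hsum
  rw [artin_apply] at hy
  obtain ⟨c, hc⟩ : ∃ c : F, c + c * c * Q w = 1 := by
    by_cases h0 : Q w = 0
    · exact ⟨1, by rw [h0, mul_zero, add_zero]⟩
    · refine ⟨y / Q w, ?_⟩
      field_simp
      linear_combination hy
  let xl : V →ₗ[F] V := LinearMap.id + ((c • polarBilin Q w).smulRight w)
  have hx : ∀ v, xl v = v + (c * polar Q w v) • w := fun v => by simp [xl]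
  have hQx : ∀ v, Q (xl v) = Q (g v) := fun v => by
    rw [hx, QuadraticMap.map_add Q, QuadraticMap.map_smul, QuadraticMap.polar_smul_right, smul_eq_mul, smul_eq_mul,
      hQ', QuadraticMap.polar_comm (⇑Q) w v]
    linear_combination (polar Q v w * polar Q v w) * hc
  have hxinj : Function.Injective xl := (injective_iff_map_eq_zero xl).2 fun v hv => by
    refine hQ.1 v fun u => ?_
    obtain ⟨z, rfl⟩ := g.symm.surjective u
    have hp : ∀ a b, polar Q (xl a) (xl b) = polar Q a b := fun a b => by
      rw [polar, ← map_add xl, hQx, hQx, hQx, map_add, ← polar, hg]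
    rw [polarBilin_apply_apply, ← hp, hv]
    exact LinearMap.congr_fun (map_zero (polarBilin Q)) _
  let x := LinearEquiv.ofBijective xl ⟨hxinj, LinearMap.surjective_of_injective hxinj⟩
  have hxt : ∀ v, xl (t v) = t (xl v) := fun v => by
    rw [hx, hx, map_add, map_smul, htw]
    congr 2
    nth_rewrite 1 [← htw]
    rw [htpolar]
  refine ⟨x.symm.trans g, fun v => ?_, fun v => ?_⟩
  · obtain ⟨u, rfl⟩ := x.surjective v
    show Q (g (x.symm (x u))) = _
    rw [x.symm_apply_apply]
    exact (hQx u).symm
  · obtain ⟨u, rfl⟩ := x.surjective v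
    show g (x.symm (t (x u))) = s (g (x.symm (x u)))
    rw [show t (x u) = x (t u) from (hxt u).symm, x.symm_apply_apply, x.symm_apply_apply, hgt]

/-- The two notions of conjugacy agree in the matrix groups. -/
theorem isConj_iff_polar {ι : Type} [Fintype ι] [DecidableEq ι] (Q : QuadraticForm F (ι → F))
    (hQ : (QuadraticMap.polarBilin Q).Nondegenerate) (t s : Cfsg.isometryGroup F ⇑Q) :
    IsConj t s ↔ ∃ g ∈ Cfsg.preserving (Units.coeHom (Matrix ι ι F)) (fun u v => Q (u + v) - Q u - Q v),
      g * (t : GL ι F) * g⁻¹ = (s : GL ι F) := by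
  classical
  constructor
  · intro h
    obtain ⟨c, hc⟩ := isConj_iff.1 h
    refine ⟨(c : GL ι F), fun u v => ?_, congrArg Subtype.val hc⟩
    show Q (((c : GL ι F) : Matrix ι ι F).mulVec u + ((c : GL ι F) : Matrix ι ι F).mulVec v) -
      Q (((c : GL ι F) : Matrix ι ι F).mulVec u) - Q (((c : GL ι F) : Matrix ι ι F).mulVec v) = _
    rw [← Matrix.mulVec_add]
    rw [show Q (((c : GL ι F) : Matrix ι ι F).mulVec (u + v)) = Q (u + v) from c.2 (u + v) (u + v),
      show Q (((c : GL ι F) : Matrix ι ι F).mulVec u) = Q u from c.2 u u,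
      show Q (((c : GL ι F) : Matrix ι ι F).mulVec v) = Q v from c.2 v v]
  · rintro ⟨g, hg, hconj⟩
    let lin : GL ι F → ((ι → F) ≃ₗ[F] (ι → F)) := fun a => (Matrix.GeneralLinearGroup.toLin a).toLinearEquiv
    have hlin : ∀ (a : GL ι F) v, lin a v = (a : Matrix ι ι F).mulVec v := fun a v => rfl
    rw [mul_inv_eq_iff_eq_mul] at hconj
    obtain ⟨h, hh, hht⟩ := exists_isometry Q hQ (lin t) (lin s) (lin g)
      (fun v => by rw [hlin]; exact t.2 v v) (fun v => by rw [hlin]; exact s.2 v v)
      (fun u v => by rw [hlin, hlin]; exact hg u v)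
      (fun v => by
        simp only [hlin, Matrix.mulVec_mulVec]
        exact congrArg (fun a : GL ι F => (a : Matrix ι ι F).mulVec v) hconj)
    let H : GL ι F := Matrix.GeneralLinearGroup.toLin.symm (LinearMap.GeneralLinearGroup.ofLinearEquiv h)
    have hH : ∀ v, (H : Matrix ι ι F).mulVec v = h v := fun v => by
      show lin H v = h v
      simp only [lin, H, MulEquiv.apply_symm_apply]
      rfl
    refine isConj_iff.2 ⟨⟨H, fun u v => ?_⟩, ?_⟩
    · show Q ((H : Matrix ι ι F).mulVec u) = Q u
      rw [hH, hh]
    · rw [mul_inv_eq_iff_eq_mul]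
      refine Subtype.ext (Units.ext (Matrix.ext_iff_mulVec.2 fun v => ?_))
      show ((H : Matrix ι ι F) * ((t : GL ι F) : Matrix ι ι F)).mulVec v =
        (((s : GL ι F) : Matrix ι ι F) * (H : Matrix ι ι F)).mulVec v
      rw [← Matrix.mulVec_mulVec, ← Matrix.mulVec_mulVec, hH, hH]
      exact hht v

end Cfsg.Agent.Lie.OrthSympConj
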