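import Mathlib

/-!
Stable sets for the twisted Frobenius `x ↦ x ^ (-q)`: a small common exponent.
-/

set_option autoImplicit false

namespace Cfsg.Agent.Lie.PGUOrder

/-- `q ^ c - (-1) ^ c`. -/
def tw (q c : ℕ) : ℕ := if Even c then q ^ c - 1 else q ^ c + 1

/-- `q ^ (s - 1) + (-1) ^ s`. -/
def bnd (q s : ℕ) : ℕ := if Even s then q ^ (s - 1) + 1 else q ^ (s - 1) - 1

theorem tw_le (q c : ℕ) : tw q c ≤ q ^ c + 1 := by unfold tw; split_ifs <;> omega

theorem bnd_ge (q s : ℕ) : q ^ (s - 1) - 1 ≤ bnd q s := by unfold bnd; split_ifs <;> omega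

theorem bnd_le (q s : ℕ) : bnd q s ≤ q ^ (s - 1) + 1 := by unfold bnd; split_ifs <;> omega

theorem tw_pos {q c : ℕ} (hq : 2 ≤ q) (hc : 1 ≤ c) : 0 < tw q c := by
  unfold tw
  have : 1 < q ^ c := Nat.one_lt_pow (by omega) hq
  split_ifs <;> omega

theorem dvd_tw {q : ℕ} (c : ℕ) : q + 1 ∣ tw q c := by
  unfold tw
  split_ifs with h
  · obtain ⟨b, rfl⟩ := h
    rw [← two_mul, pow_mul]
    refine dvd_trans ?_ (Nat.sub_one_dvd_pow_sub_one (q ^ 2) b)
    exact ⟨q - 1, Nat.sq_sub_sq q 1⟩
  · simpa using (Nat.not_even_iff_odd.1 h).nat_add_dvd_pow_add_pow q 1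

theorem bnd_mono {q a b : ℕ} (hq : 2 ≤ q) (ha : 2 ≤ a) (hab : a < b) : bnd q a ≤ bnd q b := by
  refine (bnd_le q a).trans (le_trans ?_ (bnd_ge q b))
  have h1 : q ^ a ≤ q ^ (b - 1) := Nat.pow_le_pow_right (by omega) (by omega)
  have h2 : q ^ a = q * q ^ (a - 1) := by rw [← pow_succ']; congr 1; omega
  have h3 : q ≤ q ^ (a - 1) := Nat.le_self_pow (by omega) q
  have h4 : 2 * q ^ (a - 1) ≤ q * q ^ (a - 1) := Nat.mul_le_mul_right _ hq
  omega

theorem tw_succ_bnd (q c : ℕ) : (if Even c then tw q c = bnd q (c + 1) else tw q c = bnd q (c + 1)) := by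
  unfold tw bnd
  by_cases h : Even c
  · have : ¬ Even (c + 1) := Nat.not_even_iff_odd.2 h.add_one
    simp [h, this]
  · have : Even (c + 1) := (Nat.not_even_iff_odd.1 h).add_one
    simp [h, this]

/-- Two periods or more. -/
theorem lcm_tw_le {q : ℕ} (hq : 2 ≤ q) : ∀ n (C : Finset ℕ), C.card = n → 2 ≤ n → (∀ c ∈ C, 1 ≤ c) →
    C.lcm (tw q) ≤ bnd q (∑ c ∈ C, c) := by
  intro n
  induction n with
  | zero => intro C _ h; omega
  | succ n ih =>
    intro C hC hn h1
    have hne : C.Nonempty := Finset.card_pos.1 (by omega)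
    set b := C.max' hne with hbdef
    have hb : b ∈ C := C.max'_mem hne
    set D := C.erase b with hD
    have hDn : D.card = n := by rw [hD, Finset.card_erase_of_mem hb, hC]; omega
    have hDlt : ∀ a ∈ D, a < b := fun a ha => by
      obtain ⟨hne', haC⟩ := Finset.mem_erase.1 ha
      exact lt_of_le_of_ne (C.le_max' a haC) hne'
    have hD1 : ∀ a ∈ D, 1 ≤ a := fun a ha => h1 a (Finset.mem_of_mem_erase ha)
    have hins : C = insert b D := (Finset.insert_erase hb).symm
    have hbD : b ∉ D := Finset.notMem_erase b C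
    rw [hins, Finset.lcm_insert, Finset.sum_insert hbD]
    have hpos : ∀ c, 1 ≤ c → tw q c ≠ 0 := fun c hc => (tw_pos hq hc).ne'
    have hgcd : ∀ L, q + 1 ∣ L → L ≠ 0 →
        Nat.lcm (tw q b) L * (q + 1) ≤ tw q b * L := fun L hL hL0 =>
      calc Nat.lcm (tw q b) L * (q + 1) ≤ Nat.lcm (tw q b) L * Nat.gcd (tw q b) L :=
            Nat.mul_le_mul_left _ (Nat.le_of_dvd (Nat.gcd_pos_of_pos_left _ (tw_pos hq (h1 b hb)))
              (Nat.dvd_gcd (dvd_tw b) hL))
        _ = _ := by rw [mul_comm, Nat.gcd_mul_lcm]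
    by_cases hn2 : n = 1
    · obtain ⟨a, ha⟩ := Finset.card_eq_one.1 (hDn.trans hn2)
      have haD : a ∈ D := by rw [ha]; exact Finset.mem_singleton_self a
      rw [ha, Finset.lcm_singleton, Finset.sum_singleton, normalize_eq, lcm_eq_nat_lcm]
      have hab := hDlt a haD
      rcases eq_or_lt_of_le (hD1 a haD) with ha1 | ha2
      · subst ha1
        have h : Nat.lcm (tw q b) (tw q 1) = tw q b :=
          Nat.lcm_eq_left (by rw [show tw q 1 = q + 1 by simp [tw]]; exact dvd_tw b)
        rw [h]
        have := tw_succ_bnd q b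
        split_ifs at this <;> exact this.le
      · refine le_trans ?_ (bnd_ge q (b + a))
        have h := hgcd _ (dvd_tw a) (hpos a (hD1 a haD))
        have hA : q ^ 2 ≤ q ^ a := Nat.pow_le_pow_right (by omega) ha2
        have hB : q * q ^ a ≤ q ^ b := by
          rw [← pow_succ']; exact Nat.pow_le_pow_right (by omega) hab
        set A := q ^ a
        set B := q ^ b
        have hAB : q * q ^ (b + a - 1) = B * A := by
          rw [← pow_succ', ← pow_add]; congr 1; omega
        set Q := q ^ (b + a - 1)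
        have hq2 : q + 2 ≤ q ^ 2 := by rw [sq]; nlinarith
        have hkey : A + B + q + 2 ≤ Q := by
          refine Nat.le_of_mul_le_mul_left (?_ : q * _ ≤ q * _) (by omega)
          rw [hAB]
          have h6 : A + B + q + 2 ≤ 2 * B := by nlinarith
          calc q * (A + B + q + 2) ≤ q * (2 * B) := Nat.mul_le_mul_left _ h6
            _ = B * (2 * q) := by ring
            _ ≤ B * A := Nat.mul_le_mul_left _ (le_trans (by rw [sq]; exact Nat.mul_le_mul_right q hq) hA)
        have hQ1 : 1 ≤ Q := Nat.one_le_pow _ _ (by omega)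
        refine Nat.le_of_mul_le_mul_right ?_ (show 0 < q + 1 by omega)
        refine h.trans ?_
        calc tw q b * tw q a ≤ (B + 1) * (A + 1) := Nat.mul_le_mul (tw_le q b) (tw_le q a)
          _ ≤ (Q - 1) * (q + 1) := by
            obtain ⟨Q', hQ'⟩ : ∃ Q', Q = Q' + 1 := ⟨Q - 1, by omega⟩
            rw [hQ', Nat.add_sub_cancel]
            rw [hQ'] at hAB hkey
            nlinarith
    · have hn3 : 2 ≤ n := by omega
      have hih := ih D hDn hn3 hD1
      set S := ∑ c ∈ D, c
      have hS3 : 3 ≤ S := by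
        have hDne : D.Nonempty := Finset.card_pos.1 (by omega)
        obtain ⟨x, hx, y, hy, hxy⟩ := Finset.one_lt_card.1 (by omega : 1 < D.card)
        have hsub : ({x, y} : Finset ℕ) ⊆ D := by
          intro z hz; simp only [Finset.mem_insert, Finset.mem_singleton] at hz
          rcases hz with rfl | rfl <;> assumption
        have hle : x + y ≤ S := by
          rw [← Finset.sum_pair (f := fun z : ℕ => z) hxy]; exact Finset.sum_le_sum_of_subset hsub
        have := hD1 x hx
        have := hD1 y hy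
        omega
      have hb3 : 3 ≤ b := by
        obtain ⟨x, hx, y, hy, hxy⟩ := Finset.one_lt_card.1 (by omega : 1 < D.card)
        have := hDlt x hx; have := hDlt y hy; have := hD1 x hx; have := hD1 y hy
        omega
      rw [lcm_eq_nat_lcm]
      refine le_trans ?_ (bnd_ge q (b + S))
      have hdvdL : q + 1 ∣ D.lcm (tw q) := by
        obtain ⟨x, hx⟩ := Finset.card_pos.1 (by omega : 0 < D.card)
        exact (dvd_tw x).trans (Finset.dvd_lcm hx)
      have hL0 : D.lcm (tw q) ≠ 0 := by
        rw [Ne, Finset.lcm_eq_zero_iff]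
        rintro ⟨x, hx, hx0⟩
        exact hpos x (hD1 x hx) hx0
      have h := hgcd _ hdvdL hL0
      set B := q ^ b
      set W := q ^ (S - 1)
      have hBW : q ^ (b + S - 1) = B * W := by
        rw [← pow_add]; congr 1; omega
      rw [hBW]
      have hB2 : 2 ≤ B := hq.trans (Nat.le_self_pow (by omega) q)
      have hW2 : 2 ≤ W := hq.trans (Nat.le_self_pow (by omega) q)
      refine Nat.le_of_mul_le_mul_right ?_ (show 0 < q + 1 by omega)
      refine h.trans ?_
      calc tw q b * D.lcm (tw q) ≤ (B + 1) * (W + 1) :=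
            Nat.mul_le_mul (tw_le q b) (hih.trans (bnd_le q S))
        _ ≤ (B * W - 1) * (q + 1) := by
          obtain ⟨Z, hZ⟩ : ∃ Z, B * W = Z + 1 := ⟨B * W - 1, by
            have : 0 < B * W := Nat.mul_pos (by omega) (by omega)
            omega⟩
          rw [hZ, Nat.add_sub_cancel]
          have hq8 : 2 * W ≤ B * W := Nat.mul_le_mul_right W hB2
          have hq9 : B * 2 ≤ B * W := Nat.mul_le_mul_left B hW2
          nlinarith

variable {L : Type*} [Field L] [DecidableEq L]

/-- `x ↦ x ^ (-q)`. -/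
def twFrob (q : ℕ) (x : L) : L := (x ^ q)⁻¹

theorem twFrob_pow (q : ℕ) (x : L) (n : ℕ) : twFrob q (x ^ n) = twFrob q x ^ n := by
  simp only [twFrob, inv_pow, ← pow_mul, mul_comm]

theorem iterate_twFrob_pow (q : ℕ) (x : L) (n j : ℕ) :
    (twFrob q)^[j] (x ^ n) = ((twFrob q)^[j] x) ^ n := by
  induction j with
  | zero => rfl
  | succ j ih => simp only [Function.iterate_succ_apply', ih, twFrob_pow]

theorem iterate_twFrob (q : ℕ) (x : L) (j : ℕ) :
    (twFrob q)^[j] x = if Even j then x ^ q ^ j else (x ^ q ^ j)⁻¹ := by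
  induction j with
  | zero => simp
  | succ j ih =>
    rw [Function.iterate_succ_apply', ih]
    by_cases h : Even j
    · have : ¬ Even (j + 1) := Nat.not_even_iff_odd.2 h.add_one
      simp [twFrob, h, this, ← pow_mul, pow_succ]
    · have : Even (j + 1) := (Nat.not_even_iff_odd.1 h).add_one
      simp [twFrob, h, this, ← pow_mul, pow_succ]

theorem pow_tw_eq_one {q c : ℕ} (hq : 2 ≤ q) (x : L) (hx : x ≠ 0) (h : (twFrob q)^[c] x = x) :
    x ^ tw q c = 1 := by
  rw [iterate_twFrob] at h
  unfold tw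
  have hpos : 1 ≤ q ^ c := Nat.one_le_pow _ _ (by omega)
  split_ifs at h ⊢ with he
  · refine mul_left_cancel₀ hx ?_
    rw [mul_one, ← pow_succ', Nat.sub_add_cancel hpos, h]
  · rw [pow_succ]
    nth_rewrite 2 [← h]
    exact mul_inv_cancel₀ (pow_ne_zero _ hx)

/-- A stable set has a common small exponent. -/
theorem exists_exponent {q : ℕ} (hq : 2 ≤ q) (hinj : Function.Injective (twFrob (L := L) q))
    (S : Finset L) (hS : ∀ x ∈ S, twFrob q x ∈ S) (h0 : (0 : L) ∉ S) (hs : 2 ≤ S.card) :
    ∃ (n : ℕ) (z : L), 0 < n ∧ z ^ q ^ 2 = z ∧ (∀ x ∈ S, x ^ n = z) ∧ n ≤ bnd q S.card := by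
  classical
  set σ := twFrob (L := L) q
  have hmem : ∀ x ∈ S, ∀ j, σ^[j] x ∈ S := by
    intro x hx j
    induction j with
    | zero => exact hx
    | succ j ih => rw [Function.iterate_succ_apply']; exact hS _ ih
  have hper : ∀ x ∈ S, 0 < Function.minimalPeriod σ x := by
    intro x hx
    obtain ⟨i, -, j, -, hne, he⟩ := Finset.exists_ne_map_eq_of_card_lt_of_maps_to
      (s := Finset.range (S.card + 1)) (t := S) (by simp) (f := fun j => σ^[j] x)
      (fun j _ => hmem x hx j)
    wlog hij : i < j generalizing i j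
    · exact this j i hne.symm he.symm (by omega)
    refine Function.minimalPeriod_pos_of_mem_periodicPts ⟨j - i, by omega, ?_⟩
    show σ^[j - i] x = x
    apply hinj.iterate i
    rw [← Function.iterate_add_apply, show i + (j - i) = j by omega]
    exact he.symm
  let orb : L → Finset L := fun x => (Finset.range (Function.minimalPeriod σ x)).image fun j => σ^[j] x
  have horb_card : ∀ x, (orb x).card = Function.minimalPeriod σ x := fun x => by
    rw [Finset.card_image_of_injOn, Finset.card_range]
    intro a ha b hb hab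
    exact Function.iterate_injOn_Iio_minimalPeriod (Finset.mem_range.1 ha) (Finset.mem_range.1 hb) hab
  have horb_per : ∀ x, ∀ y ∈ orb x, Function.minimalPeriod σ y = Function.minimalPeriod σ x := by
    intro x y hy
    obtain ⟨i, -, rfl⟩ := Finset.mem_image.1 hy
    refine Function.minimalPeriod_eq_minimalPeriod_iff.2 fun j => ?_
    simp only [Function.IsPeriodicPt, Function.IsFixedPt]
    rw [← Function.iterate_add_apply, add_comm, Function.iterate_add_apply]
    exact (hinj.iterate i).eq_iff
  have horb_sub : ∀ x ∈ S, orb x ⊆ S := fun x hx y hy => by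
    obtain ⟨i, -, rfl⟩ := Finset.mem_image.1 hy
    exact hmem x hx i
  set C := S.image (Function.minimalPeriod σ) with hC
  have hC1 : ∀ c ∈ C, 1 ≤ c := fun c hc => by
    obtain ⟨x, hx, rfl⟩ := Finset.mem_image.1 hc
    exact hper x hx
  have hsum : ∑ c ∈ C, c ≤ S.card := by
    let rep : C → L := fun c => (Finset.mem_image.1 c.2).choose
    have hrep : ∀ c : C, rep c ∈ S ∧ Function.minimalPeriod σ (rep c) = c := fun c =>
      (Finset.mem_image.1 c.2).choose_spec
    calc ∑ c ∈ C, c = ∑ c ∈ C.attach, (orb (rep c)).card := by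
          rw [← Finset.sum_attach]
          exact Finset.sum_congr rfl fun c _ => by rw [horb_card, (hrep c).2]
      _ = (C.attach.biUnion fun c => orb (rep c)).card := by
          rw [Finset.card_biUnion]
          intro a _ b _ hab
          rw [Function.onFun, Finset.disjoint_left]
          intro y hy hy'
          refine hab (Subtype.ext ?_)
          rw [← (hrep a).2, ← (hrep b).2, ← horb_per _ y hy, ← horb_per _ y hy']
      _ ≤ S.card := Finset.card_le_card fun y hy => by
          obtain ⟨c, -, hc⟩ := Finset.mem_biUnion.1 hy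
          exact horb_sub _ (hrep c).1 hc
  have hdvd : ∀ x ∈ S, ∀ n, tw q (Function.minimalPeriod σ x) ∣ n → x ^ n = 1 := by
    intro x hx n hn
    obtain ⟨k, rfl⟩ := hn
    rw [pow_mul, pow_tw_eq_one hq x (fun h => h0 (h ▸ hx)) Function.iterate_minimalPeriod, one_pow]
  rcases Nat.lt_or_ge 1 C.card with hC2 | hC2
  · refine ⟨C.lcm (tw q), 1, ?_, one_pow _, fun x hx => hdvd x hx _ (Finset.dvd_lcm
      (Finset.mem_image_of_mem _ hx)), (lcm_tw_le hq C.card C rfl hC2 hC1).trans ?_⟩
    · refine Nat.pos_of_ne_zero ?_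
      rw [Ne, Finset.lcm_eq_zero_iff]
      rintro ⟨c, hc, hc0⟩
      exact (tw_pos hq (hC1 c hc)).ne' hc0
    · rcases eq_or_lt_of_le hsum with h | h
      · rw [h]
      · refine bnd_mono hq ?_ h
        obtain ⟨x, hx, y, hy, hxy⟩ := Finset.one_lt_card.1 hC2
        have hle : x + y ≤ ∑ c ∈ C, c := by
          rw [← Finset.sum_pair (f := fun z : ℕ => z) hxy]
          exact Finset.sum_le_sum_of_subset (by
            intro z hz; simp only [Finset.mem_insert, Finset.mem_singleton] at hz
            rcases hz with rfl | rfl <;> assumption)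
        have := hC1 x hx; have := hC1 y hy
        omega
  obtain ⟨x0, hx0⟩ := Finset.card_pos.1 (by omega : 0 < S.card)
  set c := Function.minimalPeriod σ x0 with hc
  have hall : ∀ x ∈ S, Function.minimalPeriod σ x = c := fun x hx =>
    Finset.card_le_one.1 hC2 _ (Finset.mem_image_of_mem _ hx) _ (Finset.mem_image_of_mem _ hx0)
  have hc1 : 1 ≤ c := hper x0 hx0
  have hcs : c ≤ S.card := by rw [hc, ← horb_card]; exact Finset.card_le_card (horb_sub x0 hx0)
  by_cases hfull : c = S.card
  · obtain ⟨n, hn⟩ := dvd_tw (q := q) c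
    have hSorb : S = orb x0 := (Finset.eq_of_subset_of_card_le (horb_sub x0 hx0)
      (by rw [horb_card, ← hc, hfull])).symm
    have hz : (x0 ^ n) ^ (q + 1) = 1 := by
      rw [← pow_mul, mul_comm, ← hn]; exact hdvd x0 hx0 _ dvd_rfl
    have hfix : σ (x0 ^ n) = x0 ^ n := by
      show ((x0 ^ n) ^ q)⁻¹ = x0 ^ n
      exact inv_eq_of_mul_eq_one_right (by rw [← pow_succ]; exact hz)
    refine ⟨n, x0 ^ n, ?_, ?_, ?_, ?_⟩
    · refine Nat.pos_of_ne_zero fun h => ?_
      rw [h, mul_zero] at hn
      exact (tw_pos hq hc1).ne' hn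
    · have h2 : σ (σ (x0 ^ n)) = x0 ^ n := by rw [hfix, hfix]
      simpa [σ, twFrob, ← pow_mul, sq, mul_assoc] using h2
    · intro x hx
      rw [hSorb] at hx
      obtain ⟨j, -, rfl⟩ := Finset.mem_image.1 hx
      rw [← iterate_twFrob_pow]
      exact (show Function.IsFixedPt σ (x0 ^ n) from hfix).iterate j
    · rw [← hfull]
      refine le_trans ?_ (bnd_ge q c)
      have hc2 : 2 ≤ c := hfull ▸ hs
      refine Nat.le_of_mul_le_mul_left (?_ : (q + 1) * _ ≤ (q + 1) * _) (by omega)
      rw [← hn]
      rcases eq_or_lt_of_le hc2 with h | h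
      · rw [← h]
        simp only [tw, even_two, if_true, show 2 - 1 = 1 from rfl, pow_one]
        exact (Nat.sq_sub_sq q 1).le
      · refine (tw_le q c).trans ?_
        have h1 : q ^ c = q * q ^ (c - 1) := by rw [← pow_succ']; congr 1; omega
        have h2 : q ^ 2 ≤ q ^ (c - 1) := Nat.pow_le_pow_right (by omega) (by omega)
        have h3 : q + 2 ≤ q ^ 2 := by rw [sq]; nlinarith
        rw [h1, Nat.mul_sub, add_mul, one_mul, mul_one]
        omega
  · have h2c : 2 * c ≤ S.card := by
      obtain ⟨y, hy, hyn⟩ := Finset.exists_mem_notMem_of_card_lt_card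
        (show (orb x0).card < S.card by rw [horb_card]; omega)
      have hdisj : Disjoint (orb x0) (orb y) := by
        rw [Finset.disjoint_left]
        intro z hz hz'
        obtain ⟨i, hi, rfl⟩ := Finset.mem_image.1 hz
        obtain ⟨j, hj, hij⟩ := Finset.mem_image.1 hz'
        rw [Finset.mem_range] at hi hj
        apply hyn
        refine Finset.mem_image.2 ⟨(i + (c - j)) % c, Finset.mem_range.2 (Nat.mod_lt _ hc1), ?_⟩
        rw [hc, Function.iterate_mod_minimalPeriod_eq, ← hc, add_comm, Function.iterate_add_apply,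
          ← hij, ← Function.iterate_add_apply, ← hall y hy,
          Nat.sub_add_cancel (le_of_lt hj), Function.iterate_minimalPeriod]
      have := Finset.card_le_card (Finset.union_subset (horb_sub x0 hx0) (horb_sub y hy))
      rw [Finset.card_union_of_disjoint hdisj, horb_card, horb_card, hall y hy, ← hc] at this
      omega
    refine ⟨tw q c, 1, tw_pos hq hc1, one_pow _, fun x hx => hdvd x hx _ (by rw [hall x hx]), ?_⟩
    rcases eq_or_lt_of_le hc1 with h | h
    · rw [← h]
      simp only [tw, show ¬ Even 1 from by decide, if_false, pow_one]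
      rcases eq_or_lt_of_le hs with hs2 | hs3
      · rw [← hs2]; simp [bnd]
      · refine le_trans ?_ (bnd_ge q _)
        have h2 : q ^ 2 ≤ q ^ (S.card - 1) := Nat.pow_le_pow_right (by omega) (by omega)
        have h3 : q + 2 ≤ q ^ 2 := by rw [sq]; nlinarith
        omega
    · refine (tw_le q c).trans (le_trans ?_ (bnd_ge q _))
      have h1 : q * q ^ c ≤ q ^ (S.card - 1) := by
        rw [← pow_succ']; exact Nat.pow_le_pow_right (by omega) (by omega)
      have h2 : 2 * q ^ c ≤ q * q ^ c := Nat.mul_le_mul_right _ hq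
      have h3 : 4 ≤ q ^ c := le_trans (by norm_num) (Nat.pow_le_pow_left hq c |>.trans' (Nat.pow_le_pow_right (by omega) h))
      omega

end Cfsg.Agent.Lie.PGUOrder
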