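import Cfsg.Agent.Lib.Classical.UnitCenter

/-!
Unitary matrices over a finite field that are similar are unitarily similar: the norm from a quadratic étale
extension of a finite commutative ring is surjective on units.
-/

set_option autoImplicit false

namespace Cfsg.Agent.Lie.UnitaryConj

open Matrix Polynomial Cfsg.Agent.Classical

/-- The norm form on a finite field. -/
theorem exists_norm_field {K : Type*} [Field K] [Finite K] (s M : K) (hd : (1 : K) - 4 * s ≠ 0) :
    ∃ x y : K, x * x + x * y + s * (y * y) = M := by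
  letI := Fintype.ofFinite K
  by_cases h2 : (2 : K) = 0
  · haveI : CharP K 2 := (CharP.charP_iff_prime_eq_zero Nat.prime_two).2 (by exact_mod_cast h2)
    obtain ⟨x, hx⟩ := FiniteField.isSquare_of_char_two (ringChar.eq K 2 : ringChar K = 2) M
    exact ⟨x, 0, by rw [hx]; ring⟩
  · have hodd : Fintype.card K % 2 = 1 :=
      FiniteField.odd_card_of_char_ne_two fun h => h2 (by
        have h' : ((ringChar K : ℕ) : K) = 0 := CharP.cast_eq_zero K (ringChar K)
        rw [h] at h'
        exact_mod_cast h')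
    obtain ⟨a, b, hab⟩ := FiniteField.exists_root_sum_quadratic (f := (X ^ 2 : K[X]))
      (g := C (-(1 - 4 * s)) * X ^ 2 - C (4 * M)) (degree_X_pow 2) (by
        rw [degree_sub_eq_left_of_degree_lt] <;> rw [degree_C_mul_X_pow 2 (neg_ne_zero.2 hd)]
        · norm_num
        · exact lt_of_le_of_lt degree_C_le (by norm_num)) hodd
    simp only [eval_pow, eval_X, eval_sub, eval_mul, eval_C] at hab
    refine ⟨(a - b) / 2, b, ?_⟩
    field_simp
    linear_combination hab

/-- The norm form on a finite commutative ring. -/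
theorem exists_norm {C : Type*} [CommRing C] [Finite C] (s M : C) (hd : IsUnit (1 - 4 * s)) (hM : IsUnit M) :
    ∃ x y : C, x * x + x * y + s * (y * y) = M := by
  classical
  haveI : IsArtinianRing C := inferInstance
  set N := nilradical C
  haveI : Finite (C ⧸ N) := Finite.of_surjective (Ideal.Quotient.mk N) Ideal.Quotient.mk_surjective
  haveI : IsReduced (C ⧸ N) := (Ideal.isRadical_iff_quotient_reduced N).1 (Ideal.radical_isRadical ⊥)
  -- the reduced case, componentwise
  have hred : ∃ x y : C ⧸ N, x * x + x * y + Ideal.Quotient.mk N s * (y * y) = Ideal.Quotient.mk N M := by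
    let e := (IsArtinianRing.equivPi (C ⧸ N)).toRingEquiv
    have hI : ∀ I : MaximalSpectrum (C ⧸ N), ∃ x y : (C ⧸ N) ⧸ I.asIdeal,
        x * x + x * y + e (Ideal.Quotient.mk N s) I * (y * y) = e (Ideal.Quotient.mk N M) I := by
      intro I
      haveI := I.isMaximal
      haveI : Finite ((C ⧸ N) ⧸ I.asIdeal) :=
        Finite.of_surjective (Ideal.Quotient.mk I.asIdeal) Ideal.Quotient.mk_surjective
      letI := Ideal.Quotient.field I.asIdeal
      refine exists_norm_field _ _ (fun h => ?_)
      have hu := (hd.map (Ideal.Quotient.mk N)).map e.toRingHom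
      have hu' := hu.map (Pi.evalRingHom _ I)
      apply hu'.ne_zero
      rw [← h]
      simp [map_sub, map_mul, map_ofNat]
    choose x y hxy using hI
    refine ⟨e.symm x, e.symm y, e.injective (funext fun I => ?_)⟩
    simpa using hxy I
  obtain ⟨x₀, y₀, hxy⟩ := hred
  obtain ⟨x, rfl⟩ := Ideal.Quotient.mk_surjective x₀
  obtain ⟨y, rfl⟩ := Ideal.Quotient.mk_surjective y₀
  have hmem : x * x + x * y + s * (y * y) - M ∈ N := by
    rw [← Ideal.Quotient.eq]
    simpa using hxy
  set v := x * x + x * y + s * (y * y) with hv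
  have hvu : IsUnit v := by
    have h := IsNilpotent.isUnit_add_left_of_commute (mem_nilradical.1 hmem) hM (Commute.all _ _)
    simpa using h
  obtain ⟨vi, hvi⟩ := isUnit_iff_exists_inv.1 hvu
  -- the nilpotent correction
  have hmaps : ∀ w : N, (w : C) + s * ((w : C) * w) ∈ N := fun w =>
    N.add_mem w.2 (N.mul_mem_left _ (N.mul_mem_left _ w.2))
  have hsurj : Function.Surjective fun w : N => (⟨_, hmaps w⟩ : N) := by
    refine (Finite.injective_iff_surjective).1 fun w z h => ?_
    have h' : (w : C) + s * ((w : C) * w) = z + s * ((z : C) * z) := congrArg Subtype.val h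
    have hu : IsUnit (1 + s * ((w : C) + z)) :=
      IsNilpotent.isUnit_one_add (mem_nilradical.1 (N.mul_mem_left _ (N.add_mem w.2 z.2)))
    refine Subtype.ext (hu.mul_left_cancel ?_)
    linear_combination h'
  obtain ⟨w, hw⟩ := hsurj ⟨(M - v) * vi, N.mul_mem_right _ (by
    rw [← neg_sub]; exact N.neg_mem hmem)⟩
  have hw' : (w : C) + s * ((w : C) * w) = (M - v) * vi := congrArg Subtype.val hw
  refine ⟨x - s * (y * w), x * w + y + y * w, ?_⟩
  have h1 : v * (1 + ((w : C) + s * ((w : C) * w))) = M := by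
    rw [hw']; linear_combination (M - v) * hvi
  rw [← h1, hv]
  ring

variable {F : Type*} [Field F] [Fintype F] {q n : ℕ}

/-- The adjoint for the standard Hermitian form. -/
def hstar (hF : Fintype.card F = q ^ 2) (A : Matrix (Fin n) (Fin n) F) : Matrix (Fin n) (Fin n) F :=
  (A.map (qFrob hF))ᵀ

variable (hF : Fintype.card F = q ^ 2)

theorem hstar_mul (A B : Matrix (Fin n) (Fin n) F) : hstar hF (A * B) = hstar hF B * hstar hF A := by
  rw [hstar, Matrix.map_mul, Matrix.transpose_mul]; rfl

theorem hstar_add (A B : Matrix (Fin n) (Fin n) F) : hstar hF (A + B) = hstar hF A + hstar hF B := by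
  rw [hstar, Matrix.map_add _ (map_add _), Matrix.transpose_add]; rfl

theorem hstar_neg (A : Matrix (Fin n) (Fin n) F) : hstar hF (-A) = -hstar hF A := by
  ext i j; simp [hstar]

theorem hstar_smul (c : F) (A : Matrix (Fin n) (Fin n) F) : hstar hF (c • A) = qFrob hF c • hstar hF A := by
  ext i j; simp [hstar]

theorem hstar_one : hstar hF (1 : Matrix (Fin n) (Fin n) F) = 1 := by
  rw [hstar, Matrix.map_one _ (map_zero _) (map_one _), Matrix.transpose_one]

theorem hstar_hstar (A : Matrix (Fin n) (Fin n) F) : hstar hF (hstar hF A) = A := by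
  ext i j; simp [hstar, qFrob_qFrob]

theorem hstar_mul_self_iff (A : Matrix (Fin n) (Fin n) F) : hstar hF A * A = 1 ↔ Aᵀ * A.map (qFrob hF) = 1 := by
  constructor <;> intro h <;> simpa [hstar] using congrArg Matrix.transpose h

theorem det_hstar (A : Matrix (Fin n) (Fin n) F) : (hstar hF A).det = A.det ^ q := by
  rw [hstar, Matrix.det_transpose, ← RingHom.mapMatrix_apply, ← RingHom.map_det, qFrob_apply]

theorem exists_trace_one : ∃ a : F, a + qFrob hF a = 1 ∧ qFrob hF a ≠ a := by
  obtain ⟨b, hb⟩ : ∃ b : F, b + qFrob hF b ≠ 0 := by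
    by_contra h
    push Not at h
    apply qFrob_ne_id hF
    have h2 : (2 : F) = 0 := by have := h 1; rw [map_one] at this; linear_combination this
    refine RingHom.ext fun x => ?_
    rw [RingHom.id_apply]
    linear_combination h x - x * h2
  obtain ⟨d, hd⟩ : ∃ d : F, qFrob hF d ≠ d := by
    by_contra h
    push Not at h
    exact qFrob_ne_id hF (RingHom.ext h)
  set a := b * (b + qFrob hF b)⁻¹
  have ha : a + qFrob hF a = 1 := by
    rw [map_mul, map_inv₀, map_add, qFrob_qFrob hF, add_comm (qFrob hF b) b, ← add_mul, mul_inv_cancel₀ hb]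
  by_cases hfa : qFrob hF a = a
  · refine ⟨a + (d - qFrob hF d), ?_, fun h => ?_⟩
    · rw [map_add, map_sub, qFrob_qFrob hF]; linear_combination ha
    · rw [map_add, map_sub, qFrob_qFrob hF, hfa] at h
      have h2 : (2 : F) * (qFrob hF d - d) = 0 := by linear_combination h
      rcases mul_eq_zero.1 h2 with h2 | h2
      · rw [hfa] at ha
        exact zero_ne_one (show (0 : F) = 1 by linear_combination ha - a * h2)
      · exact hd (sub_eq_zero.1 h2)
  · exact ⟨a, ha, hfa⟩

/-- An invertible Hermitian matrix is `u* u` for some `u` commuting with everything that commutes with it. -/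
theorem exists_hermitian_root {M : Matrix (Fin n) (Fin n) F} (hM : hstar hF M = M) (hu : IsUnit M) :
    ∃ u : Matrix (Fin n) (Fin n) F, hstar hF u * u = M ∧ ∀ g, Commute g M → Commute g u := by
  classical
  obtain ⟨a, ha, hfa⟩ := exists_trace_one hF
  set S : Set (Matrix (Fin n) (Fin n) F) := insert M {A | ∃ c : F, qFrob hF c = c ∧ A = c • 1}
  have hScomm : ∀ x ∈ S, ∀ y ∈ S, x * y = y * x := by
    rintro x (rfl | ⟨c, -, rfl⟩) y (rfl | ⟨d, -, rfl⟩)
    all_goals first | rfl | simp [smul_smul, mul_comm]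
  set C := Subring.closure S
  have hC1 : C ≤ Subring.centralizer S := Subring.closure_le.2 fun x hx =>
    Subring.mem_centralizer_iff.2 fun y hy => hScomm y hy x hx
  have hC2 : C ≤ Subring.centralizer (C : Set (Matrix (Fin n) (Fin n) F)) := Subring.closure_le.2 fun x hx =>
    Subring.mem_centralizer_iff.2 fun y hy => (Subring.mem_centralizer_iff.1 (hC1 hy) x hx).symm
  have hCc : ∀ x ∈ C, ∀ y ∈ C, x * y = y * x := fun x hx y hy => Subring.mem_centralizer_iff.1 (hC2 hy) x hx
  letI : CommRing C :=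
    { (C.toRing : Ring C) with mul_comm := fun x y => Subtype.ext (hCc _ x.2 _ y.2) }
  have hmemM : M ∈ C := Subring.subset_closure (Set.mem_insert _ _)
  have hmemc : ∀ c : F, qFrob hF c = c → c • (1 : Matrix (Fin n) (Fin n) F) ∈ C := fun c hc =>
    Subring.subset_closure (Set.mem_insert_of_mem _ ⟨c, hc, rfl⟩)
  have hfix : ∀ A ∈ C, hstar hF A = A ∧ ∀ g, Commute g M → Commute g A := by
    intro A hA
    induction hA using Subring.closure_induction with
    | mem x hx =>
      rcases hx with rfl | ⟨c, hc, rfl⟩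
      · exact ⟨hM, fun g hg => hg⟩
      · exact ⟨by rw [hstar_smul, hstar_one, hc], fun g _ => (Commute.one_right g).smul_right c⟩
    | zero => exact ⟨by ext i j; simp [hstar], fun g _ => Commute.zero_right g⟩
    | one => exact ⟨hstar_one hF, fun g _ => Commute.one_right g⟩
    | add x y _ _ hx hy => exact ⟨by rw [hstar_add, hx.1, hy.1], fun g hg => (hx.2 g hg).add_right (hy.2 g hg)⟩
    | neg x _ hx => exact ⟨by rw [hstar_neg, hx.1], fun g hg => (hx.2 g hg).neg_right⟩
    | mul x y hx' hy' hx hy =>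
      refine ⟨?_, fun g hg => (hx.2 g hg).mul_right (hy.2 g hg)⟩
      rw [hstar_mul, hx.1, hy.1]
      exact hCc y hy' x hx'
  haveI : Finite C := Finite.of_injective (Subtype.val : C → Matrix (Fin n) (Fin n) F) Subtype.val_injective
  have hMu : IsUnit (⟨M, hmemM⟩ : C) := by
    rw [IsUnit.isUnit_iff_mulLeft_bijective]
    refine Finite.injective_iff_bijective.1 fun x y h => Subtype.ext (hu.mul_left_cancel ?_)
    exact congrArg Subtype.val h
  have haa : qFrob hF (a * qFrob hF a) = a * qFrob hF a := by rw [map_mul, qFrob_qFrob hF, mul_comm]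
  have hd : IsUnit (1 - 4 * (⟨_, hmemc _ haa⟩ : C)) := by
    have hne : (1 : F) - 4 * (a * qFrob hF a) ≠ 0 := by
      intro h
      apply hfa
      have hsq : (qFrob hF a - a) ^ 2 = 0 := by linear_combination h + (a + qFrob hF a + 1) * ha
      exact sub_eq_zero.1 ((sq_eq_zero_iff).1 hsq)
    have hfix4 : qFrob hF ((1 : F) - 4 * (a * qFrob hF a))⁻¹ = ((1 : F) - 4 * (a * qFrob hF a))⁻¹ := by
      rw [map_inv₀, map_sub, map_one, map_mul (qFrob hF) 4, map_ofNat, haa]
    refine IsUnit.of_mul_eq_one (⟨_, hmemc _ hfix4⟩ : C) (Subtype.ext ?_)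
    have hval : ((1 - 4 * (⟨_, hmemc _ haa⟩ : C) : C) : Matrix (Fin n) (Fin n) F) =
        ((1 : F) - 4 * (a * qFrob hF a)) • 1 := by
      show C.subtype (1 - 4 * _) = _
      rw [map_sub, map_mul, map_one, map_ofNat, Subring.coe_subtype]
      show 1 - 4 * ((a * qFrob hF a) • (1 : Matrix (Fin n) (Fin n) F)) = _
      rw [sub_smul, one_smul]
      simp [Algebra.smul_def, map_mul, mul_assoc, map_ofNat (algebraMap F (Matrix (Fin n) (Fin n) F)) 4]
    rw [Subring.coe_mul, hval, smul_mul_smul_comm, one_mul, mul_inv_cancel₀ hne, one_smul]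
    rfl
  obtain ⟨⟨x, hx⟩, ⟨y, hy⟩, hxy⟩ := exists_norm (⟨_, hmemc _ haa⟩ : C) ⟨M, hmemM⟩ hd hMu
  have hxy' : x * x + x * y + ((a * qFrob hF a) • (1 : Matrix (Fin n) (Fin n) F)) * (y * y) = M :=
    congrArg Subtype.val hxy
  have hcomm : x * y = y * x := hCc x hx y hy
  refine ⟨x + a • y, ?_, fun g hg => ((hfix x hx).2 g hg).add_right (((hfix y hy).2 g hg).smul_right a)⟩
  rw [hstar_add, hstar_smul, (hfix x hx).1, (hfix y hy).1, ← hxy', smul_one_mul]
  rw [add_mul, mul_add, mul_add, mul_smul_comm, smul_mul_assoc, smul_mul_assoc, mul_smul_comm, smul_smul,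
    ← hcomm, mul_comm (qFrob hF a) a, ← add_assoc, add_assoc (x * x), ← add_smul, ha, one_smul]

/-- Similar unitary matrices are unitarily similar. -/
theorem exists_unitary_conj {g h X : Matrix (Fin n) (Fin n) F} (hg : hstar hF g * g = 1) (hh : hstar hF h * h = 1)
    (hX : IsUnit X) (hconj : h * X = X * g) :
    ∃ Y : Matrix (Fin n) (Fin n) F, hstar hF Y * Y = 1 ∧ h * Y = Y * g := by
  set M := hstar hF X * X with hMdef
  have hMs : hstar hF M = M := by rw [hMdef, hstar_mul, hstar_hstar]
  have hXs : IsUnit (hstar hF X) := by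
    rw [Matrix.isUnit_iff_isUnit_det, det_hstar]
    exact ((Matrix.isUnit_iff_isUnit_det X).1 hX).pow q
  have hMu : IsUnit M := hXs.mul hX
  have hg' : g * hstar hF g = 1 := mul_eq_one_comm.1 hg
  have hMg : Commute g M := by
    have h1 : hstar hF g * M * g = M := by
      calc hstar hF g * M * g = hstar hF (X * g) * (X * g) := by rw [hMdef, hstar_mul]; noncomm_ring
        _ = hstar hF (h * X) * (h * X) := by rw [hconj]
        _ = hstar hF X * (hstar hF h * h) * X := by rw [hstar_mul]; noncomm_ring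
        _ = M := by rw [hh, mul_one, hMdef]
    show g * M = M * g
    conv_lhs => rw [← h1]
    rw [← mul_assoc, ← mul_assoc, hg', one_mul]
  obtain ⟨u, hu, hcomm⟩ := exists_hermitian_root hF hMs hMu
  have hud : IsUnit u.det := by
    have h1 := (Matrix.isUnit_iff_isUnit_det M).1 hMu
    rw [← hu, Matrix.det_mul] at h1
    exact isUnit_of_mul_isUnit_right h1
  have hui : hstar hF u⁻¹ * hstar hF u = 1 := by
    rw [← hstar_mul, Matrix.mul_nonsing_inv u hud, hstar_one]
  refine ⟨X * u⁻¹, ?_, ?_⟩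
  · rw [hstar_mul]
    calc hstar hF u⁻¹ * hstar hF X * (X * u⁻¹) = hstar hF u⁻¹ * (hstar hF X * X) * u⁻¹ := by noncomm_ring
      _ = (hstar hF u⁻¹ * hstar hF u) * (u * u⁻¹) := by rw [← hMdef, ← hu]; noncomm_ring
      _ = 1 := by rw [hui, Matrix.mul_nonsing_inv u hud, one_mul]
  · have hgu : g * u = u * g := hcomm g hMg
    have hgui : g * u⁻¹ = u⁻¹ * g := by
      calc g * u⁻¹ = (u⁻¹ * u) * (g * u⁻¹) := by rw [Matrix.nonsing_inv_mul u hud, one_mul]
        _ = u⁻¹ * (g * u) * u⁻¹ := by rw [hgu]; noncomm_ring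
        _ = u⁻¹ * g := by rw [mul_assoc _ (g * u), mul_assoc g, Matrix.mul_nonsing_inv u hud, mul_one]
    rw [← mul_assoc, hconj, mul_assoc, hgui, ← mul_assoc]

theorem hstar_suVal (s : SU n F q) : hstar hF (suVal s) * suVal s = 1 :=
  (hstar_mul_self_iff hF _).2 (suVal_transpose_mul hF s)

/-- Similar elements of `SU_n` are conjugate there as soon as their unitary centraliser has every possible
determinant. -/
theorem isConj_SU {a b : SU n F q} {X : Matrix (Fin n) (Fin n) F} (hX : IsUnit X)
    (hconj : suVal b * X = X * suVal a)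
    (hdet : ∀ c : F, c ^ (q + 1) = 1 →
      ∃ z : Matrix (Fin n) (Fin n) F, hstar hF z * z = 1 ∧ Commute z (suVal a) ∧ z.det = c) : IsConj a b := by
  obtain ⟨Y, hY, hYc⟩ := exists_unitary_conj hF (hstar_suVal hF a) (hstar_suVal hF b) hX hconj
  have hd : Y.det ^ (q + 1) = 1 := by
    have h := congrArg Matrix.det hY
    rw [Matrix.det_mul, det_hstar, Matrix.det_one] at h
    rw [pow_succ, h]
  obtain ⟨z, hz, hzc, hzd⟩ := hdet Y.det⁻¹ (by rw [inv_pow, hd, inv_one])
  have hne : Y.det ≠ 0 := fun h => by rw [h, zero_pow (by omega)] at hd; exact zero_ne_one hd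
  have hYz : hstar hF (Y * z) * (Y * z) = 1 := by
    rw [hstar_mul, mul_assoc, ← mul_assoc (hstar hF Y), hY, one_mul, hz]
  let c : SU n F q := suMk hF (Y * z) (by rw [Matrix.det_mul, hzd, mul_inv_cancel₀ hne])
    ((hstar_mul_self_iff hF _).1 hYz)
  refine isConj_iff.2 ⟨c, ?_⟩
  rw [mul_inv_eq_iff_eq_mul]
  refine suVal_ext ?_
  rw [suVal_mul, suVal_mul, suVal_suMk, mul_assoc, hzc.eq, ← mul_assoc, ← hYc, mul_assoc]

theorem exists_isotropy_defect {N : Matrix (Fin n) (Fin n) F} (hN : N ≠ 0) :
    ∃ u : Fin n → F, (fun i => qFrob hF (u i)) ⬝ᵥ (N *ᵥ u) ≠ 0 := by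
  classical
  by_contra hcon
  push Not at hcon
  apply hN
  have hval : ∀ i j, ∀ c : F, (fun k => qFrob hF ((Pi.single i 1 + c • Pi.single j 1 : Fin n → F) k)) =
      Pi.single i 1 + qFrob hF c • Pi.single j 1 := fun i j c => funext fun k => by
    simp [Pi.single_apply, apply_ite (qFrob hF)]
  have hdiag : ∀ i, N i i = 0 := fun i => by
    have h := hcon (Pi.single i 1 + (0 : F) • Pi.single i 1)
    rw [hval i i 0] at h
    simpa using h
  ext i j
  have key : ∀ c : F, c * N i j + qFrob hF c * N j i = 0 := fun c => by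
    have h := hcon (Pi.single i 1 + c • Pi.single j 1)
    rw [hval i j c] at h
    simp [Matrix.mulVec_add, Matrix.mulVec_smul, add_dotProduct, dotProduct_add, hdiag, smul_dotProduct,
      dotProduct_smul] at h
    linear_combination h
  obtain ⟨d, hd⟩ : ∃ d : F, qFrob hF d ≠ d := by
    by_contra h
    push Not at h
    exact qFrob_ne_id hF (RingHom.ext h)
  have h1 := key 1
  rw [map_one, one_mul, one_mul] at h1
  have h2 : (d - qFrob hF d) * N i j = 0 := by linear_combination key d - qFrob hF d * h1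
  exact (mul_eq_zero.1 h2).resolve_left (sub_ne_zero.2 hd.symm)

/-- The unitary centraliser of a Hermitian square-zero matrix has all square determinants. -/
theorem exists_commute_det_sq {N : Matrix (Fin n) (Fin n) F} (hNs : hstar hF N = N) (hN2 : N * N = 0) (hN : N ≠ 0)
    {c : F} (hc : c ^ (q + 1) = 1) :
    ∃ z : Matrix (Fin n) (Fin n) F, hstar hF z * z = 1 ∧ Commute z N ∧ z.det = c ^ 2 := by
  classical
  obtain ⟨u, hu⟩ := exists_isotropy_defect hF hN
  let U : Matrix (Fin n) (Fin 2) F := Matrix.of fun i => ![u i, (N *ᵥ u) i]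
  let Us : Matrix (Fin 2) (Fin n) F := (U.map (qFrob hF))ᵀ
  let J : Matrix (Fin 2) (Fin 2) F := !![0, 0; 1, 0]
  have hstar_vec : ∀ w v : Fin n → F, qFrob hF ((fun i => qFrob hF (w i)) ⬝ᵥ (N *ᵥ v)) =
      (fun i => qFrob hF (v i)) ⬝ᵥ (N *ᵥ w) := fun w v => by
    simp only [dotProduct, Matrix.mulVec, map_sum, map_mul, qFrob_qFrob hF, Finset.mul_sum]
    rw [Finset.sum_comm]
    refine Finset.sum_congr rfl fun i _ => Finset.sum_congr rfl fun j _ => ?_
    rw [show qFrob hF (N j i) = N i j from congrFun (congrFun hNs i) j]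
    ring
  have hNU : N * U = U * J := by
    ext i j
    have h2 : N *ᵥ (N *ᵥ u) = 0 := by rw [Matrix.mulVec_mulVec, hN2, Matrix.zero_mulVec]
    fin_cases j
    · simp [U, J, Matrix.mul_apply, Fin.sum_univ_two, Matrix.mulVec, dotProduct]
    · have := congrFun h2 i
      simpa [U, J, Matrix.mul_apply, Fin.sum_univ_two, Matrix.mulVec, dotProduct] using this
  set G := Us * U with hG
  have hUsN : Us * N = (J.map (qFrob hF))ᵀ * Us := by
    have h := congrArg (fun A : Matrix (Fin n) (Fin 2) F => (A.map (qFrob hF))ᵀ) hNU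
    simp only [Matrix.map_mul, Matrix.transpose_mul] at h
    rwa [show (N.map (qFrob hF))ᵀ = N from hNs] at h
  have hGJ : G * J = (J.map (qFrob hF))ᵀ * G := by
    rw [hG, Matrix.mul_assoc, ← hNU, ← Matrix.mul_assoc, hUsN, Matrix.mul_assoc]
  have hdetG : IsUnit G.det := by
    have h11 : G 1 1 = 0 := by
      have h := congrFun (congrFun hGJ 0) 1
      have h01 : G 0 1 = (fun i => qFrob hF (u i)) ⬝ᵥ (N *ᵥ u) := by
        simp [hG, Us, U, Matrix.mul_apply, dotProduct]
      simp [J, Matrix.mul_apply, Fin.sum_univ_two] at h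
      exact h.symm
    have h01 : G 0 1 = (fun i => qFrob hF (u i)) ⬝ᵥ (N *ᵥ u) := by simp [hG, Us, U, Matrix.mul_apply, dotProduct]
    have h10 : G 1 0 = qFrob hF ((fun i => qFrob hF (u i)) ⬝ᵥ (N *ᵥ u)) := by
      simp [hG, Us, U, Matrix.mul_apply, dotProduct, map_sum, qFrob_qFrob, mul_comm]
    rw [Matrix.det_fin_two, h11, h01, h10, mul_zero, zero_sub, isUnit_iff_ne_zero, neg_ne_zero]
    exact mul_ne_zero hu ((map_ne_zero (qFrob hF)).2 hu)
  have hGs : (G.map (qFrob hF))ᵀ = G := by
    rw [hG, Matrix.map_mul, Matrix.transpose_mul]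
    congr 1
    ext i j
    simp [Us, qFrob_qFrob]
  set Gi := G⁻¹ with hGi
  have hGiG : Gi * G = 1 := Matrix.nonsing_inv_mul G hdetG
  have hGGi : G * Gi = 1 := Matrix.mul_nonsing_inv G hdetG
  have hGis : (Gi.map (qFrob hF))ᵀ = Gi := by
    have h := congrArg (fun A : Matrix (Fin 2) (Fin 2) F => (A.map (qFrob hF))ᵀ) hGGi
    simp only [Matrix.map_mul, Matrix.transpose_mul, hGs, Matrix.map_one _ (map_zero _) (map_one _),
      Matrix.transpose_one] at h
    calc (Gi.map (qFrob hF))ᵀ = (Gi.map (qFrob hF))ᵀ * (G * Gi) := by rw [hGGi, Matrix.mul_one]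
      _ = Gi := by rw [← Matrix.mul_assoc, h, Matrix.one_mul]
  set P := U * (Gi * Us) with hP
  have hPP : P * P = P := by
    rw [hP, Matrix.mul_assoc, ← Matrix.mul_assoc (Gi * Us) U, Matrix.mul_assoc Gi Us U, ← hG, hGiG, Matrix.one_mul]
  have hPs : hstar hF P = P := by
    rw [hP, hstar, Matrix.map_mul, Matrix.map_mul, Matrix.transpose_mul, Matrix.transpose_mul, hGis]
    rw [show ((Us.map (qFrob hF))ᵀ) = U by ext i j; simp [Us, qFrob_qFrob], Matrix.mul_assoc]
  have hPN : Commute P N := by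
    have h1 : J * Gi = Gi * (J.map (qFrob hF))ᵀ := by
      calc J * Gi = Gi * (G * J) * Gi := by rw [← Matrix.mul_assoc Gi G, hGiG, Matrix.one_mul]
        _ = _ := by rw [hGJ, ← Matrix.mul_assoc Gi, Matrix.mul_assoc _ G, hGGi, Matrix.mul_one]
    show P * N = N * P
    rw [hP, Matrix.mul_assoc, Matrix.mul_assoc Gi, hUsN, ← Matrix.mul_assoc Gi, ← h1, Matrix.mul_assoc J,
      ← Matrix.mul_assoc U J, ← hNU, Matrix.mul_assoc]
  have hcq : qFrob hF c * c = 1 := by rw [qFrob_apply, ← pow_succ, hc]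
  refine ⟨1 + (c - 1) • P, ?_, (Commute.one_left N).add_left (hPN.smul_left _), ?_⟩
  · rw [hstar_add, hstar_one, hstar_smul, hPs, map_sub, map_one, add_mul, mul_add, mul_add, one_mul, mul_one,
      one_mul, smul_mul_smul_comm, hPP, add_assoc, ← add_smul, ← add_smul]
    rw [show (c - 1 + (qFrob hF c - 1 + (qFrob hF c - 1) * (c - 1))) = 0 by linear_combination hcq, zero_smul,
      add_zero]
  · rw [hP, ← Matrix.smul_mul, Matrix.det_one_add_mul_comm, Matrix.mul_smul, Matrix.mul_assoc, ← hG, hGiG]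
    simp [Matrix.det_fin_two]
    ring

end Cfsg.Agent.Lie.UnitaryConj
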