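import Cfsg.Prelude.Def_LieClassical
import Cfsg.Agent.Lib.Lie.PGUOrderArith
import Cfsg.Agent.Lib.Lie.OrderBoundForm
import Cfsg.Agent.Lib.Lie.UnitaryConj
import Cfsg.Agent.Lib.Classical.UnitDiagonalOut

/-!
Upper bounds for element orders in `PGU_d(q)`.
-/

set_option autoImplicit false

namespace Cfsg.Agent.Lie.PGUOrder

open Polynomial Matrix Cfsg.Agent.Classical Cfsg.Agent.Lie.OrderBoundForm Cfsg.Agent.Lie.UnitaryConj

variable {F : Type*} [Field F] [Fintype F] {q d : ℕ}

theorem exists_prime (hF : Fintype.card F = q ^ 2) : ∃ p f : ℕ, p.Prime ∧ CharP F p ∧ 1 ≤ f ∧ q = p ^ f := by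
  obtain ⟨p, hp⟩ := CharP.exists F
  haveI := hp
  have hp' : p.Prime := CharP.char_is_prime F p
  obtain ⟨k, -, hk⟩ := FiniteField.card F p
  rw [hF] at hk
  obtain ⟨f, -, hqf⟩ := (Nat.dvd_prime_pow hp').1 ((dvd_pow_self q two_ne_zero).trans hk.dvd)
  refine ⟨p, f, hp', hp, ?_, hqf⟩
  by_contra h
  have h1 : 1 < Fintype.card F := Fintype.one_lt_card
  rw [hF, hqf, show f = 0 by omega] at h1
  simp at h1

/-- An invariant description of the order of an element. -/
theorem exists_invariants (hF : Fintype.card F = q ^ 2) {p f : ℕ} (hp : p.Prime) [CharP F p]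
    (hf : 1 ≤ f) (hqf : q = p ^ f) (hd : 1 ≤ d)
    (g : ↥(Cfsg.GU d F q) ⧸ Subgroup.center ↥(Cfsg.GU d F q)) :
    ∃ n t s k : ℕ, orderOf g ≤ p ^ t * n ∧ ((s = 1 ∧ n = 1) ∨ (2 ≤ s ∧ n ≤ bnd q s)) ∧
      (t ≠ 0 → p ^ (t - 1) < k) ∧ 1 ≤ k ∧ s + k ≤ d + 1 ∧ (k = 1 → s = d) := by
  classical
  have := Fact.mk hp
  have hq2 : 2 ≤ q := hqf ▸ hp.two_le.trans (Nat.le_self_pow (by omega) p)
  obtain ⟨g, rfl⟩ := QuotientGroup.mk_surjective g
  set A := UnitDiagonalOut.guVal g
  have hA : hstar hF A * A = 1 := (hstar_mul_self_iff hF _).2 (UnitDiagonalOut.guVal_transpose_mul hF g)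
  set L := AlgebraicClosure F
  haveI : CharP L p := charP_of_injective_algebraMap (algebraMap F L).injective p
  let Q : L →+* L := iterateFrobenius L p f
  have hQ : ∀ y, Q y = y ^ q := fun y => by rw [hqf]; exact iterateFrobenius_def p f y
  set R := eigRoots L A
  have hAL : (hstar hF A).map (algebraMap F L) * A.map (algebraMap F L) = 1 := by
    rw [← Matrix.map_mul, hA, Matrix.map_one _ (map_zero _) (map_one _)]
  have h0 : (0 : L) ∉ R := by
    intro h
    have hdet : (A.map (algebraMap F L)).det ≠ 0 := by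
      intro hd'
      have := congrArg Matrix.det hAL
      rw [Matrix.det_mul, hd', mul_zero, Matrix.det_one] at this
      exact zero_ne_one this
    apply hdet
    rw [Matrix.det_eq_prod_roots_charpoly]
    exact Multiset.prod_eq_zero h
  have hmap : (algebraMap F L).comp (qFrob hF) = Q.comp (algebraMap F L) := RingHom.ext fun c => by
    simp [hQ, qFrob_apply]
  have hR : R.map (twFrob q) = R := by
    have h1 := roots_charpoly_inv hAL
    have h2 : ((hstar hF A).map (algebraMap F L)).charpoly = (A.map (algebraMap F L)).charpoly.map Q := by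
      rw [hstar, Matrix.charpoly_map, Matrix.charpoly_transpose, Matrix.charpoly_map, Matrix.charpoly_map,
        Polynomial.map_map, Polynomial.map_map, hmap]
    rw [h2, (IsAlgClosed.splits _).roots_map Q] at h1
    have h3 := congrArg (Multiset.map fun x : L => x⁻¹) h1
    rw [Multiset.map_map, Multiset.map_map] at h3
    refine Eq.trans ?_ (h3.trans ?_)
    · exact Multiset.map_congr rfl fun x _ => by simp [twFrob, hQ]
    · exact (Multiset.map_congr rfl fun x _ => _root_.inv_inv x).trans (Multiset.map_id _)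
  have hinj : Function.Injective (twFrob (L := L) q) := by
    intro x y h
    simp only [twFrob, ← hQ] at h
    exact Q.injective (inv_injective h)
  set S := R.toFinset with hSdef
  have hcard : Multiset.card R = d := by rw [card_eigRoots, Fintype.card_fin]
  have hSne : S.Nonempty := by
    obtain ⟨x, hx⟩ := Multiset.exists_mem_of_ne_zero (s := R) (fun h => by
      rw [h] at hcard; simp at hcard; omega)
    exact ⟨x, Multiset.mem_toFinset.2 hx⟩
  obtain ⟨x0, hx0, hmax⟩ := Finset.exists_max_image S (fun x => R.count x) hSne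
  set k := R.count x0
  have hk1 : 1 ≤ k := Multiset.one_le_count_iff_mem.2 (Multiset.mem_toFinset.1 hx0)
  have hsk : S.card + k ≤ d + 1 := by
    rw [← hcard, ← Multiset.toFinset_sum_count_eq R, ← hSdef, ← Finset.sum_erase_add S _ hx0]
    have : (S.erase x0).card ≤ ∑ x ∈ S.erase x0, R.count x := by
      rw [Finset.card_eq_sum_ones]
      exact Finset.sum_le_sum fun x hx =>
        Multiset.one_le_count_iff_mem.2 (Multiset.mem_toFinset.1 (Finset.mem_of_mem_erase hx))
    rw [Finset.card_erase_of_mem hx0] at this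
    have := Finset.card_pos.2 hSne
    omega
  have hk1' : k = 1 → S.card = d := by
    intro h
    rw [← hcard, ← Multiset.toFinset_sum_count_eq R, ← hSdef, Finset.card_eq_sum_ones]
    refine Finset.sum_congr rfl fun x hx => ?_
    have h1 : R.count x ≤ k := hmax x hx
    have h2 : 1 ≤ R.count x := Multiset.one_le_count_iff_mem.2 (Multiset.mem_toFinset.1 hx)
    omega
  obtain ⟨t, hkt, ht⟩ : ∃ t, k ≤ p ^ t ∧ (t ≠ 0 → p ^ (t - 1) < k) := by
    refine ⟨Nat.clog p k, Nat.le_pow_clog hp.one_lt k, fun ht => ?_⟩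
    rcases Nat.lt_or_ge 1 k with h1 | h1
    · exact Nat.pow_pred_clog_lt_self hp.one_lt h1
    · exact absurd (Nat.clog_of_right_le_one h1 p) ht
  have hmult : ∀ x ∈ R, R.count x ≤ p ^ t := fun x hx => (hmax x (Multiset.mem_toFinset.2 hx)).trans hkt
  have hStab : ∀ x ∈ S, twFrob q x ∈ S := fun x hx => by
    rw [hSdef, Multiset.mem_toFinset] at hx ⊢
    rw [← hR]; exact Multiset.mem_map_of_mem _ hx
  have h0S : (0 : L) ∉ S := fun h => h0 (Multiset.mem_toFinset.1 h)
  obtain ⟨n, z, hn, hz, hroot, hbound⟩ : ∃ (n : ℕ) (z : L), 0 < n ∧ z ^ q ^ 2 = z ∧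
      (∀ x ∈ S, x ^ n = z) ∧ ((S.card = 1 ∧ n = 1) ∨ (2 ≤ S.card ∧ n ≤ bnd q S.card)) := by
    rcases Nat.lt_or_ge 1 S.card with hs | hs
    · obtain ⟨n, z, h1, h2, h3, h4⟩ := exists_exponent hq2 hinj S hStab h0S hs
      exact ⟨n, z, h1, h2, h3, Or.inr ⟨hs, h4⟩⟩
    · have h1 : S.card = 1 := le_antisymm hs (Finset.card_pos.2 hSne)
      have hall : ∀ x ∈ S, x = x0 := fun x hx => Finset.card_le_one.1 hs x hx x0 hx0
      have hfix : twFrob q x0 = x0 := hall _ (hStab x0 hx0)
      refine ⟨1, x0, Nat.one_pos, ?_, fun x hx => by rw [pow_one, hall x hx], Or.inl ⟨h1, rfl⟩⟩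
      have h2 : twFrob q (twFrob q x0) = x0 := by rw [hfix, hfix]
      simp only [twFrob, inv_pow, ← pow_mul, ← sq] at h2
      exact (_root_.inv_inv _).symm.trans h2
  obtain ⟨c, hc⟩ := exists_algebraMap_of_pow_card (F := F) (x := z) (by rw [hF]; exact hz)
  have hpow := pow_eq_scalar_of_eigRoots p A hn.ne' c
    (fun x hx => (hroot x (Multiset.mem_toFinset.2 hx)).trans hc.symm) hmult
  refine ⟨n, t, S.card, k, Nat.le_of_dvd (Nat.mul_pos (pow_pos hp.pos t) hn)
    (orderOf_dvd_of_pow_eq_one ?_), hbound, ht, hk1, hsk, hk1'⟩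
  rw [← QuotientGroup.mk_pow, QuotientGroup.eq_one_iff, Subgroup.mem_center_iff]
  intro x
  refine Subtype.ext (Units.ext ?_)
  simp only [Subgroup.coe_mul, SubgroupClass.coe_pow, Units.val_mul, Units.val_pow_eq_pow_val]
  rw [show (g.1.val) ^ (p ^ t * n) = c ^ p ^ t • 1 from hpow]
  simp

theorem two_pow_ge {k : ℕ} (hk : 4 ≤ k) : k ≤ 2 ^ (k - 2) := by
  induction k, hk using Nat.le_induction with
  | base => norm_num
  | succ k hk ih =>
    rw [show k + 1 - 2 = (k - 2) + 1 by omega, pow_succ]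
    omega

/-- The arithmetic of the four cases. -/
theorem target_bound {p f n t s k : ℕ} (hp : p.Prime) (hf : 1 ≤ f) (hqf : q = p ^ f) (hd : 3 ≤ d)
    (hn : (s = 1 ∧ n = 1) ∨ (2 ≤ s ∧ n ≤ bnd q s)) (ht : t ≠ 0 → p ^ (t - 1) < k) (hk : 1 ≤ k)
    (hsk : s + k ≤ d + 1) (hk1 : k = 1 → s = d) :
    (Odd d → 2 ≤ f → p ^ t * n ≤ q ^ (d - 1) - 1) ∧
    (Odd d → f = 1 → p ^ t * n ≤ (p ^ (d - 2) + 1) * p) ∧
    (Even d → 2 < q → p ^ t * n ≤ q ^ (d - 1) + 1) ∧
    (Even d → q = 2 → p ^ t * n ≤ 4 * (2 ^ (d - 3) + 1)) := by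
  have hp2 := hp.two_le
  have hq2 : 2 ≤ q := hqf ▸ hp2.trans (Nat.le_self_pow (by omega) p)
  have hqf1 : f = 1 → q = p := fun h => by rw [hqf, h, pow_one]
  have hp12 : p ^ (d - 1) = p ^ (d - 2) * p := by rw [← pow_succ]; congr 1; omega
  have hT4 : 4 * (2 ^ (d - 3) + 1) = 2 ^ (d - 1) + 4 := by
    rw [show d - 1 = d - 3 + 2 by omega, pow_add]; ring
  -- it suffices to prove bounds by `p ^ (d - 1)` when `f = 1`, and by `q ^ (d - 1) - 1` when `2 ≤ f`
  have weak : (f = 1 → p ^ t * n ≤ p ^ (d - 1)) → (2 ≤ f → p ^ t * n ≤ q ^ (d - 1) - 1) →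
      (Odd d → 2 ≤ f → p ^ t * n ≤ q ^ (d - 1) - 1) ∧
      (Odd d → f = 1 → p ^ t * n ≤ (p ^ (d - 2) + 1) * p) ∧
      (Even d → 2 < q → p ^ t * n ≤ q ^ (d - 1) + 1) ∧
      (Even d → q = 2 → p ^ t * n ≤ 4 * (2 ^ (d - 3) + 1)) := by
    intro h1 h2
    refine ⟨fun _ h => h2 h, fun _ h => ?_, fun _ _ => ?_, fun _ h => ?_⟩
    · have := h1 h; rw [hp12] at this; rw [add_mul, one_mul]; omega
    · rcases eq_or_lt_of_le hf with h | h
      · have := h1 h.symm; rw [hqf1 h.symm]; omega
      · have := h2 h; omega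
    · rcases eq_or_lt_of_le hf with h' | h'
      · have h0 := h1 h'.symm
        have hp' : p = 2 := (hqf1 h'.symm).symm.trans h
        rw [hp'] at h0 ⊢
        omega
      · have : p ^ 2 ≤ q := hqf ▸ Nat.pow_le_pow_right hp.pos h'
        nlinarith
  have hQ : ∀ e, 1 ≤ e → 2 ≤ q ^ e := fun e he => hq2.trans (Nat.le_self_pow (by omega) q)
  have hf2 : 2 ≤ f → ∀ e, 1 ≤ e → 2 * p ^ e ≤ q ^ e := by
    intro h e he
    calc 2 * p ^ e ≤ p ^ e * p ^ e := Nat.mul_le_mul_right _ (hp2.trans (Nat.le_self_pow (by omega) p))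
      _ = (p ^ 2) ^ e := by rw [← pow_add, ← pow_mul]; congr 1; omega
      _ ≤ q ^ e := Nat.pow_le_pow_left (hqf ▸ Nat.pow_le_pow_right hp.pos h) e
  have htk : t ≤ k - 1 := by
    by_cases h : t = 0
    · omega
    · exact pow_self_le_self_pow hp2 (ht h)
  rcases hn with ⟨hs, hn⟩ | ⟨hs, hn⟩
  · subst hn
    rw [mul_one] at *
    have hpt : p ^ t ≤ p ^ (d - 1) := Nat.pow_le_pow_right hp.pos (by omega)
    refine weak (fun _ => hpt) fun h => ?_
    have := hf2 h (d - 1) (by omega)
    have : 1 ≤ p ^ (d - 1) := Nat.one_le_pow _ _ hp.pos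
    omega
  by_cases hk' : k = 1
  · have hsd := hk1 hk'
    subst hsd
    rw [show t = 0 by omega, pow_zero, one_mul]
    refine ⟨fun ho _ => hn.trans ?_, fun ho h => hn.trans ?_, fun he _ => hn.trans (bnd_le q s),
      fun he h => hn.trans ?_⟩
    · simp [bnd, Nat.not_even_iff_odd.2 ho]
    · rw [hqf1 h, add_mul, one_mul, ← hp12]
      have := bnd_le p s
      omega
    · rw [hT4, h]; have := bnd_le 2 s; omega
  -- a repeated eigenvalue
  have hPn : ∀ e, t ≤ e → p ^ t * n ≤ p ^ e * bnd q s := fun e he =>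
    Nat.mul_le_mul (Nat.pow_le_pow_right hp.pos he) hn
  rcases Nat.lt_or_ge 1 f with hf2' | hf1
  · refine weak (fun h => by omega) fun _ => ?_
    refine (hPn (d - s) (by omega)).trans ((Nat.mul_le_mul_left _ (bnd_le q s)).trans ?_)
    have h1 := hf2 hf2' (d - s) (by omega)
    have h2 : 2 ≤ p ^ (d - s) := hp2.trans (Nat.le_self_pow (by omega) p)
    have h3 := hQ (s - 1) (by omega)
    have h4 : q ^ (d - 1) = q ^ (d - s) * q ^ (s - 1) := by rw [← pow_add]; congr 1; omega
    rw [h4]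
    have h5 : 2 * p ^ (d - s) * q ^ (s - 1) ≤ q ^ (d - s) * q ^ (s - 1) := Nat.mul_le_mul_right _ h1
    have h6 : p ^ (d - s) * 2 ≤ p ^ (d - s) * q ^ (s - 1) := Nat.mul_le_mul_left _ h3
    rw [mul_add, mul_one]
    rw [mul_assoc] at h5
    omega
  have hf' : f = 1 := by omega
  have hq : q = p := hqf1 hf'
  subst hq
  clear hqf1 hf2
  rcases Nat.lt_or_ge k 4 with hk4 | hk4
  · by_cases h2 : k = 2
    · -- one double eigenvalue
      have hsd : bnd q s ≤ bnd q (d - 1) := by
        rcases eq_or_lt_of_le (show s ≤ d - 1 by omega) with h | h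
        · rw [h]
        · exact bnd_mono hp2 hs h
      have hb := (hPn 1 (by omega)).trans (Nat.mul_le_mul_left _ hsd)
      rw [pow_one] at hb
      refine ⟨fun _ h => by omega, fun ho _ => hb.trans ?_, fun he _ => hb.trans ?_, fun he h => hb.trans ?_⟩
      all_goals
        unfold bnd
        rw [show d - 1 - 1 = d - 2 by omega]
      · rw [if_pos (Nat.Odd.sub_odd ho odd_one), mul_comm]
      · rw [if_neg (Nat.not_even_iff_odd.2 (Nat.Even.sub_odd (by omega) he odd_one))]
        refine (Nat.mul_le_mul_left q (Nat.sub_le _ _)).trans ?_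
        rw [hp12, mul_comm]; omega
      · rw [if_neg (Nat.not_even_iff_odd.2 (Nat.Even.sub_odd (by omega) he odd_one))]
        refine (Nat.mul_le_mul_left q (Nat.sub_le _ _)).trans ?_
        rw [mul_comm, ← hp12, hT4, h]; omega
    have h3 : k = 3 := by omega
    rcases eq_or_lt_of_le hp2 with hp' | hp3
    · -- characteristic two, a triple eigenvalue
      subst hp'
      have ht2 : t ≤ 2 := by omega
      refine ⟨fun _ h => by omega, fun ho _ => ?_, fun _ h => by omega, fun he _ => ?_⟩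
      · have hsd : bnd 2 s ≤ bnd 2 (d - 2) := by
          rcases eq_or_lt_of_le (show s ≤ d - 2 by omega) with h | h
          · rw [h]
          · exact bnd_mono le_rfl hs h
        refine ((hPn 2 ht2).trans (Nat.mul_le_mul_left _ hsd)).trans ?_
        unfold bnd
        rw [if_neg (Nat.not_even_iff_odd.2 (Nat.Odd.sub_even (by omega) ho even_two)),
          show d - 2 = d - 3 + 1 by omega, pow_succ, show d - 3 + 1 - 1 = d - 3 by omega]
        omega
      · refine (hPn 2 ht2).trans (le_trans (Nat.mul_le_mul_left _ (bnd_le 2 s)) ?_)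
        have : 2 ^ (s - 1) ≤ 2 ^ (d - 3) := Nat.pow_le_pow_right (by norm_num) (by omega)
        omega
    · refine weak (fun _ => ?_) (fun h => by omega)
      have ht1 : t ≤ 1 := by
        by_contra h
        have h1 := ht (by omega)
        have : q ^ 1 ≤ q ^ (t - 1) := Nat.pow_le_pow_right hp.pos (by omega)
        rw [pow_one] at this
        omega
      refine ((hPn 1 ht1).trans (Nat.mul_le_mul_left _ (bnd_le q s))).trans ?_
      rw [pow_one, mul_add, mul_one]
      have h4 : q * q ^ (s - 1) ≤ q ^ (d - 2) := by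
        rw [← pow_succ']; exact Nat.pow_le_pow_right hp.pos (by omega)
      have h5 : q ≤ q ^ (d - 2) := Nat.le_self_pow (by omega) q
      have h6 : 2 * q ^ (d - 2) ≤ q ^ (d - 2) * q := by rw [mul_comm]; exact Nat.mul_le_mul_left _ hp2
      rw [hp12]; omega
  · refine weak (fun _ => ?_) (fun h => by omega)
    have ht' : t ≤ k - 2 := by
      by_contra h
      have h1 := ht (by omega)
      have h2 : q ^ (k - 2) ≤ q ^ (t - 1) := Nat.pow_le_pow_right hp.pos (by omega)
      have h3 : 2 ^ (k - 2) ≤ q ^ (k - 2) := Nat.pow_le_pow_left hp2 _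
      have := two_pow_ge hk4
      omega
    refine ((hPn (d - s - 1) (by omega)).trans (Nat.mul_le_mul_left _ (bnd_le q s))).trans ?_
    rw [mul_add, mul_one, ← pow_add]
    have h4 : q ^ (d - s - 1 + (s - 1)) ≤ q ^ (d - 2) := Nat.pow_le_pow_right hp.pos (by omega)
    have h5 : q ^ (d - s - 1) ≤ q ^ (d - 2) := Nat.pow_le_pow_right hp.pos (by omega)
    have h6 : 2 * q ^ (d - 2) ≤ q ^ (d - 2) * q := by rw [mul_comm]; exact Nat.mul_le_mul_left _ hp2
    rw [hp12]; omega

end Cfsg.Agent.Lie.PGUOrder
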