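import Cfsg.Agent.Lib.Lie.UnitarySemisimple
import Cfsg.Agent.Lib.Lie.PGUOrderUpper

/-!
Elements of large order in `PGU_d(q)`.
-/

set_option autoImplicit false

namespace Cfsg.Agent.Lie.PGUOrder

open Polynomial Matrix Cfsg.Agent.Classical Cfsg.Agent.Lie.UnitaryConj Cfsg.Agent.Lie.UnitarySemisimple

variable {F : Type*} [Field F] [Fintype F] {q : ℕ}

theorem reverse_prod_X_sub_C {K : Type*} [Field K] (S : Finset K) (h0 : (0 : K) ∉ S) :
    (∏ x ∈ S, (X - C x)).reverse = C (∏ x ∈ S, -x) * ∏ x ∈ S, (X - C x⁻¹) := by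
  classical
  induction S using Finset.induction_on with
  | empty =>
    simp only [Finset.prod_empty, mul_one, map_one]
    rw [show (1 : K[X]) = C 1 from C_1.symm, reverse_C]
  | @insert a S ha ih =>
    have ha0 : a ≠ 0 := fun h => h0 (h ▸ Finset.mem_insert_self a S)
    have h1 : (X - C a : K[X]).reverse = C (-a) * (X - C a⁻¹) := by
      have h2 : (X - C a : K[X]).reverse = 1 - C a * X := by
        have h3 : (X - C a : K[X]).natDegree = 1 := natDegree_X_sub_C a
        ext i
        rw [reverse, h3, coeff_reflect]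
        rcases i with _ | _ | i
        · simp [coeff_one]
        · simp [coeff_one]
        · rw [revAt_eq_self_of_lt (by omega : 1 < i + 2)]
          simp [coeff_X, coeff_C, coeff_one]
      rw [h2, mul_sub, ← C_mul, neg_mul, mul_inv_cancel₀ ha0, C_neg, C_neg, C_1]
      ring
    rw [Finset.prod_insert ha, reverse_mul_of_domain, ih (fun h => h0 (Finset.mem_insert_of_mem h)), h1,
      Finset.prod_insert ha, Finset.prod_insert ha, C_mul]
    ring

/-- A cyclic torus. -/
theorem exists_torus (hF : Fintype.card F = q ^ 2) {c : ℕ} (hc : 1 ≤ c) (hcq : c = 1 ∨ 3 ≤ c ∨ 3 ≤ q) :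
    ∃ g : Matrix (Fin c) (Fin c) F, hstar hF g * g = 1 ∧ g ^ tw q c = 1 ∧ ∀ j, g ^ j = 1 → tw q c ∣ j := by
  classical
  obtain ⟨p, f, hp, hchar, hf, hqf⟩ := exists_prime hF
  haveI := hchar
  have := Fact.mk hp
  have hq2 : 2 ≤ q := hqf ▸ hp.two_le.trans (Nat.le_self_pow (by omega) p)
  set L := AlgebraicClosure F
  haveI : CharP L p := charP_of_injective_algebraMap (algebraMap F L).injective p
  set N := tw q c with hNdef
  have hq0 : (q : L) = 0 := by rw [hqf, Nat.cast_pow, CharP.cast_eq_zero L p, zero_pow (by omega)]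
  have hNF : (N : F) ≠ 0 := by
    intro h
    have h1 := congrArg (algebraMap F L) h
    rw [map_natCast, map_zero, hNdef] at h1
    unfold tw at h1
    have h2 : 1 ≤ q ^ c := Nat.one_le_pow _ _ (by omega)
    split_ifs at h1
    · rw [Nat.cast_sub h2, Nat.cast_pow, hq0, zero_pow (by omega)] at h1
      simp at h1
    · rw [Nat.cast_add, Nat.cast_pow, hq0, zero_pow (by omega)] at h1
      simp at h1
  haveI : NeZero (N : L) := ⟨fun h => hNF ((algebraMap F L).injective (by rw [map_natCast, map_zero, h]))⟩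
  have hN0 : 0 < N := tw_pos hq2 hc
  obtain ⟨μ, hμ⟩ := IsAlgClosed.exists_root (Polynomial.cyclotomic N L)
    (degree_cyclotomic_pos N L hN0).ne'
  have hμ' : IsPrimitiveRoot μ N := Polynomial.isRoot_cyclotomic_iff.1 hμ
  have hμ0 : μ ≠ 0 := hμ'.ne_zero hN0.ne'
  let Q : L →+* L := iterateFrobenius L p f
  have hQ : ∀ y, Q y = y ^ q := fun y => by rw [hqf]; exact iterateFrobenius_def p f y
  set σ := twFrob (L := L) q with hσ
  have hσinj : Function.Injective σ := by
    intro x y h
    simp only [σ, twFrob, ← hQ] at h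
    exact Q.injective (inv_injective h)
  have hper : σ^[c] μ = μ := by
    have h := hμ'.pow_eq_one
    rw [hNdef] at h
    rw [hσ, iterate_twFrob]
    unfold tw at h
    have h2 : 1 ≤ q ^ c := Nat.one_le_pow _ _ (by omega)
    split_ifs at h ⊢ with he
    · calc μ ^ q ^ c = μ ^ (q ^ c - 1) * μ := by rw [← pow_succ, Nat.sub_add_cancel h2]
        _ = μ := by rw [h, one_mul]
    · refine inv_eq_of_mul_eq_one_right ?_
      rw [← pow_succ]; exact h
  have hmin : ∀ j, 0 < j → j < c → σ^[j] μ ≠ μ := by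
    intro j hj0 hjc h
    have h1 := hμ'.dvd_of_pow_eq_one _ (pow_tw_eq_one hq2 μ hμ0 h)
    have h2 := Nat.le_of_dvd (tw_pos hq2 hj0) h1
    have h3 := tw_le q j
    have h5 : q ^ c = q * q ^ (c - 1) := by rw [← pow_succ']; congr 1; omega
    have h6 : q ^ j ≤ q ^ (c - 1) := Nat.pow_le_pow_right (by omega) (by omega)
    have h4 : q ^ c - 1 ≤ N := by rw [hNdef]; unfold tw; split_ifs <;> omega
    rcases hcq with hcq | hcq | hcq
    · omega
    · have h7 : q ^ 2 ≤ q ^ (c - 1) := Nat.pow_le_pow_right (by omega) (by omega)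
      have h8 : 4 ≤ q ^ 2 := Nat.pow_le_pow_left hq2 2
      have h9 : 2 * q ^ (c - 1) ≤ q * q ^ (c - 1) := Nat.mul_le_mul_right _ hq2
      omega
    · have h7 : q ≤ q ^ (c - 1) := Nat.le_self_pow (by omega) q
      have h9 : 3 * q ^ (c - 1) ≤ q * q ^ (c - 1) := Nat.mul_le_mul_right _ hcq
      omega
  set S := (Finset.range c).image fun j => σ^[j] μ with hS
  have hlt' : ∀ a b, a < b → b < c → σ^[a] μ ≠ σ^[b] μ := by
    intro a b hab hbc e
    refine hmin (b - a) (by omega) (by omega) (hσinj.iterate a ?_)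
    rw [← Function.iterate_add_apply, show a + (b - a) = b by omega]
    exact e.symm
  have hinjOn : Set.InjOn (fun j => σ^[j] μ) ↑(Finset.range c) := by
    intro a ha b hb hab
    simp only [Finset.coe_range, Set.mem_Iio] at ha hb
    rcases lt_trichotomy a b with h | h | h
    · exact absurd hab (hlt' a b h hb)
    · exact h
    · exact absurd hab.symm (hlt' b a h ha)
  have hScard : S.card = c := by rw [hS, Finset.card_image_of_injOn hinjOn, Finset.card_range]
  have hSimg : S.image σ = S := by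
    refine Finset.eq_of_subset_of_card_le (fun y hy => ?_) (by rw [Finset.card_image_of_injective _ hσinj])
    obtain ⟨x, hx, rfl⟩ := Finset.mem_image.1 hy
    obtain ⟨j, hj, rfl⟩ := Finset.mem_image.1 hx
    rw [← Function.iterate_succ_apply' σ j μ]
    show σ^[j + 1] μ ∈ S
    rw [Finset.mem_range] at hj
    rcases eq_or_lt_of_le (show j + 1 ≤ c by omega) with h | h
    · rw [h, hper]
      exact Finset.mem_image.2 ⟨0, Finset.mem_range.2 (by omega), rfl⟩
    · exact Finset.mem_image.2 ⟨j + 1, Finset.mem_range.2 h, rfl⟩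
  have hSN : ∀ x ∈ S, x ^ N = 1 := by
    intro x hx
    obtain ⟨j, -, rfl⟩ := Finset.mem_image.1 hx
    rw [← iterate_twFrob_pow, hμ'.pow_eq_one]
    exact (show Function.IsFixedPt σ (1 : L) by simp [Function.IsFixedPt, σ, twFrob]).iterate j
  have h0S : (0 : L) ∉ S := fun h => zero_ne_one ((zero_pow hN0.ne').symm.trans (hSN 0 h))
  set PL : L[X] := ∏ x ∈ S, (X - C x) with hPL
  have hPLm : PL.Monic := monic_prod_of_monic _ _ fun x _ => monic_X_sub_C x
  have hmapQ : PL.map Q = ∏ x ∈ S, (X - C x⁻¹) := by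
    rw [hPL, Polynomial.map_prod]
    conv_rhs => rw [← hSimg, Finset.prod_image fun a _ b _ h => hσinj h]
    exact Finset.prod_congr rfl fun x _ => by
      rw [Polynomial.map_sub, map_X, map_C, hQ, show (σ x)⁻¹ = x ^ q from _root_.inv_inv _]
  have hfixQ : (PL.map Q).map Q = PL := by
    rw [hmapQ, Polynomial.map_prod]
    conv_rhs => rw [hPL, ← hSimg, Finset.prod_image fun a _ b _ h => hσinj h]
    exact Finset.prod_congr rfl fun x _ => by simp [σ, twFrob, hQ, _root_.inv_inv]
  obtain ⟨R, hR, hRdeg, hRm⟩ : ∃ R : F[X], R.map (algebraMap F L) = PL ∧ R.degree = PL.degree ∧ R.Monic := by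
    refine lifts_and_degree_eq_and_monic ((lifts_iff_coeff_lifts PL).2 fun i => ?_) hPLm
    refine exists_algebraMap_of_pow_card ?_
    have h := congrArg (fun P => P.coeff i) hfixQ
    simp only [coeff_map, hQ] at h
    rw [hF, sq, pow_mul]; exact h
  have hRc : R.natDegree = c := by
    rw [natDegree_eq_of_degree_eq hRdeg, hPL, natDegree_prod _ _ fun x _ => X_sub_C_ne_zero x]
    simp [hScard]
  have hRN : R ∣ X ^ N - 1 := by
    refine (map_dvd_map (algebraMap F L) (algebraMap F L).injective hRm).1 ?_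
    rw [hR, Polynomial.map_sub, Polynomial.map_pow, map_X, Polynomial.map_one, hPL]
    have hne : (X ^ N - 1 : L[X]) ≠ 0 := by
      simpa using (monic_X_pow_sub_C (1 : L) hN0.ne').ne_zero
    refine (Multiset.prod_X_sub_C_dvd_iff_le_roots hne S.val).2 ((Multiset.le_iff_subset S.nodup).2 ?_)
    intro x hx
    rw [mem_roots hne]
    simp [hSN x hx]
  have hRs : Stable hF R := by
    refine Polynomial.map_injective (algebraMap F L) (algebraMap F L).injective ?_
    have hQalg : (algebraMap F L).comp (qFrob hF) = Q.comp (algebraMap F L) := RingHom.ext fun x => by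
      simp [hQ, qFrob_apply]
    rw [← UnitarySemisimple.reverse_map, hR, Polynomial.map_mul, map_C, Polynomial.map_map, hQalg,
      ← Polynomial.map_map, hR, hmapQ, reverse_prod_X_sub_C S h0S]
    congr 2
    rw [← coeff_map, hR, hPL, coeff_zero_prod]
    exact Finset.prod_congr rfl fun x _ => by simp
  obtain ⟨g, hg, hgN, hgc, -⟩ := exists_block hF hNF hRm (by omega) hRN hRs
  have hroot : μ ∈ eigRoots L g := by
    rw [eigRoots, Matrix.charpoly_map, hgc, hR, hPL, roots_prod_X_sub_C]
    show μ ∈ S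
    exact Finset.mem_image.2 ⟨0, Finset.mem_range.2 (by omega), rfl⟩
  subst hRc
  exact ⟨g, hg, hgN, fun j hj => hμ'.dvd_of_pow_eq_one _ (pow_eq_one_of_eigRoot hj hroot)⟩

/-- Joining a torus with a small unitary matrix. -/
theorem exists_sum_order (hF : Fintype.card F = q ^ 2) {c r d N M : ℕ} (hd : c + r = d)
    (hN : 0 < N) (hM : 0 < M) (hco : Nat.Coprime N M)
    {g : Matrix (Fin c) (Fin c) F} (hg : hstar hF g * g = 1) (hgN : g ^ N = 1) (hgj : ∀ j, g ^ j = 1 → N ∣ j)
    {h : Matrix (Fin r) (Fin r) F} (hh : hstar hF h * h = 1) (hhM : h ^ M = 1)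
    (hhj : ∀ (j : ℕ) (z : F), h ^ j = z • 1 → z = 1 ∧ M ∣ j) :
    ∃ x : ↥(Cfsg.GU d F q) ⧸ Subgroup.center ↥(Cfsg.GU d F q), orderOf x = N * M := by
  classical
  let e : Fin c ⊕ Fin r ≃ Fin d := finSumFinEquiv.trans (finCongr hd)
  let Ψ := Matrix.reindexAlgEquiv F F e
  set E := Ψ (Matrix.fromBlocks g 0 0 h) with hE
  have hEu : hstar hF E * E = 1 := by
    have : hstar hF E = Ψ (Matrix.fromBlocks (hstar hF g) 0 0 (hstar hF h)) := by
      simp only [hstar, E, Ψ, Matrix.reindexAlgEquiv_apply, Matrix.reindex_apply]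
      rw [← Matrix.submatrix_map, Matrix.transpose_submatrix, Matrix.fromBlocks_map, Matrix.fromBlocks_transpose]
      simp
    rw [this, hE, ← map_mul, Matrix.fromBlocks_multiply]
    simp [hg, hh]
  have hpowE : ∀ k, E ^ k = Ψ (Matrix.fromBlocks (g ^ k) 0 0 (h ^ k)) := by
    intro k
    rw [hE, ← map_pow]
    congr 1
    induction k with
    | zero => simp [Matrix.fromBlocks_one]
    | succ k ih => rw [pow_succ, ih, Matrix.fromBlocks_multiply]; simp [pow_succ]
  let y : GU d F q := ⟨⟨E, hstar hF E, mul_eq_one_comm.1 hEu, hEu⟩,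
    fun u v => preserves_of_transpose_mul hF ((hstar_mul_self_iff hF E).1 hEu) u v⟩
  have hyval : ∀ k, UnitDiagonalOut.guVal (y ^ k) = E ^ k := fun k => by
    show ((y ^ k : GU d F q) : GL (Fin d) F).val = E ^ k
    rw [SubgroupClass.coe_pow, Units.val_pow_eq_pow_val]
  refine ⟨(y : ↥(Cfsg.GU d F q) ⧸ Subgroup.center ↥(Cfsg.GU d F q)), Nat.dvd_antisymm ?_ ?_⟩
  · refine orderOf_dvd_of_pow_eq_one ?_
    rw [← QuotientGroup.mk_pow]
    have h1 : y ^ (N * M) = 1 := by
      refine Subtype.ext (Units.ext ?_)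
      refine (hyval _).trans ?_
      rw [hpowE, pow_mul, hgN, one_pow, pow_mul', hhM, one_pow, Matrix.fromBlocks_one, map_one]
      rfl
    rw [h1, QuotientGroup.mk_one]
  · set j := orderOf (y : ↥(Cfsg.GU d F q) ⧸ Subgroup.center ↥(Cfsg.GU d F q))
    have hj := pow_orderOf_eq_one (y : ↥(Cfsg.GU d F q) ⧸ Subgroup.center ↥(Cfsg.GU d F q))
    rw [← QuotientGroup.mk_pow, QuotientGroup.eq_one_iff] at hj
    obtain ⟨z, hz⟩ := UnitDiagonalOut.scalar_of_commute_su (M := UnitDiagonalOut.guVal (y ^ j)) hF fun t => by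
      let t' : GU d F q := ⟨Matrix.SpecialLinearGroup.toGL t.1, fun u v => t.2 u v⟩
      exact congrArg UnitDiagonalOut.guVal (Subgroup.mem_center_iff.1 hj t')
    rw [hyval, hpowE] at hz
    have h2 : Matrix.fromBlocks (g ^ j) 0 0 (h ^ j) = z • (1 : Matrix (Fin c ⊕ Fin r) (Fin c ⊕ Fin r) F) := by
      apply Ψ.injective
      rw [hz, map_smul, map_one, Matrix.scalar_apply, Matrix.smul_one_eq_diagonal]
    rw [← Matrix.fromBlocks_one, Matrix.fromBlocks_smul, Matrix.fromBlocks_inj] at h2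
    obtain ⟨hz1, hMj⟩ := hhj j z h2.2.2.2
    have hgj' := hgj j (by rw [h2.1, hz1, one_smul])
    exact hco.mul_dvd_of_dvd_of_dvd hgj' hMj

theorem hstar_one_mul (hF : Fintype.card F = q ^ 2) (n : ℕ) :
    hstar hF (1 : Matrix (Fin n) (Fin n) F) * 1 = 1 := by
  rw [hstar_one, one_mul]

theorem one_fin_one (j : ℕ) (z : F) (h : (1 : Matrix (Fin 1) (Fin 1) F) ^ j = z • 1) : z = 1 ∧ 1 ∣ j := by
  refine ⟨?_, one_dvd j⟩
  have := congrFun (congrFun h 0) 0
  simpa using this.symm

/-- A transvection in dimension two. -/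
theorem exists_transvection (hF : Fintype.card F = q ^ 2) {p : ℕ} (hp : p.Prime) [CharP F p] :
    ∃ h : Matrix (Fin 2) (Fin 2) F, hstar hF h * h = 1 ∧ h ^ p = 1 ∧
      ∀ (j : ℕ) (z : F), h ^ j = z • 1 → z = 1 ∧ p ∣ j := by
  classical
  obtain ⟨b, hb⟩ : ∃ b : F, qFrob hF b ≠ b := by
    by_contra h
    push Not at h
    exact qFrob_ne_id hF (RingHom.ext h)
  obtain ⟨a, ha0, ha⟩ : ∃ a : F, a ≠ 0 ∧ qFrob hF a = -a :=
    ⟨b - qFrob hF b, sub_ne_zero.2 (Ne.symm hb), by rw [map_sub, qFrob_qFrob]; ring⟩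
  obtain ⟨w, hw⟩ : ∃ w : F, w * qFrob hF w = -1 := by
    have h1 : ((-1 : F)) ^ q = -1 := by rw [← qFrob_apply hF, map_neg, map_one]
    have h2 := natCard_norm_eq hF h1 (neg_ne_zero.2 one_ne_zero)
    obtain ⟨⟨w, hw⟩⟩ : Nonempty {x : F // x ^ (q + 1) = -1} :=
      (Nat.card_ne_zero.1 (by rw [h2]; omega)).1
    exact ⟨w, by rw [qFrob_apply, ← pow_succ']; exact hw⟩
  have hw0 : w ≠ 0 := fun h => by rw [h, zero_mul] at hw; exact one_ne_zero (neg_eq_zero.1 hw.symm)
  set V : Matrix (Fin 2) (Fin 2) F := !![1, qFrob hF w; w, w * qFrob hF w] with hV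
  have hVV : V * V = 0 := by
    ext i k
    fin_cases i <;> fin_cases k <;> simp [V, Matrix.mul_apply, Fin.sum_univ_two, hw] <;>
      linear_combination hw
  have hVh : hstar hF V = V := by
    ext i k
    fin_cases i <;> fin_cases k <;> simp [V, hstar, qFrob_qFrob, mul_comm]
  have hpow : ∀ j : ℕ, (1 + a • V) ^ j = 1 + ((j : F) * a) • V := by
    intro j
    induction j with
    | zero => simp
    | succ j ih =>
      rw [pow_succ, ih, mul_add, add_mul, add_mul, mul_one, one_mul, smul_mul_smul_comm, hVV, smul_zero,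
        add_zero, mul_one, Nat.cast_succ, add_one_mul, add_smul, add_assoc]
  refine ⟨1 + a • V, ?_, ?_, fun j z hz => ?_⟩
  · rw [hstar_add, hstar_one, hstar_smul, hVh, ha, mul_add, add_mul, add_mul, mul_one, one_mul,
      smul_mul_smul_comm, hVV, smul_zero, add_zero, mul_one, neg_smul]
    abel
  · rw [hpow, CharP.cast_eq_zero F p, zero_mul, zero_smul, add_zero]
  · rw [hpow] at hz
    have h01 := congrFun (congrFun hz 0) 1
    have h00 := congrFun (congrFun hz 0) 0
    simp [V] at h01 h00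
    have hj : (j : F) = 0 := by
      rcases h01 with (h | h) | h
      · exact h
      · exact absurd h ha0
      · exact absurd h hw0
    refine ⟨?_, (CharP.cast_eq_zero_iff F p j).1 hj⟩
    rw [hj, zero_mul, add_zero] at h00
    exact h00.symm

/-- An element of order four in dimension three over the field with four elements. -/
theorem exists_order_four (hF : Fintype.card F = q ^ 2) (hq : q = 2) :
    ∃ h : Matrix (Fin 3) (Fin 3) F, hstar hF h * h = 1 ∧ h ^ 4 = 1 ∧
      ∀ (j : ℕ) (z : F), h ^ j = z • 1 → z = 1 ∧ 4 ∣ j := by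
  classical
  have h4 : Fintype.card F = 4 := by rw [hF, hq]; norm_num
  obtain ⟨w, hw⟩ : ∃ w : F, qFrob hF w ≠ w := by
    by_contra h
    push Not at h
    exact qFrob_ne_id hF (RingHom.ext h)
  rw [qFrob_apply, hq] at hw
  have hw0 : w ≠ 0 := fun h => hw (by rw [h]; simp)
  have hw3 : w ^ 3 = 1 := by
    have := FiniteField.pow_card_sub_one_eq_one w hw0
    rwa [h4] at this
  have h2 : (2 : F) = 0 := by
    obtain ⟨p, f, hp, hchar, hf, hqf⟩ := exists_prime hF
    haveI := hchar
    have : p = 2 := by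
      have h1 : p ∣ 2 := hq ▸ hqf ▸ dvd_pow_self p (by omega)
      exact ((Nat.prime_two.eq_one_or_self_of_dvd p h1).resolve_left hp.ne_one)
    subst this
    exact_mod_cast CharP.cast_eq_zero F 2
  have hw2 : w ^ 2 = w + 1 := by
    have hne : w - 1 ≠ 0 := fun h => hw (by rw [sub_eq_zero.1 h]; simp)
    have : (w - 1) * (w ^ 2 + w + 1) = 0 := by linear_combination hw3
    have h5 := (mul_eq_zero.1 this).resolve_left hne
    linear_combination h5 - (w + 1) * h2
  set H : Matrix (Fin 3) (Fin 3) F := !![1, 1, 1; 1, w, w ^ 2; 1, w ^ 2, w] with hH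
  set T : Matrix (Fin 3) (Fin 3) F := !![1, 0, 0; 0, 0, 1; 0, 1, 0] with hT
  have hHH : H * H = T := by
    ext i k
    fin_cases i <;> fin_cases k <;> simp [H, T, Matrix.mul_apply, Fin.sum_univ_three] <;> grind
  have hTT : T * T = 1 := by
    ext i k
    fin_cases i <;> fin_cases k <;> simp [T, Matrix.mul_apply, Fin.sum_univ_three]
  have hH4 : H ^ 4 = 1 := by rw [show 4 = 2 + 2 from rfl, pow_add, pow_two, hHH, hTT]
  refine ⟨H, ?_, hH4, fun j z hz => ?_⟩
  · ext i k
    fin_cases i <;> fin_cases k <;>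
      simp [hstar, H, Matrix.mul_apply, Fin.sum_univ_three, qFrob_apply, hq] <;> grind
  · have hjz : H ^ (j % 4) = z • 1 := by
      rw [← hz, ← Nat.mod_add_div j 4, pow_add, pow_mul, hH4, one_pow, mul_one]
      simp
    have h3 := Nat.mod_lt j (show 0 < 4 by norm_num)
    interval_cases hj : j % 4
    · have := congrFun (congrFun hjz 0) 0
      exact ⟨by simpa using this.symm, Nat.dvd_of_mod_eq_zero hj⟩
    · have := congrFun (congrFun hjz 0) 1
      simp [H] at this
    · have := congrFun (congrFun hjz 1) 2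
      simp [pow_two, hHH, T] at this
    · rw [pow_succ, pow_two, hHH] at hjz
      have := congrFun (congrFun hjz 0) 1
      simp [Matrix.mul_apply, Fin.sum_univ_three, H, T] at this

end Cfsg.Agent.Lie.PGUOrder
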