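import Cfsg.Agent.Lib.Classical.MatrixOrders
import Cfsg.Agent.Lib.Classical.GLTwoSylow

/-! Primes in centralisers of elements of order `p` in `PSL_n(p^f)`. -/

set_option autoImplicit false
set_option linter.unusedSectionVars false

namespace Cfsg.Agent.Lie.PSLCentralizerPrimes

open Matrix Module

variable {F : Type*} [Field F] [Fintype F] {n : ℕ}

/-- An exponent for all invertible maps of spaces of dimension at most `n - 2`. -/
def expo (F : Type*) [Fintype F] (n : ℕ) : ℕ :=
  Fintype.card F ^ (n * n) * ∏ i ∈ Finset.range (n - 2), (Fintype.card F ^ (i + 1) - 1)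

theorem pow_expo {W : Type*} [AddCommGroup W] [Module F W] [FiniteDimensional F W]
    (hw : finrank F W ≤ n - 2) (g : W →ₗ[F] W) (hg : Function.Injective g) : g ^ expo F n = 1 := by
  let e : Module.End F W ≃ₐ[F] Matrix (Fin (finrank F W)) (Fin (finrank F W)) F :=
    LinearMap.toMatrixAlgEquiv (Module.finBasis F W)
  have hu : IsUnit (e g) :=
    ((Module.End.isUnit_iff g).2 ⟨hg, LinearMap.surjective_of_injective hg⟩).map e
  have hdvd : Nat.card (GL (Fin (finrank F W)) F) ∣ expo F n := by
    rw [Classical.GLTwoSylow.card_GL_eq]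
    refine Nat.mul_dvd_mul (pow_dvd_pow _ ((Nat.div_le_self _ _).trans (Nat.mul_le_mul (by omega) (by omega)))) ?_
    rw [Fin.prod_univ_eq_prod_range (fun i => Fintype.card F ^ (finrank F W - i) - 1),
      ← Finset.prod_range_reflect (fun i => Fintype.card F ^ (finrank F W - i) - 1),
      Finset.prod_congr rfl (fun i hi => show Fintype.card F ^ (finrank F W - (finrank F W - 1 - i)) - 1 =
        Fintype.card F ^ (i + 1) - 1 by rw [Finset.mem_range] at hi; congr 2; omega)]
    exact Finset.prod_dvd_prod_of_subset _ _ _ (Finset.range_subset_range.2 hw)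
  have h1 : hu.unit ^ expo F n = 1 := orderOf_dvd_iff_pow_eq_one.1 ((orderOf_dvd_natCard _).trans hdvd)
  refine e.injective ?_
  rw [map_pow, map_one, ← hu.unit_spec, ← Units.val_pow_eq_pow_val, h1, Units.val_one]

/-- A nilpotent map commutes only with maps that are unipotent once they are unipotent on its kernel. -/
theorem unipotent_of_ker {V : Type*} [AddCommGroup V] [Module F V] (N D : V →ₗ[F] V) (hc : N * D = D * N)
    (s : ℕ) (hs : ∀ v, N v = 0 → (D ^ s) v = 0) (k : ℕ) : ∀ v, (N ^ k) v = 0 → (D ^ (k * s)) v = 0 := by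
  induction k with
  | zero => intro v hv; simpa using hv
  | succ k ih =>
    intro v hv
    rw [pow_succ, Module.End.mul_apply] at hv
    have h1 := ih _ hv
    have hcomm : Commute N (D ^ (k * s)) := (show Commute N D from hc).pow_right _
    rw [← Module.End.mul_apply, ← hcomm.eq, Module.End.mul_apply] at h1
    rw [show (k + 1) * s = s + k * s by ring, pow_add, Module.End.mul_apply]
    exact hs _ h1

theorem sub_pow_le {W : Type*} [AddCommGroup W] [Module F W] (U : Submodule F W) (D : W →ₗ[F] W)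
    (h1 : ∀ v, D v ∈ U) (h0 : ∀ v ∈ U, D v = 0) (v : W) : (D ^ 2) v = 0 := by
  rw [pow_two, Module.End.mul_apply]
  exact h0 _ (h1 v)

variable {p : ℕ} [hp : Fact p.Prime] [CharP F p]

/-- The matrix form. -/
theorem pow_eq_one (hn : 3 ≤ n) (N B : Matrix (Fin n) (Fin n) F) (hN : N ≠ 0) {k : ℕ} (hk : N ^ k = 0)
    (hc : N * B = B * N) (hB : IsUnit B) : ∃ K : ℕ, B ^ (expo F n * p ^ K) = 1 := by
  classical
  set g := Matrix.toLin' B with hg
  set nu := Matrix.toLin' N with hnu
  have hcl : nu * g = g * nu := by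
    show nu ∘ₗ g = g ∘ₗ nu
    rw [hg, hnu, ← Matrix.toLin'_mul, ← Matrix.toLin'_mul, hc]
  have hginj : Function.Injective g := by
    rw [hg]
    exact fun u v h => Matrix.mulVec_injective_iff_isUnit.2 hB (by simpa using h)
  have hW : ∀ v ∈ LinearMap.ker nu, g v ∈ LinearMap.ker nu := fun v hv => by
    rw [LinearMap.mem_ker] at hv ⊢
    rw [← Module.End.mul_apply, hcl, Module.End.mul_apply, hv, map_zero]
  have hnu0 : nu ≠ 0 := fun h => hN (Matrix.toLin'.injective (h.trans (map_zero _).symm))
  have hrk := LinearMap.finrank_range_add_finrank_ker nu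
  rw [Module.finrank_fin_fun] at hrk
  have hr1 : 1 ≤ finrank F (LinearMap.range nu) :=
    Nat.pos_of_ne_zero fun h => hnu0 (LinearMap.range_eq_bot.1 (Submodule.finrank_eq_zero.1 h))
  set gW := g.restrict hW with hgW
  have hgWinj : Function.Injective gW := fun u v h => Subtype.ext (hginj (congrArg Subtype.val h))
  set M := expo F n
  have hres : ∀ (j : ℕ) (v : LinearMap.ker nu), ((gW ^ j) v : Fin n → F) = (g ^ j) v := fun j v => by
    induction j generalizing v with
    | zero => rfl
    | succ j ih =>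
      rw [pow_succ, pow_succ, Module.End.mul_apply, Module.End.mul_apply, ih]
      rfl
  obtain ⟨s, hs⟩ : ∃ s, ∀ v, nu v = 0 → ((g ^ M - 1 : Module.End F (Fin n → F)) ^ s) v = 0 := by
    by_cases hw : finrank F (LinearMap.ker nu) ≤ n - 2
    · refine ⟨1, fun v hv => ?_⟩
      rw [pow_one, LinearMap.sub_apply, Module.End.one_apply, sub_eq_zero]
      have h := hres M ⟨v, hv⟩
      rw [pow_expo hw gW hgWinj, Module.End.one_apply] at h
      exact h.symm
    have hr : finrank F (LinearMap.range nu) = 1 := by omega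
    have hLW : LinearMap.range nu ≤ LinearMap.ker nu := by
      rintro _ ⟨v, rfl⟩
      by_contra hne
      rw [LinearMap.mem_ker] at hne
      have hv0 : (⟨nu v, v, rfl⟩ : LinearMap.range nu) ≠ 0 := fun e => hne (by
        have := congrArg Subtype.val e
        simp only [Submodule.coe_zero] at this
        rw [this, map_zero])
      obtain ⟨c, hc'⟩ := exists_smul_eq_of_finrank_eq_one hr hv0 ⟨nu (nu v), nu v, rfl⟩
      have hc'' : c • nu v = nu (nu v) := congrArg Subtype.val hc'
      have hiter : ∀ j, (nu ^ j) (nu v) = c ^ j • nu v := fun j => by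
        induction j with
        | zero => simp
        | succ j ih => rw [pow_succ', Module.End.mul_apply, ih, map_smul, ← hc'', smul_smul, pow_succ]
      have h0 : (nu ^ k) (nu v) = 0 := by
        rw [hnu, ← Matrix.toLin'_pow, hk, map_zero, LinearMap.zero_apply]
      rw [hiter] at h0
      rcases smul_eq_zero.1 h0 with h | h
      · exact hne (by rw [← hc'', eq_zero_of_pow_eq_zero h, zero_smul])
      · exact hne (by rw [h, map_zero])
    let L : Submodule F (LinearMap.ker nu) := (LinearMap.range nu).comap (LinearMap.ker nu).subtype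
    have hL : ∀ v ∈ L, gW v ∈ L := by
      rintro v ⟨w, hw⟩
      exact ⟨g w, by rw [← Module.End.mul_apply, hcl, Module.End.mul_apply]; exact congrArg g hw⟩
    have hLle : L ≤ L.comap gW := hL
    have hfL : finrank F L = 1 := by rw [(Submodule.comapSubtypeEquivOfLe hLW).finrank_eq, hr]
    have hq : finrank F (LinearMap.ker nu ⧸ L) ≤ n - 2 := by
      have := Submodule.finrank_quotient_add_finrank L
      omega
    have hLfin : gW '' (L : Set (LinearMap.ker nu)) = L := by
      refine Set.Subset.antisymm (by rintro _ ⟨v, hv, rfl⟩; exact hL v hv) fun v hv => ?_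
      obtain ⟨w, hw⟩ := LinearMap.surjective_of_injective (f := gW.restrict hL)
        (fun a b h => Subtype.ext (hgWinj (congrArg Subtype.val h))) ⟨v, hv⟩
      exact ⟨w, w.2, congrArg Subtype.val hw⟩
    have hqinj : Function.Injective (L.mapQ L gW hLle) := by
      rw [injective_iff_map_eq_zero]
      intro x hx
      obtain ⟨v, rfl⟩ := L.mkQ_surjective x
      rw [Submodule.mkQ_apply, Submodule.mapQ_apply, Submodule.Quotient.mk_eq_zero] at hx
      obtain ⟨u, hu, huv⟩ := hLfin.ge hx
      rw [Submodule.mkQ_apply, Submodule.Quotient.mk_eq_zero, ← hgWinj huv]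
      exact hu
    refine ⟨2, fun v hv => ?_⟩
    have hstep : ∀ w : LinearMap.ker nu, (gW ^ M) w - w ∈ L := fun w => by
      rw [← Submodule.Quotient.eq]
      have h := Submodule.mapQ_pow L hLle M
      rw [pow_expo hq _ hqinj] at h
      have h' := LinearMap.congr_fun h (Submodule.Quotient.mk w)
      rw [Submodule.mapQ_apply, Module.End.one_apply] at h'
      exact h'
    have hfix : ∀ w ∈ L, (gW ^ M) w = w := fun w hw => by
      have h := LinearMap.congr_fun (pow_expo (n := n) (by omega : finrank F L ≤ n - 2) (gW.restrict hL)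
        (fun a b h => Subtype.ext (hgWinj (congrArg Subtype.val h)))) ⟨w, hw⟩
      rw [Module.End.pow_restrict] at h
      exact congrArg Subtype.val h
    have hd : ∀ w : LinearMap.ker nu, (((gW ^ M - 1) w : LinearMap.ker nu) : Fin n → F) = (g ^ M - 1) w := fun w => by
      simp [hres]
    have h2 := sub_pow_le L (gW ^ M - 1) (fun w => by simpa using hstep w)
      (fun w hw => by simp [hfix w hw]) ⟨v, hv⟩
    rw [pow_two, Module.End.mul_apply] at h2 ⊢
    rw [show (g ^ M - 1) v = _ from (hd ⟨v, hv⟩).symm, ← hd, h2]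
    rfl
  have hD : nu * (g ^ M - 1) = (g ^ M - 1) * nu := by
    rw [mul_sub, sub_mul, ((show Commute nu g from hcl).pow_right M).eq, mul_one, one_mul]
  have hall : ∀ v, ((g ^ M - 1) ^ (k * s)) v = 0 := fun v =>
    unipotent_of_ker nu _ hD s hs k v (by rw [hnu, ← Matrix.toLin'_pow, hk, map_zero, LinearMap.zero_apply])
  have hmat : (B ^ M - 1) ^ (k * s) = 0 := by
    refine Matrix.toLin'.injective (LinearMap.ext fun v => ?_)
    rw [Matrix.toLin'_pow, map_sub, Matrix.toLin'_pow, Matrix.toLin'_one, map_zero, LinearMap.zero_apply]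
    exact hall v
  refine ⟨k * s, ?_⟩
  have : Nonempty (Fin n) := ⟨⟨0, by omega⟩⟩
  have h0 : (B ^ M - 1) ^ (p ^ (k * s)) = 0 :=
    pow_eq_zero_of_le (Nat.lt_pow_self hp.out.one_lt).le hmat
  rw [sub_pow_char_pow_of_commute (p := p) (h := Commute.one_right _), one_pow, sub_eq_zero] at h0
  rw [pow_mul]
  exact h0

theorem prime_dvd_card_SL {m r : ℕ} (hm : 2 ≤ m) (hr : r.Prime)
    (h : r ∣ Fintype.card F ∨ ∃ i < m, r ∣ Fintype.card F ^ (i + 1) - 1) :
    r ∣ Nat.card (Matrix.SpecialLinearGroup (Fin m) F) := by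
  have hq : 1 < Fintype.card F := Fintype.one_lt_card
  have hGL := Classical.natCard_GL_eq_SL_mul (F := F) m (by omega)
  rw [Classical.natCard_units_field, Classical.GLTwoSylow.card_GL_eq,
    Fin.prod_univ_eq_prod_range (fun i => Fintype.card F ^ (m - i) - 1) m] at hGL
  rw [← Finset.mul_prod_erase _ _ (Finset.mem_range.2 (by omega : m - 1 < m)),
    show m - (m - 1) = 1 by omega, pow_one, mul_left_comm] at hGL
  have hSL := Nat.eq_of_mul_eq_mul_left (by omega) hGL
  rw [← hSL]
  rcases h with h | ⟨i, hi, h⟩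
  · exact dvd_mul_of_dvd_left (dvd_pow h (by
      have : 1 ≤ m * (m - 1) / 2 := Nat.le_div_iff_mul_le two_pos |>.2 (by nlinarith [Nat.sub_add_cancel (by omega : 1 ≤ m)])
      omega)) _
  refine dvd_mul_of_dvd_right ?_ _
  rcases Nat.eq_zero_or_pos i with rfl | hi0
  · refine (Dvd.dvd.trans ?_ (Finset.dvd_prod_of_mem _ (Finset.mem_erase.2
      ⟨(by omega : m - 2 ≠ m - 1), Finset.mem_range.2 (by omega)⟩)))
    rw [show m - (m - 2) = 2 by omega]
    refine h.trans ?_
    rw [zero_add, pow_one, ← one_pow 2, Nat.sq_sub_sq, one_pow]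
    exact dvd_mul_left _ _
  · refine h.trans (Dvd.dvd.trans ?_ (Finset.dvd_prod_of_mem _ (Finset.mem_erase.2
      ⟨(by omega : m - 1 - i ≠ m - 1), Finset.mem_range.2 (by omega)⟩)))
    rw [show m - (m - 1 - i) = i + 1 by omega]

theorem primeFactors_subset (hn : 4 ≤ n) (a b : Matrix.ProjectiveSpecialLinearGroup (Fin n) F)
    (ha : orderOf a = p) (hab : Commute a b) :
    (orderOf b).primeFactors ⊆ (Nat.card (Matrix.SpecialLinearGroup (Fin (n - 2)) F)).primeFactors := by
  classical
  obtain ⟨A, rfl⟩ := Classical.slToPSL_surjective a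
  obtain ⟨B, rfl⟩ := Classical.slToPSL_surjective b
  have h1 : Classical.slToPSL n F A ^ p = 1 := by rw [← ha]; exact pow_orderOf_eq_one _
  obtain ⟨s, hs⟩ := (Classical.slToPSL_pow_eq_one_iff A p).1 h1
  have hone : (Classical.slToPSL n F (A⁻¹ * B⁻¹ * A * B)) = 1 := by
    rw [map_mul, map_mul, map_mul, map_inv, map_inv, mul_assoc, hab.eq, mul_assoc, inv_mul_cancel_left,
      inv_mul_cancel]
  obtain ⟨c, hcc⟩ := (Classical.slToPSL_eq_one_iff _).1 hone
  have hcomm : (A : Matrix (Fin n) (Fin n) F) * B = c • ((B : Matrix (Fin n) (Fin n) F) * A) := by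
    have h := congrArg (fun X => ((B * A : Matrix.SpecialLinearGroup (Fin n) F) : Matrix (Fin n) (Fin n) F) * X) hcc
    simp only [← Matrix.SpecialLinearGroup.coe_mul] at h
    rw [show B * A * (A⁻¹ * B⁻¹ * A * B) = A * B by simp [mul_assoc], Matrix.scalar_apply, ← Matrix.smul_one_eq_diagonal,
      Matrix.mul_smul, mul_one] at h
    simpa using h
  obtain ⟨j, hj⟩ := FiniteField.card F p
  have hfr : Function.Surjective (frobenius F p) :=
    (Finite.injective_iff_surjective).1 (frobenius F p).injective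
  have hn0 : Nonempty (Fin n) := ⟨⟨0, by omega⟩⟩
  have hs0 : s ≠ 0 := fun e => by
    have := congrArg Matrix.det hs
    rw [Matrix.det_pow, A.2, one_pow, e, map_zero, Matrix.det_zero] at this
    exact one_ne_zero this
  obtain ⟨t, ht⟩ := hfr s⁻¹
  rw [frobenius_def] at ht
  set A' := t • (A : Matrix (Fin n) (Fin n) F) with hA'
  have hA'p : A' ^ p = 1 := by
    rw [hA', smul_pow, hs, ht, Matrix.scalar_apply, ← Matrix.smul_one_eq_diagonal, smul_smul, inv_mul_cancel₀ hs0,
      one_smul]
  have hcomm' : A' * B = c • ((B : Matrix (Fin n) (Fin n) F) * A') := by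
    rw [hA', Matrix.smul_mul, hcomm, Matrix.mul_smul, smul_comm]
  have hcp : ∀ i : ℕ, A' ^ i * B = c ^ i • ((B : Matrix (Fin n) (Fin n) F) * A' ^ i) := fun i => by
    induction i with
    | zero => simp
    | succ i ih =>
      rw [pow_succ', mul_assoc, ih, Matrix.mul_smul, ← mul_assoc, hcomm', Matrix.smul_mul, smul_smul, mul_assoc,
        pow_succ]
  have hc1 : c = 1 := by
    have h := hcp p
    rw [hA'p, one_mul, mul_one] at h
    have hcp1 : c ^ p = 1 := by
      by_contra hne
      have h0 : (B : Matrix (Fin n) (Fin n) F) = 0 := by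
        have hz : (c ^ p - 1) • (B : Matrix (Fin n) (Fin n) F) = 0 := by rw [sub_smul, one_smul, ← h, sub_self]
        exact (smul_eq_zero.1 hz).resolve_left (sub_ne_zero.2 hne)
      have h' := congrArg Matrix.det h0
      rw [B.2, Matrix.det_zero] at h'
      exact one_ne_zero h'
    exact (frobenius F p).injective (by rw [frobenius_def, hcp1, map_one])
  rw [hc1, one_smul] at hcomm'
  have hN : A' - 1 ≠ 0 := fun e => by
    have hsc : (A : Matrix (Fin n) (Fin n) F) = Matrix.scalar (Fin n) t⁻¹ := by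
      have ht0 : t ≠ 0 := fun e0 => by
        rw [e0, zero_pow hp.out.ne_zero] at ht
        exact inv_ne_zero hs0 ht.symm
      rw [sub_eq_zero, hA'] at e
      rw [← inv_smul_smul₀ ht0 (A : Matrix (Fin n) (Fin n) F), e, Matrix.scalar_apply, Matrix.smul_one_eq_diagonal]
    have h := (Classical.slToPSL_eq_one_iff A).2 ⟨_, hsc⟩
    rw [h, orderOf_one] at ha
    exact hp.out.one_lt.ne ha
  obtain ⟨K, hK⟩ := pow_eq_one (p := p) (k := p) (by omega : 3 ≤ n) (A' - 1) (B : Matrix (Fin n) (Fin n) F) hN
    (by rw [sub_pow_char_of_commute (p := p) (Commute.one_right _), hA'p, one_pow, sub_self])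
    (by rw [sub_mul, mul_sub, hcomm', one_mul, mul_one])
    ((Matrix.isUnit_iff_isUnit_det _).2 (by rw [B.2]; exact isUnit_one))
  intro r hr
  rw [Nat.mem_primeFactors] at hr ⊢
  refine ⟨hr.1, prime_dvd_card_SL (by omega) hr.1 ?_, Nat.card_pos.ne'⟩
  have hd : orderOf (Classical.slToPSL n F B) ∣ expo F n * p ^ K := orderOf_dvd_of_pow_eq_one (by
    rw [← map_pow]
    convert map_one (Classical.slToPSL n F)
    exact Subtype.ext (by rw [Matrix.SpecialLinearGroup.coe_pow, hK, Matrix.SpecialLinearGroup.coe_one]))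
  rcases hr.1.dvd_mul.1 (hr.2.1.trans hd) with h | h
  · rcases hr.1.dvd_mul.1 h with h | h
    · exact Or.inl (hr.1.dvd_of_dvd_pow h)
    · obtain ⟨i, hi, h'⟩ := (hr.1.prime.dvd_finsetProd_iff _).1 h
      exact Or.inr ⟨i, Finset.mem_range.1 hi, h'⟩
  · exact Or.inl ((hr.1.dvd_of_dvd_pow h).trans (hj.2 ▸ dvd_pow_self p j.ne_zero))

end Cfsg.Agent.Lie.PSLCentralizerPrimes
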