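import Cfsg.Agent.Lib.Classical.UnitRootGroups
import Cfsg.Agent.Lib.Fus.QdGroup

/-!
`Qd(p)` is not involved in `PSU₃` in its defining characteristic: the normaliser of a non-trivial `p`-subgroup
fixes an isotropic point, and the stabiliser of such a point has a `p`-group as derived group.
-/

set_option autoImplicit false
set_option linter.unusedSectionVars false

namespace Cfsg.Agent.Lie.PSUThreeQd

open Matrix Cfsg.Agent.Classical Cfsg.Agent.Classical.PSUAut Module

variable {F : Type*} [Field F] [Fintype F] {q : ℕ} (hF : Fintype.card F = q ^ 2)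
  {p : ℕ} [Fact p.Prime] [CharP F p]

local notation "V" => (Fin 3 → F)
local notation "PS" => PSU 3 F q
local notation "h" => hermForm 3 F q
local notation "π" => suToPSU 3 F q

/-- `x ↦ h x u`. -/
def hL (u : Fin 3 → F) : (Fin 3 → F) →ₗ[F] F where
  toFun x := hermForm 3 F q x u
  map_add' x y := h_add_left x y u
  map_smul' c x := h_smul_left c x u

theorem hL_apply (u x : V) : hL (q := q) u x = h x u := rfl

theorem act_comp (s t : SU 3 F q) (x : V) : suVal s *ᵥ (suVal t *ᵥ x) = suVal (s * t) *ᵥ x := by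
  rw [suVal_mul, Matrix.mulVec_mulVec]

theorem act_one (x : V) : suVal (1 : SU 3 F q) *ᵥ x = x := Matrix.one_mulVec x

theorem act_inv_act (s : SU 3 F q) (x : V) : suVal s⁻¹ *ᵥ (suVal s *ᵥ x) = x := by
  rw [act_comp, inv_mul_cancel, act_one]

theorem act_act_inv (s : SU 3 F q) (x : V) : suVal s *ᵥ (suVal s⁻¹ *ᵥ x) = x := by
  rw [act_comp, mul_inv_cancel, act_one]

/-- A `p`-subgroup has non-zero fixed vectors on an invariant non-zero subspace. -/
theorem exists_fixed {U : Subgroup (SU 3 F q)} (hU : IsPGroup p U) {S : Submodule F V} (hS : S ≠ ⊥)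
    (hinv : ∀ s ∈ U, ∀ x ∈ S, suVal s *ᵥ x ∈ S) : ∃ x ∈ S, x ≠ 0 ∧ ∀ s ∈ U, suVal s *ᵥ x = x := by
  classical
  letI : MulAction U S :=
    { smul := fun s x => ⟨suVal s.1 *ᵥ x.1, hinv s.1 s.2 x.1 x.2⟩
      one_smul := fun x => Subtype.ext (act_one x.1)
      mul_smul := fun s t x => Subtype.ext (act_comp s.1 t.1 x.1).symm }
  have hdvd : p ∣ Nat.card S := by
    rw [Nat.card_eq_fintype_card, Module.card_eq_pow_finrank (K := F)]
    refine dvd_pow ?_ (fun h0 => hS (Submodule.finrank_eq_zero.1 h0))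
    obtain ⟨k, -, hk⟩ := FiniteField.card F p
    rw [hk]
    exact dvd_pow_self _ k.ne_zero
  obtain ⟨b, hb, hne⟩ := hU.exists_fixed_point_of_prime_dvd_card_of_fixed_point S hdvd
    (a := (0 : S)) fun s => Subtype.ext (show suVal s.1 *ᵥ (0 : V) = 0 from Matrix.mulVec_zero _)
  exact ⟨b.1, b.2, fun h0 => hne (Subtype.ext h0.symm), fun s hs => congrArg Subtype.val (hb ⟨s, hs⟩)⟩

include hF

theorem hL_surjective {e : V} (he : e ≠ 0) : Function.Surjective (hL (q := q) e) :=
  LinearMap.surjective_of_ne_zero fun h0 => he (eq_zero_of_h hF fun v =>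
    h_comm_zero hF (by rw [← hL_apply (q := q), h0, LinearMap.zero_apply]))

/-- Two orthogonal isotropic vectors are proportional. -/
theorem exists_smul_of_orth {e r : V} (he : e ≠ 0) (hee : h e e = 0) (hrr : h r r = 0) (hre : h r e = 0) :
    ∃ a : F, r = a • e := by
  by_contra hcon
  push Not at hcon
  obtain ⟨x, hx⟩ := hL_surjective hF he 1
  rw [hL_apply] at hx
  set a := h x r
  -- `h y (r - conj a • e)` vanishes everywhere
  have hK : ∀ y, h y e = 0 → h y r = 0 := by
    have hli : LinearIndependent F ![e, r] := by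
      refine (LinearIndependent.pair_iff' he).2 fun c => (hcon c).symm
    have hdim := LinearMap.finrank_range_add_finrank_ker (hL (q := q) e)
    rw [LinearMap.range_eq_top.2 (hL_surjective hF he), finrank_top, Module.finrank_self, Module.finrank_pi,
      Fintype.card_fin] at hdim
    have hle : Submodule.span F (Set.range ![e, r]) ≤ LinearMap.ker (hL (q := q) e) := by
      rw [Submodule.span_le]
      rintro _ ⟨i, rfl⟩
      fin_cases i
      · exact hee
      · exact hre
    have heq := Submodule.eq_of_le_of_finrank_le hle (by rw [finrank_span_eq_card hli, Fintype.card_fin]; omega)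
    intro y hy
    have hle2 : Submodule.span F (Set.range ![e, r]) ≤ LinearMap.ker (hL (q := q) r) := by
      rw [Submodule.span_le]
      rintro _ ⟨i, rfl⟩
      fin_cases i
      · exact h_comm_zero hF hre
      · exact hrr
    exact hle2 (heq.symm ▸ (show y ∈ LinearMap.ker (hL (q := q) e) from hy))
  refine hcon (qFrob hF a) (sub_eq_zero.1 (eq_zero_of_h hF fun y => h_comm_zero hF ?_))
  have h1 : h (y - h y e • x) r = 0 := hK _ (by
    rw [h_sub_left, h_smul_left, hx, mul_one, sub_self])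
  rw [h_sub_left, h_smul_left] at h1
  rw [h_sub_right hF, h_smul_right hF, cj_cj hF]
  linear_combination h1

/-- The derived group of the stabiliser of an isotropic point consists of `p`-elements. -/
theorem commutator_pElement {e : V} (he : e ≠ 0) (hee : h e e = 0) {s t : SU 3 F q} {l m : F}
    (hs : suVal s *ᵥ e = l • e) (ht : suVal t *ᵥ e = m • e) :
    ∃ k : ℕ, (s * t * s⁻¹ * t⁻¹) ^ p ^ k = 1 := by
  classical
  set W := LinearMap.ker (hL (q := q) e)
  have hscale : ∀ (u : SU 3 F q) (j : F), suVal u *ᵥ e = j • e →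
      ∀ x, qFrob hF j * h (suVal u *ᵥ x) e = h x e := fun u j hu x => by
    have := su_form u x e
    rwa [hu, h_smul_right hF] at this
  have hne : ∀ (u : SU 3 F q) (j : F), suVal u *ᵥ e = j • e → j ≠ 0 := fun u j hu h0 =>
    he (su_injective u (by rw [hu, h0, zero_smul]))
  have hW : ∀ (u : SU 3 F q) (j : F), suVal u *ᵥ e = j • e → ∀ x ∈ W, suVal u *ᵥ x ∈ W := fun u j hu x hx => by
    have h1 := hscale u j hu x
    rw [show h x e = 0 from hx] at h1
    exact (mul_eq_zero.1 h1).resolve_left ((map_ne_zero (qFrob hF)).2 (hne u j hu))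
  -- the quotient `W / ⟨e⟩` is one-dimensional
  have hdim := LinearMap.finrank_range_add_finrank_ker (hL (q := q) e)
  rw [LinearMap.range_eq_top.2 (hL_surjective hF he), finrank_top, Module.finrank_self, Module.finrank_pi,
    Fintype.card_fin] at hdim
  change 1 + finrank F W = 3 at hdim
  obtain ⟨w, hw, hwe⟩ : ∃ w ∈ W, w ∉ Submodule.span F {e} := SetLike.not_le_iff_exists.1 fun hle => by
    have := Submodule.finrank_mono hle
    rw [finrank_span_singleton he] at this
    omega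
  have hspan : ∀ x ∈ W, ∃ a b : F, x = a • e + b • w := fun x hx => by
    have hle : Submodule.span F {e} ⊔ Submodule.span F {w} ≤ W :=
      sup_le ((Submodule.span_singleton_le_iff_mem _ _).2 hee) ((Submodule.span_singleton_le_iff_mem _ _).2 hw)
    have heq := Submodule.eq_of_le_of_finrank_le hle (by
      rw [Submodule.finrank_sup_span_singleton hwe, finrank_span_singleton he]; omega)
    obtain ⟨a, ha, b, hb, rfl⟩ := Submodule.mem_sup.1 (heq.symm ▸ hx)
    obtain ⟨a, rfl⟩ := Submodule.mem_span_singleton.1 ha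
    obtain ⟨b, rfl⟩ := Submodule.mem_span_singleton.1 hb
    exact ⟨a, b, rfl⟩
  obtain ⟨a1, b1, hw1⟩ := hspan _ (hW s l hs w hw)
  obtain ⟨a2, b2, hw2⟩ := hspan _ (hW t m ht w hw)
  set c := s * t * s⁻¹ * t⁻¹ with hc
  have hts : suVal (t * s) *ᵥ e = (m * l) • e := by
    rw [← act_comp, hs, Matrix.mulVec_smul, ht, smul_smul, mul_comm]
  have hst : suVal (s * t) *ᵥ e = (m * l) • e := by
    rw [← act_comp, ht, Matrix.mulVec_smul, hs, smul_smul]
  have hkey : ∀ x, suVal c *ᵥ (suVal (t * s) *ᵥ x) = suVal (s * t) *ᵥ x := fun x => by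
    rw [act_comp, hc]; group
  have hce : suVal c *ᵥ e = e := by
    have h1 := hkey e
    rw [hts, hst, Matrix.mulVec_smul] at h1
    exact smul_right_injective V (mul_ne_zero (hne t m ht) (hne s l hs)) h1
  have hcW : ∀ y ∈ W, ∃ a : F, suVal c *ᵥ y - y = a • e := fun y hy => by
    have hinv : suVal (t * s)⁻¹ *ᵥ e = (m * l)⁻¹ • e := by
      have h1 := act_inv_act (t * s) e
      rw [hts, Matrix.mulVec_smul] at h1
      rw [eq_inv_smul_iff₀ (mul_ne_zero (hne t m ht) (hne s l hs))]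
      exact h1
    obtain ⟨a, b, hab⟩ := hspan _ (hW _ _ hinv y hy)
    refine ⟨b * (a2 * l + b2 * a1) - b * (a1 * m + b1 * a2), ?_⟩
    rw [← act_act_inv (t * s) y, hkey, hab, ← act_comp s t, ← act_comp t s]
    simp only [Matrix.mulVec_add, Matrix.mulVec_smul, hs, ht, hw1, hw2, smul_add, smul_smul]
    module
  have hcV : ∀ y, suVal c *ᵥ y - y ∈ W := fun y => by
    have h1 := hscale c 1 (by rw [hce, one_smul]) y
    rw [map_one, one_mul] at h1
    show h (suVal c *ᵥ y - y) e = 0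
    rw [h_sub_left, h1, sub_self]
  refine ⟨2, suVal_ext ?_⟩
  have hpow : ∀ k : ℕ, suVal (c ^ k) = suVal c ^ k := fun k => by
    induction k with
    | zero => rfl
    | succ k ih => rw [pow_succ, suVal_mul, ih, pow_succ]
  have hcube : (suVal c - 1) ^ 3 = 0 := by
    refine Matrix.ext_iff_mulVec.2 fun y => ?_
    have hN : ∀ z, (suVal c - 1) *ᵥ z = suVal c *ᵥ z - z := fun z => by rw [Matrix.sub_mulVec, Matrix.one_mulVec]
    rw [pow_succ, pow_two, ← Matrix.mulVec_mulVec, ← Matrix.mulVec_mulVec, hN y]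
    obtain ⟨a, ha⟩ := hcW _ (hcV y)
    rw [hN (suVal c *ᵥ y - y), ha, hN, Matrix.mulVec_smul, hce, sub_self, Matrix.zero_mulVec]
  haveI : CharP (Matrix (Fin 3) (Fin 3) F) p := inferInstance
  have h3 : 3 ≤ p ^ 2 := by have := (Fact.out : p.Prime).two_le; nlinarith
  have h4 := sub_pow_char_pow_of_commute p 2 (Commute.one_right (suVal c))
  rw [one_pow, pow_eq_zero_of_le h3 hcube] at h4
  rw [hpow]
  exact sub_eq_zero.1 h4.symm

/-- The normaliser of a non-trivial `p`-subgroup of `PSU₃` fixes an isotropic point. -/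
theorem exists_isotropic_fixed {Vp : Subgroup PS} (hV : IsPGroup p Vp) (hne : Vp ≠ ⊥) :
    ∃ e : V, e ≠ 0 ∧ h e e = 0 ∧ ∀ s : SU 3 F q, π s ∈ Subgroup.normalizer (Vp : Set PS) →
      ∃ l : F, suVal s *ᵥ e = l • e := by
  classical
  set K := Vp.comap π
  have hK : Group.IsNilpotent K := by
    haveI : Finite Vp := inferInstance
    haveI : Group.IsNilpotent Vp := hV.isNilpotent
    refine Subgroup.isNilpotent_of_ker_le_center ((suToPSU 3 F q).subgroupComap Vp) (fun x hx => ?_)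
    have hx' : π (x : SU 3 F q) = 1 := congrArg Subtype.val hx
    refine Subgroup.mem_center_iff.2 fun y => Subtype.ext ?_
    exact Subgroup.mem_center_iff.1 ((QuotientGroup.eq_one_iff (x : SU 3 F q)).1 hx') y
  obtain ⟨P0⟩ := (inferInstance : Nonempty (Sylow p K))
  have hnormal : (P0 : Subgroup K).Normal := inferInstance
  set U := (P0 : Subgroup K).map K.subtype
  have hUp : IsPGroup p U := P0.2.map _
  have hUiff : ∀ s, s ∈ U ↔ π s ∈ Vp ∧ ∃ k, s ^ p ^ k = 1 := by
    intro s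
    constructor
    · intro hs
      obtain ⟨k, hk⟩ := hUp ⟨s, hs⟩
      have hk' : s ^ p ^ k = 1 := congrArg Subtype.val hk
      obtain ⟨x, -, rfl⟩ := hs
      exact ⟨x.2, k, hk'⟩
    · rintro ⟨hs, k, hk⟩
      obtain ⟨i, -, hi⟩ := (Nat.dvd_prime_pow (Fact.out : p.Prime)).1
        (orderOf_dvd_of_pow_eq_one (x := (⟨s, hs⟩ : K)) (Subtype.ext (by simpa using hk)))
      have hz : IsPGroup p (Subgroup.zpowers (⟨s, hs⟩ : K)) := IsPGroup.of_card (n := i) (by rw [Nat.card_zpowers, hi])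
      exact ⟨⟨s, hs⟩, P0.3 (hz.to_sup_of_normal_right P0.2) le_sup_right ▸
        Subgroup.mem_sup_left (Subgroup.mem_zpowers _), rfl⟩
  have hsurj : ∀ v ∈ Vp, ∃ u ∈ U, π u = v := by
    intro v hv
    obtain ⟨s, rfl⟩ := pi_surjective (n := 3) (q := q) v
    have hP : ((P0 : Subgroup K).map ((suToPSU 3 F q).subgroupComap Vp)) = ⊤ :=
      Fus.sylow_map_eq_top hV P0 fun y => by
        obtain ⟨z, hz⟩ := pi_surjective (n := 3) (q := q) (y : PS)
        exact ⟨⟨z, show π z ∈ Vp from hz.symm ▸ y.2⟩, Subtype.ext hz⟩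
    obtain ⟨x, hx, hxs⟩ := hP.symm ▸ Subgroup.mem_top (⟨π s, hv⟩ : Vp)
    exact ⟨x, ⟨x, hx, rfl⟩, congrArg Subtype.val hxs⟩
  -- the fixed space
  let W0 : Submodule F V :=
    { carrier := {x | ∀ s ∈ U, suVal s *ᵥ x = x}
      add_mem' := fun {x y} hx hy s hs => by rw [Matrix.mulVec_add, hx s hs, hy s hs]
      zero_mem' := fun s _ => Matrix.mulVec_zero _
      smul_mem' := fun a x hx s hs => by rw [Matrix.mulVec_smul, hx s hs] }
  let W1 : Submodule F V := ⨅ z : W0, LinearMap.ker (hL (q := q) (z : V))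
  have hW1 : ∀ {x}, x ∈ W1 ↔ ∀ z ∈ W0, h x z = 0 := by
    intro x; simp [W1, hL_apply]
  have hW1inv : ∀ u ∈ U, ∀ x ∈ W1, suVal u *ᵥ x ∈ W1 := fun u hu x hx => hW1.2 fun z hz => by
    rw [← hz u hu, su_form]; exact hW1.1 hx z hz
  have hR : ∃ r ∈ W0, r ∈ W1 ∧ r ≠ 0 := by
    by_contra hcon
    push Not at hcon
    have h1 : W1 = ⊥ := by
      by_contra h1
      obtain ⟨x, hx, hx0, hfix⟩ := exists_fixed hUp h1 hW1inv
      exact hx0 (hcon x hfix hx)
    have h0 : W0 = ⊤ := by
      let b := Module.finBasis F W0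
      let f : V →ₗ[F] (Fin (finrank F W0) → F) := LinearMap.pi fun i => hL (q := q) (b i : V)
      have hf : Function.Injective f := (injective_iff_map_eq_zero f).2 fun x hx => by
        have : x ∈ W1 := hW1.2 fun z hz => by
          have hg : (hL (q := q) x).comp W0.subtype = 0 := b.ext fun i => by
            show h (b i : V) x = 0
            exact h_comm_zero hF (show f x i = 0 by rw [hx]; rfl)
          exact h_comm_zero hF (LinearMap.congr_fun hg ⟨z, hz⟩)
        rwa [h1, Submodule.mem_bot] at this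
      have h2 := LinearMap.finrank_le_finrank_of_injective hf
      rw [Module.finrank_pi, Module.finrank_pi, Fintype.card_fin, Fintype.card_fin] at h2
      exact Submodule.eq_top_of_finrank_eq (le_antisymm (Submodule.finrank_le _)
        (by rw [Module.finrank_pi, Fintype.card_fin]; exact h2))
    refine hne (Subgroup.eq_bot_iff_forall _ |>.2 fun v hv => ?_)
    obtain ⟨u, hu, rfl⟩ := hsurj v hv
    have : suVal u = suVal (1 : SU 3 F q) := Matrix.ext_iff_mulVec.2 fun x => by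
      rw [act_one]; exact (h0.symm ▸ Submodule.mem_top : x ∈ W0) u hu
    rw [suVal_ext this, map_one]
  obtain ⟨e, he0, he1, hne0⟩ := hR
  have hee : h e e = 0 := hW1.1 he1 e he0
  refine ⟨e, hne0, hee, fun s hs => ?_⟩
  have hconj : ∀ a : SU 3 F q, π a ∈ Subgroup.normalizer (Vp : Set PS) → ∀ u ∈ U, a * u * a⁻¹ ∈ U := by
    intro a ha u hu
    obtain ⟨h1, k, hk⟩ := (hUiff u).1 hu
    refine (hUiff _).2 ⟨?_, k, by rw [conj_pow, hk]; group⟩
    rw [map_mul, map_mul, map_inv]
    exact (Subgroup.mem_normalizer_iff.1 ha _).1 h1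
  have hmem0 : ∀ a : SU 3 F q, π a ∈ Subgroup.normalizer (Vp : Set PS) → ∀ x ∈ W0, suVal a *ᵥ x ∈ W0 := by
    intro a ha x hx u hu
    have h1 := hconj a⁻¹ (by rw [map_inv]; exact inv_mem ha) u hu
    rw [inv_inv] at h1
    calc suVal u *ᵥ (suVal a *ᵥ x) = suVal a *ᵥ (suVal (a⁻¹ * u * a) *ᵥ x) := by
          rw [act_comp, act_comp]; group
      _ = suVal a *ᵥ x := by rw [hx _ h1]
  refine exists_smul_of_orth hF hne0 hee ((su_form s e e).trans hee) ?_
  have h2 := hmem0 s⁻¹ (by rw [map_inv]; exact inv_mem hs) e he0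
  have h3 : h e (suVal s⁻¹ *ᵥ e) = 0 := hW1.1 he1 _ h2
  rw [← su_form s e (suVal s⁻¹ *ᵥ e), act_act_inv] at h3
  exact h3

theorem not_involves : ¬ Involves ↥(qd p) PS := by
  intro hinv
  obtain ⟨Vp, hVp, φ, hφ, hA⟩ := Fus.grpQdWitness_of_involves hinv
  have hne : Vp ≠ ⊥ := by
    rintro rfl
    obtain ⟨v, hv⟩ := hφ (Multiplicative.ofAdd ![1, 0])
    rw [Subsingleton.elim v 1, map_one] at hv
    exact one_ne_zero (congrFun (Multiplicative.ofAdd.injective hv.symm) 0)
  obtain ⟨e, he, hee, hfix⟩ := exists_isotropic_fixed hF hVp hne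
  let Ind : PS → Matrix.SpecialLinearGroup (Fin 2) (ZMod p) → Prop := fun x g =>
    ∃ hx : x ∈ Subgroup.normalizer (Vp : Set PS),
      ∀ v : Vp, φ (Vp.normalizerMonoidHom ⟨x, hx⟩ v) = Fus.matAct g (φ v)
  have hmul : ∀ {x y g k}, Ind x g → Ind y k → Ind (x * y) (g * k) := by
    rintro x y g k ⟨hx, h1⟩ ⟨hy, h2⟩
    refine ⟨mul_mem hx hy, fun v => ?_⟩
    rw [show (⟨x * y, mul_mem hx hy⟩ : Subgroup.normalizer (Vp : Set PS)) = ⟨x, hx⟩ * ⟨y, hy⟩ from rfl, map_mul,
      MulAut.mul_apply, h1, h2, Fus.matAct_mul]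
  have hinvI : ∀ {x g}, Ind x g → Ind x⁻¹ g⁻¹ := by
    rintro x g ⟨hx, h1⟩
    refine ⟨inv_mem hx, fun v => ?_⟩
    have h2 := h1 (Vp.normalizerMonoidHom ⟨x⁻¹, inv_mem hx⟩ v)
    rw [← MulAut.mul_apply, ← map_mul, show (⟨x, hx⟩ : Subgroup.normalizer (Vp : Set PS)) * ⟨x⁻¹, inv_mem hx⟩ = 1
      from Subtype.ext (mul_inv_cancel x), map_one, MulAut.one_apply] at h2
    conv_rhs => rw [h2]
    rw [← Fus.matAct_mul, inv_mul_cancel, Fus.matAct_one]
  have hex : ∀ g, ∃ x, Ind x g := fun g => by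
    obtain ⟨α, ⟨x, hx⟩, hg⟩ := hA g
    refine ⟨x, Fus.mem_normalizer_of_innerBy hx, fun v => ?_⟩
    rw [show Vp.normalizerMonoidHom ⟨x, Fus.mem_normalizer_of_innerBy hx⟩ v = α v from Subtype.ext (hx v).symm, hg]
  let A : Matrix.SpecialLinearGroup (Fin 2) (ZMod p) := ⟨!![0, -1; 1, 0], by simp [Matrix.det_fin_two]⟩
  let B : Matrix.SpecialLinearGroup (Fin 2) (ZMod p) := ⟨!![1, 1; 0, 1], by simp [Matrix.det_fin_two]⟩
  obtain ⟨x, hx⟩ := hex A
  obtain ⟨y, hy⟩ := hex B
  obtain ⟨s, rfl⟩ := pi_surjective (n := 3) (q := q) x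
  obtain ⟨t, rfl⟩ := pi_surjective (n := 3) (q := q) y
  obtain ⟨l, hl⟩ := hfix s hx.1
  obtain ⟨m, hm⟩ := hfix t hy.1
  obtain ⟨k, hk⟩ := commutator_pElement hF (p := p) he hee hl hm
  have hC := hmul (hmul (hmul hx hy) (hinvI hx)) (hinvI hy)
  have hpow : ∀ i : ℕ, Ind ((π s * π t * (π s)⁻¹ * (π t)⁻¹) ^ i) ((A * B * A⁻¹ * B⁻¹) ^ i) := fun i => by
    induction i with
    | zero => exact ⟨one_mem _, fun v => by
        rw [show (⟨(π s * π t * (π s)⁻¹ * (π t)⁻¹) ^ 0, one_mem _⟩ : Subgroup.normalizer (Vp : Set PS)) = 1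
          from rfl, map_one, MulAut.one_apply, pow_zero, Fus.matAct_one]⟩
    | succ i ih => rw [pow_succ, pow_succ]; exact hmul ih hC
  obtain ⟨hx', h1⟩ := hpow (p ^ k)
  have hone : (π s * π t * (π s)⁻¹ * (π t)⁻¹) ^ p ^ k = 1 := by
    rw [← map_inv, ← map_inv, ← map_mul, ← map_mul, ← map_mul, ← map_pow, hk, map_one]
  have hg : (A * B * A⁻¹ * B⁻¹) ^ p ^ k = 1 := Fus.eq_of_matAct_eq fun v => by
    obtain ⟨v, rfl⟩ := hφ v
    rw [Fus.matAct_one, ← h1, show (⟨_, hx'⟩ : Subgroup.normalizer (Vp : Set PS)) = 1 from Subtype.ext hone,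
      map_one, MulAut.one_apply]
  -- a unipotent matrix of size two has trace two, this commutator trace three
  let M : Matrix (Fin 2) (Fin 2) (ZMod p) := ((A * B * A⁻¹ * B⁻¹ : Matrix.SpecialLinearGroup (Fin 2) (ZMod p)) : _)
  have hnil : IsNilpotent (M - 1) := ⟨p ^ k, by
    haveI : CharP (Matrix (Fin 2) (Fin 2) (ZMod p)) p := inferInstance
    rw [sub_pow_char_pow_of_commute p k (Commute.one_right M), one_pow, ← Matrix.SpecialLinearGroup.coe_pow, hg,
      Matrix.SpecialLinearGroup.coe_one, sub_self]⟩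
  have htr := (Matrix.isNilpotent_trace_of_isNilpotent hnil).eq_zero
  let C : Matrix.SpecialLinearGroup (Fin 2) (ZMod p) := ⟨!![1, -1; -1, 2], by simp [Matrix.det_fin_two]; ring⟩
  have hC' : A * B * A⁻¹ * B⁻¹ = C := by
    rw [mul_inv_eq_iff_eq_mul, mul_inv_eq_iff_eq_mul]
    refine Subtype.ext ?_
    rw [Matrix.SpecialLinearGroup.coe_mul, Matrix.SpecialLinearGroup.coe_mul, Matrix.SpecialLinearGroup.coe_mul]
    ext i j
    fin_cases i <;> fin_cases j <;> simp [A, B, C, Matrix.mul_apply, Fin.sum_univ_two] <;> ring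
  have hM : Matrix.trace (M - 1) = 1 := by
    simp only [M, hC']
    simp [C, Matrix.trace_fin_two]
  rw [hM] at htr
  exact one_ne_zero htr

end Cfsg.Agent.Lie.PSUThreeQd
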