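import Cfsg.Agent.Lib.Lie.PresOn
import Cfsg.Agent.Lib.Lie.PresBound

/-!
Gluing two presentations on prescribed generators.
-/

set_option autoImplicit false

namespace Cfsg.Agent.Lie.Pres

open Monoid (Coprod)

universe u v w

/-- Two presented groups glued along further equations. -/
theorem presOn_coprod {A : Type u} [Group A] {B : Type v} [Group B] {T : Type w} [Group T] {α β : Type}
    {uA : α → A} {uB : β → B} {r s : ℕ} (hA : PresOn uA r) (hB : PresOn uB s) (i : A →* T) (j : B →* T)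
    (E : List (Coprod A B)) (hE : ∀ x ∈ E, Coprod.lift i j x = 1)
    (h : ∀ (G : Type) [Group G] (i' : A →* G) (j' : B →* G) (π : G →* T),
      i'.range ⊔ j'.range = ⊤ → π.comp i' = i → π.comp j' = j →
      (∀ x ∈ E, Coprod.lift i' j' x = 1) → Function.Bijective π) :
    PresOn (Sum.elim (i ∘ uA) (j ∘ uB)) (r + s + E.length) := by
  classical
  obtain ⟨LA, hlA, hA0, huA⟩ := hA.lifts
  obtain ⟨LB, hlB, hB0, huB⟩ := hB.lifts
  let φ : FreeGroup (α ⊕ β) →* Coprod A B :=
    FreeGroup.lift (Sum.elim (fun a => Coprod.inl (uA a)) fun b => Coprod.inr (uB b))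
  have hφl : φ.comp (FreeGroup.map Sum.inl) = Coprod.inl.comp (FreeGroup.lift uA) :=
    FreeGroup.ext_hom _ _ fun a => by simp [φ]
  have hφr : φ.comp (FreeGroup.map Sum.inr) = Coprod.inr.comp (FreeGroup.lift uB) :=
    FreeGroup.ext_hom _ _ fun b => by simp [φ]
  have hφs : Function.Surjective φ := by
    intro x
    induction x using Monoid.Coprod.induction_on' with
    | one => exact ⟨1, map_one _⟩
    | inl_mul a x ih =>
      obtain ⟨y, rfl⟩ := ih
      obtain ⟨z, rfl⟩ := hA.surjective a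
      exact ⟨FreeGroup.map Sum.inl z * y, by rw [map_mul]; exact congrArg (· * φ y) (DFunLike.congr_fun hφl z)⟩
    | inr_mul b x ih =>
      obtain ⟨y, rfl⟩ := ih
      obtain ⟨z, rfl⟩ := hB.surjective b
      exact ⟨FreeGroup.map Sum.inr z * y, by rw [map_mul]; exact congrArg (· * φ y) (DFunLike.congr_fun hφr z)⟩
  choose pre hpre using hφs
  let L := (LA.map (FreeGroup.map Sum.inl) ++ LB.map (FreeGroup.map Sum.inr)) ++ E.map pre
  let v : α ⊕ β → T := Sum.elim (i ∘ uA) (j ∘ uB)
  have hv : FreeGroup.lift v = (Coprod.lift i j).comp φ := FreeGroup.ext_hom _ _ fun x => by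
    rcases x with a | b <;> simp [v, φ]
  have hrel : ∀ x ∈ (L.toFinset : Set (FreeGroup (α ⊕ β))), FreeGroup.lift v x = 1 := by
    intro x hx
    rw [hv, MonoidHom.comp_apply]
    rcases List.mem_append.1 (List.mem_toFinset.1 (Finset.mem_coe.1 hx)) with hx | hx
    · rcases List.mem_append.1 hx with hx | hx <;> obtain ⟨y, hy, rfl⟩ := List.mem_map.1 hx
      · rw [show φ (FreeGroup.map Sum.inl y) = Coprod.inl (FreeGroup.lift uA y) from DFunLike.congr_fun hφl y,
          hA0 y hy, map_one, map_one]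
      · rw [show φ (FreeGroup.map Sum.inr y) = Coprod.inr (FreeGroup.lift uB y) from DFunLike.congr_fun hφr y,
          hB0 y hy, map_one, map_one]
    · obtain ⟨y, hy, rfl⟩ := List.mem_map.1 hx
      rw [hpre]; exact hE y hy
  set mk := PresentedGroup.mk (L.toFinset : Set (FreeGroup (α ⊕ β))) with hmk
  have hL : ∀ x ∈ L, mk x = 1 := fun x hx =>
    PresentedGroup.one_of_mem (Finset.mem_coe.2 (List.mem_toFinset.2 hx))
  obtain ⟨i', hi'⟩ := huA _ (mk.comp (FreeGroup.map Sum.inl)) fun x hx =>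
    hL _ (List.mem_append_left _ (List.mem_append_left _ (List.mem_map.2 ⟨x, hx, rfl⟩)))
  obtain ⟨j', hj'⟩ := huB _ (mk.comp (FreeGroup.map Sum.inr)) fun x hx =>
    hL _ (List.mem_append_left _ (List.mem_append_right _ (List.mem_map.2 ⟨x, hx, rfl⟩)))
  have hiu : ∀ a, i' (uA a) = mk (FreeGroup.of (Sum.inl a)) := fun a => by
    simpa using DFunLike.congr_fun hi' (FreeGroup.of a)
  have hju : ∀ b, j' (uB b) = mk (FreeGroup.of (Sum.inr b)) := fun b => by
    simpa using DFunLike.congr_fun hj' (FreeGroup.of b)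
  have hof : ∀ x, PresentedGroup.toGroup hrel (mk (FreeGroup.of x)) = v x := fun x => PresentedGroup.toGroup.of hrel
  have hcomp : (Coprod.lift i' j').comp φ = mk := FreeGroup.ext_hom _ _ fun x => by
    rcases x with a | b <;> simp [φ, hiu, hju]
  refine ⟨L.toFinset, (List.toFinset_card_le _).trans (by simp [L]; omega),
    MulEquiv.ofBijective (PresentedGroup.toGroup hrel) (h _ i' j' _ ?_ ?_ ?_ fun x hx => ?_),
    fun x => PresentedGroup.toGroup.of hrel⟩
  · rw [eq_top_iff, ← Monoid.Coprod.range_lift i' j']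
    intro x _
    obtain ⟨z, rfl⟩ := PresentedGroup.mk_surjective _ x
    exact ⟨φ z, DFunLike.congr_fun hcomp z⟩
  · exact hA.hom_ext fun a => by rw [MonoidHom.comp_apply, hiu, hof]; rfl
  · exact hB.hom_ext fun b => by rw [MonoidHom.comp_apply, hju, hof]; rfl
  · rw [← hpre x, ← MonoidHom.comp_apply, hcomp]
    exact hL _ (List.mem_append_right _ (List.mem_map.2 ⟨x, hx, rfl⟩))

end Cfsg.Agent.Lie.Pres
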