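import Cfsg.Agent.Lib.Lie.AltGlueMake
import Cfsg.Agent.Lib.Lie.AltPresSix
import Cfsg.Agent.Lib.Lie.AltPresPrime
import Cfsg.Agent.Lib.Lie.BertrandShort

/-!
Few relations for the symmetric and alternating groups.
-/

set_option autoImplicit false
set_option linter.unusedSectionVars false

namespace Cfsg.Agent.Lie.AltGlue

open Equiv Cfsg.Agent.Lie.Carmichael
open Cfsg.Agent.Lie.Pres (PresOn presOn_of_rels)

/-- Three generators, seven relations, and a two-element generating set keeping one of them. -/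
def Good (H : Type*) [Group H] : Prop :=
  ∃ v : Fin 3 → H, PresOn v 7 ∧ ∃ y, Subgroup.closure ({v 0, y} : Set H) = ⊤

theorem Good.congr {H : Type*} [Group H] {H' : Type*} [Group H'] (h : Good H) (e : H ≃* H') : Good H' := by
  obtain ⟨v, hv, y, hy⟩ := h
  refine ⟨fun a => e (v a), hv.congr e, e y, ?_⟩
  have := congrArg (Subgroup.map e.toMonoidHom) hy
  rw [MonoidHom.map_closure, Set.image_pair, Subgroup.map_top_of_surjective e.toMonoidHom e.surjective] at this
  exact this

/-- One further generator costs one relation. -/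
theorem add_gen {α : Type} {H : Type*} [Group H] {v : α → H} {r : ℕ} (h : PresOn v r) (y : H) :
    PresOn (Sum.elim v fun _ : Unit => y) (r + 1) := by
  obtain ⟨wy, hwy⟩ := h.surjective y
  have := h.extend (MonoidHom.id H) (fun _ : Unit => y)
    (by rw [MonoidHom.range_eq_top.2 Function.surjective_id, top_sup_eq])
    [FreeGroup.of (Sum.inr ()) * (FreeGroup.map Sum.inl wy)⁻¹] ?_ ?_
  · exact this
  · intro x hx
    rw [List.mem_singleton] at hx
    subst hx
    rw [map_mul, map_inv, mul_inv_eq_one, FreeGroup.lift_apply_of]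
    refine hwy.symm.trans (Eq.symm ?_)
    exact DFunLike.congr_fun (FreeGroup.ext_hom ((FreeGroup.lift _).comp (FreeGroup.map Sum.inl))
      (FreeGroup.lift v) fun a => by simp) wy
  · intro G _ f ι π hgen hf hπι _ hall
    have h1 := hall _ (List.mem_singleton_self _)
    rw [map_mul, map_inv, mul_inv_eq_one, hf] at h1
    have hsur : Function.Surjective ι := by
      rw [← MonoidHom.range_eq_top, eq_top_iff, ← hgen, sup_le_iff, Subgroup.closure_le]
      refine ⟨le_rfl, ?_⟩
      rintro _ ⟨⟨⟩, rfl⟩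
      exact ⟨_, h1.symm⟩
    intro a b hab
    obtain ⟨a, rfl⟩ := hsur a
    obtain ⟨b, rfl⟩ := hsur b
    rw [← MonoidHom.comp_apply, ← MonoidHom.comp_apply, hπι] at hab
    exact congrArg ι hab

/-- Two generators and one more, numbered. -/
theorem numbered {H : Type*} [Group H] {v : Fin 2 → H} {y : H} {r : ℕ}
    (h : PresOn (Sum.elim v fun _ : Unit => y) r) :
    ∃ w : Fin 3 → H, PresOn w r ∧ w 0 = v 0 :=
  ⟨_, h.reindex ((finSumFinEquiv (m := 2) (n := 1)).symm.trans
    (Equiv.sumCongr (Equiv.refl _) finOneEquiv)), rfl⟩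

/-! ### A mate for a three-cycle -/

theorem full_long {α : Type*} [DecidableEq α] [Fintype α] {H : Subgroup (Perm α)} {h : Perm α} (hh : h ∈ H)
    {x : ℕ → α} (hstep : ∀ i, h (x i) = x (i + 1)) (hne : ∀ i, x i ≠ x (i + 1)) (hne2 : ∀ i, x i ≠ x (i + 2))
    (ht : cyc3 (x 0) (x 1) (x 2) ∈ H) (J : Finset α) (hJ : ∀ y ∈ J, ∃ i, x i = y) : Full H J := by
  classical
  have hstepn : ∀ n i, (h ^ n) (x i) = x (i + n) := by
    intro n
    induction n with
    | zero => simp
    | succ n ih => intro i; rw [pow_succ', Perm.mul_apply, ih, hstep, add_assoc]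
  have htri : ∀ i, Full H {x i, x (i + 1), x (i + 2)} := by
    intro i
    refine full_triple (hne i) ?_
    have := mul_mem (mul_mem (pow_mem hh i) ht) (inv_mem (pow_mem hh i))
    rwa [conj_cyc3, hstepn, hstepn, hstepn, zero_add, add_comm 1 i, add_comm 2 i] at this
  have key : ∀ n, Full H ((Finset.range (n + 3)).image x) := by
    intro n
    induction n with
    | zero =>
      refine (htri 0).mono fun y hy => ?_
      simp only [Finset.mem_image, Finset.mem_range] at hy
      obtain ⟨i, hi, rfl⟩ := hy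
      rcases (show i = 0 ∨ i = 1 ∨ i = 2 by omega) with rfl | rfl | rfl <;> simp
    | succ n ih =>
      refine (ih.union (htri (n + 1)) (hne (n + 1)) (a := x (n + 1)) (b := x (n + 2))
        (Finset.mem_image.2 ⟨n + 1, by simp, rfl⟩) (Finset.mem_image.2 ⟨n + 2, by simp, rfl⟩)
        (by simp) (by simp)).mono fun y hy => ?_
      simp only [Finset.mem_image, Finset.mem_range] at hy
      obtain ⟨i, hi, rfl⟩ := hy
      rcases lt_or_eq_of_le (Nat.lt_succ_iff.1 hi) with hi | rfl
      · exact Finset.mem_union_left _ (Finset.mem_image.2 ⟨i, by simp; omega, rfl⟩)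
      · exact Finset.mem_union_right _ (by simp)
  refine Full.mono (Y := insert (x 0) (insert (x 1) J)) ?_
    ((Finset.subset_insert _ _).trans (Finset.subset_insert _ _))
  refine full_of_star (a := x 0) (b := x 1) (hne 0) (by simp) (by simp) fun y hy h1 h2 => ?_
  simp only [Finset.mem_insert] at hy
  obtain ⟨i, rfl⟩ := hJ y ((hy.resolve_left h1).resolve_left h2)
  exact (key i).cyc3_mem (Finset.mem_image.2 ⟨0, by simp, rfl⟩) (Finset.mem_image.2 ⟨1, by simp, rfl⟩)
    (Finset.mem_image.2 ⟨i, by simp, rfl⟩) (hne 0) (Ne.symm h1)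

/-- A permutation which with the first three-cycle generates every even permutation. -/
theorem exists_mate (m : ℕ) (hm : 2 ≤ m) (odd : Bool) :
    ∃ y : Perm (Pt (Fin m)), Perm.sign y = cond odd (-1) 1 ∧
      ∀ H : Subgroup (Perm (Pt (Fin m))), y ∈ H → (cyc (⟨0, by omega⟩ : Fin m)).1 ∈ H →
        Full H Finset.univ := by
  classical
  set o : Fin m := ⟨0, by omega⟩
  by_cases hpar : (Even m ↔ odd = true)
  · -- the whole cycle
    set N := m + 2 with hN
    haveI : NeZero N := ⟨by omega⟩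
    have hJ : 0 + N ≤ m + 2 := by omega
    refine ⟨cycOn (jEmb 0 N hJ), ?_, fun H hy hx => ?_⟩
    · rw [cycOn, sign_viaEmbedding, sign_finRotate, hN, show m + 2 - 1 = m + 1 by omega]
      cases odd
      · exact (Nat.not_even_iff_odd.1 fun h => by simpa using hpar.1 h).add_one.neg_one_pow
      · exact (hpar.2 rfl).add_one.neg_one_pow
    · have h2 : perPts 0 N hJ 2 = ptI o := by
        rw [perPts, jEmb_apply, jFun, dif_neg (by simp [Nat.mod_eq_of_lt (show 2 < N by omega)]),
          dif_neg (by simp [Nat.mod_eq_of_lt (show 2 < N by omega)])]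
        exact congrArg ptI (Fin.ext (by simp [o, Nat.mod_eq_of_lt (show 2 < N by omega)]))
      refine (full_long hy (perPts_step 0 N hJ) (fun i => (perPts_ne 0 N hJ (by omega) i).symm) (fun i e => ?_) ?_ _
        (jEmb_mem_per 0 N hJ)).mono fun z _ => ?_
      · have h1 : i + 0 ≡ i + 2 [MOD N] := congrArg Fin.val ((jEmb 0 N hJ).injective e)
        have h2 := (Nat.ModEq.add_left_cancel' i h1).symm
        rw [Nat.modEq_zero_iff_dvd] at h2
        have := Nat.le_of_dvd two_pos h2
        omega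
      · rw [perPts_zero, perPts_one 0 N hJ (by omega), h2]
        exact hx
      · obtain _ | _ | i := z
        · exact Finset.mem_image.2 ⟨⟨0, by omega⟩, Finset.mem_univ _, jEmb_zero hJ _⟩
        · exact Finset.mem_image.2 ⟨⟨1, by omega⟩, Finset.mem_univ _, jEmb_one hJ (by omega)⟩
        · obtain ⟨t, ht⟩ := jEmb_mem hJ (i := i) (Nat.zero_le _) (by have := i.2; omega)
          exact Finset.mem_image.2 ⟨t, Finset.mem_univ _, ht⟩
  · -- all but one point
    set N := m + 1 with hN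
    haveI : NeZero N := ⟨by omega⟩
    have hJ : 1 + N ≤ m + 2 := by omega
    refine ⟨cycOn (jEmb 1 N hJ), ?_, fun H hy hx => ?_⟩
    · rw [cycOn, sign_viaEmbedding, sign_finRotate, hN, show m + 1 - 1 = m by omega]
      cases odd
      · exact Even.neg_one_pow (by
          by_contra h
          exact hpar ⟨fun h' => absurd h' h, fun h' => absurd h' (by simp)⟩)
      · exact Odd.neg_one_pow (Nat.not_even_iff_odd.1 fun h => hpar ⟨fun _ => rfl, fun _ => h⟩)
    · have hUV : (ptU : Pt (Fin m)) ≠ ptV := by simp [ptU, ptV]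
      have hUo : (ptU : Pt (Fin m)) ≠ ptI o := by simp [ptU, ptI]
      have ht : cyc3 (perPts 1 N hJ 1) (perPts 1 N hJ 0) (ptI o) ∈ H := by
        rw [perPts_zero, perPts_one 1 N hJ (by omega)]
        have e : cyc3 (ptV : Pt (Fin m)) ptU (ptI o) = ((cyc o).1)⁻¹ := by
          rw [cyc_val, eq_inv_iff_mul_eq_one]
          refine Equiv.ext fun z => ?_
          simp only [cyc3, Perm.mul_apply, swap_apply_def, Perm.one_apply]
          split_ifs <;> simp_all [ptU, ptV, ptI]
        rw [e]; exact inv_mem hx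
      have heJ : (ptI o : Pt (Fin m)) ∉ Set.range (jEmb 1 N hJ) := jEmb_notMem hJ (Or.inl (by simp [o]))
      refine (full_cycle hy (perPts_step 1 N hJ) (cycOn_fix _ heJ) (fun i h => heJ ⟨_, h⟩)
        (perPts_ne 1 N hJ (by omega)) ht _ (jEmb_mem_per 1 N hJ)).mono fun z _ => ?_
      obtain _ | _ | i := z
      · exact Finset.mem_insert_of_mem (Finset.mem_image.2 ⟨⟨0, by omega⟩, Finset.mem_univ _, jEmb_zero hJ _⟩)
      · exact Finset.mem_insert_of_mem
          (Finset.mem_image.2 ⟨⟨1, by omega⟩, Finset.mem_univ _, jEmb_one hJ (by omega)⟩)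
      · by_cases hi : (i : ℕ) = 0
        · exact Finset.mem_insert.2 (Or.inl (congrArg ptI (Fin.ext hi)))
        · obtain ⟨t, ht⟩ := jEmb_mem hJ (i := i) (by omega) (by have := i.2; omega)
          exact Finset.mem_insert_of_mem (Finset.mem_image.2 ⟨t, Finset.mem_univ _, ht⟩)

theorem mate_alt {m : ℕ} (hm : 2 ≤ m) : ∃ y : alternatingGroup (Pt (Fin m)),
    Subgroup.closure ({cyc (⟨0, by omega⟩ : Fin m), y} : Set (alternatingGroup (Pt (Fin m)))) = ⊤ := by
  obtain ⟨y, hy, hfull⟩ := exists_mate m hm false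
  refine ⟨⟨y, Perm.mem_alternatingGroup.2 hy⟩, eq_top_iff.2 fun x _ => ?_⟩
  have h := hfull ((Subgroup.closure ({cyc (⟨0, by omega⟩ : Fin m), ⟨y, Perm.mem_alternatingGroup.2 hy⟩} :
      Set (alternatingGroup (Pt (Fin m))))).map (alternatingGroup (Pt (Fin m))).subtype)
    ⟨_, Subgroup.subset_closure (Set.mem_insert_of_mem _ rfl), rfl⟩
    ⟨_, Subgroup.subset_closure (Set.mem_insert _ _), rfl⟩ x.1 (Perm.mem_alternatingGroup.1 x.2)
    fun z hz => absurd (Finset.mem_univ z) hz
  exact hom_mem_map.1 h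

theorem mate_sym {m : ℕ} (hm : 2 ≤ m) : ∃ y : Perm (Pt (Fin m)),
    Subgroup.closure ({(cyc (⟨0, by omega⟩ : Fin m)).1, y} : Set (Perm (Pt (Fin m)))) = ⊤ := by
  obtain ⟨y, hy, hfull⟩ := exists_mate m hm true
  refine ⟨y, eq_top_iff.2 fun σ _ => ?_⟩
  set H := Subgroup.closure ({(cyc (⟨0, by omega⟩ : Fin m)).1, y} : Set (Perm (Pt (Fin m))))
  have hyH : y ∈ H := Subgroup.subset_closure (Set.mem_insert_of_mem _ rfl)
  have h := hfull H hyH (Subgroup.subset_closure (Set.mem_insert _ _))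
  rcases Int.units_eq_one_or (Perm.sign σ) with hσ | hσ
  · exact h σ hσ fun z hz => absurd (Finset.mem_univ z) hz
  · have h2 := h (σ * y) (by rw [map_mul, hσ, hy]; rfl) fun z hz => absurd (Finset.mem_univ z) hz
    have h3 := mul_mem h2 (inv_mem hyH)
    rwa [mul_inv_cancel_right] at h3

/-! ### All degrees -/

/-- The prime block. -/
theorem presOn_block (p : ℕ) [Fact p.Prime] (hp : p ≠ 2) :
    ∃ b, PresOn ![cyc (⟨0, (Fact.out : p.Prime).pos⟩ : Fin p), b] 4 := by
  let ε : ZMod p ≃ Fin p := (ZMod.finEquiv p).symm.toEquiv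
  let E : Pt (ZMod p) ≃ Pt (Fin p) := optionCongr (optionCongr ε)
  have h := (presOn_prime p hp).congr (Equiv.altCongrHom E)
  refine ⟨Equiv.altCongrHom E (psi (transOne p)), h.of_eq fun a => ?_⟩
  fin_cases a
  · refine Subtype.ext (Equiv.ext fun y => ?_)
    have h0 : ε 0 = ⟨0, (Fact.out : p.Prime).pos⟩ := by
      show (ZMod.finEquiv p).symm 0 = _
      rw [map_zero]
      rfl
    show E.permCongr (cycP 0) y = cycP (⟨0, _⟩ : Fin p) y
    obtain ⟨x, rfl⟩ := E.surjective y
    rw [Equiv.permCongr_apply, Equiv.symm_apply_apply, cycP, cycP, Perm.mul_apply, Perm.mul_apply,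
      ← E.injective.swap_apply, ← E.injective.swap_apply, show E (ptI 0) = ptI (ε 0) from rfl, h0]
    rfl
  · rfl

theorem exists_range {m : ℕ} (hm : 5 ≤ m) : (∃ p, p.Prime ∧ p ≠ 2 ∧ p = m) ∨
    ∃ p, p.Prime ∧ p ≠ 2 ∧ Range p m := by
  obtain ⟨p, hp, h1, h2⟩ : ∃ p, p.Prime ∧ m / 2 + 1 < p ∧ p ≤ m := by
    rcases lt_or_ge m 6 with h | h
    · exact ⟨5, by norm_num, by omega, hm⟩
    · obtain ⟨p, hp, h1, h2⟩ := BertrandShort.exists_prime (m / 2 + 1) (by omega)
      exact ⟨p, hp, h1, by omega⟩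
  have h3 : p ≠ 2 := by omega
  rcases h2.lt_or_eq with h | h
  · exact Or.inr ⟨p, hp, h3, ⟨h, by omega, by omega, fun he => by obtain ⟨k, hk⟩ := he; omega,
      hp.odd_of_ne_two h3⟩⟩
  · exact Or.inl ⟨p, hp, h3, h⟩

theorem good_alt (m : ℕ) (hm : 3 ≤ m) : Good (alternatingGroup (Pt (Fin m))) := by
  obtain ⟨y, hy⟩ := mate_alt (m := m) (by omega)
  suffices ∃ w : Fin 3 → alternatingGroup (Pt (Fin m)), PresOn w 7 ∧ w 0 = cyc ⟨0, by omega⟩ by
    obtain ⟨w, hw, h0⟩ := this
    exact ⟨w, hw, y, by rw [h0]; exact hy⟩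
  rcases (show m = 3 ∨ m = 4 ∨ 5 ≤ m by omega) with rfl | rfl | h5
  · haveI : Fact (Nat.Prime 3) := ⟨Nat.prime_three⟩
    obtain ⟨b, hb⟩ := presOn_block 3 (by norm_num)
    obtain ⟨w, hw, h0⟩ := numbered ((add_gen hb 1).mono (show 5 ≤ 7 by norm_num))
    exact ⟨w, hw, h0⟩
  · obtain ⟨t, ht⟩ := alt_six
    obtain ⟨w, hw, h0⟩ := numbered ((add_gen ht 1).mono (show 6 ≤ 7 by norm_num))
    exact ⟨w, hw, h0⟩
  rcases exists_range h5 with ⟨p, hp, hp2, rfl⟩ | ⟨p, hp, hp2, R⟩
  · haveI := Fact.mk hp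
    obtain ⟨b, hb⟩ := presOn_block p hp2
    obtain ⟨w, hw, h0⟩ := numbered ((add_gen hb 1).mono (show 5 ≤ 7 by norm_num))
    exact ⟨w, hw, h0⟩
  · haveI := Fact.mk hp
    obtain ⟨b, hb⟩ := presOn_block p hp2
    obtain ⟨g, hg⟩ := alt_present R hb
    obtain ⟨w, hw, h0⟩ := numbered hg
    refine ⟨w, hw, h0.trans ?_⟩
    exact ext_cyc _ _

theorem index_alt (α : Type) [DecidableEq α] [Fintype α] [Nontrivial α] :
    (alternatingGroup α).subtype.range.index = 2 := by
  rw [Subgroup.range_subtype]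
  exact alternatingGroup.index_eq_two

theorem good_sym (m : ℕ) (hm : 3 ≤ m) : Good (Perm (Pt (Fin m))) := by
  obtain ⟨y, hy⟩ := mate_sym (m := m) (by omega)
  suffices ∃ w : Fin 3 → Perm (Pt (Fin m)), PresOn w 7 ∧ w 0 = (cyc ⟨0, by omega⟩ : alternatingGroup _).1 by
    obtain ⟨w, hw, h0⟩ := this
    exact ⟨w, hw, y, by rw [h0]; exact hy⟩
  have hnot : (swap ptU ptV : Perm (Pt (Fin m))) ∉ (alternatingGroup (Pt (Fin m))).subtype.range := by
    rw [Subgroup.range_subtype, Perm.mem_alternatingGroup, Perm.sign_swap (by simp [ptU, ptV])]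
    decide
  rcases (show m = 3 ∨ m = 4 ∨ 5 ≤ m by omega) with rfl | rfl | h5
  · haveI : Fact (Nat.Prime 3) := ⟨Nat.prime_three⟩
    obtain ⟨b, hb⟩ := presOn_block 3 (by norm_num)
    obtain ⟨w, hw, h0⟩ := numbered (hb.index_two _ (Subgroup.subtype_injective _) (index_alt _) _ hnot)
    exact ⟨w, hw, h0⟩
  · obtain ⟨t, ht⟩ := sym_six
    obtain ⟨w, hw, h0⟩ := numbered ((add_gen ht 1).mono (show 6 ≤ 7 by norm_num))
    exact ⟨w, hw, h0⟩
  rcases exists_range h5 with ⟨p, hp, hp2, rfl⟩ | ⟨p, hp, hp2, R⟩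
  · haveI := Fact.mk hp
    obtain ⟨b, hb⟩ := presOn_block p hp2
    obtain ⟨w, hw, h0⟩ := numbered (hb.index_two _ (Subgroup.subtype_injective _) (index_alt _) _ hnot)
    exact ⟨w, hw, h0⟩
  · haveI := Fact.mk hp
    obtain ⟨b, hb⟩ := presOn_block p hp2
    obtain ⟨g, hg⟩ := sym_present R hb
    obtain ⟨w, hw, h0⟩ := numbered hg
    refine ⟨w, hw, h0.trans ?_⟩
    show (ext _ (cyc _)).1 = _
    rw [ext_cyc]
    rfl

/-! ### Small degrees -/

theorem alt_four : PresOn (cyc : Fin 2 → alternatingGroup (Pt (Fin 2))) 3 := by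
  refine (presOn_of_rels cyc ?_
    [FreeGroup.of 0 ^ 3, FreeGroup.of 1 ^ 3, (FreeGroup.of 0 * FreeGroup.of 1) ^ 2] ?_ ?_).mono le_rfl
  · rw [← MonoidHom.range_eq_top, FreeGroup.range_lift_eq_closure, closure_cyc]
  · intro x hx
    simp only [List.mem_cons, List.not_mem_nil, or_false] at hx
    rcases hx with rfl | rfl | rfl <;> simp only [map_pow, map_mul, FreeGroup.lift_apply_of]
    · exact cyc_cube _
    · exact cyc_cube _
    · exact cyc_pair (by decide)
  intro G _ f π hf hπ hL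
  refine (bijective (x := fun i => f (FreeGroup.of i)) (fun i => ?_) (fun i j hij => ?_) ?_ π fun i => ?_).injective
  · rw [← map_pow]; fin_cases i <;> exact hL _ (by simp)
  · have h01 : (f (FreeGroup.of 0) * f (FreeGroup.of 1)) ^ 2 = 1 := by
      rw [← map_mul, ← map_pow]; exact hL _ (by simp)
    fin_cases i <;> fin_cases j <;> first
      | exact absurd rfl hij
      | exact h01
      | exact pair_symm h01
  · rw [show (fun i => f (FreeGroup.of i)) = f ∘ FreeGroup.of from rfl, Set.range_comp,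
      ← MonoidHom.map_closure, FreeGroup.closure_range_of, ← MonoidHom.range_eq_map, MonoidHom.range_eq_top.2 hf]
  · rw [← MonoidHom.comp_apply, hπ, FreeGroup.lift_apply_of]

theorem alt_three : PresOn (cyc : Fin 1 → alternatingGroup (Pt (Fin 1))) 1 := by
  refine (presOn_of_rels cyc ?_ [FreeGroup.of 0 ^ 3] ?_ ?_).mono le_rfl
  · rw [← MonoidHom.range_eq_top, FreeGroup.range_lift_eq_closure, closure_cyc]
  · intro x hx
    rw [List.mem_singleton] at hx
    rw [hx, map_pow, FreeGroup.lift_apply_of]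
    exact cyc_cube _
  intro G _ f π hf hπ hL
  refine (bijective (x := fun i => f (FreeGroup.of i)) (fun i => ?_)
    (fun i j hij => absurd (Subsingleton.elim i j) hij) ?_ π fun i => ?_).injective
  · rw [← map_pow, Subsingleton.elim i 0]; exact hL _ (by simp)
  · rw [show (fun i => f (FreeGroup.of i)) = f ∘ FreeGroup.of from rfl, Set.range_comp,
      ← MonoidHom.map_closure, FreeGroup.closure_range_of, ← MonoidHom.range_eq_map, MonoidHom.range_eq_top.2 hf]
  · rw [← MonoidHom.comp_apply, hπ, FreeGroup.lift_apply_of]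

/-- A trivial group. -/
theorem trivial_pres (H : Type*) [Group H] [Subsingleton H] : PresOn (fun _ : Fin 2 => (1 : H)) 2 := by
  refine (presOn_of_rels _ (fun y => ⟨1, Subsingleton.elim _ _⟩) [FreeGroup.of 0, FreeGroup.of 1]
    (fun x _ => Subsingleton.elim _ _) ?_).mono le_rfl
  intro G _ f π hf _ hL a b _
  obtain ⟨a, rfl⟩ := hf a
  obtain ⟨b, rfl⟩ := hf b
  have h : f = 1 := FreeGroup.ext_hom _ _ fun i => by
    fin_cases i <;> exact hL _ (by simp)
  simp [h]

end Cfsg.Agent.Lie.AltGlue
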