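import Cfsg.Agent.Lib.Lie.PresSymAlt

/-!
Few relations for the groups of permutations of `Fin n`.
-/

set_option autoImplicit false
set_option linter.unusedSectionVars false

namespace Cfsg.Agent.Lie.AltGlue

open Equiv Cfsg.Agent.Lie.Carmichael
open Cfsg.Agent.Lie.Pres (PresOn presOn_of_rels)

theorem good_perm {n : ℕ} (hn : 5 ≤ n) : Good (Perm (Fin n)) :=
  (good_sym (n - 2) (by omega)).congr
    (Equiv.permCongrHom (Fintype.equivFinOfCardEq (by simp [Pt]; omega)))

theorem good_alternating {n : ℕ} (hn : 5 ≤ n) : Good (alternatingGroup (Fin n)) :=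
  (good_alt (n - 2) (by omega)).congr
    (Equiv.altCongrHom (Fintype.equivFinOfCardEq (by simp [Pt]; omega)))

/-- The conclusion for two generators. -/
def Pair8 (H : Type*) [Group H] : Prop := ∃ v : Fin 2 → H, PresOn v 8

theorem Good.pair {H : Type*} [Group H] (h : Good H) : Pair8 H := by
  obtain ⟨v, hv, y, hy⟩ := h
  exact ⟨_, hv.keep_one 0 y hy⟩

theorem Pair8.congr {H : Type*} [Group H] {H' : Type*} [Group H'] (h : Pair8 H) (e : H ≃* H') : Pair8 H' := by
  obtain ⟨v, hv⟩ := h
  exact ⟨_, hv.congr e⟩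

theorem pair_three : Pair8 (alternatingGroup (Pt (Fin 1))) ∧ Pair8 (Perm (Pt (Fin 1))) := by
  have hgen : Subgroup.closure ({cyc (0 : Fin 1)} : Set (alternatingGroup (Pt (Fin 1)))) = ⊤ := by
    rw [← closure_cyc, Set.range_unique]
    rfl
  refine ⟨⟨_, (alt_three.keep_one 0 1 ?_).mono (by norm_num)⟩, ?_⟩
  · exact eq_top_iff.2 (hgen.symm.le.trans (Subgroup.closure_mono (by simp)))
  · have hnot : (swap ptU ptV : Perm (Pt (Fin 1))) ∉ (alternatingGroup (Pt (Fin 1))).subtype.range := by
      rw [Subgroup.range_subtype, Perm.mem_alternatingGroup, Perm.sign_swap (by simp [ptU, ptV])]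
      decide
    have h := alt_three.index_two _ (Subgroup.subtype_injective _) (index_alt _) _ hnot
    refine ⟨_, (h.keep_one (Sum.inl 0) (swap ptU ptV) ?_).mono (by simp)⟩
    have hs := h.surjective
    rw [← MonoidHom.range_eq_top, FreeGroup.range_lift_eq_closure] at hs
    refine eq_top_iff.2 (hs.symm.le.trans (Subgroup.closure_mono ?_))
    rintro _ ⟨a | a, rfl⟩
    · rw [Subsingleton.elim a 0]; exact Set.mem_insert _ _
    · exact Set.mem_insert_of_mem _ rfl

theorem pair_four : Pair8 (alternatingGroup (Pt (Fin 2))) ∧ Pair8 (Perm (Pt (Fin 2))) := by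
  refine ⟨⟨_, (alt_four.keep_one 0 (cyc 1) ?_).mono (by norm_num)⟩, ?_⟩
  · refine eq_top_iff.2 (closure_cyc.symm.le.trans (Subgroup.closure_mono ?_))
    rintro _ ⟨i, rfl⟩
    fin_cases i
    · exact Set.mem_insert _ _
    · exact Set.mem_insert_of_mem _ rfl
  · set t : Perm (Pt (Fin 2)) := liftP (swap 0 1)
    have hts : Perm.sign t = -1 := by rw [liftP_sign, Perm.sign_swap (by decide)]
    have hnot : t ∉ (alternatingGroup (Pt (Fin 2))).subtype.range := by
      rw [Subgroup.range_subtype, Perm.mem_alternatingGroup, hts]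
      decide
    have h := alt_four.index_two _ (Subgroup.subtype_injective _) (index_alt _) _ hnot
    refine ⟨_, (h.keep_one (Sum.inl 0) t ?_).mono (by simp)⟩
    have hs := h.surjective
    rw [← MonoidHom.range_eq_top, FreeGroup.range_lift_eq_closure] at hs
    refine eq_top_iff.2 (hs.symm.le.trans ((Subgroup.closure_le _).2 ?_))
    rintro _ ⟨a | a, rfl⟩
    · show (cyc a).1 ∈ _
      have h0 : (cyc (0 : Fin 2)).1 ∈ Subgroup.closure ({(cyc (0 : Fin 2)).1, t} : Set (Perm (Pt (Fin 2)))) :=
        Subgroup.subset_closure (Set.mem_insert _ _)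
      fin_cases a
      · exact h0
      · have h1 : t ∈ Subgroup.closure ({(cyc (0 : Fin 2)).1, t} : Set (Perm (Pt (Fin 2)))) :=
          Subgroup.subset_closure (Set.mem_insert_of_mem _ rfl)
        have h2 := mul_mem (mul_mem h1 h0) (inv_mem h1)
        rw [← conjA_val, conjA_cyc, swap_apply_left] at h2
        exact h2
    · exact Subgroup.subset_closure (Set.mem_insert_of_mem _ rfl)

theorem pair_trivial (H : Type*) [Group H] [Subsingleton H] : Pair8 H :=
  ⟨_, (trivial_pres H).mono (by norm_num)⟩

theorem subsingleton_alt {n : ℕ} (hn : n ≤ 2) : Subsingleton (alternatingGroup (Fin n)) := by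
  interval_cases n <;> exact ⟨by decide⟩

theorem pair_perm_two : Pair8 (Perm (Fin 2)) := by
  haveI : Subsingleton (alternatingGroup (Fin 2)) := subsingleton_alt (by norm_num)
  have hnot : (swap 0 1 : Perm (Fin 2)) ∉ (alternatingGroup (Fin 2)).subtype.range := by
    rw [Subgroup.range_subtype, Perm.mem_alternatingGroup, Perm.sign_swap (by decide)]
    decide
  have h := (trivial_pres (alternatingGroup (Fin 2))).index_two _ (Subgroup.subtype_injective _) (index_alt _) _ hnot
  refine ⟨_, (h.keep_one (Sum.inr ()) 1 ?_).mono (by simp)⟩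
  have hs := h.surjective
  rw [← MonoidHom.range_eq_top, FreeGroup.range_lift_eq_closure] at hs
  refine eq_top_iff.2 (hs.symm.le.trans (Subgroup.closure_mono ?_))
  rintro _ ⟨a | a, rfl⟩
  · exact Set.mem_insert_of_mem _ (by simp)
  · exact Set.mem_insert _ _

theorem pair_all (n : ℕ) : Pair8 (Perm (Fin n)) ∧ Pair8 (alternatingGroup (Fin n)) := by
  rcases lt_or_ge n 5 with h | h
  · interval_cases n
    · haveI : Subsingleton (alternatingGroup (Fin 0)) := subsingleton_alt (by norm_num)
      exact ⟨pair_trivial _, pair_trivial _⟩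
    · haveI : Subsingleton (alternatingGroup (Fin 1)) := subsingleton_alt (by norm_num)
      exact ⟨pair_trivial _, pair_trivial _⟩
    · haveI : Subsingleton (alternatingGroup (Fin 2)) := subsingleton_alt (by norm_num)
      exact ⟨pair_perm_two, pair_trivial _⟩
    · exact ⟨pair_three.2.congr (Equiv.permCongrHom (Fintype.equivFinOfCardEq (by simp [Pt]))),
        pair_three.1.congr (Equiv.altCongrHom (Fintype.equivFinOfCardEq (by simp [Pt])))⟩
    · exact ⟨pair_four.2.congr (Equiv.permCongrHom (Fintype.equivFinOfCardEq (by simp [Pt]))),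
        pair_four.1.congr (Equiv.altCongrHom (Fintype.equivFinOfCardEq (by simp [Pt])))⟩
  · exact ⟨(good_perm h).pair, (good_alternating h).pair⟩

end Cfsg.Agent.Lie.AltGlue
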