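import Cfsg.Agent.Lib.Lie.RankOneCentralizer
import Cfsg.Agent.Lib.Grp.FpfPrime
import Cfsg.Agent.Lib.Grp.Frattini

/-! The rank-one set-up: fixed-point-freeness, nilpotency, fusion, strongly real elements. -/

set_option autoImplicit false
set_option linter.unusedSectionVars false

namespace Cfsg.Agent.Lie.RankOne

open MulAction

universe u v

variable {G : Type u} {Ω : Type v} [Group G] [Finite G] [MulAction G Ω] {a : Ω} {t : G}
  {Q : Subgroup G} (hS : Cfsg.IsRankOneSetup G Ω a t Q)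

include hS

/-- An element of `D` centralising a non-identity element of `Q` fixes three points. -/
theorem three_of_cent {x q : G} (hx : x ∈ stabilizer G a ⊓ stabilizer G (t • a)) (hq : q ∈ Q)
    (hq1 : q ≠ 1) (hc : x * q = q * x) :
    ∃ b c d : Ω, b ≠ c ∧ b ≠ d ∧ c ≠ d ∧ ∀ y ∈ ({x} : Set G), y • b = b ∧ y • c = c ∧ y • d = d := by
  refine ⟨a, t • a, q • (t • a), (b_ne hS).symm, (ne_of_q_smul hS hq (b_ne hS)).symm,
    fun h => hq1 (q_b hS hq h.symm), ?_⟩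
  rintro y rfl
  refine ⟨mem_stabilizer_iff.1 hx.1, mem_stabilizer_iff.1 hx.2, ?_⟩
  rw [← mul_smul, hc, mul_smul, mem_stabilizer_iff.1 hx.2]

theorem inverted_fpf {x : G}
    (hx : x ∈ Cfsg.invertedBy (stabilizer G a ⊓ stabilizer G (t • a)) t) (hx1 : x ≠ 1) :
    Q ⊓ Subgroup.centralizer {x} = ⊥ := by
  refine (Subgroup.eq_bot_iff_forall _).2 fun q hq => ?_
  obtain ⟨hq, hqx⟩ := Subgroup.mem_inf.1 hq
  by_contra hq1
  have hX : ({x} : Set G) ⊆ ((stabilizer G a ⊓ stabilizer G (t • a)) : Set G) :=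
    Set.singleton_subset_iff.2 hx.1
  obtain ⟨s, hs, hsx⟩ := cent_involution hS hX
    (three_of_cent hS hx.1 hq hq1 (Subgroup.mem_centralizer_singleton_iff.1 hqx).symm)
  obtain ⟨⟨s₀, r⟩, ⟨hs0, hr, e⟩, -⟩ := distinguished hS
  obtain ⟨hinj, hsurj⟩ := distinguished_orbit hS hs0 hr e
  obtain ⟨⟨m, hm⟩, hms⟩ := hsurj ⟨s, hs⟩
  have hms' : m⁻¹ * s₀ * m = s := congrArg Subtype.val hms
  have hsc : s * x = x * s := Subgroup.mem_centralizer_singleton_iff.1 hsx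
  have hti := inv_t hS
  obtain ⟨hxD, hxi⟩ := hx
  obtain ⟨hmD, hmi⟩ := hm
  rw [hti] at hxi hmi
  set y := m * x * m⁻¹ with hy
  have hyt : t * y = y * t := by
    refine (centralizer_distinguished hS hs0 hr e (mul_mem (mul_mem hmD hxD) (inv_mem hmD))).2 ?_
    calc s₀ * (m * x * m⁻¹) = m * (m⁻¹ * s₀ * m * x) * m⁻¹ := by group
      _ = m * x * m⁻¹ * s₀ := by rw [hms', hsc, ← hms']; group
  have h1 : t * y * t = m⁻¹ * x⁻¹ * m := by
    calc t * y * t = t * m * (t * t) * x * (t * t) * m⁻¹ * t := by rw [hS.mul_self, hy]; group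
      _ = (t * m * t) * (t * x * t) * (t * m * t)⁻¹ := by
        rw [mul_inv_rev, mul_inv_rev, hti]; group
      _ = _ := by rw [hmi, hxi, inv_inv]
  rw [hyt, mul_assoc, hS.mul_self, mul_one] at h1
  refine hx1 (eq_one_of_conj_inv hS.odd_card (mul_mem hmD hmD) hxD ?_)
  calc m * m * x * (m * m)⁻¹ = m * (m * x * m⁻¹) * m⁻¹ := by group
    _ = m * (m⁻¹ * x⁻¹ * m) * m⁻¹ := by rw [← hy, h1]
    _ = x⁻¹ := by group

theorem exists_two_involutions
    (h2 : ∃ x y : G, x ≠ 1 ∧ y ≠ 1 ∧ x ≠ y ∧ x * x = 1 ∧ y * y = 1 ∧ x * y = y * x) :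
    ∃ s s' : G, s ∈ Cfsg.involutionsIn (stabilizer G a : Set G) ∧
      s' ∈ Cfsg.involutionsIn (stabilizer G a : Set G) ∧ s ≠ s' := by
  obtain ⟨x, y, hx1, hy1, hxy, hx2, hy2, hc⟩ := h2
  obtain ⟨g, hgs, hgs1, hgs2⟩ := conj_into hS hx1 hx2
  refine ⟨g * x * g⁻¹, g * y * g⁻¹, ⟨hgs, hgs1, hgs2⟩,
    ⟨mem_stabilizer_iff.2 (fix_unique hS hgs hgs1 hgs2 ?_), fun h => hy1 (conj_eq_one_iff.1 h), ?_⟩,
    fun h => hxy (mul_left_cancel (mul_right_cancel h))⟩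
  · rw [← mul_smul, show g * x * g⁻¹ * (g * y * g⁻¹) = g * y * g⁻¹ * (g * x * g⁻¹) by
      calc g * x * g⁻¹ * (g * y * g⁻¹) = g * (x * y) * g⁻¹ := by group
        _ = _ := by rw [hc]; group, mul_smul, mem_stabilizer_iff.1 hgs]
  · calc g * y * g⁻¹ * (g * y * g⁻¹) = g * (y * y) * g⁻¹ := by group
      _ = 1 := by rw [hy2]; group

theorem nilpotent_Q
    (h2 : ∃ x y : G, x ≠ 1 ∧ y ≠ 1 ∧ x ≠ y ∧ x * x = 1 ∧ y * y = 1 ∧ x * y = y * x) :
    Group.IsNilpotent Q := by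
  obtain ⟨s, s', hs, hs', hne⟩ := exists_two_involutions hS h2
  obtain ⟨x, hx, hx1⟩ : ∃ x ∈ Cfsg.invertedBy (stabilizer G a ⊓ stabilizer G (t • a)) t, x ≠ 1 := by
    by_contra hcon
    push Not at hcon
    obtain ⟨⟨s₀, r⟩, ⟨hs0, hr, e⟩, -⟩ := distinguished hS
    obtain ⟨hinj, hsurj⟩ := distinguished_orbit hS hs0 hr e
    obtain ⟨z, hz⟩ := hsurj ⟨s, hs⟩
    obtain ⟨z', hz'⟩ := hsurj ⟨s', hs'⟩
    obtain rfl : z = z' := Subtype.ext ((hcon z z.2).trans (hcon z' z'.2).symm)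
    exact hne (congrArg Subtype.val (hz.symm.trans hz'))
  have hne1 : orderOf x ≠ 1 := fun h => hx1 (orderOf_eq_one_iff.1 h)
  obtain ⟨p, hp, hpd⟩ := Nat.exists_prime_and_dvd hne1
  have := Fact.mk hp
  set y := x ^ (orderOf x / p) with hy
  have hord : orderOf y = p := orderOf_pow_orderOf_div (orderOf_pos x).ne' hpd
  have hyK : y ∈ Cfsg.invertedBy (stabilizer G a ⊓ stabilizer G (t • a)) t :=
    ⟨pow_mem hx.1 _, by rw [hy, ← conj_pow, hx.2, inv_pow]⟩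
  refine Grp.isNilpotent_of_fpf (p := p) (K := Q) (b := y) (by rw [← hord, pow_orderOf_eq_one]) ?_
    (inverted_fpf hS hyK fun h => by rw [h, orderOf_one] at hord; exact hp.one_lt.ne hord)
  rw [normalizer_Q hS]
  exact hyK.1.1

theorem involutions_central
    (h2 : ∃ x y : G, x ≠ 1 ∧ y ≠ 1 ∧ x ≠ y ∧ x * x = 1 ∧ y * y = 1 ∧ x * y = y * x) :
    ∀ s ∈ Cfsg.involutionsIn (stabilizer G a : Set G), ∀ x ∈ Q, s * x = x * s := by
  have hnil := nilpotent_Q hS h2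
  obtain ⟨s₁, hs₁, hs₁1, hs₁2⟩ := invol_in_Q hS
  have hs₁Q := invol_mem_Q hS hs₁ hs₁2
  obtain ⟨S⟩ := (inferInstance : Nonempty (Sylow 2 Q))
  have hSn : (S : Subgroup Q).Normal := by
    have q := (Group.isNilpotent_of_finite_tfae (G := Q)).out 0 3
    rw [q] at hnil
    exact hnil 2 inferInstance S
  have hne : (S : Subgroup Q) ≠ ⊥ :=
    S.ne_bot_of_dvd_card (even_iff_two_dvd.1 hS.even_card)
  obtain ⟨⟨z, hz⟩, hz1⟩ := Subgroup.ne_bot_iff_exists_ne_one.1 (Grp.inf_center_ne_bot _ hne)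
  obtain ⟨hzS, hzc⟩ := Subgroup.mem_inf.1 hz
  have hz1' : z ≠ 1 := fun h => hz1 (Subtype.ext h)
  obtain ⟨k, hk⟩ := IsPGroup.iff_orderOf.1 S.isPGroup' ⟨z, hzS⟩
  rw [Subgroup.orderOf_mk] at hk
  have hk0 : k ≠ 0 := fun h => hz1' (orderOf_eq_one_iff.1 (by rw [hk, h, pow_zero]))
  set c := z ^ (2 ^ (k - 1))
  have hc : orderOf c = 2 := by
    rw [orderOf_pow, hk, Nat.gcd_eq_right (pow_dvd_pow 2 (Nat.sub_le k 1)),
      Nat.pow_div (Nat.sub_le k 1) (by norm_num), Nat.sub_sub_self (by omega), pow_one]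
  have hc1 : (c : G) ≠ 1 := fun h => by
    have : c = 1 := Subtype.ext h
    rw [this, orderOf_one] at hc; omega
  have hc2 : (c : G) * (c : G) = 1 := by
    have h := pow_orderOf_eq_one c
    rw [hc, pow_two] at h
    exact congrArg Subtype.val h
  have hcc : c ∈ Subgroup.center Q := pow_mem hzc _
  intro s ⟨hs, hs1, hs2⟩ x hx
  obtain ⟨g, hg⟩ := all_conj hS hc1 hc2 hs1 hs2
  have hga : g ∈ stabilizer G a := by
    refine mem_stabilizer_iff.2 (fix_unique hS hs hs1 hs2 ?_)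
    rw [← hg, mul_smul, mul_smul, inv_smul_smul, q_fix hS c.2]
  have hx' : g⁻¹ * x * g ∈ Q := by simpa using hS.conj_mem g⁻¹ (inv_mem hga) x hx
  have h1 : (g⁻¹ * x * g) * c = c * (g⁻¹ * x * g) :=
    congrArg Subtype.val (Subgroup.mem_center_iff.1 hcc ⟨_, hx'⟩)
  calc s * x = g * ((c : G) * (g⁻¹ * x * g)) * g⁻¹ := by rw [← hg]; group
    _ = x * s := by rw [← h1, ← hg]; group

/-- Fusion in `C_D(t)`. -/
theorem fusion {X : Set G}
    (hX : X ⊆ (((stabilizer G a ⊓ stabilizer G (t • a)) ⊓ Subgroup.centralizer {t} : Subgroup G) : Set G))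
    (g : G)
    (hY : (fun x => g * x * g⁻¹) '' X ⊆
      (((stabilizer G a ⊓ stabilizer G (t • a)) ⊓ Subgroup.centralizer {t} : Subgroup G) : Set G)) :
    ∃ v ∈ (stabilizer G a ⊓ stabilizer G (t • a)) ⊓ Subgroup.centralizer {t},
      (fun x => v * x * v⁻¹) '' X = (fun x => g * x * g⁻¹) '' X := by
  obtain ⟨p, hp⟩ := exists_fixed hS hS.mul_self
  set Y := (fun x => g * x * g⁻¹) '' X
  have hYD : Y ⊆ ((stabilizer G a ⊓ stabilizer G (t • a)) : Set G) := fun y hy => (hY hy).1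
  have hfix : ∀ y ∈ Y, y • a = a ∧ y • (t • a) = t • a ∧ y • p = p := fun y hy => by
    obtain ⟨h1, h2⟩ := hYD hy
    refine ⟨mem_stabilizer_iff.1 h1, mem_stabilizer_iff.1 h2,
      fix_unique' hS hS.ne_one hS.mul_self ?_ hp⟩
    rw [← mul_smul, ← Subgroup.mem_centralizer_singleton_iff.1 (hY hy).2, mul_smul, hp]
  have hpa : p ≠ a := fun h => b_ne hS (h ▸ hp)
  have hpb : p ≠ t • a := fun h => by
    rw [h, t_smul_b hS] at hp
    exact b_ne hS hp.symm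
  obtain ⟨c, hc, hca, hcb⟩ := cent_two_transitive hS hYD
    ⟨a, t • a, p, (b_ne hS).symm, hpa.symm, hpb.symm, hfix⟩
    (b₁ := g • a) (b₂ := g • (t • a)) (c₁ := a) (c₂ := t • a)
    (fun y hy => by
      obtain ⟨x, hx, rfl⟩ := hy
      obtain ⟨⟨h1, h2⟩, -⟩ := hX hx
      have e : ∀ w : Ω, x • w = w → (g * x * g⁻¹) • g • w = g • w := fun w hw => by
        rw [mul_smul, inv_smul_smul, mul_smul, hw]
      exact ⟨e _ (mem_stabilizer_iff.1 h1), e _ (mem_stabilizer_iff.1 h2),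
        (hfix _ ⟨x, hx, rfl⟩).1, (hfix _ ⟨x, hx, rfl⟩).2.1⟩)
    (fun h => b_ne hS (smul_left_cancel g h).symm) (b_ne hS).symm
  have hd : c * g ∈ stabilizer G a ⊓ stabilizer G (t • a) :=
    ⟨mem_stabilizer_iff.2 (by rw [mul_smul, hca]), mem_stabilizer_iff.2 (by rw [mul_smul, hcb])⟩
  obtain ⟨v, z, hv, hvt, ⟨hz, hzi⟩, hvz⟩ := inverted_conj hS hd
  have hvmem : v ∈ (stabilizer G a ⊓ stabilizer G (t • a)) ⊓ Subgroup.centralizer {t} :=
    ⟨hv, Subgroup.mem_centralizer_singleton_iff.2 hvt.symm⟩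
  refine ⟨v, hvmem, Set.image_congr fun x hx => ?_⟩
  have hy : g * x * g⁻¹ ∈ Y := ⟨x, hx, rfl⟩
  have h1 : (c * g) * x * (c * g)⁻¹ = g * x * g⁻¹ := by
    calc (c * g) * x * (c * g)⁻¹ = c * (g * x * g⁻¹) * c⁻¹ := by group
      _ = _ := by rw [← mem_cent.1 hc _ hy, mul_inv_cancel_right]
  rw [hvz] at h1
  have hxt : t * x = x * t := (Subgroup.mem_centralizer_singleton_iff.1 (hX hx).2).symm
  have hzx : t * (z * x * z⁻¹) = z * x * z⁻¹ * t := by
    have h2 : z * x * z⁻¹ = v⁻¹ * (g * x * g⁻¹) * v := by rw [← h1]; group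
    have h3 : t * (g * x * g⁻¹) = g * x * g⁻¹ * t :=
      (Subgroup.mem_centralizer_singleton_iff.1 (hY hy).2).symm
    rw [h2]
    exact ((((show Commute t v from hvt).inv_right).mul_right h3).mul_right hvt).eq
  rw [inv_t hS] at hzi
  have h4 : z⁻¹ * x * z = z * x * z⁻¹ := by
    have e : t * (z * x * z⁻¹) * t = (t * z * t) * (t * x * t) * (t * z * t)⁻¹ := by
      calc t * (z * x * z⁻¹) * t = t * z * (t * t) * x * (t * t) * z⁻¹ * t := by
            rw [hS.mul_self]; group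
        _ = _ := by rw [mul_inv_rev, mul_inv_rev, inv_t hS]; group
    rw [hzx, mul_assoc _ t t, hS.mul_self, mul_one, hzi, hxt, mul_assoc x t t, hS.mul_self,
      mul_one, inv_inv] at e
    exact e.symm
  obtain ⟨j, hj⟩ := exists_sqrt hS.odd_card hz
  have hzc : Commute z x := by
    have hzz : Commute (z * z) x := by
      show z * z * x = x * (z * z)
      calc z * z * x = z * (z * x * z⁻¹) * z := by group
        _ = z * (z⁻¹ * x * z) * z := by rw [h4]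
        _ = x * (z * z) := by group
    rw [← hj, ← pow_add, ← two_mul, pow_mul, pow_two]
    exact hzz.pow_left j
  show v * x * v⁻¹ = g * x * g⁻¹
  rw [← h1, show v * z * x * (v * z)⁻¹ = v * (z * x * z⁻¹) * v⁻¹ by group, hzc.eq,
    mul_inv_cancel_right]

theorem normal_form
    (h2 : ∃ x y : G, x ≠ 1 ∧ y ≠ 1 ∧ x ≠ y ∧ x * x = 1 ∧ y * y = 1 ∧ x * y = y * x)
    {u v : G} (hu1 : u ≠ 1) (hu2 : u * u = 1) (hv1 : v ≠ 1) (hv2 : v * v = 1)
    (hx : (u * v) * (u * v) ≠ 1) :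
    ∃ g : G, ∃ u' ∈ Cfsg.involutionsIn (stabilizer G a : Set G),
      g * (u * v) * g⁻¹ = u' * t := by
  obtain ⟨pu, hpu⟩ := exists_fixed hS hu2
  obtain ⟨pv, hpv⟩ := exists_fixed hS hv2
  obtain ⟨p, hp⟩ := exists_fixed hS hS.mul_self
  have hpa : p ≠ a := fun h => b_ne hS (h ▸ hp)
  have hinv : ∀ (g w : G) (c : Ω), w ≠ 1 → w * w = 1 → w • c = c → g • c = a →
      g * w * g⁻¹ ∈ Cfsg.involutionsIn (stabilizer G a : Set G) := fun g w c h1 h2' hc hg => by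
    refine ⟨mem_stabilizer_iff.2 ?_, fun h => h1 (conj_eq_one_iff.1 h), ?_⟩
    · rw [mul_smul, mul_smul, inv_smul_eq_iff.2 hg.symm, hc, hg]
    · calc g * w * g⁻¹ * (g * w * g⁻¹) = g * (w * w) * g⁻¹ := by group
        _ = 1 := by rw [h2']; group
  have hne : pu ≠ pv := fun h => by
    subst h
    obtain ⟨g, hg⟩ := exists_smul hS (b := pu) (c := a)
    have h1 := hinv g u pu hu1 hu2 hpu hg
    have h3 := hinv g v pu hv1 hv2 hpv hg
    have hc := involutions_central hS h2 _ h1 _ (invol_mem_Q hS h3.1 h3.2.2)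
    refine hx ?_
    have hc' : u * v = v * u := mul_left_cancel (a := g) (mul_right_cancel (b := g⁻¹) (by
      calc g * (u * v) * g⁻¹ = g * u * g⁻¹ * (g * v * g⁻¹) := by group
        _ = g * v * g⁻¹ * (g * u * g⁻¹) := hc
        _ = _ := by group))
    nth_rewrite 2 [hc']
    rw [mul_assoc, ← mul_assoc v, hv2, one_mul, hu2]
  obtain ⟨g, hga, hgp⟩ := is_two_pretransitive_iff.1 hS.two_transitive hne hpa.symm
  obtain ⟨f, hfa, hfb⟩ := is_two_pretransitive_iff.1 hS.two_transitive (b_ne hS).symm hpa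
  obtain ⟨⟨s₀, r⟩, ⟨hs0, hr, e⟩, -⟩ := distinguished hS
  obtain ⟨-, hsurj⟩ := distinguished_orbit hS hs0 hr e
  have hw1 := hinv (f⁻¹ * g) v pv hv1 hv2 hpv (by rw [mul_smul, hgp, ← hfa, inv_smul_smul])
  have ht1 := hinv f⁻¹ t p hS.ne_one hS.mul_self hp (by rw [← hfa, inv_smul_smul])
  obtain ⟨⟨z₁, hz₁, hz₁'⟩, e₁⟩ := hsurj ⟨_, hw1⟩
  obtain ⟨⟨z₂, hz₂, hz₂'⟩, e₂⟩ := hsurj ⟨_, ht1⟩
  have e₁' : z₁⁻¹ * s₀ * z₁ = f⁻¹ * g * v * (f⁻¹ * g)⁻¹ := congrArg Subtype.val e₁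
  have e₂' : z₂⁻¹ * s₀ * z₂ = f⁻¹ * t * f⁻¹⁻¹ := congrArg Subtype.val e₂
  set d := z₂⁻¹ * z₁
  have hd : d ∈ stabilizer G a ⊓ stabilizer G (t • a) := mul_mem (inv_mem hz₂) hz₁
  have hh : (f * d * f⁻¹) • a = a := by
    rw [mul_smul, mul_smul, inv_smul_eq_iff.2 hfb.symm, mem_stabilizer_iff.1 hd.2, hfb]
  refine ⟨f * d * f⁻¹ * g, (f * d * f⁻¹ * g) * u * (f * d * f⁻¹ * g)⁻¹,
    hinv _ u pu hu1 hu2 hpu (by rw [mul_smul, hga, hh]), ?_⟩
  have hv' : (f * d * f⁻¹ * g) * v * (f * d * f⁻¹ * g)⁻¹ = t := by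
    calc (f * d * f⁻¹ * g) * v * (f * d * f⁻¹ * g)⁻¹
        = f * (d * (f⁻¹ * g * v * (f⁻¹ * g)⁻¹) * d⁻¹) * f⁻¹ := by group
      _ = f * (z₂⁻¹ * s₀ * z₂) * f⁻¹ := by rw [← e₁']; simp only [d]; group
      _ = t := by rw [e₂']; group
  calc (f * d * f⁻¹ * g) * (u * v) * (f * d * f⁻¹ * g)⁻¹
      = (f * d * f⁻¹ * g) * u * (f * d * f⁻¹ * g)⁻¹ *
          ((f * d * f⁻¹ * g) * v * (f * d * f⁻¹ * g)⁻¹) := by group
    _ = _ := by rw [hv']

theorem odd_centralizer {u : G} (hu : u ∈ Cfsg.involutionsIn (stabilizer G a : Set G)) :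
    Odd (Nat.card ↥(Subgroup.centralizer {u * t})) := by
  obtain ⟨hua, hu1, hu2⟩ := hu
  by_contra hodd
  obtain ⟨⟨z, hz⟩, hzo⟩ := exists_prime_orderOf_dvd_card' (G := ↥(Subgroup.centralizer {u * t})) 2
    (even_iff_two_dvd.1 (Nat.not_odd_iff_even.1 hodd))
  rw [Subgroup.orderOf_mk] at hzo
  have hz2 : z * z = 1 := by rw [← pow_two, ← hzo, pow_orderOf_eq_one]
  have hz1 : z ≠ 1 := fun h => by rw [h, orderOf_one] at hzo; omega
  have hzy : z * (u * t) = u * t * z := Subgroup.mem_centralizer_singleton_iff.1 hz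
  set y := u * t
  have hy1 : y ≠ 1 := fun h => hS.not_mem (eq_inv_of_mul_eq_one_right h ▸ inv_mem hua)
  have hinvy : u * y * u⁻¹ = y⁻¹ := by
    simp only [y]
    rw [← mul_assoc, hu2, one_mul, mul_inv_rev, inv_t hS]
  obtain ⟨p, hp⟩ := exists_fixed hS hz2
  have hyp : y • p = p := fix_unique' hS hz1 hz2 (by rw [← mul_smul, hzy, mul_smul, hp]) hp
  have hyq : y • (u • p) = u • p := by
    have h1 : y * u = u * y⁻¹ := by
      rw [← hinvy, ← mul_assoc, ← mul_assoc, hu2, one_mul, inv_eq_of_mul_eq_one_right hu2]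
    rw [← mul_smul, h1, mul_smul, inv_smul_eq_iff.2 hyp.symm]
  have hne : u • p ≠ p := fun h => by
    rw [fix_unique hS hua hu1 hu2 h] at hyp
    rw [show y = u * t from rfl, mul_smul, ← eq_inv_smul_iff,
      inv_smul_eq_iff.2 (mem_stabilizer_iff.1 hua).symm] at hyp
    exact b_ne hS hyp
  obtain ⟨f, hfp, hfq⟩ := is_two_pretransitive_iff.1 hS.two_transitive hne.symm (b_ne hS).symm
  have hfix : ∀ (w : G) (c c' : Ω), w • c = c → f • c = c' → (f * w * f⁻¹) • c' = c' := by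
    intro w c c' hw hc
    rw [← hc, mul_smul, inv_smul_smul, mul_smul, hw]
  have hd : f * y * f⁻¹ ∈ stabilizer G a ⊓ stabilizer G (t • a) :=
    ⟨mem_stabilizer_iff.2 (hfix y p a hyp hfp), mem_stabilizer_iff.2 (hfix y _ _ hyq hfq)⟩
  have hs : f * z * f⁻¹ ∈ stabilizer G a := mem_stabilizer_iff.2 (hfix z p a hp hfp)
  have hs1 : f * z * f⁻¹ ≠ 1 := fun h => hz1 (conj_eq_one_iff.1 h)
  have hs2 : f * z * f⁻¹ * (f * z * f⁻¹) = 1 := by
    calc f * z * f⁻¹ * (f * z * f⁻¹) = f * (z * z) * f⁻¹ := by group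
      _ = 1 := by rw [hz2]; group
  have hds : f * y * f⁻¹ * (f * z * f⁻¹) = f * z * f⁻¹ * (f * y * f⁻¹) := by
    calc f * y * f⁻¹ * (f * z * f⁻¹) = f * (y * z) * f⁻¹ := by group
      _ = _ := by rw [← hzy]; group
  have hX : ({f * y * f⁻¹} : Set G) ⊆ ((stabilizer G a ⊓ stabilizer G (t • a)) : Set G) :=
    Set.singleton_subset_iff.2 hd
  obtain ⟨k, hk, hkt⟩ := conj_into_centralizer hS hX
    (three_of_cent hS hd (invol_mem_Q hS hs hs2) hs1 hds)
  set w := k * f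
  set e := w * y * w⁻¹ with he
  have heY : e ∈ (stabilizer G a ⊓ stabilizer G (t • a)) ⊓ Subgroup.centralizer {t} := by
    have e1 : e = k * (f * y * f⁻¹) * k⁻¹ := by simp only [e, w]; group
    have h1 : e ∈ stabilizer G a ⊓ stabilizer G (t • a) := e1 ▸ mul_mem (mul_mem hk hd) (inv_mem hk)
    refine ⟨h1, Subgroup.mem_centralizer_singleton_iff.2 ?_⟩
    rw [e1, hkt _ rfl]
  have hei : w * u * w⁻¹ * e * (w * u * w⁻¹)⁻¹ = e⁻¹ := by
    calc w * u * w⁻¹ * e * (w * u * w⁻¹)⁻¹ = w * (u * y * u⁻¹) * w⁻¹ := by rw [he]; group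
      _ = e⁻¹ := by rw [hinvy, he]; group
  obtain ⟨v, hv, hve⟩ := fusion hS (X := {e}) (Set.singleton_subset_iff.2 heY) (w * u * w⁻¹) (by
    rw [Set.image_singleton, Set.singleton_subset_iff, hei]
    exact inv_mem heY)
  rw [Set.image_singleton, Set.image_singleton, Set.singleton_eq_singleton_iff, hei] at hve
  have he1 : e = 1 := eq_one_of_conj_inv hS.odd_card hv.1 heY.1 hve
  exact hy1 (conj_eq_one_iff.1 he1)

theorem odd_centralizer_conj {g x y : G} (h : g * x * g⁻¹ = y)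
    (hodd : Odd (Nat.card ↥(Subgroup.centralizer {y}))) :
    Odd (Nat.card ↥(Subgroup.centralizer {x})) := by
  refine hodd.of_dvd_nat (Subgroup.card_dvd_of_injective
    ((MulAut.conj g).toMonoidHom.comp (Subgroup.centralizer {x}).subtype |>.codRestrict
      (Subgroup.centralizer {y}) fun c => ?_) ?_)
  · rw [Subgroup.mem_centralizer_singleton_iff, ← h]
    show g * c * g⁻¹ * (g * x * g⁻¹) = g * x * g⁻¹ * (g * c * g⁻¹)
    calc g * c * g⁻¹ * (g * x * g⁻¹) = g * ((c : G) * x) * g⁻¹ := by group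
      _ = _ := by rw [Subgroup.mem_centralizer_singleton_iff.1 c.2]; group
  · intro c d hcd
    exact Subtype.ext ((MulAut.conj g).injective (congrArg Subtype.val hcd))

end Cfsg.Agent.Lie.RankOne
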