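import Cfsg.Agent.Lib.Lie.RegUnipSL3

/-!
A subgroup containing a regular unipotent element and a transvection in general position contains
the special linear group.
-/

set_option autoImplicit false
set_option linter.unusedSectionVars false

namespace Cfsg.Agent.Lie.RegUnip

open Matrix Cfsg.Agent.Classical.MaxTv

variable {F : Type*} [Field F] {ι : Type} [Fintype ι] [DecidableEq ι]

/-- `H` contains the whole transvection group with centre `x` and axis `ker φ`. -/
def TGroup (H : Subgroup (GL ι F)) (x φ : ι → F) : Prop := φ ⬝ᵥ x = 0 ∧ ∀ t : F, InT H (t • x) φ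

variable {H : Subgroup (GL ι F)} {v v' x y φ ψ r : ι → F}

theorem tGroup_zero_left (H : Subgroup (GL ι F)) (φ : ι → F) : TGroup H 0 φ :=
  ⟨dotProduct_zero φ, fun t => by rw [smul_zero]; exact InT.zero_left φ⟩

theorem TGroup.add_left (h : TGroup H x φ) (h' : TGroup H y φ) : TGroup H (x + y) φ := by
  refine ⟨by rw [dotProduct_add, h.1, h'.1, add_zero], fun t => ?_⟩
  rw [smul_add]
  exact (h.2 t).add_left (h'.2 t) (by rw [dotProduct_smul, h'.1, smul_zero])

theorem TGroup.smul_left (h : TGroup H x φ) (c : F) : TGroup H (c • x) φ :=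
  ⟨by rw [dotProduct_smul, h.1, smul_zero], fun t => by rw [smul_smul]; exact h.2 _⟩

theorem TGroup.sub_left (h : TGroup H x φ) (h' : TGroup H y φ) : TGroup H (x - y) φ := by
  rw [sub_eq_add_neg, ← neg_one_smul F y]; exact h.add_left (h'.smul_left _)

theorem TGroup.add_right (h : TGroup H x φ) (h' : TGroup H x ψ) : TGroup H x (φ + ψ) := by
  refine ⟨by rw [add_dotProduct, h.1, h'.1, add_zero], fun t => ?_⟩
  exact (h.2 t).add_right (h'.2 t) (by rw [dotProduct_smul, h.1, smul_zero])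

theorem TGroup.smul_right (h : TGroup H x φ) (c : F) : TGroup H x (c • φ) :=
  ⟨by rw [smul_dotProduct, h.1, smul_zero],
    fun t => by rw [← inT_smul_comm, smul_smul]; exact h.2 _⟩

theorem TGroup.sub_right (h : TGroup H x φ) (h' : TGroup H x ψ) : TGroup H x (φ - ψ) := by
  rw [sub_eq_add_neg, ← neg_one_smul F ψ]; exact h.add_right (h'.smul_right _)

theorem TGroup.conj (h : TGroup H x φ) {g : GL ι F} (hg : g ∈ H) :
    TGroup H ((g : Matrix ι ι F) *ᵥ x) (φ ᵥ* ((g⁻¹ : GL ι F) : Matrix ι ι F)) :=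
  ⟨by rw [vecMul_inv_dot, h.1], fun t => by rw [← mulVec_smul]; exact (h.2 t).conj hg⟩

/-- Commutator of two transvections, one of whose pairings vanishes. -/
theorem inT_comm' (h : InT H v φ) (hv : φ ⬝ᵥ v = 0) (h' : InT H v' r) (h0 : φ ⬝ᵥ v' = 0) :
    InT H ((r ⬝ᵥ v) • v') φ := by
  have h1 := (inT_neg_left h hv).add_left (inT_comm h h' h0)
    (by rw [dotProduct_add, dotProduct_smul, hv, h0, smul_zero, add_zero])
  rwa [neg_add_cancel_left] at h1

theorem TGroup.comm (h : TGroup H v φ) (h' : InT H v' r) (h0 : φ ⬝ᵥ v' = 0) (hr : r ⬝ᵥ v ≠ 0) :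
    TGroup H v' φ := by
  refine ⟨h0, fun t => ?_⟩
  have h1 := inT_comm' (h.2 (t / (r ⬝ᵥ v))) (by rw [dotProduct_smul, h.1, smul_zero]) h' h0
  rwa [dotProduct_smul, smul_eq_mul, div_mul_cancel₀ _ hr] at h1

theorem TGroup.comm' (h : TGroup H v φ) (h' : TGroup H v' r) (h0 : φ ⬝ᵥ v' = 0) (hr : r ⬝ᵥ v ≠ 0) :
    TGroup H v' φ := h.comm (by simpa using h'.2 1) h0 hr

variable [Fintype F]

theorem specialLinear_le_of_shift {u : GL ι F} (hu : u ∈ H) {z w : ι → F} {t₀ β s : F} (ht₀ : t₀ ≠ 0)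
    (hT : InT H (t₀ • z) w) (h0 : w ⬝ᵥ z = 0) (h1 : w ⬝ᵥ ((u : Matrix ι ι F) *ᵥ z) = 0)
    (hβ : w ⬝ᵥ (((u⁻¹ : GL ι F) : Matrix ι ι F) *ᵥ z) = β) (hβ0 : β ≠ 0)
    (h2 : w ⬝ᵥ ((u : Matrix ι ι F) *ᵥ ((u : Matrix ι ι F) *ᵥ z)) = s) (hs0 : s ≠ 0)
    (hgen : ∀ M : Subfield F, s * β ^ 2 * t₀ ^ 3 ∈ M → M = ⊤)
    (hz : Submodule.span F (Set.range fun k : ℕ => ((u : Matrix ι ι F) ^ k) *ᵥ z) = ⊤)
    (hw : Submodule.span F (Set.range fun k : ℕ => w ᵥ* ((u : Matrix ι ι F) ^ k)) = ⊤) :
    Cfsg.Geo.specialLinear ι F ≤ H := by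
  classical
  set U : Matrix ι ι F := (u : Matrix ι ι F) with hU
  set U' : Matrix ι ι F := ((u⁻¹ : GL ι F) : Matrix ι ι F) with hU'
  have hUU' : U * U' = 1 := by rw [hU, hU', ← Units.val_mul, mul_inv_cancel, Units.val_one]
  have hU'U : U' * U = 1 := by rw [hU, hU', ← Units.val_mul, inv_mul_cancel, Units.val_one]
  have back : ∀ {x φ : ι → F}, InT H x φ → InT H (U' *ᵥ x) (φ ᵥ* U) := fun h => by
    have := h.conj (inv_mem hu); rwa [inv_inv] at this
  have fwd : ∀ {x φ : ι → F}, InT H x φ → InT H (U *ᵥ x) (φ ᵥ* U') := fun h => h.conj hu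
  -- enlarge the scalars
  have mkL1 : ∀ a b : F, InT H (a • z) w → InT H (b • z) w → InT H ((β * a * b) • (U *ᵥ z)) w := by
    intro a b ha hb
    have h3 := inT_comm' ha (by rw [dotProduct_smul, h0, smul_zero]) (fwd hb)
      (by rw [mulVec_smul, dotProduct_smul, h1, smul_zero])
    rw [mulVec_smul, dotProduct_smul, ← dotProduct_mulVec, hβ, smul_smul, smul_eq_mul] at h3
    rwa [show β * a * b = a * β * b by ring]
  have mkL0 : ∀ a b : F, InT H (a • (U *ᵥ z)) w → InT H (b • (U *ᵥ z)) w →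
      InT H ((s * a * b) • z) w := by
    intro a b ha hb
    have hb' := back hb
    rw [mulVec_smul, mulVec_mulVec, hU'U, one_mulVec] at hb'
    have h3 := inT_comm' ha (by rw [dotProduct_smul, h1, smul_zero]) hb'
      (by rw [dotProduct_smul, h0, smul_zero])
    rw [dotProduct_smul, ← dotProduct_mulVec, h2, smul_smul, smul_eq_mul] at h3
    rwa [show s * a * b = a * s * b by ring]
  let A : AddSubgroup F :=
    { carrier := {a | InT H ((a * t₀) • z) w}
      add_mem' := fun {a b} ha hb => by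
        show InT H (((a + b) * t₀) • z) w
        rw [add_mul, add_smul]
        exact InT.add_left ha hb (by rw [dotProduct_smul, h0, smul_zero])
      zero_mem' := by
        show InT H (((0 : F) * t₀) • z) w
        rw [zero_mul, zero_smul]; exact InT.zero_left w
      neg_mem' := fun {a} ha => by
        show InT H (((-a) * t₀) • z) w
        rw [neg_mul, neg_smul]
        exact inT_neg_left ha (by rw [dotProduct_smul, h0, smul_zero]) }
  have hA : ∀ a, a ∈ A := by
    refine forall_mem_of_stable A one_ne_zero ?_ (fun a ha => ?_) hgen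
    · show InT H (((1 : F) * t₀) • z) w
      rwa [one_mul]
    · show InT H ((s * β ^ 2 * t₀ ^ 3 * a * t₀) • z) w
      have h3 := mkL0 _ _ (mkL1 _ _ ha hT) (mkL1 _ _ hT hT)
      rwa [show s * (β * (a * t₀) * t₀) * (β * t₀ * t₀) = s * β ^ 2 * t₀ ^ 3 * a * t₀ by ring] at h3
  have P00 : TGroup H z w := by
    refine ⟨h0, fun t => ?_⟩
    have h3 : InT H ((t / t₀ * t₀) • z) w := hA (t / t₀)
    rwa [div_mul_cancel₀ _ ht₀] at h3
  set z1 := U *ᵥ z with hz1
  set z2 := U *ᵥ z1 with hz2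
  set w1 := w ᵥ* U' with hw1
  set w2 := w1 ᵥ* U' with hw2
  have d10 : w1 ⬝ᵥ z = β := by rw [hw1, ← dotProduct_mulVec]; exact hβ
  have P10 : TGroup H z1 w := by
    refine P00.comm ?_ h1 (by rw [d10]; exact hβ0)
    simpa using fwd (by simpa using P00.2 1)
  have P11 : TGroup H z1 w1 := P00.conj hu
  have P21 : TGroup H z2 w1 := P10.conj hu
  have P22 : TGroup H z2 w2 := P11.conj hu
  have d11 : w1 ⬝ᵥ z1 = 0 := P11.1
  have d12 : w1 ⬝ᵥ z2 = 0 := P21.1
  have d21 : w2 ⬝ᵥ z1 = β := by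
    rw [hw2, ← dotProduct_mulVec, hz1, mulVec_mulVec, hU'U, one_mulVec]; exact d10
  have d02 : w ⬝ᵥ z2 = s := h2
  set f : F := w2 ⬝ᵥ z
  let X : Fin 3 → ι → F := ![z, z1, z2]
  let Φ : Fin 3 → ι → F := ![β⁻¹ • w1, β⁻¹ • (w2 - (f / β) • w1), s⁻¹ • w]
  have hpair : ∀ i j, Φ i ⬝ᵥ X j = if i = j then 1 else 0 := by
    intro i j
    fin_cases i <;> fin_cases j <;>
      simp [X, Φ, smul_dotProduct, sub_dotProduct, d10, d11, d12, d21, d02, h0, h1, P22.1,
        show w2 ⬝ᵥ z = f from rfl, hβ0, hs0]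
  have hself : ∀ i, Φ i ⬝ᵥ X i = 1 := fun i => by rw [hpair, if_pos rfl]
  have hX : ∀ i j, i ≠ j → TGroup H (X i) (Φ j) := by
    have q02 : TGroup H (X 0) (Φ 2) := P00.smul_right _
    have q12 : TGroup H (X 1) (Φ 2) := P10.smul_right _
    have q10 : TGroup H (X 1) (Φ 0) := P11.smul_right _
    have q20 : TGroup H (X 2) (Φ 0) := P21.smul_right _
    have q21 : TGroup H (X 2) (Φ 1) := (P22.sub_right (P21.smul_right _)).smul_right _
    have q01 : TGroup H (X 0) (Φ 1) := q21.comm' q02 (by rw [hpair, if_neg (by decide)])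
      (by rw [hpair, if_pos rfl]; exact one_ne_zero)
    intro i j hij
    fin_cases i <;> fin_cases j <;> first | exact absurd rfl hij | assumption
  -- the common kernel of the three functionals
  let p : (ι → F) → ι → F := fun x => x - ∑ i, (Φ i ⬝ᵥ x) • X i
  let W : (ι → F) → Prop := fun x => ∀ i, TGroup H (p x) (Φ i)
  have hΦp : ∀ i x, Φ i ⬝ᵥ p x = 0 := by
    intro i x
    simp [p, dotProduct_sub, dotProduct_sum, dotProduct_smul, hpair]
  have step : ∀ (c ψ : ι → F), TGroup H c ψ → ∀ x, W x → ψ ⬝ᵥ x ≠ 0 → W c := by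
    intro c ψ hc x hx hψ
    have hpick : ∀ (i j : Fin 3), i ≠ j → ∀ v : ι → F, TGroup H v (Φ i) → TGroup H v (Φ j) →
        ψ ⬝ᵥ v ≠ 0 →
        ∃ (i l : Fin 3) (a b : F), i ≠ l ∧ a ≠ 0 ∧ TGroup H c (a • Φ i + b • Φ l) := by
      intro i j hij v hi hj hv
      by_cases hci : Φ i ⬝ᵥ c = 0
      · refine ⟨i, j, 1, 0, hij, one_ne_zero, ?_⟩
        rw [zero_smul, add_zero, one_smul]
        exact hi.comm' hc hci hv
      · refine ⟨j, i, Φ i ⬝ᵥ c, -(Φ j ⬝ᵥ c), hij.symm, hci, ?_⟩
        refine ((hj.smul_right _).add_right (hi.smul_right _)).comm' hc ?_ hv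
        simp [add_dotProduct, smul_dotProduct]; ring
    obtain ⟨i, l, a, b, hil, ha, hcφ⟩ :
        ∃ (i l : Fin 3) (a b : F), i ≠ l ∧ a ≠ 0 ∧ TGroup H c (a • Φ i + b • Φ l) := by
      by_cases hy : ψ ⬝ᵥ p x = 0
      · obtain ⟨j, hj⟩ : ∃ j, ψ ⬝ᵥ X j ≠ 0 := by
          by_contra hne
          push Not at hne
          refine hψ ?_
          have e : x = p x + ∑ i, (Φ i ⬝ᵥ x) • X i := by simp [p]
          rw [e, dotProduct_add, hy, dotProduct_sum]
          simp [dotProduct_smul, hne]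
        exact hpick (j + 1) (j + 2) (by fin_cases j <;> decide) (X j)
          (hX _ _ (by fin_cases j <;> decide)) (hX _ _ (by fin_cases j <;> decide)) hj
      · exact hpick 0 1 (by decide) (p x) (hx 0) (hx 1) hy
    obtain ⟨k, hki, hkl, huniv⟩ : ∃ k : Fin 3, k ≠ i ∧ k ≠ l ∧
        ∀ g : Fin 3 → ι → F, ∑ t, g t = g i + g l + g k := by
      fin_cases i <;> fin_cases l <;> first
        | exact absurd rfl hil
        | exact ⟨0, by decide, by decide, fun g => by simp [Fin.sum_univ_three] <;> abel⟩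
        | exact ⟨1, by decide, by decide, fun g => by simp [Fin.sum_univ_three] <;> abel⟩
        | exact ⟨2, by decide, by decide, fun g => by simp [Fin.sum_univ_three] <;> abel⟩
    set φ := a • Φ i + b • Φ l with hφ
    have hkφ : TGroup H (X k) φ :=
      ((hX k i hki).smul_right _).add_right ((hX k l hkl).smul_right _)
    have hx0 : TGroup H (X l + (-b / a) • X i) φ := by
      obtain ⟨g, hg, hgx⟩ := (hX i l hil).2 (-b / a)
      have h3 := (hX l i hil.symm).conj hg
      have e1 : (g : Matrix ι ι F) *ᵥ X l = X l + (-b / a) • X i := by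
        rw [hgx, hself, one_smul]
      have e2 : Φ i ᵥ* ((g⁻¹ : GL ι F) : Matrix ι ι F) = Φ i + (b / a) • Φ l := by
        have e3 : (Φ i + (b / a) • Φ l) ᵥ* (g : Matrix ι ι F) = Φ i := by
          rw [tv_val hgx, vecMul_add, vecMul_one, vecMul_vecMulVec, add_dotProduct, dotProduct_smul,
            hself, smul_dotProduct, dotProduct_smul, hpair l i, if_neg hil.symm]
          funext t
          simp
          ring
        conv_lhs => rw [← e3]
        rw [vecMul_vecMul, ← Units.val_mul, mul_inv_cancel, Units.val_one, vecMul_one]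
      rw [e1, e2] at h3
      have h4 := h3.smul_right a
      rwa [smul_add, smul_smul, mul_div_cancel₀ _ ha] at h4
    have hpc : TGroup H (p c) φ := by
      have hdot : a * (Φ i ⬝ᵥ c) + b * (Φ l ⬝ᵥ c) = 0 := by
        have := hcφ.1
        simpa [hφ, add_dotProduct, smul_dotProduct] using this
      have e : p c = c - ((Φ k ⬝ᵥ c) • X k + (Φ l ⬝ᵥ c) • (X l + (-b / a) • X i)) := by
        simp only [p, huniv fun t => (Φ t ⬝ᵥ c) • X t]
        have e' : (Φ i ⬝ᵥ c) = (Φ l ⬝ᵥ c) * (-b / a) := by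
          field_simp
          linear_combination hdot
        rw [e']
        module
      rw [e]
      exact hcφ.sub_left ((hkφ.smul_left _).add_left (hx0.smul_left _))
    have hm : ∀ m, m ≠ i → TGroup H (p c) (Φ m) := fun m hm => by
      refine (hX i m hm.symm).comm' hpc (hΦp m c) ?_
      rw [hφ, add_dotProduct, smul_dotProduct, smul_dotProduct, hself, hpair l i, if_neg hil.symm]
      simpa using ha
    intro m
    rcases eq_or_ne m i with rfl | h
    · exact (hX l m hil.symm).comm' (hm l hil.symm) (hΦp m c) (by rw [hself]; exact one_ne_zero)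
    · exact hm m h
  have hWX : ∀ j, W (X j) := by
    intro j i
    have : p (X j) = 0 := by simp [p, hpair]
    rw [this]; exact tGroup_zero_left H _
  -- the orbit of the centre
  have horb : ∀ k : ℕ, W ((U ^ k) *ᵥ z) ∧ TGroup H ((U ^ k) *ᵥ z) (w ᵥ* (U' ^ k)) := by
    intro k
    induction k with
    | zero => exact ⟨by simpa [X] using hWX 0, by simpa using P00⟩
    | succ k ih =>
      have h3 := ih.2.conj hu
      rw [← hU, ← hU', mulVec_mulVec, ← pow_succ', vecMul_vecMul, ← pow_succ] at h3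
      refine ⟨step _ _ h3 _ ih.1 ?_, h3⟩
      have e : U' ^ k * U ^ k = 1 := by
        rw [hU, hU', ← Units.val_pow_eq_pow_val, ← Units.val_pow_eq_pow_val, ← Units.val_mul, inv_pow,
          inv_mul_cancel, Units.val_one]
      rw [pow_succ', ← vecMul_vecMul, ← dotProduct_mulVec, mulVec_mulVec, e, one_mulVec]
      rw [← hw1, d10]; exact hβ0
  have hWall : ∀ x, W x := by
    intro x
    have hx : x ∈ Submodule.span F (Set.range fun k : ℕ => (U ^ k) *ᵥ z) := by
      rw [hz]; exact Submodule.mem_top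
    have p0 : p 0 = 0 := by simp [p]
    have padd : ∀ a b, p (a + b) = p a + p b := fun a b => by
      simp only [p, dotProduct_add, add_smul, Finset.sum_add_distrib]; abel
    have psmul : ∀ (c : F) a, p (c • a) = c • p a := fun c a => by
      simp only [p, dotProduct_smul, smul_sub, Finset.smul_sum, smul_smul, smul_eq_mul]
    refine Submodule.span_induction (p := fun x _ => W x) ?_ ?_ ?_ ?_ hx
    · rintro _ ⟨k, rfl⟩; exact (horb k).1
    · intro i; rw [p0]; exact tGroup_zero_left H _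
    · intro a b _ _ ha hb i; rw [padd]; exact (ha i).add_left (hb i)
    · intro c a _ ha i; rw [psmul]; exact (ha i).smul_left c
  have hfull0 : IsFull H (Φ 0) := by
    intro v hv
    have e : v = p v + ((Φ 1 ⬝ᵥ v) • X 1 + (Φ 2 ⬝ᵥ v) • X 2) := by
      simp only [p, Fin.sum_univ_three, hv, zero_smul, zero_add]; abel
    have h3 := ((hWall v 0).add_left (((hX 1 0 (by decide)).smul_left (Φ 1 ⬝ᵥ v)).add_left
      ((hX 2 0 (by decide)).smul_left (Φ 2 ⬝ᵥ v)))).2 1
    rw [one_smul, ← e] at h3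
    exact h3
  have hfullw : IsFull H w := by
    have h3 := (hfull0.conj hu).smul β
    have e : β • (Φ 0 ᵥ* U) = w := by
      simp [Φ, hw1, smul_vecMul, smul_smul, hβ0, hU'U]
    rwa [← hU, e] at h3
  have hall : ∀ r, IsFull H r := by
    intro r
    have hr : r ∈ Submodule.span F (Set.range fun k : ℕ => w ᵥ* (U ^ k)) := by
      rw [hw]; exact Submodule.mem_top
    refine Submodule.span_induction (p := fun r _ => IsFull H r) ?_ ?_ ?_ ?_ hr
    · rintro _ ⟨k, rfl⟩
      have := hfullw.conj (pow_mem hu k)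
      rwa [Units.val_pow_eq_pow_val] at this
    · exact isFull_zero H
    · intro a b _ _ ha hb; exact ha.add hb
    · intro c a _ ha; exact ha.smul c
  exact specialLinear_le fun v φ hφ => hall φ v hφ

end Cfsg.Agent.Lie.RegUnip
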