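import Cfsg.Agent.Lib.Classical.MaxTransvection

/-! `SL_n(F)`, `n ≥ 3`, is generated by three conjugates of a regular unipotent element. -/

set_option autoImplicit false
set_option linter.unusedSectionVars false

namespace Cfsg.Agent.Lie.RegUnip

open Matrix Cfsg.Agent.Classical.MaxTv

variable {F : Type*} [Field F]

section general

variable {ι : Type} [Fintype ι] [DecidableEq ι]

theorem inT_smul_comm {H : Subgroup (GL ι F)} {v φ : ι → F} (c : F) :
    InT H (c • v) φ ↔ InT H v (c • φ) := by
  refine exists_congr fun g => and_congr_right fun _ => forall_congr' fun x => ?_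
  rw [smul_dotProduct, smul_eq_mul, smul_smul, mul_comm (φ ⬝ᵥ x) c]

theorem inT_neg_left {H : Subgroup (GL ι F)} {v φ : ι → F} (h : InT H v φ) (hφ : φ ⬝ᵥ v = 0) :
    InT H (-v) φ := by
  rw [← neg_one_smul F v, inT_smul_comm, neg_one_smul]
  exact h.neg hφ

/-- The functionals all of whose transvections lie in `H`. -/
def IsFull (H : Subgroup (GL ι F)) (r : ι → F) : Prop := ∀ v : ι → F, r ⬝ᵥ v = 0 → InT H v r

theorem isFull_zero (H : Subgroup (GL ι F)) : IsFull H 0 := fun v _ => InT.zero_right v

theorem IsFull.smul {H : Subgroup (GL ι F)} {r : ι → F} (h : IsFull H r) (c : F) :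
    IsFull H (c • r) := by
  intro v hv
  rcases eq_or_ne c 0 with rfl | hc
  · rw [zero_smul]; exact InT.zero_right v
  rw [← inT_smul_comm]
  refine h _ ?_
  rw [smul_dotProduct, smul_eq_zero] at hv
  rw [dotProduct_smul, hv.resolve_left hc, smul_zero]

theorem IsFull.conj {H : Subgroup (GL ι F)} {r : ι → F} (h : IsFull H r) {g : GL ι F} (hg : g ∈ H) :
    IsFull H (r ᵥ* (g : Matrix ι ι F)) := by
  intro v hv
  rw [← dotProduct_mulVec] at hv
  have h1 := (h _ hv).conj (inv_mem hg)
  rw [inv_inv, mulVec_mulVec, ← Units.val_mul, inv_mul_cancel, Units.val_one, one_mulVec] at h1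
  exact h1

theorem IsFull.add {H : Subgroup (GL ι F)} {r s : ι → F} (h : IsFull H r) (h' : IsFull H s) :
    IsFull H (r + s) := by
  rcases eq_or_ne r 0 with rfl | hr
  · rwa [zero_add]
  obtain ⟨i, hi⟩ := Function.ne_iff.1 hr
  simp only [Pi.zero_apply] at hi
  rcases eq_or_ne (s - (s i / r i) • r) 0 with h3 | h3
  · rw [sub_eq_zero.1 h3]
    have e : r + (s i / r i) • r = (1 + s i / r i) • r := by rw [add_smul, one_smul]
    rw [e]; exact h.smul _
  obtain ⟨j, hj⟩ := Function.ne_iff.1 h3
  simp only [Pi.sub_apply, Pi.smul_apply, smul_eq_mul, Pi.zero_apply] at hj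
  let e : F := (r i * (s j - s i / r i * r j))⁻¹
  let v₀ : ι → F := (Pi.single j (r i * e)) - Pi.single i (r j * e)
  have h0 : r ⬝ᵥ v₀ = 0 := by
    simp only [v₀, dotProduct_sub, dotProduct_single]; ring
  have h1 : s ⬝ᵥ v₀ = 1 := by
    simp only [v₀, dotProduct_sub, dotProduct_single]
    have h2 : r i * (s j - s i / r i * r j) = r i * s j - r j * s i := by field_simp
    have h3 : r i * (s j - s i / r i * r j) ≠ 0 := mul_ne_zero hi hj
    have h4 : (r i * (s j - s i / r i * r j)) * e = 1 := mul_inv_cancel₀ h3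
    rw [h2] at h4
    linear_combination h4
  obtain ⟨g, hg, hgx⟩ := h v₀ h0
  have h2 := h'.conj hg
  have e2 : s ᵥ* (g : Matrix ι ι F) = r + s := by
    rw [tv_val hgx, vecMul_add, vecMul_one, vecMul_vecMulVec, h1, one_smul, add_comm]
  rwa [e2] at h2

theorem IsFull.sum {H : Subgroup (GL ι F)} {κ : Type*} (t : Finset κ) (f : κ → ι → F)
    (h : ∀ k ∈ t, IsFull H (f k)) : IsFull H (∑ k ∈ t, f k) :=
  Finset.sum_induction f (IsFull H) (fun _ _ => IsFull.add) (isFull_zero H) h

/-- Commutator of two transvections. -/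
theorem inT_comm {H : Subgroup (GL ι F)} {v v' φ r : ι → F} (h : InT H v φ) (h' : InT H v' r)
    (h0 : φ ⬝ᵥ v' = 0) : InT H (v + (r ⬝ᵥ v) • v') φ := by
  obtain ⟨g, hg, hgx⟩ := h'
  have h1 := h.conj hg
  have e : φ ᵥ* (g : Matrix ι ι F) = φ := by
    rw [tv_val hgx, vecMul_add, vecMul_one, vecMul_vecMulVec, h0, zero_smul, add_zero]
  have e' : φ ᵥ* ((g⁻¹ : GL ι F) : Matrix ι ι F) = φ := by
    conv_lhs => rw [← e]
    rw [vecMul_vecMul, ← Units.val_mul, mul_inv_cancel, Units.val_one, vecMul_one]
  rw [e', hgx] at h1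
  exact h1

end general

theorem val_mul_mulVec {ι : Type} [Fintype ι] [DecidableEq ι] (x y : SpecialLinearGroup ι F)
    (v : ι → F) : (x * y).val *ᵥ v = x.val *ᵥ (y.val *ᵥ v) := (mulVec_mulVec v x.val y.val).symm

theorem vecMul_val_mul {ι : Type} [Fintype ι] [DecidableEq ι] (x y : SpecialLinearGroup ι F)
    (v : ι → F) : v ᵥ* (x * y).val = (v ᵥ* x.val) ᵥ* y.val := (vecMul_vecMul v x.val y.val).symm

theorem val_one' {ι : Type} [Fintype ι] [DecidableEq ι] :
    (1 : SpecialLinearGroup ι F).val = 1 := rfl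

variable (m : ℕ)

/-- Indices `0`, `n - 2`, `n - 1`, `n - 3` for `n = m + 3`. -/
def i0 : Fin (m + 3) := ⟨0, by omega⟩
@[inherit_doc i0] def iA : Fin (m + 3) := ⟨m, by omega⟩
@[inherit_doc i0] def iB : Fin (m + 3) := ⟨m + 1, by omega⟩
@[inherit_doc i0] def iL : Fin (m + 3) := ⟨m + 2, by omega⟩

/-- The regular nilpotent matrix. -/
def shiftN : Matrix (Fin (m + 3)) (Fin (m + 3)) F :=
  Matrix.of fun i j => if (i : ℕ) + 1 = j then 1 else 0

theorem shiftN_pow (k : ℕ) (i j : Fin (m + 3)) :
    ((shiftN m : Matrix _ _ F) ^ k) i j = if (i : ℕ) + k = j then 1 else 0 := by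
  induction k generalizing i with
  | zero => simp [Matrix.one_apply, Fin.ext_iff]
  | succ k ih =>
    rw [pow_succ', Matrix.mul_apply]
    by_cases hi : (i : ℕ) + 1 < m + 3
    · rw [Finset.sum_eq_single (⟨(i : ℕ) + 1, hi⟩ : Fin (m + 3))]
      · rw [ih]
        simp only [shiftN, Matrix.of_apply, if_true, one_mul]
        rw [add_assoc, add_comm 1 k]
      · intro b _ hb
        rw [show (shiftN m : Matrix _ _ F) i b = 0 from if_neg fun e => hb (Fin.ext e.symm), zero_mul]
      · simp
    · rw [Finset.sum_eq_zero fun b _ => by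
        rw [show (shiftN m : Matrix _ _ F) i b = 0 from if_neg (by omega), zero_mul], if_neg (by omega)]

/-- The regular unipotent element. -/
def regU : SpecialLinearGroup (Fin (m + 3)) F :=
  ⟨1 + shiftN m, by
    rw [Matrix.det_of_upperTriangular]
    · simp [shiftN]
    · intro i j hji
      have : (j : ℕ) < i := hji
      rw [Matrix.add_apply, Matrix.one_apply_ne (by rintro rfl; omega), zero_add]
      exact if_neg (by omega)⟩

theorem regU_nilpotent :
    IsNilpotent ((regU m : SpecialLinearGroup (Fin (m + 3)) F).val - 1) ∧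
      ((regU m : SpecialLinearGroup (Fin (m + 3)) F).val - 1) ^ (m + 2) ≠ 0 := by
  have e : (regU m : SpecialLinearGroup (Fin (m + 3)) F).val - 1 = shiftN m := add_sub_cancel_left _ _
  rw [e]
  refine ⟨⟨m + 3, ?_⟩, fun h => ?_⟩
  · ext i j
    rw [shiftN_pow, if_neg (by omega), Matrix.zero_apply]
  · have := congrFun (congrFun h (i0 m)) (iL m)
    rw [shiftN_pow, if_pos (by simp [i0, iL])] at this
    exact one_ne_zero this

/-- The permutation giving the second Jordan basis. -/
noncomputable def pathPerm : Equiv.Perm (Fin (m + 3)) :=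
  Equiv.ofBijective
    (fun j => ⟨if (j : ℕ) < m then j + 1 else if (j : ℕ) = m then m + 2 else
      if (j : ℕ) = m + 1 then m + 1 else 0, by split_ifs <;> omega⟩)
    (Finite.injective_iff_bijective.1 fun a b h => by
      simp only [Fin.mk.injEq] at h
      ext
      split_ifs at h <;> omega)

theorem pathPerm_iA : pathPerm m (iA m) = iL m := by ext; simp [pathPerm, iA, iL]
theorem pathPerm_iB : pathPerm m (iB m) = iB m := by ext; simp [pathPerm, iB]
theorem pathPerm_iL : pathPerm m (iL m) = i0 m := by ext; simp [pathPerm, iL, i0]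

variable {m} [Fintype F]

theorem exists_three_conjugates : ∃ g h : SpecialLinearGroup (Fin (m + 3)) F,
    Subgroup.closure ({regU m, g * regU m * g⁻¹, h * regU m * h⁻¹} :
      Set (SpecialLinearGroup (Fin (m + 3)) F)) = ⊤ := by
  classical
  obtain ⟨β, hβ⟩ := IsCyclic.exists_monoid_generator (α := Fˣ)
  set b : F := (β : F) with hb
  have hb0 : b ≠ 0 := β.ne_zero
  set ε : F := ((Equiv.Perm.sign (pathPerm m).symm : ℤ) : F) with hε
  have hεε : ε * ε = 1 := by
    rw [hε, ← Int.cast_mul, ← Units.val_mul, Int.units_mul_self]; simp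
  set d : F := ε * b⁻¹ with hd
  have hd0 : d ≠ 0 := mul_ne_zero (left_ne_zero_of_mul (hεε.trans_ne one_ne_zero)) (inv_ne_zero hb0)
  let c : Fin (m + 3) → F := fun j => if j = iB m then b else if j = iA m then d else 1
  let gM : Matrix (Fin (m + 3)) (Fin (m + 3)) F :=
    (1 : Matrix _ _ F).submatrix (pathPerm m).symm id * diagonal c
  have hAB : iA m ≠ iB m := by simp [iA, iB]
  have hgdet : gM.det = 1 := by
    rw [det_mul, det_permute, det_one, mul_one, det_diagonal]
    rw [Finset.prod_eq_mul (iB m) (iA m) hAB.symm (fun j _ hj => by simp [c, hj.1, hj.2])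
      (by simp) (by simp)]
    simp only [c, if_pos, if_neg hAB]
    rw [← hε, hd]
    field_simp
    linear_combination hεε
  let g : SpecialLinearGroup (Fin (m + 3)) F := ⟨gM, hgdet⟩
  have hgcol : ∀ i j, g.val i j = if i = pathPerm m j then c j else 0 := by
    intro i j
    show gM i j = _
    simp [gM, mul_diagonal, Matrix.one_apply, Equiv.symm_apply_eq]
  have hL1 : (⟨1, by omega⟩ : Fin (m + 3)) ≠ iL m := by simp [iL]
  let h : SpecialLinearGroup (Fin (m + 3)) F := SpecialLinearGroup.transvection hL1 (-d⁻¹)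
  refine ⟨g, h, ?_⟩
  set u : SpecialLinearGroup (Fin (m + 3)) F := regU m with hu
  set w : SpecialLinearGroup (Fin (m + 3)) F := g * u * g⁻¹ with hw
  set K := Subgroup.closure ({u, w, h * u * h⁻¹} : Set (SpecialLinearGroup (Fin (m + 3)) F))
  set H := K.map SpecialLinearGroup.toGL with hH
  have hmem : ∀ x ∈ K, SpecialLinearGroup.toGL x ∈ H := fun x hx => Subgroup.mem_map_of_mem _ hx
  have huK : u ∈ K := Subgroup.subset_closure (by simp)
  have hwK : w ∈ K := Subgroup.subset_closure (by simp)
  -- the root element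
  have h0L : i0 m ≠ iL m := by simp [i0, iL]
  have hX : SpecialLinearGroup.transvection h0L d⁻¹ ∈ K := by
    have key : h * u = u * SpecialLinearGroup.transvection h0L d⁻¹ * h := by
      refine Subtype.ext ?_
      show (1 + Matrix.single (⟨1, by omega⟩ : Fin (m + 3)) (iL m) (-d⁻¹)) * (1 + shiftN m) =
        (1 + shiftN m) * (1 + Matrix.single (i0 m) (iL m) d⁻¹) *
          (1 + Matrix.single (⟨1, by omega⟩ : Fin (m + 3)) (iL m) (-d⁻¹))
      have e1 : Matrix.single (⟨1, by omega⟩ : Fin (m + 3)) (iL m) (-d⁻¹) * shiftN m = 0 := by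
        ext i j
        rw [Matrix.mul_apply, Matrix.zero_apply]
        refine Finset.sum_eq_zero fun k _ => ?_
        simp [Matrix.single_apply, shiftN, iL, Fin.ext_iff]
        omega
      have e2 : shiftN m * Matrix.single (i0 m) (iL m) d⁻¹ = 0 := by
        ext i j
        rw [Matrix.mul_apply, Matrix.zero_apply]
        refine Finset.sum_eq_zero fun k _ => ?_
        simp [Matrix.single_apply, shiftN, i0, Fin.ext_iff]
        omega
      have e3 : (shiftN m : Matrix _ _ F) * Matrix.single (⟨1, by omega⟩ : Fin (m + 3)) (iL m) (-d⁻¹) =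
          Matrix.single (i0 m) (iL m) (-d⁻¹) := by
        ext i j
        rw [Matrix.mul_apply, Finset.sum_eq_single (⟨1, by omega⟩ : Fin (m + 3))
          (fun b _ hb => by rw [Matrix.single_apply, if_neg fun e => hb e.1.symm, mul_zero]) (by simp)]
        simp only [shiftN, Matrix.of_apply, Matrix.single_apply, i0, Fin.ext_iff, true_and]
        split_ifs <;> first | omega | ring1 | trace_state
      simp only [add_mul, mul_add, one_mul, mul_one, e1, e2, e3, add_zero, zero_add, zero_mul,
        Matrix.single_mul_single_of_ne _ _ _ _ hL1.symm]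
      rw [show Matrix.single (i0 m) (iL m) (-d⁻¹) = -Matrix.single (i0 m) (iL m) d⁻¹ from by
        ext i j; simp [Matrix.single_apply]; split_ifs <;> simp]
      abel
    have : u⁻¹ * (h * u * h⁻¹) = SpecialLinearGroup.transvection h0L d⁻¹ := by
      rw [key]; group
    exact this ▸ mul_mem (inv_mem huK) (Subgroup.subset_closure (by simp))
  let eL : Fin (m + 3) → F := Pi.single (iL m) 1
  let S : (Fin (m + 3) → F) → Prop := fun v => InT H v eL ∧ v (iL m) = 0
  have hS0 : S 0 := ⟨InT.zero_left _, rfl⟩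
  have hSadd : ∀ v v', S v → S v' → S (v + v') := fun v v' a a' =>
    ⟨a.1.add_left a'.1 (by simp [eL, a'.2]), by simp [a.2, a'.2]⟩
  have hSsub : ∀ v v', S v → S v' → S (v - v') := fun v v' a a' =>
    sub_eq_add_neg v v' ▸ hSadd _ _ a ⟨inT_neg_left a'.1 (by simp [eL, a'.2]), by simp [a'.2]⟩
  -- the action of `u` on the column group
  have hue : eL ᵥ* u.val = eL := by
    funext j
    simp [hu, regU, eL, shiftN, Matrix.one_apply, iL, Pi.single_apply, Fin.ext_iff]
    split_ifs <;> first | omega | simp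
  have hSN : ∀ v, S v → S ((shiftN m : Matrix _ _ F) *ᵥ v) := by
    intro v hv
    have h1 := hv.1.conj (hmem u huK)
    rw [← map_inv, SpecialLinearGroup.coe_GL_coe_matrix, SpecialLinearGroup.coe_GL_coe_matrix] at h1
    have e : eL ᵥ* (u⁻¹).val = eL := by
      conv_lhs => rw [← hue]
      rw [← vecMul_val_mul, mul_inv_cancel, val_one', vecMul_one]
    rw [e] at h1
    have h2 : S (u.val *ᵥ v) := ⟨h1, by
      have : eL ⬝ᵥ (u.val *ᵥ v) = 0 := by rw [dotProduct_mulVec, hue]; simp [eL, hv.2]
      simpa [eL] using this⟩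
    have h3 := hSsub _ _ h2 hv
    simpa [hu, regU, add_mulVec] using h3
  have hNsingle : ∀ (i : Fin (m + 3)) (x : F) (hi : 0 < (i : ℕ)),
      (shiftN m : Matrix _ _ F) *ᵥ Pi.single i x =
        Pi.single (⟨(i : ℕ) - 1, by omega⟩ : Fin (m + 3)) x := by
    intro i x hi
    funext k
    simp [shiftN, Pi.single_apply, Fin.ext_iff]
    split_ifs <;> first | omega | rfl
  have hSdown : ∀ (k : ℕ) (j i : Fin (m + 3)) (x : F), (i : ℕ) + k = j →
      S (Pi.single j x) → S (Pi.single i x) := by
    intro k
    induction k with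
    | zero => intro j i x hij hx; rwa [Fin.ext hij]
    | succ k ih =>
      intro j i x hij hx
      have := hSN _ hx
      rw [hNsingle j x (by omega)] at this
      exact ih _ i x (by simp only; omega) this
  -- the vector `w e₀` and the coordinate of `eL w⁻¹`
  have hgL : g.val *ᵥ Pi.single (iL m) 1 = Pi.single (i0 m) 1 := by
    funext k
    have e1 : iL m ≠ iB m := by simp [iL, iB]
    have e2 : iL m ≠ iA m := by simp [iL, iA]
    simp [hgcol, c, e1, e2, pathPerm_iL, Pi.single_apply]
  have hwe : w.val *ᵥ Pi.single (i0 m) 1 = Pi.single (i0 m) 1 + Pi.single (iB m) b := by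
    rw [← hgL, ← val_mul_mulVec, hw, inv_mul_cancel_right, val_mul_mulVec, hgL]
    have e : u.val *ᵥ Pi.single (iL m) 1 = Pi.single (iL m) 1 + Pi.single (iB m) 1 := by
      rw [hu, regU]
      simp only [add_mulVec, one_mulVec]
      rw [hNsingle (iL m) 1 (by simp [iL])]
      rfl
    rw [e, mulVec_add, hgL]
    congr 1
    funext k
    simp [hgcol, c, pathPerm_iB, Pi.single_apply]
  set r : Fin (m + 3) → F := eL ᵥ* (w⁻¹).val with hr
  have hr0 : r (i0 m) = d := by
    have e0 : r (i0 m) = ((w⁻¹).val *ᵥ Pi.single (i0 m) 1) (iL m) := by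
      simp [hr, eL]
    rw [e0, ← hgL, ← val_mul_mulVec, show w⁻¹ * g = g * u⁻¹ by rw [hw]; group, val_mul_mulVec]
    set y := (u⁻¹).val *ᵥ Pi.single (iL m) (1 : F) with hy
    have huy : ∀ i, y i + ((shiftN m : Matrix _ _ F) *ᵥ y) i =
        (Pi.single (iL m) (1 : F) : Fin (m + 3) → F) i := by
      intro i
      have : u.val *ᵥ y = Pi.single (iL m) 1 := by
        rw [hy, ← val_mul_mulVec, mul_inv_cancel, val_one', one_mulVec]
      rw [← this, hu, regU]
      simp [add_mulVec]
    have hNy : ∀ (i j : Fin (m + 3)), (i : ℕ) + 1 = j → ((shiftN m : Matrix _ _ F) *ᵥ y) i = y j := by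
      intro i j hij
      simp only [mulVec, dotProduct, shiftN, Matrix.of_apply]
      rw [Finset.sum_eq_single j (fun b _ hb => by
        rw [if_neg fun e => hb (Fin.ext (by omega)), zero_mul]) (by simp), if_pos hij, one_mul]
    have hNL : ((shiftN m : Matrix _ _ F) *ᵥ y) (iL m) = 0 := by
      simp only [mulVec, dotProduct, shiftN, Matrix.of_apply]
      exact Finset.sum_eq_zero fun j _ => by rw [if_neg (by simp [iL]; omega), zero_mul]
    have y1 := huy (iL m)
    have y2 := huy (iB m)
    have y3 := huy (iA m)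
    rw [hNL, add_zero, Pi.single_eq_same] at y1
    rw [hNy _ (iL m) (by simp [iB, iL]), y1, Pi.single_eq_of_ne (by simp [iB, iL])] at y2
    rw [hNy _ (iB m) (by simp [iA, iB]), Pi.single_eq_of_ne (by simp [iA, iL])] at y3
    have hyA : y (iA m) = 1 := by linear_combination y3 - y2
    show ∑ j, g.val (iL m) j * y j = d
    rw [Finset.sum_eq_single (iA m)]
    · rw [hgcol, if_pos (pathPerm_iA m).symm, hyA, mul_one]
      simp [c, hAB]
    · intro j _ hj
      rw [hgcol, if_neg fun e => hj ((pathPerm m).injective (by rw [pathPerm_iA, e])), zero_mul]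
    · simp
  have hcomm : ∀ s s', S (Pi.single (i0 m) s) → S (Pi.single (i0 m) s') →
      S (Pi.single (i0 m) (s * s' * d) + Pi.single (iB m) (s * s' * d * b)) := by
    intro s s' hs hs'
    have h1 := hs.1.conj (hmem w hwK)
    rw [← map_inv, SpecialLinearGroup.coe_GL_coe_matrix, SpecialLinearGroup.coe_GL_coe_matrix, ← hr] at h1
    have e : w.val *ᵥ Pi.single (i0 m) s = s • (Pi.single (i0 m) 1 + Pi.single (iB m) b) := by
      rw [← hwe, ← mulVec_smul, ← Pi.single_smul, smul_eq_mul, mul_one]
    rw [e] at h1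
    have h2 := inT_comm hs'.1 h1 (by simp [eL, iL, iB, i0, Fin.ext_iff, Pi.single_apply])
    have h3 : S (Pi.single (i0 m) s' + (r ⬝ᵥ Pi.single (i0 m) s') •
        s • (Pi.single (i0 m) 1 + Pi.single (iB m) b)) :=
      ⟨h2, by simp [iL, iB, i0, Fin.ext_iff, Pi.single_apply]⟩
    have h4 := hSsub _ _ h3 hs'
    rw [add_sub_cancel_left, dotProduct_single, hr0, smul_smul, smul_add, ← Pi.single_smul,
      ← Pi.single_smul, smul_eq_mul, smul_eq_mul, mul_one] at h4
    rw [show s * s' * d = d * s' * s by ring]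
    exact h4
  have hScl : ∀ s s', S (Pi.single (i0 m) s) → S (Pi.single (i0 m) s') →
      S (Pi.single (i0 m) (s * s' * d * b)) := by
    intro s s' hs hs'
    have h1 := hSN _ (hcomm s s' hs hs')
    have e0 : (shiftN m : Matrix _ _ F) *ᵥ Pi.single (i0 m) (s * s' * d) = 0 := by
      funext k; simp [shiftN, i0]
    rw [mulVec_add, e0, zero_add, hNsingle (iB m) _ (by simp [iB])] at h1
    exact hSdown m _ (i0 m) _ (by simp [i0, iB]) h1
  have ht : S (Pi.single (i0 m) d⁻¹) := by
    refine ⟨⟨_, hmem _ hX, fun x => ?_⟩, Pi.single_eq_of_ne h0L.symm _⟩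
    show (1 + Matrix.single (i0 m) (iL m) d⁻¹) *ᵥ x = _
    rw [add_mulVec, one_mulVec, single_mulVec_eq]
    simp only [eL, single_dotProduct, one_mul]
    rw [← Pi.single_smul, ← Pi.single_smul, smul_eq_mul, smul_eq_mul]
    ring_nf
  have hpow : ∀ k : ℕ, S (Pi.single (i0 m) (b ^ k * d⁻¹)) := by
    intro k
    induction k with
    | zero => simpa using ht
    | succ k ih =>
      have := hScl _ _ ih ht
      rwa [show b ^ k * d⁻¹ * d⁻¹ * d * b = b ^ (k + 1) * d⁻¹ by field_simp; ring] at this
  have hall0 : ∀ s : F, S (Pi.single (i0 m) s) := by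
    intro s
    rcases eq_or_ne s 0 with rfl | hs
    · simpa using hS0
    obtain ⟨k, hk⟩ := hβ (Units.mk0 (s * d) (mul_ne_zero hs hd0))
    have := hpow k
    have e : b ^ k = s * d := by
      simp only at hk
      rw [hb, ← Units.val_pow_eq_pow_val, hk]; rfl
    rwa [e, mul_assoc, mul_inv_cancel₀ hd0, mul_one] at this
  have hallB : ∀ x : F, S (Pi.single (iB m) x) := by
    intro x
    have h1 := hcomm (x / (d * b)) 1 (hall0 _) (hall0 _)
    have h2 := hSsub _ _ h1 (hall0 (x / (d * b) * 1 * d))
    rw [add_sub_cancel_left] at h2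
    rwa [show x / (d * b) * 1 * d * b = x by field_simp] at h2
  have hfullL : IsFull H eL := by
    intro v hv
    have hvL : v (iL m) = 0 := by simpa [eL] using hv
    have hsum : S (∑ j, Pi.single j (v j)) := by
      refine Finset.sum_induction _ S hSadd hS0 fun j _ => ?_
      rcases eq_or_ne j (iL m) with rfl | hj
      · rw [hvL]; simpa using hS0
      · exact hSdown (m + 1 - j) (iB m) j _ (by
          have := Fin.val_ne_of_ne hj; simp [iB, iL] at this ⊢; omega) (hallB _)
    rw [Finset.univ_sum_single] at hsum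
    exact hsum.1
  have hfullr : IsFull H r := by
    have := hfullL.conj (inv_mem (hmem w hwK))
    rwa [← map_inv, SpecialLinearGroup.coe_GL_coe_matrix, ← hr] at this
  have hfullN : ∀ {v}, IsFull H v → IsFull H (v ᵥ* (shiftN m : Matrix _ _ F)) := by
    intro v hv
    have h1 := (hv.conj (hmem u huK)).add (hv.smul (-1))
    rw [SpecialLinearGroup.coe_GL_coe_matrix, hu, regU] at h1
    simpa [vecMul_add] using h1
  have hrk : ∀ k, IsFull H (r ᵥ* ((shiftN m : Matrix _ _ F) ^ k)) := by
    intro k
    induction k with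
    | zero => simpa using hfullr
    | succ k ih => rw [pow_succ, ← vecMul_vecMul]; exact hfullN ih
  have htri : ∀ n : ℕ, ∀ v : Fin (m + 3) → F, (∀ j : Fin (m + 3), (j : ℕ) + n < m + 3 → v j = 0) →
      IsFull H v := by
    intro n
    induction n with
    | zero =>
      intro v hv
      rw [show v = 0 from funext fun j => hv j (by omega)]
      exact isFull_zero H
    | succ n ih =>
      intro v hv
      by_cases hn : n < m + 3
      · let k : Fin (m + 3) := ⟨m + 2 - n, by omega⟩
        set rk := r ᵥ* ((shiftN m : Matrix _ _ F) ^ (k : ℕ)) with hrk'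
        have hrkj : ∀ j : Fin (m + 3), rk j =
            ∑ i : Fin (m + 3), if (i : ℕ) + k = j then r i else 0 := by
          intro j; simp [hrk', vecMul, dotProduct, shiftN_pow]
        have hk1 : rk k = d := by
          rw [hrkj, Finset.sum_eq_single (i0 m)]
          · rw [if_pos (by simp [i0]), hr0]
          · intro i _ hi; rw [if_neg fun e => hi (Fin.ext (by show (i : ℕ) = 0; omega))]
          · simp
        have hk2 : ∀ j : Fin (m + 3), (j : ℕ) < k → rk j = 0 := by
          intro j hj
          rw [hrkj]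
          exact Finset.sum_eq_zero fun i _ => if_neg (by omega)
        have h1 := ih (v - (v k / d) • rk) (fun j hj => by
          rcases Nat.lt_or_ge (j : ℕ) (k : ℕ) with h2 | h2
          · simp [hk2 j h2, hv j (by simp [k] at h2; omega)]
          · have : j = k := Fin.ext (by simp [k] at h2 ⊢; omega)
            subst this
            simp [hk1, hd0])
        have h9 := h1.add ((hrk k).smul (v k / d))
        rwa [← hrk', sub_add_cancel] at h9
      · exact ih v fun j hj => absurd hj (by omega)
  have hSL := specialLinear_le (H := H) fun v φ hφ =>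
    htri (m + 3) φ (fun j hj => absurd hj (by omega)) v hφ
  refine eq_top_iff.2 fun x _ => ?_
  have hx : SpecialLinearGroup.toGL x ∈ H :=
    hSL (MonoidHom.mem_ker.2 (Units.ext (by simp)))
  obtain ⟨y, hy, hxy⟩ := Subgroup.mem_map.1 hx
  rwa [← SpecialLinearGroup.toGL_injective hxy]

end Cfsg.Agent.Lie.RegUnip
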