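import Cfsg.Agent.Lib.Lie.RegUnipCore

/-! The two regular unipotent generators of `SL_n(F)`, `n ≥ 4`. -/

set_option autoImplicit false
set_option linter.unusedSectionVars false

namespace Cfsg.Agent.Lie.RegUnip

open Matrix Cfsg.Agent.Classical.MaxTv

variable {F : Type*} [Field F] {m : ℕ}

/-- The index `n - 1 - j`. -/
def back (m j : ℕ) : Fin (m + 3) := ⟨m + 2 - j, by omega⟩

/-- Vector with `u z = e_{n-1}`. -/
def altVec (m : ℕ) : Fin (m + 3) → F := fun i => (-1) ^ (m + 2 - (i : ℕ))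

/-- Vector with `u z₂ = z`. -/
def altVec₂ (m : ℕ) : Fin (m + 3) → F :=
  fun i => (-1) ^ (m + 2 - (i : ℕ)) * ((m + 2 - (i : ℕ) : ℕ) + 1 : ℕ)

theorem shiftN_mulVec_apply (y : Fin (m + 3) → F) (i : Fin (m + 3)) :
    ((shiftN m : Matrix _ _ F) *ᵥ y) i = if h : (i : ℕ) + 1 < m + 3 then y ⟨i + 1, h⟩ else 0 := by
  simp only [mulVec, dotProduct, shiftN, Matrix.of_apply]
  split_ifs with h
  · rw [Finset.sum_eq_single (⟨(i : ℕ) + 1, h⟩ : Fin (m + 3))
      (fun b _ hb => by rw [if_neg fun e => hb (Fin.ext e.symm), zero_mul]) (by simp), if_pos rfl,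
      one_mul]
  · exact Finset.sum_eq_zero fun b _ => by rw [if_neg (by omega), zero_mul]

theorem shiftN_pow_last (k : ℕ) (hk : k ≤ m + 2) :
    ((shiftN m : Matrix _ _ F) ^ k) *ᵥ Pi.single (iL m) 1 = Pi.single (back m k) 1 := by
  funext i
  rw [mulVec_single_one, col_apply, shiftN_pow, Pi.single_apply]
  simp only [iL, back, Fin.ext_iff]
  exact if_congr (by omega) rfl rfl

theorem shiftN_pow_eq_zero : ((shiftN m : Matrix _ _ F) ^ (m + 3)) = 0 := by
  ext i j
  rw [shiftN_pow, if_neg (by omega), Matrix.zero_apply]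

theorem regU_mulVec (y : Fin (m + 3) → F) :
    (regU m : SpecialLinearGroup (Fin (m + 3)) F).val *ᵥ y = y + shiftN m *ᵥ y := by
  show (1 + shiftN m) *ᵥ y = _
  rw [add_mulVec, one_mulVec]

theorem regU_altVec :
    (regU m : SpecialLinearGroup (Fin (m + 3)) F).val *ᵥ altVec m = Pi.single (iL m) 1 := by
  rw [regU_mulVec]
  funext i
  rw [Pi.add_apply, shiftN_mulVec_apply, Pi.single_apply]
  simp only [altVec, iL, Fin.ext_iff]
  by_cases h : (i : ℕ) + 1 < m + 3
  · rw [dif_pos h, if_neg (by omega), show m + 2 - (i : ℕ) = m + 2 - (i + 1) + 1 by omega, pow_succ]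
    ring
  · rw [dif_neg h, if_pos (by omega), show m + 2 - (i : ℕ) = 0 by omega]
    simp

theorem regU_altVec₂ :
    (regU m : SpecialLinearGroup (Fin (m + 3)) F).val *ᵥ altVec₂ m = altVec m := by
  rw [regU_mulVec]
  funext i
  rw [Pi.add_apply, shiftN_mulVec_apply]
  simp only [altVec, altVec₂]
  by_cases h : (i : ℕ) + 1 < m + 3
  · rw [dif_pos h, show m + 2 - (i : ℕ) = m + 2 - (i + 1) + 1 by omega, pow_succ]
    push_cast
    ring
  · rw [dif_neg h, show m + 2 - (i : ℕ) = 0 by omega]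
    simp

theorem eq_X_pow_of_charpolyRev {ι : Type} [Fintype ι] [DecidableEq ι] (A : Matrix ι ι F)
    (h : A.charpolyRev = 1) : A ^ Fintype.card ι = 0 := by
  have h1 := A.reverse_charpoly
  rw [h] at h1
  have hd : A.charpoly.natDegree = Fintype.card ι := A.charpoly_natDegree_eq_dim
  have h2 : A.charpoly = Polynomial.X ^ Fintype.card ι := by
    have h3 := congrArg (Polynomial.reflect (Fintype.card ι)) h1
    rw [Polynomial.reverse, hd, Polynomial.reflect_one] at h3
    have e : Polynomial.reflect (Fintype.card ι) (Polynomial.reflect (Fintype.card ι) A.charpoly) =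
        A.charpoly := by
      ext k
      rw [Polynomial.coeff_reflect, Polynomial.coeff_reflect, Polynomial.revAt_invol]
    rwa [e] at h3
  have h3 := Matrix.aeval_self_charpoly A
  rwa [h2, map_pow, Polynomial.aeval_X] at h3

/-- The perturbation turning the chain of `u` into the chain of `v`. -/
def twoDelta (m : ℕ) (w : Fin (m + 3) → F) (ξ : F) : Matrix (Fin (m + 3)) (Fin (m + 3)) F :=
  let N : Matrix (Fin (m + 3)) (Fin (m + 3)) F := shiftN m
  let p3 := w (back m 2)
  let p4 := w (back m 3)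
  let δ1 := 4 * p3 - ξ
  let δ0 := ξ * δ1 - 2 * p3 * (ξ + δ1) + 4 * p4
  vecMulVec (Pi.single (iL m) 1) (δ0 • w + δ1 • (w ᵥ* N) + (-2 : F) • (w ᵥ* (N ^ 2))) +
    vecMulVec (ξ • (N *ᵥ Pi.single (iL m) 1) + (-2 : F) • ((N ^ 2) *ᵥ Pi.single (iL m) 1)) w

set_option maxHeartbeats 800000 in
open Polynomial in
set_option maxHeartbeats 800000 in
theorem twoDelta_nilpotent (hm : 1 ≤ m) (w : Fin (m + 3) → F) (ξ : F) (hwL : w (iL m) = 0)
    (hwB : w (back m 1) = 1) : (shiftN m + twoDelta m w ξ) ^ (m + 3) = 0 := by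
  classical
  have hpow := shiftN_pow_last (F := F) (m := m)
  suffices h : (shiftN m + twoDelta m w ξ).charpolyRev = 1 by
    simpa [Fintype.card_fin] using eq_X_pow_of_charpolyRev _ h
  set N : Matrix (Fin (m + 3)) (Fin (m + 3)) F := shiftN m with hN
  set e : Fin (m + 3) → F := Pi.single (iL m) 1 with he
  set p3 := w (back m 2) with hp3
  set p4 := w (back m 3) with hp4
  set δ1 := 4 * p3 - ξ with hδ1
  set δ0 := ξ * δ1 - 2 * p3 * (ξ + δ1) + 4 * p4 with hδ0
  let cc : Fin 2 → Fin (m + 3) → F := ![e, ξ • (N *ᵥ e) + (-2 : F) • ((N ^ 2) *ᵥ e)]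
  let rr : Fin 2 → Fin (m + 3) → F := ![δ0 • w + δ1 • (w ᵥ* N) + (-2 : F) • (w ᵥ* (N ^ 2)), w]
  let Cm : Matrix (Fin (m + 3)) (Fin 2) F := Matrix.of fun i a => cc a i
  let Rm : Matrix (Fin 2) (Fin (m + 3)) F := Matrix.of rr
  have hΔ : twoDelta m w ξ = Cm * Rm := by
    ext i j
    rw [Matrix.mul_apply, Fin.sum_univ_two]
    simp [twoDelta, Cm, Rm, cc, rr, vecMulVec_apply, ← hN, ← he, ← hp3, ← hp4, ← hδ1, ← hδ0]
  set M : Matrix (Fin (m + 3)) (Fin (m + 3)) F[X] := N.map C with hM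
  set Z : Matrix (Fin (m + 3)) (Fin (m + 3)) F[X] :=
    ∑ k ∈ Finset.range (m + 3), ((X : F[X]) • M) ^ k with hZ
  have hMpow : ∀ k, M ^ k = (N ^ k).map C := fun k => by
    rw [hM, ← RingHom.mapMatrix_apply, ← map_pow]; rfl
  have hZ1 : (1 - (X : F[X]) • M) * Z = 1 := by
    rw [hZ, mul_neg_geom_sum, _root_.smul_pow, hMpow, hN, shiftN_pow_eq_zero]
    simp
  have hdetM : (1 - (X : F[X]) • M).det = 1 := by
    rw [Matrix.det_of_upperTriangular]
    · refine Finset.prod_eq_one fun i _ => ?_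
      simp [hM, hN, shiftN]
    · intro i j hji
      have : (j : ℕ) < i := hji
      have hij : i ≠ j := by rintro rfl; omega
      simp [hM, hN, shiftN, hij]
      omega
  let φ : (Fin (m + 3) → F) → (Fin (m + 3) → F) → F[X] :=
    fun r c => ∑ k ∈ Finset.range (m + 3), C (r ⬝ᵥ ((N ^ k) *ᵥ c)) * X ^ (k + 1)
  have φaddl : ∀ r r' c, φ (r + r') c = φ r c + φ r' c := fun r r' c => by
    simp only [φ, add_dotProduct, map_add, add_mul, Finset.sum_add_distrib]
  have φsmull : ∀ (a : F) r c, φ (a • r) c = C a * φ r c := fun a r c => by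
    simp only [φ, smul_dotProduct, smul_eq_mul, map_mul, Finset.mul_sum, mul_assoc]
  have φaddr : ∀ r c c', φ r (c + c') = φ r c + φ r c' := fun r c c' => by
    simp only [φ, mulVec_add, dotProduct_add, map_add, add_mul, Finset.sum_add_distrib]
  have φsmulr : ∀ (a : F) r c, φ r (a • c) = C a * φ r c := fun a r c => by
    simp only [φ, mulVec_smul, dotProduct_smul, smul_eq_mul, map_mul, Finset.mul_sum, mul_assoc]
  have φshift : ∀ r c (k : ℕ), φ (r ᵥ* (N ^ k)) c = φ r ((N ^ k) *ᵥ c) := fun r c k => by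
    simp only [φ, ← dotProduct_mulVec, mulVec_mulVec, ← pow_add, add_comm k]
  let A : ℕ → F[X] := fun j => φ w ((N ^ j) *ᵥ e)
  have hA : ∀ j, j ≤ m + 2 → A j = X * C (w (back m j)) + X * A (j + 1) := by
    intro j hj
    have e1 : w (back m j) = w ⬝ᵥ ((N ^ j) *ᵥ e) := by
      rw [hN, he, hpow j hj, dotProduct_single, mul_one]
    have e2 : ∀ k, w ⬝ᵥ ((N ^ (k + 1)) *ᵥ ((N ^ j) *ᵥ e)) = w ⬝ᵥ ((N ^ k) *ᵥ ((N ^ (j + 1)) *ᵥ e)) := by
      intro k; simp only [mulVec_mulVec, ← pow_add]; rw [show k + 1 + j = k + (j + 1) by omega]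
    have hlast : (N ^ (m + 2)) *ᵥ ((N ^ (j + 1)) *ᵥ e) = 0 := by
      rw [mulVec_mulVec, ← pow_add, show m + 2 + (j + 1) = m + 3 + j by omega, pow_add, hN,
        shiftN_pow_eq_zero, Matrix.zero_mul, zero_mulVec]
    show φ w ((N ^ j) *ᵥ e) = _
    simp only [A, φ]
    rw [Finset.sum_range_succ', Finset.sum_range_succ (fun k =>
      C (w ⬝ᵥ ((N ^ k) *ᵥ ((N ^ (j + 1)) *ᵥ e))) * X ^ (k + 1)) (m + 2), hlast, dotProduct_zero, map_zero,
      zero_mul, add_zero, pow_zero, one_mulVec, ← e1, Finset.mul_sum, add_comm]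
    congr 1
    · rw [zero_add, pow_one, mul_comm]
    · refine Finset.sum_congr rfl fun k _ => ?_
      rw [e2]; ring
  have hA0 : A 0 = X * A 1 := by
    rw [hA 0 (by omega), show w (back m 0) = 0 from hwL, map_zero, mul_zero, zero_add]
  have hA1 : A 1 = X + X * A 2 := by rw [hA 1 (by omega), hwB, map_one, mul_one]
  have hA2 : A 2 = X * C p3 + X * A 3 := hA 2 (by omega)
  have hA3 : A 3 = X * C p4 + X * A 4 := hA 3 (by omega)
  have hentry : ∀ a b, (Rm.map C * ((X : F[X]) • (Z * Cm.map C))) a b = φ (rr a) (cc b) := by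
    intro a b
    have hz : Z * Cm.map C = ∑ k ∈ Finset.range (m + 3), (X : F[X]) ^ k • ((N ^ k) * Cm).map C := by
      rw [hZ, Matrix.sum_mul]
      refine Finset.sum_congr rfl fun k _ => ?_
      rw [_root_.smul_pow, Matrix.smul_mul, hMpow, Matrix.map_mul]
    rw [hz, Finset.smul_sum, Matrix.mul_sum, Matrix.sum_apply]
    refine Finset.sum_congr rfl fun k _ => ?_
    rw [smul_smul, Matrix.mul_smul, Matrix.smul_apply, ← Matrix.map_mul, Matrix.map_apply, smul_eq_mul,
      ← pow_succ', mul_comm]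
    rfl
  have hsplit : (1 - (X : F[X]) • (N + twoDelta m w ξ).map C) =
      (1 - (X : F[X]) • M) * (1 - ((X : F[X]) • (Z * Cm.map C)) * Rm.map C) := by
    rw [mul_sub, mul_one, ← Matrix.mul_assoc, Matrix.mul_smul, ← Matrix.mul_assoc, hZ1, Matrix.one_mul, Matrix.smul_mul,
      ← Matrix.map_mul, ← hΔ, Matrix.map_add _ (map_add C), smul_add, ← hM, sub_sub]
  rw [charpolyRev, hsplit, det_mul, hdetM, one_mul, Matrix.det_one_sub_mul_comm, det_fin_two]
  simp only [Matrix.sub_apply, hentry, Matrix.one_apply_eq,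
    Matrix.one_apply_ne (show (0 : Fin 2) ≠ 1 by decide), Matrix.one_apply_ne (show (1 : Fin 2) ≠ 0 by decide)]
  simp only [rr, cc, Matrix.cons_val_zero, Matrix.cons_val_one, φaddl, φsmull, φaddr, φsmulr]
  have e11 : φ w e = A 0 := by simp [A]
  have n1 : φ (w ᵥ* N) e = A 1 := by
    have := φshift w e 1; rw [pow_one] at this; rw [this]; simp [A]
  have n2 : φ (w ᵥ* (N ^ 2)) e = A 2 := φshift w e 2
  have c1 : φ w (N *ᵥ e) = A 1 := by simp [A]
  have c2 : φ w ((N ^ 2) *ᵥ e) = A 2 := rfl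
  have x11 : φ (w ᵥ* N) (N *ᵥ e) = A 2 := by
    have := φshift w (N *ᵥ e) 1; rw [pow_one] at this; rw [this, mulVec_mulVec, ← sq]
  have x12 : φ (w ᵥ* N) ((N ^ 2) *ᵥ e) = A 3 := by
    have := φshift w ((N ^ 2) *ᵥ e) 1; rw [pow_one] at this; rw [this, mulVec_mulVec, ← pow_succ']
  have x21 : φ (w ᵥ* (N ^ 2)) (N *ᵥ e) = A 3 := by
    rw [φshift w (N *ᵥ e) 2, mulVec_mulVec, ← pow_succ]
  have x22 : φ (w ᵥ* (N ^ 2)) ((N ^ 2) *ᵥ e) = A 4 := by
    rw [φshift w ((N ^ 2) *ᵥ e) 2, mulVec_mulVec, ← pow_add]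
  rw [e11, n1, n2, c1, c2, x11, x12, x21, x22, hA0, hA1, hA2, hA3, hδ0, hδ1]
  simp only [map_sub, map_add, map_mul, map_neg, map_ofNat]
  ring_nf

theorem twoDelta_lead (hm : 1 ≤ m) (w : Fin (m + 3) → F) (ξ : F) (hwL : w (iL m) = 0)
    (hwB : w (back m 1) = 1) :
    ∀ k, k ≤ m + 2 →
      (∀ i : Fin (m + 3), (i : ℕ) + k < m + 2 →
        (((shiftN m + twoDelta m w ξ) ^ k) *ᵥ Pi.single (iL m) 1) i = 0) ∧
      (((shiftN m + twoDelta m w ξ) ^ k) *ᵥ Pi.single (iL m) 1) (back m k) =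
        if k ≤ 1 then 1 else -1 := by
  have hstep : ∀ (x : Fin (m + 3) → F) (i : Fin (m + 3)), (i : ℕ) < m + 2 →
      ((shiftN m + twoDelta m w ξ) *ᵥ x) i = (if h : (i : ℕ) + 1 < m + 3 then x ⟨i + 1, h⟩ else 0) +
        ((if (i : ℕ) = m + 1 then ξ else 0) + (if (i : ℕ) = m then -2 else 0)) * (w ⬝ᵥ x) := by
    intro x i hi
    have hni : i ≠ iL m := fun h => by rw [h] at hi; simp [iL] at hi
    rw [add_mulVec, Pi.add_apply, shiftN_mulVec_apply]
    congr 1
    rw [twoDelta, add_mulVec, Pi.add_apply, vecMulVec_mulVec, vecMulVec_mulVec, Pi.smul_apply,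
      Pi.smul_apply, Pi.single_eq_of_ne hni, shiftN_pow_last 2 (by omega)]
    rw [← pow_one (shiftN m : Matrix _ _ F), shiftN_pow_last 1 (by omega)]
    simp [back, Pi.single_apply, Fin.ext_iff]
    split_ifs <;> ring
  intro k
  induction k with
  | zero =>
    intro _
    refine ⟨fun i hi => ?_, ?_⟩
    · rw [pow_zero, one_mulVec, Pi.single_eq_of_ne]
      intro h; rw [h] at hi; simp [iL] at hi
    · rw [pow_zero, one_mulVec, if_pos (by omega), show back m 0 = iL m from rfl, Pi.single_eq_same]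
  | succ k ih =>
    intro hk
    obtain ⟨ih0, ih1⟩ := ih (by omega)
    set x := ((shiftN m + twoDelta m w ξ) ^ k) *ᵥ Pi.single (iL m) (1 : F) with hx
    have hwx0 : k = 0 → w ⬝ᵥ x = 0 := by
      rintro rfl
      rw [hx, pow_zero, one_mulVec, dotProduct_single, hwL, zero_mul]
    have hwx1 : k = 1 → w ⬝ᵥ x = 1 := by
      rintro rfl
      rw [dotProduct, Finset.sum_eq_single (back m 1)]
      · rw [hwB, ih1, if_pos le_rfl, mul_one]
      · intro j _ hj
        rcases Nat.lt_or_ge ((j : ℕ) + 1) (m + 2) with h | h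
        · rw [ih0 j h, mul_zero]
        · rw [show j = iL m from Fin.ext (by
            have : (j : ℕ) ≠ m + 1 := fun e => hj (Fin.ext (by simpa [back] using e))
            simp [iL]; omega), hwL, zero_mul]
      · simp
    rw [pow_succ', ← mulVec_mulVec, ← hx]
    refine ⟨fun i hi => ?_, ?_⟩
    · rw [hstep x i (by omega), dif_pos (by omega), ih0 _ (by simp only; omega), zero_add]
      rcases Nat.lt_or_ge k 1 with h | h
      · rw [hwx0 (by omega), mul_zero]
      · simp [show (i : ℕ) ≠ m + 1 by omega, show (i : ℕ) ≠ m by omega]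
    · have hb : ((back m (k + 1) : Fin (m + 3)) : ℕ) = m + 1 - k := by simp [back]
      rw [hstep x _ (by omega), dif_pos (by omega),
        show (⟨_, _⟩ : Fin (m + 3)) = back m k from Fin.ext (by simp [back]; omega), ih1]
      rcases (show k = 0 ∨ k = 1 ∨ 2 ≤ k by omega) with rfl | rfl | h
      · rw [hwx0 rfl, mul_zero, add_zero, if_pos (by omega), if_pos (by omega)]
      · rw [hwx1 rfl, mul_one, if_pos le_rfl, if_neg (by omega), if_pos (by omega), if_neg (by omega)]
        ring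
      · rw [if_neg (by omega), if_neg (by omega), if_neg (by omega), if_neg (by omega), add_zero,
          zero_mul, add_zero]

theorem exists_two_conjugates_of_row [Fintype F] (hm : 1 ≤ m) (w : Fin (m + 3) → F) (ξ : F)
    (hwL : w (iL m) = 0) (hwB : w (back m 1) = 1) (hw0 : w (i0 m) ≠ 0)
    (halt : w ⬝ᵥ altVec m = 0) (hβ : w ⬝ᵥ altVec₂ m ≠ 0)
    (hG : ξ ^ 2 - 4 * w (back m 2) * ξ + 8 * w (back m 2) ^ 2 + 4 * w (back m 2) -
      4 * w (back m 3) + 4 ≠ 0)
    (hgen : ∀ M : Subfield F, (w ⬝ᵥ altVec₂ m) ^ 2 *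
      (ξ ^ 2 - 4 * w (back m 2) * ξ + 8 * w (back m 2) ^ 2 + 4 * w (back m 2) -
        4 * w (back m 3) + 4) ^ 3 ∈ M → M = ⊤) :
    ∃ g : SpecialLinearGroup (Fin (m + 3)) F,
      Subgroup.closure ({regU m, g * regU m * g⁻¹} : Set (SpecialLinearGroup (Fin (m + 3)) F)) = ⊤ := by
  classical
  set p3 := w (back m 2) with hp3
  set p4 := w (back m 3) with hp4
  set N : Matrix (Fin (m + 3)) (Fin (m + 3)) F := shiftN m with hN
  set Δ := twoDelta m w ξ with hΔ
  set e : Fin (m + 3) → F := Pi.single (iL m) 1 with he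
  obtain hlead := twoDelta_lead hm w ξ hwL hwB
  rw [← hN, ← hΔ, ← he] at hlead
  -- the conjugating element
  let gM : Matrix (Fin (m + 3)) (Fin (m + 3)) F :=
    Matrix.of fun i j => (-1) ^ (m + 3) * (((N + Δ) ^ (m + 2 - (j : ℕ))) *ᵥ e) i
  have hgdiag : ∀ j : Fin (m + 3), gM j j =
      (-1) ^ (m + 3) * if m + 2 - (j : ℕ) ≤ 1 then 1 else -1 := by
    intro j
    simp only [gM, Matrix.of_apply]
    conv_lhs => rw [show j = back m (m + 2 - (j : ℕ)) from Fin.ext (by simp [back]; omega)]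
    rw [← (hlead (m + 2 - (j : ℕ)) (by omega)).2]
    congr 3
    simp [back]; omega
  have hgdet : gM.det = 1 := by
    rw [Matrix.det_of_lowerTriangular]
    · simp only [hgdiag, Finset.prod_mul_distrib, Finset.prod_const, Finset.card_univ, Fintype.card_fin]
      have e1 : ∏ j : Fin (m + 3), (if m + 2 - (j : ℕ) ≤ 1 then (1 : F) else -1) = (-1) ^ (m + 1) := by
        rw [Fin.prod_univ_eq_prod_range (fun j => if m + 2 - j ≤ 1 then (1 : F) else -1) (m + 3),
          Finset.prod_range_succ, Finset.prod_range_succ, if_pos (by omega), if_pos (by omega),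
          mul_one, mul_one, Finset.prod_congr rfl fun j hj => if_neg (by
            have := Finset.mem_range.1 hj; omega), Finset.prod_const, Finset.card_range]
      rw [e1, ← pow_mul, ← pow_add]
      refine Even.neg_one_pow ?_
      obtain ⟨k, hk⟩ := Nat.even_mul_succ_self (m + 3)
      exact ⟨k - 1, by nlinarith [show 1 ≤ k by nlinarith, Nat.sub_add_cancel (show 1 ≤ k by nlinarith)]⟩
    · intro i j hij
      have hlt : (i : ℕ) < j := hij
      simp only [gM, Matrix.of_apply]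
      rw [(hlead (m + 2 - (j : ℕ)) (by omega)).1 i (by omega), mul_zero]
  let g : SpecialLinearGroup (Fin (m + 3)) F := ⟨gM, hgdet⟩
  have hgN : gM * N = (N + Δ) * gM := by
    ext i j
    rw [Matrix.mul_apply, Matrix.mul_apply]
    have hr : ∑ l, (N + Δ) i l * gM l j =
        (-1) ^ (m + 3) * (((N + Δ) ^ (m + 2 - (j : ℕ) + 1)) *ᵥ e) i := by
      rw [pow_succ' (N + Δ) (m + 2 - (j : ℕ)), ← mulVec_mulVec]
      simp only [gM, Matrix.of_apply, mulVec, dotProduct, Finset.mul_sum]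
      exact Finset.sum_congr rfl fun l _ => by ring
    rw [hr]
    by_cases hj : (j : ℕ) = 0
    · rw [Finset.sum_eq_zero fun l _ => by simp [hN, shiftN, hj], hj,
        show m + 2 - 0 + 1 = m + 3 by omega, hN, hΔ, twoDelta_nilpotent hm w ξ hwL hwB]
      simp
    · rw [Finset.sum_eq_single (⟨(j : ℕ) - 1, by omega⟩ : Fin (m + 3))
        (fun b _ hb => by
          rw [hN]; simp only [shiftN, Matrix.of_apply]
          rw [if_neg fun e => hb (Fin.ext (by simp only; omega)), mul_zero]) (by simp)]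
      simp only [hN, shiftN, Matrix.of_apply, gM]
      rw [if_pos (by omega), mul_one, show m + 2 - ((j : ℕ) - 1) = m + 2 - (j : ℕ) + 1 by omega]
  refine ⟨g, ?_⟩
  set u : SpecialLinearGroup (Fin (m + 3)) F := regU m with hu
  have hv : (g * u * g⁻¹).val = 1 + N + Δ := by
    have h1 : (g * u).val = (1 + N + Δ) * g.val := by
      show gM * (1 + N) = (1 + N + Δ) * gM
      rw [mul_add, mul_one, hgN, add_assoc, add_mul 1, one_mul]
    rw [val_mul', h1, mul_assoc, ← val_mul', mul_inv_cancel, val_one', mul_one]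
  set K := Subgroup.closure ({u, g * u * g⁻¹} : Set (SpecialLinearGroup (Fin (m + 3)) F))
  set H := K.map SpecialLinearGroup.toGL with hH
  have hmem : ∀ x ∈ K, SpecialLinearGroup.toGL x ∈ H := fun x hx => Subgroup.mem_map_of_mem _ hx
  have huK : u ∈ K := Subgroup.subset_closure (by simp)
  set U := SpecialLinearGroup.toGL u with hU
  have hUv : (U : Matrix (Fin (m + 3)) (Fin (m + 3)) F) = u.val := rfl
  have hUi : ((U⁻¹ : GL (Fin (m + 3)) F) : Matrix (Fin (m + 3)) (Fin (m + 3)) F) = (u⁻¹).val := by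
    rw [hU, ← map_inv]; rfl
  set z : Fin (m + 3) → F := altVec m with hz
  have hinv : ∀ x y, u.val *ᵥ x = y → (u⁻¹).val *ᵥ y = x := fun x y h => by
    rw [← h, ← val_mul_mulVec, inv_mul_cancel, val_one', one_mulVec]
  -- the values `w N^j z`
  let ψ : ℕ → F := fun j => w ⬝ᵥ ((N ^ j) *ᵥ z)
  have hNz : N *ᵥ z = e - z := by
    have := regU_altVec (F := F) (m := m)
    rw [regU_mulVec] at this
    rw [← hz, ← hN, ← he] at this
    rw [← this]; abel
  have hψ : ∀ j, j ≤ m + 2 → ψ (j + 1) = w (back m j) - ψ j := by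
    intro j hj
    show w ⬝ᵥ _ = _ - w ⬝ᵥ _
    rw [pow_succ, ← mulVec_mulVec, hNz, mulVec_sub, dotProduct_sub, hN, he, shiftN_pow_last j hj,
      dotProduct_single, mul_one]
  have ψ0 : ψ 0 = 0 := by simpa [ψ] using halt
  have ψ1 : ψ 1 = 0 := by rw [hψ 0 (by omega), ψ0, sub_zero]; exact hwL
  have ψ2 : ψ 2 = 1 := by rw [hψ 1 (by omega), ψ1, sub_zero, hwB]
  have ψ3 : ψ 3 = p3 - 1 := by rw [hψ 2 (by omega), ψ2, hp3]
  have ψ4 : ψ 4 = p4 - p3 + 1 := by rw [hψ 3 (by omega), ψ3, hp4]; ring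
  -- the transvection
  set G := ξ ^ 2 - 4 * p3 * ξ + 8 * p3 ^ 2 + 4 * p3 - 4 * p4 + 4 with hGdef
  have hT : InT H (G • z) w := by
    set y := u⁻¹ * (g * u * g⁻¹) with hy
    have hyK : y ∈ K := mul_mem (inv_mem huK) (Subgroup.subset_closure (by simp))
    set δ1 := 4 * p3 - ξ with hδ1
    set δ0 := ξ * δ1 - 2 * p3 * (ξ + δ1) + 4 * p4 with hδ0
    set r1 := δ0 • w + δ1 • (w ᵥ* N) + (-2 : F) • (w ᵥ* (N ^ 2)) with hr1
    set c' := ξ • (N *ᵥ z) + (-2 : F) • ((N ^ 2) *ᵥ z) with hc'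
    have hyx : ∀ x, y.val *ᵥ x = x + (r1 ⬝ᵥ x) • z + (w ⬝ᵥ x) • c' := by
      intro x
      rw [hy, val_mul_mulVec, hv]
      refine hinv _ _ ?_
      have hcomm : ∀ k : ℕ, u.val *ᵥ ((N ^ k) *ᵥ z) = (N ^ k) *ᵥ e := fun k => by
        rw [← regU_altVec (F := F) (m := m)] at he
        show (1 + shiftN m) *ᵥ _ = _
        rw [he, ← hz, mulVec_mulVec, ← hN]
        show _ = (N ^ k) *ᵥ ((1 + shiftN m) *ᵥ z)
        rw [mulVec_mulVec, ← hN, mul_add, add_mul, mul_one, one_mul, ← pow_succ, ← pow_succ']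
      have h0' : u.val *ᵥ z = e := regU_altVec
      have hc : u.val *ᵥ c' = ξ • (N *ᵥ e) + (-2 : F) • ((N ^ 2) *ᵥ e) := by
        have h1 := hcomm 1
        rw [pow_one] at h1
        rw [hc', mulVec_add, mulVec_smul, mulVec_smul, h1, hcomm 2]
      rw [mulVec_add, mulVec_add, mulVec_smul, mulVec_smul, h0', hc]
      show (1 + shiftN m) *ᵥ x + _ + _ = (1 + N + Δ) *ᵥ x
      rw [add_mulVec _ Δ, hΔ, twoDelta, add_mulVec _ (vecMulVec _ w), vecMulVec_mulVec, vecMulVec_mulVec]
      simp only [op_smul_eq_smul, ← hN, ← hp3, ← hp4, ← hδ1, ← hδ0, ← hr1, ← he]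
      abel
    have dr : ∀ (k : ℕ), r1 ⬝ᵥ ((N ^ k) *ᵥ z) = δ0 * ψ k + δ1 * ψ (k + 1) + (-2) * ψ (k + 2) := by
      intro k
      have hN1 : w ᵥ* N = w ᵥ* (N ^ 1) := by rw [pow_one]
      rw [hr1, hN1, add_dotProduct, add_dotProduct, smul_dotProduct, smul_dotProduct, smul_dotProduct,
        ← dotProduct_mulVec, ← dotProduct_mulVec, mulVec_mulVec, mulVec_mulVec, ← pow_add, ← pow_add]
      simp only [smul_eq_mul, ψ, add_comm 1 k, add_comm 2 k]
    have r1z : r1 ⬝ᵥ z = -2 := by
      have := dr 0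
      rw [pow_zero, one_mulVec, ψ0, ψ1, ψ2] at this
      rw [this]; ring
    have wc : w ⬝ᵥ c' = -2 := by
      have e1 : w ⬝ᵥ (N *ᵥ z) = ψ 1 := by simp [ψ]
      rw [hc', dotProduct_add, dotProduct_smul, dotProduct_smul, e1, ψ1,
        show w ⬝ᵥ ((N ^ 2) *ᵥ z) = 1 from ψ2]
      simp
    have rc : r1 ⬝ᵥ c' = G := by
      have e1 := dr 1
      have e2 := dr 2
      rw [pow_one, ψ1, ψ2, ψ3] at e1
      rw [ψ2, ψ3, ψ4] at e2
      rw [hc', dotProduct_add, dotProduct_smul, dotProduct_smul, e1, e2, smul_eq_mul, smul_eq_mul,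
        hδ0, hδ1, hGdef]
      ring
    refine ⟨_, hmem _ (mul_mem hyK hyK), fun x => ?_⟩
    rw [SpecialLinearGroup.coe_GL_coe_matrix, val_mul_mulVec, hyx, hyx x]
    have hwz : w ⬝ᵥ z = 0 := halt
    simp only [dotProduct_add, dotProduct_smul, r1z, wc, rc, hwz, smul_eq_mul]
    module
  -- apply the criterion
  have hSL := specialLinear_le_of_shift (u := U) (H := H) (z := z) (w := w) (t₀ := G)
    (β := w ⬝ᵥ altVec₂ m) (s := 1) (hmem u huK) hG hT halt
    (by rw [hUv, regU_altVec, dotProduct_single, hwL, zero_mul])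
    (by rw [hUi, hinv _ _ (regU_altVec₂ (F := F) (m := m))]) hβ
    (by
      rw [hUv, regU_altVec, regU_mulVec, dotProduct_add, dotProduct_single, hwL, zero_mul, zero_add,
        ← pow_one (shiftN m : Matrix _ _ F), shiftN_pow_last 1 (by omega), dotProduct_single, hwB, mul_one])
    one_ne_zero (by simpa using hgen) ?_ ?_
  · refine eq_top_iff.2 fun x _ => ?_
    have hxH : SpecialLinearGroup.toGL x ∈ H := hSL (MonoidHom.mem_ker.2 (Units.ext (by simp)))
    obtain ⟨y, hy, hxy⟩ := Subgroup.mem_map.1 hxH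
    rwa [← SpecialLinearGroup.toGL_injective hxy]
  · rw [hUv]
    set S := Submodule.span F (Set.range fun k : ℕ => (u.val ^ k) *ᵥ z)
    have hg : ∀ k, (u.val ^ k) *ᵥ z ∈ S := fun k => Submodule.subset_span ⟨k, rfl⟩
    have hSN : ∀ x ∈ S, N *ᵥ x ∈ S := by
      intro x hx
      have hux : u.val *ᵥ x ∈ S := by
        refine Submodule.span_induction (p := fun x _ => u.val *ᵥ x ∈ S) ?_ ?_ ?_ ?_ hx
        · rintro _ ⟨k, rfl⟩
          rw [mulVec_mulVec, ← pow_succ']; exact hg _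
        · simp
        · intro a b _ _ ha hb; rw [mulVec_add]; exact add_mem ha hb
        · intro c a _ ha; rw [mulVec_smul]; exact S.smul_mem c ha
      have h1 := sub_mem hux hx
      rw [hu, regU_mulVec, add_sub_cancel_left] at h1
      exact h1
    have heS : e ∈ S := by
      have h1 := hg 1
      rwa [pow_one, regU_altVec] at h1
    have hek : ∀ k, (N ^ k) *ᵥ e ∈ S := by
      intro k
      induction k with
      | zero => simpa using heS
      | succ k ih => rw [pow_succ', ← mulVec_mulVec]; exact hSN _ ih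
    refine eq_top_iff.2 fun x _ => ?_
    rw [← Finset.univ_sum_single x]
    refine sum_mem fun i _ => ?_
    have h1 := S.smul_mem (x i) (hek (m + 2 - (i : ℕ)))
    rw [hN, he, shiftN_pow_last _ (by omega), ← Pi.single_smul, smul_eq_mul, mul_one] at h1
    rwa [show back m (m + 2 - (i : ℕ)) = i from Fin.ext (by simp [back]; omega)] at h1
  · rw [hUv]
    set S := Submodule.span F (Set.range fun k : ℕ => w ᵥ* (u.val ^ k))
    have hg : ∀ k, w ᵥ* (u.val ^ k) ∈ S := fun k => Submodule.subset_span ⟨k, rfl⟩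
    have hSN : ∀ x ∈ S, x ᵥ* N ∈ S := by
      intro x hx
      have hux : x ᵥ* u.val ∈ S := by
        refine Submodule.span_induction (p := fun x _ => x ᵥ* u.val ∈ S) ?_ ?_ ?_ ?_ hx
        · rintro _ ⟨k, rfl⟩
          rw [vecMul_vecMul, ← pow_succ]; exact hg _
        · simp
        · intro a b _ _ ha hb; rw [add_vecMul]; exact add_mem ha hb
        · intro c a _ ha; rw [smul_vecMul]; exact S.smul_mem c ha
      have h1 := sub_mem hux hx
      rw [show u.val = 1 + N from rfl, vecMul_add, vecMul_one, add_sub_cancel_left] at h1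
      exact h1
    have hrk : ∀ k, w ᵥ* (N ^ k) ∈ S := by
      intro k
      induction k with
      | zero => simpa using hg 0
      | succ k ih => rw [pow_succ, ← vecMul_vecMul]; exact hSN _ ih
    refine eq_top_iff.2 fun x _ => ?_
    have htri : ∀ n : ℕ, ∀ v : Fin (m + 3) → F, (∀ j : Fin (m + 3), (j : ℕ) + n < m + 3 → v j = 0) →
        v ∈ S := by
      intro n
      induction n with
      | zero =>
        intro v hv
        rw [show v = 0 from funext fun j => hv j (by omega)]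
        exact S.zero_mem
      | succ n ih =>
        intro v hv
        by_cases hn : n < m + 3
        · let k : Fin (m + 3) := ⟨m + 2 - n, by omega⟩
          have hrkj : ∀ j : Fin (m + 3), (w ᵥ* (N ^ (k : ℕ))) j =
              ∑ i : Fin (m + 3), if (i : ℕ) + k = j then w i else 0 := by
            intro j; simp [hN, vecMul, dotProduct, shiftN_pow]
          have hk1 : (w ᵥ* (N ^ (k : ℕ))) k = w (i0 m) := by
            rw [hrkj, Finset.sum_eq_single (i0 m)]
            · rw [if_pos (by simp [i0])]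
            · intro i _ hi; rw [if_neg fun e => hi (Fin.ext (by show (i : ℕ) = 0; omega))]
            · simp
          have hk2 : ∀ j : Fin (m + 3), (j : ℕ) < k → (w ᵥ* (N ^ (k : ℕ))) j = 0 := by
            intro j hj
            rw [hrkj]
            exact Finset.sum_eq_zero fun i _ => if_neg (by omega)
          have h1 := ih (v - (v k / w (i0 m)) • (w ᵥ* (N ^ (k : ℕ)))) (fun j hj => by
            rcases Nat.lt_or_ge (j : ℕ) (k : ℕ) with h2 | h2
            · simp [hk2 j h2, hv j (by simp [k] at h2; omega)]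
            · have : j = k := Fin.ext (by simp [k] at h2 ⊢; omega)
              subst this
              simp [hk1, hw0])
          have h9 := S.add_mem h1 (S.smul_mem (v k / w (i0 m)) (hrk k))
          rwa [sub_add_cancel] at h9
        · exact ih v fun j hj => absurd hj (by omega)
    exact htri (m + 3) x fun j hj => absurd hj (by omega)

end Cfsg.Agent.Lie.RegUnip
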