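import Cfsg.Agent.Lib.Recog.HuppertCases
import Cfsg.Agent.Lib.Recog.Zsigmondy
import Cfsg.Agent.Lib.Grp.FrobeniusTheorem

/-!
A transitive linear group over two elements in which no non-identity element fixes two non-zero vectors,
but some fixes one, has prime dimension.
-/

set_option autoImplicit false
set_option linter.unusedSectionVars false

namespace Cfsg.Agent.Lie.RegularNormalDegree

open Cfsg.Agent Cfsg.Agent.Recog.HuppertCases

theorem inv_eq_self {A : Type*} [AddCommGroup A] [Module (ZMod 2) A] (a : A) : a + a = 0 := by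
  rw [← two_smul (ZMod 2) a, show (2 : ZMod 2) = 0 from rfl, zero_smul]

variable {V : Type*} [AddCommGroup V] [Module (ZMod 2) V] [Finite V] {H : Type*} [Group H] [Finite H]
  {ρ : H →* (V ≃ₗ[ZMod 2] V)}

theorem rho_one (v : V) : ρ 1 v = v := by rw [map_one]; rfl

variable (ht : Trans ρ) (h2 : ∀ h : H, h ≠ 1 → ∀ v w : V, v ≠ 0 → w ≠ 0 → ρ h v = v → ρ h w = w → v = w)
include h2

/-- An element fixing a non-zero vector fixes just two vectors. -/
theorem card_fix {h : H} (h1 : h ≠ 1) {v : V} (hv : v ≠ 0) (hfix : ρ h v = v) :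
    Nat.card {w : V // ρ h w = w} = 2 := by
  rw [Nat.card_eq_two_iff' (⟨0, map_zero _⟩ : {w : V // ρ h w = w})]
  refine ⟨⟨v, hfix⟩, fun e => hv (congrArg Subtype.val e), fun w hw => Subtype.ext ?_⟩
  exact (h2 h h1 v w.1 hv (fun e => hw (Subtype.ext e)) hfix w.2).symm

/-- The order of an element fixing a non-zero vector is prime to the number of them. -/
theorem dvd_facts {k : ℕ} (hk : Module.finrank (ZMod 2) V = k) {h : H} {s : ℕ} (hs : s.Prime)
    (ho : orderOf h = s) {v : V} (hv : v ≠ 0) (hfix : ρ h v = v) : (2 : ℕ) ^ k ≡ 2 [MOD s] := by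
  haveI := Fact.mk hs
  letI : MulAction H V := { smul := fun g w => ρ g w, one_smul := rho_one, mul_smul := fun g g' w => rho_mul g g' w }
  have hP : IsPGroup s (Subgroup.zpowers h) := IsPGroup.of_card (n := 1) (by rw [Nat.card_zpowers, ho, pow_one])
  have h1 : h ≠ 1 := fun e => hs.ne_one (by rw [← ho, e, orderOf_one])
  have h3 := hP.card_modEq_card_fixedPoints (α := V)
  rw [card_V (q := 2), hk] at h3
  convert h3 using 1
  refine (card_fix h2 h1 hv hfix).symm.trans (Nat.card_congr (Equiv.subtypeEquivRight fun w => ?_))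
  constructor
  · rintro hw ⟨g, hg⟩
    show g • w = w
    have hm : g ∈ MulAction.stabilizer H w := Subgroup.zpowers_le.2 (show h • w = w from hw) hg
    exact hm
  · intro hw
    exact hw ⟨h, Subgroup.mem_zpowers h⟩

/-- An involution fixing only two vectors forces dimension at most two. -/
theorem finrank_le_two {k : ℕ} (hk : Module.finrank (ZMod 2) V = k) {h : H} (ho : orderOf h = 2) {v : V}
    (hv : v ≠ 0) (hfix : ρ h v = v) : k ≤ 2 := by
  have h1 : h ≠ 1 := fun e => by rw [e, orderOf_one] at ho; exact absurd ho (by norm_num)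
  have hhh : h * h = 1 := by rw [← pow_two, ← ho]; exact pow_orderOf_eq_one h
  let f : V →+ V :=
    { toFun := fun w => ρ h w + w
      map_zero' := by rw [map_zero, add_zero]
      map_add' := fun a b => by rw [map_add]; abel }
  have hker : Nat.card f.ker = 2 := by
    rw [← card_fix h2 h1 hv hfix]
    refine Nat.card_congr (Equiv.subtypeEquivRight fun w => ?_)
    rw [AddMonoidHom.mem_ker]
    show ρ h w + w = 0 ↔ ρ h w = w
    exact ⟨fun e => add_right_cancel (e.trans (inv_eq_self w).symm), fun e => by rw [e, inv_eq_self]⟩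
  have hle : f.range ≤ f.ker := by
    rintro _ ⟨w, rfl⟩
    rw [AddMonoidHom.mem_ker]
    show ρ h (ρ h w + w) + (ρ h w + w) = 0
    rw [map_add, ← rho_mul, hhh, rho_one, add_comm w (ρ h w), inv_eq_self]
  have h3 := AddSubgroup.card_mul_index f.ker
  rw [AddSubgroup.index_ker, hker, card_V (q := 2) (V := V), hk] at h3
  have h4 := AddSubgroup.card_le_of_le hle
  rw [hker] at h4
  by_contra hc
  have : 2 ^ 3 ≤ 2 ^ k := Nat.pow_le_pow_right two_pos (by omega)
  omega

include ht

theorem finrank_prime (hρ : Function.Injective ρ) (hex : ∃ h : H, h ≠ 1 ∧ ∃ v : V, v ≠ 0 ∧ ρ h v = v) :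
    (Module.finrank (ZMod 2) V).Prime := by
  classical
  obtain ⟨h0, h01, v0, hv0, h0v⟩ := hex
  generalize hk : Module.finrank (ZMod 2) V = k
  have hV : Nat.card V = 2 ^ k := by rw [card_V (q := 2), hk]
  haveI : Nontrivial V := ⟨⟨v0, 0, hv0⟩⟩
  have hk2 : 2 ≤ k := by
    by_contra hc
    have hle : 2 ^ k ≤ 2 ^ 1 := Nat.pow_le_pow_right two_pos (by omega)
    refine h01 (eq_one_of_fix hρ fun w => ?_)
    by_contra hw
    have h4 : Nat.card {w : V // ρ h0 w = w} < Nat.card V :=
      Finite.card_subtype_lt hw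
    rw [card_fix h2 h01 hv0 h0v, hV] at h4
    omega
  rcases eq_or_lt_of_le hk2 with rfl | hk3
  · exact Nat.prime_two
  letI : MulAction H V := { smul := fun g w => ρ g w, one_smul := rho_one, mul_smul := fun g g' w => rho_mul g g' w }
  set C := MulAction.stabilizer H v0 with hC
  have memC : ∀ g : H, g ∈ C ↔ ρ g v0 = v0 := fun g => MulAction.mem_stabilizer_iff
  have hidx : C.index = 2 ^ k - 1 := by
    rw [MulAction.index_stabilizer, show MulAction.orbit H v0 = ({0} : Set V)ᶜ from ?_, Set.ncard_compl,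
      Set.ncard_singleton, hV]
    ext w
    simp only [MulAction.mem_orbit_iff, Set.mem_compl_iff, Set.mem_singleton_iff]
    refine ⟨?_, fun hw => ht v0 w hv0 hw⟩
    rintro ⟨g, rfl⟩ e
    exact hv0 ((ρ g).map_eq_zero_iff.1 e)
  have hk8 : 8 ≤ 2 ^ k := le_trans (by norm_num) (Nat.pow_le_pow_right two_pos (show 3 ≤ k by omega))
  have hFC : IsFrobeniusComplement C := by
    refine ⟨fun e => ?_, fun e => ?_, fun g hg => ?_⟩
    · exact h01 (Subgroup.mem_bot.1 (e ▸ (memC h0).2 h0v))
    · rw [e, Subgroup.index_top] at hidx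
      omega
    · rw [Subgroup.eq_bot_iff_forall]
      rintro x ⟨hx1, hx2⟩
      by_contra hne
      have hg' : g⁻¹ * x * g ∈ C := (Frob.mem_smul_conj_iff g x).1 hx2
      rw [memC, rho_mul, rho_mul] at hg'
      have h5 : ρ x (ρ g v0) = ρ g v0 := by
        have := congrArg (ρ g) hg'
        rwa [rho_inv] at this
      exact hg ((memC g).2 (h2 x hne v0 (ρ g v0) hv0 (fun e => hv0 ((ρ g).map_eq_zero_iff.1 e))
        ((memC x).1 hx1) h5).symm)
  haveI := Fintype.ofFinite H
  obtain ⟨K, hK, hKn, hKc, -⟩ := Grp.frobenius_kernel_spec hFC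
  haveI := hKn
  have hKcard : Nat.card K = 2 ^ k - 1 := by
    rw [← hidx, ← Frob.card_kernel hFC, ← hK]
    rfl
  -- a prime divisor of `2 ^ k - 1`, primitive unless `k = 6`
  obtain ⟨r, hr, hrd, hrp⟩ : ∃ r : ℕ, r.Prime ∧ r ∣ 2 ^ k - 1 ∧
      (k ≠ 6 → Recog.Zsigmondy.Primitive 2 k r) ∧ (k = 6 → r = 7) := by
    by_cases h6 : k = 6
    · exact ⟨7, by norm_num, by rw [h6]; norm_num, fun h => absurd h6 h, fun _ => rfl⟩
    · obtain ⟨r, hP⟩ := Recog.Zsigmondy.exists_primitive (le_refl 2) hk2 (fun h => h6 h.2) fun h => by omega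
      exact ⟨r, hP.1, hP.2.1, fun _ => hP, fun h => absurd h h6⟩
  haveI := Fact.mk hr
  let R : Sylow r K := default
  set R' : Subgroup H := (R : Subgroup K).map K.subtype with hR'
  have hRne : (R : Subgroup K) ≠ ⊥ := R.ne_bot_of_dvd_card (hKcard.symm ▸ hrd)
  haveI : Nontrivial (R : Subgroup K) := (Subgroup.nontrivial_iff_ne_bot _).2 hRne
  haveI := IsPGroup.center_nontrivial (G := (R : Subgroup K)) R.isPGroup'
  obtain ⟨⟨⟨z0, hz0R⟩, hz0c⟩, hz0ne⟩ := exists_ne (1 : Subgroup.center (R : Subgroup K))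
  set L : Subgroup H := Subgroup.normalizer (R' : Set H) with hL
  set A : Subgroup H := R' ⊓ Subgroup.centralizer (R' : Set H) with hA
  have hzA : ((z0 : K) : H) ∈ A := ⟨⟨z0, hz0R, rfl⟩, fun y hy => by
    obtain ⟨y, hy, rfl⟩ := hy
    exact congrArg (fun t : (R : Subgroup K) => ((t : K) : H)) (Subgroup.mem_center_iff.1 hz0c ⟨y, hy⟩)⟩
  have hz1 : ((z0 : K) : H) ≠ 1 := fun e => hz0ne (Subtype.ext (Subtype.ext (Subtype.ext e)))
  have nofix : ∀ g ∈ K, g ≠ 1 → ∀ w : V, ρ g w = w → w = 0 := by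
    intro g hg hg1 w hw
    by_contra hw0
    obtain ⟨f, hf⟩ := ht v0 w hv0 hw0
    rcases Frob.mem_kernel_iff.1 (hK ▸ hg : g ∈ frobeniusKernel C) with e | e
    · exact hg1 e
    · refine e f ((memC _).2 ?_)
      rw [rho_mul, rho_mul, hf, hw, ← hf, rho_inv']
  -- an element of prime order normalising `R'` and fixing a non-zero vector
  obtain ⟨h, hhL, s, hs, hhs, y, hy, hhy⟩ : ∃ h ∈ L, ∃ s : ℕ, s.Prime ∧ orderOf h = s ∧
      ∃ y : V, y ≠ 0 ∧ ρ h y = y := by
    obtain ⟨c, hc, hc1⟩ := (Subgroup.bot_or_exists_ne_one C).resolve_left hFC.1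
    obtain ⟨s, hs, hsd⟩ := Nat.exists_prime_and_dvd (fun e => hc1 (orderOf_eq_one_iff.1 e))
    haveI := Fact.mk hs
    have hsC : s ∣ Nat.card C := hsd.trans (Subgroup.orderOf_dvd_natCard C hc)
    have hsK : ¬ s ∣ Nat.card K := fun h => by
      have h6 := (Nat.Coprime.coprime_dvd_right hsC (Nat.Coprime.coprime_dvd_left h
        (show Nat.Coprime (Nat.card K) (Nat.card C) from ?_)))
      · exact hs.ne_one ((Nat.coprime_self s).1 h6)
      rw [hKcard, ← hidx]
      obtain ⟨m, hm⟩ := Frob.card_dvd_index_sub_one hFC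
      have hone : 1 ≤ C.index := by omega
      rw [show C.index = Nat.card C * m + 1 by omega]
      simp [Nat.coprime_comm]
    have hsL : s ∣ Nat.card L := by
      have htop : L ⊔ K = ⊤ := Sylow.normalizer_sup_eq_top R
      have hmap : L.map (QuotientGroup.mk' K) = ⊤ := by
        have := congrArg (Subgroup.map (QuotientGroup.mk' K)) htop
        rwa [Subgroup.map_sup, QuotientGroup.map_mk'_self, sup_bot_eq,
          Subgroup.map_top_of_surjective _ (QuotientGroup.mk'_surjective K)] at this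
      have h7 := Subgroup.card_map_dvd (H := L) (QuotientGroup.mk' K)
      rw [hmap, Subgroup.card_top, ← Subgroup.index_eq_card] at h7
      have h8 : K.index = Nat.card C := by
        have := K.card_mul_index
        rw [← hKc.card_mul] at this
        exact Nat.eq_of_mul_eq_mul_left Nat.card_pos this
      exact (h8 ▸ hsC).trans h7
    obtain ⟨⟨h, hhL⟩, hh⟩ := exists_prime_orderOf_dvd_card' (G := L) s hsL
    rw [Subgroup.orderOf_mk] at hh
    refine ⟨h, hhL, s, hs, hh, ?_⟩
    obtain ⟨-, f, hf⟩ := Frob.exists_conj_mem_of_notMem_kernel (fun hm => hsK (by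
      rw [← hh]
      exact Subgroup.orderOf_dvd_natCard K (show h ∈ (K : Set H) from hK ▸ hm)) : h ∉ frobeniusKernel C)
    refine ⟨ρ f v0, fun e => hv0 ((ρ f).map_eq_zero_iff.1 e), ?_⟩
    have := congrArg (ρ f) ((memC _).1 hf)
    rwa [rho_mul, rho_mul, rho_inv] at this
  have h1 : h ≠ 1 := fun e => hs.ne_one (by rw [← hhs, e, orderOf_one])
  have hmod := dvd_facts h2 hk hs hhs hy hhy
  have hs2 : s ≠ 2 := fun e => by
    have := finrank_le_two h2 hk (e ▸ hhs) hy hhy
    omega
  have hzK : ((z0 : K) : H) ∈ K := (z0 : K).2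
  have hAn : ∀ g ∈ L, ∀ a ∈ A, g * a * g⁻¹ ∈ A := by
    intro g hg a ha
    refine ⟨(Subgroup.mem_normalizer_iff.1 hg a).1 ha.1, fun w hw => ?_⟩
    have hw' : g⁻¹ * w * g ∈ R' := (Subgroup.mem_normalizer_iff.1 hg _).2 (by simpa [mul_assoc] using hw)
    have h9 : g⁻¹ * w * g * a = a * (g⁻¹ * w * g) := ha.2 _ hw'
    calc w * (g * a * g⁻¹) = g * (g⁻¹ * w * g * a) * g⁻¹ := by group
      _ = g * (a * (g⁻¹ * w * g)) * g⁻¹ := by rw [h9]
      _ = g * a * g⁻¹ * w := by group
  by_cases h6 : k = 6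
  · -- here `s = 31` would centralise the subgroup of order `7`
    exfalso
    have hs31 : s = 31 := by
      have h10 : s ∣ 62 := by
        have := (Nat.modEq_iff_dvd' (show 2 ≤ 2 ^ k by omega)).1 hmod.symm
        rwa [h6] at this
      rcases (hs.dvd_mul.1 (show s ∣ 2 * 31 from h10)) with e | e
      · exact absurd ((Nat.prime_dvd_prime_iff_eq hs Nat.prime_two).1 e) hs2
      · exact (Nat.prime_dvd_prime_iff_eq hs (by norm_num)).1 e
    have hr7 := hrp.2 h6
    subst hr7
    have hR7 : Nat.card R' = 7 := by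
      have h11 : Nat.card R' = 7 ^ (Nat.card K).factorization 7 := by
        rw [hR', Subgroup.card_map_of_injective K.subtype_injective, Sylow.card_eq_multiplicity]
      rw [h11, hKcard, h6, show (2 : ℕ) ^ 6 - 1 = 7 * 9 by norm_num, Nat.factorization_mul (by norm_num) (by norm_num),
        Finsupp.add_apply, Nat.Prime.factorization_self (by norm_num), Nat.factorization_eq_zero_of_not_dvd (by norm_num)]
      rfl
    set z := ((z0 : K) : H)
    have hzo : orderOf z = 7 := by
      have h12 := Subgroup.orderOf_dvd_natCard R' hzA.1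
      rw [hR7] at h12
      exact ((Nat.dvd_prime (by norm_num)).1 h12).resolve_left fun e => hz1 (orderOf_eq_one_iff.1 e)
    have hzR : Subgroup.zpowers z = R' := Subgroup.eq_of_le_of_card_ge (Subgroup.zpowers_le.2 hzA.1)
      (by rw [hR7, Nat.card_zpowers, hzo])
    have hconj : h * z * h⁻¹ ∈ Subgroup.zpowers z := hzR ▸ (hAn h hhL z hzA).1
    obtain ⟨i, hi, hiz⟩ := (mem_zpowers_iff_mem_range_orderOf (G := H)).1 hconj |> Finset.mem_image.1
    have hpow : ∀ m, h ^ m * z * (h ^ m)⁻¹ = z ^ (i ^ m) := by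
      intro m
      induction m with
      | zero => simp
      | succ m ih =>
        rw [pow_succ', mul_inv_rev, show h * h ^ m * z * ((h ^ m)⁻¹ * h⁻¹) = h * (h ^ m * z * (h ^ m)⁻¹) * h⁻¹ by group,
          ih, ← conj_pow, ← hiz, ← pow_mul, pow_succ']
    have h31 := hpow 31
    rw [← hs31, ← hhs, pow_orderOf_eq_one] at h31
    rw [hhs, hs31, one_mul, inv_one, mul_one] at h31
    have h13 : z ^ (i ^ 31) = z ^ 1 := by rw [pow_one]; exact h31.symm
    rw [pow_eq_pow_iff_modEq, hzo] at h13
    rw [hzo, Finset.mem_range] at hi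
    have hi1 : i = 1 := by
      have key : ∀ j < 7, j ^ 31 % 7 = 1 → j = 1 := by decide
      exact key i hi h13
    rw [hi1, pow_one] at hiz
    have hcomm : h * z = z * h := mul_inv_eq_iff_eq_mul.1 hiz.symm
    have hzy : ρ h (ρ z y) = ρ z y := by rw [← rho_mul, hcomm, rho_mul, hhy]
    exact hy (nofix z hzK hz1 y (h2 h h1 y (ρ z y) hy (fun e => hy ((ρ z).map_eq_zero_iff.1 e)) hhy hzy).symm)
  -- the semilinear structure
  have hP := hrp.1 h6
  have hirr : Irred (ρ.comp L.subtype) (A.subgroupOf L) := by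
    intro W hW
    by_contra hne
    push Not at hne
    have hzL : ((z0 : K) : H) ∈ L := Subgroup.le_normalizer hzA.1
    let z : L := ⟨_, hzL⟩
    have hzr : IsPGroup r (Subgroup.zpowers z) := by
      rintro ⟨g, hg⟩
      obtain ⟨m, rfl⟩ := Subgroup.mem_zpowers_iff.1 hg
      obtain ⟨j, hj⟩ := R.isPGroup' ⟨z0, hz0R⟩
      refine ⟨j, Subtype.ext (Subtype.ext ?_)⟩
      have hj' : ((z0 : K) : H) ^ r ^ j = 1 := congrArg (fun t : (R : Subgroup K) => ((t : K) : H)) hj
      show (((z0 : K) : H) ^ m) ^ r ^ j = 1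
      rw [← zpow_natCast, ← zpow_mul, mul_comm, zpow_mul, zpow_natCast, hj', one_zpow]
    have hsub : ∀ g ∈ Subgroup.zpowers z, ∀ w ∈ W, ρ (g : H) w ∈ W := by
      intro g hg
      have : Subgroup.zpowers z ≤ A.subgroupOf L := Subgroup.zpowers_le.2 hzA
      exact fun w hw => hW g (this hg) w hw
    letI : MulAction (Subgroup.zpowers z) W :=
      { smul := fun g w => ⟨ρ ((g : L) : H) w, hsub g g.2 w w.2⟩
        one_smul := fun w => Subtype.ext (rho_one _)
        mul_smul := fun g g' w => Subtype.ext (rho_mul _ _ _) }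
    have h14 := hzr.card_modEq_card_fixedPoints (α := W)
    rw [Module.natCard_eq_pow_finrank (K := ZMod 2), Nat.card_zmod,
      show Nat.card (MulAction.fixedPoints (Subgroup.zpowers z) W) = 1 from ?_] at h14
    · have hd1 : 0 < Module.finrank (ZMod 2) W := Nat.pos_of_ne_zero fun e => hne.1 (Submodule.finrank_eq_zero.1 e)
      have hd2 : Module.finrank (ZMod 2) W < k := hk ▸ Submodule.finrank_lt hne.2
      exact hP.2.2 _ hd1 hd2 ((Nat.modEq_iff_dvd' Nat.one_le_two_pow).1 h14.symm)
    · rw [Nat.card_eq_one_iff_unique]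
      refine ⟨⟨fun a b => Subtype.ext (Subtype.ext ?_)⟩, ⟨⟨0, fun g => Subtype.ext (map_zero _)⟩⟩⟩
      have key : ∀ a : MulAction.fixedPoints (Subgroup.zpowers z) W, ((a : W) : V) = 0 := fun a =>
        nofix _ hzK hz1 _ (congrArg Subtype.val (a.2 ⟨z, Subgroup.mem_zpowers z⟩))
      rw [key a, key b]
  obtain ⟨F, iF, iFt, e, he⟩ := semilinear (ρ := ρ.comp L.subtype) (A := A.subgroupOf L)
    ⟨fun a ha g => hAn g g.2 a ha⟩
    (fun a ha b hb => Subtype.ext (hb.2 (a : H) ha.1))
    hirr
  obtain ⟨a, σ, hσ⟩ := he ⟨h, hhL⟩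
  have hu : e y ≠ 0 := fun h' => hy (e.injective (h'.trans (map_zero e).symm))
  have hau : a * σ (e y) = e y := by rw [← hσ]; exact congrArg e hhy
  have hstep : ∀ x : F, e (ρ h (e.symm (x * e y))) = σ x * e y := fun x => by
    have h15 := hσ (e.symm (x * e y))
    rw [AddEquiv.apply_symm_apply, map_mul σ, mul_left_comm, hau] at h15
    exact h15
  have hfix : ∀ x : F, σ x = x → x = 0 ∨ x = 1 := fun x hx => by
    rcases eq_or_ne (e.symm (x * e y)) 0 with h16 | h16
    · left
      have := congrArg e h16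
      rw [AddEquiv.apply_symm_apply, map_zero] at this
      exact (mul_eq_zero.1 this).resolve_right hu
    · right
      have h17 : ρ h (e.symm (x * e y)) = e.symm (x * e y) := e.injective (by
        rw [hstep, hx, AddEquiv.apply_symm_apply])
      have := congrArg e (h2 h h1 y _ hy h16 hhy h17)
      rw [AddEquiv.apply_symm_apply] at this
      exact mul_right_cancel₀ hu (this.symm.trans (one_mul _).symm)
  have hiter : ∀ m, ∀ x : F, e (ρ (h ^ m) (e.symm (x * e y))) = (σ ^ m : RingAut F) x * e y := by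
    intro m
    induction m with
    | zero => intro x; rw [pow_zero, pow_zero, rho_one, AddEquiv.apply_symm_apply]; rfl
    | succ m ih =>
      intro x
      rw [pow_succ, rho_mul, ← e.symm_apply_apply (ρ h (e.symm (x * e y))), hstep, ih, pow_succ]
      rfl
  have hσs : (σ : RingAut F) ^ s = 1 := RingEquiv.ext fun x => by
    have h18 := hiter s x
    rw [show h ^ s = 1 from hhs ▸ pow_orderOf_eq_one h, rho_one, AddEquiv.apply_symm_apply] at h18
    exact (mul_right_cancel₀ hu h18).symm
  set S := Subgroup.zpowers (σ : RingAut F) with hS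
  haveI : Finite (RingAut F) := Finite.of_injective (fun t => (t : F → F)) DFunLike.coe_injective
  haveI : Fintype S := Fintype.ofFinite _
  have hfr := FixedPoints.finrank_eq_card S F
  have hcard2 : Nat.card (FixedPoints.subfield S F) = 2 := by
    rw [Nat.card_eq_two_iff' (0 : FixedPoints.subfield S F)]
    exact ⟨1, one_ne_zero, fun x hx => Subtype.ext
      (((hfix x.1 (x.2 ⟨σ, Subgroup.mem_zpowers _⟩)).resolve_left fun h' => hx (Subtype.ext h')))⟩
  have h19 : Nat.card F = 2 ^ Fintype.card S := by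
    rw [Module.natCard_eq_pow_finrank (K := FixedPoints.subfield S F) (V := F), hcard2, hfr]
  have h20 : k = Fintype.card S := by
    have : Nat.card F = 2 ^ k := by rw [← hV]; exact (Nat.card_congr e.toEquiv).symm
    exact Nat.pow_right_injective le_rfl (this.symm.trans h19)
  rw [Fintype.card_eq_nat_card, Nat.card_zpowers] at h20
  rcases (Nat.dvd_prime hs).1 (orderOf_dvd_of_pow_eq_one hσs) with e' | e' <;> rw [e'] at h20
  · omega
  · exact h20 ▸ hs

end Cfsg.Agent.Lie.RegularNormalDegree
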