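import Cfsg.Agent.Lib.Lie.MinIndexSLBase
import Cfsg.Agent.Lib.Char.CharProj

/-! Representations of `SL_n` of small degree: the point-hyperplane transvection groups. -/

set_option autoImplicit false
set_option linter.unusedSectionVars false

namespace Cfsg.Agent.Lie.RepDeg

open Matrix Module MinIndex Finset

universe u v w

variable {F : Type u} [Field F] [Fintype F] {k : ℕ}

local notation "V" => (Fin (k + 3) → F)
local notation "Mn" => Matrix (Fin (k + 3)) (Fin (k + 3)) F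
local notation "SL" => Matrix.SpecialLinearGroup (Fin (k + 3)) F

/-- Conjugation by an element of `G` acts on the transvections like the matrix `M`. -/
def Realised {G : Type v} [Group G] (ι : Matrix.SpecialLinearGroup (Fin (k + 3)) F →* G)
    (M : Matrix (Fin (k + 3)) (Fin (k + 3)) F) : Prop :=
  ∃ h : G, ∀ v f v' f' : Fin (k + 3) → F, f ⬝ᵥ v = 0 → M *ᵥ v = v' → f' ᵥ* M = f →
    h * ι (T v f) * h⁻¹ = ι (T v' f')

/-- Some element fixes one character and moves another. -/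
def CanMove {G : Type v} [Group G] (ι : Matrix.SpecialLinearGroup (Fin (k + 3)) F →* G)
    (v₀ f₀ : Fin (k + 3) → F) : Prop :=
  ∀ x g : Fin (k + 3) → F, f₀ ⬝ᵥ x = 0 → g ⬝ᵥ v₀ = 0 → (∃ f, f ⬝ᵥ v₀ = 0 ∧ f ⬝ᵥ x ≠ 0) →
    (∃ u, f₀ ⬝ᵥ u = 0 ∧ g ⬝ᵥ u ≠ 0) →
    ∃ (M : Matrix (Fin (k + 3)) (Fin (k + 3)) F) (lam mu : F), lam ≠ 0 ∧ mu ≠ 0 ∧ M.det ≠ 0 ∧
      Realised ι M ∧ M *ᵥ v₀ = lam • v₀ ∧ M *ᵥ x = lam • x ∧ f₀ ᵥ* M = mu • f₀ ∧
      ∃ u, f₀ ⬝ᵥ u = 0 ∧ g ⬝ᵥ (M *ᵥ u) ≠ mu * g ⬝ᵥ u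

theorem det_one_add_vecMulVec (a b : V) : (1 + vecMulVec a b : Mn).det = 1 + b ⬝ᵥ a := by
  rw [vecMulVec_eq Unit, det_one_add_replicateCol_mul_replicateRow]

theorem vmv (a b w : V) : (vecMulVec a b : Mn) *ᵥ w = (b ⬝ᵥ w) • a := by
  rw [vecMulVec_mulVec]; simp

theorem exists_dot_one {f₀ g u : V} (hu : f₀ ⬝ᵥ u = 0) (hgu : g ⬝ᵥ u ≠ 0) (hf₀ : f₀ ≠ 0) :
    (∃ y, g ⬝ᵥ y = 0 ∧ f₀ ⬝ᵥ y = 1) ∧ ∃ z, f₀ ⬝ᵥ z = 0 ∧ g ⬝ᵥ z = 1 := by
  refine ⟨exists_dot_zero_eq g (fun h => ?_) 1, exists_dot_zero_eq f₀ (fun h => ?_) 1⟩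
  · obtain ⟨c, hc⟩ := Submodule.mem_span_singleton.1 h
    rw [← hc, smul_dotProduct, smul_eq_mul] at hu
    rcases mul_eq_zero.1 hu with e | e
    · exact hf₀ (by rw [← hc, e, zero_smul])
    · exact hgu e
  · obtain ⟨c, hc⟩ := Submodule.mem_span_singleton.1 h
    rw [← hc, smul_dotProduct, hu, smul_zero] at hgu
    exact hgu rfl

variable {G : Type v} [Group G] (ι : Matrix.SpecialLinearGroup (Fin (k + 3)) F →* G)

/-- Enough realised matrices give the moving property. -/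
theorem canMove (ext : Prop)
    (hreal : ∀ M : Matrix (Fin (k + 3)) (Fin (k + 3)) F, M.det ≠ 0 → (M.det = 1 ∨ ext) → Realised ι M)
    (hk0 : k = 0 → ∃ t s : F, t ≠ 0 ∧ s ≠ 0 ∧ s ≠ 1 ∧ (t ^ 3 * s = 1 ∨ ext))
    (hk1 : k = 1 → ∃ r r' : F, r ≠ 0 ∧ r' ≠ 0 ∧ r ≠ r' ∧ (r * r' = 1 ∨ ext))
    {v₀ f₀ : V} (hv₀ : v₀ ≠ 0) (hf₀ : f₀ ≠ 0) (h00 : f₀ ⬝ᵥ v₀ = 0) : CanMove ι v₀ f₀ := by
  classical
  rintro x g hx hg ⟨f, hf, hfx⟩ ⟨u₀, hu₀, hgu₀⟩
  by_cases hcase : 2 ≤ k ∨ (1 ≤ k ∧ g ⬝ᵥ x ≠ 0)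
  · obtain ⟨a, ha, hga, hsmall⟩ : ∃ a, f₀ ⬝ᵥ a = 0 ∧ g ⬝ᵥ a ≠ 0 ∧
        finrank F (Submodule.span F ((({v₀, x, a} : Finset V) : Set V))) < k + 2 := by
      by_cases hgx : g ⬝ᵥ x ≠ 0
      · refine ⟨x, hx, hgx, ?_⟩
        refine lt_of_le_of_lt (finrank_span_finset_le_card _) ?_
        have h2 : ({v₀, x, x} : Finset V).card ≤ 2 := by
          refine (Finset.card_le_card (t := ({v₀, x} : Finset V)) (by simp)).trans Finset.card_le_two
        omega
      · refine ⟨u₀, hu₀, hgu₀, ?_⟩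
        refine lt_of_le_of_lt (finrank_span_finset_le_card _) ?_
        have h3 : ({v₀, x, u₀} : Finset V).card ≤ 3 := Finset.card_le_three
        have : 2 ≤ k := by
          rcases hcase with h | h
          · exact h
          · exact absurd h.2 hgx
        omega
    set S := Submodule.span F (((({v₀, x, a} : Finset V)) : Set V))
    obtain ⟨w, hw, hwS⟩ : ∃ w, w ∈ D f₀ ∧ w ∉ S := by
      by_contra h
      push Not at h
      have := Submodule.finrank_mono (s := D f₀) (t := S) h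
      rw [finrank_D hf₀] at this
      omega
    obtain ⟨b, hbS, hbw⟩ := exists_dot_eq_one hwS
    have hbv : b ⬝ᵥ v₀ = 0 := hbS _ (Submodule.subset_span (by simp))
    have hbx : b ⬝ᵥ x = 0 := hbS _ (Submodule.subset_span (by simp))
    have hba : b ⬝ᵥ a = 0 := hbS _ (Submodule.subset_span (by simp))
    have hdet : (1 + vecMulVec a b : Mn).det = 1 := by rw [det_one_add_vecMulVec, hba, add_zero]
    have hmv : ∀ y, (1 + vecMulVec a b : Mn) *ᵥ y = y + (b ⬝ᵥ y) • a := fun y => by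
      rw [add_mulVec, one_mulVec, vecMulVec_mulVec]; simp
    refine ⟨_, 1, 1, one_ne_zero, one_ne_zero, by rw [hdet]; exact one_ne_zero,
      hreal _ (by rw [hdet]; exact one_ne_zero) (Or.inl hdet), ?_, ?_, ?_, w, ?_, ?_⟩
    · rw [hmv, hbv, zero_smul, add_zero, one_smul]
    · rw [hmv, hbx, zero_smul, add_zero, one_smul]
    · rw [vecMul_add, vecMul_one, vecMul_vecMulVec, ha, zero_smul, add_zero, one_smul]
    · rw [dotProduct_comm]; exact hw
    · rw [hmv, hbw, one_smul, dotProduct_add, one_mul]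
      intro h
      exact hga (add_eq_left.1 h)
  push Not at hcase
  obtain ⟨hk2, hgx'⟩ := hcase
  obtain ⟨⟨y, hgy, hfy⟩, z, hfz, hgz⟩ := exists_dot_one hu₀ hgu₀ hf₀
  rcases Nat.eq_zero_or_pos k with hk | hk
  · obtain ⟨t, s, ht, hs, hs1, hdet'⟩ := hk0 hk
    have hgx : g ⬝ᵥ x ≠ 0 := by
      intro h0
      have hxv : x ∉ Submodule.span F {v₀} := fun h => by
        obtain ⟨c, rfl⟩ := Submodule.mem_span_singleton.1 h
        rw [dotProduct_smul, hf, smul_zero] at hfx
        exact hfx rfl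
      have hS : Submodule.span F {v₀, x} = D f₀ := by
        refine Submodule.eq_of_le_of_finrank_le (Submodule.span_le.2 ?_) ?_
        · intro y hy
          rcases hy with rfl | rfl
          · exact (dotProduct_comm _ _).trans h00
          · exact (dotProduct_comm _ _).trans hx
        · rw [finrank_D hf₀]
          have hli : LinearIndependent F ![v₀, x] :=
            (LinearIndependent.pair_iff' hv₀).2 fun c hc => hxv (hc ▸ Submodule.smul_mem _ c (Submodule.mem_span_singleton_self _))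
          have h2 := finrank_span_eq_card hli
          rw [Matrix.range_cons_cons_empty, Fintype.card_fin] at h2
          rw [h2]
          omega
      have hu : u₀ ∈ Submodule.span F {v₀, x} := hS ▸ (dotProduct_comm _ _).trans hu₀
      obtain ⟨c, d, rfl⟩ := Submodule.mem_span_pair.1 hu
      rw [dotProduct_add, dotProduct_smul, dotProduct_smul, hg, h0] at hgu₀
      simp at hgu₀
    set M : Mn := t • (1 + vecMulVec y ((s - 1) • f₀)) with hM
    have hdM : M.det = t ^ (k + 3) * s := by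
      rw [hM, det_smul, Fintype.card_fin, det_one_add_vecMulVec, smul_dotProduct, hfy, smul_eq_mul,
        mul_one, add_sub_cancel]
    have hmv : ∀ w, M *ᵥ w = t • (w + ((s - 1) * f₀ ⬝ᵥ w) • y) := fun w => by
      rw [hM, smul_mulVec, add_mulVec, one_mulVec, vmv, smul_dotProduct, smul_eq_mul]
    have hd0 : M.det ≠ 0 := by rw [hdM]; exact mul_ne_zero (pow_ne_zero _ ht) hs
    refine ⟨M, t, t * s, ht, mul_ne_zero ht hs, hd0,
      hreal M hd0 (hdet'.imp (fun h => by rw [hdM, hk]; exact h) id), ?_, ?_, ?_, x, hx, ?_⟩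
    · rw [hmv, h00, mul_zero, zero_smul, add_zero]
    · rw [hmv, hx, mul_zero, zero_smul, add_zero]
    · rw [hM, vecMul_smul, vecMul_add, vecMul_one, vecMul_vecMulVec, hfy, one_smul, mul_smul]
      congr 1
      rw [sub_smul, one_smul, add_sub_cancel]
    · rw [hmv, hx, mul_zero, zero_smul, add_zero, dotProduct_smul, smul_eq_mul]
      intro h
      apply hs1
      have h' : (t * g ⬝ᵥ x) * (s - 1) = 0 := by linear_combination -h
      exact sub_eq_zero.1 ((mul_eq_zero.1 h').resolve_left (mul_ne_zero ht hgx))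
  · have hk' : k = 1 := by omega
    have hgx : g ⬝ᵥ x = 0 := hgx' hk
    obtain ⟨r, r', hr, hr', hne, hdet'⟩ := hk1 hk'
    set M : Mn := (1 + vecMulVec z ((r - 1) • g)) * (1 + vecMulVec y ((r' - 1) • f₀)) with hM
    have hdM : M.det = r * r' := by
      rw [hM, det_mul, det_one_add_vecMulVec, det_one_add_vecMulVec, smul_dotProduct, smul_dotProduct,
        hfy, hgz]
      simp
    have hmv : ∀ w, M *ᵥ w = (w + ((r' - 1) * f₀ ⬝ᵥ w) • y) + ((r - 1) * g ⬝ᵥ w) • z := fun w => by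
      rw [hM, ← mulVec_mulVec]
      simp only [add_mulVec, one_mulVec, vmv, smul_dotProduct, dotProduct_add, dotProduct_smul, hgy,
        smul_eq_mul, mul_zero, add_zero]
    have hd0 : M.det ≠ 0 := by rw [hdM]; exact mul_ne_zero hr hr'
    refine ⟨M, 1, r', one_ne_zero, hr', hd0,
      hreal M hd0 (hdet'.imp (fun h => by rw [hdM]; exact h) id), ?_, ?_, ?_, u₀, hu₀, ?_⟩
    · rw [hmv, h00, hg]; simp
    · rw [hmv, hx, hgx]; simp
    · rw [hM, ← vecMul_vecMul]
      simp only [vecMul_add, vecMul_one, vecMul_vecMulVec, hfz, zero_smul, add_zero, hfy, one_smul]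
      rw [sub_smul, one_smul, add_sub_cancel]
    · rw [hmv, hu₀, mul_zero, zero_smul, add_zero, dotProduct_add, dotProduct_smul, hgz, smul_eq_mul,
        mul_one]
      intro h
      apply hne
      have h' : (g ⬝ᵥ u₀) * (r - r') = 0 := by linear_combination h
      exact sub_eq_zero.1 ((mul_eq_zero.1 h').resolve_left hgu₀)

variable {E : Type w} [AddCommGroup E] [Module ℂ E] [FiniteDimensional ℂ E] (ρ : Representation ℂ G E)

/-- All transvections have the same character value. -/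
theorem char_T [Finite G] {v f v' f' : V} (hv : v ≠ 0) (hf : f ≠ 0) (hfv : f ⬝ᵥ v = 0)
    (hv' : v' ≠ 0) (hf' : f' ≠ 0) (hfv' : f' ⬝ᵥ v' = 0) :
    ρ.character (ι (T v f)) = ρ.character (ι (T v' f')) := by
  obtain ⟨g, hg⟩ := Classical.exists_sl_conj_std (T v f) (isTransvection_T hv hf hfv)
  obtain ⟨g', hg'⟩ := Classical.exists_sl_conj_std (T v' f') (isTransvection_T hv' hf' hfv')
  have e : g⁻¹ * T v f * g = g'⁻¹ * T v' f' * g' := ext' (hg.trans hg'.symm)
  have key : ∀ a t : SL, ρ.character (ι (a⁻¹ * t * a)) = ρ.character (ι t) := fun a t => by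
    have := Representation.char_conj ρ (ι t) (ι a⁻¹)
    simpa [map_mul, map_inv] using this
  rw [← key g (T v f), ← key g' (T v' f'), e]

variable (v₀ f₀ : Fin (k + 3) → F)

/-- The average over the transvection group with centre `v₀`. -/
noncomputable def fixA : Module.End ℂ E :=
  letI := Fintype.ofFinite (D v₀)
  (Fintype.card (D v₀) : ℂ)⁻¹ • ∑ f : D v₀, ρ (ι (T v₀ f.1))

variable {v₀ f₀} (hv₀ : v₀ ≠ 0) (hf₀ : f₀ ≠ 0) (h00 : f₀ ⬝ᵥ v₀ = 0)

include hv₀ hf₀ h00 in
/-- The dimension estimate. -/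
theorem step [Finite G] (hmove : CanMove ι v₀ f₀)
    (hnt : ρ (ι (T v₀ f₀)) ≠ 1)
    (hsmall : finrank ℂ E + 2 < 2 * Fintype.card F ^ (k + 2)) :
    ∃ a : ℕ, finrank ℂ E + 1 = Fintype.card F ^ (k + 2) + a ∧
      ρ.character (ι (T v₀ f₀)) = (a : ℂ) - 1 ∧ Fintype.card F ^ (k + 1) ≤ a + 1 ∧
      IsIdempotentElem (fixA ι ρ v₀) ∧ LinearMap.trace ℂ E (fixA ι ρ v₀) = a ∧
      ∃ u, f₀ ⬝ᵥ u = 0 ∧ ρ (ι (T u f₀)) * fixA ι ρ v₀ ≠ fixA ι ρ v₀ := by
  classical
  set q := Fintype.card F with hq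
  set d := finrank ℂ E with hd
  set c := ρ.character (ι (T v₀ f₀)) with hc
  obtain ⟨ψ, hψ1⟩ := (AddChar.exists_apply_ne_zero (a := (1 : F))).2 one_ne_zero
  have hψ : ψ ≠ 1 := fun h => hψ1 (by rw [h]; rfl)
  haveI := Fintype.ofFinite (D v₀)
  haveI := Fintype.ofFinite (D f₀)
  haveI : Finite ((D v₀) →ₗ[F] F) := Module.finite_of_finite F
  haveI : Finite ((D f₀) →ₗ[F] F) := Module.finite_of_finite F
  haveI : Fintype ((D v₀) →ₗ[F] F) := Fintype.ofFinite _
  haveI : Fintype ((D f₀) →ₗ[F] F) := Fintype.ofFinite _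
  let aA : D v₀ → Module.End ℂ E := fun f => ρ (ι (T v₀ f.1))
  let bB : D f₀ → Module.End ℂ E := fun u => ρ (ι (T u.1 f₀))
  have hDf : ∀ u : D f₀, f₀ ⬝ᵥ u.1 = 0 := fun u => (dotProduct_comm _ _).trans u.2
  have ha0 : aA 0 = 1 := by simp [aA, T_zero]
  have hamul : ∀ f g, aA (f + g) = aA f * aA g := fun f g => by
    simp only [aA, ← map_mul, T_mul f.2 g.2]; rfl
  have hb0 : bB 0 = 1 := by
    simp only [bB, Submodule.coe_zero]
    rw [show T (0 : V) f₀ = (1 : SL) from ext' (by rw [T_val (dotProduct_zero _)]; simp), map_one, map_one]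
  have hbmul : ∀ u w, bB (u + w) = bB u * bB w := fun u w => by
    simp only [bB, ← map_mul, T_mul_left (hDf u) (hDf w)]; rfl
  have hone : LinearMap.trace ℂ E 1 = (d : ℂ) := by rw [Module.End.one_eq_id, LinearMap.trace_id]
  have hac : ∀ f : D v₀, f ≠ 0 → LinearMap.trace ℂ E (aA f) = c := fun f hf =>
    char_T ι ρ hv₀ (fun e => hf (Subtype.ext e)) f.2 hv₀ hf₀ h00
  have hbc : ∀ u : D f₀, u ≠ 0 → LinearMap.trace ℂ E (bB u) = c := fun u hu =>
    char_T ι ρ (fun e => hu (Subtype.ext e)) hf₀ (hDf u) hv₀ hf₀ h00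
  set e : (D v₀ →ₗ[F] F) → Module.End ℂ E := fun β => Char.cproj ψ aA β with he
  set F' : (D f₀ →ₗ[F] F) → Module.End ℂ E := fun γ => Char.cproj ψ bB γ with hF'
  have hNA : Fintype.card (D v₀) = q ^ (k + 2) := by rw [← Nat.card_eq_fintype_card, card_D hv₀]
  have hNB : Fintype.card (D f₀) = q ^ (k + 2) := by rw [← Nat.card_eq_fintype_card, card_D hf₀]
  set N := q ^ (k + 2) with hN
  have hN0 : (N : ℂ) ≠ 0 := Nat.cast_ne_zero.mpr (pow_ne_zero _ Fintype.card_ne_zero)
  -- the common trace of the non-trivial projections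
  obtain ⟨β₁, hβ₁⟩ : ∃ β : D v₀ →ₗ[F] F, β ≠ 0 := by
    haveI : Nontrivial (D v₀) := Module.nontrivial_of_finrank_pos (R := F) (by rw [finrank_D hv₀]; omega)
    exact exists_ne 0
  obtain ⟨m, hm, -, -⟩ := Char.idem_trace_nat (Char.cproj_idem hψ hamul β₁)
  rw [Char.trace_cproj hψ ha0 hone hac, if_neg hβ₁, hNA, inv_mul_eq_iff_eq_mul₀ hN0] at hm
  have hd_eq : (d : ℂ) = c + (N : ℂ) * m := by linear_combination hm
  have hme : ∀ β : D v₀ →ₗ[F] F, β ≠ 0 → LinearMap.trace ℂ E (e β) = (m : ℂ) := fun β hβ => by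
    rw [he, Char.trace_cproj hψ ha0 hone hac, if_neg hβ, hNA, hd_eq]
    field_simp
    ring
  have hmF : ∀ γ : D f₀ →ₗ[F] F, γ ≠ 0 → LinearMap.trace ℂ E (F' γ) = (m : ℂ) := fun γ hγ => by
    rw [hF', Char.trace_cproj hψ hb0 hone hbc, if_neg hγ, hNB, hd_eq]
    field_simp
    ring
  obtain ⟨a, ha, -, -⟩ := Char.idem_trace_nat (Char.cproj_idem hψ hamul (0 : D v₀ →ₗ[F] F))
  have hfix : fixA ι ρ v₀ = e 0 := by
    simp only [fixA, he, Char.cproj, LinearMap.zero_apply, neg_zero, AddChar.map_zero_eq_one, one_smul]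
    convert rfl
  have ha' : (d : ℂ) + m = a + (N : ℂ) * m := by
    rw [Char.trace_cproj hψ ha0 hone hac, if_pos rfl, hNA, inv_mul_eq_iff_eq_mul₀ hN0] at ha
    refine mul_left_cancel₀ hN0 ?_
    linear_combination ha + ((N : ℂ) - 1) * hd_eq
  have hdm : d + m = a + N * m := by exact_mod_cast ha'
  have hm1 : m = 1 := by
    rcases Nat.lt_or_ge m 2 with h | h
    · rcases Nat.eq_zero_or_pos m with h0 | h0
      · exfalso
        apply hnt
        have h1 : ρ.character (ι (T v₀ f₀)) = (finrank ℂ E : ℂ) := by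
          rw [← hc, ← hd, hd_eq, h0, Nat.cast_zero, mul_zero, add_zero]
        rw [(Char.character_eq_finrank_iff ρ _).1 h1, Module.End.one_eq_id]
      · omega
    · exfalso
      have h1 : 1 ≤ N := Nat.one_le_pow _ _ Fintype.card_pos
      have h2 : (N - 1) * 2 ≤ (N - 1) * m := Nat.mul_le_mul_left _ h
      have h3 : (N - 1) * m + m = N * m := by
        rw [← Nat.succ_mul, Nat.succ_eq_add_one, Nat.sub_add_cancel h1]
      omega
  subst hm1
  -- the transvection groups with given centre and with given axis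
  have hcomm : ∀ (f : D v₀) (γ : D f₀ →ₗ[F] F), γ ⟨v₀, (dotProduct_comm _ _).trans h00⟩ = 0 →
      aA f * F' γ = F' γ * aA f := by
    intro f γ hγ
    simp only [hF', Char.cproj, Algebra.mul_smul_comm, Algebra.smul_mul_assoc, Finset.mul_sum,
      Finset.sum_mul]
    congr 1
    let z : D f₀ := ⟨v₀, (dotProduct_comm _ _).trans h00⟩
    let sh : D f₀ ≃ D f₀ :=
      { toFun := fun u => u + (f.1 ⬝ᵥ u.1) • z
        invFun := fun u => u - (f.1 ⬝ᵥ u.1) • z
        left_inv := fun u => by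
          have : f.1 ⬝ᵥ (u + (f.1 ⬝ᵥ u.1) • z).1 = f.1 ⬝ᵥ u.1 := by
            rw [Submodule.coe_add, Submodule.coe_smul, dotProduct_add, dotProduct_smul, f.2,
              smul_zero, add_zero]
          simp only [this, add_sub_cancel_right]
        right_inv := fun u => by
          have : f.1 ⬝ᵥ (u - (f.1 ⬝ᵥ u.1) • z).1 = f.1 ⬝ᵥ u.1 := by
            rw [Submodule.coe_sub, Submodule.coe_smul, dotProduct_sub, dotProduct_smul, f.2,
              smul_zero, sub_zero]
          simp only [this, sub_add_cancel] }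
    refine Fintype.sum_equiv sh _ _ fun u => ?_
    have hu : γ (sh u) = γ u := by simp [sh, z, map_add, map_smul, hγ]
    rw [hu]
    congr 1
    have hu' : f₀ ⬝ᵥ (sh u).1 = 0 := hDf _
    simp only [aA, bB, ← map_mul]
    congr 2
    refine ext' ?_
    rw [Matrix.SpecialLinearGroup.coe_mul, Matrix.SpecialLinearGroup.coe_mul, T_val f.2,
      T_val (hDf u), T_val hu']
    simp only [sh, z, Equiv.coe_fn_mk, Submodule.coe_add, Submodule.coe_smul, add_vecMulVec,
      smul_vecMulVec, add_mul, mul_add, one_mul, mul_one, vecMulVec_mul_vecMulVec, h00, zero_smul,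
      vecMulVec_smul, vecMulVec_zero, smul_zero, add_zero, smul_mul_assoc, mul_smul_comm]
    abel
  have hcomm' : ∀ β γ, γ ⟨v₀, (dotProduct_comm _ _).trans h00⟩ = 0 →
      e β * F' γ = F' γ * e β := by
    intro β γ hγ
    simp only [he, Char.cproj, Algebra.mul_smul_comm, Algebra.smul_mul_assoc, Finset.mul_sum,
      Finset.sum_mul]
    congr 1
    refine Finset.sum_congr rfl fun f _ => ?_
    rw [show aA f * F' γ = F' γ * aA f from hcomm f γ hγ]
  have hzero : ∀ β γ, β ≠ 0 → γ ≠ 0 → γ ⟨v₀, (dotProduct_comm _ _).trans h00⟩ = 0 →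
      e β * F' γ = 0 := by
    intro β γ hβ hγ hγz
    let zA : D v₀ := ⟨f₀, h00⟩
    let zB : D f₀ := ⟨v₀, (dotProduct_comm _ _).trans h00⟩
    by_cases hβz : β zA = 0
    swap
    · set s := (1 : F) / β zA with hs
      have h1 : aA (s • zA) = bB (s • zB) := by
        simp only [aA, bB, zA, zB, Submodule.coe_smul]
        rw [T_smul s h00]
      have h2 : aA (s • zA) * (e β * F' γ) = ψ 1 • (e β * F' γ) := by
        rw [← mul_assoc, he, Char.a_mul_cproj hamul, Algebra.smul_mul_assoc, map_smul, smul_eq_mul, hs,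
          one_div, inv_mul_cancel₀ hβz]
      have h3 : bB (s • zB) * (e β * F' γ) = e β * F' γ := by
        rw [hcomm' β γ hγz, ← mul_assoc, hF', Char.a_mul_cproj hbmul, map_smul,
          show γ zB = 0 from hγz, smul_zero, AddChar.map_zero_eq_one, one_smul]
      rw [h1, h3] at h2
      have h4 : (ψ 1 - 1) • (e β * F' γ) = 0 := by rw [sub_smul, one_smul, ← h2, sub_self]
      exact (smul_eq_zero.1 h4).resolve_left (sub_ne_zero.2 hψ1)
    -- coordinates of the two characters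
    obtain ⟨β', hβ'⟩ := LinearMap.exists_extend β
    obtain ⟨γ', hγ'⟩ := LinearMap.exists_extend γ
    let x : V := fun i => β' (Pi.single i 1)
    let g : V := fun i => γ' (Pi.single i 1)
    have hrep : ∀ (φ : V →ₗ[F] F) (w : V), w ⬝ᵥ (fun i => φ (Pi.single i 1)) = φ w := fun φ w => by
      conv_rhs => rw [pi_eq_sum_univ' w, map_sum]
      exact Finset.sum_congr rfl fun i _ => by rw [map_smul, smul_eq_mul]
    have hxβ : ∀ f : D v₀, f.1 ⬝ᵥ x = β f := fun f => by
      rw [hrep β' f.1, ← hβ']; rfl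
    have hgγ : ∀ u : D f₀, g ⬝ᵥ u.1 = γ u := fun u => by
      rw [dotProduct_comm, hrep γ' u.1, ← hγ']; rfl
    obtain ⟨f, hf⟩ : ∃ f, β f ≠ 0 := by
      by_contra h
      push Not at h
      exact hβ (LinearMap.ext fun f => by simp [h f])
    obtain ⟨u, hu⟩ : ∃ u, γ u ≠ 0 := by
      by_contra h
      push Not at h
      exact hγ (LinearMap.ext fun u => by simp [h u])
    obtain ⟨M, lam, mu, hlam, hmu, hM, ⟨h, hh⟩, hMv, hMx, hfM, w, hw, hgw⟩ :=
      hmove x g ((hxβ zA).trans hβz) ((hgγ zB).trans hγz) ⟨f.1, f.2, by rw [hxβ]; exact hf⟩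
        ⟨u.1, hDf u, by rw [hgγ]; exact hu⟩
    let τ : D v₀ →ₗ[F] D v₀ :=
      { toFun := fun f => ⟨lam⁻¹ • (f.1 ᵥ* M), by
          rw [mem_D, smul_dotProduct, ← dotProduct_mulVec, hMv, dotProduct_smul, f.2, smul_zero,
            smul_zero]⟩
        map_add' := fun f g => Subtype.ext (by simp [add_vecMul])
        map_smul' := fun r f => Subtype.ext (by simp [smul_vecMul, smul_comm r]) }
    let σ : D f₀ →ₗ[F] D f₀ :=
      { toFun := fun u => ⟨mu⁻¹ • (M *ᵥ u.1), by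
          rw [mem_D, dotProduct_comm, dotProduct_smul, dotProduct_mulVec, hfM, smul_dotProduct,
            hDf u, smul_zero, smul_zero]⟩
        map_add' := fun f g => Subtype.ext (by simp [mulVec_add])
        map_smul' := fun r f => Subtype.ext (by simp [mulVec_smul, smul_comm r]) }
    have hτi : Function.Injective τ := fun f g hfg => by
      have h1 : lam⁻¹ • (f.1 ᵥ* M) = lam⁻¹ • (g.1 ᵥ* M) := congrArg Subtype.val hfg
      exact Subtype.ext (Matrix.vecMul_injective_of_isUnit ((Matrix.isUnit_iff_isUnit_det M).2 (isUnit_iff_ne_zero.2 hM))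
        (smul_right_injective _ (inv_ne_zero hlam) h1))
    have hσi : Function.Injective σ := fun f g hfg => by
      have h1 : mu⁻¹ • (M *ᵥ f.1) = mu⁻¹ • (M *ᵥ g.1) := congrArg Subtype.val hfg
      exact Subtype.ext (Matrix.mulVec_injective_of_isUnit ((Matrix.isUnit_iff_isUnit_det M).2 (isUnit_iff_ne_zero.2 hM))
        (smul_right_injective _ (inv_ne_zero hmu) h1))
    let τe := LinearEquiv.ofInjectiveEndo τ hτi
    let σe := LinearEquiv.ofInjectiveEndo σ hσi
    have hPQ : ρ h * ρ h⁻¹ = 1 := by rw [← map_mul, mul_inv_cancel, map_one]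
    have hQP : ρ h⁻¹ * ρ h = 1 := by rw [← map_mul, inv_mul_cancel, map_one]
    have hτ : ∀ f : D v₀, ρ h * aA (τ f) * ρ h⁻¹ = aA f := fun f => by
      simp only [aA, ← map_mul]
      congr 1
      have e1 : T v₀ (lam⁻¹ • (f.1 ᵥ* M)) = T (lam⁻¹ • v₀) (f.1 ᵥ* M) := by
        rw [T_smul _ (by rw [← dotProduct_mulVec, hMv, dotProduct_smul, f.2, smul_zero])]
      show h * ι (T v₀ (lam⁻¹ • (f.1 ᵥ* M))) * h⁻¹ = _
      rw [e1, hh _ _ v₀ f.1 (by
        rw [dotProduct_smul, ← dotProduct_mulVec, hMv, dotProduct_smul, f.2, smul_zero, smul_zero])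
        (by rw [mulVec_smul, hMv, smul_smul, inv_mul_cancel₀ hlam, one_smul]) rfl]
    have hσ : ∀ u : D f₀, ρ h * bB u * ρ h⁻¹ = bB (σ u) := fun u => by
      simp only [bB, ← map_mul]
      congr 1
      show h * ι (T u.1 f₀) * h⁻¹ = ι (T (mu⁻¹ • (M *ᵥ u.1)) f₀)
      rw [T_smul _ (by rw [dotProduct_mulVec, hfM, smul_dotProduct, hDf u, smul_zero]),
        hh u.1 f₀ (M *ᵥ u.1) (mu⁻¹ • f₀) (hDf u) rfl
          (by rw [smul_vecMul, hfM, smul_smul, inv_mul_cancel₀ hmu, one_smul])]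
    have heβ : ρ h * e β * ρ h⁻¹ = e β := by
      rw [he, Char.cproj_conj hPQ τe.symm (fun f => by
        conv_rhs => rw [← hτ (τe.symm f)]
        congr 2
        exact congrArg aA (τe.apply_symm_apply f).symm) β]
      congr 1
      refine LinearMap.ext fun f => ?_
      rw [LinearEquiv.symm_symm, LinearMap.comp_apply]
      show β (τ f) = β f
      rw [← hxβ, ← hxβ]
      show lam⁻¹ • (f.1 ᵥ* M) ⬝ᵥ x = _
      rw [smul_dotProduct, ← dotProduct_mulVec, hMx, dotProduct_smul, smul_eq_mul, smul_eq_mul,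
        inv_mul_cancel_left₀ hlam]
    set γ₁ := γ ∘ₗ σe.symm.toLinearMap with hγ₁
    have hFγ : ρ h * F' γ * ρ h⁻¹ = F' γ₁ := by
      rw [hF', hγ₁]
      exact Char.cproj_conj hPQ σe hσ γ
    have hσz : σ zB = (mu⁻¹ * lam) • zB := Subtype.ext (by
      show mu⁻¹ • (M *ᵥ v₀) = _
      rw [hMv, smul_smul]; rfl)
    have hγ₁z : γ₁ zB = 0 := by
      have e2 : σe.symm zB = (mu⁻¹ * lam)⁻¹ • zB := by
        apply σe.injective
        rw [LinearEquiv.apply_symm_apply, map_smul]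
        show zB = (mu⁻¹ * lam)⁻¹ • σ zB
        rw [hσz, smul_smul, inv_mul_cancel₀ (mul_ne_zero (inv_ne_zero hmu) hlam), one_smul]
      show γ (σe.symm zB) = 0
      rw [e2, map_smul, show γ zB = 0 from hγz, smul_zero]
    have hne : γ₁ ≠ γ := by
      intro he'
      apply hgw
      have h1 : γ (σ ⟨w, (dotProduct_comm _ _).trans hw⟩) = γ ⟨w, (dotProduct_comm _ _).trans hw⟩ := by
        conv_lhs => rw [← he']
        show γ (σe.symm (σe _)) = _
        rw [LinearEquiv.symm_apply_apply]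
      rw [← hgγ, ← hgγ] at h1
      change g ⬝ᵥ (mu⁻¹ • (M *ᵥ w)) = g ⬝ᵥ w at h1
      rw [dotProduct_smul, smul_eq_mul, inv_mul_eq_iff_eq_mul₀ hmu] at h1
      exact h1
    -- two orthogonal idempotents of equal trace below `e β`
    have hQ : IsIdempotentElem (e β * F' γ) := by
      show e β * F' γ * (e β * F' γ) = e β * F' γ
      rw [mul_assoc, ← mul_assoc (F' γ), ← hcomm' β γ hγz, mul_assoc, (Char.cproj_idem hψ hbmul γ).eq,
        ← mul_assoc, (Char.cproj_idem hψ hamul β).eq]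
    have hγ₁0 : γ₁ ≠ 0 := fun h0 => hγ (LinearMap.ext fun u => by
      have := LinearMap.congr_fun h0 (σe u)
      simpa [hγ₁] using this)
    have hQ₁ : IsIdempotentElem (e β * F' γ₁) := by
      show e β * F' γ₁ * (e β * F' γ₁) = e β * F' γ₁
      rw [mul_assoc, ← mul_assoc (F' γ₁), ← hcomm' β γ₁ hγ₁z, mul_assoc,
        (Char.cproj_idem hψ hbmul γ₁).eq, ← mul_assoc, (Char.cproj_idem hψ hamul β).eq]
    have horth : F' γ * F' γ₁ = 0 := by
      rw [hF', Char.cproj_mul_cproj hψ hbmul, if_neg (Ne.symm hne)]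
    have horth' : F' γ₁ * F' γ = 0 := by
      rw [hF', Char.cproj_mul_cproj hψ hbmul, if_neg hne]
    have hsum : IsIdempotentElem (e β * F' γ + e β * F' γ₁) := by
      have z1 : e β * F' γ * (e β * F' γ₁) = 0 := by
        rw [mul_assoc, ← mul_assoc (F' γ), ← hcomm' β γ hγz, mul_assoc, horth, mul_zero, mul_zero]
      have z2 : e β * F' γ₁ * (e β * F' γ) = 0 := by
        rw [mul_assoc, ← mul_assoc (F' γ₁), ← hcomm' β γ₁ hγ₁z, mul_assoc, horth', mul_zero, mul_zero]
      show _ * _ = _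
      rw [add_mul, mul_add, mul_add, hQ.eq, hQ₁.eq, z1, z2, add_zero, zero_add]
    obtain ⟨t, ht, -, ht0⟩ := Char.idem_trace_nat hQ
    have ht' : LinearMap.trace ℂ E (e β * F' γ₁) = t := by
      have h5 : ρ h * (e β * F' γ) * ρ h⁻¹ = e β * F' γ₁ := by
        calc ρ h * (e β * F' γ) * ρ h⁻¹ = (ρ h * e β * ρ h⁻¹) * (ρ h * F' γ * ρ h⁻¹) := by
              simp only [mul_assoc]
              rw [← mul_assoc (ρ h⁻¹) (ρ h), hQP, one_mul]
          _ = _ := by rw [heβ, hFγ]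
      rw [← h5, LinearMap.trace_mul_comm, ← mul_assoc, hQP, one_mul, ht]
    refine ht0 ?_
    have hle := Char.idem_trace_le (Char.cproj_idem hψ hamul β) hsum
      (by rw [mul_add, ← mul_assoc, ← mul_assoc, (Char.cproj_idem hψ hamul β).eq])
      (by rw [add_mul, mul_assoc, mul_assoc, ← hcomm' β γ hγz, ← hcomm' β γ₁ hγ₁z, ← mul_assoc,
        ← mul_assoc, (Char.cproj_idem hψ hamul β).eq])
      (p := 1) (q := t + t) (hme β hβ) (by rw [map_add, ht, ht', Nat.cast_add])
    omega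
  -- the projections with `γ v₀ = 0` lie in the fixed space
  let zB : D f₀ := ⟨v₀, (dotProduct_comm _ _).trans h00⟩
  let Γ : Finset (D f₀ →ₗ[F] F) := Finset.univ.filter fun γ => γ zB = 0 ∧ γ ≠ 0
  have hkey : ∀ γ ∈ Γ, e 0 * F' γ = F' γ := by
    intro γ hγ
    obtain ⟨hγz, hγ0⟩ := (Finset.mem_filter.1 hγ).2
    conv_rhs => rw [← one_mul (F' γ), ← Char.sum_cproj hψ ha0, Finset.sum_mul]
    exact (Finset.sum_eq_single (0 : D v₀ →ₗ[F] F) (fun β _ hβ => hzero β γ hβ hγ0 hγz)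
      (fun h => absurd (Finset.mem_univ _) h)).symm
  have hΓ : Γ.card + 1 = q ^ (k + 1) := by
    let ev : (D f₀ →ₗ[F] F) →ₗ[F] F := LinearMap.applyₗ zB
    have hsurj : LinearMap.range ev = ⊤ := by
      refine LinearMap.range_eq_top.2 fun c => ?_
      obtain ⟨φ, hφ⟩ : ∃ φ : D f₀ →ₗ[F] F, φ zB ≠ 0 := by
        by_contra hcon
        push Not at hcon
        exact hv₀ (congrArg Subtype.val ((Module.forall_dual_apply_eq_zero_iff F zB).1 hcon))
      exact ⟨(c / φ zB) • φ, by simp [ev, div_mul_cancel₀ _ hφ]⟩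
    have h1 := LinearMap.finrank_range_add_finrank_ker ev
    rw [hsurj, finrank_top, Module.finrank_self,
      show finrank F (D f₀ →ₗ[F] F) = k + 2 from Subspace.dual_finrank_eq.trans (finrank_D hf₀)] at h1
    have h2 : Nat.card (LinearMap.ker ev) = q ^ (k + 1) := by
      rw [Module.natCard_eq_pow_finrank (K := F), Nat.card_eq_fintype_card]
      congr 1
      omega
    have h3 : (Finset.univ.filter fun γ : D f₀ →ₗ[F] F => γ zB = 0).card = q ^ (k + 1) := by
      rw [← h2, Nat.card_eq_fintype_card]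
      exact (Fintype.card_of_subtype _ fun γ => by simp [ev]).symm
    have h4 : Γ = (Finset.univ.filter fun γ : D f₀ →ₗ[F] F => γ zB = 0).erase 0 := by
      ext γ; simp [Γ, and_comm]
    rw [h4, Finset.card_erase_add_one (by simp), h3]
  set S := ∑ γ ∈ Γ, F' γ with hS
  have hSS : IsIdempotentElem S := by
    show S * S = S
    rw [hS, Finset.sum_mul]
    refine Finset.sum_congr rfl fun γ hγ => ?_
    rw [Finset.mul_sum, Finset.sum_eq_single γ (fun γ' _ hne => by
      rw [hF', Char.cproj_mul_cproj hψ hbmul, if_neg (Ne.symm hne)]) (fun h => absurd hγ h)]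
    exact (Char.cproj_idem hψ hbmul γ).eq
  have hle := Char.idem_trace_le (Char.cproj_idem hψ hamul (0 : D v₀ →ₗ[F] F)) hSS
    (by rw [hS, Finset.mul_sum]; exact Finset.sum_congr rfl hkey)
    (by
      rw [hS, Finset.sum_mul]
      refine Finset.sum_congr rfl fun γ hγ => ?_
      rw [← hcomm' 0 γ (Finset.mem_filter.1 hγ).2.1]
      exact hkey γ hγ)
    (p := a) (q := Γ.card) ha (by
      rw [hS, map_sum, Finset.sum_congr rfl (fun γ hγ => hmF γ (Finset.mem_filter.1 hγ).2.2)]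
      simp)
  refine ⟨a, by omega, ?_, by omega, hfix ▸ Char.cproj_idem hψ hamul 0, hfix ▸ ha, ?_⟩
  · have h1 : (d : ℂ) = c + (N : ℂ) := by simpa using hd_eq
    have h2 : (d : ℂ) + 1 = a + (N : ℂ) := by simpa using ha'
    linear_combination h2 - h1
  · obtain ⟨γ, hγ⟩ : Γ.Nonempty := by
      rw [← Finset.card_pos]
      have : 2 ≤ q ^ (k + 1) := le_trans (Fintype.one_lt_card (α := F)) (Nat.le_self_pow (by omega) q)
      omega
    obtain ⟨u, hu⟩ : ∃ u, γ u ≠ 0 := by
      by_contra hcon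
      push Not at hcon
      exact (Finset.mem_filter.1 hγ).2.2 (LinearMap.ext fun u => by simp [hcon u])
    refine ⟨((γ u)⁻¹ • u).1, hDf _, fun hfx => ?_⟩
    rw [hfix] at hfx
    change bB ((γ u)⁻¹ • u) * e 0 = e 0 at hfx
    have h2 := congrArg (fun P => P * F' γ) hfx
    simp only [mul_assoc, hkey γ hγ] at h2
    rw [hF', Char.a_mul_cproj hbmul, map_smul, smul_eq_mul, inv_mul_cancel₀ hu] at h2
    have h3 := congrArg (LinearMap.trace ℂ E) h2
    rw [map_smul, hmF γ (Finset.mem_filter.1 hγ).2.2] at h3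
    exact hψ1 (by simpa using h3)

end Cfsg.Agent.Lie.RepDeg
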