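import Cfsg.Agent.Lib.Lie.RepDegSUGen
import Cfsg.Agent.Lib.Char.CharProj

/-! The smallest degree of a non-trivial representation of `SU_n(q)`, `n ≥ 3`. -/

set_option autoImplicit false
set_option linter.unusedSectionVars false
set_option maxHeartbeats 800000

namespace Cfsg.Agent.Lie.RepDegSU

open Matrix Cfsg.Agent.Classical Cfsg.Agent.Classical.PSUAut Cfsg.Agent.Fus.UnitN Finset

universe u w

variable {F : Type u} [Field F] [Fintype F] {q n : ℕ}

local notation "V" => (Fin n → F)
local notation "Mn" => Matrix (Fin n) (Fin n) F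
local notation "SUn" => SU n F q
local notation "h" => hermForm n F q

/-! ### the frame -/

/-- The first coordinate of the `i`-th pair. -/
def ixA (i : Fin (n / 2)) : Fin n := ⟨2 * i.1, by have := i.2; omega⟩

/-- The second coordinate of the `i`-th pair. -/
def ixB (i : Fin (n / 2)) : Fin n := ⟨2 * i.1 + 1, by have := i.2; omega⟩

theorem ixA_ne_ixB (i j : Fin (n / 2)) : ixA (n := n) i ≠ ixB j := by
  simp [ixA, ixB, Fin.ext_iff]; omega

theorem ixA_inj {i j : Fin (n / 2)} : ixA (n := n) i = ixA j ↔ i = j := by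
  simp [ixA, Fin.ext_iff]

theorem ixB_inj {i j : Fin (n / 2)} : ixB (n := n) i = ixB j ↔ i = j := by
  simp [ixB, Fin.ext_iff]

variable (hF : Fintype.card F = q ^ 2)

local notation "cj" => qFrob hF

include hF

/-- A number of norm `-1`. -/
noncomputable def alp : F := (exists_norm hF (a := (-1 : F)) (by simp)).choose

theorem alp_spec : alp hF * cj (alp hF) = -1 :=
  (exists_norm hF (a := (-1 : F)) (by simp)).choose_spec

/-- A number of trace `-1`. -/
noncomputable def bet : F := (exists_trace_eq hF (a := (-1 : F)) (by simp)).choose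

theorem bet_spec : bet hF + cj (bet hF) = -1 :=
  (exists_trace_eq hF (a := (-1 : F)) (by simp)).choose_spec

/-- The `i`-th isotropic basis vector. -/
noncomputable def ee (i : Fin (n / 2)) : V := Pi.single (ixA i) 1 + alp hF • Pi.single (ixB i) 1

/-- Its partner. -/
noncomputable def ff (i : Fin (n / 2)) : V := bet hF • ee hF i + Pi.single (ixA i) 1

theorem h_ee_single (i : Fin (n / 2)) (l : Fin n) :
    h (ee (n := n) hF i) (Pi.single l 1) = ee hF i l := hermForm_single_right hF n _ l

theorem ee_apply (i : Fin (n / 2)) (l : Fin n) :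
    ee (n := n) hF i l = (if l = ixA i then 1 else 0) + alp hF * (if l = ixB i then 1 else 0) := by
  simp [ee, Pi.single_apply]

theorem h_ee_ee (i j : Fin (n / 2)) : h (ee (n := n) hF i) (ee hF j) = 0 := by
  rw [show ee (n := n) hF j = Pi.single (ixA j) 1 + alp hF • Pi.single (ixB j) 1 from rfl]
  rw [h_add_right hF, h_smul_right hF, h_ee_single, h_ee_single, ee_apply, ee_apply]
  rw [if_neg (ixA_ne_ixB j i), if_neg (Ne.symm (ixA_ne_ixB i j))]
  by_cases hij : i = j
  · subst hij
    simp
    linear_combination alp_spec hF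
  · rw [if_neg (fun e => hij (ixA_inj.1 e).symm), if_neg (fun e => hij (ixB_inj.1 e).symm)]
    ring

theorem h_ee_ff (i j : Fin (n / 2)) : h (ee (n := n) hF i) (ff hF j) = if i = j then 1 else 0 := by
  rw [ff, h_add_right hF, h_smul_right hF, h_ee_ee, h_ee_single, ee_apply, if_neg (ixA_ne_ixB j i)]
  by_cases hij : i = j
  · subst hij; simp
  · rw [if_neg (fun e => hij (ixA_inj.1 e).symm), if_neg hij]; ring

theorem h_ff_ee (i j : Fin (n / 2)) : h (ff (n := n) hF i) (ee hF j) = if i = j then 1 else 0 := by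
  rw [← cj_h hF, h_ee_ff]
  by_cases hij : i = j
  · subst hij; simp
  · rw [if_neg hij, if_neg (Ne.symm hij), map_zero]

theorem h_ff_ff (i j : Fin (n / 2)) : h (ff (n := n) hF i) (ff hF j) = 0 := by
  have h1 : h (Pi.single (ixA i) 1 : V) (ee hF j) = if i = j then 1 else 0 := by
    rw [← cj_h hF, h_ee_single, ee_apply, if_neg (ixA_ne_ixB i j)]
    by_cases hij : i = j
    · subst hij; simp
    · rw [if_neg (fun e => hij (ixA_inj.1 e)), if_neg hij]; simp
  have h2 : h (Pi.single (ixA i) 1 : V) (Pi.single (ixA j) 1) = if i = j then 1 else 0 := by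
    rw [hermForm_single_right hF, Pi.single_apply]
    by_cases hij : i = j
    · subst hij; simp
    · rw [if_neg (fun e => hij (ixA_inj.1 e).symm), if_neg hij]
  rw [ff, h_add_left, h_smul_left, h_ee_ff, ff, h_add_right hF, h_smul_right hF, h1, h2]
  split_ifs with hij
  · linear_combination bet_spec hF
  · ring

theorem pair (i : Fin (n / 2)) : IsPair (q := q) (ee (n := n) hF i) (ff hF i) :=
  ⟨h_ee_ee hF i i, h_ff_ff hF i i, by rw [h_ee_ff]; simp⟩

theorem ee_ne (i : Fin (n / 2)) : ee (n := n) hF i ≠ 0 := (pair hF i).ne_zero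

/-! ### elements -/

theorem perm_elem (i j : Fin (n / 2)) : ∃ s : SUn, ∀ l, suVal s *ᵥ ee hF l = ee hF (Equiv.swap i j l) := by
  classical
  by_cases hij : i = j
  · subst hij
    exact ⟨1, fun l => by rw [suVal_one', Matrix.one_mulVec, Equiv.swap_self, Equiv.refl_apply]⟩
  let π : Equiv.Perm (Fin n) := Equiv.swap (ixA i) (ixA j) * Equiv.swap (ixB i) (ixB j)
  have hsign : Equiv.Perm.sign π = 1 := by
    rw [map_mul, Equiv.Perm.sign_swap (fun e => hij (ixA_inj.1 e)),
      Equiv.Perm.sign_swap (fun e => hij (ixB_inj.1 e))]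
    rfl
  have hdet : (Equiv.Perm.permMatrix F π).det = 1 := by rw [Matrix.det_permutation, hsign]; simp
  have hmv : ∀ x : V, Equiv.Perm.permMatrix F π *ᵥ x = x ∘ π := fun x => Matrix.permMatrix_mulVec π
  refine ⟨⟨⟨Equiv.Perm.permMatrix F π, hdet⟩, fun x y => ?_⟩, fun l => ?_⟩
  · show h (Equiv.Perm.permMatrix F π *ᵥ x) (Equiv.Perm.permMatrix F π *ᵥ y) = h x y
    rw [hmv, hmv]
    exact Equiv.sum_comp π (fun t => x t * y t ^ q)
  · show Equiv.Perm.permMatrix F π *ᵥ ee hF l = _
    rw [hmv]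
    funext t
    have hA : ∀ m, π (ixA m) = ixA (Equiv.swap i j m) := by
      intro m
      rw [Equiv.Perm.mul_apply, Equiv.swap_apply_of_ne_of_ne (a := ixB i) (ixA_ne_ixB m i) (ixA_ne_ixB m j)]
      rcases eq_or_ne m i with rfl | hmi
      · simp
      rcases eq_or_ne m j with rfl | hmj
      · simp
      · rw [Equiv.swap_apply_of_ne_of_ne hmi hmj,
          Equiv.swap_apply_of_ne_of_ne (fun e => hmi (ixA_inj.1 e)) (fun e => hmj (ixA_inj.1 e))]
    have hB : ∀ m, π (ixB m) = ixB (Equiv.swap i j m) := by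
      intro m
      rw [Equiv.Perm.mul_apply]
      have hne : ∀ m' l', ixB (n := n) m' ≠ ixA l' := fun m' l' => Ne.symm (ixA_ne_ixB l' m')
      rcases eq_or_ne m i with rfl | hmi
      · rw [Equiv.swap_apply_left, Equiv.swap_apply_left, Equiv.swap_apply_of_ne_of_ne (hne _ _) (hne _ _)]
      rcases eq_or_ne m j with rfl | hmj
      · rw [Equiv.swap_apply_right, Equiv.swap_apply_right, Equiv.swap_apply_of_ne_of_ne (hne _ _) (hne _ _)]
      · rw [Equiv.swap_apply_of_ne_of_ne hmi hmj,
          Equiv.swap_apply_of_ne_of_ne (fun e => hmi (ixB_inj.1 e)) (fun e => hmj (ixB_inj.1 e)),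
          Equiv.swap_apply_of_ne_of_ne (hne _ _) (hne _ _)]
    have e1 : π t = ixA l ↔ t = ixA (Equiv.swap i j l) := by
      conv_lhs => rw [← Equiv.swap_apply_self i j l, ← hA]
      exact π.apply_eq_iff_eq
    have e2 : π t = ixB l ↔ t = ixB (Equiv.swap i j l) := by
      conv_lhs => rw [← Equiv.swap_apply_self i j l, ← hB]
      exact π.apply_eq_iff_eq
    simp only [Function.comp_apply, ee_apply, e1, e2]

/-- Scaling of a pair. -/
noncomputable def scale (i : Fin (n / 2)) (a : F) : Mn :=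
  (1 + vecMulVec ((a - 1) • ee hF i) (fun l => ff hF i l ^ q)) *
    (1 + vecMulVec (((cj a)⁻¹ - 1) • ff hF i) (fun l => ee hF i l ^ q))

theorem row_dot (v x : V) : (fun l => v l ^ q) ⬝ᵥ x = h x v := by
  simp [hermForm, dotProduct, mul_comm]

theorem det_scale (i : Fin (n / 2)) (a : F) : (scale (n := n) hF i a).det = a * (cj a)⁻¹ := by
  rw [scale, det_mul]
  simp only [vecMulVec_eq Unit, det_one_add_replicateCol_mul_replicateRow, row_dot hF, h_smul_left,
    (pair (n := n) hF i).ef, (pair (n := n) hF i).fe hF]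
  ring

theorem scale_apply (i : Fin (n / 2)) (a : F) (x : V) : scale hF i a *ᵥ x =
    x + ((a - 1) * h x (ff hF i)) • ee hF i + (((cj a)⁻¹ - 1) * h x (ee hF i)) • ff hF i := by
  have e : ∀ (v r y : V), (1 + vecMulVec v r : Mn) *ᵥ y = y + (r ⬝ᵥ y) • v := fun v r y => by
    rw [add_mulVec, one_mulVec, vecMulVec_mulVec]; simp
  rw [scale, ← mulVec_mulVec]
  simp only [e, row_dot hF, h_add_left, h_smul_left, (pair (n := n) hF i).ff, mul_zero, add_zero,
    smul_smul, mul_comm (h x _)]
  module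

theorem scale_ee (i j : Fin (n / 2)) (a : F) :
    scale hF i a *ᵥ ee hF j = (if j = i then a else 1) • ee (n := n) hF j := by
  rw [scale_apply, h_ee_ee, h_ee_ff]
  split_ifs with e
  · subst e; simp; module
  · simp

theorem scale_form (i : Fin (n / 2)) {a : F} (ha : a ≠ 0) (x y : V) :
    h (scale hF i a *ᵥ x) (scale hF i a *ᵥ y) = h x y := by
  have P := pair (n := n) hF i
  have hc : cj a ≠ 0 := (map_ne_zero _).2 ha
  simp only [scale_apply, h_add_left, h_add_right hF, h_smul_left, h_smul_right hF, P.ee, P.ef, P.ff,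
    P.fe hF, map_mul, map_sub, map_inv₀, map_one, cj_cj, cj_h hF, ← cj_h hF x (ee hF i),
    ← cj_h hF x (ff hF i)]
  field_simp
  ring

/-- A scaling in `SU`. -/
theorem torus_elem (hn : 3 ≤ n) (i : Fin (n / 2)) {a : F} (ha : a ≠ 0) :
    ∃ s : SUn, suVal s *ᵥ ee hF i = a • ee hF i ∧ ∀ j, j ≠ i → ∃ l : F, l ≠ 0 ∧ suVal s *ᵥ ee hF j = l • ee hF j := by
  have hc : cj a ≠ 0 := (map_ne_zero _).2 ha
  by_cases h2 : 2 ≤ n / 2
  · obtain ⟨j, hj⟩ : ∃ j, j ≠ i := by
      haveI : Nontrivial (Fin (n / 2)) := Fin.nontrivial_iff_two_le.2 h2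
      exact exists_ne i
    refine ⟨⟨⟨scale hF i a * scale hF j (cj a), ?_⟩, fun x y => ?_⟩, ?_, fun l hl => ?_⟩
    · rw [det_mul, det_scale, det_scale, cj_cj]
      field_simp
    · show h ((scale hF i a * scale hF j (cj a)) *ᵥ x) ((scale hF i a * scale hF j (cj a)) *ᵥ y) = h x y
      rw [← mulVec_mulVec, ← mulVec_mulVec, scale_form hF i ha, scale_form hF j hc]
    · show (scale hF i a * scale hF j (cj a)) *ᵥ ee hF i = _
      rw [← mulVec_mulVec, scale_ee, if_neg (Ne.symm hj), one_smul, scale_ee, if_pos rfl]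
    · refine ⟨if l = j then cj a else 1, by split_ifs <;> simp [hc, one_ne_zero], ?_⟩
      show (scale hF i a * scale hF j (cj a)) *ᵥ ee hF l = _
      rw [← mulVec_mulVec, scale_ee, mulVec_smul, scale_ee, if_neg hl, one_smul]
  · have hn3 : n = 3 := by omega
    let u : Fin n := ⟨2, by omega⟩
    let D : Mn := 1 + vecMulVec ((a⁻¹ * cj a - 1) • Pi.single u 1) (Pi.single u 1)
    have hDd : D.det = a⁻¹ * cj a := by
      simp only [D]
      rw [vecMulVec_eq Unit, det_one_add_replicateCol_mul_replicateRow]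
      simp
    have hDx : ∀ x : V, D *ᵥ x = x + ((a⁻¹ * cj a - 1) * x u) • Pi.single u 1 := fun x => by
      rw [add_mulVec, one_mulVec, vecMulVec_mulVec]
      simp [smul_smul, mul_comm]
    have hDee : D *ᵥ ee hF i = ee hF i := by
      rw [hDx]
      have : ee (n := n) hF i u = 0 := by
        rw [ee_apply, if_neg, if_neg]
        · ring
        · simp [ixB, u, Fin.ext_iff]
        · simp [ixA, u, Fin.ext_iff]; omega
      simp [this]
    refine ⟨⟨⟨scale hF i a * D, ?_⟩, fun x y => ?_⟩, ?_, fun l hl => ?_⟩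
    · rw [det_mul, det_scale, hDd]
      field_simp
    · show h ((scale hF i a * D) *ᵥ x) ((scale hF i a * D) *ᵥ y) = h x y
      rw [← mulVec_mulVec, ← mulVec_mulVec, scale_form hF i ha, hDx, hDx, h_add_left, h_add_right hF,
        h_add_right hF, h_smul_left, h_smul_left, h_smul_right hF, h_smul_right hF,
        hermForm_single_right hF, hermForm_single_right hF, Pi.single_eq_same, ← cj_h hF y (Pi.single u 1),
        hermForm_single_right hF, map_mul, map_sub, map_mul, map_inv₀, map_one, cj_cj]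
      field_simp
      ring
    · show (scale hF i a * D) *ᵥ ee hF i = _
      rw [← mulVec_mulVec, hDee, scale_ee, if_pos rfl]
    · exact absurd (Fin.ext (by have := l.2; have := i.2; omega)) hl

/-! ### root elements -/

/-- The element `x ↦ x + (c - c̄) h(x,v) v`. -/
noncomputable def zel (v : V) (hv : h v v = 0) (x : F) : SUn :=
  eSU hF (eOK_transvection hF hv (c := x - cj x) (by rw [map_sub, cj_cj]; ring))

theorem zel_val (v : V) (hv : h v v = 0) (x : F) (y : V) :
    suVal (zel hF v hv x) *ᵥ y = y + ((x - cj x) * h y v) • v := tv_apply' hF v _ y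

theorem zel_add (v : V) (hv : h v v = 0) (x y : F) :
    zel hF v hv (x + y) = zel hF v hv x * zel hF v hv y := by
  rw [zel, zel, zel, eSU_mul hF]
  exact eSU_congr hF _ _ (add_zero _).symm (by rw [h_zero_left, sub_zero, map_add]; ring)

theorem zel_zero (v : V) (hv : h v v = 0) : zel hF v hv 0 = 1 := by
  refine su_ext fun y => ?_
  rw [zel_val, map_zero, sub_self, zero_mul, zero_smul, add_zero, suVal_one', one_mulVec]

theorem zel_congr {v v' : V} (hv : h v v = 0) (hv' : h v' v' = 0) (e : v = v') (x : F) :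
    zel hF v hv x = zel hF v' hv' x := by
  subst e; rfl

theorem zel_smul {v : V} (hv : h v v = 0) {l : F} (hl : h (l • v) (l • v) = 0) (x : F) :
    zel hF (l • v) hl x = zel hF v hv (l * cj l * x) := by
  refine su_ext fun y => ?_
  rw [zel_val, zel_val, h_smul_right hF, smul_smul, map_mul, map_mul, cj_cj]
  congr 2
  ring

theorem zel_conj (s : SUn) {v : V} (hv : h v v = 0) (x : F) (hv' : h (suVal s *ᵥ v) (suVal s *ᵥ v) = 0) :
    s * zel hF v hv x * s⁻¹ = zel hF (suVal s *ᵥ v) hv' x := by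
  rw [zel, eSU_conj hF]
  refine suVal_ext ?_
  show eMat q (suVal s *ᵥ v) (suVal s *ᵥ 0) _ = _
  rw [mulVec_zero]
  rfl

theorem zel_comm_of_fix {s : SUn} {v : V} (hv : h v v = 0) (x : F) (hs : suVal s *ᵥ v = v) :
    Commute s (zel hF v hv x) := by
  have h1 := zel_conj hF s hv x (by rw [hs]; exact hv)
  rw [zel_congr hF _ hv hs] at h1
  exact mul_inv_eq_iff_eq_mul.1 h1

/-- The root group of the `i`-th pair. -/
noncomputable def zi (i : Fin (n / 2)) (x : F) : SUn := zel hF (ee hF i) (h_ee_ee hF i i) x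

theorem zi_comm (i j : Fin (n / 2)) (x y : F) : Commute (zi (n := n) hF i x) (zi hF j y) := by
  refine zel_comm_of_fix hF _ _ ?_
  rw [zi, zel_val, h_ee_ee, mul_zero, zero_smul, add_zero]

theorem zi_add (i : Fin (n / 2)) (x y : F) : zi (n := n) hF i (x + y) = zi hF i x * zi hF i y :=
  zel_add hF _ _ x y

theorem zi_zero (i : Fin (n / 2)) : zi (n := n) hF i 0 = 1 := zel_zero hF _ _

theorem zi_conj (s : SUn) (i j : Fin (n / 2)) {l : F} (hs : suVal s *ᵥ ee hF i = l • ee hF j) (x : F) :
    s * zi hF i x * s⁻¹ = zi hF j (l * cj l * x) := by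
  have hl : h (l • ee (n := n) hF j) (l • ee hF j) = 0 := by
    rw [h_smul_left, h_smul_right hF, h_ee_ee]; ring
  rw [zi, zel_conj hF s _ x (by rw [hs]; exact hl), zel_congr hF _ hl hs, zel_smul hF (h_ee_ee hF j j)]
  rfl

/-! ### the representation -/

section Rep

variable {E : Type w} [AddCommGroup E] [Module ℂ E] [FiniteDimensional ℂ E]
  (ρ : Representation ℂ (SU n F q) E)

/-- The operators of the root group of the `i`-th pair. -/
noncomputable def zop (i : Fin (n / 2)) (x : F) : Module.End ℂ E := ρ (zi hF i x)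

theorem zop_zero (i : Fin (n / 2)) : zop hF ρ i 0 = 1 := by rw [zop, zi_zero, map_one]

theorem zop_add (i : Fin (n / 2)) (x y : F) : zop hF ρ i (x + y) = zop hF ρ i x * zop hF ρ i y := by
  rw [zop, zi_add, map_mul]; rfl

/-- A common eigenvector of the root groups. -/
def Joint (ψ : AddChar F ℂ) (al : Fin (n / 2) → F) (v : E) : Prop :=
  v ≠ 0 ∧ ∀ i x, zop hF ρ i x v = ψ (al i * x) • v

variable {ψ : AddChar F ℂ} (hψ : ψ ≠ 1) (hψc : ∀ y : F, ψ (qFrob hF y) = ψ y)

/-- The projection on a character. -/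
noncomputable def pr (ψ : AddChar F ℂ) (a : F → Module.End ℂ E) (al : F) : Module.End ℂ E :=
  Char.cproj ψ a ((al • LinearMap.id : F →ₗ[F] F))

omit hF in
include hψ in
theorem exists_pr {a : F → Module.End ℂ E} (h0 : a 0 = 1) {v : E} (hv : v ≠ 0) :
    ∃ al : F, pr ψ a al v ≠ 0 := by
  classical
  haveI : Finite (F →ₗ[F] F) := Module.finite_of_finite F
  haveI : Fintype (F →ₗ[F] F) := Fintype.ofFinite _
  by_contra hcon
  push Not at hcon
  apply hv
  have h1 : (1 : Module.End ℂ E) v = 0 := by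
    rw [← Char.sum_cproj hψ h0 (W := F), LinearMap.sum_apply]
    refine Finset.sum_eq_zero fun β _ => ?_
    have : β = ((β 1) • LinearMap.id : F →ₗ[F] F) := LinearMap.ext_ring (by simp)
    rw [this]
    exact hcon _
  exact h1

omit hF in
theorem pr_eigen {a : F → Module.End ℂ E} (hmul : ∀ x y, a (x + y) = a x * a y) (al x : F) (v : E) :
    a x (pr ψ a al v) = ψ (al * x) • pr ψ a al v := by
  rw [← Module.End.mul_apply, pr, Char.a_mul_cproj hmul]
  rfl

omit hF in
theorem pr_comm {a : F → Module.End ℂ E} {T : Module.End ℂ E} (hT : ∀ x, Commute T (a x)) (al : F) :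
    Commute T (pr ψ a al) := by
  unfold pr Char.cproj
  exact Commute.smul_right (Commute.sum_right _ _ _ fun x _ => Commute.smul_right (hT x) _) _

omit hF in
theorem pr_fix {a : F → Module.End ℂ E} {al : F} {v : E} (hv : ∀ x, a x v = ψ (al * x) • v) :
    pr ψ a al v = v := by
  unfold pr Char.cproj
  rw [LinearMap.smul_apply, LinearMap.sum_apply,
    Finset.sum_congr rfl (fun x _ => show (ψ (-((al • LinearMap.id : F →ₗ[F] F) x)) • a x) v = v by
      rw [LinearMap.smul_apply, hv, smul_smul, ← AddChar.map_add_eq_mul]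
      simp), Finset.sum_const, Finset.card_univ, ← Nat.cast_smul_eq_nsmul ℂ, smul_smul,
    inv_mul_cancel₀ (Nat.cast_ne_zero.mpr Fintype.card_ne_zero), one_smul]

include hψ hψc in
theorem anti {al : Fin (n / 2) → F} {v : E} (hv : Joint hF ρ ψ al v) (i : Fin (n / 2)) :
    al i + cj (al i) = 0 := by
  by_contra hne
  set τ := al i + cj (al i)
  have hτ : cj τ = τ := by rw [map_add, cj_cj, add_comm]
  obtain ⟨y, hy⟩ : ∃ y, ψ y ≠ 1 := by
    by_contra hcon
    push Not at hcon
    exact hψ (DFunLike.ext _ _ fun y => by rw [hcon y]; rfl)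
  obtain ⟨t, ht⟩ := exists_trace_eq hF (a := (1 : F)) (map_one _)
  -- a fixed element with non-trivial value
  have hfix : ∀ x : F, cj x = x → ψ (al i * x) = 1 := by
    intro x hx
    have h1 := hv.2 i x
    have hz : zi (n := n) hF i x = 1 := by
      refine su_ext fun y => ?_
      rw [zi, zel_val, hx, sub_self, zero_mul, zero_smul, add_zero, suVal_one', one_mulVec]
    rw [zop, hz, map_one, Module.End.one_apply] at h1
    have h2 : (ψ (al i * x) - 1) • v = 0 := by rw [sub_smul, one_smul, ← h1, sub_self]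
    exact sub_eq_zero.1 ((smul_eq_zero.1 h2).resolve_right hv.1)
  apply hy
  set s := (y + cj y) / τ with hs
  have hscj : cj s = s := by rw [hs, map_div₀, hτ, map_add, cj_cj, add_comm]
  have h1 : ψ (al i * (t * s + cj (t * s))) = 1 := hfix _ (by rw [map_add, cj_cj, add_comm])
  have h2 : ψ (y * (t + cj t)) = ψ (al i * (t * s + cj (t * s))) :=
    calc ψ (y * (t + cj t)) = ψ (t * y) * ψ (cj (t * cj y)) := by
          rw [map_mul cj, cj_cj, ← AddChar.map_add_eq_mul]; ring_nf
      _ = ψ (t * y) * ψ (t * cj y) := by rw [hψc]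
      _ = ψ (τ * (t * s)) := by
          rw [← AddChar.map_add_eq_mul, ← mul_add,
            show τ * (t * s) = t * (y + cj y) by rw [hs]; field_simp]
      _ = ψ (al i * (t * s)) * ψ (cj (al i) * (t * s)) := by
          rw [← AddChar.map_add_eq_mul, ← add_mul]
      _ = ψ (al i * (t * s)) * ψ (al i * cj (t * s)) := by
          rw [← hψc (cj (al i) * (t * s)), map_mul cj, cj_cj]
      _ = _ := by rw [← AddChar.map_add_eq_mul, ← mul_add]
  rw [ht, mul_one, h1] at h2
  exact h2

include hψ in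
theorem extend (v₀ : E) (hv₀ : v₀ ≠ 0) (i₀ : Fin (n / 2)) (al₀ : F)
    (h₀ : ∀ x, zop hF ρ i₀ x v₀ = ψ (al₀ * x) • v₀) :
    ∃ (al : Fin (n / 2) → F) (v : E), Joint hF ρ ψ al v ∧ al i₀ = al₀ := by
  classical
  suffices H : ∀ s : Finset (Fin (n / 2)), ∃ (al : Fin (n / 2) → F) (v : E), v ≠ 0 ∧ al i₀ = al₀ ∧
      ∀ i, (i = i₀ ∨ i ∈ s) → ∀ x, zop hF ρ i x v = ψ (al i * x) • v by
    obtain ⟨al, v, hv, hal, h1⟩ := H Finset.univ
    exact ⟨al, v, ⟨hv, fun i x => h1 i (Or.inr (Finset.mem_univ _)) x⟩, hal⟩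
  intro s
  induction s using Finset.induction with
  | empty => exact ⟨fun _ => al₀, v₀, hv₀, rfl, fun i hi x => by
      rcases hi with rfl | hi
      · exact h₀ x
      · simp at hi⟩
  | insert j s hjs ih =>
    obtain ⟨al, v, hv, hal, h1⟩ := ih
    by_cases hj : j = i₀
    · exact ⟨al, v, hv, hal, fun i hi x => h1 i (by
        rcases hi with hi | hi
        · exact Or.inl hi
        · rcases Finset.mem_insert.1 hi with rfl | hi
          · exact Or.inl hj
          · exact Or.inr hi) x⟩
    obtain ⟨b, hb⟩ := exists_pr hψ (zop_zero hF ρ j) hv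
    refine ⟨Function.update al j b, _, hb, by rw [Function.update_of_ne (Ne.symm hj), hal], fun i hi x => ?_⟩
    rcases eq_or_ne i j with rfl | hij
    · rw [Function.update_self]
      exact pr_eigen (zop_add hF ρ i) b x v
    · rw [Function.update_of_ne hij]
      have hi' : i = i₀ ∨ i ∈ s := hi.imp_right fun hi => (Finset.mem_insert.1 hi).resolve_left hij
      have hc : Commute (zop hF ρ i x) (pr ψ (zop hF ρ j) b) :=
        pr_comm (fun y => (zi_comm hF i j x y).map ρ) b
      rw [← Module.End.mul_apply, hc.eq, Module.End.mul_apply, h1 i hi' x, map_smul]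

include hψ hψc in
/-- Some vector is fixed by all root groups but one. -/
theorem exists_single (hn : 3 ≤ n) (hnq : ¬ (n = 3 ∧ q = 2)) {g₀ : SUn} (hg₀ : ρ g₀ ≠ 1) :
    ∃ (i₀ : Fin (n / 2)) (al : Fin (n / 2) → F) (v : E), Joint hF ρ ψ al v ∧ al i₀ ≠ 0 ∧
      ∀ j, j ≠ i₀ → al j = 0 := by
  classical
  let i₁ : Fin (n / 2) := ⟨0, by omega⟩
  -- some root group acts non-trivially
  obtain ⟨x₀, hx₀⟩ : ∃ x, zop hF ρ i₁ x ≠ 1 := by
    by_contra hcon
    push Not at hcon
    apply hg₀
    have hker := eq_top_of_transvections hF (MonoidHom.normal_ker ρ) ?_ hn hnq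
    · exact MonoidHom.mem_ker.1 (hker ▸ Subgroup.mem_top g₀)
    intro v c H
    by_cases hv : v = 0
    · have e1 : eSU hF H = 1 := suVal_ext (Matrix.ext_iff_mulVec.2 fun y => by
        rw [suVal_eSU, eMat_mulVec, hv, h_zero_right hF, suVal_one', one_mulVec]
        simp)
      rw [e1]; exact one_mem _
    obtain ⟨s, hs⟩ := su_transitive hF hn (ee_ne hF i₁) (h_ee_ee hF i₁ i₁) hv H.ee
    obtain ⟨t, ht⟩ := exists_trace_eq hF (a := (1 : F)) (map_one _)
    have hc : c + cj c = 0 := by
      have := H.cc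
      rwa [cj_pow hF, h_zero_left, add_zero] at this
    have e1 : eSU hF H = s * zi hF i₁ (c * t) * s⁻¹ := by
      rw [zi, zel_conj hF s _ _ (by rw [hs]; exact H.ee), zel_congr hF _ H.ee hs]
      refine eSU_congr hF _ _ rfl ?_
      rw [map_mul]
      linear_combination -c * ht + cj t * hc
    rw [MonoidHom.mem_ker, e1, map_mul, map_mul, show ρ (zi hF i₁ (c * t)) = 1 from hcon _, mul_one,
      ← map_mul, mul_inv_cancel, map_one]
  -- a first eigenvector
  obtain ⟨v₁, b, hv₁, hb⟩ : ∃ (v : E) (b : F), pr ψ (zop hF ρ i₁) b v ≠ 0 ∧ ψ (b * x₀) ≠ 1 := by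
    haveI : Finite (F →ₗ[F] F) := Module.finite_of_finite F
    haveI : Fintype (F →ₗ[F] F) := Fintype.ofFinite _
    by_contra hcon
    push Not at hcon
    apply hx₀
    calc zop hF ρ i₁ x₀ = zop hF ρ i₁ x₀ * ∑ β : F →ₗ[F] F, Char.cproj ψ (zop hF ρ i₁) β := by
          rw [Char.sum_cproj hψ (zop_zero hF ρ i₁), mul_one]
      _ = ∑ β : F →ₗ[F] F, Char.cproj ψ (zop hF ρ i₁) β := by
          rw [Finset.mul_sum]
          refine Finset.sum_congr rfl fun β _ => ?_
          rw [Char.a_mul_cproj (zop_add hF ρ i₁)]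
          refine LinearMap.ext fun v => ?_
          rw [LinearMap.smul_apply]
          have hβ : β = ((β 1) • LinearMap.id : F →ₗ[F] F) := LinearMap.ext_ring (by simp)
          by_cases h0 : pr ψ (zop hF ρ i₁) (β 1) v = 0
          · rw [pr, ← hβ] at h0
            rw [h0, smul_zero]
          · have := hcon v (β 1) h0
            rw [hβ]
            simp only [LinearMap.smul_apply, LinearMap.id_coe, id_eq, smul_eq_mul]
            rw [this, one_smul]
      _ = 1 := Char.sum_cproj hψ (zop_zero hF ρ i₁)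
  have hb0 : b ≠ 0 := fun e => hb (by rw [e, zero_mul, AddChar.map_zero_eq_one])
  obtain ⟨al₁, w₁, hw₁, hal₁⟩ := extend hF ρ hψ _ hv₁ i₁ b (fun x => pr_eigen (zop_add hF ρ i₁) b x v₁)
  -- the least support
  have hex : ∃ N, ∃ (al : Fin (n / 2) → F) (v : E), Joint hF ρ ψ al v ∧
      (Finset.univ.filter fun i => al i ≠ 0).card = N ∧ 1 ≤ N :=
    ⟨_, al₁, w₁, hw₁, rfl, Finset.card_pos.2 ⟨i₁, by simp [hal₁, hb0]⟩⟩
  obtain ⟨al, v, hv, hcard, hN⟩ := Nat.find_spec hex
  obtain ⟨i, hi⟩ := Finset.card_pos.1 (hcard.symm ▸ hN : 0 < (Finset.univ.filter fun i => al i ≠ 0).card)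
  have hi0 : al i ≠ 0 := (Finset.mem_filter.1 hi).2
  refine ⟨i, al, v, hv, hi0, fun j hji => ?_⟩
  by_contra hj0
  -- reduce the support at `j`
  let X : F → Module.End ℂ E := fun b =>
    ρ (eSU hF (show EOK (q := q) (ee (n := n) hF i) (b • ee hF j) 0 from ⟨h_ee_ee hF i i,
      by rw [h_smul_left, h_ee_ee, mul_zero],
      by rw [h_smul_left, h_smul_right hF, h_ee_ee, cj_pow hF, map_zero]; ring⟩))
  have hX0 : X 0 = 1 := by
    simp only [X]
    convert map_one ρ
    refine su_ext fun y => ?_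
    rw [suVal_eSU, eMat_mulVec, zero_smul, h_zero_right hF, suVal_one', one_mulVec]
    simp
  have hXadd : ∀ b b', X (b + b') = X b * X b' := by
    intro b b'
    simp only [X]
    rw [← map_mul, eSU_mul hF]
    congr 1
    exact eSU_congr hF _ _ (add_smul b b' _) (by rw [h_smul_left, h_smul_right hF, h_ee_ee]; ring)
  have hXc : ∀ b l x, Commute (X b) (zop hF ρ l x) := fun b l x =>
    (zel_comm_of_fix hF _ x (by rw [suVal_eSU, eMat_mulVec, h_smul_right hF, h_ee_ee, h_ee_ee]; simp)).map ρ
  obtain ⟨μ, hμ⟩ := exists_pr hψ hX0 hv.1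
  set u := pr ψ X μ v
  have hu : ∀ l x, zop hF ρ l x u = ψ (al l * x) • u := by
    intro l x
    have hc : Commute (zop hF ρ l x) (pr ψ X μ) := pr_comm (fun b => (hXc b l x).symm) μ
    rw [← Module.End.mul_apply, hc.eq, Module.End.mul_apply, hv.2, map_smul]
  have hA := anti hF ρ hψ hψc hv i
  have hB := anti hF ρ hψ hψc hv j
  set ν := μ / al i with hν
  have hAc : cj (al i) = -al i := by linear_combination hA
  have hBc : cj (al j) = -al j := by linear_combination hB
  obtain ⟨s, hs⟩ := exists_norm hF (a := ν * cj ν - al j / al i) (by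
    rw [map_sub, map_mul, cj_cj, map_div₀ cj (al j) (al i), hAc, hBc, neg_div_neg_eq]; ring)
  set a := s - ν with ha
  have hμν : μ = al i * ν := by rw [hν, mul_div_cancel₀ _ hi0]
  have hzero : al j + al i * (a * cj a) + μ * cj a - cj μ * a = 0 := by
    rw [hμν, map_mul, hAc, ha, map_sub]
    linear_combination al i * hs - (div_mul_cancel₀ (al j) hi0)
  have H : EOK (q := q) (ee (n := n) hF i) ((-(cj a)) • ff hF j) 0 :=
    ⟨h_ee_ee hF i i, by rw [h_smul_left, h_ff_ee, if_neg hji, mul_zero],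
     by rw [h_smul_left, h_smul_right hF, h_ff_ff, cj_pow hF, map_zero]; ring⟩
  set g := eSU hF H with hg
  have hgfix : ∀ l, l ≠ j → suVal g *ᵥ ee hF l = ee hF l := by
    intro l hl
    rw [suVal_eSU, eMat_mulVec, h_ee_ee, h_smul_right hF, h_ee_ff, if_neg hl]
    simp
  have hgj : suVal g *ᵥ ee hF j = ee hF j + a • ee hF i := by
    rw [suVal_eSU, eMat_mulVec, h_ee_ee, h_smul_right hF, h_ee_ff, if_pos rfl, map_neg, cj_cj]
    simp
  have hu0 : ρ g⁻¹ u ≠ 0 := fun e => hμ (by
    have := congrArg (ρ g) e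
    rwa [← Module.End.mul_apply, ← map_mul, mul_inv_cancel, map_one, Module.End.one_apply, map_zero] at this)
  have hkey : ∀ l x, zop hF ρ l x (ρ g⁻¹ u) = ρ g⁻¹ (ρ (g * zi hF l x * g⁻¹) u) := by
    intro l x
    generalize u = u'
    rw [zop, ← Module.End.mul_apply, ← Module.End.mul_apply, ← map_mul, ← map_mul]
    congr 1
    group
  have hnew : Joint hF ρ ψ (Function.update al j 0) (ρ g⁻¹ u) := by
    refine ⟨hu0, fun l x => ?_⟩
    rw [hkey]
    rcases eq_or_ne l j with rfl | hl
    · rw [Function.update_self, zero_mul, AddChar.map_zero_eq_one, one_smul]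
      congr 1
      have hdec : g * zi hF l x * g⁻¹ = zi hF i (a * cj a * x) * zi hF l x *
          eSU hF (show EOK (q := q) (ee (n := n) hF i) (((x - cj x) * cj a) • ee hF l) 0 from ⟨h_ee_ee hF i i,
            by rw [h_smul_left, h_ee_ee, mul_zero],
            by rw [h_smul_left, h_smul_right hF, h_ee_ee, cj_pow hF, map_zero]; ring⟩) := by
        rw [zi, zel_conj hF g _ _ (by rw [hgj]; simp [h_add_left, h_add_right hF, h_smul_left, h_smul_right hF, h_ee_ee]),
          zel_congr hF _ (by simp [h_add_left, h_add_right hF, h_smul_left, h_smul_right hF, h_ee_ee]) hgj]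
        refine su_ext fun y => ?_
        simp only [Cfsg.Agent.Fus.UnitN.mulVec_mul, zi, zel_val, suVal_eSU, eMat_mulVec, h_add_left,
          h_sub_left, h_smul_left, h_add_right hF, h_smul_right hF, h_ee_ee, map_mul, map_sub, cj_cj]
        module
      rw [hdec, map_mul, map_mul, Module.End.mul_apply, Module.End.mul_apply]
      have h1 : X ((x - cj x) * cj a) u = ψ (μ * ((x - cj x) * cj a)) • u := pr_eigen hXadd μ _ v
      change zop hF ρ i (a * cj a * x) (zop hF ρ l x (X ((x - cj x) * cj a) u)) = u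
      rw [h1, map_smul, hu, map_smul, map_smul, hu, smul_smul, smul_smul]
      have e2 : ψ (μ * ((x - cj x) * cj a)) = ψ (μ * cj a * x - cj μ * a * x) := by
        rw [sub_mul, mul_sub, sub_eq_add_neg, sub_eq_add_neg, AddChar.map_add_eq_mul, AddChar.map_add_eq_mul,
          ← hψc (-(μ * (cj x * cj a))), map_neg cj, map_mul cj, map_mul cj, cj_cj, cj_cj,
          show μ * (x * cj a) = μ * cj a * x by ring, show cj μ * (x * a) = cj μ * a * x by ring]
      rw [e2, ← AddChar.map_add_eq_mul, ← AddChar.map_add_eq_mul]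
      conv_rhs => rw [← one_smul ℂ u]
      congr 1
      rw [← AddChar.map_zero_eq_one ψ]
      congr 1
      linear_combination x * hzero
    · rw [Function.update_of_ne hl, zi_conj hF g l l (l := 1) (by rw [one_smul]; exact hgfix l hl),
        map_one, one_mul, one_mul]
      change ρ g⁻¹ (zop hF ρ l x u) = _
      rw [hu, map_smul]
  have hlt : (Finset.univ.filter fun l => Function.update al j 0 l ≠ 0).card < Nat.find hex := by
    rw [← hcard]
    refine Finset.card_lt_card ⟨fun l hl => ?_, fun hsub => ?_⟩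
    · simp only [Finset.mem_filter, Finset.mem_univ, true_and] at hl ⊢
      rcases eq_or_ne l j with rfl | hne
      · simp at hl
      · rwa [Function.update_of_ne hne] at hl
    · have := hsub (Finset.mem_filter.2 ⟨Finset.mem_univ j, hj0⟩)
      simp at this
  exact Nat.find_min hex hlt ⟨_, _, hnew, rfl, Finset.card_pos.2 ⟨i, by simp [Function.update_of_ne (Ne.symm hji), hi0]⟩⟩

end Rep

end Cfsg.Agent.Lie.RepDegSU
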