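import Cfsg.Agent.Lib.Lie.RepDegSU

/-! The smallest degree of a non-trivial representation of `SU_n(q)`: conclusion. -/

set_option autoImplicit false
set_option linter.unusedSectionVars false
set_option maxHeartbeats 800000

namespace Cfsg.Agent.Lie.RepDegSU

open Matrix Cfsg.Agent.Classical Cfsg.Agent.Classical.PSUAut Cfsg.Agent.Fus.UnitN Finset

universe u w

variable {F : Type u} [Field F] [Fintype F] {q n : ℕ}

local notation "V" => (Fin n → F)
local notation "SUn" => SU n F q
local notation "h" => hermForm n F q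

/-- A vector on the last coordinates. -/
def iota (s : ℕ) {k : ℕ} (hk : s + k = n) (w : Fin k → F) : V :=
  fun l => if hl : s ≤ l.1 then w ⟨l.1 - s, by have := l.2; omega⟩ else 0

theorem h_iota (hq : q ≠ 0) (s : ℕ) {k : ℕ} (hk : s + k = n) (u w : Fin k → F) :
    h (iota s hk u) (iota s hk w) = hermForm k F q u w := by
  classical
  subst hk
  simp only [hermForm, Fin.sum_univ_add]
  rw [Finset.sum_eq_zero (fun l _ => by simp [iota, hq]), zero_add]
  refine Finset.sum_congr rfl fun l _ => ?_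
  simp [iota]

theorem iota_add (s : ℕ) {k : ℕ} (hk : s + k = n) (u w : Fin k → F) :
    iota (F := F) s hk (u + w) = iota s hk u + iota s hk w := by
  funext l
  simp only [iota, Pi.add_apply]
  split_ifs <;> simp

variable (hF : Fintype.card F = q ^ 2)

local notation "cj" => qFrob hF

include hF

theorem q_two : 2 ≤ q := two_le_q hF

theorem h_ee_iota (i : Fin (n / 2)) (s : ℕ) {k : ℕ} (hk : s + k = n) (hi : 2 * i.1 + 1 < s) (w : Fin k → F) :
    h (ee hF i) (iota s hk w) = 0 := by
  refine Finset.sum_eq_zero fun l _ => ?_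
  by_cases hl : s ≤ l.1
  · rw [ee_apply, if_neg, if_neg]
    · ring
    · simp [ixB, Fin.ext_iff]; omega
    · simp [ixA, Fin.ext_iff]; omega
  · simp [iota, hl, zero_pow (show q ≠ 0 by have := q_two hF; omega)]

/-- There are at least `q - 1` non-zero numbers of trace zero. -/
theorem card_anti : ∃ S : Finset F, q - 1 ≤ S.card ∧ ∀ α ∈ S, α + cj α = 0 ∧ α ≠ 0 := by
  classical
  have hq := q_two hF
  let A : Finset F := Finset.univ.filter fun x => x + cj x = 0
  refine ⟨A.erase 0, ?_, fun α hα => ⟨(Finset.mem_filter.1 (Finset.mem_of_mem_erase hα)).2,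
    Finset.ne_of_mem_erase hα⟩⟩
  rw [Finset.card_erase_of_mem (by simp [A])]
  suffices q ≤ A.card by omega
  let D : F →+ F := AddMonoidHom.id F - (cj).toAddMonoidHom
  have hfix : (Finset.univ.filter fun x : F => cj x = x).card ≤ q := by
    let P : Polynomial F := Polynomial.X ^ q - Polynomial.X
    have hP : P ≠ 0 := FiniteField.X_pow_card_sub_X_ne_zero F (by omega)
    have hd : P.natDegree = q := FiniteField.X_pow_card_sub_X_natDegree_eq F (by omega)
    calc _ ≤ P.roots.toFinset.card := Finset.card_le_card fun x hx => by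
          simp only [Finset.mem_filter, Finset.mem_univ, true_and] at hx
          rw [Multiset.mem_toFinset, Polynomial.mem_roots hP]
          simp [P, ← qFrob_apply hF, hx]
      _ ≤ Multiset.card P.roots := Multiset.toFinset_card_le _
      _ ≤ P.natDegree := Polynomial.card_roots' P
      _ = q := hd
  have hfib : ∀ y ∈ A, (Finset.univ.filter fun x : F => D x = y).card ≤ q := by
    intro y _
    by_cases hex : ∃ x₀, D x₀ = y
    · obtain ⟨x₀, hx₀⟩ := hex
      refine le_trans (Finset.card_le_card_of_injOn (fun x => x - x₀) (fun x hx => ?_)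
        (fun a _ b _ e => sub_left_injective e)) hfix
      simp only [Finset.coe_filter, Finset.mem_univ, true_and, Set.mem_setOf_eq] at hx ⊢
      have h1 : D (x - x₀) = 0 := by rw [map_sub, hx, hx₀, sub_self]
      exact (sub_eq_zero.1 h1).symm
    · rw [Finset.filter_eq_empty_iff.2 fun x _ e => hex ⟨x, e⟩]
      simp
  have h1 := Finset.card_le_mul_card_image_of_maps_to (f := D) (s := Finset.univ) (t := A)
    (fun x _ => by simp [A, D, cj_cj hF, add_comm]) q hfib
  rw [Finset.card_univ, hF, sq] at h1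
  exact Nat.le_of_mul_le_mul_left h1 (by omega)

section Rep

variable {E : Type w} [AddCommGroup E] [Module ℂ E] [FiniteDimensional ℂ E]
  (ρ : Representation ℂ (SU n F q) E) {ψ : AddChar F ℂ}

theorem zop_conj {s : SUn} {i j : Fin (n / 2)} {l : F} (hl : l ≠ 0) (hs : suVal s *ᵥ ee hF i = l • ee hF j)
    (x : F) (v : E) : zop hF ρ j x (ρ s v) = ρ s (zop hF ρ i (x / (l * cj l)) v) := by
  have h1 := zi_conj hF s i j hs (x / (l * cj l))
  rw [mul_div_cancel₀ x (mul_ne_zero hl ((map_ne_zero _).2 hl))] at h1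
  rw [zop, zop, ← h1, ← Module.End.mul_apply, ← Module.End.mul_apply, ← map_mul, ← map_mul]
  congr 2
  group

variable (hψ : ψ ≠ 1) (hψc : ∀ y : F, ψ (qFrob hF y) = ψ y)

include hψ hψc in
theorem exists_every (hn : 3 ≤ n) (hnq : ¬ (n = 3 ∧ q = 2)) {g₀ : SUn} (hg₀ : ρ g₀ ≠ 1) (i : Fin (n / 2))
    {α : F} (hα : α + cj α = 0) (hα0 : α ≠ 0) : ∃ v, Joint hF ρ ψ (Pi.single i α) v := by
  classical
  obtain ⟨i₀, al, v, hv, hne, hz⟩ := exists_single hF ρ hψ hψc hn hnq hg₀
  have hanti := anti hF ρ hψ hψc hv i₀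
  obtain ⟨s, hs⟩ := perm_elem hF i₀ i
  set β := al i₀ with hβ
  have hinj : ∀ g : SUn, ∀ u : E, u ≠ 0 → ρ g u ≠ 0 := fun g u hu e => hu (by
    have := congrArg (ρ g⁻¹) e
    rwa [← Module.End.mul_apply, ← map_mul, inv_mul_cancel, map_one, Module.End.one_apply, map_zero] at this)
  have h1 : ∀ l x, zop hF ρ l x (ρ s v) = ψ (Pi.single (M := fun _ => F) i β l * x) • ρ s v := by
    intro l x
    rw [zop_conj hF ρ (i := Equiv.swap i₀ i l) one_ne_zero (by rw [one_smul, hs, Equiv.swap_apply_self]),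
      map_one, mul_one, div_one, hv.2, map_smul]
    congr 3
    rcases eq_or_ne l i with rfl | hl
    · rw [Equiv.swap_apply_right, Pi.single_eq_same]
    · rw [Pi.single_eq_of_ne hl, hz]
      intro e
      exact hl (by rw [← Equiv.swap_apply_self i₀ i l, e, Equiv.swap_apply_left])
  have hγ : cj (β / α) = β / α := by
    rw [map_div₀, show cj β = -β by linear_combination hanti, show cj α = -α by linear_combination hα,
      neg_div_neg_eq]
  obtain ⟨a, ha⟩ := exists_norm hF hγ
  have ha0 : a ≠ 0 := by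
    rintro rfl
    rw [zero_mul] at ha
    exact div_ne_zero hne hα0 ha.symm
  obtain ⟨t, hti, ht⟩ := torus_elem hF hn i ha0
  refine ⟨ρ t (ρ s v), hinj t _ (hinj s _ hv.1), fun l x => ?_⟩
  rcases eq_or_ne l i with rfl | hl
  · rw [zop_conj hF ρ ha0 hti, h1, map_smul, Pi.single_eq_same, Pi.single_eq_same, ha]
    congr 2
    field_simp
  · obtain ⟨c, hc, htl⟩ := ht l hl
    rw [zop_conj hF ρ hc htl, h1, map_smul, Pi.single_eq_of_ne hl, Pi.single_eq_of_ne hl, zero_mul, zero_mul]

omit hF in
theorem sum_pr {a : F → Module.End ℂ E} (hψ : ψ ≠ 1) (h0 : a 0 = 1) : ∑ al : F, pr ψ a al = 1 := by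
  classical
  haveI : Finite (F →ₗ[F] F) := Module.finite_of_finite F
  haveI : Fintype (F →ₗ[F] F) := Fintype.ofFinite _
  rw [← Char.sum_cproj hψ h0 (W := F)]
  exact Fintype.sum_equiv ⟨fun al => al • LinearMap.id, fun β => β 1, fun al => by simp,
    fun β => LinearMap.ext_ring (by simp)⟩ _ _ fun al => rfl

/-- The projection on the vectors fixed by the first `m` root groups. -/
noncomputable def fixP (ψ : AddChar F ℂ) : ℕ → Module.End ℂ E
  | 0 => 1
  | m + 1 => if hm : m < n / 2 then fixP ψ m * pr ψ (zop hF ρ ⟨m, hm⟩) 0 else fixP ψ m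

theorem fixP_comm {T : Module.End ℂ E} : ∀ m, (∀ l : Fin (n / 2), l.1 < m → ∀ x, Commute T (zop hF ρ l x)) →
    Commute T (fixP hF ρ ψ m)
  | 0, _ => Commute.one_right T
  | m + 1, hT => by
    have ih := fixP_comm m fun l hl => hT l (by omega)
    rw [fixP]
    split_ifs with hm
    · exact ih.mul_right (pr_comm (hT ⟨m, hm⟩ (Nat.lt_succ_self m)) 0)
    · exact ih

include hψ in
theorem fixP_idem : ∀ m, IsIdempotentElem (fixP hF ρ ψ m)
  | 0 => IsIdempotentElem.one
  | m + 1 => by
    rw [fixP]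
    split_ifs with hm
    · refine IsIdempotentElem.mul_of_commute ?_ (fixP_idem m) (Char.cproj_idem hψ (zop_add hF ρ _) _)
      exact (fixP_comm hF ρ m fun l _ x => (pr_comm (fun y => (zi_comm hF l _ x y).map ρ) 0).symm).symm
    · exact fixP_idem m

theorem fixP_fix {v : E} : ∀ m, (∀ l : Fin (n / 2), l.1 < m → ∀ x, zop hF ρ l x v = v) →
    fixP hF ρ ψ m v = v
  | 0, _ => rfl
  | m + 1, hv => by
    have ih := fixP_fix m fun l hl => hv l (by omega)
    rw [fixP]
    split_ifs with hm
    · rw [Module.End.mul_apply, pr_fix (fun x => by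
        rw [hv ⟨m, hm⟩ (Nat.lt_succ_self m), zero_mul, AddChar.map_zero_eq_one, one_smul]), ih]
    · exact ih

include hψ in
/-- The eigenspace is as large as the symplectic group of the last coordinates needs. -/
theorem range_large (i : Fin (n / 2)) {α : F} (hα : α ≠ 0) {P : Module.End ℂ E} {v : E} (hv : P v = v) (hv0 : v ≠ 0)
    (hPz : ∀ x, zop hF ρ i x * P = ψ (α * x) • P)
    (hPc : ∀ T : Module.End ℂ E, (∀ l : Fin (n / 2), l.1 ≤ i.1 → ∀ x, Commute T (zop hF ρ l x)) → Commute T P) :
    q ^ (n - 2 * i.1 - 2) ≤ Module.finrank ℂ (LinearMap.range P) := by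
  classical
  set k := n - 2 * i.1 - 2
  set s := 2 * i.1 + 2
  have hk : s + k = n := by have := i.2; omega
  have hq := q_two hF
  have hι : ∀ (l : Fin (n / 2)), l.1 ≤ i.1 → ∀ w : Fin k → F, h (ee hF l) (iota s hk w) = 0 :=
    fun l hl w => h_ee_iota hF l s hk (by omega) w
  choose c hc using fun w : Fin k → F =>
    EOK.exists_c (q := q) hF (h_ee_ee hF i i) (h_comm_zero hF (hι i le_rfl w))
  let g : (Fin k → F) → SUn := fun w => eSU hF (hc w)
  have hgfix : ∀ (l : Fin (n / 2)), l.1 ≤ i.1 → ∀ w, suVal (g w) *ᵥ ee hF l = ee hF l := by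
    intro l hl w
    rw [suVal_eSU, eMat_mulVec, h_ee_ee, hι l hl]
    simp
  have hgP : ∀ w, Commute (ρ (g w)) P := fun w =>
    hPc _ fun l hl x => (zel_comm_of_fix hF _ x (hgfix l hl w)).map ρ
  have hgP' : ∀ w, Commute (ρ (g w)⁻¹) P := fun w =>
    hPc _ fun l hl x => ((zel_comm_of_fix hF _ x (hgfix l hl w)).inv_left).map ρ
  -- the commutator
  have hcomm : ∀ u w, ρ (g u) * ρ (g w) * P = ψ (α * hermForm k F q u w) • (ρ (g w) * ρ (g u) * P) := by
    intro u w
    have e1 : g u * g w = g w * g u * zi hF i (hermForm k F q u w) := by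
      have e2 : (g w * g u) * zi hF i (hermForm k F q u w) = zi hF i (hermForm k F q u w) * (g w * g u) := by
        exact ((zel_comm_of_fix hF _ _ (hgfix i le_rfl w)).mul_left (zel_comm_of_fix hF _ _ (hgfix i le_rfl u))).eq
      rw [e2, zi, zel]
      simp only [g]
      rw [eSU_mul hF, eSU_mul hF, eSU_mul hF]
      refine eSU_congr hF _ _ (by rw [zero_add, add_comm]) ?_
      have hq0 : q ≠ 0 := by omega
      rw [h_zero_right hF, h_iota hq0, h_iota hq0, sub_zero]
      rw [show cj (hermForm k F q u w) = hermForm k F q w u from cj_h hF u w]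
      ring
    calc ρ (g u) * ρ (g w) * P = ρ (g w) * ρ (g u) * (zop hF ρ i (hermForm k F q u w) * P) := by
          rw [← map_mul, e1, map_mul, map_mul, zop, mul_assoc]
      _ = _ := by rw [hPz, mul_smul_comm]
  let R := LinearMap.range P
  have hmap : ∀ T : Module.End ℂ E, Commute T P → ∀ x ∈ R, T x ∈ R := by
    rintro T hT x ⟨y, rfl⟩
    exact ⟨T y, by rw [← Module.End.mul_apply, ← hT.eq]; rfl⟩
  let T : (Fin k → F) → Module.End ℂ R := fun w => (ρ (g w)).restrict (hmap _ (hgP w))
  let T' : (Fin k → F) → Module.End ℂ R := fun w => (ρ (g w)⁻¹).restrict (hmap _ (hgP' w))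
  have hTT : ∀ u w, T u * T w * T' u = ψ (α * hermForm k F q u w) • T w := by
    intro u w
    refine LinearMap.ext fun r => Subtype.ext ?_
    obtain ⟨y, hy⟩ := (T' u r).2
    show ρ (g u) (ρ (g w) ((T' u r : R) : E)) = ψ (α * hermForm k F q u w) • ρ (g w) (r : E)
    have hr : ρ (g u) ((T' u r : R) : E) = (r : E) := by
      show ρ (g u) (ρ (g u)⁻¹ (r : E)) = _
      rw [← Module.End.mul_apply, ← map_mul, mul_inv_cancel, map_one]; rfl
    rw [← hy] at hr ⊢
    have := LinearMap.congr_fun (hcomm u w) y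
    simp only [Module.End.mul_apply, LinearMap.smul_apply] at this
    rw [this, hr]
  have hT0 : ∀ w, T w ≠ 0 := by
    intro w e
    have h1 := congrArg (Subtype.val) (LinearMap.congr_fun e ⟨v, v, hv⟩)
    change ρ (g w) v = 0 at h1
    apply hv0
    have h2 := congrArg (ρ (g w)⁻¹) h1
    rwa [← Module.End.mul_apply, ← map_mul, inv_mul_cancel, map_one, Module.End.one_apply, map_zero] at h2
  have hli : LinearIndependent ℂ T := by
    rw [Fintype.linearIndependent_iff]
    intro b hb w₀
    have h1 : ∀ u, ∑ w, (b w * ψ (α * hermForm k F q u w)) • T w = 0 := by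
      intro u
      have : T u * (∑ w, b w • T w) * T' u = 0 := by rw [hb, mul_zero, zero_mul]
      simpa [Finset.mul_sum, Finset.sum_mul, hTT, smul_smul] using this
    have h2 : ∑ u, ψ (-(α * hermForm k F q u w₀)) • ∑ w, (b w * ψ (α * hermForm k F q u w)) • T w = 0 := by
      simp [h1]
    simp only [Finset.smul_sum, smul_smul] at h2
    rw [Finset.sum_comm] at h2
    simp only [← Finset.sum_smul] at h2
    rw [Finset.sum_eq_single w₀] at h2
    · have h3 : ∑ u : Fin k → F, ψ (-(α * hermForm k F q u w₀)) * (b w₀ * ψ (α * hermForm k F q u w₀)) =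
          (Fintype.card (Fin k → F) : ℂ) * b w₀ := by
        rw [← nsmul_eq_mul, ← Finset.card_univ, ← Finset.sum_const]
        refine Finset.sum_congr rfl fun u _ => ?_
        rw [mul_left_comm, ← AddChar.map_add_eq_mul, neg_add_cancel, AddChar.map_zero_eq_one, mul_one]
      rw [h3, smul_eq_zero] at h2
      exact (mul_eq_zero.1 (h2.resolve_right (hT0 w₀))).resolve_left (Nat.cast_ne_zero.2 Fintype.card_ne_zero)
    · intro w _ hw
      let β : (Fin k → F) →ₗ[F] F := ∑ l, (α * (w l ^ q - w₀ l ^ q)) • LinearMap.proj l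
      have hβe : ∀ u, β u = -(α * hermForm k F q u w₀) + α * hermForm k F q u w := by
        intro u
        simp only [β, LinearMap.sum_apply, LinearMap.smul_apply, LinearMap.proj_apply, smul_eq_mul,
          hermForm, Finset.mul_sum, ← Finset.sum_neg_distrib, ← Finset.sum_add_distrib]
        exact Finset.sum_congr rfl fun l _ => by ring
      have hβ : β ≠ 0 := by
        obtain ⟨j, hj⟩ := Function.ne_iff.1 hw
        intro e
        have := LinearMap.congr_fun e (Pi.single j 1)
        simp [β, Pi.single_apply, hα, sub_eq_zero] at this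
        rw [← qFrob_apply hF, ← qFrob_apply hF] at this
        exact hj ((cj).injective this)
      have h3 : ∑ u : Fin k → F, ψ (-(α * hermForm k F q u w₀)) * (b w * ψ (α * hermForm k F q u w)) = 0 := by
        calc _ = b w * ∑ u, ψ (β u) := by
              rw [Finset.mul_sum]
              exact Finset.sum_congr rfl fun u _ => by rw [hβe, AddChar.map_add_eq_mul]; ring
          _ = 0 := by rw [Char.sum_char_linear hψ β hβ, mul_zero]
      rw [h3, zero_smul]
    · simp
  have h4 := hli.fintype_card_le_finrank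
  rw [Module.finrank_linearMap, Fintype.card_fun, Fintype.card_fin, hF, ← pow_mul, pow_mul', sq] at h4
  exact Nat.mul_self_le_mul_self_iff.1 h4

include hψ hψc in
/-- The bound. -/
theorem bound (hn : 3 ≤ n) (hnq : ¬ (n = 3 ∧ q = 2)) {g₀ : SUn} (hg₀ : ρ g₀ ≠ 1) :
    ∑ i ∈ Finset.range (n / 2), (q - 1) * q ^ (n - 2 * i - 2) ≤ Module.finrank ℂ E := by
  classical
  choose t ht htR ht0 using fun m => Char.idem_trace_nat (fixP_idem hF ρ hψ m)
  obtain ⟨S, hS, hS'⟩ := card_anti hF
  suffices H : ∀ m ≤ n / 2, (∑ i ∈ Finset.range m, (q - 1) * q ^ (n - 2 * i - 2)) + t m ≤ t 0 by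
    have h0 : (t 0 : ℂ) = (Module.finrank ℂ E : ℂ) := by
      rw [← ht, fixP, Module.End.one_eq_id, LinearMap.trace_id]
    have := H (n / 2) le_rfl
    have := Nat.cast_injective h0
    omega
  intro m hm
  induction m with
  | zero => simp
  | succ m ih =>
    have hm' : m < n / 2 := by omega
    set i : Fin (n / 2) := ⟨m, hm'⟩
    have hKc : ∀ al x, Commute (pr ψ (zop hF ρ i) al) (fixP hF ρ ψ m) ∧ Commute (zop hF ρ i x) (fixP hF ρ ψ m) :=
      fun al x => ⟨fixP_comm hF ρ m fun l _ y => (pr_comm (fun z => (zi_comm hF l i y z).map ρ) al).symm,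
        fixP_comm hF ρ m fun l _ y => (zi_comm hF i l x y).map ρ⟩
    have hidem : ∀ al, IsIdempotentElem (fixP hF ρ ψ m * pr ψ (zop hF ρ i) al) := fun al =>
      IsIdempotentElem.mul_of_commute (hKc al 0).1.symm (fixP_idem hF ρ hψ m)
        (Char.cproj_idem hψ (zop_add hF ρ i) _)
    choose r hr hrR hr0 using fun al => Char.idem_trace_nat (hidem al)
    have hsum : ∑ al, r al = t m := by
      apply Nat.cast_injective (R := ℂ)
      rw [Nat.cast_sum, ← ht m, Finset.sum_congr rfl fun al _ => (hr al).symm, ← map_sum, ← Finset.mul_sum,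
        sum_pr hψ (zop_zero hF ρ i), mul_one]
    have hr00 : r 0 = t (m + 1) := by
      apply Nat.cast_injective (R := ℂ)
      rw [← hr 0, ← ht (m + 1), fixP, dif_pos hm']
    have hbig : ∀ α ∈ S, q ^ (n - 2 * m - 2) ≤ r α := by
      intro α hα
      obtain ⟨hα1, hα0⟩ := hS' α hα
      obtain ⟨v, hv⟩ := exists_every hF ρ hψ hψc hn hnq hg₀ i hα1 hα0
      rw [hrR α]
      refine range_large hF ρ hψ i hα0 (v := v) ?_ hv.1 (fun x => ?_) (fun T hT => ?_)
      · rw [Module.End.mul_apply, pr_fix (fun x => by rw [hv.2, Pi.single_eq_same]), fixP_fix hF ρ m fun l hl x => by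
          rw [hv.2, Pi.single_eq_of_ne (by intro e; rw [e] at hl; exact lt_irrefl _ hl), zero_mul,
            AddChar.map_zero_eq_one, one_smul]]
      · rw [← mul_assoc, (hKc α x).2.eq, mul_assoc, pr, Char.a_mul_cproj (zop_add hF ρ i), mul_smul_comm]
        rfl
      · exact (fixP_comm hF ρ m fun l hl => hT l hl.le).mul_right (pr_comm (hT i le_rfl) α)
    have h1 : (q - 1) * q ^ (n - 2 * m - 2) + r 0 ≤ t m := by
      rw [← hsum, ← Finset.add_sum_erase _ _ (Finset.mem_univ (0 : F)), add_comm]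
      refine Nat.add_le_add_left ?_ _
      calc (q - 1) * q ^ (n - 2 * m - 2) ≤ S.card * q ^ (n - 2 * m - 2) := Nat.mul_le_mul_right _ hS
        _ ≤ ∑ α ∈ S, r α := by
            have := Finset.card_nsmul_le_sum S r _ hbig
            rwa [smul_eq_mul] at this
        _ ≤ _ := Finset.sum_le_sum_of_subset fun α hα =>
            Finset.mem_erase.2 ⟨(hS' α hα).2, Finset.mem_univ _⟩
    have := ih (by omega)
    rw [Finset.sum_range_succ]
    omega

/-- A suitable character. -/
theorem exists_char : ∃ ψ : AddChar F ℂ, ψ ≠ 1 ∧ ∀ y : F, ψ (cj y) = ψ y := by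
  obtain ⟨φ, hφ⟩ := (AddChar.exists_apply_ne_zero (a := (1 : F))).2 one_ne_zero
  let D : F →+ F := AddMonoidHom.id F + (cj).toAddMonoidHom
  refine ⟨φ.compAddMonoidHom D, fun e => ?_, fun y => ?_⟩
  · obtain ⟨x, hx⟩ := exists_trace_eq hF (a := (1 : F)) (map_one _)
    have := congrArg (fun c : AddChar F ℂ => c x) e
    simp [D, hx] at this
    exact hφ this
  · simp [D, cj_cj hF, add_comm]

end Rep

omit hF in
theorem arith (q n : ℕ) (hq : 1 ≤ q) :
    (q + 1) * (∑ i ∈ Finset.range (n / 2), (q - 1) * q ^ (n - 2 * i - 2)) + q ^ (n - 2 * (n / 2)) = q ^ n := by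
  suffices H : ∀ m, 2 * m ≤ n →
      (q + 1) * (∑ i ∈ Finset.range m, (q - 1) * q ^ (n - 2 * i - 2)) + q ^ (n - 2 * m) = q ^ n from
    H _ (by omega)
  intro m hm
  induction m with
  | zero => simp
  | succ m ih =>
    rw [← ih (by omega), Finset.sum_range_succ, mul_add, add_assoc,
      show n - 2 * (m + 1) = n - 2 * m - 2 by omega]
    congr 1
    obtain ⟨p, rfl⟩ : ∃ p, q = p + 1 := ⟨q - 1, by omega⟩
    obtain ⟨d, hd⟩ : ∃ d, n - 2 * m = d + 2 := ⟨n - 2 * m - 2, by omega⟩
    rw [hd, Nat.add_sub_cancel, Nat.add_sub_cancel, pow_add]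
    ring

/-- Every non-trivial representation is large. -/
theorem min_degree (hn : 3 ≤ n) (hnq : ¬ (n = 3 ∧ q = 2)) {k : ℕ}
    (ρ : Representation ℂ (SU n F q) (Fin k → ℂ)) (hρ : ρ.IsIrreducible) (hk : 2 ≤ k) :
    (q ^ n - q ^ (n - 2 * (n / 2))) / (q + 1) ≤ k := by
  obtain ⟨g, hg⟩ : ∃ g, ρ g ≠ 1 := by
    by_contra hcon
    push Not at hcon
    haveI := hρ
    let v : Fin k → ℂ := Pi.single ⟨0, by omega⟩ 1
    let W : Subrepresentation ρ :=
      { toSubmodule := Submodule.span ℂ {v}
        apply_mem_toSubmodule := fun g w hw => by rw [hcon g]; exact hw }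
    rcases IsSimpleOrder.eq_bot_or_eq_top W with hW | hW
    · have h0 : Submodule.span ℂ {v} = ⊥ := congrArg Subrepresentation.toSubmodule hW
      rw [Submodule.span_singleton_eq_bot] at h0
      have := congrFun h0 ⟨0, by omega⟩
      simp [v] at this
    · have h0 : Submodule.span ℂ {v} = ⊤ := congrArg Subrepresentation.toSubmodule hW
      have h1 := finrank_span_singleton (K := ℂ) (show v ≠ 0 by simp [v])
      rw [h0, finrank_top, Module.finrank_fin_fun] at h1
      omega
  obtain ⟨ψ, hψ, hψc⟩ := exists_char hF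
  have h1 := bound hF ρ hψ hψc hn hnq hg
  rw [Module.finrank_fin_fun] at h1
  have h2 := arith q n (by have := q_two hF; omega)
  refine le_trans (le_of_eq ?_) h1
  rw [← h2, Nat.add_sub_cancel, Nat.mul_div_cancel_left _ (Nat.succ_pos q)]

end Cfsg.Agent.Lie.RepDegSU
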