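import Cfsg.Agent.Lib.Lie.SemisimpleSimilar

/-! The semisimple classes of `SL_n(F)` correspond to monic polynomials with constant term `(-1)^n`. -/

set_option autoImplicit false
set_option linter.unusedSectionVars false

namespace Cfsg.Agent.Lie.Semisimple

open Polynomial Matrix

variable {F : Type*} [Field F] {p : ℕ} [hp : Fact p.Prime] [CharP F p] {n : ℕ}

theorem toLin_charpoly (A : Matrix (Fin n) (Fin n) F) : (Matrix.toLin' A).charpoly = A.charpoly := by
  rw [← Matrix.toLin_eq_toLin', Matrix.charpoly_toLin]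

theorem cast_ne_zero_of_coprime {M : ℕ} (h : M.Coprime p) : (M : F) ≠ 0 := fun h0 => by
  rw [CharP.cast_eq_zero_iff F p] at h0
  exact hp.out.coprime_iff_not_dvd.1 h.symm h0

theorem toLin_pow_eq_one {A : Matrix.SpecialLinearGroup (Fin n) F} {M : ℕ} (h : A ^ M = 1) :
    (Matrix.toLin' (A : Matrix (Fin n) (Fin n) F)) ^ M = 1 := by
  rw [← Matrix.toLin'_pow, ← Matrix.SpecialLinearGroup.coe_pow, h, Matrix.SpecialLinearGroup.coe_one,
    Matrix.toLin'_one]
  rfl

variable [Fintype F]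

theorem isConj_of_charpoly_eq (hn : 1 ≤ n) {A B : Matrix.SpecialLinearGroup (Fin n) F}
    (hA : (orderOf A).Coprime p) (hB : (orderOf B).Coprime p)
    (h : (A : Matrix (Fin n) (Fin n) F).charpoly = (B : Matrix (Fin n) (Fin n) F).charpoly) : IsConj A B := by
  classical
  have hAM : A ^ (orderOf A * orderOf B) = 1 := by rw [pow_mul, pow_orderOf_eq_one, one_pow]
  have hBM : B ^ (orderOf A * orderOf B) = 1 := by rw [pow_mul', pow_orderOf_eq_one, one_pow]
  have hM : ((orderOf A * orderOf B : ℕ) : F) ≠ 0 := cast_ne_zero_of_coprime (hA.mul_left hB)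
  obtain ⟨e, he⟩ := similar_of_charpoly_eq n _ _ _ hM (toLin_pow_eq_one hAM) (toLin_pow_eq_one hBM)
    (by rw [toLin_charpoly, toLin_charpoly, h])
  obtain ⟨z, hz, hzd⟩ := exists_commute_det hn (Matrix.toLin' (A : Matrix (Fin n) (Fin n) F)) hM
    (toLin_pow_eq_one hAM) (LinearMap.det (e : (Fin n → F) →ₗ[F] (Fin n → F)))⁻¹
    (inv_ne_zero e.isUnit_det'.ne_zero)
  obtain ⟨c, hc⟩ : ∃ c : Matrix.SpecialLinearGroup (Fin n) F,
      (c : Matrix (Fin n) (Fin n) F) = LinearMap.toMatrix' (e.toLinearMap ∘ₗ z) :=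
    ⟨⟨_, by rw [LinearMap.det_toMatrix', LinearMap.det_comp, hzd, mul_inv_cancel₀ e.isUnit_det'.ne_zero]⟩, rfl⟩
  refine isConj_iff.2 ⟨c, ?_⟩
  rw [mul_inv_eq_iff_eq_mul]
  refine Subtype.ext (Matrix.toLin'.injective ?_)
  rw [Matrix.SpecialLinearGroup.coe_mul, Matrix.SpecialLinearGroup.coe_mul, Matrix.toLin'_mul, Matrix.toLin'_mul,
    hc, Matrix.toLin'_toMatrix']
  exact LinearMap.ext fun v => (congrArg e (hz v)).trans (he (z v))

theorem exists_semisimple_SL (P : F[X]) (hP : P.Monic) (hd : P.natDegree = n) (h0 : P.coeff 0 = (-1) ^ n) :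
    ∃ A : Matrix.SpecialLinearGroup (Fin n) F,
      (orderOf A).Coprime p ∧ (A : Matrix (Fin n) (Fin n) F).charpoly = P := by
  classical
  obtain ⟨g, M, hM, hg, hc⟩ := exists_semisimple n P hP hd (by rw [h0]; exact pow_ne_zero _ (by simp))
  have hch : (LinearMap.toMatrix' g).charpoly = P := by rw [← toLin_charpoly, Matrix.toLin'_toMatrix', hc]
  have hdet : (LinearMap.toMatrix' g).det = 1 := by
    rw [Matrix.det_eq_sign_charpoly_coeff, hch, h0, Fintype.card_fin, ← mul_pow]; simp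
  obtain ⟨A, hA⟩ : ∃ A : Matrix.SpecialLinearGroup (Fin n) F,
      (A : Matrix (Fin n) (Fin n) F) = LinearMap.toMatrix' g := ⟨⟨_, hdet⟩, rfl⟩
  refine ⟨A, Nat.Coprime.coprime_dvd_left (orderOf_dvd_of_pow_eq_one (n := M) ?_) ?_, hA ▸ hch⟩
  · refine Subtype.ext (Matrix.toLin'.injective ?_)
    rw [Matrix.SpecialLinearGroup.coe_pow, Matrix.SpecialLinearGroup.coe_one, Matrix.toLin'_pow,
      Matrix.toLin'_one, hA, Matrix.toLin'_toMatrix', hg]
    rfl
  · exact (hp.out.coprime_iff_not_dvd.2 fun h => hM ((CharP.cast_eq_zero_iff F p M).2 h)).symm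

theorem card_polys (k : ℕ) (c : F) :
    Nat.card {P : F[X] // P.Monic ∧ P.natDegree = k + 1 ∧ P.coeff 0 = c} = Fintype.card F ^ k := by
  classical
  have hlt : ∀ v : Fin k → F, ((degreeLTEquiv F (k + 1)).symm (Fin.cons c v) : F[X]).degree < (k + 1 : ℕ) :=
    fun v => mem_degreeLT.1 ((degreeLTEquiv F (k + 1)).symm (Fin.cons c v)).2
  have hco : ∀ (v : Fin k → F) (i : Fin (k + 1)),
      (X ^ (k + 1) + ((degreeLTEquiv F (k + 1)).symm (Fin.cons c v) : F[X])).coeff i = (Fin.cons c v : Fin (k + 1) → F) i :=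
    fun v i => by
      rw [coeff_add, coeff_X_pow, if_neg i.2.ne, zero_add]
      exact congrFun ((degreeLTEquiv F (k + 1)).apply_symm_apply (Fin.cons c v)) i
  rw [← Nat.card_congr (Equiv.ofBijective
    (fun v : Fin k → F => (⟨X ^ (k + 1) + ((degreeLTEquiv F (k + 1)).symm (Fin.cons c v) : F[X]),
      monic_X_pow_add (hlt v), natDegree_eq_of_degree_eq_some (by
        rw [degree_add_eq_left_of_degree_lt] <;> rw [degree_X_pow]
        exact hlt v),
      by simpa using hco v 0⟩ : {P : F[X] // P.Monic ∧ P.natDegree = k + 1 ∧ P.coeff 0 = c})) ⟨?_, ?_⟩),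
    Nat.card_fun, Nat.card_eq_fintype_card, Nat.card_eq_fintype_card, Fintype.card_fin]
  · intro v w h
    funext i
    have h' := congrArg (fun P : {P : F[X] // P.Monic ∧ P.natDegree = k + 1 ∧ P.coeff 0 = c} =>
      P.1.coeff ((i.succ : Fin (k + 1)) : ℕ)) h
    simp only [hco] at h'
    simpa using h'
  · rintro ⟨P, hm, hd, h0⟩
    refine ⟨(fun i : Fin k => P.coeff ((i : ℕ) + 1)), Subtype.ext (Polynomial.ext fun j => ?_)⟩
    rcases lt_trichotomy j (k + 1) with hj | rfl | hj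
    · refine (hco _ ⟨j, hj⟩).trans ?_
      cases j with
      | zero => simpa using h0.symm
      | succ j => exact Fin.cons_succ (α := fun _ => F) c (fun i : Fin k => P.coeff ((i : ℕ) + 1)) ⟨j, by omega⟩
    · rw [coeff_add, coeff_X_pow, if_pos rfl, coeff_eq_zero_of_degree_lt (hlt _), add_zero]
      have h1 : P.coeff (k + 1) = 1 := by rw [← hd]; exact hm
      exact h1.symm
    · rw [coeff_add, coeff_X_pow, if_neg hj.ne', coeff_eq_zero_of_degree_lt ((hlt _).trans (by exact_mod_cast hj)),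
        zero_add, coeff_eq_zero_of_natDegree_lt (p := P) (by omega)]

end Cfsg.Agent.Lie.Semisimple
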