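import Cfsg.Agent.Lib.Lie.SLnPres

/-!
When a group containing `SL₃(F)` and the even permutations is `SL_n(F)`.
-/

set_option autoImplicit false
set_option linter.unusedSectionVars false
set_option maxHeartbeats 1000000

namespace Cfsg.Agent.Lie.SLnPres

open Matrix Equiv Cfsg.Agent.Lie.Carmichael
open Cfsg.Agent.Lie.Sl3Pres (tv pC pH tv_val tv_add pC_tv core_SL tv_comm tv_comm₁)
open scoped commutatorElement

variable {F : Type*} [Field F] [Fintype F] {k : ℕ}

theorem core_bijective (hk : 1 ≤ k) {G : Type*} [Group G] (i' : SpecialLinearGroup (Fin 3) F →* G)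
    (j' : alternatingGroup (Fin (3 + k)) →* G) (π : G →* SpecialLinearGroup (Fin (3 + k)) F)
    (hπi : π.comp i' = emb3) (hπj : π.comp j' = permSL) (hgen : i'.range ⊔ j'.range = ⊤)
    (γ : alternatingGroup (Fin (3 + k))) (hγ : γ.1 = swap (lead k 0) (lead k 1) * swap (lead k 1) (lead k 2))
    (eγ : j' γ = i' pC)
    (hstab : ∀ σ : alternatingGroup (Fin (3 + k)), σ.1 (lead k 0) = lead k 0 → σ.1 (lead k 1) = lead k 1 →
      ∀ t : F, Commute (j' σ) (i' (tv 0 1 t)))
    (hflip : ∃ σ : alternatingGroup (Fin (3 + k)), σ.1 (lead k 0) = lead k 1 ∧ σ.1 (lead k 1) = lead k 0 ∧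
      ∀ t : F, j' σ * i' (tv 0 1 t) * (j' σ)⁻¹ = i' (tv 1 0 t))
    (hdisj : ∀ ρ : alternatingGroup (Fin (3 + k)),
      (ρ.1 (lead k 0) ≠ lead k 0 ∧ ρ.1 (lead k 0) ≠ lead k 1 ∧ ρ.1 (lead k 1) ≠ lead k 0 ∧
        ρ.1 (lead k 1) ≠ lead k 1) →
      ∀ s t : F, Commute (i' (tv 0 1 s)) (j' ρ * i' (tv 0 1 t) * (j' ρ)⁻¹)) :
    Function.Bijective π := by
  classical
  let n := 3 + k
  let AT := alternatingGroup (Fin n)
  let S3 := SpecialLinearGroup (Fin 3) F
  let q0 := lead k 0
  let q1 := lead k 1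
  let q2 := lead k 2
  let q3 := p3 hk
  have ne01 : q0 ≠ q1 := lead_ne (by decide)
  have ne02 : q0 ≠ q2 := lead_ne (by decide)
  have ne12 : q1 ≠ q2 := lead_ne (by decide)
  have ne03 : q0 ≠ q3 := lead_ne_p3 hk 0
  have ne13 : q1 ≠ q3 := lead_ne_p3 hk 1
  have ne23 : q2 ≠ q3 := lead_ne_p3 hk 2
  have γ0 : γ.1 q0 = q1 ∧ γ.1 q1 = q2 ∧ γ.1 q2 = q0 := by
    rw [hγ]
    simp [q0, q1, q2, swap_apply_def, ne01, ne12, ne02, ne01.symm, ne12.symm, ne02.symm]
  let P : F → G := fun t => i' (tv 0 1 t)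
  have P_add : ∀ x y, P (x + y) = P x * P y := fun x y => by
    show i' _ = i' _ * i' _; rw [tv_add (by decide), map_mul]
  -- choices
  have hev : ∀ π₀ : Perm (Fin n), ∀ c d : Fin n, c ≠ d →
      ∃ π : AT, π.1 = π₀ ∨ π.1 = π₀ * swap c d := by
    intro π₀ c d hcd
    rcases Int.units_eq_one_or (Perm.sign π₀) with h | h
    · exact ⟨⟨π₀, Perm.mem_alternatingGroup.2 h⟩, Or.inl rfl⟩
    · exact ⟨⟨π₀ * swap c d, Perm.mem_alternatingGroup.2 (by rw [map_mul, h, Perm.sign_swap hcd]; rfl)⟩, Or.inr rfl⟩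
  have hpair : ∀ a b : Fin n, a ≠ b → ∃ π : AT, π.1 q0 = a ∧ π.1 q1 = b := by
    intro a b hab
    obtain ⟨π₀, hπ₀⟩ := exists_perm ![q0, q1] ![a, b]
      (by intro x y; fin_cases x <;> fin_cases y <;> simp [ne01, ne01.symm])
      (by intro x y; fin_cases x <;> fin_cases y <;> simp [hab, hab.symm])
    have h0 : π₀ q0 = a := hπ₀ 0
    have h1 : π₀ q1 = b := hπ₀ 1
    obtain ⟨π, hπ | hπ⟩ := hev π₀ q2 q3 ne23
    · exact ⟨π, by rw [hπ, h0], by rw [hπ, h1]⟩
    · refine ⟨π, ?_, ?_⟩ <;> rw [hπ, Perm.mul_apply, swap_apply_of_ne_of_ne] <;> assumption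
  let pick : Fin n → Fin n → AT := fun a b => if h : a ≠ b then Classical.choose (hpair a b h) else 1
  let X : Fin n → Fin n → F → G := fun a b t => j' (pick a b) * P t * (j' (pick a b))⁻¹
  have hkey : ∀ (π : AT) (a b : Fin n), π.1 q0 = a → π.1 q1 = b → ∀ t,
      j' π * P t * (j' π)⁻¹ = X a b t := by
    intro π a b ha hb t
    have hab : a ≠ b := fun e => ne01 (π.1.injective (ha.trans (e.trans hb.symm)))
    have hp : (pick a b).1 q0 = a ∧ (pick a b).1 q1 = b := by
      simp only [pick, dif_pos hab]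
      exact Classical.choose_spec (hpair a b hab)
    set c := (pick a b)⁻¹ * π with hc
    have hc0 : c.1 q0 = q0 := by
      show (pick a b).1.symm (π.1 q0) = q0
      rw [ha, Equiv.symm_apply_eq]; exact hp.1.symm
    have hc1 : c.1 q1 = q1 := by
      show (pick a b).1.symm (π.1 q1) = q1
      rw [hb, Equiv.symm_apply_eq]; exact hp.2.symm
    have e : π = pick a b * c := by rw [hc, mul_inv_cancel_left]
    show _ = j' (pick a b) * P t * (j' (pick a b))⁻¹
    rw [e, map_mul, show j' (pick a b) * j' c * P t * (j' (pick a b) * j' c)⁻¹ =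
      j' (pick a b) * (j' c * P t * (j' c)⁻¹) * (j' (pick a b))⁻¹ by group,
      (hstab c hc0 hc1 t).eq, mul_inv_cancel_right]
  have hequi : ∀ (π : AT) (a b : Fin n), a ≠ b → ∀ t,
      j' π * X a b t * (j' π)⁻¹ = X (π.1 a) (π.1 b) t := by
    intro π a b hab t
    obtain ⟨π₁, h0, h1⟩ := hpair a b hab
    rw [← hkey π₁ a b h0 h1, ← hkey (π * π₁) (π.1 a) (π.1 b) (by show π.1 (π₁.1 q0) = _; rw [h0])
      (by show π.1 (π₁.1 q1) = _; rw [h1]), map_mul]
    group
  have X01 : ∀ t, X q0 q1 t = P t := fun t => by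
    rw [← hkey 1 q0 q1 rfl rfl, map_one, one_mul, inv_one, mul_one]
  have X10 : ∀ t, X q1 q0 t = i' (tv 1 0 t) := by
    intro t
    obtain ⟨σ, h0, h1, hσ⟩ := hflip
    rw [← hkey σ q1 q0 h0 h1]
    exact hσ t
  have hlead : ∀ a b : Fin 3, a ≠ b → ∀ t, i' (tv a b t) = X (lead k a) (lead k b) t := by
    have hshift : ∀ a b : Fin 3, a ≠ b → (∀ t, i' (tv a b t) = X (lead k a) (lead k b) t) →
        ∀ t, i' (tv (a + 1) (b + 1) t) = X (lead k (a + 1)) (lead k (b + 1)) t := by
      intro a b hab h t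
      have hg : ∀ c : Fin 3, γ.1 (lead k c) = lead k (c + 1) := by
        intro c; fin_cases c
        · exact γ0.1
        · exact γ0.2.1
        · exact γ0.2.2
      rw [← pC_tv hab, map_mul, map_mul, map_inv, ← eγ, h, hequi γ _ _ (lead_ne hab), hg, hg]
    have h01 : ∀ t, i' (tv 0 1 t) = X (lead k 0) (lead k 1) t := fun t => (X01 t).symm
    have h10 : ∀ t, i' (tv 1 0 t) = X (lead k 1) (lead k 0) t := fun t => (X10 t).symm
    have h12 := hshift 0 1 (by decide) h01
    have h20 := hshift _ _ (by decide) h12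
    have h21 := hshift 1 0 (by decide) h10
    have h02 := hshift _ _ (by decide) h21
    intro a b hab
    fin_cases a <;> fin_cases b <;> first
      | exact absurd rfl hab
      | exact h01
      | exact h02
      | exact h12
      | exact h20
      | exact h10
      | exact h21
  have hfour : ∀ a b c d : Fin n, a ≠ b → c ≠ d → a ≠ c → a ≠ d → b ≠ c → b ≠ d →
      ∀ s t, Commute (X a b s) (X c d t) := by
    intro a b c d hab hcd hac had hbc hbd s t
    obtain ⟨σ, h0, h1⟩ := hpair a b hab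
    obtain ⟨τ, t0, t1⟩ := hpair c d hcd
    have e0 : σ.1 ((σ⁻¹ * τ).1 q0) = c := by
      show σ.1 (σ.1.symm (τ.1 q0)) = c; rw [Equiv.apply_symm_apply, t0]
    have e1 : σ.1 ((σ⁻¹ * τ).1 q1) = d := by
      show σ.1 (σ.1.symm (τ.1 q1)) = d; rw [Equiv.apply_symm_apply, t1]
    have h := (Commute.conj_iff (j' σ)).2 (hdisj (σ⁻¹ * τ)
      ⟨fun e => hac (by have e' : (σ⁻¹ * τ).1 q0 = q0 := e; rw [e', h0] at e0; exact e0),
       fun e => hbc (by have e' : (σ⁻¹ * τ).1 q0 = q1 := e; rw [e', h1] at e0; exact e0),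
       fun e => had (by have e' : (σ⁻¹ * τ).1 q1 = q0 := e; rw [e', h0] at e1; exact e1),
       fun e => hbd (by have e' : (σ⁻¹ * τ).1 q1 = q1 := e; rw [e', h1] at e1; exact e1)⟩ s t)
    rw [show i' (tv 0 1 s) = P s from rfl, show i' (tv 0 1 t) = P t from rfl, hkey σ a b h0 h1,
      show j' σ * (j' (σ⁻¹ * τ) * P t * (j' (σ⁻¹ * τ))⁻¹) * (j' σ)⁻¹ = j' τ * P t * (j' τ)⁻¹ by
        rw [map_mul, map_inv]; group, hkey τ c d t0 t1] at h
    exact h
  -- triples live in a conjugate of `SL₃`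
  have htriple : ∀ a b c : Fin n, a ≠ b → b ≠ c → a ≠ c → ∃ (g : G) (x y z : Fin 3), x ≠ y ∧ y ≠ z ∧ x ≠ z ∧
      ∀ t, X a b t = g * i' (tv x y t) * g⁻¹ ∧ X b c t = g * i' (tv y z t) * g⁻¹ ∧
        X a c t = g * i' (tv x z t) * g⁻¹ ∧ X c b t = g * i' (tv z y t) * g⁻¹ := by
    intro a b c hab hbc hac
    obtain ⟨π₀, hπ₀⟩ := exists_perm ![q0, q1, q2] ![a, b, c]
      (by intro x y; fin_cases x <;> fin_cases y <;> simp [ne01, ne01.symm, ne02, ne02.symm, ne12, ne12.symm])
      (by intro x y; fin_cases x <;> fin_cases y <;> simp [hab, hab.symm, hbc, hbc.symm, hac, hac.symm])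
    have h0 : π₀ q0 = a := hπ₀ 0
    have h1 : π₀ q1 = b := hπ₀ 1
    have h2 : π₀ q2 = c := hπ₀ 2
    obtain ⟨π, hπ⟩ := hev π₀ q0 q1 ne01
    have key : ∀ x y z : Fin 3, x ≠ y → y ≠ z → x ≠ z → π.1 (lead k x) = a → π.1 (lead k y) = b →
        π.1 (lead k z) = c → ∃ (g : G) (x y z : Fin 3), x ≠ y ∧ y ≠ z ∧ x ≠ z ∧
      ∀ t, X a b t = g * i' (tv x y t) * g⁻¹ ∧ X b c t = g * i' (tv y z t) * g⁻¹ ∧
        X a c t = g * i' (tv x z t) * g⁻¹ ∧ X c b t = g * i' (tv z y t) * g⁻¹ := by
      intro x y z hxy hyz hxz hx hy hz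
      refine ⟨j' π, x, y, z, hxy, hyz, hxz, fun t => ⟨?_, ?_, ?_, ?_⟩⟩
      · rw [hlead x y hxy, hequi π _ _ (lead_ne hxy), hx, hy]
      · rw [hlead y z hyz, hequi π _ _ (lead_ne hyz), hy, hz]
      · rw [hlead x z hxz, hequi π _ _ (lead_ne hxz), hx, hz]
      · rw [hlead z y hyz.symm, hequi π _ _ (lead_ne hyz.symm), hy, hz]
    rcases hπ with hπ | hπ
    · exact key 0 1 2 (by decide) (by decide) (by decide) (by rw [hπ]; exact h0) (by rw [hπ]; exact h1) (by rw [hπ]; exact h2)
    · exact key 1 0 2 (by decide) (by decide) (by decide)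
        (by rw [hπ, Perm.mul_apply]; show π₀ (swap q0 q1 q1) = a; rw [swap_apply_right, h0])
        (by rw [hπ, Perm.mul_apply]; show π₀ (swap q0 q1 q0) = b; rw [swap_apply_left, h1])
        (by rw [hπ, Perm.mul_apply]; show π₀ (swap q0 q1 q2) = c; rw [swap_apply_of_ne_of_ne ne02.symm ne12.symm, h2])
  let SP : Cfsg.Agent.Lie.SLSteinberg.SLPre F n G :=
    { X := X
      add := fun i j _ t s => by simp only [X, P_add]; group
      comm₀ := by
        intro a b c d hab hcd hbc had s t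
        by_cases hac : a = c
        · subst hac
          by_cases hbd : b = d
          · subst hbd
            show X a b s * X a b t = X a b t * X a b s
            simp only [X]
            rw [show j' (pick a b) * P s * (j' (pick a b))⁻¹ * (j' (pick a b) * P t * (j' (pick a b))⁻¹) =
              j' (pick a b) * (P s * P t) * (j' (pick a b))⁻¹ by group, ← P_add, add_comm s t, P_add]
            group
          · obtain ⟨g, x, y, z, hxy, hyz, hxz, h⟩ := htriple a b d hab hbd had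
            rw [(h s).1, (h t).2.2.1, Commute.conj_iff]
            exact (tv_comm hxy hxz hxz hxy.symm s t).map i'
        · by_cases hbd : b = d
          · subst hbd
            obtain ⟨g, x, y, z, hxy, hyz, hxz, h⟩ := htriple a b c hab hbc hac
            rw [(h s).1, (h t).2.2.2, Commute.conj_iff]
            exact (tv_comm hxy hyz.symm hxy hyz s t).map i'
          · exact hfour a b c d hab hcd hac had hbc hbd s t
      comm₁ := by
        intro a b c hab hbc hac s t
        obtain ⟨g, x, y, z, hxy, hyz, hxz, h⟩ := htriple a b c hab hbc hac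
        rw [(h s).1, (h t).2.1, (h (s * t)).2.2.1,
          show g * i' (tv x y s) * g⁻¹ * (g * i' (tv y z t) * g⁻¹) = g * i' (tv x y s * tv y z t) * g⁻¹ by
            rw [map_mul]; group,
          show g * i' (tv x z (s * t)) * g⁻¹ * (g * i' (tv y z t) * g⁻¹) * (g * i' (tv x y s) * g⁻¹) =
            g * i' (tv x z (s * t) * tv y z t * tv x y s) * g⁻¹ by rw [map_mul, map_mul]; group,
          ← tv_comm₁ hxy hyz hxz, commutatorElement_def]
        group }
  have πX : ∀ a b, a ≠ b → ∀ t, (π (X a b t)).val = Matrix.transvection a b t := by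
    intro a b hab t
    obtain ⟨σ, h0, h1⟩ := hpair a b hab
    rw [← hkey σ a b h0 h1, map_mul, map_mul, map_inv]
    simp only [P, ← MonoidHom.comp_apply π, hπi, hπj]
    rw [permSL_conj_tv σ (emb3_tv (by decide) t), h0, h1]
  let SS : Cfsg.Agent.Lie.SLSteinberg.SLSt F n G :=
    { toSLPre := SP
      θ := π
      θX := πX
      rel := SP.rel_of_three (by omega) }
  refine Cfsg.Agent.Lie.SLSteinberg.bijective (by omega) SS ?_
  set M := Subgroup.closure {g | ∃ a b, a ≠ b ∧ ∃ t, g = SS.X a b t}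
  have hXM : ∀ a b, a ≠ b → ∀ t, X a b t ∈ M := fun a b hab t => Subgroup.subset_closure ⟨a, b, hab, t, rfl⟩
  have hiM : i'.range ≤ M := by
    rw [MonoidHom.range_eq_map, ← Cfsg.Agent.Classical.SL_closure_transvections, MonoidHom.map_closure,
      Subgroup.closure_le]
    rintro _ ⟨_, ⟨⟨a, b, hab, t⟩, rfl⟩, rfl⟩
    have e : TransvectionStruct.toSpecialLinearGroup (⟨a, b, hab, t⟩ : TransvectionStruct (Fin 3) F) = tv a b t :=
      Subtype.ext (by rw [tv_val hab]; rfl)
    rw [SetLike.mem_coe, e, hlead a b hab]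
    exact hXM _ _ (lead_ne hab) t
  have hjM : j'.range ≤ M := by
    have hγm : j' γ ∈ M := by rw [eγ]; exact hiM ⟨pC, rfl⟩
    have hnorm : ∀ (π : AT), ∀ g ∈ M, j' π * g * (j' π)⁻¹ ∈ M := by
      intro π g hg
      have : M ≤ M.comap (MulAut.conj (j' π)).toMonoidHom := by
        rw [Subgroup.closure_le]
        rintro _ ⟨a, b, hab, t, rfl⟩
        show j' π * X a b t * (j' π)⁻¹ ∈ M
        rw [hequi π a b hab]
        exact hXM _ _ (fun e => hab (π.1.injective e)) t
      exact this hg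
    rintro _ ⟨σ, rfl⟩
    have hσ : σ ∈ Subgroup.comap j' M := by
      have htop : Subgroup.comap j' M = ⊤ := by
        refine eq_top_iff.2 ?_
        rw [← Equiv.Perm.closure_three_cycles_eq_alternating (α := Fin n) |> fun h => show
          Subgroup.closure ((alternatingGroup (Fin n)).subtype ⁻¹' {σ : Perm (Fin n) | σ.IsThreeCycle}) = ⊤ from
          Subgroup.map_injective (Subgroup.subtype_injective _) (by
            rw [MonoidHom.map_closure, Set.image_preimage_eq_of_subset, h, ← MonoidHom.range_eq_map,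
              Subgroup.range_subtype]
            intro x hx
            exact ⟨⟨x, hx.mem_alternatingGroup⟩, rfl⟩)]
        rw [Subgroup.closure_le]
        intro x hx
        have hγ3 : γ.1.IsThreeCycle := by
          have : γ.1 = swap q1 q0 * swap q1 q2 := by
            rw [hγ]
            show Equiv.swap q0 q1 * Equiv.swap q1 q2 = _
            rw [Equiv.swap_comm q0 q1]
          rw [this]
          exact Perm.isThreeCycle_swap_mul_swap_same ne01.symm ne12 ne02
        obtain ⟨c, hc⟩ := isConj_iff.1 (Perm.isConj_iff_cycleType_eq.2 (hγ3.cycleType.trans (Eq.symm hx.cycleType)))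
        obtain ⟨π, hπ | hπ⟩ := hev c q0 q1 ne01
        · have : x = π * γ * π⁻¹ := Subtype.ext (by show x.1 = π.1 * γ.1 * π.1⁻¹; rw [hπ, hc]; rfl)
          show j' x ∈ M
          rw [this, map_mul, map_mul, map_inv]
          exact hnorm π _ hγm
        · have : x = π * (γ * γ) * π⁻¹ := by
            refine Subtype.ext ?_
            show x.1 = π.1 * (γ.1 * γ.1) * π.1⁻¹
            have hflip : swap q0 q1 * (γ.1 * γ.1) = γ.1 * swap q0 q1 := by
              have hs : γ.1 = swap q0 q1 * swap q1 q2 := hγ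
              have h3 : γ.1 * γ.1 * γ.1 = 1 := by
                rw [← pow_two, ← pow_succ]
                have := pow_orderOf_eq_one γ.1
                rwa [hγ3.orderOf] at this
              have hinv : γ.1 * γ.1 = γ.1⁻¹ := eq_inv_of_mul_eq_one_left h3
              rw [hinv, hs, _root_.mul_inv_rev, Perm.inv_def, Perm.inv_def (swap q0 q1), symm_swap, symm_swap]
              simp [mul_assoc]
            rw [hπ, mul_assoc c, hflip, _root_.mul_inv_rev, show (swap q0 q1)⁻¹ = swap q0 q1 from swap_inv _ _]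
            rw [← mul_assoc c, mul_assoc (c * γ.1), ← mul_assoc (swap q0 q1), Equiv.swap_mul_self, one_mul, hc]
            rfl
          show j' x ∈ M
          rw [this, map_mul, map_mul, map_mul, map_inv]
          exact hnorm π _ (M.mul_mem hγm hγm)
      rw [htop]; trivial
    exact hσ
  rw [eq_top_iff, ← hgen]
  exact sup_le hiM hjM

end Cfsg.Agent.Lie.SLnPres
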