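import Cfsg.Agent.Lib.Lie.AltPres
import Cfsg.Agent.Lib.Lie.Sl3PresFinal

/-! Presentations of `SL_n(F)` and `PSL_n(F)` with a bounded number of relations. -/

set_option autoImplicit false
set_option linter.unusedSectionVars false
set_option maxHeartbeats 1000000

namespace Cfsg.Agent.Lie.SLnPres

open Matrix Equiv Cfsg.Agent.Lie.Carmichael Cfsg.Agent.Lie.Pres
open Cfsg.Agent.Lie.Sl3Pres (tv pC pH tv_val tv_add pC_tv core_SL tv_comm tv_comm₁)
open Monoid (Coprod)
open scoped commutatorElement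

variable {F : Type*} [Field F] [Fintype F] {k : ℕ}

theorem val_mul {ι : Type} [Fintype ι] [DecidableEq ι] (x y : SpecialLinearGroup ι F) :
    (x * y).val = x.val * y.val := rfl

/-- The identification of indices. -/
abbrev eS (k : ℕ) : Fin 3 ⊕ Fin k ≃ Fin (3 + k) := finSumFinEquiv

/-- The first three indices. -/
abbrev lead (k : ℕ) (a : Fin 3) : Fin (3 + k) := eS k (Sum.inl a)

/-- `SL₃` in the upper left corner. -/
def emb3 : SpecialLinearGroup (Fin 3) F →* SpecialLinearGroup (Fin (3 + k)) F where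
  toFun A := ⟨reindexAlgEquiv F F (eS k) (fromBlocks A.val 0 0 1), by
    rw [Matrix.det_reindexAlgEquiv, det_fromBlocks_zero₂₁, A.prop, det_one, one_mul]⟩
  map_one' := Subtype.ext (by
    show reindexAlgEquiv F F (eS k) (fromBlocks (1 : Matrix (Fin 3) (Fin 3) F) 0 0 1) = 1
    rw [fromBlocks_one, map_one])
  map_mul' A B := Subtype.ext (by
    show reindexAlgEquiv F F (eS k) (fromBlocks (A.val * B.val) 0 0 1) =
      reindexAlgEquiv F F (eS k) (fromBlocks A.val 0 0 1) *
        reindexAlgEquiv F F (eS k) (fromBlocks B.val 0 0 1)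
    rw [← map_mul, fromBlocks_multiply]
    simp)

theorem emb3_tv {a b : Fin 3} (h : a ≠ b) (t : F) :
    (emb3 (k := k) (tv a b t)).val = Matrix.transvection (lead k a) (lead k b) t := by
  show reindexAlgEquiv F F (eS k) (fromBlocks (tv a b t).val 0 0 1) = _
  rw [tv_val h]
  have := TransvectionStruct.toMatrix_reindexEquiv (eS k) ((⟨a, b, h, t⟩ : TransvectionStruct (Fin 3) F).sumInl (Fin k))
  rw [TransvectionStruct.toMatrix_sumInl] at this
  exact this.symm

theorem emb3_diag {A : SpecialLinearGroup (Fin 3) F} {g : Fin 3 → F} (h : A.val = diagonal g) :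
    (emb3 (k := k) A).val = diagonal (Sum.elim g 1 ∘ (eS k).symm) := by
  show reindexAlgEquiv F F (eS k) (fromBlocks A.val 0 0 1) = _
  rw [h, ← diagonal_one, fromBlocks_diagonal, reindexAlgEquiv_apply, reindex_apply,
    submatrix_diagonal_equiv]
  rfl

/-- Even permutations as matrices. -/
def permSL : alternatingGroup (Fin (3 + k)) →* SpecialLinearGroup (Fin (3 + k)) F where
  toFun σ := ⟨(σ.1⁻¹).permMatrix F, by
    rw [det_permutation, map_inv, Perm.mem_alternatingGroup.1 σ.2]; simp⟩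
  map_one' := Subtype.ext (by simp)
  map_mul' σ τ := Subtype.ext (by
    show ((σ.1 * τ.1)⁻¹).permMatrix F = (σ.1⁻¹).permMatrix F * (τ.1⁻¹).permMatrix F
    rw [_root_.mul_inv_rev, permMatrix_mul])

theorem permSL_conj (σ : alternatingGroup (Fin (3 + k))) (M : SpecialLinearGroup (Fin (3 + k)) F) :
    (permSL σ * M * (permSL σ)⁻¹).val = M.val.submatrix (σ.1⁻¹ : Perm (Fin (3 + k))) (σ.1⁻¹ : Perm (Fin (3 + k))) := by
  rw [← map_inv]
  show (σ.1⁻¹).permMatrix F * M.val * ((σ⁻¹).1⁻¹).permMatrix F = _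
  rw [show ((σ⁻¹).1⁻¹ : Perm (Fin (3 + k))) = σ.1 by simp]
  show (σ.1⁻¹).toPEquiv.toMatrix * M.val * σ.1.toPEquiv.toMatrix = _
  rw [PEquiv.toMatrix_toPEquiv_mul, PEquiv.mul_toMatrix_toPEquiv]
  rfl

theorem permSL_conj_tv (σ : alternatingGroup (Fin (3 + k))) {M : SpecialLinearGroup (Fin (3 + k)) F}
    {i j : Fin (3 + k)} {t : F} (h : M.val = Matrix.transvection i j t) :
    (permSL σ * M * (permSL σ)⁻¹).val = Matrix.transvection (σ.1 i) (σ.1 j) t := by
  rw [permSL_conj, h]
  ext a b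
  simp only [submatrix_apply, Matrix.transvection, Matrix.add_apply, Matrix.one_apply, Matrix.single_apply,
    EmbeddingLike.apply_eq_iff_eq]
  have : ∀ x c : Fin (3 + k), x = (σ.1⁻¹) c ↔ σ.1 x = c := fun x c =>
    ⟨fun e => by rw [e]; exact σ.1.apply_symm_apply c, fun e => by rw [← e]; exact (σ.1.symm_apply_apply x).symm⟩
  simp only [this]

theorem permSL_conj_diag (σ : alternatingGroup (Fin (3 + k))) {M : SpecialLinearGroup (Fin (3 + k)) F}
    {g : Fin (3 + k) → F} (h : M.val = diagonal g) :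
    (permSL σ * M * (permSL σ)⁻¹).val = diagonal (g ∘ (σ.1⁻¹ : Perm (Fin (3 + k)))) := by
  rw [permSL_conj, h, submatrix_diagonal_equiv]

theorem commute_diag_diag {M N : SpecialLinearGroup (Fin (3 + k)) F} {g h : Fin (3 + k) → F}
    (hM : M.val = diagonal g) (hN : N.val = diagonal h) : Commute M N := by
  refine Subtype.ext ?_
  show M.val * N.val = N.val * M.val
  rw [hM, hN, diagonal_mul_diagonal, diagonal_mul_diagonal]
  simp only [mul_comm]

theorem commute_diag_tv {M N : SpecialLinearGroup (Fin (3 + k)) F} {g : Fin (3 + k) → F}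
    {i j : Fin (3 + k)} {t : F} (hM : M.val = diagonal g) (hN : N.val = Matrix.transvection i j t)
    (hg : g i = g j) : Commute M N := by
  refine Subtype.ext ?_
  show M.val * N.val = N.val * M.val
  rw [hM, hN, Matrix.transvection, mul_add, add_mul, mul_one, one_mul]
  congr 1
  ext a b
  rw [diagonal_mul, mul_diagonal, Matrix.single_apply]
  split_ifs with h
  · obtain ⟨rfl, rfl⟩ := h; rw [hg, mul_comm]
  · simp

/-- Some permutation with prescribed values. -/
theorem exists_perm {α ι : Type*} [Fintype α] [DecidableEq α] [Fintype ι] (f g : ι → α)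
    (hf : Function.Injective f) (hg : Function.Injective g) :
    ∃ π : Perm α, ∀ i, π (f i) = g i := by
  classical
  let e : {x // x ∈ Set.range f} ≃ {x // x ∈ Set.range g} :=
    (Equiv.ofInjective f hf).symm.trans (Equiv.ofInjective g hg)
  refine ⟨e.extendSubtype, fun i => ?_⟩
  rw [Equiv.extendSubtype_apply_of_mem _ _ ⟨i, rfl⟩]
  simp [e]

variable (k)

/-- The stabiliser of the first two points. -/
noncomputable def eStab (hk : 1 ≤ k) : Pt (Fin (k - 1)) ↪ Fin (3 + k) :=
  (Fintype.equivFinOfCardEq (n := k + 1) (show Fintype.card (Pt (Fin (k - 1))) = k + 1 by simp [Pt]; omega)).toEmbedding.trans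
    ⟨fun t => ⟨t + 2, by have := t.2; omega⟩, fun a b h => by simp only [Fin.mk.injEq] at h; exact Fin.ext (by omega)⟩

variable {k}

/-- Even permutations fixing the first two points. -/
noncomputable def extStab (hk : 1 ≤ k) : alternatingGroup (Pt (Fin (k - 1))) →* alternatingGroup (Fin (3 + k)) :=
  ((Perm.viaEmbeddingHom (eStab k hk)).comp (alternatingGroup (Pt (Fin (k - 1)))).subtype).codRestrict _
    fun g => by
      rw [Perm.mem_alternatingGroup]
      show Perm.sign (g.1.viaEmbedding (eStab k hk)) = 1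
      rw [sign_viaEmbedding]
      exact Perm.mem_alternatingGroup.1 g.2

theorem mem_range_eStab (hk : 1 ≤ k) {x : Fin (3 + k)} : x ∈ Set.range (eStab k hk) ↔ 2 ≤ (x : ℕ) := by
  constructor
  · rintro ⟨t, rfl⟩
    simp only [eStab, Function.Embedding.trans_apply, Equiv.toEmbedding_apply]
    show 2 ≤ _ + 2
    omega
  · intro h
    refine ⟨(Fintype.equivFinOfCardEq (n := k + 1) (show Fintype.card (Pt (Fin (k - 1))) = k + 1 by simp [Pt]; omega)).symm
      ⟨(x : ℕ) - 2, by have := x.2; omega⟩, Fin.ext ?_⟩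
    simp only [eStab, Function.Embedding.trans_apply, Equiv.toEmbedding_apply, Equiv.apply_symm_apply]
    show (x : ℕ) - 2 + 2 = x
    omega

theorem exists_extStab (hk : 1 ≤ k) (τ : alternatingGroup (Fin (3 + k))) (h0 : τ.1 (lead k 0) = lead k 0)
    (h1 : τ.1 (lead k 1) = lead k 1) : ∃ c, extStab hk c = τ := by
  classical
  have hmem : ∀ x, τ.1 (eStab k hk x) ∈ Set.range (eStab k hk) := by
    intro x
    rw [mem_range_eStab]
    by_contra h
    have hx : 2 ≤ ((eStab k hk x : Fin (3 + k)) : ℕ) := (mem_range_eStab hk).1 ⟨x, rfl⟩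
    rcases (show ((τ.1 (eStab k hk x) : Fin (3 + k)) : ℕ) = 0 ∨ ((τ.1 (eStab k hk x) : Fin (3 + k)) : ℕ) = 1 by omega)
      with e | e
    · have e' : τ.1 (eStab k hk x) = τ.1 (lead k 0) := by rw [h0]; exact Fin.ext e
      have e'' : ((eStab k hk x : Fin (3 + k)) : ℕ) = 0 := congrArg Fin.val (τ.1.injective e')
      omega
    · have e' : τ.1 (eStab k hk x) = τ.1 (lead k 1) := by rw [h1]; exact Fin.ext e
      have e'' : ((eStab k hk x : Fin (3 + k)) : ℕ) = 1 := congrArg Fin.val (τ.1.injective e')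
      omega
  choose f hf using hmem
  have hinj : Function.Injective f := fun a b hab => by
    have := hf a
    rw [hab, hf b] at this
    exact ((eStab k hk).injective (τ.1.injective this)).symm
  let σ : Perm (Pt (Fin (k - 1))) := Equiv.ofBijective f ((Finite.injective_iff_bijective).1 hinj)
  have hσ : σ.viaEmbedding (eStab k hk) = τ.1 := by
    refine Equiv.ext fun y => ?_
    by_cases hy : y ∈ Set.range (eStab k hk)
    · obtain ⟨x, rfl⟩ := hy
      rw [Perm.viaEmbedding_apply]; exact hf x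
    · rw [Perm.viaEmbedding_apply_of_notMem _ _ _ hy]
      rw [mem_range_eStab] at hy
      rcases (show (y : ℕ) = 0 ∨ (y : ℕ) = 1 by omega) with e | e
      · rw [show y = lead k 0 from Fin.ext e, h0]
      · rw [show y = lead k 1 from Fin.ext e, h1]
  exact ⟨⟨σ, by rw [Perm.mem_alternatingGroup, ← sign_viaEmbedding (eStab k hk), hσ]; exact Perm.mem_alternatingGroup.1 τ.2⟩,
    Subtype.ext hσ⟩

theorem extStab_fix (hk : 1 ≤ k) (c : alternatingGroup (Pt (Fin (k - 1)))) {x : Fin (3 + k)}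
    (hx : (x : ℕ) < 2) : (extStab hk c).1 x = x :=
  Perm.viaEmbedding_apply_of_notMem _ _ _ fun h => absurd ((mem_range_eStab hk).1 h) (by omega)

/-- The fourth index. -/
abbrev p3 (hk : 1 ≤ k) : Fin (3 + k) := ⟨3, by omega⟩

theorem lead_val (a : Fin 3) : (lead k a : ℕ) = a := rfl

theorem lead_ne {a b : Fin 3} (h : a ≠ b) : lead k a ≠ lead k b :=
  fun e => h (Sum.inl_injective ((eS k).injective e))

theorem lead_ne_inr (a : Fin 3) (b : Fin k) : lead k a ≠ eS k (Sum.inr b) :=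
  fun e => Sum.inl_ne_inr ((eS k).injective e)

theorem swap_pair_sq {α : Type*} [DecidableEq α] {a b c d : α} (hac : a ≠ c) (had : a ≠ d) (hbc : b ≠ c)
    (hbd : b ≠ d) : Equiv.swap a b * Equiv.swap c d * (Equiv.swap a b * Equiv.swap c d) = 1 := by
  have h : Perm.Disjoint (Equiv.swap a b) (Equiv.swap c d) := fun x => by
    rcases eq_or_ne x a with rfl | h1
    · exact Or.inr (swap_apply_of_ne_of_ne hac had)
    rcases eq_or_ne x b with rfl | h2
    · exact Or.inr (swap_apply_of_ne_of_ne hbc hbd)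
    · exact Or.inl (swap_apply_of_ne_of_ne h1 h2)
  rw [← pow_two, h.commute.mul_pow, pow_two, pow_two, Equiv.swap_mul_self, Equiv.swap_mul_self, one_mul]

theorem lead_ne_p3 (hk : 1 ≤ k) (a : Fin 3) : lead k a ≠ p3 hk := fun e => by
  have := congrArg Fin.val e
  change (a : ℕ) = 3 at this
  have := a.2
  omega

theorem sq_span {ω : Fˣ} (hordF : orderOf (ω : F) = Nat.card F - 1) :
    AddSubgroup.closure (Set.range fun n : ℕ => ((ω : F) ^ 2) ^ n) = ⊤ := by
  obtain ⟨p, hpc⟩ := CharP.exists F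
  obtain ⟨kk, hp, -⟩ := FiniteField.card F p
  haveI := Fact.mk hp
  letI : Algebra (ZMod p) F := ZMod.algebra F p
  refine eq_top_iff.2 fun x _ => ?_
  obtain ⟨Q, rfl⟩ := Sl2Pres.exists_aeval_of_generates (p := p)
    (fun M hM => RegUnip.top_of_sq_mem ω.ne_zero hordF hM) x
  rw [Polynomial.aeval_eq_sum_range]
  refine AddSubgroup.sum_mem _ fun i _ => ?_
  rw [Algebra.smul_def, show algebraMap (ZMod p) F (Q.coeff i) = ((Q.coeff i).val : F) by
    rw [← map_natCast (algebraMap (ZMod p) F), ZMod.natCast_zmod_val], ← nsmul_eq_mul]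
  exact AddSubgroup.nsmul_mem _ (AddSubgroup.subset_closure
    (k := Set.range fun n : ℕ => ((ω : F) ^ 2) ^ n) (Set.mem_range_self i)) _

theorem presLe_SL_of {a b : ℕ} (hk : 1 ≤ k) (hA : PresLe (SpecialLinearGroup (Fin 3) F) a)
    (hB : PresLe (alternatingGroup (Fin (3 + k))) b) :
    PresLe (SpecialLinearGroup (Fin (3 + k)) F) (a + b + 13) := by
  classical
  obtain ⟨ω, hω⟩ := IsCyclic.exists_monoid_generator (α := Fˣ)
  have hordF : orderOf (ω : F) = Nat.card F - 1 := by
    rw [orderOf_units, orderOf_eq_card_of_forall_mem_zpowers (fun x => by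
      obtain ⟨n, hn⟩ := hω x
      exact Subgroup.mem_zpowers_iff.2 ⟨n, by simpa using hn⟩), Nat.card_units]
  have hspan := sq_span hordF
  set n := 3 + k with hn
  let AT := alternatingGroup (Fin n)
  let S3 := SpecialLinearGroup (Fin 3) F
  let q0 := lead k 0
  let q1 := lead k 1
  let q2 := lead k 2
  let q3 := p3 hk
  have ne01 : q0 ≠ q1 := lead_ne (by decide)
  have ne02 : q0 ≠ q2 := lead_ne (by decide)
  have ne12 : q1 ≠ q2 := lead_ne (by decide)
  have ne03 : q0 ≠ q3 := lead_ne_p3 hk 0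
  have ne13 : q1 ≠ q3 := lead_ne_p3 hk 1
  have ne23 : q2 ≠ q3 := lead_ne_p3 hk 2
  let mkA : ∀ a b c d : Fin n, a ≠ b → c ≠ d → AT := fun a b c d h h' =>
    ⟨swap a b * swap c d, by rw [Perm.mem_alternatingGroup, map_mul, Perm.sign_swap h, Perm.sign_swap h']; rfl⟩
  let γ : AT := mkA q0 q1 q1 q2 ne01 ne12
  let τ : AT := mkA q1 q2 q2 q3 ne12 ne23
  let ρ₁ : AT := mkA q0 q2 q1 q3 ne02 ne13
  let ρ₂ : AT := mkA q0 q3 q1 q2 ne03 ne12
  have γ0 : γ.1 q0 = q1 ∧ γ.1 q1 = q2 ∧ γ.1 q2 = q0 := by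
    simp [γ, mkA, swap_apply_def, ne01, ne12, ne02, ne01.symm, ne12.symm, ne02.symm]
  have τ0 : τ.1 q0 = q0 ∧ τ.1 q1 = q2 ∧ τ.1 q2 = q3 := by
    simp [τ, mkA, swap_apply_def, ne01, ne12, ne02, ne01.symm, ne12.symm, ne02.symm, ne03, ne03.symm, ne13, ne13.symm, ne23, ne23.symm]
  have ρ₁0 : ρ₁.1 q0 = q2 ∧ ρ₁.1 q1 = q3 ∧ ρ₁.1 q2 = q0 ∧ ρ₁.1 q3 = q1 := by
    simp [ρ₁, mkA, swap_apply_def, ne01, ne12, ne02, ne01.symm, ne12.symm, ne02.symm, ne03, ne03.symm, ne13, ne13.symm, ne23, ne23.symm]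
  have ρ₂0 : ρ₂.1 q0 = q3 ∧ ρ₂.1 q1 = q2 ∧ ρ₂.1 q2 = q1 ∧ ρ₂.1 q3 = q0 := by
    simp [ρ₂, mkA, swap_apply_def, ne01, ne12, ne02, ne01.symm, ne12.symm, ne02.symm, ne03, ne03.symm, ne13, ne13.symm, ne23, ne23.symm]
  have hinvol : ∀ ρ ∈ [ρ₁, ρ₂], ρ * ρ = 1 := by
    intro ρ hρ
    simp only [List.mem_cons, List.not_mem_nil, or_false] at hρ
    rcases hρ with rfl | rfl
    · exact Subtype.ext (swap_pair_sq ne01 ne03 ne12.symm ne23)
    · exact Subtype.ext (swap_pair_sq ne01 ne02 ne13.symm ne23.symm)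
  let u : S3 := tv 0 1 1
  let H : S3 := pH ω
  let A : S3 := pC * pC * pH ω * (pC * pC)⁻¹
  let iA : S3 →* Coprod S3 AT := Coprod.inl
  let iB : AT →* Coprod S3 AT := Coprod.inr
  let sG : List AT := (altGens (k - 1)).map (extStab hk)
  let cj : AT → Coprod S3 AT → Coprod S3 AT := fun s x => iB s * x * (iB s)⁻¹
  let E : List (Coprod S3 AT) :=
    sG.map (fun s => ⁅iB s, iA u⁆) ++ sG.map (fun s => ⁅iB s, iA H⁆) ++
      [iB γ * (iA pC)⁻¹, cj τ (iA u) * (iA (tv 0 2 1))⁻¹, cj τ (iA H) * iA A,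
       ⁅iA u, cj ρ₁ (iA u)⁆, ⁅iA H, cj ρ₁ (iA u)⁆, ⁅iA H, cj ρ₁ (iA H)⁆,
       ⁅iA u, cj ρ₂ (iA u)⁆, ⁅iA H, cj ρ₂ (iA u)⁆, ⁅iA H, cj ρ₂ (iA H)⁆]
  refine (presLe_glue hA hB (emb3 (k := k)) (permSL (k := k)) E ?_ ?_).mono ?_
  · -- the relations hold
    have hH : (emb3 (k := k) H).val = diagonal (Sum.elim ![(ω : F), (ω : F)⁻¹, 1] 1 ∘ (eS k).symm) :=
      emb3_diag (by ext a b; fin_cases a <;> fin_cases b <;> simp [H, pH])
    have hA' : (emb3 (k := k) A).val = diagonal (Sum.elim ![(ω : F)⁻¹, 1, (ω : F)] 1 ∘ (eS k).symm) :=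
      emb3_diag (by
        rw [show A.val = _ from Sl3Pres.pC_conj_conj_pH ω]
        ext a b; fin_cases a <;> fin_cases b <;> simp)
    set g := Sum.elim ![(ω : F), (ω : F)⁻¹, 1] (1 : Fin k → F) ∘ (eS k).symm with hg
    have glead : ∀ a : Fin 3, g (lead k a) = ![(ω : F), (ω : F)⁻¹, 1] a := fun a => by simp [g, lead]
    have gone : ∀ x : Fin n, 2 ≤ (x : ℕ) → g x = 1 := by
      intro x hx
      obtain ⟨y, rfl⟩ := (eS k).surjective x
      rcases y with a | b
      · fin_cases a <;> simp [g] at hx ⊢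
      · simp [g]
    have hu : (emb3 (k := k) u).val = Matrix.transvection q0 q1 1 := emb3_tv (by decide) 1
    have hstabg : ∀ c, g ∘ ((extStab hk c).1⁻¹ : Perm (Fin n)) = g := by
      intro c
      funext x
      show g ((extStab hk c).1⁻¹ x) = g x
      have hinv : ∀ y : Fin n, (y : ℕ) < 2 → (extStab hk c).1⁻¹ y = y := fun y hy => by
        conv_lhs => rw [← extStab_fix hk c hy]
        exact (extStab hk c).1.symm_apply_apply y
      rcases lt_or_ge (x : ℕ) 2 with hx | hx
      · rw [hinv x hx]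
      · rw [gone x hx, gone]
        by_contra hlt
        push Not at hlt
        have := (extStab hk c).1.apply_symm_apply x
        rw [show (extStab hk c).1.symm x = (extStab hk c).1⁻¹ x from rfl, extStab_fix hk c hlt] at this
        rw [this] at hlt
        omega
    intro x hx
    simp only [E, sG, List.map_map, List.mem_append, List.mem_map, List.mem_cons, List.not_mem_nil,
      or_false, Function.comp] at hx
    rcases hx with (⟨c, -, rfl⟩ | ⟨c, -, rfl⟩) | rfl | rfl | rfl | rfl | rfl | rfl | rfl | rfl | rfl <;>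
      simp only [iA, iB, cj, map_commutatorElement, map_mul, map_inv, Coprod.lift_apply_inl,
        Coprod.lift_apply_inr]
    · rw [commutatorElement_def, mul_inv_eq_one]
      refine Subtype.ext ?_
      rw [permSL_conj_tv _ hu, hu, extStab_fix hk c (show (0 : ℕ) < 2 by norm_num),
        extStab_fix hk c (show (1 : ℕ) < 2 by norm_num)]
    · rw [commutatorElement_def, mul_inv_eq_one]
      refine Subtype.ext ?_
      rw [permSL_conj_diag _ hH, hstabg, hH]
    · rw [mul_inv_eq_one]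
      refine Subtype.ext ?_
      show (γ.1⁻¹).permMatrix F = reindexAlgEquiv F F (eS k) (fromBlocks (pC : S3).val 0 0 1)
      ext x y
      obtain ⟨x, rfl⟩ := (eS k).surjective x
      obtain ⟨y, rfl⟩ := (eS k).surjective y
      rw [reindexAlgEquiv_apply, reindex_apply, submatrix_apply, Equiv.symm_apply_apply, Equiv.symm_apply_apply]
      simp only [Perm.permMatrix, PEquiv.toMatrix_apply, Equiv.toPEquiv_apply, Option.mem_def, Option.some.injEq]
      have hfix : ∀ b : Fin k, γ.1 (eS k (Sum.inr b)) = eS k (Sum.inr b) := fun b => by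
        show Equiv.swap q0 q1 (Equiv.swap q1 q2 _) = _
        rw [swap_apply_of_ne_of_ne (lead_ne_inr 1 b).symm (lead_ne_inr 2 b).symm,
          swap_apply_of_ne_of_ne (lead_ne_inr 0 b).symm (lead_ne_inr 1 b).symm]
      have hsw : ∀ z w, (γ.1⁻¹ z = w) ↔ γ.1 w = z := fun z w =>
        ⟨fun e => by rw [← e]; exact γ.1.apply_symm_apply z, fun e => by rw [← e]; exact γ.1.symm_apply_apply w⟩
      simp only [hsw]
      rcases y with y | y
      · have hy : γ.1 (eS k (Sum.inl y)) = eS k (Sum.inl (y + 1)) := by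
          fin_cases y
          · exact γ0.1
          · exact γ0.2.1
          · exact γ0.2.2
        rw [hy]
        rcases x with x | x
        · simp only [EmbeddingLike.apply_eq_iff_eq, Sum.inl.injEq, fromBlocks_apply₁₁]
          fin_cases x <;> fin_cases y <;> simp [pC]
        · rw [if_neg (lead_ne_inr (y + 1) x)]; rfl
      · rw [hfix]
        rcases x with x | x
        · rw [if_neg (lead_ne_inr x y).symm]; rfl
        · simp only [EmbeddingLike.apply_eq_iff_eq, Sum.inr.injEq, fromBlocks_apply₂₂, Matrix.one_apply, eq_comm]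
    · rw [mul_inv_eq_one]
      refine Subtype.ext ?_
      rw [permSL_conj_tv _ hu, τ0.1, τ0.2.1, emb3_tv (by decide)]
    · refine Subtype.ext ?_
      show (permSL τ * emb3 H * (permSL τ)⁻¹).val * (emb3 A).val = 1
      rw [permSL_conj_diag _ hH, hA', diagonal_mul_diagonal, ← diagonal_one]
      congr 1
      funext x
      obtain ⟨z, rfl⟩ := τ.1.surjective x
      show g (τ.1⁻¹ (τ.1 z)) * _ = 1
      rw [show τ.1⁻¹ (τ.1 z) = z from τ.1.symm_apply_apply z]
      rcases eq_or_ne z q0 with rfl | h0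
      · rw [τ0.1, glead]; simp [q0, lead, ω.ne_zero]
      rcases eq_or_ne z q1 with rfl | h1
      · rw [τ0.2.1, glead]; simp [q2, lead, ω.ne_zero]
      have hz : 2 ≤ (z : ℕ) := by
        by_contra h
        rcases (show (z : ℕ) = 0 ∨ (z : ℕ) = 1 by omega) with e | e
        · exact h0 (Fin.ext e)
        · exact h1 (Fin.ext e)
      rw [gone z hz, one_mul]
      have hne0 : τ.1 z ≠ q0 := fun e => h0 (τ.1.injective (e.trans τ0.1.symm))
      have hne2 : τ.1 z ≠ q2 := fun e => h1 (τ.1.injective (e.trans τ0.2.1.symm))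
      obtain ⟨y, hy⟩ := (eS k).surjective (τ.1 z)
      rcases y with y | y
      · fin_cases y
        · exact absurd hy.symm hne0
        · rw [← hy]; simp
        · exact absurd hy.symm hne2
      · rw [← hy]; simp
    all_goals rw [commutatorElement_eq_one_iff_mul_comm]
    · refine Subtype.ext ?_
      show (emb3 u).val * (permSL ρ₁ * emb3 u * (permSL ρ₁)⁻¹).val =
        (permSL ρ₁ * emb3 u * (permSL ρ₁)⁻¹).val * (emb3 u).val
      rw [permSL_conj_tv _ hu, hu, ρ₁0.1, ρ₁0.2.1]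
      exact (Cfsg.Agent.Lie.SLSteinberg.transvection_rels ne01 ne23 ne03 1 1).1 ne12
    · exact commute_diag_tv hH (permSL_conj_tv _ hu) (by rw [ρ₁0.1, ρ₁0.2.1, gone q2 (le_refl (2 : ℕ)), gone q3 (show 2 ≤ 3 by norm_num)])
    · exact commute_diag_diag hH (permSL_conj_diag _ hH)
    · refine Subtype.ext ?_
      show (emb3 u).val * (permSL ρ₂ * emb3 u * (permSL ρ₂)⁻¹).val =
        (permSL ρ₂ * emb3 u * (permSL ρ₂)⁻¹).val * (emb3 u).val
      rw [permSL_conj_tv _ hu, hu, ρ₂0.1, ρ₂0.2.1]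
      exact (Cfsg.Agent.Lie.SLSteinberg.transvection_rels ne01 ne23.symm ne02 1 1).1 ne13
    · exact commute_diag_tv hH (permSL_conj_tv _ hu) (by rw [ρ₂0.1, ρ₂0.2.1, gone q2 (le_refl (2 : ℕ)), gone q3 (show 2 ≤ 3 by norm_num)])
    · exact commute_diag_diag hH (permSL_conj_diag _ hH)
  swap
  · simp only [E, sG, List.length_append, List.length_map, List.length_cons, List.length_nil]
    have := altGens_length (k - 1)
    omega
  intro G _ i' j' π hgen hπi hπj hE
  have q : ∀ x ∈ E, Coprod.lift i' j' x = 1 := hE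
  have hcomm : ∀ {a b : G}, ⁅a, b⁆ = 1 → Commute a b := fun h => commutatorElement_eq_one_iff_mul_comm.1 h
  -- the stabiliser centralises the first root group
  have hS : ∀ x : S3, (∀ s ∈ sG, Commute (j' s) (i' x)) → ∀ c, Commute (j' (extStab hk c)) (i' x) := by
    intro x hx c
    have e : (MulAut.conj (i' x)).toMonoidHom.comp (j'.comp (extStab hk)) = j'.comp (extStab hk) := by
      refine hom_ext_gens fun c hc => ?_
      show i' x * j' (extStab hk c) * (i' x)⁻¹ = j' (extStab hk c)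
      rw [← (hx _ (List.mem_map.2 ⟨c, hc, rfl⟩)).eq, mul_inv_cancel_right]
    have := DFunLike.congr_fun e c
    exact (mul_inv_eq_iff_eq_mul.1 this).symm
  have hmu : ∀ s ∈ sG, Commute (j' s) (i' u) := fun s hs => by
    have := q ⁅iB s, iA u⁆ (by simp only [E, List.mem_append, List.mem_map]; exact Or.inl (Or.inl ⟨s, hs, rfl⟩))
    simp only [iA, iB, map_commutatorElement, Coprod.lift_apply_inl, Coprod.lift_apply_inr] at this
    exact hcomm this
  have hmH : ∀ s ∈ sG, Commute (j' s) (i' H) := fun s hs => by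
    have := q ⁅iB s, iA H⁆ (by simp only [E, List.mem_append, List.mem_map]; exact Or.inl (Or.inr ⟨s, hs, rfl⟩))
    simp only [iA, iB, map_commutatorElement, Coprod.lift_apply_inl, Coprod.lift_apply_inr] at this
    exact hcomm this
  have qs : ∀ x ∈ [iB γ * (iA pC)⁻¹, cj τ (iA u) * (iA (tv 0 2 1))⁻¹, cj τ (iA H) * iA A,
       ⁅iA u, cj ρ₁ (iA u)⁆, ⁅iA H, cj ρ₁ (iA u)⁆, ⁅iA H, cj ρ₁ (iA H)⁆,
       ⁅iA u, cj ρ₂ (iA u)⁆, ⁅iA H, cj ρ₂ (iA u)⁆, ⁅iA H, cj ρ₂ (iA H)⁆],
      Coprod.lift i' j' x = 1 := fun x hx => q x (List.mem_append_right _ hx)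
  simp only [iA, iB, cj, List.forall_mem_cons, List.not_mem_nil, IsEmpty.forall_iff, forall_const, and_true,
    map_commutatorElement, map_mul, map_inv, Coprod.lift_apply_inl, Coprod.lift_apply_inr, mul_inv_eq_one,
    implies_true] at qs
  obtain ⟨eγ, eτu, eτH, e1u, e1H, e1HH, e2u, e2H, e2HH⟩ := qs
  have eτH' : j' τ * i' H * (j' τ)⁻¹ = i' A⁻¹ := by rw [map_inv]; exact eq_inv_of_mul_eq_one_left eτH
  -- scaling in `SL₃`
  have hH01 : ∀ (m : ℕ) (t : F), H ^ m * tv 0 1 t * (H ^ m)⁻¹ = tv 0 1 (((ω : F) ^ 2) ^ m * t) := by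
    intro m
    induction m with
    | zero => intro t; simp
    | succ m ih =>
      intro t
      rw [pow_succ' H, show H * H ^ m * tv 0 1 t * (H * H ^ m)⁻¹ = H * (H ^ m * tv 0 1 t * (H ^ m)⁻¹) * H⁻¹ by group,
        ih, (core_SL ω).conjh, ← mul_assoc, ← pow_succ']
  have hA02 : ∀ (m : ℕ), A⁻¹ ^ m * tv 0 2 1 * (A⁻¹ ^ m)⁻¹ = tv 0 2 (((ω : F) ^ 2) ^ m) := by
    intro m
    have hs := ((core_SL ω).scales_a.inv (inv_ne_zero ω.ne_zero) (inv_ne_zero ω.ne_zero)).pow m
    have := hs.conj_Z 1 1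
    rw [Sl3Pres.Z_SL, Sl3Pres.Z_SL, mul_one, mul_one] at this
    rw [show ((ω : F) ^ 2) ^ m = ((ω : F)⁻¹)⁻¹ ^ m * ((ω : F)⁻¹)⁻¹ ^ m by rw [inv_inv, ← mul_pow, pow_two]]
    exact this
  let P : F → G := fun t => i' (tv 0 1 t)
  have P_add : ∀ x y, P (x + y) = P x * P y := fun x y => by
    show i' _ = i' _ * i' _; rw [tv_add (by decide), map_mul]
  have P_zero : P 0 = 1 := by
    show i' (tv 0 1 (0 : F)) = 1
    rw [(core_SL ω).φ_zero, map_one]
  have P_pow : ∀ m : ℕ, P (((ω : F) ^ 2) ^ m) = i' H ^ m * i' u * (i' H ^ m)⁻¹ := fun m => by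
    rw [← map_pow, ← map_inv, ← map_mul, ← map_mul, hH01, mul_one]
  have hstab : ∀ c t, Commute (j' (extStab hk c)) (P t) := fun c t => by
    refine Sl3Pres.all_of_span hspan (P := fun t => Commute (j' (extStab hk c)) (P t))
      (by rw [P_zero]; exact Commute.one_right _) (fun x y hx hy => by rw [P_add]; exact hx.mul_right hy) ?_ t
    rintro _ ⟨m, rfl⟩
    have h1 := hS H hmH c
    show Commute _ (P (((ω : F) ^ 2) ^ m))
    rw [P_pow]
    exact ((h1.pow_right m).mul_right (hS u hmu c)).mul_right (h1.pow_right m).inv_right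
  -- choices
  have hev : ∀ π₀ : Perm (Fin n), ∀ c d : Fin n, c ≠ d →
      ∃ π : AT, π.1 = π₀ ∨ π.1 = π₀ * swap c d := by
    intro π₀ c d hcd
    rcases Int.units_eq_one_or (Perm.sign π₀) with h | h
    · exact ⟨⟨π₀, Perm.mem_alternatingGroup.2 h⟩, Or.inl rfl⟩
    · exact ⟨⟨π₀ * swap c d, Perm.mem_alternatingGroup.2 (by rw [map_mul, h, Perm.sign_swap hcd]; rfl)⟩, Or.inr rfl⟩
  have hpair : ∀ a b : Fin n, a ≠ b → ∃ π : AT, π.1 q0 = a ∧ π.1 q1 = b := by
    intro a b hab
    obtain ⟨π₀, hπ₀⟩ := exists_perm ![q0, q1] ![a, b]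
      (by intro x y; fin_cases x <;> fin_cases y <;> simp [ne01, ne01.symm])
      (by intro x y; fin_cases x <;> fin_cases y <;> simp [hab, hab.symm])
    have h0 : π₀ q0 = a := hπ₀ 0
    have h1 : π₀ q1 = b := hπ₀ 1
    obtain ⟨π, hπ | hπ⟩ := hev π₀ q2 q3 ne23
    · exact ⟨π, by rw [hπ, h0], by rw [hπ, h1]⟩
    · refine ⟨π, ?_, ?_⟩ <;> rw [hπ, Perm.mul_apply, swap_apply_of_ne_of_ne] <;> assumption
  let pick : Fin n → Fin n → AT := fun a b => if h : a ≠ b then Classical.choose (hpair a b h) else 1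
  let X : Fin n → Fin n → F → G := fun a b t => j' (pick a b) * P t * (j' (pick a b))⁻¹
  have hkey : ∀ (π : AT) (a b : Fin n), π.1 q0 = a → π.1 q1 = b → ∀ t,
      j' π * P t * (j' π)⁻¹ = X a b t := by
    intro π a b ha hb t
    have hab : a ≠ b := fun e => ne01 (π.1.injective (ha.trans (e.trans hb.symm)))
    have hp : (pick a b).1 q0 = a ∧ (pick a b).1 q1 = b := by
      simp only [pick, dif_pos hab]
      exact Classical.choose_spec (hpair a b hab)
    obtain ⟨c, hc⟩ := exists_extStab hk ((pick a b)⁻¹ * π)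
      (by show (pick a b).1.symm (π.1 q0) = q0; rw [ha, Equiv.symm_apply_eq]; exact hp.1.symm)
      (by show (pick a b).1.symm (π.1 q1) = q1; rw [hb, Equiv.symm_apply_eq]; exact hp.2.symm)
    have e : π = pick a b * extStab hk c := by rw [hc, mul_inv_cancel_left]
    show _ = j' (pick a b) * P t * (j' (pick a b))⁻¹
    rw [e, map_mul, show j' (pick a b) * j' (extStab hk c) * P t * (j' (pick a b) * j' (extStab hk c))⁻¹ =
      j' (pick a b) * (j' (extStab hk c) * P t * (j' (extStab hk c))⁻¹) * (j' (pick a b))⁻¹ by group,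
      (hstab c t).eq, mul_inv_cancel_right]
  have hequi : ∀ (π : AT) (a b : Fin n), a ≠ b → ∀ t,
      j' π * X a b t * (j' π)⁻¹ = X (π.1 a) (π.1 b) t := by
    intro π a b hab t
    obtain ⟨π₁, h0, h1⟩ := hpair a b hab
    rw [← hkey π₁ a b h0 h1, ← hkey (π * π₁) (π.1 a) (π.1 b) (by show π.1 (π₁.1 q0) = _; rw [h0])
      (by show π.1 (π₁.1 q1) = _; rw [h1]), map_mul]
    group
  have X01 : ∀ t, X q0 q1 t = P t := fun t => by
    rw [← hkey 1 q0 q1 rfl rfl, map_one, one_mul, inv_one, mul_one]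
  have X02 : ∀ t, X q0 q2 t = i' (tv 0 2 t) := by
    intro t
    rw [← hkey τ q0 q2 τ0.1 τ0.2.1]
    refine Sl3Pres.all_of_span hspan (P := fun t => j' τ * P t * (j' τ)⁻¹ = i' (tv 0 2 t)) ?_ ?_ ?_ t
    · rw [P_zero, mul_one, mul_inv_cancel, show tv (0 : Fin 3) 2 (0 : F) = 1 by
        have := Sl3Pres.Y_SL (F := F) 0
        rw [Sl3Pres.Y, Sl3Pres.Z_zero_left (core_SL ω)] at this
        exact this.symm, map_one]
    · intro x y hx hy
      rw [P_add, tv_add (by decide), map_mul, ← hx, ← hy]; group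
    · rintro _ ⟨m, rfl⟩
      show j' τ * P (((ω : F) ^ 2) ^ m) * (j' τ)⁻¹ = _
      rw [P_pow, ← hA02, map_mul, map_mul, map_inv i' (A⁻¹ ^ m), map_pow, ← eτH', conj_pow, ← eτu]
      group
  have hlead : ∀ a b : Fin 3, a ≠ b → ∀ t, i' (tv a b t) = X (lead k a) (lead k b) t := by
    have hshift : ∀ a b : Fin 3, a ≠ b → (∀ t, i' (tv a b t) = X (lead k a) (lead k b) t) →
        ∀ t, i' (tv (a + 1) (b + 1) t) = X (lead k (a + 1)) (lead k (b + 1)) t := by
      intro a b hab h t
      have hg : ∀ c : Fin 3, γ.1 (lead k c) = lead k (c + 1) := by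
        intro c; fin_cases c
        · exact γ0.1
        · exact γ0.2.1
        · exact γ0.2.2
      rw [← pC_tv hab, map_mul, map_mul, map_inv, ← eγ, h, hequi γ _ _ (lead_ne hab), hg, hg]
    have h01 : ∀ t, i' (tv 0 1 t) = X (lead k 0) (lead k 1) t := fun t => (X01 t).symm
    have h02 : ∀ t, i' (tv 0 2 t) = X (lead k 0) (lead k 2) t := fun t => (X02 t).symm
    have h12 := hshift 0 1 (by decide) h01
    have h20 := hshift _ _ (by decide) h12
    have h10 := hshift 0 2 (by decide) h02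
    have h21 := hshift _ _ (by decide) h10
    intro a b hab
    fin_cases a <;> fin_cases b <;> first
      | exact absurd rfl hab
      | exact h01
      | exact h02
      | exact h12
      | exact h20
      | exact h10
      | exact h21
  -- disjoint pairs
  have hdis : ∀ ρ : AT, ρ * ρ = 1 → Commute (i' u) (j' ρ * i' u * (j' ρ)⁻¹) →
      Commute (i' H) (j' ρ * i' u * (j' ρ)⁻¹) → Commute (i' H) (j' ρ * i' H * (j' ρ)⁻¹) →
      ∀ s t, Commute (P s) (j' ρ * P t * (j' ρ)⁻¹) := by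
    intro ρ hρ huu hHu hHH
    have hρ' : (j' ρ)⁻¹ = j' ρ := inv_eq_of_mul_eq_one_right (by rw [← map_mul, hρ, map_one])
    have h1 : ∀ s, Commute (P s) (j' ρ * i' u * (j' ρ)⁻¹) := by
      refine Sl3Pres.all_of_span hspan (P := fun s => Commute (P s) _) (by rw [P_zero]; exact Commute.one_left _)
        (fun x y hx hy => by rw [P_add]; exact hx.mul_left hy) ?_
      rintro _ ⟨m, rfl⟩
      show Commute (P (((ω : F) ^ 2) ^ m)) _
      rw [P_pow]
      exact ((hHu.pow_left m).mul_left huu).mul_left (hHu.pow_left m).inv_left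
    have hHu' : Commute (i' u) (j' ρ * i' H * (j' ρ)⁻¹) := by
      have := (Commute.conj_iff (j' ρ)).2 hHu.symm
      rw [show j' ρ * (j' ρ * i' u * (j' ρ)⁻¹) * (j' ρ)⁻¹ = (j' ρ * j' ρ) * i' u * (j' ρ * j' ρ)⁻¹ by group,
        ← map_mul, hρ, map_one, one_mul, inv_one, mul_one] at this
      exact this
    have h2 : ∀ s, Commute (P s) (j' ρ * i' H * (j' ρ)⁻¹) := by
      refine Sl3Pres.all_of_span hspan (P := fun s => Commute (P s) _) (by rw [P_zero]; exact Commute.one_left _)
        (fun x y hx hy => by rw [P_add]; exact hx.mul_left hy) ?_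
      rintro _ ⟨m, rfl⟩
      show Commute (P (((ω : F) ^ 2) ^ m)) _
      rw [P_pow]
      exact ((hHH.pow_left m).mul_left hHu').mul_left (hHH.pow_left m).inv_left
    intro s
    refine Sl3Pres.all_of_span hspan (P := fun t => Commute (P s) (j' ρ * P t * (j' ρ)⁻¹))
      (by rw [P_zero, mul_one, mul_inv_cancel]; exact Commute.one_right _) ?_ ?_
    · intro x y hx hy
      rw [P_add, show j' ρ * (P x * P y) * (j' ρ)⁻¹ = (j' ρ * P x * (j' ρ)⁻¹) * (j' ρ * P y * (j' ρ)⁻¹) by group]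
      exact hx.mul_right hy
    · rintro _ ⟨m, rfl⟩
      show Commute (P s) (j' ρ * P (((ω : F) ^ 2) ^ m) * (j' ρ)⁻¹)
      rw [P_pow, show j' ρ * (i' H ^ m * i' u * (i' H ^ m)⁻¹) * (j' ρ)⁻¹ =
        (j' ρ * i' H * (j' ρ)⁻¹) ^ m * (j' ρ * i' u * (j' ρ)⁻¹) * ((j' ρ * i' H * (j' ρ)⁻¹) ^ m)⁻¹ by
        rw [conj_pow]; group]
      exact (((h2 s).pow_right m).mul_right (h1 s)).mul_right ((h2 s).pow_right m).inv_right
  have hd₁ := hdis ρ₁ (hinvol _ (by simp)) (hcomm e1u) (hcomm e1H) (hcomm e1HH)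
  have hd₂ := hdis ρ₂ (hinvol _ (by simp)) (hcomm e2u) (hcomm e2H) (hcomm e2HH)
  have hfour : ∀ a b c d : Fin n, a ≠ b → c ≠ d → a ≠ c → a ≠ d → b ≠ c → b ≠ d →
      ∀ s t, Commute (X a b s) (X c d t) := by
    intro a b c d hab hcd hac had hbc hbd s t
    obtain ⟨π₀, hπ₀⟩ := exists_perm ![q0, q1, q2, q3] ![a, b, c, d]
      (by intro x y; fin_cases x <;> fin_cases y <;> simp [ne01, ne01.symm, ne02, ne02.symm, ne03, ne03.symm,
        ne12, ne12.symm, ne13, ne13.symm, ne23, ne23.symm])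
      (by intro x y; fin_cases x <;> fin_cases y <;> simp [hab, hab.symm, hcd, hcd.symm, hac, hac.symm,
        had, had.symm, hbc, hbc.symm, hbd, hbd.symm])
    have h0 : π₀ q0 = a := hπ₀ 0
    have h1 : π₀ q1 = b := hπ₀ 1
    have h2 : π₀ q2 = c := hπ₀ 2
    have h3 : π₀ q3 = d := hπ₀ 3
    obtain ⟨π, hπ | hπ⟩ := hev π₀ q2 q3 ne23
    · have h := (Commute.conj_iff (j' π)).2 (hd₁ s t)
      rw [hkey π a b (by rw [hπ, h0]) (by rw [hπ, h1])] at h
      have e : j' π * (j' ρ₁ * P t * (j' ρ₁)⁻¹) * (j' π)⁻¹ = X c d t := by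
        rw [hkey ρ₁ q2 q3 ρ₁0.1 ρ₁0.2.1, hequi π q2 q3 ne23, hπ, h2, h3]
      rwa [e] at h
    · have p0 : π.1 q0 = a := by rw [hπ, Perm.mul_apply, swap_apply_of_ne_of_ne ne02 ne03, h0]
      have p1 : π.1 q1 = b := by rw [hπ, Perm.mul_apply, swap_apply_of_ne_of_ne ne12 ne13, h1]
      have p2 : π.1 q2 = d := by rw [hπ, Perm.mul_apply, swap_apply_left, h3]
      have p3 : π.1 q3 = c := by rw [hπ, Perm.mul_apply, swap_apply_right, h2]
      have h := (Commute.conj_iff (j' π)).2 (hd₂ s t)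
      rw [hkey π a b p0 p1] at h
      have e : j' π * (j' ρ₂ * P t * (j' ρ₂)⁻¹) * (j' π)⁻¹ = X c d t := by
        rw [hkey ρ₂ q3 q2 ρ₂0.1 ρ₂0.2.1, hequi π q3 q2 ne23.symm, p2, p3]
      rwa [e] at h
  -- triples live in a conjugate of `SL₃`
  have htriple : ∀ a b c : Fin n, a ≠ b → b ≠ c → a ≠ c → ∃ (g : G) (x y z : Fin 3), x ≠ y ∧ y ≠ z ∧ x ≠ z ∧
      ∀ t, X a b t = g * i' (tv x y t) * g⁻¹ ∧ X b c t = g * i' (tv y z t) * g⁻¹ ∧
        X a c t = g * i' (tv x z t) * g⁻¹ ∧ X c b t = g * i' (tv z y t) * g⁻¹ := by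
    intro a b c hab hbc hac
    obtain ⟨π₀, hπ₀⟩ := exists_perm ![q0, q1, q2] ![a, b, c]
      (by intro x y; fin_cases x <;> fin_cases y <;> simp [ne01, ne01.symm, ne02, ne02.symm, ne12, ne12.symm])
      (by intro x y; fin_cases x <;> fin_cases y <;> simp [hab, hab.symm, hbc, hbc.symm, hac, hac.symm])
    have h0 : π₀ q0 = a := hπ₀ 0
    have h1 : π₀ q1 = b := hπ₀ 1
    have h2 : π₀ q2 = c := hπ₀ 2
    obtain ⟨π, hπ⟩ := hev π₀ q0 q1 ne01
    have key : ∀ x y z : Fin 3, x ≠ y → y ≠ z → x ≠ z → π.1 (lead k x) = a → π.1 (lead k y) = b →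
        π.1 (lead k z) = c → ∃ (g : G) (x y z : Fin 3), x ≠ y ∧ y ≠ z ∧ x ≠ z ∧
      ∀ t, X a b t = g * i' (tv x y t) * g⁻¹ ∧ X b c t = g * i' (tv y z t) * g⁻¹ ∧
        X a c t = g * i' (tv x z t) * g⁻¹ ∧ X c b t = g * i' (tv z y t) * g⁻¹ := by
      intro x y z hxy hyz hxz hx hy hz
      refine ⟨j' π, x, y, z, hxy, hyz, hxz, fun t => ⟨?_, ?_, ?_, ?_⟩⟩
      · rw [hlead x y hxy, hequi π _ _ (lead_ne hxy), hx, hy]
      · rw [hlead y z hyz, hequi π _ _ (lead_ne hyz), hy, hz]
      · rw [hlead x z hxz, hequi π _ _ (lead_ne hxz), hx, hz]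
      · rw [hlead z y hyz.symm, hequi π _ _ (lead_ne hyz.symm), hy, hz]
    rcases hπ with hπ | hπ
    · exact key 0 1 2 (by decide) (by decide) (by decide) (by rw [hπ]; exact h0) (by rw [hπ]; exact h1) (by rw [hπ]; exact h2)
    · exact key 1 0 2 (by decide) (by decide) (by decide)
        (by rw [hπ, Perm.mul_apply]; show π₀ (swap q0 q1 q1) = a; rw [swap_apply_right, h0])
        (by rw [hπ, Perm.mul_apply]; show π₀ (swap q0 q1 q0) = b; rw [swap_apply_left, h1])
        (by rw [hπ, Perm.mul_apply]; show π₀ (swap q0 q1 q2) = c; rw [swap_apply_of_ne_of_ne ne02.symm ne12.symm, h2])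
  let SP : Cfsg.Agent.Lie.SLSteinberg.SLPre F n G :=
    { X := X
      add := fun i j _ t s => by simp only [X, P_add]; group
      comm₀ := by
        intro a b c d hab hcd hbc had s t
        by_cases hac : a = c
        · subst hac
          by_cases hbd : b = d
          · subst hbd
            show X a b s * X a b t = X a b t * X a b s
            simp only [X]
            rw [show j' (pick a b) * P s * (j' (pick a b))⁻¹ * (j' (pick a b) * P t * (j' (pick a b))⁻¹) =
              j' (pick a b) * (P s * P t) * (j' (pick a b))⁻¹ by group, ← P_add, add_comm, P_add]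
            group
          · obtain ⟨g, x, y, z, hxy, hyz, hxz, h⟩ := htriple a b d hab hbd had
            rw [(h s).1, (h t).2.2.1, Commute.conj_iff]
            exact (tv_comm hxy hxz hxz hxy.symm s t).map i'
        · by_cases hbd : b = d
          · subst hbd
            obtain ⟨g, x, y, z, hxy, hyz, hxz, h⟩ := htriple a b c hab hbc hac
            rw [(h s).1, (h t).2.2.2, Commute.conj_iff]
            exact (tv_comm hxy hyz.symm hxy hyz s t).map i'
          · exact hfour a b c d hab hcd hac had hbc hbd s t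
      comm₁ := by
        intro a b c hab hbc hac s t
        obtain ⟨g, x, y, z, hxy, hyz, hxz, h⟩ := htriple a b c hab hbc hac
        rw [(h s).1, (h t).2.1, (h (s * t)).2.2.1,
          show g * i' (tv x y s) * g⁻¹ * (g * i' (tv y z t) * g⁻¹) = g * i' (tv x y s * tv y z t) * g⁻¹ by
            rw [map_mul]; group,
          show g * i' (tv x z (s * t)) * g⁻¹ * (g * i' (tv y z t) * g⁻¹) * (g * i' (tv x y s) * g⁻¹) =
            g * i' (tv x z (s * t) * tv y z t * tv x y s) * g⁻¹ by rw [map_mul, map_mul]; group,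
          ← tv_comm₁ hxy hyz hxz, commutatorElement_def]
        group }
  have πX : ∀ a b, a ≠ b → ∀ t, (π (X a b t)).val = Matrix.transvection a b t := by
    intro a b hab t
    obtain ⟨σ, h0, h1⟩ := hpair a b hab
    rw [← hkey σ a b h0 h1, map_mul, map_mul, map_inv]
    simp only [P, ← MonoidHom.comp_apply π, hπi, hπj]
    rw [permSL_conj_tv σ (emb3_tv (by decide) t), h0, h1]
  let SS : Cfsg.Agent.Lie.SLSteinberg.SLSt F n G :=
    { toSLPre := SP
      θ := π
      θX := πX
      rel := SP.rel_of_three (by omega) }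
  refine Cfsg.Agent.Lie.SLSteinberg.bijective (by omega) SS ?_
  set M := Subgroup.closure {g | ∃ a b, a ≠ b ∧ ∃ t, g = SS.X a b t}
  have hXM : ∀ a b, a ≠ b → ∀ t, X a b t ∈ M := fun a b hab t => Subgroup.subset_closure ⟨a, b, hab, t, rfl⟩
  have hiM : i'.range ≤ M := by
    rw [MonoidHom.range_eq_map, ← Cfsg.Agent.Classical.SL_closure_transvections, MonoidHom.map_closure,
      Subgroup.closure_le]
    rintro _ ⟨_, ⟨⟨a, b, hab, t⟩, rfl⟩, rfl⟩
    have e : TransvectionStruct.toSpecialLinearGroup (⟨a, b, hab, t⟩ : TransvectionStruct (Fin 3) F) = tv a b t :=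
      Subtype.ext (by rw [tv_val hab]; rfl)
    rw [SetLike.mem_coe, e, hlead a b hab]
    exact hXM _ _ (lead_ne hab) t
  have hjM : j'.range ≤ M := by
    have hγ : j' γ ∈ M := by rw [eγ]; exact hiM ⟨pC, rfl⟩
    have hnorm : ∀ (π : AT), ∀ g ∈ M, j' π * g * (j' π)⁻¹ ∈ M := by
      intro π g hg
      have : M ≤ M.comap (MulAut.conj (j' π)).toMonoidHom := by
        rw [Subgroup.closure_le]
        rintro _ ⟨a, b, hab, t, rfl⟩
        show j' π * X a b t * (j' π)⁻¹ ∈ M
        rw [hequi π a b hab]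
        exact hXM _ _ (fun e => hab (π.1.injective e)) t
      exact this hg
    rintro _ ⟨σ, rfl⟩
    have hσ : σ ∈ Subgroup.comap j' M := by
      have htop : Subgroup.comap j' M = ⊤ := by
        refine eq_top_iff.2 ?_
        rw [← Equiv.Perm.closure_three_cycles_eq_alternating (α := Fin n) |> fun h => show
          Subgroup.closure ((alternatingGroup (Fin n)).subtype ⁻¹' {σ : Perm (Fin n) | σ.IsThreeCycle}) = ⊤ from
          Subgroup.map_injective (Subgroup.subtype_injective _) (by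
            rw [MonoidHom.map_closure, Set.image_preimage_eq_of_subset, h, ← MonoidHom.range_eq_map,
              Subgroup.range_subtype]
            intro x hx
            exact ⟨⟨x, hx.mem_alternatingGroup⟩, rfl⟩)]
        rw [Subgroup.closure_le]
        intro x hx
        have hγ3 : γ.1.IsThreeCycle := by
          have : γ.1 = swap q1 q0 * swap q1 q2 := by
            show Equiv.swap q0 q1 * Equiv.swap q1 q2 = _
            rw [Equiv.swap_comm q0 q1]
          rw [this]
          exact Perm.isThreeCycle_swap_mul_swap_same ne01.symm ne12 ne02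
        obtain ⟨c, hc⟩ := isConj_iff.1 (Perm.isConj_iff_cycleType_eq.2 (hγ3.cycleType.trans (Eq.symm hx.cycleType)))
        obtain ⟨π, hπ | hπ⟩ := hev c q0 q1 ne01
        · have : x = π * γ * π⁻¹ := Subtype.ext (by show x.1 = π.1 * γ.1 * π.1⁻¹; rw [hπ, hc]; rfl)
          show j' x ∈ M
          rw [this, map_mul, map_mul, map_inv]
          exact hnorm π _ hγ
        · have : x = π * (γ * γ) * π⁻¹ := by
            refine Subtype.ext ?_
            show x.1 = π.1 * (γ.1 * γ.1) * π.1⁻¹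
            have hflip : swap q0 q1 * (γ.1 * γ.1) = γ.1 * swap q0 q1 := by
              have hs : γ.1 = swap q0 q1 * swap q1 q2 := rfl
              have h3 : γ.1 * γ.1 * γ.1 = 1 := by
                rw [← pow_two, ← pow_succ]
                show γ.1 ^ 3 = 1
                rw [← hγ3.orderOf, pow_orderOf_eq_one]
              have hinv : γ.1 * γ.1 = γ.1⁻¹ := eq_inv_of_mul_eq_one_left h3
              rw [hinv, hs, _root_.mul_inv_rev, Perm.inv_def, Perm.inv_def (swap q0 q1), symm_swap, symm_swap]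
              simp [mul_assoc]
            rw [hπ, mul_assoc c, hflip, _root_.mul_inv_rev, show (swap q0 q1)⁻¹ = swap q0 q1 from swap_inv _ _]
            rw [← mul_assoc c, mul_assoc (c * γ.1), ← mul_assoc (swap q0 q1), Equiv.swap_mul_self, one_mul, hc]
            rfl
          show j' x ∈ M
          rw [this, map_mul, map_mul, map_mul, map_inv]
          exact hnorm π _ (M.mul_mem hγ hγ)
      rw [htop]; trivial
    exact hσ
  rw [eq_top_iff, ← hgen]
  exact sup_le hiM hjM

end Cfsg.Agent.Lie.SLnPres
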