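import Cfsg.Agent.Lib.Lie.SLnPres
import Cfsg.Agent.Lib.Lie.Sl2PresFinal

/-!
One element of `SL₂(F)` generating it together with its mirror image.
-/

set_option autoImplicit false
set_option linter.unusedSectionVars false

namespace Cfsg.Agent.Lie.Sl2Pair

open Matrix Equiv
open Cfsg.Agent.Lie.Sl2Pres

variable {F : Type*} [Field F] [Fintype F]

/-- Exchanging the two coordinates. -/
def flip2 : SpecialLinearGroup (Fin 2) F →* SpecialLinearGroup (Fin 2) F where
  toFun A := ⟨!![A.val 1 1, A.val 1 0; A.val 0 1, A.val 0 0], by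
    have h := A.prop
    rw [Matrix.det_fin_two] at h
    rw [Matrix.det_fin_two_of]
    linear_combination h⟩
  map_one' := Subtype.ext (by
    show !![(1 : Matrix (Fin 2) (Fin 2) F) 1 1, _; _, _] = _
    ext a b; fin_cases a <;> fin_cases b <;> simp)
  map_mul' A B := Subtype.ext (by
    show !![(A.val * B.val) 1 1, _; _, _] = !![A.val 1 1, _; _, _] * !![B.val 1 1, _; _, _]
    ext a b; fin_cases a <;> fin_cases b <;> simp [Matrix.mul_apply, Fin.sum_univ_two, add_comm])

theorem flip2_val (A : SpecialLinearGroup (Fin 2) F) :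
    (flip2 A).val = !![A.val 1 1, A.val 1 0; A.val 0 1, A.val 0 0] := rfl

theorem flip2_flip2 (A : SpecialLinearGroup (Fin 2) F) : flip2 (flip2 A) = A :=
  Subtype.ext (by
    show !![_, _; _, _] = A.val
    ext a b; fin_cases a <;> fin_cases b <;> simp [flip2_val])

/-- Lower unitriangular. -/
def slL (t : F) : SpecialLinearGroup (Fin 2) F := flip2 (slU t)

theorem slL_val (t : F) : (slL t : SpecialLinearGroup (Fin 2) F).val = !![1, 0; t, 1] := by
  rw [slL, flip2_val]; simp [slU]

theorem slL_add (x y : F) : slL (x + y) = slL x * slL y := by rw [slL, slL, slL, slU_add, map_mul]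

theorem slW_eq : (slW : SpecialLinearGroup (Fin 2) F) = slU 1 * slL (-1) * slU 1 := by
  refine Subtype.ext ?_
  show (slW : SpecialLinearGroup (Fin 2) F).val = (slU (1 : F)).val * (slL (-1 : F)).val * (slU (1 : F)).val
  rw [slL_val]
  simp [slW, slU]

theorem top_of_root_groups {K : Subgroup (SpecialLinearGroup (Fin 2) F)} (hU : ∀ t, slU t ∈ K)
    (hL : ∀ t, slL t ∈ K) : K = ⊤ := by
  rw [eq_top_iff, ← closure_slU_slW, Subgroup.closure_le]
  rintro x (⟨t, rfl⟩ | hx)
  · exact hU t
  · rw [Set.mem_singleton_iff] at hx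
    rw [hx, SetLike.mem_coe, slW_eq]
    exact K.mul_mem (K.mul_mem (hU _) (hL _)) (hU _)

theorem slH_conj_slL (x : Fˣ) (t : F) : (slH x)⁻¹ * slL t * slH x = slL ((x : F) ^ 2 * t) := by
  rw [mul_assoc, inv_mul_eq_iff_eq_mul]
  refine Subtype.ext ?_
  show (slL t).val * (slH x).val = (slH x).val * (slL ((x : F) ^ 2 * t)).val
  rw [slL_val, slL_val]
  simp [slH]
  field_simp

/-- A torus and an element exchanging one of its lines into the other generate. -/
theorem top_of_torus {ω : Fˣ} (hordF : orderOf (ω : F) = Nat.card F - 1) (hω2 : (ω : F) ^ 2 ≠ 1)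
    {K : Subgroup (SpecialLinearGroup (Fin 2) F)} (hh : slH ω ∈ K) {g : SpecialLinearGroup (Fin 2) F}
    (hg : g ∈ K) (h00 : g.val 0 0 = 0) (h11 : g.val 1 1 ≠ 0) : K = ⊤ := by
  have hdet : g.val 0 1 * g.val 1 0 = -1 := by
    have h := g.prop
    rw [Matrix.det_fin_two, h00] at h
    linear_combination -h
  have hω := ω.ne_zero
  set d := g.val 1 0 * g.val 1 1 * ((ω : F) ^ 2 - 1) with hd
  have hd0 : d ≠ 0 := mul_ne_zero (mul_ne_zero (fun e => by simp [e] at hdet) h11) (sub_ne_zero.2 hω2)
  have hdK : slL d ∈ K := by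
    have e : g * slH ω * g⁻¹ * slH ω = slL d := by
      refine Subtype.ext ?_
      show g.val * (slH ω).val * Matrix.adjugate g.val * (slH ω).val = (slL d).val
      rw [slL_val, Matrix.adjugate_fin_two]
      ext a b
      fin_cases a <;> fin_cases b <;>
        simp [slH, Matrix.mul_apply, Fin.sum_univ_two, h00, hd] <;> field_simp <;> grobner
    rw [← e]
    exact K.mul_mem (K.mul_mem (K.mul_mem hg hh) (K.inv_mem hg)) hh
  have hL : ∀ t, slL t ∈ K := by
    intro t
    have key : ∀ s : F, slL (s * d) ∈ K := by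
      refine Sl3Pres.all_of_span (SLnPres.sq_span hordF) (P := fun s => slL (s * d) ∈ K) ?_ ?_ ?_
      · rw [zero_mul, slL, slU_zero, map_one]; exact K.one_mem
      · intro x y hx hy
        rw [add_mul, slL_add]; exact K.mul_mem hx hy
      · rintro _ ⟨m, rfl⟩
        have := slH_conj_slL (ω ^ m) d
        rw [Units.val_pow_eq_pow_val, ← pow_mul, mul_comm m 2, pow_mul] at this
        rw [← this, ← slH_pow]
        exact K.mul_mem (K.mul_mem (K.inv_mem (K.pow_mem hh m)) hdK) (K.pow_mem hh m)
    have := key (t * d⁻¹)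
    rwa [mul_assoc, inv_mul_cancel₀ hd0, mul_one] at this
  have hb : g.val 0 1 ≠ 0 := fun e => by simp [e] at hdet
  have hU : ∀ t, slU t ∈ K := by
    intro t
    set s := -(t / (g.val 0 1) ^ 2) with hs
    have e : g⁻¹ * slL s * g = slU t := by
      refine Subtype.ext ?_
      show Matrix.adjugate g.val * (slL s).val * g.val = (slU t).val
      rw [slL_val, Matrix.adjugate_fin_two]
      ext a b
      fin_cases a <;> fin_cases b <;>
        simp [slU, Matrix.mul_apply, Fin.sum_univ_two, h00, hs] <;> field_simp <;> grobner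
    rw [← e]
    exact K.mul_mem (K.mul_mem (K.inv_mem hg) (hL s)) hg
  exact top_of_root_groups hU hL

/-- The torus element based at `c`. -/
def baseX (c : F) (ω : Fˣ) : SpecialLinearGroup (Fin 2) F := slU c * slH ω * (slU c)⁻¹

theorem top_of_baseX {ω : Fˣ} (hordF : orderOf (ω : F) = Nat.card F - 1) (hω2 : (ω : F) ^ 2 ≠ 1) (c : F)
    {g : SpecialLinearGroup (Fin 2) F} (hg : g ∈ Subgroup.closure {baseX c ω, flip2 (baseX c ω)})
    (h00 : ((slU c)⁻¹ * g * slU c).val 0 0 = 0) (h11 : ((slU c)⁻¹ * g * slU c).val 1 1 ≠ 0) :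
    Subgroup.closure {baseX c ω, flip2 (baseX c ω)} = ⊤ := by
  set K := Subgroup.closure {baseX c ω, flip2 (baseX c ω)}
  set cj := (MulAut.conj (slU c)).toMonoidHom
  have h := top_of_torus hordF hω2 (K := K.comap cj) (g := (slU c)⁻¹ * g * slU c) ?_ ?_ h00 h11
  · refine eq_top_iff.2 fun y _ => ?_
    have hy : (slU c)⁻¹ * y * slU c ∈ K.comap cj := h ▸ Subgroup.mem_top _
    have hy' : slU c * ((slU c)⁻¹ * y * slU c) * (slU c)⁻¹ ∈ K := hy
    rwa [show slU c * ((slU c)⁻¹ * y * slU c) * (slU c)⁻¹ = y by group] at hy'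
  · show slU c * slH ω * (slU c)⁻¹ ∈ K
    exact Subgroup.subset_closure (Set.mem_insert _ _)
  · show slU c * ((slU c)⁻¹ * g * slU c) * (slU c)⁻¹ ∈ K
    rwa [show slU c * ((slU c)⁻¹ * g * slU c) * (slU c)⁻¹ = g by group]

theorem exists_pair_prime (h : ∀ t : F, ∃ n : ℕ, (n : F) = t) :
    ∃ x : SpecialLinearGroup (Fin 2) F, Subgroup.closure {x, flip2 x} = ⊤ := by
  refine ⟨slU 1, top_of_root_groups (fun t => ?_) fun t => ?_⟩ <;> obtain ⟨n, rfl⟩ := h t
  · have := Subgroup.pow_mem _ (Subgroup.subset_closure (Set.mem_insert (slU (1 : F)) {flip2 (slU 1)})) n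
    rwa [slU_pow, mul_one] at this
  · have := Subgroup.pow_mem _
      (Subgroup.subset_closure (Set.mem_insert_of_mem (slU (1 : F)) (Set.mem_singleton (flip2 (slU (1 : F)))))) n
    rwa [← map_pow, slU_pow, mul_one] at this

set_option maxHeartbeats 1000000 in
theorem exists_pair_sq {ω : Fˣ} (hgen : ∀ x : Fˣ, ∃ n : ℕ, x = ω ^ n)
    (hordF : orderOf (ω : F) = Nat.card F - 1) (hω2 : (ω : F) ^ 2 ≠ 1) {c s : F} (hc : c ≠ 0) (hs : s ≠ 0)
    (hcs : c ^ 2 - 1 = s ^ 2) (hc2 : 2 * c ^ 2 ≠ 1) :
    ∃ x : SpecialLinearGroup (Fin 2) F, Subgroup.closure {x, flip2 x} = ⊤ := by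
  obtain ⟨k, hk⟩ := hgen (Units.mk0 (s / c) (div_ne_zero hs hc))
  refine ⟨baseX c ω, top_of_baseX hordF hω2 c (g := flip2 (baseX c ω) ^ k)
    (Subgroup.pow_mem _ (Subgroup.subset_closure (Set.mem_insert_of_mem _ (Set.mem_singleton _))) k) ?_ ?_⟩
  all_goals
    have e : ((slU c)⁻¹ * flip2 (baseX c ω) ^ k * slU c).val =
        (slU (-c)).val * (flip2 (slU c * slH (ω ^ k) * slU (-c))).val * (slU c).val := by
      rw [baseX, ← map_pow, conj_pow, slH_pow, slU_inv]
      rfl
    have eX : (slU c * slH (ω ^ k) * slU (-c)).val =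
        !![1, c; 0, 1] * !![s / c, 0; 0, (s / c)⁻¹] * !![1, -c; 0, 1] := by
      rw [← hk]
      show (slU c).val * (slH (Units.mk0 (s / c) (div_ne_zero hs hc))).val * (slU (-c)).val = _
      simp [slH, slU]
    rw [e, flip2_val, eX]
  · simp [slU, Matrix.mul_apply, Fin.sum_univ_two]
    field_simp
    linear_combination (-c) * hcs
  · intro h
    simp [slU, Matrix.mul_apply, Fin.sum_univ_two] at h
    field_simp at h
    apply hc2
    grobner

theorem exists_pair_nine {ω : Fˣ} (hordF : orderOf (ω : F) = Nat.card F - 1) (hω2 : (ω : F) ^ 2 ≠ 1)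
    (h3 : (3 : F) = 0) (hω : (ω : F) ^ 2 = ω + 1) :
    ∃ x : SpecialLinearGroup (Fin 2) F, Subgroup.closure {x, flip2 x} = ⊤ := by
  set w : F := (ω : F) with hw
  set c : F := 1 - w with hc
  set x := baseX c ω with hx
  set y := flip2 x with hy
  have hxm : x ∈ Subgroup.closure {x, y} := Subgroup.subset_closure (Set.mem_insert _ _)
  have hym : y ∈ Subgroup.closure {x, y} := Subgroup.subset_closure (Set.mem_insert_of_mem _ (Set.mem_singleton _))
  have hwi : ((ω⁻¹ : Fˣ) : F) = w - 1 := by
    rw [Units.val_inv_eq_inv_val]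
    refine inv_eq_of_mul_eq_one_right ?_
    linear_combination hω
  have xval : x.val = !![w, w - 1; 0, w - 1] := by
    rw [hx, baseX, slU_inv]
    show (slU c).val * (slH ω).val * (slU (-c)).val = _
    ext a b
    fin_cases a <;> fin_cases b <;> simp [slH, slU, Matrix.mul_apply, Fin.sum_univ_two, hwi] <;> grobner
  have yval : y.val = !![w - 1, 0; w - 1, w] := by rw [hy, flip2_val, xval]; simp
  have eg : ((slU c)⁻¹ * (y * x * x * y * y) * slU c).val =
      !![1, -c; 0, 1] * (!![w - 1, 0; w - 1, w] * !![w, w - 1; 0, w - 1] * !![w, w - 1; 0, w - 1] *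
        !![w - 1, 0; w - 1, w] * !![w - 1, 0; w - 1, w]) * !![1, c; 0, 1] := by
    rw [slU_inv]
    show (slU (-c)).val * (y.val * x.val * x.val * y.val * y.val) * (slU c).val = _
    rw [xval, yval]
    rfl
  refine ⟨x, top_of_baseX hordF hω2 c (g := y * x * x * y * y)
    (Subgroup.mul_mem _ (Subgroup.mul_mem _ (Subgroup.mul_mem _ (Subgroup.mul_mem _ hym hxm) hxm) hym) hym) ?_ ?_⟩
  · rw [eg]
    simp [Matrix.mul_apply, Fin.sum_univ_two, hc]
    grobner
  · intro h
    rw [eg] at h
    simp [Matrix.mul_apply, Fin.sum_univ_two, hc] at h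
    have : (1 : F) + 2 * w = 0 := by grobner
    have : (1 : F) = 0 := by grobner
    exact one_ne_zero this

/-- An element generating `SL₂(F)` with its mirror image. -/
theorem exists_pair : ∃ x : SpecialLinearGroup (Fin 2) F, Subgroup.closure {x, flip2 x} = ⊤ := by
  classical
  obtain ⟨p, hpc⟩ := CharP.exists F
  obtain ⟨e, hp, he⟩ := FiniteField.card F p
  haveI := Fact.mk hp
  by_cases hpr : ∀ t : F, ∃ n : ℕ, (n : F) = t
  · exact exists_pair_prime hpr
  have he2 : 2 ≤ (e : ℕ) := by
    by_contra hc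
    apply hpr
    have h1 : (e : ℕ) = 1 := by have := e.pos; omega
    have hcard : Fintype.card F = p := by rw [he, h1, pow_one]
    intro t
    letI : Algebra (ZMod p) F := ZMod.algebra F p
    obtain ⟨z, hz⟩ := ((Fintype.bijective_iff_injective_and_card (algebraMap (ZMod p) F)).2
      ⟨(algebraMap (ZMod p) F).injective, by rw [ZMod.card, hcard]⟩).2 t
    exact ⟨z.val, by rw [← hz, ← map_natCast (algebraMap (ZMod p) F), ZMod.natCast_zmod_val]⟩
  have hq : p ^ 2 ≤ Fintype.card F := by rw [he]; exact Nat.pow_le_pow_right hp.pos he2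
  have hq4 : 4 ≤ Fintype.card F := le_trans (by nlinarith [hp.two_le]) hq
  obtain ⟨ω, hω⟩ := IsCyclic.exists_monoid_generator (α := Fˣ)
  have hgen : ∀ x : Fˣ, ∃ n : ℕ, x = ω ^ n := fun x => by
    obtain ⟨n, hn⟩ := hω x
    exact ⟨n, hn.symm⟩
  have hordU : orderOf ω = Nat.card F - 1 := by
    rw [orderOf_eq_card_of_forall_mem_zpowers (fun x => by
      obtain ⟨n, rfl⟩ := hgen x
      exact Subgroup.mem_zpowers_iff.2 ⟨n, zpow_natCast ω n⟩), Nat.card_units]
  have hordF : orderOf (ω : F) = Nat.card F - 1 := by rw [orderOf_units, hordU]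
  have hω2 : ∀ {u : F}, orderOf u = Nat.card F - 1 → u ^ 2 ≠ 1 := fun {u} hu h => by
    have := Nat.le_of_dvd two_pos (orderOf_dvd_of_pow_eq_one h)
    rw [hu, Nat.card_eq_fintype_card] at this
    omega
  by_cases h2 : p = 2
  · subst h2
    have h20 : (2 : F) = 0 := by
      have := CharP.cast_eq_zero F 2
      exact_mod_cast this
    refine exists_pair_sq hgen hordF (hω2 hordF) (c := (ω : F)) (s := (ω : F) + 1) ω.ne_zero ?_ ?_ ?_
    · intro h
      apply hω2 hordF
      linear_combination ((ω : F) - 1) * h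
    · linear_combination (-((ω : F) + 1)) * h20
    · rw [h20, zero_mul]; exact zero_ne_one
  have h20 : (2 : F) ≠ 0 := by
    intro h
    have : ((2 : ℕ) : F) = 0 := by exact_mod_cast h
    rw [CharP.cast_eq_zero_iff F p] at this
    exact h2 ((Nat.prime_dvd_prime_iff_eq hp Nat.prime_two).1 this)
  by_cases h9 : Fintype.card F ≤ 9
  · have hp3 : p = 3 := by
      have : p ^ 2 ≤ 9 := hq.trans h9
      have := hp.two_le
      rcases (show p = 3 ∨ 4 ≤ p by omega) with h | h
      · exact h
      · nlinarith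
    subst hp3
    have hc9 : Fintype.card F = 9 := by omega
    have h3 : (3 : F) = 0 := by
      have := CharP.cast_eq_zero F 3
      exact_mod_cast this
    have h8 : (ω : F) ^ 8 = 1 := by
      have := pow_orderOf_eq_one (ω : F)
      rwa [hordF, Nat.card_eq_fintype_card, hc9] at this
    have h4 : (ω : F) ^ 4 = -1 := by
      have : ((ω : F) ^ 4 - 1) * ((ω : F) ^ 4 + 1) = 0 := by linear_combination h8
      rcases mul_eq_zero.1 this with h | h
      · exfalso
        have h' := Nat.le_of_dvd (by norm_num) (orderOf_dvd_of_pow_eq_one (sub_eq_zero.1 h))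
        rw [hordF, Nat.card_eq_fintype_card, hc9] at h'
        omega
      · linear_combination h
    have : ((ω : F) ^ 2 - ω - 1) * ((ω : F) ^ 2 + ω - 1) = 0 := by
      linear_combination h4 - (ω : F) ^ 2 * h3
    rcases mul_eq_zero.1 this with h | h
    · exact exists_pair_nine hordF (hω2 hordF) h3 (by linear_combination h)
    · have hneg : orderOf (((-ω : Fˣ) : Fˣ) : F) = Nat.card F - 1 := by
        have e5 : ((-ω : Fˣ) : F) = (ω : F) ^ 5 := by
          rw [Units.val_neg]; linear_combination -(ω : F) * h4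
        rw [e5, orderOf_pow' _ (by norm_num), hordF, Nat.card_eq_fintype_card, hc9]
        rfl
      exact exists_pair_nine hneg (hω2 hneg) h3 (by rw [Units.val_neg]; linear_combination h)
  · have hq11 : 10 ≤ Fintype.card F := by omega
    -- a parameter avoiding nine values
    let bad : Finset F := insert 0 ((Polynomial.nthRoots 8 (1 : F)).toFinset)
    have hbad : bad.card < (Finset.univ : Finset F).card := by
      refine lt_of_le_of_lt (Finset.card_insert_le _ _) ?_
      have : (Polynomial.nthRoots 8 (1 : F)).toFinset.card ≤ 8 :=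
        (Multiset.toFinset_card_le _).trans (Polynomial.card_nthRoots 8 1)
      rw [Finset.card_univ]
      omega
    obtain ⟨t, -, ht⟩ := Finset.exists_mem_notMem_of_card_lt_card hbad
    simp only [bad, Finset.mem_insert, Multiset.mem_toFinset, Polynomial.mem_nthRoots (show 0 < 8 by norm_num),
      not_or] at ht
    obtain ⟨ht0, ht8⟩ := ht
    refine exists_pair_sq hgen hordF (hω2 hordF) (c := (t + t⁻¹) / 2) (s := (t - t⁻¹) / 2) ?_ ?_ ?_ ?_
    · intro h
      apply ht8
      field_simp at h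
      grobner
    · intro h
      apply ht8
      field_simp at h
      grobner
    · field_simp
      ring
    · intro h
      apply ht8
      field_simp at h
      grobner

end Cfsg.Agent.Lie.Sl2Pair
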