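import Cfsg.Agent.Lib.Lie.SLnCore
import Cfsg.Agent.Lib.Lie.Sl2Pair
import Cfsg.Agent.Lib.Lie.PresOn

/-!
Gluing `SL₃(F)` and the even permutations along one element of `SL₂(F)`.
-/

set_option autoImplicit false
set_option linter.unusedSectionVars false
set_option maxHeartbeats 1000000

namespace Cfsg.Agent.Lie.SLnSeven

open Matrix Equiv Cfsg.Agent.Lie.Pres Cfsg.Agent.Lie.SLnPres
open Cfsg.Agent.Lie.Sl2Pres (slU)
open Cfsg.Agent.Lie.Sl2Pair (flip2 slL slL_val flip2_flip2 top_of_root_groups)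
open Cfsg.Agent.Lie.Sl3Pres (tv pC tv_val tv_add)
open scoped commutatorElement

variable {F : Type*} [Field F] [Fintype F] {k : ℕ}

/-- `SL₂` in the upper left corner of `SL₃`. -/
def emb2 : SpecialLinearGroup (Fin 2) F →* SpecialLinearGroup (Fin 3) F where
  toFun A := ⟨!![A.val 0 0, A.val 0 1, 0; A.val 1 0, A.val 1 1, 0; 0, 0, 1], by
    have h := A.prop
    rw [det_fin_two] at h
    simp [det_fin_three]
    linear_combination h⟩
  map_one' := Subtype.ext (by
    show !![(1 : Matrix (Fin 2) (Fin 2) F) 0 0, _, _; _, _, _; _, _, _] = (1 : Matrix (Fin 3) (Fin 3) F)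
    ext a b; fin_cases a <;> fin_cases b <;> simp)
  map_mul' A B := Subtype.ext (by
    show !![(A.val * B.val) 0 0, _, _; _, _, _; _, _, _] =
      !![A.val 0 0, _, _; _, _, _; _, _, _] * !![B.val 0 0, _, _; _, _, _; _, _, _]
    ext a b; fin_cases a <;> fin_cases b <;> simp [Matrix.mul_apply, Fin.sum_univ_two, Fin.sum_univ_three])

theorem emb2_slU (t : F) : emb2 (slU t) = tv 0 1 t := by
  refine Subtype.ext ?_
  rw [tv_val (by decide)]
  show !![(slU t).val 0 0, (slU t).val 0 1, 0; (slU t).val 1 0, (slU t).val 1 1, 0; 0, 0, 1] = _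
  ext a b
  fin_cases a <;> fin_cases b <;> simp [slU, Matrix.transvection, Matrix.single_apply]

theorem emb2_slL (t : F) : emb2 (slL t) = tv 1 0 t := by
  refine Subtype.ext ?_
  rw [tv_val (by decide)]
  show !![(slL t).val 0 0, (slL t).val 0 1, 0; (slL t).val 1 0, (slL t).val 1 1, 0; 0, 0, 1] = _
  ext a b
  fin_cases a <;> fin_cases b <;> simp [slL_val, Matrix.transvection, Matrix.single_apply]

/-- The block at the first two coordinates. -/
def blk : SpecialLinearGroup (Fin 2) F →* SpecialLinearGroup (Fin (3 + k)) F := (emb3 (k := k)).comp emb2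

theorem blk_slU (t : F) :
    (blk (k := k) (slU t)).val = Matrix.transvection (lead k 0) (lead k 1) t := by
  show (emb3 (emb2 (slU t))).val = _
  rw [emb2_slU, emb3_tv (by decide)]

theorem blk_slL (t : F) :
    (blk (k := k) (slL t)).val = Matrix.transvection (lead k 1) (lead k 0) t := by
  show (emb3 (emb2 (slL t))).val = _
  rw [emb2_slL, emb3_tv (by decide)]

theorem hom_eq {H : Type*} [Group H] {f g : SpecialLinearGroup (Fin 2) F →* H} (hU : ∀ t, f (slU t) = g (slU t))
    (hL : ∀ t, f (slL t) = g (slL t)) : f = g := by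
  have h : f.eqLocus g = ⊤ := top_of_root_groups hU hL
  exact MonoidHom.ext fun A => (h.symm ▸ Subgroup.mem_top A : A ∈ f.eqLocus g)

theorem hom_commute {H : Type*} [Group H] {f : SpecialLinearGroup (Fin 2) F →* H} {z : H}
    (hU : ∀ t, Commute (f (slU t)) z) (hL : ∀ t, Commute (f (slL t)) z) (A : SpecialLinearGroup (Fin 2) F) :
    Commute (f A) z := by
  have h : (Subgroup.centralizer {z}).comap f = ⊤ := top_of_root_groups
    (fun t => Subgroup.mem_centralizer_iff.2 fun y hy => by rw [Set.mem_singleton_iff.1 hy]; exact (hU t).eq.symm)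
    (fun t => Subgroup.mem_centralizer_iff.2 fun y hy => by rw [Set.mem_singleton_iff.1 hy]; exact (hL t).eq.symm)
  have hA : f A ∈ Subgroup.centralizer {z} := (h.symm ▸ Subgroup.mem_top A : A ∈ (Subgroup.centralizer {z}).comap f)
  exact (Subgroup.mem_centralizer_iff.1 hA z rfl).symm

/-! ### The facts in `SL_n(F)` -/

theorem permSL_blk_flip (σ : alternatingGroup (Fin (3 + k))) (h0 : σ.1 (lead k 0) = lead k 1)
    (h1 : σ.1 (lead k 1) = lead k 0) (A : SpecialLinearGroup (Fin 2) F) :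
    permSL σ * blk A * (permSL σ)⁻¹ = blk (flip2 A) := by
  refine DFunLike.congr_fun (hom_eq (f := (MulAut.conj (permSL σ)).toMonoidHom.comp blk)
    (g := blk.comp flip2) (fun t => Subtype.ext ?_) fun t => Subtype.ext ?_) A
  · show (permSL σ * blk (slU t) * (permSL σ)⁻¹).val = (blk (slL t)).val
    rw [permSL_conj_tv σ (blk_slU t), h0, h1, blk_slL]
  · show (permSL σ * blk (slL t) * (permSL σ)⁻¹).val = (blk (flip2 (flip2 (slU t)))).val
    rw [flip2_flip2, permSL_conj_tv σ (blk_slL t), h0, h1, blk_slU]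

theorem permSL_blk_stab (σ : alternatingGroup (Fin (3 + k))) (h0 : σ.1 (lead k 0) = lead k 0)
    (h1 : σ.1 (lead k 1) = lead k 1) (A : SpecialLinearGroup (Fin 2) F) :
    Commute (permSL σ) (blk A) := by
  refine (hom_commute (f := blk) (fun t => ?_) (fun t => ?_) A).symm
  · have e : permSL σ * blk (slU t) * (permSL σ)⁻¹ = blk (slU t) :=
      Subtype.ext (by rw [permSL_conj_tv σ (blk_slU t), h0, h1, blk_slU])
    exact (mul_inv_eq_iff_eq_mul.1 e).symm
  · have e : permSL σ * blk (slL t) * (permSL σ)⁻¹ = blk (slL t) :=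
      Subtype.ext (by rw [permSL_conj_tv σ (blk_slL t), h0, h1, blk_slL])
    exact (mul_inv_eq_iff_eq_mul.1 e).symm

/-- The permutation moves the first two indices away from themselves. -/
def Away (ρ : alternatingGroup (Fin (3 + k))) : Prop :=
  ρ.1 (lead k 0) ≠ lead k 0 ∧ ρ.1 (lead k 0) ≠ lead k 1 ∧ ρ.1 (lead k 1) ≠ lead k 0 ∧
    ρ.1 (lead k 1) ≠ lead k 1

theorem permSL_blk_away {ρ : alternatingGroup (Fin (3 + k))} (hρ : Away ρ) (A B : SpecialLinearGroup (Fin 2) F) :
    Commute (blk A) (permSL ρ * blk B * (permSL ρ)⁻¹) := by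
  obtain ⟨a0, a1, b0, b1⟩ := hρ
  have ne01 : (lead k 0) ≠ lead k 1 := lead_ne (by decide)
  have ne : ρ.1 (lead k 0) ≠ ρ.1 (lead k 1) := fun e => ne01 (ρ.1.injective e)
  have key : ∀ {M : SpecialLinearGroup (Fin (3 + k)) F} {i j : Fin (3 + k)} {t : F},
      M.val = Matrix.transvection i j t → i ≠ j →
      (i = lead k 0 ∨ i = lead k 1) → (j = lead k 0 ∨ j = lead k 1) → ∀ s,
      Commute M (permSL ρ * blk (slU s) * (permSL ρ)⁻¹) ∧ Commute M (permSL ρ * blk (slL s) * (permSL ρ)⁻¹) := by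
    intro M i j t hM hij hi hj s
    have f1 : ∀ x, (x = lead k 0 ∨ x = lead k 1) → x ≠ ρ.1 (lead k 0) ∧ x ≠ ρ.1 (lead k 1) := by
      rintro x (rfl | rfl)
      exacts [⟨a0.symm, b0.symm⟩, ⟨a1.symm, b1.symm⟩]
    constructor <;> refine Subtype.ext ?_
    · show M.val * (permSL ρ * blk (slU s) * (permSL ρ)⁻¹).val = (permSL ρ * blk (slU s) * (permSL ρ)⁻¹).val * M.val
      rw [permSL_conj_tv ρ (blk_slU s), hM]
      exact (Cfsg.Agent.Lie.SLSteinberg.transvection_rels hij ne (f1 i hi).2 t s).1 (f1 j hj).1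
    · show M.val * (permSL ρ * blk (slL s) * (permSL ρ)⁻¹).val = (permSL ρ * blk (slL s) * (permSL ρ)⁻¹).val * M.val
      rw [permSL_conj_tv ρ (blk_slL s), hM]
      exact (Cfsg.Agent.Lie.SLSteinberg.transvection_rels hij ne.symm (f1 i hi).1 t s).1 (f1 j hj).2
  refine hom_commute (f := blk) (fun t => ?_) (fun t => ?_) A
  · exact (hom_commute (f := (MulAut.conj (permSL ρ)).toMonoidHom.comp blk)
      (fun s => (key (blk_slU t) ne01 (Or.inl rfl) (Or.inr rfl) s).1.symm)
      (fun s => (key (blk_slU t) ne01 (Or.inl rfl) (Or.inr rfl) s).2.symm) B).symm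
  · exact (hom_commute (f := (MulAut.conj (permSL ρ)).toMonoidHom.comp blk)
      (fun s => (key (blk_slL t) ne01.symm (Or.inr rfl) (Or.inl rfl) s).1.symm)
      (fun s => (key (blk_slL t) ne01.symm (Or.inr rfl) (Or.inl rfl) s).2.symm) B).symm

theorem permSL_gamma (γ : alternatingGroup (Fin (3 + k)))
    (hγ : γ.1 = swap (lead k 0) (lead k 1) * swap (lead k 1) (lead k 2)) :
    permSL γ = emb3 (pC : SpecialLinearGroup (Fin 3) F) := by
  have ne01 : lead k 0 ≠ lead k 1 := lead_ne (by decide)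
  have ne02 : lead k 0 ≠ lead k 2 := lead_ne (by decide)
  have ne12 : lead k 1 ≠ lead k 2 := lead_ne (by decide)
  have γ0 : γ.1 (lead k 0) = lead k 1 ∧ γ.1 (lead k 1) = lead k 2 ∧ γ.1 (lead k 2) = lead k 0 := by
    rw [hγ]
    simp [swap_apply_def, ne01, ne12, ne02, ne01.symm, ne12.symm, ne02.symm]
  refine Subtype.ext ?_
  show (γ.1⁻¹).permMatrix F = reindexAlgEquiv F F (eS k) (fromBlocks (pC : SpecialLinearGroup (Fin 3) F).val 0 0 1)
  ext x y
  obtain ⟨x, rfl⟩ := (eS k).surjective x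
  obtain ⟨y, rfl⟩ := (eS k).surjective y
  rw [reindexAlgEquiv_apply, reindex_apply, submatrix_apply, Equiv.symm_apply_apply, Equiv.symm_apply_apply]
  simp only [Perm.permMatrix, PEquiv.toMatrix_apply, Equiv.toPEquiv_apply, Option.mem_def, Option.some.injEq]
  have hfix : ∀ b : Fin k, γ.1 (eS k (Sum.inr b)) = eS k (Sum.inr b) := fun b => by
    rw [hγ, Perm.mul_apply, swap_apply_of_ne_of_ne (lead_ne_inr 1 b).symm (lead_ne_inr 2 b).symm,
      swap_apply_of_ne_of_ne (lead_ne_inr 0 b).symm (lead_ne_inr 1 b).symm]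
  have hsw : ∀ z w, (γ.1⁻¹ z = w) ↔ γ.1 w = z := fun z w =>
    ⟨fun e => by rw [← e]; exact γ.1.apply_symm_apply z, fun e => by rw [← e]; exact γ.1.symm_apply_apply w⟩
  simp only [hsw]
  rcases y with y | y
  · have hy : γ.1 (eS k (Sum.inl y)) = eS k (Sum.inl (y + 1)) := by
      fin_cases y
      · exact γ0.1
      · exact γ0.2.1
      · exact γ0.2.2
    rw [hy]
    rcases x with x | x
    · simp only [EmbeddingLike.apply_eq_iff_eq, Sum.inl.injEq, fromBlocks_apply₁₁]
      fin_cases x <;> fin_cases y <;> simp [pC]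
    · rw [if_neg (lead_ne_inr (y + 1) x)]; rfl
  · rw [hfix]
    rcases x with x | x
    · rw [if_neg (lead_ne_inr x y).symm]; rfl
    · simp only [EmbeddingLike.apply_eq_iff_eq, Sum.inr.injEq, fromBlocks_apply₂₂, Matrix.one_apply, eq_comm]

/-! ### The general presentation -/

theorem emb3_sup_permSL (hk : 1 ≤ k) :
    (emb3 (F := F) (k := k)).range ⊔ (permSL (F := F) (k := k)).range = ⊤ := by
  classical
  rw [eq_top_iff, ← Cfsg.Agent.Classical.SL_closure_transvections, Subgroup.closure_le]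
  rintro _ ⟨⟨a, b, hab, t⟩, rfl⟩
  have ne01 : lead k 0 ≠ lead k 1 := lead_ne (by decide)
  obtain ⟨π₀, hπ₀⟩ := exists_perm ![lead k 0, lead k 1] ![a, b]
    (by intro x y; fin_cases x <;> fin_cases y <;> simp [ne01, ne01.symm])
    (by intro x y; fin_cases x <;> fin_cases y <;> simp [hab, hab.symm])
  have key : ∀ π : alternatingGroup (Fin (3 + k)), π.1 (lead k 0) = a → π.1 (lead k 1) = b →
      (TransvectionStruct.toSpecialLinearGroup ⟨a, b, hab, t⟩ : SpecialLinearGroup (Fin (3 + k)) F) ∈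
        (emb3 (F := F) (k := k)).range ⊔ (permSL (F := F) (k := k)).range := by
    intro π h0 h1
    have e : (TransvectionStruct.toSpecialLinearGroup ⟨a, b, hab, t⟩ : SpecialLinearGroup (Fin (3 + k)) F) =
        permSL π * blk (slU t) * (permSL π)⁻¹ := by
      refine Subtype.ext ?_
      rw [permSL_conj_tv π (blk_slU t), h0, h1]
      rfl
    rw [e]
    refine mul_mem (mul_mem ?_ ?_) (inv_mem ?_)
    exacts [Subgroup.mem_sup_right ⟨π, rfl⟩, Subgroup.mem_sup_left ⟨emb2 (slU t), rfl⟩,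
      Subgroup.mem_sup_right ⟨π, rfl⟩]
  rcases Int.units_eq_one_or (Perm.sign π₀) with h | h
  · exact key ⟨π₀, Perm.mem_alternatingGroup.2 h⟩ (hπ₀ 0) (hπ₀ 1)
  · have ne23 : lead k 2 ≠ p3 hk := lead_ne_p3 hk 2
    refine key ⟨π₀ * swap (lead k 2) (p3 hk),
      Perm.mem_alternatingGroup.2 (by rw [map_mul, h, Perm.sign_swap ne23]; rfl)⟩ ?_ ?_
    · rw [Perm.mul_apply, swap_apply_of_ne_of_ne (lead_ne (by decide)) (lead_ne_p3 hk 0)]; exact hπ₀ 0
    · rw [Perm.mul_apply, swap_apply_of_ne_of_ne (lead_ne (by decide)) (lead_ne_p3 hk 1)]; exact hπ₀ 1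

/-- The letters of the relations. -/
abbrev Rel (F : Type*) [Field F] [Fintype F] (k : ℕ) :=
  FreeGroup (SpecialLinearGroup (Fin 3) F ⊕ alternatingGroup (Fin (3 + k)))

theorem presOn_glue (hk : 1 ≤ k) {α β : Type} {u : α → SpecialLinearGroup (Fin 3) F} {r3 : ℕ} (h3 : PresOn u r3)
    {v : β → alternatingGroup (Fin (3 + k))} {r : ℕ} (hA : PresOn v r) (L : List (Rel F k))
    (hL : ∀ x ∈ L, FreeGroup.lift (Sum.elim (emb3 (F := F) (k := k)) (permSL (F := F) (k := k))) x = 1)
    (hsuff : ∀ (G : Type) [Group G] (i' : SpecialLinearGroup (Fin 3) F →* G)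
      (j' : alternatingGroup (Fin (3 + k)) →* G) (π : G →* SpecialLinearGroup (Fin (3 + k)) F),
      π.comp i' = emb3 → π.comp j' = permSL → i'.range ⊔ j'.range = ⊤ →
      (∀ x ∈ L, FreeGroup.lift (Sum.elim i' j') x = 1) → Function.Injective π) :
    PresOn (Sum.elim (emb3 ∘ u) (permSL ∘ v)) (r3 + (r + L.length)) := by
  classical
  obtain ⟨LA, hlen, hLA, huniv⟩ := hA.lifts
  choose s3 hs3 using h3.surjective
  choose sA hsA using hA.surjective
  let tr : Rel F k →* FreeGroup (α ⊕ β) :=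
    FreeGroup.lift (Sum.elim (fun g => FreeGroup.map Sum.inl (s3 g)) (fun σ => FreeGroup.map Sum.inr (sA σ)))
  let T := SpecialLinearGroup (Fin (3 + k)) F
  let tv' : α ⊕ β → T := Sum.elim (emb3 ∘ u) (permSL ∘ v)
  have hl : (FreeGroup.lift tv').comp (FreeGroup.map Sum.inl) = emb3.comp (FreeGroup.lift u) :=
    FreeGroup.ext_hom _ _ fun a => by simp [tv']
  have hr : (FreeGroup.lift tv').comp (FreeGroup.map Sum.inr) = permSL.comp (FreeGroup.lift v) :=
    FreeGroup.ext_hom _ _ fun a => by simp [tv']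
  refine (h3.extend emb3 (permSL ∘ v) ?_ (LA.map (FreeGroup.map Sum.inr) ++ L.map tr) ?_ ?_).mono
    (by simp; omega)
  · rw [eq_top_iff, ← emb3_sup_permSL (F := F) hk]
    refine sup_le_sup le_rfl ?_
    rintro _ ⟨σ, rfl⟩
    obtain ⟨z, rfl⟩ := hA.surjective σ
    rw [← MonoidHom.comp_apply, show (permSL (F := F) (k := k)).comp (FreeGroup.lift v) =
      FreeGroup.lift (permSL ∘ v) from FreeGroup.ext_hom _ _ fun a => by simp,
      ← FreeGroup.range_lift_eq_closure]
    exact ⟨z, rfl⟩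
  · intro x hx
    rcases List.mem_append.1 hx with hx | hx
    · obtain ⟨y, hy, rfl⟩ := List.mem_map.1 hx
      rw [← MonoidHom.comp_apply, hr, MonoidHom.comp_apply, hLA y hy, map_one]
    · obtain ⟨y, hy, rfl⟩ := List.mem_map.1 hx
      have e : (FreeGroup.lift tv').comp tr =
          FreeGroup.lift (Sum.elim (emb3 (F := F) (k := k)) (permSL (F := F) (k := k))) :=
        FreeGroup.ext_hom _ _ fun a => by
          rcases a with g | σ
          · simp [tr, ← MonoidHom.comp_apply (FreeGroup.lift tv'), hl, hs3]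
          · simp [tr, ← MonoidHom.comp_apply (FreeGroup.lift tv'), hr, hsA]
      show ((FreeGroup.lift tv').comp tr) y = 1
      rw [e]
      exact hL y hy
  · intro G _ f ι π htop hf hπι hπt hall
    obtain ⟨j', hj'⟩ := huniv G (f.comp (FreeGroup.map Sum.inr)) fun z hz =>
      hall _ (List.mem_append_left _ (List.mem_map.2 ⟨z, hz, rfl⟩))
    have hjv : ∀ b, j' (v b) = f (FreeGroup.of (Sum.inr b)) := fun b => by
      simpa using DFunLike.congr_fun hj' (FreeGroup.of b)
    refine hsuff G ι j' π hπι (hA.hom_ext fun b => by rw [MonoidHom.comp_apply, hjv, hπt]; rfl) ?_ ?_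
    · rw [eq_top_iff, ← htop]
      refine sup_le_sup le_rfl ((Subgroup.closure_le _).2 ?_)
      rintro _ ⟨b, rfl⟩
      exact ⟨v b, hjv b⟩
    · intro y hy
      have e : f.comp tr = FreeGroup.lift (Sum.elim ι j') := FreeGroup.ext_hom _ _ fun a => by
        rcases a with g | σ
        · simp [tr, hf, hs3]
        · simp [tr, ← MonoidHom.comp_apply f, ← hj', hsA]
      rw [← e]
      exact hall _ (List.mem_append_right _ (List.mem_map.2 ⟨y, hy, rfl⟩))

end Cfsg.Agent.Lie.SLnSeven
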