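import Cfsg.Agent.Lib.Lie.SLnSevenBase
import Cfsg.Agent.Lib.Lie.AltShiftGen

/-!
Deriving the hypotheses of the gluing from few relations.
-/

set_option autoImplicit false
set_option linter.unusedSectionVars false
set_option maxHeartbeats 1000000

namespace Cfsg.Agent.Lie.SLnSeven

open Matrix Equiv Cfsg.Agent.Lie.Pres Cfsg.Agent.Lie.SLnPres
open Cfsg.Agent.Lie.Sl2Pres (slU)
open Cfsg.Agent.Lie.Sl2Pair (flip2 slL flip2_flip2)
open Cfsg.Agent.Lie.Sl3Pres (tv pC)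
open scoped commutatorElement

variable {F : Type*} [Field F] [Fintype F] {k : ℕ}

/-- The three-cycle on the first three indices. -/
def gam (k : ℕ) : alternatingGroup (Fin (3 + k)) :=
  ⟨swap (lead k 0) (lead k 1) * swap (lead k 1) (lead k 2), by
    rw [Perm.mem_alternatingGroup, map_mul, Perm.sign_swap (lead_ne (by decide)),
      Perm.sign_swap (lead_ne (by decide))]; rfl⟩

/-- Exchanging the first two indices. -/
def sig (hk : 1 ≤ k) : alternatingGroup (Fin (3 + k)) :=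
  ⟨swap (lead k 0) (lead k 1) * swap (lead k 2) (p3 hk), by
    rw [Perm.mem_alternatingGroup, map_mul, Perm.sign_swap (lead_ne (by decide)),
      Perm.sign_swap (lead_ne_p3 hk 2)]; rfl⟩

/-- Moving the first pair onto the second. -/
def rho (hk : 1 ≤ k) : alternatingGroup (Fin (3 + k)) :=
  ⟨swap (lead k 0) (lead k 2) * swap (lead k 1) (p3 hk), by
    rw [Perm.mem_alternatingGroup, map_mul, Perm.sign_swap (lead_ne (by decide)),
      Perm.sign_swap (lead_ne_p3 hk 1)]; rfl⟩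

theorem sig_apply (hk : 1 ≤ k) : (sig hk).1 (lead k 0) = lead k 1 ∧ (sig hk).1 (lead k 1) = lead k 0 := by
  refine ⟨?_, ?_⟩ <;> show (swap (lead k 0) (lead k 1) * swap (lead k 2) (p3 hk)) _ = _ <;> rw [Perm.mul_apply]
  · rw [swap_apply_of_ne_of_ne (lead_ne (by decide)) (lead_ne_p3 hk 0), swap_apply_left]
  · rw [swap_apply_of_ne_of_ne (lead_ne (by decide)) (lead_ne_p3 hk 1), swap_apply_right]

theorem sig_sq (hk : 1 ≤ k) : sig hk * sig hk = 1 :=
  Subtype.ext (swap_pair_sq (lead_ne (by decide)) (lead_ne_p3 hk 0) (lead_ne (by decide)) (lead_ne_p3 hk 1))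

theorem rho_apply (hk : 1 ≤ k) : (rho hk).1 (lead k 0) = lead k 2 ∧ (rho hk).1 (lead k 1) = p3 hk := by
  refine ⟨?_, ?_⟩ <;> show (swap (lead k 0) (lead k 2) * swap (lead k 1) (p3 hk)) _ = _ <;> rw [Perm.mul_apply]
  · rw [swap_apply_of_ne_of_ne (lead_ne (by decide)) (lead_ne_p3 hk 0), swap_apply_left]
  · rw [swap_apply_left, swap_apply_of_ne_of_ne (lead_ne_p3 hk 0).symm (lead_ne_p3 hk 2).symm]

theorem rho_away (hk : 1 ≤ k) : Away (rho hk) := by
  obtain ⟨e0, e1⟩ := rho_apply hk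
  rw [Away, e0, e1]
  exact ⟨lead_ne (by decide), lead_ne (by decide), (lead_ne_p3 hk 0).symm, (lead_ne_p3 hk 1).symm⟩

theorem rho_sig_away (hk : 1 ≤ k) : Away (rho hk * sig hk) := by
  obtain ⟨e0, e1⟩ := rho_apply hk
  rw [Away, Subgroup.coe_mul, Perm.mul_apply, Perm.mul_apply, (sig_apply hk).1, (sig_apply hk).2, e0, e1]
  exact ⟨(lead_ne_p3 hk 0).symm, (lead_ne_p3 hk 1).symm, lead_ne (by decide), lead_ne (by decide)⟩

/-- Fixing the first two indices. -/
def Stab (τ : alternatingGroup (Fin (3 + k))) : Prop :=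
  τ.1 (lead k 0) = lead k 0 ∧ τ.1 (lead k 1) = lead k 1

theorem stab_of_eq {ρ ρ' : alternatingGroup (Fin (3 + k))} (h0 : ρ'.1 (lead k 0) = ρ.1 (lead k 0))
    (h1 : ρ'.1 (lead k 1) = ρ.1 (lead k 1)) : Stab (ρ'⁻¹ * ρ) := by
  constructor <;> show ρ'.1.symm (ρ.1 _) = _ <;> rw [Equiv.symm_apply_eq]
  exacts [h0.symm, h1.symm]

theorem inj_four {α : Type*} {a b c d : α} (hab : a ≠ b) (hac : a ≠ c) (had : a ≠ d) (hbc : b ≠ c)
    (hbd : b ≠ d) (hcd : c ≠ d) : Function.Injective ![a, b, c, d] := by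
  intro x y
  fin_cases x <;> fin_cases y <;>
    simp [hab, hab.symm, hac, hac.symm, had, had.symm, hbc, hbc.symm, hbd, hbd.symm, hcd, hcd.symm]

theorem cover (hk : 1 ≤ k) {ρ : alternatingGroup (Fin (3 + k))} (hρ : Away ρ) :
    ∃ τ, Stab τ ∧ (Stab ((τ * rho hk)⁻¹ * ρ) ∨ Stab ((τ * (rho hk * sig hk))⁻¹ * ρ)) := by
  obtain ⟨a0, a1, b0, b1⟩ := hρ
  have ne01 : lead k 0 ≠ lead k 1 := lead_ne (by decide)
  have ne : ρ.1 (lead k 0) ≠ ρ.1 (lead k 1) := fun e => ne01 (ρ.1.injective e)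
  have ne23 : lead k 2 ≠ p3 hk := lead_ne_p3 hk 2
  obtain ⟨π, hπ⟩ := exists_perm ![lead k 0, lead k 1, lead k 2, p3 hk]
    ![lead k 0, lead k 1, ρ.1 (lead k 0), ρ.1 (lead k 1)]
    (inj_four ne01 (lead_ne (by decide)) (lead_ne_p3 hk 0) (lead_ne (by decide)) (lead_ne_p3 hk 1) ne23)
    (inj_four ne01 a0.symm b0.symm a1.symm b1.symm ne)
  have p0 : π (lead k 0) = lead k 0 := hπ 0
  have p1 : π (lead k 1) = lead k 1 := hπ 1
  have p2 : π (lead k 2) = ρ.1 (lead k 0) := hπ 2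
  have p3' : π (p3 hk) = ρ.1 (lead k 1) := hπ 3
  rcases Int.units_eq_one_or (Perm.sign π) with h | h
  · refine ⟨⟨π, Perm.mem_alternatingGroup.2 h⟩, ⟨p0, p1⟩, Or.inl (stab_of_eq ?_ ?_)⟩ <;>
      rw [Subgroup.coe_mul, Perm.mul_apply]
    · rw [(rho_apply hk).1, p2]
    · rw [(rho_apply hk).2, p3']
  · refine ⟨⟨π * swap (lead k 2) (p3 hk),
      Perm.mem_alternatingGroup.2 (by rw [map_mul, h, Perm.sign_swap ne23]; rfl)⟩, ⟨?_, ?_⟩,
      Or.inr (stab_of_eq ?_ ?_)⟩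
    · rw [Perm.mul_apply, swap_apply_of_ne_of_ne (lead_ne (by decide)) (lead_ne_p3 hk 0), p0]
    · rw [Perm.mul_apply, swap_apply_of_ne_of_ne (lead_ne (by decide)) (lead_ne_p3 hk 1), p1]
    · simp only [Subgroup.coe_mul, Perm.mul_apply]
      rw [(sig_apply hk).1, (rho_apply hk).2, swap_apply_right, p2]
    · simp only [Subgroup.coe_mul, Perm.mul_apply]
      rw [(sig_apply hk).2, (rho_apply hk).1, swap_apply_left, p3']

theorem cover_six (hk : 3 ≤ k) : ∃ τ : alternatingGroup (Fin (3 + k)), Stab τ ∧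
    Stab ((τ * rho (by omega : 1 ≤ k))⁻¹ * (rho (by omega : 1 ≤ k) * sig (by omega : 1 ≤ k))) := by
  have hk1 : 1 ≤ k := by omega
  let a : Fin (3 + k) := ⟨4, by omega⟩
  let b : Fin (3 + k) := ⟨5, by omega⟩
  have hv : ∀ {x y : Fin (3 + k)}, (x : ℕ) ≠ y → x ≠ y := fun h e => h (congrArg Fin.val e)
  have hf : ∀ z : Fin (3 + k), (z : ℕ) < 4 → swap a b z = z := fun z hz =>
    swap_apply_of_ne_of_ne (hv (show (z : ℕ) ≠ 4 by omega)) (hv (show (z : ℕ) ≠ 5 by omega))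
  refine ⟨⟨swap (lead k 2) (p3 hk1) * swap a b, by
    rw [Perm.mem_alternatingGroup, map_mul, Perm.sign_swap (lead_ne_p3 hk1 2),
      Perm.sign_swap (hv (show (4 : ℕ) ≠ 5 by omega))]; rfl⟩, ⟨?_, ?_⟩, stab_of_eq ?_ ?_⟩
  · rw [Perm.mul_apply, hf _ (show (0 : ℕ) < 4 by omega),
      swap_apply_of_ne_of_ne (lead_ne (by decide)) (lead_ne_p3 hk1 0)]
  · rw [Perm.mul_apply, hf _ (show (1 : ℕ) < 4 by omega),
      swap_apply_of_ne_of_ne (lead_ne (by decide)) (lead_ne_p3 hk1 1)]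
  · simp only [Subgroup.coe_mul, Perm.mul_apply]
    rw [(sig_apply hk1).1, (rho_apply hk1).1, (rho_apply hk1).2, hf _ (show (2 : ℕ) < 4 by omega), swap_apply_left]
  · simp only [Subgroup.coe_mul, Perm.mul_apply]
    rw [(sig_apply hk1).2, (rho_apply hk1).1, (rho_apply hk1).2, hf _ (show (3 : ℕ) < 4 by omega), swap_apply_right]

/-- A glued group: the images of the two factors generate and meet in the two first relations. -/
structure Glued (hk : 1 ≤ k) (x₀ : SpecialLinearGroup (Fin 2) F) (G : Type) [Group G] where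
  i' : SpecialLinearGroup (Fin 3) F →* G
  j' : alternatingGroup (Fin (3 + k)) →* G
  π : G →* SpecialLinearGroup (Fin (3 + k)) F
  hπi : π.comp i' = emb3
  hπj : π.comp j' = permSL
  hgen : i'.range ⊔ j'.range = ⊤
  pair : Subgroup.closure {x₀, flip2 x₀} = ⊤
  eγ : j' (gam k) = i' pC
  eflip : j' (sig hk) * i' (emb2 x₀) * (j' (sig hk))⁻¹ = i' (emb2 (flip2 x₀))

namespace Glued

variable {hk : 1 ≤ k} {x₀ : SpecialLinearGroup (Fin 2) F} {G : Type} [Group G] (D : Glued hk x₀ G)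

/-- The element which has to be centralised. -/
def x : G := D.i' (emb2 x₀)

theorem flip_all (A : SpecialLinearGroup (Fin 2) F) :
    D.j' (sig hk) * D.i' (emb2 A) * (D.j' (sig hk))⁻¹ = D.i' (emb2 (flip2 A)) := by
  set s := D.j' (sig hk) with hs
  have hss : s * s = 1 := by rw [hs, ← map_mul, sig_sq, map_one]
  let f := (MulAut.conj s).toMonoidHom.comp (D.i'.comp emb2)
  let g := (D.i'.comp emb2).comp flip2
  have h : f.eqLocus g = ⊤ := by
    rw [eq_top_iff, ← D.pair, Subgroup.closure_le]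
    intro y hy
    rcases hy with hy | hy
    · rw [hy]; exact D.eflip
    · rw [Set.mem_singleton_iff] at hy
      subst hy
      show s * D.i' (emb2 (flip2 x₀)) * s⁻¹ = D.i' (emb2 (flip2 (flip2 x₀)))
      rw [flip2_flip2, ← D.eflip, ← hs, show s * (s * D.i' (emb2 x₀) * s⁻¹) * s⁻¹ =
        (s * s) * D.i' (emb2 x₀) * (s * s)⁻¹ by group, hss, one_mul, inv_one, mul_one]
  exact (h.symm ▸ Subgroup.mem_top A : A ∈ f.eqLocus g)

theorem injective_of (hstab : ∀ τ, Stab τ → Commute (D.j' τ) D.x)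
    (hd : Commute D.x (D.j' (rho hk) * D.x * (D.j' (rho hk))⁻¹))
    (hd' : Commute D.x (D.j' (rho hk * sig hk) * D.x * (D.j' (rho hk * sig hk))⁻¹)) :
    Function.Injective D.π := by
  set ψ := D.i'.comp emb2
  set s := D.j' (sig hk) with hs
  have hσ := sig_apply hk
  have hstab' : ∀ τ, Stab τ → ∀ A, Commute (D.j' τ) (ψ A) := by
    intro τ hτ A
    have hτ' : Stab (sig hk * τ * sig hk) := by
      constructor <;> show (sig hk).1 (τ.1 ((sig hk).1 _)) = _
      · rw [hσ.1, hτ.2, hσ.2]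
      · rw [hσ.2, hτ.1, hσ.1]
    have hflip' : Commute (D.j' τ) (ψ (flip2 x₀)) := by
      have := (Commute.conj_iff s).2 (hstab _ hτ')
      rw [show s * D.x * s⁻¹ = ψ (flip2 x₀) from D.eflip, hs, ← map_inv, ← map_mul, ← map_mul,
        inv_eq_of_mul_eq_one_right (sig_sq hk), show sig hk * (sig hk * τ * sig hk) * sig hk =
          (sig hk * sig hk) * τ * (sig hk * sig hk) by group, sig_sq, one_mul, mul_one] at this
      exact this
    have h : (Subgroup.centralizer {D.j' τ}).comap ψ = ⊤ := by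
      rw [eq_top_iff, ← D.pair, Subgroup.closure_le]
      intro y hy
      rcases hy with hy | hy <;> (try rw [Set.mem_singleton_iff] at hy) <;> rw [hy] <;>
        refine Subgroup.mem_centralizer_iff.2 fun z hz => ?_ <;> rw [Set.mem_singleton_iff.1 hz]
      · exact (hstab τ hτ).eq
      · exact hflip'.eq
    have hA : ψ A ∈ Subgroup.centralizer {D.j' τ} :=
      (h.symm ▸ Subgroup.mem_top A : A ∈ (Subgroup.centralizer {D.j' τ}).comap ψ)
    exact Subgroup.mem_centralizer_iff.1 hA _ rfl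
  have hD : ∀ ρ, Away ρ → Commute D.x (D.j' ρ * D.x * (D.j' ρ)⁻¹) := by
    intro ρ hρ
    obtain ⟨τ, hτ, h⟩ := cover hk hρ
    have key : ∀ ρ₁, Stab ((τ * ρ₁)⁻¹ * ρ) → Commute D.x (D.j' ρ₁ * D.x * (D.j' ρ₁)⁻¹) →
        Commute D.x (D.j' ρ * D.x * (D.j' ρ)⁻¹) := by
      intro ρ₁ hs₁ h₁
      have h' := (Commute.conj_iff (D.j' τ)).2 h₁
      rw [(hstab τ hτ).eq, mul_inv_cancel_right] at h'
      have e : D.j' ρ = D.j' τ * D.j' ρ₁ * D.j' ((τ * ρ₁)⁻¹ * ρ) := by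
        rw [← map_mul, ← map_mul, mul_inv_cancel_left]
      rw [e, show ∀ a b c y : G, a * b * c * y * (a * b * c)⁻¹ = a * (b * (c * y * c⁻¹) * b⁻¹) * a⁻¹ from
        fun a b c y => by group, (hstab _ hs₁).eq, mul_inv_cancel_right]
      exact h'
    rcases h with h | h
    exacts [key _ h hd, key _ h hd']
  have haway : ∀ {ρ}, Away ρ → Away (ρ * sig hk) := by
    intro ρ hρ
    obtain ⟨a0, a1, b0, b1⟩ := hρ
    rw [Away, Subgroup.coe_mul, Perm.mul_apply, Perm.mul_apply, hσ.1, hσ.2]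
    exact ⟨b0, b1, a0, a1⟩
  have hD1 : ∀ ρ, Away ρ → ∀ B, Commute D.x (D.j' ρ * ψ B * (D.j' ρ)⁻¹) := by
    intro ρ hρ B
    have h2 := hD _ (haway hρ)
    rw [map_mul, ← hs, show D.j' ρ * s * D.x * (D.j' ρ * s)⁻¹ = D.j' ρ * (s * D.x * s⁻¹) * (D.j' ρ)⁻¹ by group,
      show s * D.x * s⁻¹ = ψ (flip2 x₀) from D.eflip] at h2
    let f := (MulAut.conj (D.j' ρ)).toMonoidHom.comp ψ
    have h : (Subgroup.centralizer {D.x}).comap f = ⊤ := by
      rw [eq_top_iff, ← D.pair, Subgroup.closure_le]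
      intro y hy
      rcases hy with hy | hy <;> (try rw [Set.mem_singleton_iff] at hy) <;> rw [hy] <;>
        refine Subgroup.mem_centralizer_iff.2 fun z hz => ?_ <;> rw [Set.mem_singleton_iff.1 hz]
      · exact (hD ρ hρ).eq
      · exact h2.eq
    have hA : f B ∈ Subgroup.centralizer {D.x} :=
      (h.symm ▸ Subgroup.mem_top B : B ∈ (Subgroup.centralizer {D.x}).comap f)
    exact Subgroup.mem_centralizer_iff.1 hA _ rfl
  have hD2 : ∀ ρ, Away ρ → ∀ A B, Commute (ψ A) (D.j' ρ * ψ B * (D.j' ρ)⁻¹) := by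
    intro ρ hρ A B
    have h : (Subgroup.centralizer {D.j' ρ * ψ B * (D.j' ρ)⁻¹}).comap ψ = ⊤ := by
      rw [eq_top_iff, ← D.pair, Subgroup.closure_le]
      intro y hy
      rcases hy with hy | hy <;> (try rw [Set.mem_singleton_iff] at hy) <;> rw [hy] <;>
        refine Subgroup.mem_centralizer_iff.2 fun z hz => ?_ <;> rw [Set.mem_singleton_iff.1 hz]
      · exact (hD1 ρ hρ B).symm.eq
      · have hρ' : Away (sig hk * ρ) := by
          obtain ⟨a0, a1, b0, b1⟩ := hρ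
          have hinj := (sig hk).1.injective
          refine ⟨fun e => a1 (hinj ?_), fun e => a0 (hinj ?_), fun e => b1 (hinj ?_), fun e => b0 (hinj ?_)⟩ <;>
            rw [Subgroup.coe_mul, Perm.mul_apply] at e <;> rw [e]
          exacts [hσ.2.symm, hσ.1.symm, hσ.2.symm, hσ.1.symm]
        have := (Commute.conj_iff s).2 (hD1 _ hρ' B)
        rw [show s * D.x * s⁻¹ = ψ (flip2 x₀) from D.eflip, map_mul, ← hs,
          show s * (s * D.j' ρ * ψ B * (s * D.j' ρ)⁻¹) * s⁻¹ =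
            (s * s) * (D.j' ρ * ψ B * (D.j' ρ)⁻¹) * (s * s)⁻¹ by group,
          show s * s = 1 by rw [hs, ← map_mul, sig_sq, map_one], one_mul, inv_one, mul_one] at this
        exact this.symm.eq
    have hA : ψ A ∈ Subgroup.centralizer {D.j' ρ * ψ B * (D.j' ρ)⁻¹} :=
      (h.symm ▸ Subgroup.mem_top A : A ∈ (Subgroup.centralizer {D.j' ρ * ψ B * (D.j' ρ)⁻¹}).comap ψ)
    exact ((Subgroup.mem_centralizer_iff.1 hA _ rfl).symm : Commute _ _)
  have hψU : ∀ t : F, D.i' (tv 0 1 t) = ψ (slU t) := fun t => by rw [← emb2_slU]; rfl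
  refine (SLnPres.core_bijective hk D.i' D.j' D.π D.hπi D.hπj D.hgen (gam k) rfl D.eγ
    (fun τ h0 h1 t => ?_) ⟨sig hk, hσ.1, hσ.2, fun t => ?_⟩ fun ρ hρ s t => ?_).1
  · rw [hψU]; exact hstab' τ ⟨h0, h1⟩ _
  · rw [hψU, ← emb2_slL]; exact D.flip_all _
  · rw [hψU, hψU]; exact hD2 ρ hρ _ _

end Glued

end Cfsg.Agent.Lie.SLnSeven
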