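import Cfsg.Agent.Lib.Lie.SLnSevenPres
import Cfsg.Agent.Lib.Lie.AltPresFive
import Cfsg.Agent.Lib.Lie.PresSymAltFin
import Cfsg.Agent.Lib.Lie.Sl3PresFinal

/-!
`SL_n(F)` on seven generators with twenty-five relations, `PSL_n(F)` with twenty-six.
-/

set_option autoImplicit false
set_option linter.unusedSectionVars false

namespace Cfsg.Agent.Lie.SLnSeven

open Matrix Equiv Cfsg.Agent.Lie.Pres Cfsg.Agent.Lie.SLnPres Cfsg.Agent.Lie.Carmichael
open Cfsg.Agent.Lie.AltGlue (Good)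

variable {F : Type*} [Field F] [Fintype F]

theorem presOn_pad {α : Type} {H : Type*} [Group H] {v : α → H} {r : ℕ} (h : PresOn v r) :
    PresOn (Sum.elim v fun _ : Fin 1 => (1 : H)) (r + 1) := by
  classical
  refine (h.extend (MonoidHom.id H) (fun _ : Fin 1 => (1 : H)) ?_ [FreeGroup.of (Sum.inr 0)] ?_ ?_).of_eq
    (by rintro (a | a) <;> rfl)
  · rw [MonoidHom.range_eq_top.2 Function.surjective_id, top_sup_eq]
  · intro x hx; rw [List.mem_singleton] at hx; subst hx; simp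
  · intro G _ f ι π htop hf hπι hπt hall
    have h1 : f (FreeGroup.of (Sum.inr 0)) = 1 := hall _ (List.mem_singleton_self _)
    have hι : ι.range = ⊤ := by
      rw [← htop, eq_comm, sup_eq_left, Subgroup.closure_le]
      rintro _ ⟨b, rfl⟩
      rw [Subsingleton.elim b 0]
      show f (FreeGroup.of (Sum.inr (0 : Fin 1))) ∈ ι.range
      rw [h1]
      exact one_mem _
    intro x y hxy
    obtain ⟨a, rfl⟩ := MonoidHom.range_eq_top.1 hι x
    obtain ⟨b, rfl⟩ := MonoidHom.range_eq_top.1 hι y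
    have ea := DFunLike.congr_fun hπι a
    have eb := DFunLike.congr_fun hπι b
    simp only [MonoidHom.comp_apply, MonoidHom.id_apply] at ea eb
    rw [ea, eb] at hxy
    rw [hxy]

theorem to_fin {a b : ℕ} {H : Type*} [Group H] {v : Fin a ⊕ Fin b → H} {r : ℕ} (h : PresOn v r) :
    ∃ w : Fin (a + b) → H, PresOn w r := ⟨_, h.reindex finSumFinEquiv.symm⟩

theorem quot_cyclic {α : Type} {H : Type*} [Group H] {v : α → H} {r : ℕ} (h : PresOn v r) {H' : Type*} [Group H']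
    (q : H →* H') (hq : Function.Surjective q) (z : H) (hz : q z = 1) (hker : ∀ x, q x = 1 → x ∈ Subgroup.zpowers z) :
    PresOn (fun a => q (v a)) (r + 1) := by
  obtain ⟨L, hlen, h0, huniv⟩ := h.lifts
  obtain ⟨wz, rfl⟩ := h.surjective z
  have hc : FreeGroup.lift (fun a => q (v a)) = q.comp (FreeGroup.lift v) :=
    FreeGroup.ext_hom _ _ fun a => by simp
  refine (presOn_of_rels _ ?_ (wz :: L) ?_ ?_).mono (by simp; omega)
  · rw [hc]; exact hq.comp h.surjective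
  · intro x hx
    rw [hc]
    rcases List.mem_cons.1 hx with rfl | hx
    · exact hz
    · rw [MonoidHom.comp_apply, h0 x hx, map_one]
  · intro G _ f π hf hπ hall
    obtain ⟨ι, hι⟩ := huniv G f fun x hx => hall x (List.mem_cons_of_mem _ hx)
    rw [injective_iff_map_eq_one]
    intro g hg
    obtain ⟨w, rfl⟩ := hf g
    have hq1 : q (FreeGroup.lift v w) = 1 := by rw [← MonoidHom.comp_apply, ← hc, ← hπ]; exact hg
    obtain ⟨m, hm⟩ := Subgroup.mem_zpowers_iff.1 (hker _ hq1)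
    rw [← hι, MonoidHom.comp_apply, ← hm, map_zpow, ← MonoidHom.comp_apply ι, hι, hall wz (List.mem_cons_self ..),
      _root_.one_zpow]

/-- The presentation of `SL₃`. -/
theorem presOn_three : ∃ u : Fin 4 → SpecialLinearGroup (Fin 3) F, PresOn u 14 := by
  obtain ⟨rels, hc, ⟨e⟩⟩ := Sl3Pres.exists_presentation (F := F)
  exact ⟨fun a => e (PresentedGroup.of a), rels, hc, e, fun a => rfl⟩

theorem alt_fin {p n : ℕ} (h : p + 2 = n) {α : Type} {v : α → alternatingGroup (Pt (Fin p))} {r : ℕ}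
    (hv : PresOn v r) : ∃ w : α → alternatingGroup (Fin n), PresOn w r :=
  ⟨_, hv.congr (Equiv.altCongrHom (Fintype.equivFinOfCardEq (by simp [Pt]; omega)))⟩

theorem stab_gens {k : ℕ} (hk : 1 ≤ k) {τ : alternatingGroup (Fin (3 + k))} (hτ : Stab τ) :
    τ ∈ Subgroup.closure {s | s ∈ List.ofFn fun i => extStab hk (cyc i)} := by
  obtain ⟨c, rfl⟩ := exists_extStab hk τ hτ.1 hτ.2
  have hc : c ∈ Subgroup.closure (Set.range (cyc : Fin (k - 1) → alternatingGroup (Pt (Fin (k - 1))))) := by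
    rw [closure_cyc]; exact Subgroup.mem_top c
  have h2 := Subgroup.mem_map_of_mem (extStab hk) hc
  rw [MonoidHom.map_closure] at h2
  refine Subgroup.closure_mono ?_ h2
  rintro _ ⟨_, ⟨i, rfl⟩, rfl⟩
  exact List.mem_ofFn.2 ⟨i, rfl⟩

theorem stab_ext {k : ℕ} (hk : 1 ≤ k) (c : alternatingGroup (Pt (Fin (k - 1)))) : Stab (extStab hk c) :=
  ⟨extStab_fix hk c (show (0 : ℕ) < 2 by omega), extStab_fix hk c (show (1 : ℕ) < 2 by omega)⟩

theorem presOn_small {k : ℕ} (hk : 1 ≤ k) {β : Type} {v : β → alternatingGroup (Fin (3 + k))} {r : ℕ}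
    (hA : PresOn v r) :
    ∃ w : Fin 4 ⊕ β → SpecialLinearGroup (Fin (3 + k)) F, PresOn w (14 + (r + (2 + ((k - 1) + 2)))) := by
  obtain ⟨u, h3⟩ := presOn_three (F := F)
  refine ⟨_, (presOn_plain hk h3 hA (List.ofFn fun i => extStab hk (cyc i)) [rho hk, rho hk * sig hk] ?_
    (fun τ => stab_gens hk) ?_ (by simp) (Or.inl (by simp))).mono (by simp)⟩
  · intro s hs
    obtain ⟨i, rfl⟩ := List.mem_ofFn.1 hs
    exact stab_ext hk _
  · intro ρ hρ
    simp only [List.mem_cons, List.not_mem_nil, or_false] at hρ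
    rcases hρ with rfl | rfl
    exacts [rho_away hk, rho_sig_away hk]

theorem presOn_four : ∃ w : Fin 6 → SpecialLinearGroup (Fin 4) F, PresOn w 21 := by
  obtain ⟨v, hv⟩ := alt_fin (n := 3 + 1) (by norm_num) AltGlue.alt_four
  obtain ⟨w, hw⟩ := presOn_small (F := F) (k := 1) le_rfl hv
  obtain ⟨w', hw'⟩ := to_fin hw
  exact ⟨w', hw'⟩

theorem presOn_five : ∃ w : Fin 6 → SpecialLinearGroup (Fin 5) F, PresOn w 22 := by
  obtain ⟨v, hv⟩ := AltFive.alt_five
  obtain ⟨w, hw⟩ := presOn_small (F := F) (k := 2) (by norm_num) (v := v) hv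
  obtain ⟨w', hw'⟩ := to_fin hw
  exact ⟨w', hw'⟩

theorem presOn_six : ∃ w : Fin 6 → SpecialLinearGroup (Fin 6) F, PresOn w 24 := by
  obtain ⟨t, ht⟩ := AltGlue.alt_six
  obtain ⟨v, hv⟩ := alt_fin (n := 3 + 3) (by norm_num) ht
  obtain ⟨u, h3⟩ := presOn_three (F := F)
  obtain ⟨τ, hτ, h⟩ := cover_six (k := 3) le_rfl
  have h := presOn_plain (F := F) (k := 3) (by norm_num) h3 hv
    (List.ofFn fun i : Fin 2 => extStab (k := 3) (by norm_num) (cyc i)) [rho (by norm_num)]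
    (fun s hs => by obtain ⟨i, rfl⟩ := List.mem_ofFn.1 hs; exact stab_ext _ _)
    (fun τ => stab_gens (k := 3) (by norm_num)) (fun ρ hρ => by rw [List.mem_singleton] at hρ; subst hρ; exact rho_away _)
    (by simp) (Or.inr ⟨τ, hτ, h⟩)
  obtain ⟨w', hw'⟩ := to_fin h
  exact ⟨w', hw'.mono (by simp)⟩

theorem presOn_seven (n : ℕ) (hn : 4 ≤ n) : ∃ w : Fin 7 → SpecialLinearGroup (Fin n) F, PresOn w 25 := by
  rcases (show n = 4 ∨ n = 5 ∨ n = 6 ∨ 7 ≤ n by omega) with rfl | rfl | rfl | h7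
  · obtain ⟨w, hw⟩ := presOn_four (F := F)
    obtain ⟨w', hw'⟩ := to_fin (presOn_pad hw)
    exact ⟨w', hw'.mono (by omega)⟩
  · obtain ⟨w, hw⟩ := presOn_five (F := F)
    obtain ⟨w', hw'⟩ := to_fin (presOn_pad hw)
    exact ⟨w', hw'.mono (by omega)⟩
  · obtain ⟨w, hw⟩ := presOn_six (F := F)
    obtain ⟨w', hw'⟩ := to_fin (presOn_pad hw)
    exact ⟨w', hw'⟩
  · obtain ⟨k, rfl⟩ : ∃ k, n = 3 + k := ⟨n - 3, by omega⟩
    obtain ⟨v, hv, -⟩ := AltGlue.good_alternating (n := 3 + k) (by omega)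
    obtain ⟨u, h3⟩ := presOn_three (F := F)
    obtain ⟨w', hw'⟩ := to_fin (presOn_shift (F := F) (k := k) (by omega) h3 hv)
    exact ⟨w', hw'⟩

theorem presOn_proj (n : ℕ) (hn : 4 ≤ n) :
    ∃ w : Fin 7 → ProjectiveSpecialLinearGroup (Fin n) F, PresOn w 26 := by
  haveI : Nonempty (Fin n) := ⟨⟨0, by omega⟩⟩
  haveI : NeZero (Fintype.card (Fin n)) := ⟨by simp; omega⟩
  let e := Matrix.SpecialLinearGroup.center_equiv_rootsOfUnity' (R := F) (⟨0, by omega⟩ : Fin n)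
  haveI : IsCyclic (Subgroup.center (SpecialLinearGroup (Fin n) F)) :=
    isCyclic_of_surjective e.symm.toMonoidHom e.symm.surjective
  obtain ⟨z, hz⟩ := IsCyclic.exists_generator (α := Subgroup.center (SpecialLinearGroup (Fin n) F))
  obtain ⟨w, hw⟩ := presOn_seven (F := F) n hn
  refine ⟨_, quot_cyclic hw (QuotientGroup.mk' _) (QuotientGroup.mk'_surjective _) z.1
    ((QuotientGroup.eq_one_iff _).2 z.2) fun x hx => ?_⟩
  obtain ⟨m, hm⟩ := Subgroup.mem_zpowers_iff.1 (hz ⟨x, (QuotientGroup.eq_one_iff _).1 hx⟩)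
  exact Subgroup.mem_zpowers_iff.2 ⟨m, by rw [← Subgroup.coe_zpow, hm]⟩

theorem PresOn.to_rels {α : Type} {H : Type*} [Group H] {v : α → H} {r : ℕ} (h : PresOn v r) :
    ∃ R : Finset (FreeGroup α), R.card ≤ r ∧ Nonempty (PresentedGroup (↑R : Set (FreeGroup α)) ≃* H) := by
  obtain ⟨R, hR, e, -⟩ := h
  exact ⟨R, hR, ⟨e⟩⟩

end Cfsg.Agent.Lie.SLnSeven
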