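import Cfsg.Agent.Lib.Lie.SLnSevenDerive
import Cfsg.Agent.Lib.Lie.AltPres

/-!
The presentations of `SL_n(F)` with few relations.
-/

set_option autoImplicit false
set_option linter.unusedSectionVars false
set_option maxHeartbeats 1000000

namespace Cfsg.Agent.Lie.SLnSeven

open Matrix Equiv Cfsg.Agent.Lie.Pres Cfsg.Agent.Lie.SLnPres
open Cfsg.Agent.Lie.Sl2Pair (flip2 exists_pair)
open Cfsg.Agent.Lie.Sl3Pres (tv pC)
open Cfsg.Agent.Lie.AltGlue (cycOn cycOn_fix cycOn_pow_apply Full cyc3 cyc3_sign cyc3_fix finRotate_pow_val)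
open scoped commutatorElement

variable {F : Type*} [Field F] [Fintype F] {k : ℕ}

/-- A letter of `SL₃`. -/
def l3 (g : SpecialLinearGroup (Fin 3) F) : Rel F k := FreeGroup.of (Sum.inl g)

/-- A letter of the alternating group. -/
def lA (σ : alternatingGroup (Fin (3 + k))) : Rel F k := FreeGroup.of (Sum.inr σ)

/-- The two first relations. -/
def baseRels (hk : 1 ≤ k) (x₀ : SpecialLinearGroup (Fin 2) F) : List (Rel F k) :=
  [lA (gam k) * (l3 pC)⁻¹,
    lA (sig hk) * l3 (emb2 x₀) * (lA (sig hk))⁻¹ * (l3 (emb2 (flip2 x₀)))⁻¹]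

theorem baseRels_true (hk : 1 ≤ k) (x₀ : SpecialLinearGroup (Fin 2) F) :
    ∀ x ∈ baseRels hk x₀,
      FreeGroup.lift (Sum.elim (emb3 (F := F) (k := k)) (permSL (F := F) (k := k))) x = 1 := by
  intro x hx
  simp only [baseRels, List.mem_cons, List.not_mem_nil, or_false] at hx
  rcases hx with rfl | rfl <;>
    simp only [l3, lA, map_mul, map_inv, FreeGroup.lift_apply_of, Sum.elim_inl, Sum.elim_inr, mul_inv_eq_one]
  · exact permSL_gamma (gam k) rfl
  · exact permSL_blk_flip (sig hk) (sig_apply hk).1 (sig_apply hk).2 x₀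

/-- A glued group from the relations. -/
def gluedOf (hk : 1 ≤ k) {x₀ : SpecialLinearGroup (Fin 2) F} (hx : Subgroup.closure {x₀, flip2 x₀} = ⊤)
    {G : Type} [Group G] (i' : SpecialLinearGroup (Fin 3) F →* G)
    (j' : alternatingGroup (Fin (3 + k)) →* G) (π : G →* SpecialLinearGroup (Fin (3 + k)) F)
    (hπi : π.comp i' = emb3) (hπj : π.comp j' = permSL) (hgen : i'.range ⊔ j'.range = ⊤)
    (h : ∀ x ∈ baseRels hk x₀, FreeGroup.lift (Sum.elim i' j') x = 1) : Glued hk x₀ G where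
  i' := i'
  j' := j'
  π := π
  hπi := hπi
  hπj := hπj
  hgen := hgen
  pair := hx
  eγ := by
    have := h (lA (gam k) * (l3 pC)⁻¹) (by simp [baseRels])
    simpa [l3, lA, mul_inv_eq_one] using! this
  eflip := by
    have := h (lA (sig hk) * l3 (emb2 x₀) * (lA (sig hk))⁻¹ * (l3 (emb2 (flip2 x₀)))⁻¹) (by simp [baseRels])
    simpa [l3, lA, mul_inv_eq_one] using! this

/-- Stabiliser relation. -/
def stabRel (x₀ : SpecialLinearGroup (Fin 2) F) (s : alternatingGroup (Fin (3 + k))) : Rel F k :=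
  ⁅(lA s : Rel F k), (l3 (emb2 x₀) : Rel F k)⁆

/-- Disjointness relation. -/
def awayRel (x₀ : SpecialLinearGroup (Fin 2) F) (ρ : alternatingGroup (Fin (3 + k))) : Rel F k :=
  ⁅(l3 (emb2 x₀) : Rel F k), lA ρ * l3 (emb2 x₀) * (lA ρ)⁻¹⁆

theorem stabRel_true (x₀ : SpecialLinearGroup (Fin 2) F) {s : alternatingGroup (Fin (3 + k))} (hs : Stab s) :
    FreeGroup.lift (Sum.elim (emb3 (F := F) (k := k)) (permSL (F := F) (k := k))) (stabRel x₀ s) = 1 := by
  simp only [stabRel, l3, lA, map_commutatorElement, FreeGroup.lift_apply_of, Sum.elim_inl, Sum.elim_inr,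
    commutatorElement_eq_one_iff_commute]
  exact permSL_blk_stab s hs.1 hs.2 x₀

theorem awayRel_true (x₀ : SpecialLinearGroup (Fin 2) F) {ρ : alternatingGroup (Fin (3 + k))} (hρ : Away ρ) :
    FreeGroup.lift (Sum.elim (emb3 (F := F) (k := k)) (permSL (F := F) (k := k))) (awayRel x₀ ρ) = 1 := by
  simp only [awayRel, l3, lA, map_commutatorElement, map_mul, map_inv, FreeGroup.lift_apply_of, Sum.elim_inl,
    Sum.elim_inr, commutatorElement_eq_one_iff_commute]
  exact permSL_blk_away hρ x₀ x₀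

theorem presOn_plain (hk : 1 ≤ k) {α β : Type} {u : α → SpecialLinearGroup (Fin 3) F} {r3 : ℕ}
    (h3 : PresOn u r3) {v : β → alternatingGroup (Fin (3 + k))} {r : ℕ} (hA : PresOn v r)
    (S R : List (alternatingGroup (Fin (3 + k)))) (hS : ∀ s ∈ S, Stab s)
    (hSgen : ∀ τ, Stab τ → τ ∈ Subgroup.closure {s | s ∈ S}) (hR : ∀ ρ ∈ R, Away ρ)
    (hR1 : rho hk ∈ R) (hR2 : rho hk * sig hk ∈ R ∨
      ∃ τ, Stab τ ∧ Stab ((τ * rho hk)⁻¹ * (rho hk * sig hk))) :
    PresOn (Sum.elim (emb3 ∘ u) (permSL ∘ v)) (r3 + (r + (2 + (S.length + R.length)))) := by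
  obtain ⟨x₀, hx⟩ := exists_pair (F := F)
  refine (presOn_glue hk h3 hA (baseRels hk x₀ ++ (S.map (stabRel x₀) ++ R.map (awayRel x₀))) ?_ ?_).mono
    (by simp [baseRels]; omega)
  · intro x hx'
    simp only [List.mem_append, List.mem_map] at hx'
    rcases hx' with hx' | ⟨s, hs, rfl⟩ | ⟨s, hs, rfl⟩
    exacts [baseRels_true hk x₀ x hx', stabRel_true x₀ (hS s hs), awayRel_true x₀ (hR s hs)]
  intro G _ i' j' π hπi hπj hgen hall
  let D := gluedOf hk hx i' j' π hπi hπj hgen fun y hy => hall y (List.mem_append_left _ hy)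
  have hs0 : ∀ τ, Stab τ → Commute (j' τ) D.x := by
    intro τ hτ
    have hmem := hSgen τ hτ
    clear hτ
    induction hmem using Subgroup.closure_induction with
    | mem s hs =>
      have := hall (stabRel x₀ s) (List.mem_append_right _ (List.mem_append_left _ (List.mem_map.2 ⟨s, hs, rfl⟩)))
      simpa [stabRel, l3, lA, map_commutatorElement, commutatorElement_eq_one_iff_commute] using! this
    | one => rw [map_one]; exact Commute.one_left _
    | mul a b _ _ ha hb => rw [map_mul]; exact ha.mul_left hb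
    | inv a _ ha => rw [map_inv]; exact ha.inv_left
  have hd : ∀ ρ ∈ R, Commute D.x (j' ρ * D.x * (j' ρ)⁻¹) := fun ρ hρ => by
    have := hall (awayRel x₀ ρ) (List.mem_append_right _ (List.mem_append_right _ (List.mem_map.2 ⟨ρ, hρ, rfl⟩)))
    simpa [awayRel, l3, lA, map_commutatorElement, commutatorElement_eq_one_iff_commute] using! this
  refine D.injective_of hs0 (hd _ hR1) ?_
  rcases hR2 with h | ⟨τ, hτ, h⟩
  · exact hd _ h
  · have h' := (Commute.conj_iff (j' τ)).2 (hd _ hR1)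
    rw [(hs0 τ hτ).eq, mul_inv_cancel_right] at h'
    show Commute D.x (j' (rho hk * sig hk) * D.x * (j' (rho hk * sig hk))⁻¹)
    rw [show rho hk * sig hk = τ * rho hk * ((τ * rho hk)⁻¹ * (rho hk * sig hk)) by group, map_mul, map_mul,
      show ∀ a b c y : G, a * b * c * y * (a * b * c)⁻¹ = a * (b * (c * y * c⁻¹) * b⁻¹) * a⁻¹ from
        fun a b c y => by group, (hs0 _ h).eq, mul_inv_cancel_right]
    exact h'

/-- The index of the point number `t` of the shifted arrangement. -/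
def pos (t : Fin (k + 1)) : Fin (3 + k) := ⟨2 + ((t : ℕ) + 2) % (k + 1), by
  have := Nat.mod_lt ((t : ℕ) + 2) (show k + 1 > 0 by omega)
  omega⟩

theorem pos_inj : Function.Injective (pos (k := k)) := by
  intro a b h
  have h' := congrArg Fin.val h
  simp only [pos, Nat.add_left_cancel_iff] at h'
  refine Fin.ext ?_
  have := Nat.ModEq.add_right_cancel' 2 (show (a : ℕ) + 2 ≡ b + 2 [MOD k + 1] from h')
  unfold Nat.ModEq at this
  rwa [Nat.mod_eq_of_lt a.2, Nat.mod_eq_of_lt b.2] at this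

/-- The points other than the first two. -/
def posEmb (k : ℕ) : Fin (k + 1) ↪ Fin (3 + k) := ⟨pos, pos_inj⟩

theorem pos_two_le (t : Fin (k + 1)) : 2 ≤ ((posEmb k t : Fin (3 + k)) : ℕ) := by simp [posEmb, pos]

theorem exists_pos {x : Fin (3 + k)} (hx : 2 ≤ (x : ℕ)) : ∃ t, posEmb k t = x := by
  refine ⟨Fin.ofNat (k + 1) ((x : ℕ) - 2 + k * 2), Fin.ext ?_⟩
  simp only [posEmb, Function.Embedding.coeFn_mk, pos, Fin.val_ofNat]
  rw [Nat.mod_add_mod, show (x : ℕ) - 2 + k * 2 + 2 = (x : ℕ) - 2 + (k + 1) * 2 by ring, Nat.add_mul_mod_self_left,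
    Nat.mod_eq_of_lt (by omega)]
  omega

/-- The three-cycle on the first points of the arrangement. -/
def hEl (hk : 4 ≤ k) : alternatingGroup (Fin (3 + k)) :=
  ⟨cyc3 (posEmb k (Fin.ofNat (k + 1) 0)) (posEmb k (Fin.ofNat (k + 1) 1)) (posEmb k (Fin.ofNat (k + 1) 2)),
    Perm.mem_alternatingGroup.2 (cyc3_sign
      (fun e => by have := congrArg Fin.val ((posEmb k).injective e); simp at this; omega)
      (fun e => by
        have := congrArg Fin.val ((posEmb k).injective e)
        simp [Nat.mod_eq_of_lt (show 2 < k + 1 by omega)] at this))⟩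

/-- The double shift, backwards. -/
noncomputable def cEl (k : ℕ) : alternatingGroup (Fin (3 + k)) :=
  ⟨(cycOn (posEmb k) ^ 2)⁻¹, Perm.mem_alternatingGroup.2 (by
    rw [map_inv, map_pow]
    rcases Int.units_eq_one_or (Perm.sign (cycOn (posEmb k))) with h | h <;> rw [h] <;> simp)⟩

theorem notMem_range_pos {x : Fin (3 + k)} (hx : (x : ℕ) < 2) : x ∉ Set.range (posEmb k) := by
  rintro ⟨t, rfl⟩
  have := pos_two_le t
  omega

theorem hEl_stab (hk : 4 ≤ k) : Stab (hEl hk) := by
  have h : ∀ x : Fin (3 + k), (x : ℕ) < 2 → (hEl hk).1 x = x := fun x hx =>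
    cyc3_fix (fun e => notMem_range_pos hx ⟨_, e.symm⟩) (fun e => notMem_range_pos hx ⟨_, e.symm⟩)
      (fun e => notMem_range_pos hx ⟨_, e.symm⟩)
  exact ⟨h _ (show (0 : ℕ) < 2 by omega), h _ (show (1 : ℕ) < 2 by omega)⟩

theorem cEl_stab : Stab (cEl k) := by
  have h : ∀ x : Fin (3 + k), (x : ℕ) < 2 → (cycOn (posEmb k) ^ 2)⁻¹ x = x := fun x hx => by
    rw [Perm.inv_eq_iff_eq, pow_two, Perm.mul_apply, cycOn_fix _ (notMem_range_pos hx),
      cycOn_fix _ (notMem_range_pos hx)]
  exact ⟨h _ (show (0 : ℕ) < 2 by omega), h _ (show (1 : ℕ) < 2 by omega)⟩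

theorem presOn_shift (hk : 4 ≤ k) {α β : Type} {u : α → SpecialLinearGroup (Fin 3) F} {r3 : ℕ}
    (h3 : PresOn u r3) {v : β → alternatingGroup (Fin (3 + k))} {r : ℕ} (hA : PresOn v r) :
    PresOn (Sum.elim (emb3 ∘ u) (permSL ∘ v)) (r3 + (r + 4)) := by
  classical
  have hk1 : 1 ≤ k := by omega
  obtain ⟨x₀, hx⟩ := exists_pair (F := F)
  let X : Rel F k := l3 (emb2 x₀)
  let shiftRel : Rel F k := lA (cEl k) * X * (lA (cEl k))⁻¹ * (⁅X, lA (rho hk1) * X * (lA (rho hk1))⁻¹⁆ * X)⁻¹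
  refine (presOn_glue hk1 h3 hA (baseRels hk1 x₀ ++ [stabRel x₀ (hEl hk), shiftRel]) ?_ ?_).mono (by simp [baseRels])
  · intro x hx'
    simp only [List.mem_append, List.mem_cons, List.not_mem_nil, or_false] at hx'
    rcases hx' with hx' | rfl | rfl
    · exact baseRels_true hk1 x₀ x hx'
    · exact stabRel_true x₀ (hEl_stab hk)
    · simp only [shiftRel, X, l3, lA, map_mul, map_inv, map_commutatorElement, FreeGroup.lift_apply_of,
        Sum.elim_inl, Sum.elim_inr, mul_inv_eq_one]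
      have e : ⁅emb3 (k := k) (emb2 x₀), permSL (rho hk1) * emb3 (emb2 x₀) * (permSL (rho hk1))⁻¹⁆ = 1 :=
        commutatorElement_eq_one_iff_commute.2 (permSL_blk_away (rho_away hk1) x₀ x₀)
      rw [e, one_mul]
      exact mul_inv_eq_iff_eq_mul.2 (permSL_blk_stab (cEl k) cEl_stab.1 cEl_stab.2 x₀).eq
  intro G _ i' j' π hπi hπj hgen hall
  let D := gluedOf hk1 hx i' j' π hπi hπj hgen fun y hy => hall y (List.mem_append_left _ hy)
  have hh : Commute (j' (hEl hk)) D.x := by
    have := hall (stabRel x₀ (hEl hk)) (List.mem_append_right _ (List.mem_cons_self ..))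
    simpa [stabRel, l3, lA, map_commutatorElement, commutatorElement_eq_one_iff_commute] using! this
  set z := j' (rho hk1) * D.x * (j' (rho hk1))⁻¹ with hz
  have hc : j' (cEl k) * D.x * (j' (cEl k))⁻¹ = ⁅D.x, z⁆ * D.x := by
    have := hall shiftRel (List.mem_append_right _ (List.mem_cons_of_mem _ (List.mem_cons_self ..)))
    simp only [shiftRel, X, l3, lA, map_mul, map_inv, map_commutatorElement, FreeGroup.lift_apply_of,
        Sum.elim_inl, Sum.elim_inr, mul_inv_eq_one] at this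
    exact this
  let A2 := alternatingGroup (Fin (3 + k))
  let C : Subgroup (Perm (Fin (3 + k))) := ((Subgroup.centralizer {D.x}).comap j' ⊓
    ((MulAction.stabilizer (Perm (Fin (3 + k))) (lead k 0)) ⊓
      MulAction.stabilizer (Perm (Fin (3 + k))) (lead k 1)).subgroupOf A2).map A2.subtype
  have hC : ∀ {τ : A2}, τ.1 ∈ C ↔ Commute (j' τ) D.x ∧ Stab τ := by
    intro τ
    simp only [C, Subgroup.mem_map, Subgroup.mem_inf, Subgroup.mem_comap, Subgroup.mem_subgroupOf,
      MulAction.mem_stabilizer_iff, Subgroup.mem_centralizer_singleton_iff]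
    constructor
    · rintro ⟨τ', ⟨h1, h2⟩, h3⟩
      obtain rfl : τ' = τ := Subtype.ext h3
      exact ⟨h1, h2⟩
    · rintro ⟨h1, h2⟩
      exact ⟨τ, ⟨h1, h2⟩, rfl⟩
  have hfull : Full C (Finset.univ.image (posEmb k)) := by
    refine AltShift.full_of_shift (by omega) (posEmb k) C (hC.2 ⟨hh, hEl_stab hk⟩) fun y hy hsgn hfix => ?_
    obtain ⟨hcy, hst⟩ := (hC (τ := ⟨y, Perm.mem_alternatingGroup.2 hsgn⟩)).1 hy
    set τ : A2 := ⟨y, Perm.mem_alternatingGroup.2 hsgn⟩
    have e : (cycOn (posEmb k) ^ 2 * y * (cycOn (posEmb k) ^ 2)⁻¹) = ((cEl k)⁻¹ * τ * cEl k).1 := by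
      simp [cEl, τ]
    rw [e]
    refine hC.2 ⟨?_, ?_⟩
    · have h2 : y (lead k 2) = lead k 2 := by
        have e2 : posEmb k ⟨k - 1, by omega⟩ = lead k 2 := Fin.ext (by
          show 2 + (k - 1 + 2) % (k + 1) = 2
          rw [show k - 1 + 2 = k + 1 by omega, Nat.mod_self])
        rw [← e2]
        exact hfix _ (show k + 1 ≤ k - 1 + 2 by omega)
      have h3' : y (p3 hk1) = p3 hk1 := by
        have e3 : posEmb k ⟨k, by omega⟩ = p3 hk1 := Fin.ext (by
          show 2 + (k + 2) % (k + 1) = 3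
          rw [show k + 2 = 1 + (k + 1) by omega, Nat.add_mod_right, Nat.mod_eq_of_lt (by omega)])
        rw [← e3]
        exact hfix _ (show k + 1 ≤ k + 2 by omega)
      have hρτ : Commute (rho hk1).1 y := by
        refine Perm.Disjoint.commute fun x => ?_
        by_cases h0 : x = lead k 0
        · exact Or.inr (by rw [h0]; exact hst.1)
        by_cases h1 : x = lead k 1
        · exact Or.inr (by rw [h1]; exact hst.2)
        by_cases h2' : x = lead k 2
        · exact Or.inr (by rw [h2', h2])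
        by_cases h3'' : x = p3 hk1
        · exact Or.inr (by rw [h3'', h3'])
        refine Or.inl ?_
        show (swap (lead k 0) (lead k 2) * swap (lead k 1) (p3 hk1)) x = x
        rw [Perm.mul_apply, swap_apply_of_ne_of_ne h1 h3'', swap_apply_of_ne_of_ne h0 h2']
      have hjρ : Commute (j' (rho hk1)) (j' τ) := Commute.map (show Commute (rho hk1) τ from Subtype.ext hρτ) j'
      have hτz : Commute (j' τ) z := (hjρ.symm.mul_right hcy).mul_right hjρ.symm.inv_right
      have hW : Commute (j' τ) (j' (cEl k) * D.x * (j' (cEl k))⁻¹) := by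
        rw [hc, commutatorElement_def]
        exact (((hcy.mul_right hτz).mul_right hcy.inv_right).mul_right hτz.inv_right).mul_right hcy
      have := (Commute.conj_iff (j' (cEl k))⁻¹).2 hW
      rw [show (j' (cEl k))⁻¹ * (j' (cEl k) * D.x * (j' (cEl k))⁻¹) * (j' (cEl k))⁻¹⁻¹ = D.x by group,
        inv_inv, ← map_inv, ← map_mul, ← map_mul] at this
      exact this
    · obtain ⟨c0, c1⟩ := cEl_stab (k := k)
      constructor <;> show (cEl k).1.symm (y ((cEl k).1 _)) = _ <;> rw [Equiv.symm_apply_eq]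
      · rw [c0, hst.1]
      · rw [c1, hst.2]
  have hall' : ∀ τ, Stab τ → Commute (j' τ) D.x := by
    intro τ hτ
    refine (hC.1 (hfull τ.1 (Perm.mem_alternatingGroup.1 τ.2) fun x hx => ?_)).1
    have hlt : (x : ℕ) < 2 := by
      by_contra hge
      obtain ⟨t, ht⟩ := exists_pos (x := x) (by omega)
      exact hx (Finset.mem_image.2 ⟨t, Finset.mem_univ t, ht⟩)
    rcases (show (x : ℕ) = 0 ∨ (x : ℕ) = 1 by omega) with h | h
    · rw [show x = lead k 0 from Fin.ext h]; exact hτ.1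
    · rw [show x = lead k 1 from Fin.ext h]; exact hτ.2
  have hd : Commute D.x z := by
    have h1 := hc
    rw [(hall' _ cEl_stab).eq, mul_inv_cancel_right] at h1
    exact commutatorElement_eq_one_iff_commute.1 (mul_eq_right.1 h1.symm)
  refine D.injective_of hall' hd ?_
  obtain ⟨τ, hτ, h⟩ := cover_six (k := k) (by omega)
  have h' := (Commute.conj_iff (j' τ)).2 hd
  rw [(hall' τ hτ).eq, mul_inv_cancel_right] at h'
  show Commute D.x (j' (rho hk1 * sig hk1) * D.x * (j' (rho hk1 * sig hk1))⁻¹)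
  rw [show rho hk1 * sig hk1 = τ * rho hk1 * ((τ * rho hk1)⁻¹ * (rho hk1 * sig hk1)) by group, map_mul, map_mul,
    show ∀ a b c y : G, a * b * c * y * (a * b * c)⁻¹ = a * (b * (c * y * c⁻¹) * b⁻¹) * a⁻¹ from
      fun a b c y => by group, (hall' _ h).eq, mul_inv_cancel_right]
  exact h'

end Cfsg.Agent.Lie.SLnSeven
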