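import Cfsg.Agent.Lib.Lie.SU3PresField
import Cfsg.Agent.Lib.Lie.Sl3PresFinal

/-!
The Borel subgroup of `SU₃(q)`: two elements and a bounded list of conditions determine it.
-/

set_option autoImplicit false
set_option linter.unusedSectionVars false

namespace Cfsg.Agent.Lie.SU3Pres

open Polynomial Matrix Cfsg.Agent.Fus.UnitN Cfsg.Agent.Classical Cfsg.Agent.Classical.PSUAut Cfsg.Agent.Lie.SUGen
open Cfsg.Agent.Lie.Sl2Pres (pword AbData pword_X_pow pword_one map_pword)
open scoped commutatorElement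

section Abstract

variable {Γ : Type*} [Group Γ] {u g z : Γ} {N : ℕ}

local notation "conjP" => Cfsg.Agent.Lie.Sl2Pres.cj

theorem conjP_map {H : Type*} [Group H] (φ : Γ →* H) (x y : Γ) (k : ℕ) :
    φ (conjP x y k) = conjP (φ x) (φ y) k := by
  simp [Cfsg.Agent.Lie.Sl2Pres.cj]

theorem conjP_mul_period (hN : g ^ N = 1) (x : Γ) (k i : ℕ) : conjP g x (k + N * i) = conjP g x k := by
  simp [Cfsg.Agent.Lie.Sl2Pres.cj, pow_add, pow_mul, hN]

theorem conjP_succ (x : Γ) (k : ℕ) : g * conjP g x k * g⁻¹ = conjP g x (k + 1) := by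
  simp [Cfsg.Agent.Lie.Sl2Pres.cj, pow_succ', mul_assoc]

theorem conjP_pred (hN : g ^ N = 1) (hN0 : 0 < N) (x : Γ) (k : ℕ) :
    g⁻¹ * conjP g x k * g = conjP g x (k + (N - 1)) := by
  have h1 := conjP_succ (g := g) x (k + (N - 1))
  rw [show k + (N - 1) + 1 = k + N * 1 by omega, conjP_mul_period hN] at h1
  rw [← h1]; group

theorem commute_z (hN : g ^ N = 1) (hN0 : 0 < N) (hzc : ∀ k, Commute z (conjP g u k)) (i j : ℕ) :
    Commute (conjP g z i) (conjP g u j) := by
  obtain ⟨k, hk⟩ : ∃ k, i + k = j + N * i := ⟨j + N * i - i, by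
    have := Nat.le_mul_of_pos_left i hN0
    omega⟩
  rw [← conjP_mul_period hN u j i, ← hk, Sl2Pres.cj_add]
  exact (Commute.conj_iff (g ^ i)).2 (hzc k)

theorem normal_closure_z (gen : Subgroup.closure ({u, g} : Set Γ) = ⊤) (hN : g ^ N = 1) (hN0 : 0 < N)
    (hzc : ∀ k, Commute z (conjP g u k)) : (Subgroup.closure (Set.range (conjP g z))).Normal := by
  set K := Subgroup.closure (Set.range (conjP g z))
  have hgen : ∀ a : Γ, (∀ i, a * conjP g z i * a⁻¹ ∈ K ∧ a⁻¹ * conjP g z i * a ∈ K) →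
      ∀ y ∈ K, a * y * a⁻¹ ∈ K ∧ a⁻¹ * y * a ∈ K := by
    intro a ha y hy
    induction hy using Subgroup.closure_induction with
    | mem y hy => obtain ⟨i, rfl⟩ := hy; exact ha i
    | one => simp
    | mul x y _ _ hx hy =>
      exact ⟨by simpa [mul_assoc] using mul_mem hx.1 hy.1, by simpa [mul_assoc] using mul_mem hx.2 hy.2⟩
    | inv x _ hx =>
      exact ⟨by simpa [mul_assoc] using inv_mem hx.1, by simpa [mul_assoc] using inv_mem hx.2⟩
  refine ⟨fun y hy a => ?_⟩
  suffices ∀ y ∈ K, a * y * a⁻¹ ∈ K ∧ a⁻¹ * y * a ∈ K from (this y hy).1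
  have ha : a ∈ Subgroup.closure ({u, g} : Set Γ) := gen ▸ Subgroup.mem_top a
  clear hy y
  induction ha using Subgroup.closure_induction with
  | mem x hx =>
    rcases hx with rfl | rfl
    · refine hgen _ fun i => ?_
      have hc : Commute (conjP g z i) x := by
        simpa [Sl2Pres.cj_zero] using commute_z hN hN0 hzc i 0
      constructor
      · rw [hc.symm.eq, mul_inv_cancel_right]; exact Subgroup.subset_closure ⟨i, rfl⟩
      · rw [mul_assoc, hc.eq, inv_mul_cancel_left]; exact Subgroup.subset_closure ⟨i, rfl⟩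
    · refine hgen _ fun i => ⟨?_, ?_⟩
      · rw [conjP_succ]; exact Subgroup.subset_closure ⟨_, rfl⟩
      · rw [conjP_pred hN hN0]; exact Subgroup.subset_closure ⟨_, rfl⟩
  | one => exact fun y hy => by simpa using hy
  | mul x x' _ _ hx hx' =>
    exact fun y hy => ⟨by simpa [mul_assoc] using (hx _ (hx' y hy).1).1,
      by simpa [mul_assoc] using (hx' _ (hx y hy).2).2⟩
  | inv x _ hx => exact fun y hy => ⟨by simpa using (hx y hy).2, by simpa using (hx y hy).1⟩

theorem conj_mem_of_gens {S : Set Γ} {K : Subgroup Γ} {a : Γ} (h0 : ∀ s ∈ S, a * s * a⁻¹ ∈ K)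
    {x : Γ} (hx : x ∈ Subgroup.closure S) : a * x * a⁻¹ ∈ K := by
  induction hx using Subgroup.closure_induction with
  | mem x hx => exact h0 x hx
  | one => simp
  | mul x y _ _ hx hy => simpa [mul_assoc] using mul_mem hx hy
  | inv x _ hx => simpa [mul_assoc] using inv_mem hx

theorem commute_of_gens {S : Set Γ} {a x : Γ} (h0 : ∀ s ∈ S, Commute a s)
    (hx : x ∈ Subgroup.closure S) : Commute a x := by
  induction hx using Subgroup.closure_induction with
  | mem x hx => exact h0 x hx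
  | one => exact Commute.one_right a
  | mul x y _ _ hx hy => exact hx.mul_right hy
  | inv x _ hx => exact hx.inv_right

/-- The conjugates commute modulo the centre, from a smaller abelian family generating them. -/
theorem comm_of_span {S : Set Γ} (K : Subgroup Γ) [K.Normal] (hS : ∀ k, conjP g u k ∈ Subgroup.closure S)
    (hc : ∀ s ∈ S, ∀ t ∈ S, Commute (QuotientGroup.mk' K s) (QuotientGroup.mk' K t)) (k : ℕ) :
    ⁅u, conjP g u k⁆ ∈ K := by
  have h2 : ∀ x ∈ Subgroup.closure S, ∀ y ∈ Subgroup.closure S,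
      Commute (QuotientGroup.mk' K x) (QuotientGroup.mk' K y) := by
    intro x hx
    induction hx using Subgroup.closure_induction with
    | mem x hx =>
      intro y hy
      induction hy using Subgroup.closure_induction with
      | mem y hy => exact hc x hx y hy
      | one => rw [map_one]; exact Commute.one_right _
      | mul a b _ _ ha hb => rw [map_mul]; exact ha.mul_right hb
      | inv a _ ha => rw [map_inv]; exact ha.inv_right
    | one => intro y hy; rw [map_one]; exact Commute.one_left _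
    | mul a b _ _ ha hb => intro y hy; rw [map_mul]; exact (ha y hy).mul_left (hb y hy)
    | inv a _ ha => intro y hy; rw [map_inv]; exact (ha y hy).inv_left
  rw [← QuotientGroup.eq_one_iff]
  show QuotientGroup.mk' K _ = 1
  rw [map_commutatorElement]
  refine commutatorElement_eq_one_iff_commute.2 (h2 _ ?_ _ (hS k))
  simpa [Sl2Pres.cj_zero] using hS 0

/-- The general case: `z` is central and the conjugates commute modulo its conjugates. -/
theorem route_general {k0 m : ℕ} {a ζ : Γ} (gen : Subgroup.closure ({u, g} : Set Γ) = ⊤)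
    (hN : g ^ N = 1) (hN0 : 0 < N) (ha : a = g ^ k0) (hz : z = ⁅u, conjP g u k0⁆)
    (huz : Commute z u) (haz : Commute z a) (hM : conjP g u 1 ∈ Subgroup.closure (Set.range (conjP a u)))
    (hb : g ^ m * u * (g ^ m)⁻¹ = u * conjP a u 1 * ζ)
    (hζ : ζ ∈ Subgroup.closure (Set.range (conjP g z))) :
    (∀ k, Commute z (conjP g u k)) ∧ ∀ k, ⁅u, conjP g u k⁆ ∈ Subgroup.closure (Set.range (conjP g z)) := by
  set M := Subgroup.closure (Set.range (conjP a u))
  have hag : Commute g a := ha ▸ (Commute.refl g).pow_right k0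
  have hzM : ∀ x ∈ M, Commute z x := fun x hx => commute_of_gens (by
    rintro _ ⟨k, rfl⟩
    have := (haz.pow_right k)
    exact ((this.mul_right huz).mul_right this.inv_right)) hx
  have hMu : ∀ k, conjP g u k ∈ M := by
    intro k
    induction k with
    | zero => rw [Sl2Pres.cj_zero, ← Sl2Pres.cj_zero a u]; exact Subgroup.subset_closure ⟨0, rfl⟩
    | succ k ih =>
      rw [← conjP_succ]
      refine conj_mem_of_gens ?_ ih
      rintro _ ⟨i, rfl⟩
      have e : g * conjP a u i * g⁻¹ = a ^ i * conjP g u 1 * (a ^ i)⁻¹ := by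
        simp only [Cfsg.Agent.Lie.Sl2Pres.cj, pow_one]
        have := (hag.pow_right i).eq
        calc g * (a ^ i * u * (a ^ i)⁻¹) * g⁻¹ = (g * a ^ i) * u * (g * a ^ i)⁻¹ := by group
          _ = _ := by rw [this]; group
      rw [e]
      refine conj_mem_of_gens ?_ hM
      rintro _ ⟨j, rfl⟩
      rw [← Sl2Pres.cj_add]
      exact Subgroup.subset_closure ⟨_, rfl⟩
  have hzc : ∀ k, Commute z (conjP g u k) := fun k => hzM _ (hMu k)
  refine ⟨hzc, ?_⟩
  haveI := normal_closure_z gen hN hN0 hzc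
  set K := Subgroup.closure (Set.range (conjP g z))
  have hζ' : QuotientGroup.mk' K ζ = 1 := (QuotientGroup.eq_one_iff _).2 hζ
  have hz' : QuotientGroup.mk' K z = 1 := (QuotientGroup.eq_one_iff _).2
    (by rw [← Sl2Pres.cj_zero g z]; exact Subgroup.subset_closure ⟨0, rfl⟩)
  have h1 : Commute (QuotientGroup.mk' K u) (conjP (QuotientGroup.mk' K a) (QuotientGroup.mk' K u) 1) := by
    rw [← conjP_map, ← commutatorElement_eq_one_iff_commute, ← map_commutatorElement]
    refine Eq.trans ?_ hz'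
    congr 1
    rw [hz, ha]
    simp [Cfsg.Agent.Lie.Sl2Pres.cj]
  have hall := Sl2Pres.commute_all_of_shift (b := QuotientGroup.mk' K (g ^ m))
    ((hag.pow_left m).symm.map (QuotientGroup.mk' K)) (by
      rw [← map_inv, ← map_mul, ← map_mul, hb, map_mul, hζ', mul_one, map_mul, conjP_map]) h1
  refine comm_of_span K hMu ?_
  rintro _ ⟨i, rfl⟩ _ ⟨j, rfl⟩
  rw [conjP_map, conjP_map]
  rcases Nat.le_total i j with hij | hij
  · have := Sl2Pres.commute_cj_of_zero (hall (j - i)) i
    rwa [Nat.add_sub_cancel' hij] at this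
  · have := Sl2Pres.commute_cj_of_zero (hall (i - j)) j
    rw [Nat.add_sub_cancel' hij] at this
    exact this.symm

/-- The case of a field where no element of norm one generates. -/
theorem route_small {d : ℕ} (gen : Subgroup.closure ({u, g} : Set Γ) = ⊤) (hN : g ^ N = 1)
    (hN0 : 0 < N) (hd : 0 < d) (hzd : ∀ k, k < d → Commute z (conjP g u k))
    (hstep : conjP g u d ∈ Subgroup.closure (conjP g u '' Set.Iio d))
    (hqd : ∀ k, k < d → ⁅u, conjP g u k⁆ ∈ Subgroup.closure (Set.range (conjP g z))) :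
    (∀ k, Commute z (conjP g u k)) ∧ ∀ k, ⁅u, conjP g u k⁆ ∈ Subgroup.closure (Set.range (conjP g z)) := by
  have hMu : ∀ k, conjP g u k ∈ Subgroup.closure (conjP g u '' Set.Iio d) := by
    intro k
    induction k with
    | zero => exact Subgroup.subset_closure ⟨0, hd, rfl⟩
    | succ k ih =>
      rw [← conjP_succ]
      refine conj_mem_of_gens ?_ ih
      rintro _ ⟨i, hi, rfl⟩
      rw [conjP_succ]
      rcases Nat.lt_or_ge (i + 1) d with h1 | h1
      · exact Subgroup.subset_closure ⟨_, h1, rfl⟩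
      · rw [show i + 1 = d by simp only [Set.mem_Iio] at hi; omega]; exact hstep
  have hzc : ∀ k, Commute z (conjP g u k) := fun k => commute_of_gens (by
    rintro _ ⟨i, hi, rfl⟩
    exact hzd i hi) (hMu k)
  refine ⟨hzc, ?_⟩
  haveI := normal_closure_z gen hN hN0 hzc
  set K := Subgroup.closure (Set.range (conjP g z))
  refine comm_of_span K hMu ?_
  have h0 : ∀ k, k < d → Commute (QuotientGroup.mk' K u)
      (conjP (QuotientGroup.mk' K g) (QuotientGroup.mk' K u) k) := by
    intro k hk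
    rw [← conjP_map, ← commutatorElement_eq_one_iff_commute, ← map_commutatorElement]
    exact (QuotientGroup.eq_one_iff _).2 (hqd k hk)
  rintro _ ⟨i, hi, rfl⟩ _ ⟨j, hj, rfl⟩
  rw [conjP_map, conjP_map]
  simp only [Set.mem_Iio] at hi hj
  rcases Nat.le_total i j with hij | hij
  · have := Sl2Pres.commute_cj_of_zero (h0 (j - i) (by omega)) i
    rwa [Nat.add_sub_cancel' hij] at this
  · have := Sl2Pres.commute_cj_of_zero (h0 (i - j) (by omega)) j
    rw [Nat.add_sub_cancel' hij] at this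
    exact this.symm

theorem pow_commutator {v : Γ} (hv : z = ⁅u, v⁆) (hu : Commute z u) (n : ℕ) :
    u ^ n * v * (u ^ n)⁻¹ = z ^ n * v := by
  induction n with
  | zero => simp
  | succ n ih =>
    have hzn : u * z ^ n = z ^ n * u := ((hu.pow_left n).symm).eq
    calc u ^ (n + 1) * v * (u ^ (n + 1))⁻¹ = u * (u ^ n * v * (u ^ n)⁻¹) * u⁻¹ := by
          rw [pow_succ']; group
      _ = (u * z ^ n) * v * u⁻¹ := by rw [ih]; group
      _ = z ^ n * (z * v) := by rw [hzn, hv, commutatorElement_def]; group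
      _ = _ := by rw [pow_succ, mul_assoc]

end Abstract

section Concrete

variable {F : Type*} [Field F] [Fintype F] {q : ℕ}
variable {p : ℕ} [Fact p.Prime] [Algebra (ZMod p) F]
variable (hF : Fintype.card F = q ^ 2)
variable {e n f : Fin 3 → F} (B : Frame3 q e n f)

local notation "conjP" => Cfsg.Agent.Lie.Sl2Pres.cj
local notation "σ" => qFrob hF

include hF B

theorem conjP_U {l α b : F} (hl : l ≠ 0) (h1 : OK hF α b) (k : ℕ) :
    conjP (Tm hF B l) (Um hF B α b) k = Um hF B (th hF l ^ k * α) (l ^ k * σ (l ^ k) * b) := by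
  rw [Cfsg.Agent.Lie.Sl2Pres.cj, T_pow hF B hl, T_conj hF B (pow_ne_zero k hl) h1, th_pow hF]

theorem U_pow {α b : F} (h1 : OK hF α b) (c : ℕ) :
    ∃ b', OK hF ((c : F) * α) b' ∧ Um hF B α b ^ c = Um hF B ((c : F) * α) b' := by
  induction c with
  | zero => exact ⟨0, by simpa using OK.zero hF, by simpa using (U_zero hF B).symm⟩
  | succ c ih =>
    obtain ⟨b', h2, e2⟩ := ih
    refine ⟨b' + b - σ ((c : F) * α) * α, ?_, ?_⟩
    · rw [Nat.cast_succ, add_mul, one_mul]; exact h2.mul hF h1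
    · rw [pow_succ, e2, U_mul hF B h2 h1, Nat.cast_succ, add_mul, one_mul]

theorem lin_pword {Γ : Type*} [Group Γ] {u g : Γ} (π : Γ →* SU 3 F q) {l b₀ : F} (hl : l ≠ 0)
    (hb₀ : OK hF 1 b₀) (pu : π u = Um hF B 1 b₀) (ph : π g = Tm hF B l) (P : (ZMod p)[X]) :
    ∃ b, OK hF (aeval (th hF l) P) b ∧ π (pword P g u) = Um hF B (aeval (th hF l) P) b := by
  rw [map_pword, pu, ph, aeval_eq_sum_range]
  unfold Sl2Pres.pword
  generalize P.natDegree + 1 = k
  induction k with
  | zero => exact ⟨0, by simpa using OK.zero hF, by simpa using (U_zero hF B).symm⟩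
  | succ k ih =>
    obtain ⟨b', h2, e2⟩ := ih
    obtain ⟨b'', h3, e3⟩ := U_pow hF B (hb₀.scale hF (pow_ne_zero k hl)) (P.coeff k).val
    have hv : ((P.coeff k).val : F) * (th hF (l ^ k) * 1) = P.coeff k • th hF l ^ k := by
      rw [mul_one, th_pow hF, Algebra.smul_def,
        show algebraMap (ZMod p) F (P.coeff k) = ((P.coeff k).val : F) by
          rw [← map_natCast (algebraMap (ZMod p) F), ZMod.natCast_zmod_val]]
    rw [hv] at h3
    rw [List.range_succ, List.map_append, List.prod_append, Finset.sum_range_succ, e2, List.map_cons,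
      List.map_nil, List.prod_singleton]
    refine ⟨_, h2.mul hF h3, ?_⟩
    rw [← conj_pow, T_pow hF B hl, T_conj hF B (pow_ne_zero k hl) hb₀, e3, hv, U_mul hF B h2 h3]

/-- The Borel group maps injectively. -/
theorem borel_injective {Γ : Type*} [Group Γ] {u g z : Γ} {k0 N : ℕ} (π : Γ →* SU 3 F q) {l b₀ : F}
    (hl : l ≠ 0) (hord : ∀ k : ℕ, l ^ k = 1 → N ∣ k) (hN0 : 0 < N)
    (hθ : ∀ M : Subfield F, th hF l ∈ M → M = ⊤) (hk0 : σ (th hF l ^ k0) ≠ th hF l ^ k0)
    (hb₀ : OK hF 1 b₀) (gen : Subgroup.closure ({u, g} : Set Γ) = ⊤)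
    (pu : π u = Um hF B 1 b₀) (ph : π g = Tm hF B l) (hN : g ^ N = 1) (hz : z = ⁅u, conjP g u k0⁆)
    (hzc : ∀ k, Commute z (conjP g u k))
    (hq : ∀ k, ⁅u, conjP g u k⁆ ∈ Subgroup.closure (Set.range (conjP g z)))
    (hp : u ^ p ∈ Subgroup.closure (Set.range (conjP g z)))
    (hmin : pword (minpoly (ZMod p) (th hF l)) g u ∈ Subgroup.closure (Set.range (conjP g z)))
    (hmin' : pword (minpoly (ZMod p) (l * σ l)) g z = 1) :
    Function.Injective π ∧
      ∀ x : Γ, ∃ a b : F, ∃ k : ℕ, OK hF a b ∧ π x = Um hF B a b * Tm hF B (l ^ k) := by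
  set θ := th hF l with hθdef
  set ν := l * σ l with hνdef
  haveI := normal_closure_z gen hN hN0 hzc
  set K := Subgroup.closure (Set.range (conjP g z))
  set mk := QuotientGroup.mk' K
  -- the centre
  have hzu : Commute z u := by simpa [Sl2Pres.cj_zero] using hzc 0
  have hKu : ∀ x ∈ K, ∀ k, Commute x (conjP g u k) := fun x hx k =>
    (commute_of_gens (by rintro _ ⟨i, rfl⟩; exact (commute_z hN hN0 hzc i k).symm) hx).symm
  have hzp : z ^ p = 1 := by
    have h1 := pow_commutator hz hzu p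
    rw [(hKu _ hp k0).eq, mul_inv_cancel_right] at h1
    exact mul_eq_right.1 h1.symm
  have hzz : ∀ i, Commute z (conjP g z i) := by
    intro i
    refine Commute.symm ?_
    have c1 := hKu _ (Subgroup.subset_closure ⟨i, rfl⟩) 0
    have c2 := hKu _ (Subgroup.subset_closure ⟨i, rfl⟩) k0
    rw [Sl2Pres.cj_zero] at c1
    have := ((c1.mul_right c2).mul_right c1.inv_right).mul_right c2.inv_right
    rwa [← commutatorElement_def, ← hz] at this
  have hd0 : AbData p g z := ⟨hzp, hzz⟩
  have hd1 : AbData p (mk g) (mk u) := by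
    refine ⟨by rw [← map_pow]; exact (QuotientGroup.eq_one_iff _).2 hp, fun k => ?_⟩
    rw [← conjP_map, ← commutatorElement_eq_one_iff_commute, ← map_commutatorElement]
    exact (QuotientGroup.eq_one_iff _).2 (hq k)
  -- the elements of the centre
  have hK : ∀ x ∈ K, ∃ P : (ZMod p)[X], x = pword P g z := by
    intro x hx
    induction hx using Subgroup.closure_induction with
    | mem x hx => obtain ⟨i, rfl⟩ := hx; exact ⟨X ^ i, (pword_X_pow g z i).symm⟩
    | one => exact ⟨0, hd0.pword_zero.symm⟩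
    | mul a b _ _ ha hb => obtain ⟨P, rfl⟩ := ha; obtain ⟨Q, rfl⟩ := hb; exact ⟨P + Q, (hd0.pword_add P Q).symm⟩
    | inv a _ ha => obtain ⟨P, rfl⟩ := ha; exact ⟨-P, (hd0.pword_neg P).symm⟩
  set M := Subgroup.closure (Set.range (conjP g u))
  have hM : ∀ x ∈ M, ∃ P : (ZMod p)[X], mk x = pword P (mk g) (mk u) := by
    intro x hx
    induction hx using Subgroup.closure_induction with
    | mem x hx => obtain ⟨i, rfl⟩ := hx; exact ⟨X ^ i, by rw [pword_X_pow, conjP_map]⟩
    | one => exact ⟨0, by rw [hd1.pword_zero, map_one]⟩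
    | mul a b _ _ ha hb =>
      obtain ⟨P, hP⟩ := ha; obtain ⟨Q, hQ⟩ := hb
      exact ⟨P + Q, by rw [hd1.pword_add, map_mul, hP, hQ]⟩
    | inv a _ ha => obtain ⟨P, hP⟩ := ha; exact ⟨-P, by rw [hd1.pword_neg, map_inv, hP]⟩
  -- the value of `z`
  set c₀ := 1 * σ (θ ^ k0 * 1) - σ 1 * (θ ^ k0 * 1) with hc₀def
  have hc₀ : c₀ + σ c₀ = 0 := by
    simp only [hc₀def, map_sub, map_mul, map_one, cj_cj hF]; ring
  have pz : π z = Um hF B 0 c₀ := by
    rw [hz, map_commutatorElement, conjP_map, pu, ph, conjP_U hF B hl hb₀,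
      U_comm hF B hb₀ (by have := hb₀.scale hF (pow_ne_zero k0 hl); rwa [th_pow hF] at this)]
  have hc₀ne : c₀ ≠ 0 := by
    simp only [hc₀def, map_one, one_mul, mul_one]
    exact sub_ne_zero.2 hk0
  obtain ⟨κ, hκ⟩ := exists_sub_cj hF B hc₀
  have hνreal : σ ν = ν := by rw [hνdef, map_mul, cj_cj hF, mul_comm]
  let ψ : F → SU 3 F q := fun x => Um hF B 0 (x * κ - σ (x * κ))
  have hψok : ∀ x : F, OK hF 0 (x * κ - σ (x * κ)) := fun x => OK.skew hF (by
    rw [map_sub, cj_cj hF]; ring)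
  have hψadd : ∀ x y, ψ (x + y) = ψ x * ψ y := fun x y => by
    simp only [ψ]
    rw [U_mul hF B (hψok x) (hψok y)]
    simp only [map_zero, map_add, add_mul, add_zero]
    congr 1; ring
  have hψconj : ∀ x, Tm hF B l * ψ x * (Tm hF B l)⁻¹ = ψ (ν * x) := fun x => by
    simp only [ψ]
    rw [T_conj hF B hl (hψok x), mul_zero]
    congr 1
    simp only [map_mul, hνreal, mul_assoc ν]
    ring
  have hψ1 : ψ 1 = π z := by rw [pz]; simp only [ψ, one_mul, hκ]
  have pK : ∀ P : (ZMod p)[X], π (pword P g z) = ψ (aeval ν P) := fun P => by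
    rw [map_pword, ph, ← hψ1, Sl3Pres.pword_of_conj hψadd hψconj]
  have haeval : ∀ P : (ZMod p)[X], σ (aeval ν P) = aeval ν P := by
    intro P
    induction P using Polynomial.induction_on' with
    | add A C hA hC => rw [map_add, map_add, hA, hC]
    | monomial i a =>
      rw [aeval_monomial, map_mul, map_pow, hνreal,
        show algebraMap (ZMod p) F a = ((a.val : ℕ) : F) by
          rw [← map_natCast (algebraMap (ZMod p) F), ZMod.natCast_zmod_val], map_natCast]
  -- a normal form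
  have hMu : ∀ x ∈ M, ∀ k, g ^ k * x * (g ^ k)⁻¹ ∈ M := fun x hx k => conj_mem_of_gens (by
    rintro _ ⟨i, rfl⟩
    rw [← Sl2Pres.cj_add]
    exact Subgroup.subset_closure ⟨_, rfl⟩) hx
  have hform : ∀ x : Γ, ∃ m ∈ M, ∃ k : ℕ, x = m * g ^ k := by
    intro x
    have hx : x ∈ Subgroup.closure ({u, g} : Set Γ) := gen ▸ Subgroup.mem_top x
    induction hx using Subgroup.closure_induction with
    | mem x hx =>
      rcases hx with rfl | rfl
      · exact ⟨x, Subgroup.subset_closure ⟨0, Sl2Pres.cj_zero g x⟩, 0, by simp⟩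
      · exact ⟨1, one_mem _, 1, by simp⟩
    | one => exact ⟨1, one_mem _, 0, by simp⟩
    | mul a b _ _ ha hb =>
      obtain ⟨m, hm, k, rfl⟩ := ha
      obtain ⟨m', hm', k', rfl⟩ := hb
      exact ⟨m * (g ^ k * m' * (g ^ k)⁻¹), mul_mem hm (hMu _ hm' k), k + k', by rw [pow_add]; group⟩
    | inv a _ ha =>
      obtain ⟨m, hm, k, rfl⟩ := ha
      have e : (g ^ k)⁻¹ = g ^ (N * k - k) := by
        refine inv_eq_of_mul_eq_one_right ?_
        rw [← pow_add, Nat.add_sub_cancel' (Nat.le_mul_of_pos_left k hN0), pow_mul, hN, one_pow]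
      exact ⟨g ^ (N * k - k) * m⁻¹ * (g ^ (N * k - k))⁻¹, hMu _ (inv_mem hm) _, N * k - k, by
        rw [_root_.mul_inv_rev, e, inv_mul_cancel_right]⟩
  have hMimg : ∀ x ∈ M, ∃ (P : (ZMod p)[X]) (b : F), OK hF (aeval θ P) b ∧
      π x = Um hF B (aeval θ P) b ∧ mk x = mk (pword P g u) := by
    intro x hx
    obtain ⟨P, hP⟩ := hM x hx
    rw [← map_pword] at hP
    have hk : x⁻¹ * pword P g u ∈ K := by
      rw [← QuotientGroup.eq]; exact hP
    obtain ⟨Q, hQ⟩ := hK _ (inv_mem hk)
    rw [_root_.mul_inv_rev, inv_inv, inv_mul_eq_iff_eq_mul] at hQ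
    obtain ⟨b, hb, eb⟩ := lin_pword hF B π hl hb₀ pu ph P
    have hc := hψok (aeval ν Q)
    refine ⟨P, b + (aeval ν Q * κ - σ (aeval ν Q * κ)) - σ (aeval θ P) * 0, by
      simpa using hb.mul hF hc, ?_, hP⟩
    rw [hQ, map_mul, eb, pK]
    simp only [ψ]
    rw [U_mul hF B hb hc, add_zero]
  refine ⟨(injective_iff_map_eq_one π).2 fun x hx => ?_, fun x => ?_⟩
  · obtain ⟨m, hm, k, rfl⟩ := hform x
    obtain ⟨P, b, hb, eb, hmk⟩ := hMimg m hm
    rw [map_mul, map_pow, eb, ph, T_pow hF B hl] at hx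
    have hact := congrArg (fun s => suVal s *ᵥ co e n f 0 0 1) hx
    rw [mulVec_mul, T_act hF B (pow_ne_zero k hl), U_act hF B hb, suVal_one', Matrix.one_mulVec] at hact
    obtain ⟨r0, r1, r2⟩ := co_inj hF B hact
    simp only [mul_zero, mul_one, zero_add, sub_zero] at r0 r1 r2
    have hlk : l ^ k = 1 := by
      rw [inv_eq_one] at r2
      have := congrArg σ r2
      rwa [cj_cj hF, map_one] at this
    obtain ⟨j, rfl⟩ := hord k hlk
    rw [pow_mul g, hN, one_pow, mul_one] at *
    have hP0 : aeval θ P = 0 := by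
      rw [r2, mul_one] at r1; exact r1
    -- the linear part vanishes
    have hmK : m ∈ K := by
      rw [← QuotientGroup.eq_one_iff]
      show mk m = 1
      obtain ⟨R, hR⟩ := minpoly.dvd (ZMod p) θ hP0
      have h1 : pword (minpoly (ZMod p) θ) (mk g) (mk u) = 1 := by
        rw [← map_pword]; exact (QuotientGroup.eq_one_iff _).2 hmin
      rw [hmk, map_pword, hR, mul_comm]
      exact hd1.pword_mul_eq_one h1 R
    obtain ⟨Q, rfl⟩ := hK m hmK
    rw [hlk, T_one hF B, mul_one, ← eb, pK] at hx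
    have h2 := (U_eq_one hF B (hψok _) hx).2
    rw [map_mul, haeval, ← mul_sub, hκ, mul_eq_zero, or_iff_left hc₀ne] at h2
    obtain ⟨R, hR⟩ := minpoly.dvd (ZMod p) ν h2
    rw [hR, mul_comm]
    exact hd0.pword_mul_eq_one hmin' R
  · obtain ⟨m, hm, k, rfl⟩ := hform x
    obtain ⟨P, b, hb, eb, -⟩ := hMimg m hm
    exact ⟨_, _, k, hb, by rw [map_mul, map_pow, eb, ph, T_pow hF B hl]⟩

end Concrete

end Cfsg.Agent.Lie.SU3Pres
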