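import Cfsg.Agent.Lib.Lie.SU3PresFrame

/-!
The field lemmas behind the short presentation of `SU₃(q)`.
-/

set_option autoImplicit false
set_option linter.unusedSectionVars false

namespace Cfsg.Agent.Lie.SU3Pres

open Polynomial Cfsg.Agent.Classical Cfsg.Agent.Classical.PSUAut Cfsg.Agent.Lie.SUGen

variable {F : Type*} [Field F] [Fintype F] {q : ℕ}
variable (hF : Fintype.card F = q ^ 2)

local notation "cj" => qFrob hF

include hF

theorem exists_gen : ∃ ω : Fˣ, (∀ x : Fˣ, ∃ k : ℕ, x = ω ^ k) ∧ orderOf ω = q ^ 2 - 1 := by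
  obtain ⟨ω, hω⟩ := IsCyclic.exists_generator (α := Fˣ)
  refine ⟨ω, fun x => ?_, ?_⟩
  · obtain ⟨k, hk⟩ := (mem_powers_iff_mem_zpowers.2 (hω x) : x ∈ Submonoid.powers ω)
    exact ⟨k, hk.symm⟩
  · rw [orderOf_eq_card_of_forall_mem_zpowers hω, Nat.card_units, Nat.card_eq_fintype_card, hF]

theorem not_real_of_gen {s : F} (hs : ∀ M : Subfield F, s ∈ M → M = ⊤) : cj s ≠ s := fun h0 => by
  refine qFrob_ne_id hF (RingHom.ext fun x => ?_)
  have hx : x ∈ RingHom.eqLocusField cj (RingHom.id F) := by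
    rw [hs _ (show s ∈ RingHom.eqLocusField cj (RingHom.id F) from h0)]
    exact Subfield.mem_top x
  exact hx

theorem exists_aeval {p : ℕ} [Algebra (ZMod p) F] {s : F} (hs : ∀ M : Subfield F, s ∈ M → M = ⊤)
    (t : F) : ∃ P : (ZMod p)[X], aeval s P = t :=
  RegUnip.forall_mem_of_stable (aeval (R := ZMod p) s).toRingHom.toAddMonoidHom.range one_ne_zero
    ⟨1, by simp⟩ (fun x hx => by
      obtain ⟨P, rfl⟩ := hx
      exact ⟨X * P, by simp⟩) hs t

/-- An additive subgroup containing the first powers of a generator is everything. -/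
theorem mem_of_powers {p : ℕ} [Fact p.Prime] [Algebra (ZMod p) F] {s : F}
    (hs : ∀ M : Subfield F, s ∈ M → M = ⊤) {d : ℕ} (hd : Module.finrank (ZMod p) F ≤ d)
    (S : AddSubgroup F) (h0 : ∀ k, k < d → s ^ k ∈ S) (t : F) : t ∈ S := by
  obtain ⟨P, rfl⟩ := exists_aeval (p := p) hF hs t
  haveI : Module.Finite (ZMod p) F := Module.Finite.of_finite
  have hi : IsIntegral (ZMod p) s := IsIntegral.of_finite (ZMod p) s
  have hdeg : (P %ₘ minpoly (ZMod p) s).natDegree < d := by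
    rcases eq_or_ne (P %ₘ minpoly (ZMod p) s) 0 with h | h
    · rw [h, natDegree_zero]
      exact lt_of_lt_of_le Module.finrank_pos hd
    · exact lt_of_lt_of_le (natDegree_modByMonic_lt _ (minpoly.monic hi)
        (fun h1 => by have := minpoly.natDegree_pos hi; rw [h1, natDegree_one] at this; omega))
        (le_trans (minpoly.natDegree_le s) hd)
  rw [← aeval_modByMonic_eq_self_of_root (minpoly.aeval (ZMod p) s),
    aeval_eq_sum_range' hdeg]
  refine sum_mem fun i hi => ?_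
  rw [← ZMod.natCast_zmod_val ((P %ₘ minpoly (ZMod p) s).coeff i), Nat.cast_smul_eq_nsmul]
  exact nsmul_mem (h0 i (Finset.mem_range.1 hi)) _

theorem cube_th (x : F) : x ^ 3 = th hF (x * cj x * cj x) := by
  rcases eq_or_ne x 0 with rfl | hx
  · simp [th]
  have hx' : cj x ≠ 0 := (map_ne_zero (qFrob hF)).2 hx
  simp only [th, map_mul, cj_cj hF]
  field_simp

/-- A nonzero element with a real multiple of a multiplier as its square is a multiplier. -/
theorem th_of_sq {x r l : F} (hr : cj r = r) (hl : l ≠ 0) (hx : x ^ 2 = th hF l * r) (hx0 : x ≠ 0) :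
    ∃ m : F, m ≠ 0 ∧ x = th hF m := by
  have hx' : cj x ≠ 0 := (map_ne_zero (qFrob hF)).2 hx0
  have hl' : cj l ≠ 0 := (map_ne_zero (qFrob hF)).2 hl
  have hr0 : r ≠ 0 := fun h0 => pow_ne_zero 2 hx0 (by rw [hx, h0, mul_zero])
  have hth : th hF l ≠ 0 := div_ne_zero (mul_ne_zero hl' hl') hl
  refine ⟨x * cj x * cj x * (l⁻¹ * r⁻¹), mul_ne_zero (mul_ne_zero (mul_ne_zero hx0 hx') hx')
    (mul_ne_zero (inv_ne_zero hl) (inv_ne_zero hr0)), ?_⟩
  have e1 : th hF l⁻¹ * th hF l = 1 := by rw [← th_mul hF, inv_mul_cancel₀ hl, th_one hF]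
  rw [th_mul hF, th_mul hF l⁻¹, th_real hF (r := r⁻¹) (by rw [map_inv₀, hr]) (inv_ne_zero hr0),
    ← cube_th hF, pow_succ', hx]
  have e2 : r * r⁻¹ = 1 := mul_inv_cancel₀ hr0
  linear_combination -(x * r * r⁻¹) * e1 - x * e2

theorem exists_shift {l : F} (hl : l * cj l = 1) (hne : 1 + th hF l ≠ 0) :
    ∃ m : F, m ≠ 0 ∧ 1 + th hF l = th hF m := by
  have hl0 : l ≠ 0 := left_ne_zero_of_mul (hl ▸ one_ne_zero)
  have hn : th hF l * cj (th hF l) = 1 := by rw [th_norm hF hl0, hl]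
  refine th_of_sq hF (r := 2 + th hF l + cj (th hF l)) ?_ hl0 ?_ hne
  · simp only [map_add, map_ofNat, cj_cj hF]; ring
  · linear_combination -hn

section Order

variable {ω : Fˣ}

theorem omega_norm (hord : orderOf ω = q ^ 2 - 1) :
    (ω : F) ^ (q - 1) * cj ((ω : F) ^ (q - 1)) = 1 := by
  have h1 : (ω : F) ^ (q ^ 2 - 1) = 1 := by
    rw [← hord, ← Units.val_pow_eq_pow_val, pow_orderOf_eq_one, Units.val_one]
  rw [← cj_pow hF, ← pow_succ', ← pow_mul]
  convert h1 using 2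
  rw [mul_comm, ← Nat.sq_sub_sq, one_pow]

theorem th_pow_gen (hq : 3 ≤ q) (h5 : q ≠ 5) (h8 : q ≠ 8) (hord : orderOf ω = q ^ 2 - 1)
    (M : Subfield F) (hM : th hF ((ω : F) ^ (q - 1)) ∈ M) : M = ⊤ := by
  refine cube_generates hF hq h5 h8 ω.ne_zero (fun k hk => ?_) M ?_
  · rw [show (q - 1) * (q + 1) = q ^ 2 - 1 by rw [mul_comm, ← Nat.sq_sub_sq, one_pow], ← hord]
    exact orderOf_dvd_of_pow_eq_one (Units.ext (by simpa using hk))
  · have hn := omega_norm hF hord
    set κ := (ω : F) ^ (q - 1)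
    have hκ : κ ≠ 0 := pow_ne_zero _ ω.ne_zero
    have hinv : κ ^ 3 = (th hF κ)⁻¹ := by
      rw [th]
      refine eq_inv_of_mul_eq_one_left ?_
      field_simp
      linear_combination (κ * cj κ + 1) * hn
    rw [hinv]
    exact M.inv_mem hM

theorem gen_eight (hq : q = 8) (hord : orderOf ω = q ^ 2 - 1)
    (M : Subfield F) (hM : th hF (ω : F) ∈ M) : M = ⊤ := by
  subst hq
  haveI : Fintype M := Fintype.ofFinite M
  have hθ : th hF (ω : F) = (ω : F) ^ 15 := by
    rw [th, ← cj_pow hF, ← pow_add, div_eq_iff ω.ne_zero, ← pow_succ]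
  have hne : (⟨_, hM⟩ : M) ≠ 0 := fun h0 => by
    have := congrArg Subtype.val h0
    simp only [hθ, ZeroMemClass.coe_zero] at this
    exact pow_ne_zero 15 ω.ne_zero this
  have h1 := congrArg Subtype.val (FiniteField.pow_card_sub_one_eq_one _ hne)
  simp only [SubmonoidClass.coe_pow, OneMemClass.coe_one, hθ, ← pow_mul] at h1
  have h2 : 63 ∣ 15 * (Fintype.card M - 1) := by
    rw [show (63 : ℕ) = 8 ^ 2 - 1 by norm_num, ← hord]
    exact orderOf_dvd_of_pow_eq_one (Units.ext (by simpa using h1))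
  obtain ⟨k, hk⟩ : ∃ k, Fintype.card F = Fintype.card M ^ k :=
    ⟨_, Module.card_eq_pow_finrank (K := M) (V := F)⟩
  rw [hF] at hk
  have hM1 : 1 < Fintype.card M := Fintype.one_lt_card
  have hle : Fintype.card M ≤ 64 :=
    (Fintype.card_le_of_injective _ Subtype.val_injective).trans (by rw [hF]; norm_num)
  by_cases hc : Fintype.card M = Fintype.card F
  · refine SetLike.ext fun x => ⟨fun _ => Subfield.mem_top x, fun _ => ?_⟩
    obtain ⟨y, rfl⟩ := ((Fintype.bijective_iff_injective_and_card _).2 ⟨Subtype.val_injective, hc⟩).2 x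
    exact y.2
  exfalso
  have hdvd : Fintype.card M ∣ 64 := by
    rcases Nat.eq_zero_or_pos k with rfl | hk0
    · simp at hk
    · exact ⟨Fintype.card M ^ (k - 1), by rw [← pow_succ', Nat.sub_add_cancel hk0, ← hk]; norm_num⟩
  rw [hF] at hc
  have : Fintype.card M ∈ Nat.divisors 64 := Nat.mem_divisors.2 ⟨hdvd, by norm_num⟩
  generalize Fintype.card M = N at *
  interval_cases N <;> omega

theorem gen_five (hq : q = 5) (hord : orderOf ω = q ^ 2 - 1)
    (M : Subfield F) (hM : th hF (ω : F) ∈ M) : M = ⊤ := by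
  subst hq
  haveI : Fintype M := Fintype.ofFinite M
  have hθ : th hF (ω : F) = (ω : F) ^ 9 := by
    rw [th, ← cj_pow hF, ← pow_add, div_eq_iff ω.ne_zero, ← pow_succ]
  have hne : (⟨_, hM⟩ : M) ≠ 0 := fun h0 => by
    have := congrArg Subtype.val h0
    simp only [hθ, ZeroMemClass.coe_zero] at this
    exact pow_ne_zero 9 ω.ne_zero this
  have h1 := congrArg Subtype.val (FiniteField.pow_card_sub_one_eq_one _ hne)
  simp only [SubmonoidClass.coe_pow, OneMemClass.coe_one, hθ, ← pow_mul] at h1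
  have h2 : 24 ∣ 9 * (Fintype.card M - 1) := by
    rw [show (24 : ℕ) = 5 ^ 2 - 1 by norm_num, ← hord]
    exact orderOf_dvd_of_pow_eq_one (Units.ext (by simpa using h1))
  obtain ⟨k, hk⟩ : ∃ k, Fintype.card F = Fintype.card M ^ k :=
    ⟨_, Module.card_eq_pow_finrank (K := M) (V := F)⟩
  rw [hF] at hk
  have hM1 : 1 < Fintype.card M := Fintype.one_lt_card
  have hle : Fintype.card M ≤ 25 :=
    (Fintype.card_le_of_injective _ Subtype.val_injective).trans (by rw [hF]; norm_num)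
  by_cases hc : Fintype.card M = Fintype.card F
  · refine SetLike.ext fun x => ⟨fun _ => Subfield.mem_top x, fun _ => ?_⟩
    obtain ⟨y, rfl⟩ := ((Fintype.bijective_iff_injective_and_card _).2 ⟨Subtype.val_injective, hc⟩).2 x
    exact y.2
  exfalso
  have hdvd : Fintype.card M ∣ 25 := by
    rcases Nat.eq_zero_or_pos k with rfl | hk0
    · simp at hk
    · exact ⟨Fintype.card M ^ (k - 1), by rw [← pow_succ', Nat.sub_add_cancel hk0, ← hk]; norm_num⟩
  rw [hF] at hc
  have : Fintype.card M ∈ Nat.divisors 25 := Nat.mem_divisors.2 ⟨hdvd, by norm_num⟩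
  generalize Fintype.card M = N at *
  interval_cases N <;> omega

/-- The base point of the rank-one line. -/
theorem base_point (hq : 3 ≤ q) (hgen : ∀ x : Fˣ, ∃ k : ℕ, x = ω ^ k) (hord : orderOf ω = q ^ 2 - 1) :
    ∃ r : F, r * cj r = 1 ∧ r ≠ 1 ∧ (∀ g : F, g * cj g = 1 → ∃ j : ℕ, g = r ^ j) ∧
      (r / (1 - r)) + cj (r / (1 - r)) = -1 ∧ r / (1 - r) ≠ 0 ∧
      ∃ m : F, m ≠ 0 ∧ (r / (1 - r)) / (ω : F) = th hF m := by
  have hω := ω.ne_zero
  have hω' : cj (ω : F) ≠ 0 := (map_ne_zero (qFrob hF)).2 hω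
  set r := (ω : F) / cj (ω : F) with hrdef
  have hq2 : (q - 1) * (q + 1) = q ^ 2 - 1 := by rw [mul_comm, ← Nat.sq_sub_sq, one_pow]
  have hr1 : r * cj r = 1 := by
    rw [hrdef, map_div₀, cj_cj hF]; field_simp
  have hrne : r ≠ 1 := by
    intro h0
    rw [hrdef, div_eq_one_iff_eq hω', ← cj_pow hF] at h0
    have h1 : (ω : F) ^ (q - 1) = 1 := mul_right_cancel₀ hω (by
      rw [← pow_succ, Nat.sub_add_cancel (by omega : 1 ≤ q), ← h0, one_mul])
    have h2 : ω ^ (q - 1) = 1 := Units.ext (by simpa using h1)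
    have h3 := Nat.le_of_dvd (by omega) (orderOf_dvd_of_pow_eq_one h2)
    rw [hord, ← hq2] at h3
    have : (q - 1) * 2 ≤ (q - 1) * (q + 1) := Nat.mul_le_mul_left _ (by omega)
    omega
  have hr0 : r ≠ 0 := left_ne_zero_of_mul (hr1 ▸ one_ne_zero)
  have hcr : cj r = r⁻¹ := eq_inv_of_mul_eq_one_right hr1
  have h1r : 1 - r ≠ 0 := sub_ne_zero.2 (Ne.symm hrne)
  refine ⟨r, hr1, hrne, fun g hg => ?_, ?_, div_ne_zero hr0 h1r, ?_⟩
  · have hg0 : g ≠ 0 := left_ne_zero_of_mul (hg ▸ one_ne_zero)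
    obtain ⟨i, hi⟩ := hgen (Units.mk0 g hg0)
    have hgi : g = (ω : F) ^ i := by
      rw [← Units.val_pow_eq_pow_val, ← hi]; rfl
    rw [← cj_pow hF, ← pow_succ', hgi, ← pow_mul] at hg
    have h2 : q ^ 2 - 1 ∣ i * (q + 1) := hord ▸ orderOf_dvd_of_pow_eq_one (Units.ext (by simpa using hg))
    obtain ⟨i', rfl⟩ : q - 1 ∣ i := Nat.dvd_of_mul_dvd_mul_right (by omega) (hq2 ▸ h2)
    refine ⟨q * i', ?_⟩
    rw [hgi, pow_mul, pow_mul, cj_pow hF, hcr]
    congr 1
    rw [hrdef, inv_div, eq_div_iff hω, ← pow_succ, Nat.sub_add_cancel (by omega : 1 ≤ q), cj_pow hF]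
  · rw [map_div₀, map_sub, map_one, hcr]
    have : r - 1 ≠ 0 := sub_ne_zero.2 hrne
    field_simp
    ring
  · set β := r / (1 - r)
    refine th_of_sq hF (r := (β / (ω : F)) ^ 2) (l := 1) ?_ one_ne_zero (by rw [th_one hF, one_mul])
      (div_ne_zero (div_ne_zero hr0 h1r) hω)
    have hβ : β = (ω : F) / (cj (ω : F) - (ω : F)) := by
      simp only [β, hrdef]
      field_simp
    have e : cj (β / (ω : F)) = -(β / (ω : F)) := by
      rw [hβ, map_div₀, map_div₀, map_sub, cj_cj hF, div_right_comm, div_self hω', div_right_comm,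
        div_self hω, ← neg_sub, div_neg]
    rw [map_pow, e, neg_sq]

end Order

end Cfsg.Agent.Lie.SU3Pres
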