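import Cfsg.Agent.Lib.Lie.SU3PresRankOne
import Cfsg.Agent.Lib.Lie.SLnSevenFinal

/-!
`SU₃(q)` on three generators with at most twenty-one relations, and its central quotient.
-/

set_option autoImplicit false
set_option linter.unusedSectionVars false

namespace Cfsg.Agent.Lie.SU3Pres

open Polynomial Matrix Cfsg.Agent.Classical Cfsg.Agent.Classical.PSUAut Cfsg.Agent.Fus.UnitN
open Cfsg.Agent.Lie.SUGen Cfsg.Agent.Lie.Pres
open Cfsg.Agent.Lie.Sl2Pres (pword map_pword)
open scoped commutatorElement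

local notation "conjP" => Cfsg.Agent.Lie.Sl2Pres.cj
local notation "W2" => FreeGroup (Fin 2)
local notation "W3" => FreeGroup (Fin 3)

/-- The first generator of the Borel words. -/
def bU : FreeGroup (Fin 2) := FreeGroup.of 0
/-- The second generator of the Borel words. -/
def bH : FreeGroup (Fin 2) := FreeGroup.of 1
/-- The Borel words among all words. -/
def incl : FreeGroup (Fin 2) →* FreeGroup (Fin 3) := FreeGroup.map Fin.castSucc
/-- The Weyl generator. -/
def gW : FreeGroup (Fin 3) := FreeGroup.of 2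
/-- The central word. -/
def bZ (k0 : ℕ) : FreeGroup (Fin 2) := ⁅bU, conjP bH bU k0⁆

theorem closure_bU_bH : Subgroup.closure ({bU, bH} : Set W2) = ⊤ := by
  refine Eq.trans ?_ (FreeGroup.closure_range_of (Fin 2))
  congr 1
  ext x
  simp [bU, bH, Fin.exists_fin_two, eq_comm]

theorem closure_incl : Subgroup.closure (Set.range incl ∪ {gW}) = ⊤ := by
  refine eq_top_iff.2 ((FreeGroup.closure_range_of (Fin 3)).ge.trans (Subgroup.closure_mono ?_))
  rintro _ ⟨i, rfl⟩
  fin_cases i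
  · exact Or.inl ⟨bU, rfl⟩
  · exact Or.inl ⟨bH, rfl⟩
  · exact Or.inr rfl

variable {F : Type*} [Field F] [Fintype F] {q : ℕ}
variable (hF : Fintype.card F = q ^ 2)
variable {e n f : Fin 3 → F} (B : Frame3 q e n f)

local notation "σ" => qFrob hF

/-- The evaluation of the Borel words. -/
noncomputable def ev2 (b₀ : F) (ω : Fˣ) : FreeGroup (Fin 2) →* SU 3 F q :=
  FreeGroup.lift ![Um hF B 1 b₀, Tm hF B (ω : F)]

/-- The three generators. -/
noncomputable def gens (b₀ : F) (ω : Fˣ) : Fin 3 → SU 3 F q := ![Um hF B 1 b₀, Tm hF B (ω : F), Wm hF B]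

include hF B

theorem ev2_U (b₀ : F) (ω : Fˣ) : ev2 hF B b₀ ω bU = Um hF B 1 b₀ := by simp [ev2, bU]

theorem ev2_H (b₀ : F) (ω : Fˣ) : ev2 hF B b₀ ω bH = Tm hF B (ω : F) := by simp [ev2, bH]

theorem gens_incl (b₀ : F) (ω : Fˣ) (x : W2) :
    FreeGroup.lift (gens hF B b₀ ω) (incl x) = ev2 hF B b₀ ω x :=
  DFunLike.congr_fun (FreeGroup.ext_hom ((FreeGroup.lift (gens hF B b₀ ω)).comp incl) (ev2 hF B b₀ ω)
    fun i => by fin_cases i <;> simp [incl, gens, ev2]) x

theorem gens_W (b₀ : F) (ω : Fˣ) : FreeGroup.lift (gens hF B b₀ ω) gW = Wm hF B := by simp [gens, gW]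

/-- The parameters occurring in a subgroup. -/
def linPart (K : Subgroup (SU 3 F q)) : AddSubgroup F where
  carrier := {a | ∃ b, OK hF a b ∧ Um hF B a b ∈ K}
  zero_mem' := ⟨0, OK.zero hF, by rw [U_zero hF B]; exact one_mem K⟩
  add_mem' := by
    rintro a a' ⟨b, h1, m1⟩ ⟨b', h2, m2⟩
    exact ⟨_, h1.mul hF h2, by rw [← U_mul hF B h1 h2]; exact mul_mem m1 m2⟩
  neg_mem' := by
    rintro a ⟨b, h1, m1⟩
    exact ⟨_, h1.inv hF, by rw [← U_inv hF B h1]; exact inv_mem m1⟩

theorem U_mem_of_lin {K : Subgroup (SU 3 F q)} (hlin : ∀ a, a ∈ linPart hF B K) {a b : F}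
    (hab : OK hF a b) : Um hF B a b ∈ K := by
  obtain ⟨b', h1, m1⟩ := hlin a
  have hc : (b - b') + σ (b - b') = 0 := by
    unfold OK at hab h1
    rw [map_sub]
    linear_combination hab - h1
  obtain ⟨x, hx⟩ := exists_sub_cj hF B hc
  obtain ⟨b1, h2, m2⟩ := hlin x
  obtain ⟨b2, h3, m3⟩ := hlin 1
  have e : Um hF B a b = ⁅Um hF B x b1, Um hF B 1 b2⁆ * Um hF B a b' := by
    rw [U_comm hF B h2 h3, map_one, mul_one, mul_one, hx, U_mul hF B (OK.skew hF hc) h1, map_zero]
    congr 1 <;> ring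
  rw [e, commutatorElement_def]
  exact mul_mem (mul_mem (mul_mem (mul_mem m2 m3) (inv_mem m2)) (inv_mem m3)) m1

theorem exists_lift_span {p : ℕ} [Fact p.Prime] [Algebra (ZMod p) F] {b₀ : F} {ω : Fˣ} {s : F}
    (hs : ∀ M : Subfield F, s ∈ M → M = ⊤) {d : ℕ} (hd : Module.finrank (ZMod p) F ≤ d) (S : Set W2)
    (hS : ∀ i, i < d → ∃ x ∈ S, ∃ b, OK hF (s ^ i) b ∧ ev2 hF B b₀ ω x = Um hF B (s ^ i) b)
    {a b : F} (hab : OK hF a b) : ∃ x ∈ Subgroup.closure S, ev2 hF B b₀ ω x = Um hF B a b := by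
  have hlin : ∀ t, t ∈ linPart hF B ((Subgroup.closure S).map (ev2 hF B b₀ ω)) :=
    mem_of_powers hF hs hd _ fun i hi => by
      obtain ⟨x, hx, c, hc, e⟩ := hS i hi
      exact ⟨c, hc, x, Subgroup.subset_closure hx, e⟩
  exact U_mem_of_lin hF B hlin hab

/-- The presentation, given the relations making the conjugates commute. -/
theorem presOn_of_route {p : ℕ} [Fact p.Prime] [Algebra (ZMod p) F] (hq : 3 ≤ q) {ω : Fˣ}
    (hgen : ∀ x : Fˣ, ∃ k : ℕ, x = ω ^ k) (hord : orderOf ω = q ^ 2 - 1) {b₀ : F} (hb₀ : OK hF 1 b₀)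
    (hθ : ∀ M : Subfield F, th hF (ω : F) ∈ M → M = ⊤) (k0 : ℕ)
    (hk0 : σ (th hF (ω : F) ^ k0) ≠ th hF (ω : F) ^ k0)
    (L1 : List W2) (hL1 : ∀ x ∈ L1, ev2 hF B b₀ ω x = 1)
    (route : ∀ (Γ : Type) [Group Γ] (φ : W2 →* Γ), Subgroup.closure ({φ bU, φ bH} : Set Γ) = ⊤ →
      φ bH ^ (q ^ 2 - 1) = 1 → (∀ x ∈ L1, φ x = 1) →
      (∀ k, Commute (φ (bZ k0)) (conjP (φ bH) (φ bU) k)) ∧
        ∀ k, ⁅φ bU, conjP (φ bH) (φ bU) k⁆ ∈
          Subgroup.closure (Set.range (conjP (φ bH) (φ (bZ k0))))) :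
    PresOn (gens hF B b₀ ω) (8 + L1.length) := by
  classical
  have hω := ω.ne_zero
  have hN : 0 < q ^ 2 - 1 := by
    have : 2 ≤ q ^ 2 := le_trans (by omega : 2 ≤ q) (Nat.le_self_pow (by omega) q)
    omega
  set ev := ev2 hF B b₀ ω
  have pU : ev bU = Um hF B 1 b₀ := ev2_U hF B b₀ ω
  have pH : ev bH = Tm hF B (ω : F) := ev2_H hF B b₀ ω
  set θ := th hF (ω : F)
  haveI : Module.Finite (ZMod p) F := Module.Finite.of_finite
  set d := Module.finrank (ZMod p) F
  have hUlift : ∀ {a b : F}, OK hF a b → ∃ x : W2, ev x = Um hF B a b := fun {a b} hab => by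
    obtain ⟨x, -, hx⟩ := exists_lift_span hF B (b₀ := b₀) (ω := ω) (p := p) hθ (le_refl d) Set.univ
      (fun i _ => ⟨conjP bH bU i, trivial, _, by
        have := hb₀.scale hF (pow_ne_zero i hω)
        rwa [mul_one, th_pow hF] at this, by
        rw [conjP_map]; rw [show ev bU = _ from pU, show ev bH = _ from pH, conjP_U hF B hω hb₀, mul_one]⟩)
      hab
    exact ⟨x, hx⟩
  have hpowω : ∀ t : F, t ≠ 0 → ∃ k : ℕ, t = (ω : F) ^ k := fun t ht => by
    obtain ⟨k, hk⟩ := hgen (Units.mk0 t ht)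
    exact ⟨k, by rw [← Units.val_pow_eq_pow_val, ← hk, Units.val_mk0]⟩
  have hTlift : ∀ t : F, t ≠ 0 → ∃ k : ℕ, ev (bH ^ k) = Tm hF B t := fun t ht => by
    obtain ⟨k, rfl⟩ := hpowω t ht
    exact ⟨k, by rw [map_pow, pH, T_pow hF B hω]⟩
  -- the value of the central word
  have hzk : OK hF (θ ^ k0 * 1) ((ω : F) ^ k0 * σ ((ω : F) ^ k0) * b₀) := by
    have := hb₀.scale hF (pow_ne_zero k0 hω)
    rwa [th_pow hF] at this
  set c₀ := 1 * σ (θ ^ k0 * 1) - σ 1 * (θ ^ k0 * 1) with hc₀def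
  have pZ : ev (bZ k0) = Um hF B 0 c₀ := by
    rw [bZ, map_commutatorElement, conjP_map, pU, pH, conjP_U hF B hω hb₀, U_comm hF B hb₀ hzk]
  have hc₀ : c₀ + σ c₀ = 0 := by simp only [hc₀def, map_sub, map_mul, map_one, cj_cj hF]; ring
  have hc₀ne : c₀ ≠ 0 := by
    simp only [hc₀def, map_one, one_mul, mul_one]; exact sub_ne_zero.2 hk0
  have hZlift : ∀ {c : F}, OK hF 0 c →
      ∃ x ∈ Subgroup.closure (Set.range (conjP bH (bZ k0))), ev x = Um hF B 0 c := fun {c} hc => by
    rcases eq_or_ne c 0 with rfl | hc0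
    · exact ⟨1, one_mem _, by rw [map_one, U_zero hF B]⟩
    have hc' : c + σ c = 0 := by simpa [OK] using hc
    obtain ⟨s, hs⟩ := exists_norm hF (a := c / c₀) (by
      rw [map_div₀, show σ c = -c by linear_combination hc', show σ c₀ = -c₀ by linear_combination hc₀,
        neg_div_neg_eq])
    obtain ⟨k, rfl⟩ := hpowω s (fun h0 => div_ne_zero hc0 hc₀ne (by rw [← hs, h0, zero_mul]))
    refine ⟨_, Subgroup.subset_closure ⟨k, rfl⟩, ?_⟩
    rw [conjP_map, pZ, pH, conjP_U hF B hω (OK.skew hF hc₀), mul_zero, hs, div_mul_cancel₀ _ hc₀ne]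
  -- the words in the relations
  obtain ⟨bp, okp, ep⟩ := U_pow hF B hb₀ p
  haveI : CharP F p := charP_of_injective_algebraMap (algebraMap (ZMod p) F).injective p
  rw [CharP.cast_eq_zero, zero_mul] at okp ep
  obtain ⟨zp, hzp, ezp⟩ := hZlift okp
  obtain ⟨bm, okm, em⟩ := lin_pword hF B ev hω hb₀ pU pH (minpoly (ZMod p) θ)
  rw [minpoly.aeval] at okm em
  obtain ⟨zm, hzm, ezm⟩ := hZlift okm
  obtain ⟨κ, hκ⟩ := exists_sub_cj hF B hc₀
  obtain ⟨ee, hee⟩ := hpowω (σ (ω : F))⁻¹ (inv_ne_zero ((map_ne_zero (qFrob hF)).2 hω))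
  obtain ⟨r, hr, hr1, hcirc, hβt, hβ0, hm⟩ := base_point hF hq hgen hord
  set β := r / (1 - r) with hβdef
  have okβ : OK hF 1 β := by
    unfold OK; rw [map_one, mul_one]; linear_combination hβt
  have okc : OK hF 0 c₀ := OK.skew hF hc₀
  have okfirst : ∀ {a b : F}, OK hF a b → b ≠ 0 → OK hF (-a / σ b) (1 / b) := fun {a b} h1 hb => by
    have hb' : σ b ≠ 0 := (map_ne_zero (qFrob hF)).2 hb
    unfold OK at *
    simp only [map_neg, map_div₀, map_one, cj_cj hF]
    field_simp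
    linear_combination h1
  obtain ⟨xz, exz⟩ := hUlift okc
  obtain ⟨yz, eyz⟩ := hUlift (okc.first hF hc₀ne)
  obtain ⟨kz, ekz⟩ := hTlift (1 / σ c₀) (one_div_ne_zero ((map_ne_zero (qFrob hF)).2 hc₀ne))
  obtain ⟨vz, evz⟩ := hUlift (okfirst okc hc₀ne)
  obtain ⟨xb, exb⟩ := hUlift okβ
  obtain ⟨yb, eyb⟩ := hUlift (okβ.first hF hβ0)
  obtain ⟨kb, ekb⟩ := hTlift (1 / σ β) (one_div_ne_zero ((map_ne_zero (qFrob hF)).2 hβ0))
  obtain ⟨vb, evb⟩ := hUlift (okfirst okβ hβ0)
  let L : List W3 := (([bH ^ (q ^ 2 - 1), bU ^ p * zp⁻¹, pword (minpoly (ZMod p) θ) bH bU * zm⁻¹,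
      pword (minpoly (ZMod p) ((ω : F) * σ (ω : F))) bH (bZ k0)] : List W2) ++ L1).map incl ++
    [gW * gW, gW * incl bH * gW * (incl (bH ^ ee))⁻¹,
      gW * incl xz * gW * (incl (yz * bH ^ kz) * gW * incl vz)⁻¹,
      gW * incl xb * gW * (incl (yb * bH ^ kb) * gW * incl vb)⁻¹]
  have hωN : (ω : F) ^ (q ^ 2 - 1) = 1 := by
    rw [← hord, ← Units.val_pow_eq_pow_val, pow_orderOf_eq_one, Units.val_one]
  refine (presOn_of_rels _ ?_ L ?_ ?_).mono (by simp [L]; omega)
  · -- generation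
    rw [← MonoidHom.range_eq_top]
    obtain ⟨b, hb⟩ := exists_trace_eq hF (a := (-1 : F)) (by rw [map_neg, map_one])
    have h1 : OK hF 1 b := by unfold OK; rw [map_one, mul_one]; linear_combination hb
    have H := B.eok_e hF (show b + σ b + (1 : F) * σ 1 = 0 from h1)
    have H' := B.eok_f hF (show b + σ b + (-1 : F) * σ (-1) = 0 by
      rw [map_neg, map_one, neg_mul_neg, one_mul]; linear_combination hb)
    refine B.eq_top hF hq one_ne_zero H H' (μ := (ω : F)) (ν := σ (ω : F) / (ω : F)) (x := 0) ?_ ?_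
      (t := Tm hF B (ω : F)) ⟨incl bH, by rw [gens_incl hF B]; exact pH⟩ ?_ ?_ ?_
    · obtain ⟨x, hx⟩ := hUlift h1
      refine ⟨incl x, ?_⟩
      rw [gens_incl hF B]
      refine hx.trans (ext_co hF B fun x y z => ?_)
      rw [U_act hF B h1, B.act_e hF]
    · obtain ⟨x, hx⟩ := hUlift h1
      refine ⟨gW * incl x * gW, ?_⟩
      rw [map_mul, map_mul, gens_incl hF B, gens_W hF B, show ev2 hF B b₀ ω x = _ from hx]
      refine ext_co hF B fun x y z => ?_
      rw [mulVec_mul, mulVec_mul, W_act hF B, U_act hF B h1, W_act hF B, B.act_f hF, map_one, map_neg,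
        map_one]
      congr 1 <;> ring
    · simpa [co] using T_act hF B hω 1 0 0
    · simpa [co] using T_act hF B hω 0 1 0
    · intro M hM
      refine hθ M ?_
      rw [show θ = σ (ω : F) * (σ (ω : F) / (ω : F)) by simp only [θ, th]; ring]
      exact hM
  · -- the relations hold
    intro x hx
    simp only [L, List.mem_append, List.mem_map, List.mem_cons, List.not_mem_nil, or_false] at hx
    rcases hx with ⟨y, hy, rfl⟩ | rfl | rfl | rfl | rfl
    · rw [gens_incl hF B]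
      rcases hy with (rfl | rfl | rfl | rfl) | hy
      · rw [map_pow]; show ev bH ^ _ = 1
        rw [pH, T_pow hF B hω, hωN, T_one hF B]
      · show ev _ = 1
        rw [map_mul, map_inv, map_pow, pU, ep, ezp, mul_inv_cancel]
      · show ev _ = 1
        rw [map_mul, map_inv, em, ezm, mul_inv_cancel]
      · show ev _ = 1
        let ψ : F → SU 3 F q := fun x => Um hF B 0 (x * κ - σ (x * κ))
        have hψok : ∀ x : F, OK hF 0 (x * κ - σ (x * κ)) := fun x => OK.skew hF (by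
          rw [map_sub, cj_cj hF]; ring)
        have hψadd : ∀ x y, ψ (x + y) = ψ x * ψ y := fun x y => by
          simp only [ψ]
          rw [U_mul hF B (hψok x) (hψok y)]
          simp only [map_zero, map_add, add_mul, add_zero]
          congr 1; ring
        have hψconj : ∀ x, Tm hF B (ω : F) * ψ x * (Tm hF B (ω : F))⁻¹ =
            ψ ((ω : F) * σ (ω : F) * x) := fun x => by
          simp only [ψ]
          rw [T_conj hF B hω (hψok x), mul_zero]
          congr 1
          simp only [map_mul, cj_cj hF]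
          ring
        have hψ1 : ψ 1 = ev (bZ k0) := by rw [pZ]; simp only [ψ, one_mul, hκ]
        rw [map_pword, pH, ← hψ1, Sl3Pres.pword_of_conj hψadd hψconj, minpoly.aeval]
        simp only [ψ, zero_mul, map_zero, sub_zero, U_zero hF B]
      · exact hL1 y hy
    · rw [map_mul, gens_W hF B, W_sq hF B]
    · simp only [map_mul, map_inv, gens_W hF B, gens_incl hF B, mul_inv_eq_one]
      show Wm hF B * ev bH * Wm hF B = ev (bH ^ ee)
      rw [map_pow, pH, W_conj hF B hω, T_pow hF B hω, ← hee]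
    all_goals
      simp only [map_mul, map_inv, gens_W hF B, gens_incl hF B, mul_inv_eq_one]
    · show Wm hF B * ev xz * Wm hF B = ev yz * ev (bH ^ kz) * Wm hF B * ev vz
      rw [exz, eyz, evz, ekz]
      exact rank_one hF B okc hc₀ne
    · show Wm hF B * ev xb * Wm hF B = ev yb * ev (bH ^ kb) * Wm hF B * ev vb
      rw [exb, eyb, evb, ekb]
      exact rank_one hF B okβ hβ0
  · -- injectivity
    intro G _ f3 π hsurj hπ hall
    let S := (f3.comp incl).range
    let φ : W2 →* S := (f3.comp incl).rangeRestrict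
    have hφv : ∀ x, (φ x : G) = f3 (incl x) := fun x => rfl
    have hπφ : ∀ x, π (φ x : G) = ev x := fun x => by
      rw [hφv, ← MonoidHom.comp_apply π, hπ, gens_incl hF B]
    have hgenS : Subgroup.closure ({φ bU, φ bH} : Set S) = ⊤ := by
      rw [show ({φ bU, φ bH} : Set S) = φ '' {bU, bH} by rw [Set.image_pair], ← MonoidHom.map_closure,
        closure_bU_bH, ← MonoidHom.range_eq_map, MonoidHom.range_eq_top]
      exact MonoidHom.rangeRestrict_surjective _
    have hrel : ∀ y ∈ ([bH ^ (q ^ 2 - 1), bU ^ p * zp⁻¹, pword (minpoly (ZMod p) θ) bH bU * zm⁻¹,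
        pword (minpoly (ZMod p) ((ω : F) * σ (ω : F))) bH (bZ k0)] : List W2) ++ L1, φ y = 1 :=
      fun y hy => Subtype.ext (hall _ (List.mem_append_left _ (List.mem_map.2 ⟨y, hy, rfl⟩)))
    have r1 : φ bH ^ (q ^ 2 - 1) = 1 := by rw [← map_pow]; exact hrel _ (by simp)
    have r2 := hrel (bU ^ p * zp⁻¹) (by simp)
    have r3 := hrel (pword (minpoly (ZMod p) θ) bH bU * zm⁻¹) (by simp)
    have r4 := hrel (pword (minpoly (ZMod p) ((ω : F) * σ (ω : F))) bH (bZ k0)) (by simp)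
    rw [map_mul, map_inv, mul_inv_eq_one, map_pow] at r2
    rw [map_mul, map_inv, mul_inv_eq_one, map_pword] at r3
    rw [map_pword] at r4
    obtain ⟨hzc, hqc⟩ := route _ φ hgenS r1 fun x hx => hrel x (List.mem_append_right _ hx)
    have hKmem : ∀ x ∈ Subgroup.closure (Set.range (conjP bH (bZ k0))),
        φ x ∈ Subgroup.closure (Set.range (conjP (φ bH) (φ (bZ k0)))) := fun x hx => by
      have := Subgroup.mem_map_of_mem φ hx
      rw [MonoidHom.map_closure] at this
      refine Subgroup.closure_mono ?_ this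
      rintro _ ⟨_, ⟨k, rfl⟩, rfl⟩
      exact ⟨k, (conjP_map φ _ _ k).symm⟩
    obtain ⟨hinj, himg⟩ := borel_injective (p := p) hF B (π.comp S.subtype) hω
      (fun k hk => hord ▸ orderOf_dvd_of_pow_eq_one (Units.ext (by simpa using hk))) hN hθ hk0 hb₀
      hgenS (u := φ bU) (g := φ bH) (z := φ (bZ k0)) ((hπφ bU).trans pU) ((hπφ bH).trans pH) r1
      (by rw [bZ, map_commutatorElement, conjP_map]) hzc hqc (r2 ▸ hKmem _ hzp) (r3 ▸ hKmem _ hzm) r4
    set w := f3 gW
    have hw : π w = Wm hF B := by rw [← MonoidHom.comp_apply π, hπ, gens_W hF B]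
    have hlast : ∀ x ∈ ([gW * gW, gW * incl bH * gW * (incl (bH ^ ee))⁻¹,
      gW * incl xz * gW * (incl (yz * bH ^ kz) * gW * incl vz)⁻¹,
      gW * incl xb * gW * (incl (yb * bH ^ kb) * gW * incl vb)⁻¹] : List W3), f3 x = 1 :=
      fun x hx => hall x (List.mem_append_right _ hx)
    have w2 : w * w = 1 := by rw [← map_mul]; exact hlast _ (by simp)
    have winv : w⁻¹ = w := inv_eq_of_mul_eq_one_right w2
    have wH : w * f3 (incl bH) * w = f3 (incl (bH ^ ee)) := by
      have := hlast (gW * incl bH * gW * (incl (bH ^ ee))⁻¹) (by simp)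
      rwa [map_mul, map_inv, mul_inv_eq_one, map_mul, map_mul] at this
    have inj' : ∀ x ∈ S, π x = 1 → x = 1 := fun x hx he =>
      congrArg Subtype.val (hinj (a₁ := ⟨x, hx⟩) (a₂ := 1) (by simpa using he))
    have D : Cells hF B π S w (ω : F) :=
      { inj := inj'
        img := fun x hx => himg ⟨x, hx⟩
        hU := fun a b hab => by
          obtain ⟨x, hx⟩ := hUlift hab
          exact ⟨_, (φ x).2, (hπφ x).trans hx⟩
        hT := fun t ht => by
          obtain ⟨k, hk⟩ := hTlift t ht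
          exact ⟨_, (φ (bH ^ k)).2, (hπφ _).trans hk⟩
        hw := hw
        hw2 := w2
        hwT := fun t ht x hx he => by
          obtain ⟨k, hk⟩ := hTlift t ht
          have ex : x = f3 (incl bH) ^ k := by
            refine mul_inv_eq_one.1 (inj' _ (mul_mem hx (inv_mem (pow_mem (φ bH).2 k))) ?_)
            rw [map_mul, map_inv, he, ← hk, map_pow, map_pow, show π (f3 (incl bH)) = ev bH from hπφ bH,
              mul_inv_cancel]
          rw [ex, show w * f3 (incl bH) ^ k * w = (w * f3 (incl bH) * w) ^ k by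
            conv_lhs => arg 2; rw [← winv]
            conv_rhs => arg 1; arg 2; rw [← winv]
            rw [conj_pow], wH]
          exact pow_mem (φ (bH ^ ee)).2 k
        gen := by
          refine eq_top_iff.2 fun g _ => ?_
          obtain ⟨y, rfl⟩ := hsurj g
          have hy : y ∈ Subgroup.closure (Set.range incl ∪ {gW}) := closure_incl ▸ Subgroup.mem_top y
          have := Subgroup.mem_map_of_mem f3 hy
          rw [MonoidHom.map_closure] at this
          refine Subgroup.closure_mono ?_ this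
          rintro _ ⟨v, (⟨u, rfl⟩ | rfl), rfl⟩
          · exact Or.inl ⟨u, rfl⟩
          · exact Or.inr rfl
        hl := hω }
    refine D.injective (D.good_all hgen hr hr1 hcirc hβdef hβt hm hc₀ hc₀ne ?_ ?_)
    · intro x hx he
      have ex : x = f3 (incl xz) := D.eq_of hx (φ xz).2 (he.trans ((hπφ xz).trans exz).symm)
      refine ⟨_, (φ (yz * bH ^ kz)).2, _, (φ vz).2, ?_⟩
      rw [ex, hφv, hφv]
      have := hlast (gW * incl xz * gW * (incl (yz * bH ^ kz) * gW * incl vz)⁻¹) (by simp)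
      rwa [map_mul, map_inv, mul_inv_eq_one, map_mul, map_mul, map_mul f3 _ (incl vz), map_mul] at this
    · intro x hx he
      have ex : x = f3 (incl xb) := D.eq_of hx (φ xb).2 (he.trans ((hπφ xb).trans exb).symm)
      refine ⟨_, (φ (yb * bH ^ kb)).2, _, (φ vb).2, ?_⟩
      rw [ex, hφv, hφv]
      have := hlast (gW * incl xb * gW * (incl (yb * bH ^ kb) * gW * incl vb)⁻¹) (by simp)
      rwa [map_mul, map_inv, mul_inv_eq_one, map_mul, map_mul, map_mul f3 _ (incl vb), map_mul] at this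

/-- The case where an element of norm one generates the field. -/
theorem presOn_general (hq : 3 ≤ q) (h5 : q ≠ 5) (h8 : q ≠ 8) :
    ∃ v : Fin 3 → SU 3 F q, PresOn v 12 := by
  obtain ⟨p, hchar⟩ := CharP.exists F
  haveI : Fact p.Prime := ⟨CharP.char_is_prime F p⟩
  letI : Algebra (ZMod p) F := ZMod.algebra F p
  obtain ⟨ω, hgen, hord⟩ := exists_gen hF
  have hω := ω.ne_zero
  obtain ⟨b₀, hb⟩ := exists_trace_eq hF (a := (-1 : F)) (by rw [map_neg, map_one])
  have hb₀ : OK hF 1 b₀ := by unfold OK; rw [map_one, mul_one]; linear_combination hb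
  set ev := ev2 hF B b₀ ω
  have pU : ev bU = Um hF B 1 b₀ := ev2_U hF B b₀ ω
  have pH : ev bH = Tm hF B (ω : F) := ev2_H hF B b₀ ω
  set η := th hF (ω : F) ^ (q - 1) with hηdef
  have hη : ∀ M : Subfield F, η ∈ M → M = ⊤ := fun M hM =>
    th_pow_gen hF hq h5 h8 hord M (by rwa [th_pow hF])
  have hθ : ∀ M : Subfield F, th hF (ω : F) ∈ M → M = ⊤ := fun M hM => hη M (M.pow_mem hM _)
  have hne : 1 + η ≠ 0 := fun h0 => not_real_of_gen hF hη (by
    rw [show η = -1 by linear_combination h0, map_neg, map_one])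
  have hn := omega_norm hF hord
  obtain ⟨m, hm0, hm⟩ := exists_shift hF hn (by rwa [th_pow hF])
  obtain ⟨j, hj⟩ := hgen (Units.mk0 m hm0)
  have hmj : th hF (ω : F) ^ j = 1 + η := by
    rw [← th_pow hF, ← Units.val_pow_eq_pow_val, ← hj, Units.val_mk0, ← hm, th_pow hF]
  set A : W2 := bH ^ (q - 1)
  have pA : ev A = Tm hF B ((ω : F) ^ (q - 1)) := by rw [map_pow, pH, T_pow hF B hω]
  haveI : Module.Finite (ZMod p) F := Module.Finite.of_finite
  have hpowA : ∀ i : ℕ, ∃ b, OK hF (η ^ i) b ∧ ev (conjP A bU i) = Um hF B (η ^ i) b := fun i => by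
    have h1 := hb₀.scale hF (pow_ne_zero i (pow_ne_zero (q - 1) hω))
    rw [mul_one, th_pow hF, th_pow hF] at h1
    exact ⟨_, h1, by rw [conjP_map, pU, pA, conjP_U hF B (pow_ne_zero _ hω) hb₀, mul_one, th_pow hF]⟩
  -- the second generator in the span
  have ok1 := hb₀.scale hF (pow_ne_zero 1 hω)
  obtain ⟨w1, hw1, ew1⟩ := exists_lift_span hF B (b₀ := b₀) (ω := ω) (p := p) hη (le_refl _)
    (Set.range (conjP A bU)) (fun i _ => ⟨_, ⟨i, rfl⟩, hpowA i⟩) ok1
  -- the shift
  obtain ⟨bA, okA, eA⟩ := hpowA 1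
  rw [pow_one] at okA eA
  have okL := hb₀.scale hF (pow_ne_zero j hω)
  rw [mul_one, th_pow hF, hmj] at okL
  have okR := hb₀.mul hF okA
  have okd := (okR.inv hF).mul hF okL
  rw [neg_add_cancel] at okd
  set c := σ (b₀ + bA - σ 1 * η) + (ω : F) ^ j * σ ((ω : F) ^ j) * b₀ - σ (-(1 + η)) * (1 + η) with hcdef
  have hkc : σ (th hF (ω : F) ^ (q - 1)) ≠ th hF (ω : F) ^ (q - 1) := not_real_of_gen hF hη
  have hzk : OK hF (th hF (ω : F) ^ (q - 1) * 1)
      ((ω : F) ^ (q - 1) * σ ((ω : F) ^ (q - 1)) * b₀) := by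
    have := hb₀.scale hF (pow_ne_zero (q - 1) hω)
    rwa [th_pow hF] at this
  obtain ⟨c₀, hc₀, hc₀ne, pZ⟩ : ∃ c₀ : F, c₀ + σ c₀ = 0 ∧ c₀ ≠ 0 ∧ ev (bZ (q - 1)) = Um hF B 0 c₀ := by
    refine ⟨1 * σ (η * 1) - σ 1 * (η * 1), by
      simp only [map_sub, map_mul, map_one, cj_cj hF]; ring, ?_, ?_⟩
    · simp only [map_one, one_mul, mul_one]; exact sub_ne_zero.2 hkc
    · rw [bZ, map_commutatorElement, conjP_map, pU, pH, conjP_U hF B hω hb₀, U_comm hF B hb₀ hzk]
  obtain ⟨ζ, hζ, eζ⟩ : ∃ x ∈ Subgroup.closure (Set.range (conjP bH (bZ (q - 1)))),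
      ev x = Um hF B 0 c := by
    rcases eq_or_ne c 0 with h0 | h0
    · exact ⟨1, one_mem _, by rw [map_one, h0, U_zero hF B]⟩
    have hc' : c + σ c = 0 := by simpa [OK] using okd
    obtain ⟨s, hs⟩ := exists_norm hF (a := c / c₀) (by
      rw [map_div₀, show σ c = -c by linear_combination hc', show σ c₀ = -c₀ by linear_combination hc₀,
        neg_div_neg_eq])
    obtain ⟨k, hk⟩ := hgen (Units.mk0 s fun h1 => div_ne_zero h0 hc₀ne (by rw [← hs, h1, zero_mul]))
    have hk' : s = (ω : F) ^ k := by rw [← Units.val_pow_eq_pow_val, ← hk, Units.val_mk0]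
    refine ⟨_, Subgroup.subset_closure ⟨k, rfl⟩, ?_⟩
    rw [conjP_map, pZ, pH, conjP_U hF B hω (OK.skew hF hc₀), mul_zero, ← hk', hs,
      div_mul_cancel₀ _ hc₀ne]
  refine ⟨_, presOn_of_route hF B (p := p) hq hgen hord hb₀ hθ (q - 1) hkc
    [⁅bZ (q - 1), bU⁆, ⁅bZ (q - 1), A⁆, conjP bH bU 1 * w1⁻¹,
      bH ^ j * bU * (bH ^ j)⁻¹ * (bU * conjP A bU 1 * ζ)⁻¹] ?_ ?_⟩
  · intro x hx
    simp only [List.mem_cons, List.not_mem_nil, or_false] at hx
    rcases hx with rfl | rfl | rfl | rfl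
    · show ev _ = 1
      rw [map_commutatorElement, pU, pZ, U_comm hF B (OK.skew hF hc₀) hb₀]
      simp [U_zero hF B]
    · show ev _ = 1
      rw [map_commutatorElement, pA, pZ, commutatorElement_eq_one_iff_commute]
      refine (mul_inv_eq_iff_eq_mul.1 ?_).symm
      rw [T_conj hF B (pow_ne_zero _ hω) (OK.skew hF hc₀), mul_zero, hn, one_mul]
    · show ev _ = 1
      rw [map_mul, map_inv, show ev w1 = _ from ew1, conjP_map, pU, pH, conjP_U hF B hω hb₀,
        th_pow hF, mul_inv_cancel]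
    · show ev _ = 1
      rw [map_mul, map_mul, map_mul, map_inv, map_inv, map_pow, map_mul, map_mul, eζ, pU, pH, eA,
        T_pow hF B hω, T_conj hF B (pow_ne_zero _ hω) hb₀, mul_one, th_pow hF, hmj,
        U_mul hF B hb₀ okA, mul_inv_eq_one, ← inv_mul_eq_iff_eq_mul, U_inv hF B okR,
        U_mul hF B (okR.inv hF) okL, neg_add_cancel, hcdef]
  · intro Γ _ φ hg hN hall
    have hr : ∀ x ∈ _, φ x = 1 := hall
    refine route_general (u := φ bU) (g := φ bH) (z := φ (bZ (q - 1))) (k0 := q - 1) (m := j)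
      (a := φ A) (ζ := φ ζ) hg hN ?_ (map_pow φ bH _) (by rw [bZ, map_commutatorElement, conjP_map]) ?_ ?_ ?_ ?_ ?_
    · have : 2 ≤ q ^ 2 := le_trans (by omega : 2 ≤ q) (Nat.le_self_pow (by omega) q)
      omega
    · rw [← commutatorElement_eq_one_iff_commute, ← map_commutatorElement]; exact hr _ (by simp)
    · rw [← commutatorElement_eq_one_iff_commute, ← map_commutatorElement]; exact hr _ (by simp)
    · have e1 := hr (conjP bH bU 1 * w1⁻¹) (by simp)
      rw [map_mul, map_inv, mul_inv_eq_one, conjP_map] at e1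
      rw [e1]
      have := Subgroup.mem_map_of_mem φ hw1
      rw [MonoidHom.map_closure] at this
      refine Subgroup.closure_mono ?_ this
      rintro _ ⟨_, ⟨k, rfl⟩, rfl⟩
      exact ⟨k, (conjP_map φ _ _ k).symm⟩
    · have e1 := hr (bH ^ j * bU * (bH ^ j)⁻¹ * (bU * conjP A bU 1 * ζ)⁻¹) (by simp)
      rw [map_mul, map_inv, mul_inv_eq_one] at e1
      simpa [map_mul, map_inv, map_pow, conjP_map] using e1
    · have := Subgroup.mem_map_of_mem φ hζ
      rw [MonoidHom.map_closure] at this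
      refine Subgroup.closure_mono ?_ this
      rintro _ ⟨_, ⟨k, rfl⟩, rfl⟩
      exact ⟨k, (conjP_map φ _ _ k).symm⟩

/-- A small field, given a bound on its degree. -/
theorem presOn_small (hq : 3 ≤ q) (d : ℕ) (hd0 : 0 < d)
    (hgen0 : ∀ ω : Fˣ, orderOf ω = q ^ 2 - 1 → ∀ M : Subfield F, th hF (ω : F) ∈ M → M = ⊤)
    (hcard : ∀ p : ℕ, p.Prime → p ∣ q → q ^ 2 < p ^ (d + 1)) :
    ∃ v : Fin 3 → SU 3 F q, PresOn v (9 + (d + d)) := by
  obtain ⟨p, hchar⟩ := CharP.exists F
  haveI : Fact p.Prime := ⟨CharP.char_is_prime F p⟩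
  letI : Algebra (ZMod p) F := ZMod.algebra F p
  haveI : Module.Finite (ZMod p) F := Module.Finite.of_finite
  obtain ⟨ω, hgen, hord⟩ := exists_gen hF
  have hω := ω.ne_zero
  obtain ⟨b₀, hb⟩ := exists_trace_eq hF (a := (-1 : F)) (by rw [map_neg, map_one])
  have hb₀ : OK hF 1 b₀ := by unfold OK; rw [map_one, mul_one]; linear_combination hb
  set ev := ev2 hF B b₀ ω
  have pU : ev bU = Um hF B 1 b₀ := ev2_U hF B b₀ ω
  have pH : ev bH = Tm hF B (ω : F) := ev2_H hF B b₀ ω
  set θ := th hF (ω : F) with hθdef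
  have hθ : ∀ M : Subfield F, θ ∈ M → M = ⊤ := hgen0 ω hord
  have hd : Module.finrank (ZMod p) F ≤ d := by
    have hc := Module.card_eq_pow_finrank (K := ZMod p) (V := F)
    rw [ZMod.card, hF] at hc
    by_contra h6
    have : p ^ (d + 1) ≤ p ^ Module.finrank (ZMod p) F :=
      Nat.pow_le_pow_right (Nat.Prime.pos Fact.out) (by omega)
    have hpq : p ∣ q ^ 2 := by
      rw [← hF]
      exact (CharP.cast_eq_zero_iff F p _).1 (FiniteField.cast_card_eq_zero F)
    have := hcard p Fact.out ((Fact.out : p.Prime).dvd_of_dvd_pow hpq)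
    omega
  have hkc : σ (θ ^ 1) ≠ θ ^ 1 := by rw [pow_one]; exact not_real_of_gen hF hθ
  have hpow : ∀ i : ℕ, OK hF (θ ^ i) ((ω : F) ^ i * σ ((ω : F) ^ i) * b₀) ∧
      ev (conjP bH bU i) = Um hF B (θ ^ i) ((ω : F) ^ i * σ ((ω : F) ^ i) * b₀) := fun i => by
    have := hb₀.scale hF (pow_ne_zero i hω)
    rw [mul_one, th_pow hF] at this
    exact ⟨this, by rw [conjP_map, pU, pH, conjP_U hF B hω hb₀, mul_one]⟩
  obtain ⟨wd, hwd, ewd⟩ := exists_lift_span hF B (b₀ := b₀) (ω := ω) (p := p) hθ hd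
    (conjP bH bU '' Set.Iio d) (fun i hi => ⟨_, ⟨i, hi, rfl⟩, _, hpow i⟩) (hpow d).1
  set c₀ := 1 * σ (θ ^ 1) - σ 1 * θ ^ 1 with hc₀def
  have hc₀ : c₀ + σ c₀ = 0 := by simp only [hc₀def, map_sub, map_mul, map_one, cj_cj hF]; ring
  have hc₀ne : c₀ ≠ 0 := by
    simp only [hc₀def, map_one, one_mul]; exact sub_ne_zero.2 hkc
  have pZ : ev (bZ 1) = Um hF B 0 c₀ := by
    rw [bZ, map_commutatorElement, (hpow 1).2, pU, U_comm hF B hb₀ (hpow 1).1]
  have hcomm : ∀ k : ℕ, ∃ x ∈ Subgroup.closure (Set.range (conjP bH (bZ 1))),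
      ev x = ev ⁅bU, conjP bH bU k⁆ := fun k => by
    rw [map_commutatorElement, (hpow k).2, pU, U_comm hF B hb₀ (hpow k).1]
    set c := 1 * σ (θ ^ k) - σ 1 * θ ^ k with hcdef
    rcases eq_or_ne c 0 with h0 | h0
    · exact ⟨1, one_mem _, by rw [map_one, h0, U_zero hF B]⟩
    have hc' : c + σ c = 0 := by simp only [hcdef, map_sub, map_mul, map_one, cj_cj hF]; ring
    obtain ⟨s, hs⟩ := exists_norm hF (a := c / c₀) (by
      rw [map_div₀, show σ c = -c by linear_combination hc', show σ c₀ = -c₀ by linear_combination hc₀,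
        neg_div_neg_eq])
    obtain ⟨i, hi⟩ := hgen (Units.mk0 s fun h1 => div_ne_zero h0 hc₀ne (by rw [← hs, h1, zero_mul]))
    have hi' : s = (ω : F) ^ i := by rw [← Units.val_pow_eq_pow_val, ← hi, Units.val_mk0]
    refine ⟨_, Subgroup.subset_closure ⟨i, rfl⟩, ?_⟩
    rw [conjP_map, pZ, pH, conjP_U hF B hω (OK.skew hF hc₀), mul_zero, ← hi', hs,
      div_mul_cancel₀ _ hc₀ne]
  choose zk hzk ezk using hcomm
  refine ⟨_, (presOn_of_route hF B (p := p) hq hgen hord hb₀ hθ 1 hkc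
    ((List.range d).map (fun k => ⁅bZ 1, conjP bH bU k⁆) ++ [conjP bH bU d * wd⁻¹] ++
      (List.range d).map (fun k => ⁅bU, conjP bH bU k⁆ * (zk k)⁻¹)) ?_ ?_).mono (by simp; omega)⟩
  · intro x hx
    simp only [List.mem_append, List.mem_map, List.mem_singleton] at hx
    rcases hx with (⟨k, -, rfl⟩ | rfl) | ⟨k, -, rfl⟩
    · show ev _ = 1
      rw [map_commutatorElement, pZ, (hpow k).2, U_comm hF B (OK.skew hF hc₀) (hpow k).1]
      simp [U_zero hF B]
    · show ev _ = 1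
      rw [map_mul, map_inv, show ev wd = _ from ewd, (hpow d).2, mul_inv_cancel]
    · show ev _ = 1
      rw [map_mul, map_inv, ezk, mul_inv_cancel]
  · intro Γ _ φ hg hN hall
    refine route_small (d := d) hg hN ?_ hd0 (fun k hk => ?_) ?_ fun k hk => ?_
    · have : 2 ≤ q ^ 2 := le_trans (by omega : 2 ≤ q) (Nat.le_self_pow (by omega) q)
      omega
    · rw [← conjP_map, ← commutatorElement_eq_one_iff_commute, ← map_commutatorElement]
      exact hall _ (List.mem_append_left _ (List.mem_append_left _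
        (List.mem_map.2 ⟨k, List.mem_range.2 hk, rfl⟩)))
    · have e1 := hall (conjP bH bU d * wd⁻¹) (by simp)
      rw [map_mul, map_inv, mul_inv_eq_one, conjP_map] at e1
      rw [e1]
      have := Subgroup.mem_map_of_mem φ hwd
      rw [MonoidHom.map_closure] at this
      refine Subgroup.closure_mono ?_ this
      rintro _ ⟨_, ⟨i, hi, rfl⟩, rfl⟩
      exact ⟨i, hi, (conjP_map φ _ _ i).symm⟩
    · have e1 := hall (⁅bU, conjP bH bU k⁆ * (zk k)⁻¹)
        (List.mem_append_right _ (List.mem_map.2 ⟨k, List.mem_range.2 hk, rfl⟩))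
      rw [map_mul, map_inv, mul_inv_eq_one, map_commutatorElement, conjP_map] at e1
      rw [e1]
      have := Subgroup.mem_map_of_mem φ (hzk k)
      rw [MonoidHom.map_closure] at this
      refine Subgroup.closure_mono ?_ this
      rintro _ ⟨_, ⟨i, rfl⟩, rfl⟩
      exact ⟨i, (conjP_map φ _ _ i).symm⟩

/-- The field with sixty-four elements. -/
theorem presOn_eight (hq : q = 8) : ∃ v : Fin 3 → SU 3 F q, PresOn v 21 :=
  presOn_small hF B (by omega) 6 (by norm_num) (fun _ h => gen_eight hF hq h) fun p hp _ => by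
    have := Nat.pow_le_pow_left hp.two_le 7
    subst hq
    show 8 ^ 2 < p ^ 7
    omega

/-- The field with twenty-five elements. -/
theorem presOn_five (hq : q = 5) : ∃ v : Fin 3 → SU 3 F q, PresOn v 13 :=
  presOn_small hF B (by omega) 2 (by norm_num) (fun _ h => gen_five hF hq h) fun p hp h => by
    subst hq
    obtain rfl : p = 5 := (Nat.prime_dvd_prime_iff_eq hp Nat.prime_five).1 h
    norm_num

omit B in
/-- Both presentations. -/
theorem exists_presentations (h2 : q ≠ 2) (h5 : q ≠ 5) :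
    (∃ rels : Finset (FreeGroup (Fin 3)), rels.card ≤ 23 ∧
      Nonempty (PresentedGroup (↑rels : Set (FreeGroup (Fin 3))) ≃* ↥(SU 3 F q))) ∧
    (∃ rels : Finset (FreeGroup (Fin 3)), rels.card ≤ 24 ∧
      Nonempty (PresentedGroup (↑rels : Set (FreeGroup (Fin 3))) ≃* PSU 3 F q)) := by
  obtain ⟨e, n, f, B⟩ := exists_frame hF
  have hq : 3 ≤ q := by have := two_le_q hF; omega
  obtain ⟨v, hv⟩ : ∃ v : Fin 3 → SU 3 F q, PresOn v 23 := by
    by_cases h8 : q = 8
    · obtain ⟨v, hv⟩ := presOn_eight hF B h8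
      exact ⟨v, hv.mono (by norm_num)⟩
    · obtain ⟨v, hv⟩ := presOn_general hF B hq h5 h8
      exact ⟨v, hv.mono (by norm_num)⟩
  refine ⟨?_, ?_⟩
  · obtain ⟨R, hR, ee, -⟩ := hv
    exact ⟨R, hR, ⟨ee⟩⟩
  let Φ : Subgroup.center (SU 3 F q) →* F :=
    { toFun := fun x => suVal x.1 0 0
      map_one' := by simp [suVal]
      map_mul' := fun x y => by
        obtain ⟨c, hc⟩ := suVal_scalar_of_mem_center hF x.2
        show suVal (x.1 * y.1) 0 0 = _
        rw [suVal_mul, hc]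
        simp [Matrix.scalar_apply] }
  haveI : IsCyclic (Subgroup.center (SU 3 F q)) := isCyclic_of_subgroup_isDomain Φ fun x y hxy => by
    obtain ⟨c, hc⟩ := suVal_scalar_of_mem_center hF x.2
    obtain ⟨d, hd⟩ := suVal_scalar_of_mem_center hF y.2
    refine Subtype.ext (suVal_ext ?_)
    have : suVal x.1 0 0 = suVal y.1 0 0 := hxy
    rw [hc, hd] at this ⊢
    simp [Matrix.scalar_apply] at this
    rw [this]
  obtain ⟨z, hz⟩ := IsCyclic.exists_generator (α := Subgroup.center (SU 3 F q))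
  obtain ⟨R, hR, ee, -⟩ := SLnSeven.quot_cyclic hv
    (QuotientGroup.mk' (Subgroup.center (SU 3 F q))) (QuotientGroup.mk'_surjective _) z.1
    ((QuotientGroup.eq_one_iff _).2 z.2) (fun x hx => by
      obtain ⟨k, hk⟩ := Subgroup.mem_zpowers_iff.1 (hz ⟨x, (QuotientGroup.eq_one_iff x).1 hx⟩)
      exact Subgroup.mem_zpowers_iff.2 ⟨k, by rw [← SubgroupClass.coe_zpow, hk]⟩)
  exact ⟨R, hR, ⟨ee⟩⟩

end Cfsg.Agent.Lie.SU3Pres
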