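import Cfsg.Agent.Lib.Lie.SU3PresBorel

/-!
The rank-one relations of `SU₃(q)`: one relation on the centre and one outside give all of them.
-/

set_option autoImplicit false
set_option linter.unusedSectionVars false

namespace Cfsg.Agent.Lie.SU3Pres

open Matrix Cfsg.Agent.Classical Cfsg.Agent.Classical.PSUAut Cfsg.Agent.Fus.UnitN Cfsg.Agent.Lie.SUGen

variable {F : Type*} [Field F] [Fintype F] {q : ℕ}
variable (hF : Fintype.card F = q ^ 2)
variable {e n f : Fin 3 → F} (B : Frame3 q e n f)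

local notation "σ" => qFrob hF

/-- The hypotheses on the Borel part and the Weyl element. -/
structure Cells {G : Type*} [Group G] (π : G →* SU 3 F q) (S : Subgroup G) (w : G) (l : F) : Prop where
  inj : ∀ x ∈ S, π x = 1 → x = 1
  img : ∀ x ∈ S, ∃ a b : F, ∃ k : ℕ, OK hF a b ∧ π x = Um hF B a b * Tm hF B (l ^ k)
  hU : ∀ a b : F, OK hF a b → ∃ x ∈ S, π x = Um hF B a b
  hT : ∀ t : F, t ≠ 0 → ∃ x ∈ S, π x = Tm hF B t
  hw : π w = Wm hF B
  hw2 : w * w = 1
  hwT : ∀ t : F, t ≠ 0 → ∀ x ∈ S, π x = Tm hF B t → w * x * w ∈ S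
  gen : Subgroup.closure ((S : Set G) ∪ {w}) = ⊤
  hl : l ≠ 0

/-- The rank-one relation at given parameters. -/
def Good {G : Type*} [Group G] (π : G →* SU 3 F q) (S : Subgroup G) (w : G) (a b : F) : Prop :=
  ∀ x ∈ S, π x = Um hF B a b → ∃ b₁ ∈ S, ∃ b₂ ∈ S, w * x * w = b₁ * w * b₂

variable {hF B} {G : Type*} [Group G] {π : G →* SU 3 F q} {S : Subgroup G} {w : G} {l : F}
variable (D : Cells hF B π S w l)

include D

theorem Cells.eq_of {x y : G} (hx : x ∈ S) (hy : y ∈ S) (he : π x = π y) : x = y :=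
  mul_inv_eq_one.1 (D.inj _ (mul_mem hx (inv_mem hy)) (by rw [map_mul, map_inv, he, mul_inv_cancel]))

theorem Cells.w_inv : w⁻¹ = w := inv_eq_of_mul_eq_one_right D.hw2

theorem Cells.first {a b : F} (hg : Good hF B π S w a b) (hab : OK hF a b) (hb : b ≠ 0) {x y : G}
    (hx : x ∈ S) (px : π x = Um hF B a b) (hy : y ∈ S) (py : π y = Um hF B (-a / b) (1 / b)) :
    ∃ b' ∈ S, w * x * w = y * w * b' := by
  obtain ⟨x1, h1, x2, h2, he⟩ := hg x hx px
  obtain ⟨a1, c1, k1, ok1, e1⟩ := D.img x1 h1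
  obtain ⟨a2, c2, k2, ok2, e2⟩ := D.img x2 h2
  have he' := congrArg π he
  simp only [map_mul, px, D.hw, e1, e2] at he'
  obtain ⟨ea, ec⟩ := first_unique hF B hab hb ok1 ok2 (pow_ne_zero k1 D.hl) (pow_ne_zero k2 D.hl) he'
  obtain ⟨t, ht, pt⟩ := D.hT (l ^ k1) (pow_ne_zero k1 D.hl)
  have ex1 : x1 = y * t := D.eq_of h1 (mul_mem hy ht) (by rw [map_mul, py, pt, e1, ea, ec])
  refine ⟨w * t * w * x2, mul_mem (D.hwT _ (pow_ne_zero k1 D.hl) t ht pt) h2, ?_⟩
  rw [he, ex1]
  conv_rhs => rw [show y * w * (w * t * w * x2) = y * (w * w) * t * w * x2 by group, D.hw2, mul_one]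

theorem Cells.good_inv {a b : F} (hab : OK hF a b) (hg : Good hF B π S w a b) :
    Good hF B π S w (-a) (σ b) := by
  intro x hx px
  obtain ⟨b₁, h1, b₂, h2, he⟩ := hg x⁻¹ (inv_mem hx) (by
    rw [map_inv, px, ← U_inv hF B hab, inv_inv])
  refine ⟨b₂⁻¹, inv_mem h2, b₁⁻¹, inv_mem h1, ?_⟩
  have := congrArg (fun z => z⁻¹) he
  simp only [_root_.mul_inv_rev, inv_inv, D.w_inv, mul_assoc] at this
  simpa only [mul_assoc] using this

theorem Cells.good_scale {a b t : F} (hab : OK hF a b) (ht : t ≠ 0) (hg : Good hF B π S w a b) :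
    Good hF B π S w (th hF t * a) (t * σ t * b) := by
  intro x hx px
  obtain ⟨s, hs, ps⟩ := D.hT t ht
  obtain ⟨x0, hx0, px0⟩ := D.hU a b hab
  have ex : x = s * x0 * s⁻¹ := D.eq_of hx (mul_mem (mul_mem hs hx0) (inv_mem hs))
    (by rw [map_mul, map_mul, map_inv, ps, px0, T_conj hF B ht hab, px])
  obtain ⟨b₁, h1, b₂, h2, he⟩ := hg x0 hx0 px0
  have hws := D.hwT t ht s hs ps
  refine ⟨w * s * w * b₁, mul_mem hws h1, b₂ * (w * s * w)⁻¹, mul_mem h2 (inv_mem hws), ?_⟩
  rw [ex]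
  calc w * (s * x0 * s⁻¹) * w = w * s * (w * w) * x0 * (w * w) * s⁻¹ * w := by
        rw [D.hw2]; group
    _ = (w * s * w) * (w * x0 * w) * (w * s⁻¹ * w) := by group
    _ = _ := by
      rw [he, show (w * s * w)⁻¹ = w * s⁻¹ * w by simp [_root_.mul_inv_rev, D.w_inv, mul_assoc]]
      group

theorem Cells.good_first {a b : F} (hab : OK hF a b) (hb : b ≠ 0) (hg : Good hF B π S w a b) :
    Good hF B π S w (-a / b) (1 / b) := by
  intro y hy py
  obtain ⟨x, hx, px⟩ := D.hU a b hab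
  obtain ⟨b', hb', he⟩ := D.first hg hab hb hx px hy py
  refine ⟨x, hx, b'⁻¹, inv_mem hb', ?_⟩
  have ey : y = w * x * w * b'⁻¹ * w⁻¹ := by rw [he]; group
  rw [ey]
  calc w * (w * x * w * b'⁻¹ * w⁻¹) * w = (w * w) * (x * w * b'⁻¹) := by group
    _ = _ := by rw [D.hw2, one_mul]

theorem Cells.good_step {a b c : F} (hab : OK hF a b) (hb : b ≠ 0) (hc : c + σ c = 0) (hc0 : c ≠ 0)
    (gz : Good hF B π S w 0 c) (g0 : Good hF B π S w a b)
    (g1 : Good hF B π S w (-a / b) (1 / c + 1 / b)) : Good hF B π S w a (b + c) := by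
  intro x hx px
  obtain ⟨x0, hx0, px0⟩ := D.hU a b hab
  obtain ⟨z, hz, pz⟩ := D.hU 0 c (OK.skew hF hc)
  have ex : x = z * x0 := D.eq_of hx (mul_mem hz hx0) (by
    rw [map_mul, pz, px0, U_mul hF B (OK.skew hF hc) hab, map_zero, px]
    congr 1 <;> ring)
  have hc' : 1 / c + σ (1 / c) = 0 := by
    rw [map_div₀, map_one, show σ c = -c by linear_combination hc, div_neg, add_neg_cancel]
  -- the last factor of the centre
  have gz' := D.good_inv (OK.skew hF hc) gz
  rw [neg_zero] at gz'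
  have okz : OK hF 0 (σ c) := OK.skew hF (by rw [cj_cj hF]; linear_combination hc)
  have hσc : σ c ≠ 0 := (map_ne_zero (qFrob hF)).2 hc0
  obtain ⟨y1, hy1, py1⟩ := D.hU _ _ (okz.first hF hσc)
  obtain ⟨b', hb', he1⟩ := D.first gz' okz hσc (inv_mem hz)
    (by rw [map_inv, pz, U_inv hF B (OK.skew hF hc), neg_zero]) hy1 py1
  obtain ⟨y2, hy2, py2⟩ := D.hU _ _ (hab.first hF hb)
  obtain ⟨b'', hb'', he2⟩ := D.first g0 hab hb hx0 px0 hy2 py2
  have he1' : w * z * w = b'⁻¹ * w * y1⁻¹ := by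
    have := congrArg (fun v => v⁻¹) he1
    simp only [_root_.mul_inv_rev, inv_inv, D.w_inv] at this
    simpa only [mul_assoc] using this
  have py : π (y1⁻¹ * y2) = Um hF B (-a / b) (1 / c + 1 / b) := by
    rw [map_mul, map_inv, py1, py2, U_inv hF B (okz.first hF hσc),
      U_mul hF B ((okz.first hF hσc).inv hF) (hab.first hF hb)]
    simp only [neg_zero, zero_div, map_zero, map_div₀, map_one, cj_cj hF, zero_add, zero_mul, sub_zero]
  obtain ⟨b₁, h1, b₂, h2, he3⟩ := g1 _ (mul_mem (inv_mem hy1) hy2) py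
  refine ⟨b'⁻¹ * b₁, mul_mem (inv_mem hb') h1, b₂ * b'', mul_mem h2 hb'', ?_⟩
  rw [ex]
  calc w * (z * x0) * w = w * z * (w * w) * x0 * w := by rw [D.hw2]; group
    _ = (w * z * w) * (w * x0 * w) := by group
    _ = b'⁻¹ * (w * (y1⁻¹ * y2) * w) * b'' := by rw [he1', he2]; group
    _ = _ := by rw [he3]; group

theorem Cells.good_all {ω : Fˣ} (hgen : ∀ x : Fˣ, ∃ k : ℕ, x = ω ^ k) {r β : F} (hr : r * σ r = 1)
    (hr1 : r ≠ 1) (hcirc : ∀ g : F, g * σ g = 1 → ∃ j : ℕ, g = r ^ j) (hβ : β = r / (1 - r))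
    (hβt : β + σ β = -1) (hm : ∃ m : F, m ≠ 0 ∧ β / (ω : F) = th hF m) {c₀ : F} (hc₀ : c₀ + σ c₀ = 0)
    (hc₀ne : c₀ ≠ 0) (g₀ : Good hF B π S w 0 c₀) (g₁ : Good hF B π S w 1 β) :
    ∀ a b : F, OK hF a b → ¬ (a = 0 ∧ b = 0) → Good hF B π S w a b := by
  have hω := ω.ne_zero
  have hr0 : r ≠ 0 := left_ne_zero_of_mul (hr ▸ one_ne_zero)
  have h1r : 1 - r ≠ 0 := sub_ne_zero.2 (Ne.symm hr1)
  have hβ0 : β ≠ 0 := hβ ▸ div_ne_zero hr0 h1r
  have hσβ : σ β = -1 / (1 - r) := by
    rw [show σ β = -1 - β by linear_combination hβt, hβ]; field_simp; ring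
  -- the centre
  have gZ : ∀ c : F, c + σ c = 0 → c ≠ 0 → Good hF B π S w 0 c := by
    intro c hc hc0
    obtain ⟨s, hs⟩ := exists_norm hF (a := c / c₀) (by
      rw [map_div₀, show σ c = -c by linear_combination hc, show σ c₀ = -c₀ by linear_combination hc₀,
        neg_div_neg_eq])
    have hs0 : s ≠ 0 := fun h0 => div_ne_zero hc0 hc₀ne (by rw [← hs, h0, zero_mul])
    have := D.good_scale (OK.skew hF hc₀) hs0 g₀
    rwa [mul_zero, hs, div_mul_cancel₀ _ hc₀ne] at this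
  -- normalised parameters
  let P : F → F → Prop := fun γ x => Good hF B π S w γ (x * (γ * σ γ))
  have okP : ∀ γ x : F, x + σ x = -1 → OK hF γ (x * (γ * σ γ)) := by
    intro γ x hx
    unfold OK
    simp only [map_mul, cj_cj hF]
    linear_combination (γ * σ γ) * hx
  have pA : ∀ γ x t : F, x + σ x = -1 → t ≠ 0 → P γ x → P (th hF t * γ) x := by
    intro γ x t hx ht hP
    have := D.good_scale (okP γ x hx) ht hP
    show Good hF B π S w (th hF t * γ) (x * (th hF t * γ * σ (th hF t * γ)))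
    rwa [map_mul, show th hF t * γ * (σ (th hF t) * σ γ) = th hF t * σ (th hF t) * (γ * σ γ) by ring,
      th_norm hF ht, show x * (t * σ t * (γ * σ γ)) = t * σ t * (x * (γ * σ γ)) by ring]
  have pB : ∀ γ : F, γ ≠ 0 → P γ β → P (γ / β) β := by
    intro γ hγ hP
    have hγ' : σ γ ≠ 0 := (map_ne_zero (qFrob hF)).2 hγ
    have hσβ0 : σ β ≠ 0 := (map_ne_zero (qFrob hF)).2 hβ0
    have hb : β * (γ * σ γ) ≠ 0 := mul_ne_zero hβ0 (mul_ne_zero hγ hγ')
    have h2 := D.good_inv ((okP γ β hβt).first hF hb) (D.good_first (okP γ β hβt) hb hP)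
    have h3 : P (-(-γ / (β * (γ * σ γ)))) β := by
      show Good hF B π S w _ _
      convert h2 using 1
      simp only [map_neg, map_div₀, map_mul, map_one, cj_cj hF]
      field_simp
    have h4 := pA _ β (γ * σ γ) hβt (mul_ne_zero hγ hγ') h3
    rwa [th_real hF (by rw [map_mul, cj_cj hF, mul_comm]) (mul_ne_zero hγ hγ'),
      show γ * σ γ * -(-γ / (β * (γ * σ γ))) = γ / β by field_simp] at h4
  obtain ⟨m, hm0, hm⟩ := hm
  have p1 : P 1 β := by
    show Good hF B π S w 1 _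
    rwa [map_one, mul_one, mul_one]
  have pj : ∀ j : ℕ, P ((ω : F) ^ j)⁻¹ β := by
    intro j
    induction j with
    | zero => simpa using p1
    | succ j ih =>
      have h1 := pA _ β m hβt hm0 (pB _ (inv_ne_zero (pow_ne_zero j hω)) ih)
      rwa [← hm, show β / (ω : F) * (((ω : F) ^ j)⁻¹ / β) = ((ω : F) ^ (j + 1))⁻¹ by
        rw [pow_succ, mul_inv]; field_simp] at h1
  have pall : ∀ γ : F, γ ≠ 0 → P γ β := by
    intro γ hγ
    obtain ⟨j, hj⟩ := hgen (Units.mk0 γ hγ)⁻¹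
    have := congrArg Units.val hj
    rw [Units.val_inv_eq_inv_val, Units.val_mk0, Units.val_pow_eq_pow_val] at this
    rw [← inv_inv γ, this]
    exact pj j
  -- the step
  have hnum : ∀ a : F, a * σ a = 1 → a ≠ 1 → a / (1 - a) + σ (a / (1 - a)) = -1 := by
    intro a ha ha1
    have ha0 : a ≠ 0 := left_ne_zero_of_mul (ha ▸ one_ne_zero)
    rw [map_div₀, map_sub, map_one, show σ a = a⁻¹ from eq_inv_of_mul_eq_one_right ha]
    have : 1 - a ≠ 0 := sub_ne_zero.2 (Ne.symm ha1)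
    have : a - 1 ≠ 0 := sub_ne_zero.2 ha1
    field_simp
    ring
  have line : ∀ j : ℕ, r ^ j = 1 ∨ ∀ γ : F, γ ≠ 0 → P γ (r ^ j / (1 - r ^ j)) := by
    intro j
    induction j with
    | zero => exact Or.inl (pow_zero r)
    | succ j ih =>
      rcases eq_or_ne (r ^ (j + 1)) 1 with h | h
      · exact Or.inl h
      refine Or.inr fun γ hγ => ?_
      rcases eq_or_ne (r ^ j) 1 with h' | h'
      · rw [pow_succ, h', one_mul, ← hβ]; exact pall γ hγ
      set a := r ^ j with hadef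
      set x := r ^ (j + 1) / (1 - r ^ (j + 1)) with hxdef
      have hpn : ∀ i : ℕ, r ^ i * σ (r ^ i) = 1 := fun i => by rw [map_pow, ← mul_pow, hr, one_pow]
      have hxt : x + σ x = -1 := hnum _ (hpn _) h
      set s := x - β with hsdef
      have hst : s + σ s = 0 := by rw [hsdef, map_sub]; linear_combination hxt - hβt
      have ha1 : 1 - a ≠ 0 := sub_ne_zero.2 (Ne.symm h')
      have har : 1 - a * r ≠ 0 := by rw [hadef, ← pow_succ]; exact sub_ne_zero.2 (Ne.symm h)
      have hkey : s * (a / (1 - a) - σ β) = β * σ β := by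
        rw [hsdef, hxdef, hσβ, hβ, pow_succ, ← hadef]
        field_simp
        ring
      have hs0 : s ≠ 0 := fun h0 => mul_ne_zero hβ0 ((map_ne_zero (qFrob hF)).2 hβ0)
        (by rw [← hkey, h0, zero_mul])
      have hN : γ * σ γ ≠ 0 := mul_ne_zero hγ ((map_ne_zero (qFrob hF)).2 hγ)
      have hb : β * (γ * σ γ) ≠ 0 := mul_ne_zero hβ0 hN
      have hct : s * (γ * σ γ) + σ (s * (γ * σ γ)) = 0 := by
        simp only [map_mul, cj_cj hF]; linear_combination (γ * σ γ) * hst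
      have g1' := (ih.resolve_left h') (-γ / (β * (γ * σ γ))) (div_ne_zero (neg_ne_zero.2 hγ) hb)
      have := D.good_step (okP γ β hβt) hb hct (mul_ne_zero hs0 hN) (gZ _ hct (mul_ne_zero hs0 hN))
        (pall γ hγ) (by
          convert g1' using 1
          rw [show a / (1 - a) = (β * σ β + s * σ β) / s by
            rw [eq_div_iff hs0]; linear_combination hkey]
          have hσβ0 : σ β ≠ 0 := (map_ne_zero (qFrob hF)).2 hβ0
          have hγ' : σ γ ≠ 0 := (map_ne_zero (qFrob hF)).2 hγ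
          simp only [map_neg, map_div₀, map_mul, cj_cj hF]
          field_simp)
      show Good hF B π S w γ _
      rwa [← add_mul, add_comm β s, hsdef, sub_add_cancel] at this
  intro a b hab hne
  rcases eq_or_ne a 0 with rfl | ha
  · have hb : b + σ b = 0 := by simpa [OK] using hab
    exact gZ b hb fun h0 => hne ⟨rfl, h0⟩
  have hb := hab.b_ne hF ha
  have hb' : σ b ≠ 0 := (map_ne_zero (qFrob hF)).2 hb
  have hN : a * σ a ≠ 0 := mul_ne_zero ha ((map_ne_zero (qFrob hF)).2 ha)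
  set x := b / (a * σ a)
  have hxt : x + σ x = -1 := by
    simp only [x, map_div₀, map_mul, cj_cj hF]
    rw [mul_comm (σ a) a, ← add_div, div_eq_iff hN]
    unfold OK at hab
    linear_combination hab
  have hx0 : x ≠ 0 := div_ne_zero hb hN
  have hx1 : 1 + x ≠ 0 := fun h0 => (map_ne_zero (qFrob hF)).2 hx0 (by linear_combination hxt - h0)
  obtain ⟨j, hj⟩ := hcirc (x / (1 + x)) (by
    have hσx : σ x = -(1 + x) := by linear_combination hxt
    rw [map_div₀, map_add, map_one, hσx, show 1 + -(1 + x) = -x by ring]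
    field_simp)
  have hne1 : r ^ j ≠ 1 := by
    rw [← hj, ne_eq, div_eq_one_iff_eq hx1]
    intro h0
    exact one_ne_zero (by linear_combination -h0)
  have := (line j).resolve_left hne1 a ha
  have e1 : r ^ j / (1 - r ^ j) = x := by rw [← hj]; field_simp; ring
  show Good hF B π S w a b
  have e2 : b = x * (a * σ a) := (div_mul_cancel₀ b hN).symm
  rw [e2, ← e1]
  exact this

theorem Cells.injective
    (hall : ∀ a b : F, OK hF a b → ¬ (a = 0 ∧ b = 0) → Good hF B π S w a b) :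
    Function.Injective π := by
  let C : Set G := (S : Set G) ∪ {g | ∃ x ∈ S, ∃ y ∈ S, g = x * w * y}
  have key : ∀ x ∈ S, w * x * w ∈ C := by
    intro x hx
    obtain ⟨a, b, k, hab, px⟩ := D.img x hx
    obtain ⟨t, ht, pt⟩ := D.hT (l ^ k) (pow_ne_zero k D.hl)
    obtain ⟨u, hu, pu⟩ := D.hU a b hab
    have ex : x = u * t := D.eq_of hx (mul_mem hu ht) (by rw [map_mul, pu, pt, px])
    have hwt := D.hwT _ (pow_ne_zero k D.hl) t ht pt
    by_cases h0 : a = 0 ∧ b = 0
    · have hu1 : u = 1 := D.inj u hu (by rw [pu, h0.1, h0.2, U_zero hF B])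
      left
      rw [ex, hu1, one_mul]
      exact hwt
    · obtain ⟨b₁, h1, b₂, h2, he⟩ := hall a b hab h0 u hu pu
      refine Or.inr ⟨b₁, h1, b₂ * (w * t * w), mul_mem h2 hwt, ?_⟩
      rw [ex]
      calc w * (u * t) * w = w * u * (w * w) * t * w := by rw [D.hw2]; group
        _ = (w * u * w) * (w * t * w) := by group
        _ = _ := by rw [he]; group
  have hC : ∀ g : G, g ∈ C := by
    intro g
    have hg : g ∈ Subgroup.closure ((S : Set G) ∪ {w}) := D.gen ▸ Subgroup.mem_top g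
    induction hg using Subgroup.closure_induction with
    | mem x hx =>
      rcases hx with hx | rfl
      · exact Or.inl hx
      · exact Or.inr ⟨1, one_mem _, 1, one_mem _, by simp⟩
    | one => exact Or.inl (one_mem _)
    | mul a b _ _ ha hb =>
      rcases ha with ha | ⟨x, hx, y, hy, rfl⟩ <;> rcases hb with hb | ⟨x', hx', y', hy', rfl⟩
      · exact Or.inl (mul_mem ha hb)
      · exact Or.inr ⟨a * x', mul_mem ha hx', y', hy', by group⟩
      · exact Or.inr ⟨x, hx, y * b, mul_mem hy hb, by group⟩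
      · rw [show x * w * y * (x' * w * y') = x * (w * (y * x') * w) * y' by group]
        rcases key _ (mul_mem hy hx') with h | ⟨c, hc, d, hd, he⟩
        · exact Or.inl (mul_mem (mul_mem hx h) hy')
        · exact Or.inr ⟨x * c, mul_mem hx hc, d * y', mul_mem hd hy', by rw [he]; group⟩
    | inv a _ ha =>
      rcases ha with ha | ⟨x, hx, y, hy, rfl⟩
      · exact Or.inl (inv_mem ha)
      · exact Or.inr ⟨y⁻¹, inv_mem hy, x⁻¹, inv_mem hx, by
          simp only [_root_.mul_inv_rev, D.w_inv, mul_assoc]⟩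
  refine (injective_iff_map_eq_one π).2 fun g hg => ?_
  rcases hC g with h | ⟨x, hx, y, hy, rfl⟩
  · exact D.inj g h hg
  exfalso
  have ew : Wm hF B = π (x⁻¹ * y⁻¹) := by
    rw [← D.hw, map_mul]
    rw [map_mul, map_mul] at hg
    rw [map_inv, map_inv, eq_inv_mul_iff_mul_eq, ← mul_inv_eq_one, inv_inv]
    exact hg
  obtain ⟨a, b, k, hab, he⟩ := D.img _ (mul_mem (inv_mem hx) (inv_mem hy))
  rw [he] at ew
  have hact := congrArg (fun s => suVal s *ᵥ co e n f 1 0 0) ew
  rw [mulVec_mul, W_act hF B, T_act hF B (pow_ne_zero k D.hl), U_act hF B hab] at hact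
  obtain ⟨-, -, r2⟩ := co_inj hF B hact
  simp at r2

end Cfsg.Agent.Lie.SU3Pres
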