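import Cfsg.Agent.Lib.Classical.UnitHeisenberg

/-!
The involutions of `SU(3, q)`, `q` odd, as the anisotropic points of the Hermitian plane.
-/

set_option autoImplicit false
set_option linter.unusedSectionVars false

namespace Cfsg.Agent.Lie.SUThreeInvolutions

open Matrix Cfsg.Agent.Classical Cfsg.Agent.Classical.PSUAut

variable {F : Type*} [Field F] [Fintype F] {q : ℕ}

local notation "h" => hermForm 3 F q
local notation "V" => (Fin 3 → F)
local notation "S" => SU 3 F q

/-- The involution with fixed line `v`. -/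
def refl (q : ℕ) (v : Fin 3 → F) : Matrix (Fin 3) (Fin 3) F :=
  (2 : F) • Matrix.vecMulVec v (fun i => v i ^ q) - 1

theorem refl_mulVec (v x : V) : refl q v *ᵥ x = (2 * h x v) • v - x := by
  rw [refl, Matrix.sub_mulVec, Matrix.smul_mulVec, Matrix.one_mulVec, Matrix.vecMulVec_mulVec]
  funext i
  simp [hermForm, dotProduct, mul_comm]
  ring

section
variable (hF : Fintype.card F = q ^ 2) (h2 : (2 : F) ≠ 0)
include hF

theorem refl_map {g : Matrix (Fin 3) (Fin 3) F} (hg : ∀ x y, h (g *ᵥ x) (g *ᵥ y) = h x y) (v : V) :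
    refl q (g *ᵥ v) * g = g * refl q v := by
  refine Matrix.ext_iff_mulVec.2 fun x => ?_
  rw [← Matrix.mulVec_mulVec, ← Matrix.mulVec_mulVec, refl_mulVec, refl_mulVec, hg, Matrix.mulVec_sub,
    Matrix.mulVec_smul]

theorem exists_move {v : V} (hv : h v v = 1) :
    ∃ g : S, suVal g *ᵥ (Pi.single 2 1) = v := by
  classical
  set E : V := Pi.single 2 1 with hE
  have hEx : ∀ x, h x E = x 2 := fun x => hermForm_single_right hF 3 x 2
  have hEE : h E E = 1 := by rw [hEx, hE, Pi.single_eq_same]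
  let X := Submodule.span F ({E} : Set V)
  let ψ : X →ₗ[F] V := ((LinearMap.toSpanSingleton F _ v).comp (LinearMap.proj 2)).comp X.subtype
  have hx : ∀ x : X, (x : V) = (x : V) 2 • E := fun x => by
    obtain ⟨c, hc⟩ := Submodule.mem_span_singleton.1 x.2
    rw [← hc]; simp [E]
  have hψ : ∀ x : X, ψ x = (x : V) 2 • v := fun x => rfl
  have hv0 : v ≠ 0 := by rintro rfl; simp [hermForm] at hv
  obtain ⟨g, hg, hgx⟩ := witt_hermitian (hermB hF 3) (qFrob_ne_id hF) (qFrob_qFrob hF)
    (hermB_isSymm hF _) (hermB_nondegenerate hF _) X ψ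
    (fun x y hxy => Subtype.ext (by
      rw [hψ, hψ] at hxy
      rw [hx x, hx y, smul_left_injective F hv0 hxy]))
    (fun x y => by
      rw [hψ, hψ]
      conv_rhs => rw [hx x, hx y]
      simp only [LinearMap.map_smulₛₗ, LinearMap.smul_apply, smul_eq_mul, RingHom.id_apply, hermB_apply]
      rw [hv, hEE])
  have hgE : g E = v := by
    have := hgx ⟨E, Submodule.mem_span_singleton_self E⟩
    simpa [hψ, E] using this
  set M := LinearMap.toMatrix' g.toLinearMap with hM
  have hMv : ∀ x, M *ᵥ x = g x := fun x => by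
    rw [hM, ← Matrix.toLin'_apply, Matrix.toLin'_toMatrix']; rfl
  have hMi : ∀ x y, h (M *ᵥ x) (M *ᵥ y) = h x y := fun x y => by
    rw [hMv, hMv]; exact hg y x
  have hd : M.det * M.det ^ q = 1 := det_unitary hF hMi
  have hd0 : M.det ≠ 0 := fun h0 => zero_ne_one (by rw [← hd, h0, zero_mul])
  let D : Fin 3 → F := ![M.det⁻¹, 1, 1]
  have hD : ∀ l, D l ^ (q + 1) = 1 := fun l => by
    fin_cases l <;> simp [D]
    rw [pow_succ', hd]
  refine ⟨suMk hF (M * Matrix.diagonal D) ?_ ?_, ?_⟩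
  · rw [Matrix.det_mul, Matrix.det_diagonal]
    simp [D, Fin.prod_univ_succ, hd0]
  · rw [Matrix.transpose_mul, Matrix.map_mul, Matrix.mul_assoc, ← Matrix.mul_assoc Mᵀ,
      transpose_mul_of_preserves hF hMi, Matrix.one_mul, transpose_mul_diagonal hF hD]
  · rw [suVal_suMk, ← Matrix.mulVec_mulVec, hMv,
      show Matrix.diagonal D *ᵥ E = E from funext fun i => by
        rw [Matrix.mulVec_diagonal]; fin_cases i <;> simp [D, E], hgE]

theorem su_h (g : S) (x y : V) : h (suVal g *ᵥ x) (suVal g *ᵥ y) = h x y := g.2 x y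

theorem su_inv (g : S) (x : V) : suVal g *ᵥ (suVal g⁻¹ *ᵥ x) = x := by
  rw [Matrix.mulVec_mulVec, ← suVal_mul, mul_inv_cancel]
  exact Matrix.one_mulVec x

theorem su_inv' (g : S) (x : V) : suVal g⁻¹ *ᵥ (suVal g *ᵥ x) = x := by
  rw [Matrix.mulVec_mulVec, ← suVal_mul, inv_mul_cancel]
  exact Matrix.one_mulVec x

theorem refl_single : refl q (Pi.single 2 (1 : F)) = Matrix.diagonal ![-1, -1, 1] := by
  refine Matrix.ext_iff_mulVec.2 fun x => ?_
  rw [refl_mulVec, hermForm_single_right hF]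
  funext i
  fin_cases i <;> simp [Matrix.mulVec_diagonal]
  ring

theorem refl_form {v : V} (hv : h v v = 1) (x y : V) : h (refl q v *ᵥ x) (refl q v *ᵥ y) = h x y := by
  simp only [refl_mulVec, h_sub_left, h_sub_right hF, h_smul_left, h_smul_right hF, map_mul, map_ofNat,
    cj_h hF, hv]
  ring

theorem refl_sq {v : V} (hv : h v v = 1) : refl q v * refl q v = 1 := by
  refine Matrix.ext_iff_mulVec.2 fun x => ?_
  rw [← Matrix.mulVec_mulVec, Matrix.one_mulVec, refl_mulVec, refl_mulVec]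
  simp only [h_sub_left, h_smul_left, hv]
  module

theorem refl_det {v : V} (hv : h v v = 1) : (refl q v).det = 1 := by
  obtain ⟨g, hg⟩ := exists_move hF hv
  have e := congrArg Matrix.det (refl_map hF (su_h hF g) (Pi.single 2 1))
  rw [hg, refl_single hF, Matrix.det_mul, Matrix.det_mul, g.1.2, Matrix.det_diagonal] at e
  simpa [Fin.prod_univ_succ] using e

/-- Unit vectors. -/
abbrev Unit1 (F : Type*) [Field F] (q : ℕ) := {v : Fin 3 → F // hermForm 3 F q v v = 1}

/-- The involution as a group element. -/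
def reflSU (v : Unit1 F q) : S := ⟨⟨refl q v.1, refl_det hF v.2⟩, fun x y => refl_form hF v.2 x y⟩

theorem suVal_reflSU (v : Unit1 F q) : suVal (reflSU hF v) = refl q v.1 := rfl

theorem reflSU_mul_self (v : Unit1 F q) : reflSU hF v * reflSU hF v = 1 :=
  suVal_ext (refl_sq hF v.2)

theorem reflSU_map (g : S) (v w : Unit1 F q) (hw : w.1 = suVal g *ᵥ v.1) :
    g * reflSU hF v * g⁻¹ = reflSU hF w := by
  rw [mul_inv_eq_iff_eq_mul]
  refine suVal_ext ?_
  rw [suVal_mul, suVal_mul, suVal_reflSU, suVal_reflSU, hw]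
  exact (refl_map hF (su_h hF g) v.1).symm

include h2

theorem reflSU_ne_one (v : Unit1 F q) : reflSU hF v ≠ 1 := by
  intro e
  have h1 : refl q v.1 = 1 := congrArg suVal e
  obtain ⟨g, hg⟩ := exists_move hF v.2
  have h3 := refl_map hF (su_h hF g) (Pi.single 2 1)
  rw [hg, h1, one_mul, refl_single hF] at h3
  have h4 : suVal g *ᵥ (Pi.single 0 1) = suVal g *ᵥ (-Pi.single 0 1) := by
    conv_lhs => rw [h3]
    rw [← Matrix.mulVec_mulVec]
    congr 1
    funext i
    rw [Matrix.mulVec_diagonal]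
    fin_cases i <;> simp
  have h5 := congrArg (suVal g⁻¹ *ᵥ ·) h4
  simp only [su_inv' hF] at h5
  have h6 := congrFun h5 0
  simp at h6
  exact h2 (by linear_combination h6)

theorem eq_smul_of_refl_eq {v w : Unit1 F q} (e : reflSU hF v = reflSU hF w) :
    v.1 = h v.1 w.1 • w.1 := by
  have h1 := congrArg (fun s : S => suVal s *ᵥ v.1) e
  simp only [suVal_reflSU, refl_mulVec, v.2, mul_one] at h1
  funext i
  have h3 := congrFun h1 i
  simp only [Pi.sub_apply, Pi.smul_apply, smul_eq_mul] at h3 ⊢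
  refine mul_left_cancel₀ h2 ?_
  linear_combination h3

theorem refl_eq_iff {v w : Unit1 F q} :
    reflSU hF v = reflSU hF w ↔ ∃ c : F, c ^ (q + 1) = 1 ∧ v.1 = c • w.1 := by
  constructor
  · intro e
    have hv := eq_smul_of_refl_eq hF h2 e
    refine ⟨_, ?_, hv⟩
    have := v.2
    rw [hv, h_smul_left, h_smul_right hF, w.2, mul_one, ← cj_pow hF, ← pow_succ'] at this
    exact this
  · rintro ⟨c, hc, hv⟩
    refine suVal_ext (Matrix.ext_iff_mulVec.2 fun x => ?_)
    rw [suVal_reflSU, suVal_reflSU, refl_mulVec, refl_mulVec, hv, h_smul_right hF, smul_smul, ← cj_pow hF]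
    congr 2
    rw [pow_succ'] at hc
    linear_combination (2 * h x w.1) * hc

theorem commute_iff {v w : Unit1 F q} :
    Commute (reflSU hF v) (reflSU hF w) ↔ h v.1 w.1 = 0 ∨ reflSU hF v = reflSU hF w := by
  constructor
  · intro e
    by_cases h0 : h v.1 w.1 = 0
    · exact Or.inl h0
    refine Or.inr ?_
    have h1 := congrArg (fun s : S => suVal s *ᵥ v.1) e.eq
    simp only [suVal_mul, suVal_reflSU, ← Matrix.mulVec_mulVec, refl_mulVec, v.2, h_sub_left, h_smul_left,
      mul_one] at h1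
    -- the fixed line of the second is in the first
    have h4 : ∀ i, h w.1 v.1 * v.1 i = w.1 i := fun i => by
      have h3 := congrFun h1 i
      simp only [Pi.sub_apply, Pi.smul_apply, smul_eq_mul] at h3
      refine mul_left_cancel₀ (mul_ne_zero (mul_ne_zero h2 h2) h0) ?_
      linear_combination h3
    have hc : (h w.1 v.1) ^ (q + 1) = 1 := by
      have := w.2
      rw [show w.1 = h w.1 v.1 • v.1 from funext fun i => (h4 i).symm, h_smul_left, h_smul_right hF, v.2,
        mul_one, ← cj_pow hF, ← pow_succ'] at this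
      exact this
    exact ((refl_eq_iff hF h2).2 ⟨_, hc, funext fun i => (h4 i).symm⟩).symm
  · rintro (h0 | h0)
    · have h0' := h_comm_zero hF h0
      refine suVal_ext (Matrix.ext_iff_mulVec.2 fun x => ?_)
      simp only [suVal_mul, suVal_reflSU, ← Matrix.mulVec_mulVec, refl_mulVec, h_sub_left, h_smul_left, h0, h0',
        mul_zero, sub_zero, zero_sub]
      module
    · rw [h0]

/-- Every involution has this shape. -/
theorem exists_unit {x : S} (hx1 : x ≠ 1) (hx : x * x = 1) : ∃ v : Unit1 F q, x = reflSU hF v := by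
  classical
  set M := suVal x with hM
  have hMM : ∀ z, M *ᵥ (M *ᵥ z) = z := fun z => by
    rw [Matrix.mulVec_mulVec, hM, ← suVal_mul, hx]; exact Matrix.one_mulVec z
  have hsa : ∀ a b, h (M *ᵥ a) b = h a (M *ᵥ b) := fun a b => by
    have := su_h hF x a (M *ᵥ b)
    rw [← hM, hMM] at this
    exact this
  let L := Matrix.toLin' M
  -- a fixed vector
  have hdet : M.det = 1 := x.1.2
  obtain ⟨z, hz0, hz⟩ : ∃ z : V, z ≠ 0 ∧ M *ᵥ z = z := by
    by_contra hcon
    push Not at hcon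
    have hneg : M = -1 := Matrix.ext_iff_mulVec.2 fun z => by
      rw [Matrix.neg_mulVec, Matrix.one_mulVec]
      by_contra hne
      refine hcon (M *ᵥ z + z) (fun h0 => hne (eq_neg_of_add_eq_zero_left h0)) ?_
      rw [Matrix.mulVec_add, hMM, add_comm]
    rw [hneg, Matrix.det_neg, Matrix.det_one] at hdet
    simp at hdet
    exact h2 (by linear_combination -hdet)
  -- an anisotropic one
  obtain ⟨u, hu, hu0⟩ : ∃ u : V, M *ᵥ u = u ∧ h u u ≠ 0 := by
    by_contra hcon
    push Not at hcon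
    obtain ⟨y, hy⟩ := exists_h_eq hF hz0 1
    set y' := M *ᵥ y + y with hy'
    have hyf : M *ᵥ y' = y' := by rw [hy', Matrix.mulVec_add, hMM, add_comm]
    have hzy : h z y' = 2 := by
      rw [hy', h_add_right hF, ← hsa, hz, hy]; norm_num
    have h1 := hcon (z + y') (by rw [Matrix.mulVec_add, hz, hyf])
    rw [h_add_left, h_add_right hF z, h_add_right hF y', hcon z hz, hcon y' hyf, hzy, ← cj_h hF z y', hzy, map_ofNat]
      at h1
    exact mul_ne_zero h2 h2 (by linear_combination h1)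
  obtain ⟨s, hs⟩ := exists_norm hF (cj_h_self hF u)
  have hs0 : s ≠ 0 := fun h0 => hu0 (by rw [← hs, h0, zero_mul])
  have hv : h (s⁻¹ • u) (s⁻¹ • u) = 1 := by
    rw [h_smul_left, h_smul_right hF, ← hs, map_inv₀]
    have : qFrob hF s ≠ 0 := (map_ne_zero _).2 hs0
    field_simp
  let v : Unit1 F q := ⟨s⁻¹ • u, hv⟩
  refine ⟨v, ?_⟩
  -- the orthogonal space is inverted
  have hfix : M *ᵥ v.1 = v.1 := by rw [Matrix.mulVec_smul, hu]
  obtain ⟨g, hg⟩ := exists_move hF hv
  set N := suVal (g⁻¹ * x * g) with hN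
  have hNN : N * N = 1 := by
    rw [hN, ← suVal_mul, show g⁻¹ * x * g * (g⁻¹ * x * g) = g⁻¹ * (x * x) * g by group, hx, mul_one,
      inv_mul_cancel]
    rfl
  have hNE : N *ᵥ Pi.single 2 1 = Pi.single 2 1 := by
    rw [hN, suVal_mul, suVal_mul, ← Matrix.mulVec_mulVec, ← Matrix.mulVec_mulVec, hg, ← hM]
    show suVal g⁻¹ *ᵥ (M *ᵥ v.1) = _
    rw [hfix, show v.1 = suVal g *ᵥ Pi.single 2 1 from hg.symm, su_inv' hF]
  have hcol : ∀ i, N i 2 = (Pi.single 2 1 : V) i := fun i => by
    have := congrFun hNE i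
    rwa [Matrix.mulVec_single_one] at this
  have hrow : ∀ j, N 2 j = (Pi.single 2 1 : V) j := fun j => by
    have h1 := su_h hF (g⁻¹ * x * g) (Pi.single j 1) (Pi.single 2 1)
    rw [← hN, hNE, hermForm_single_right hF, hermForm_single_right hF, Matrix.mulVec_single_one] at h1
    rw [show N 2 j = (Pi.single j 1 : V) 2 from h1, Pi.single_comm]
  have hc := fun i => hcol i
  have n20 : N 2 0 = 0 := by simpa using hrow 0
  have n21 : N 2 1 = 0 := by simpa using hrow 1
  have n02 : N 0 2 = 0 := by simpa using hcol 0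
  have n12 : N 1 2 = 0 := by simpa using hcol 1
  have n22 : N 2 2 = 1 := by simpa using hcol 2
  have e00 := congrFun₂ hNN 0 0
  have e01 := congrFun₂ hNN 0 1
  have e10 := congrFun₂ hNN 1 0
  have e11 := congrFun₂ hNN 1 1
  simp [Matrix.mul_apply, Fin.sum_univ_succ, n20, n21, n02, n12] at e00 e01 e10 e11
  have hd : N.det = 1 := (g⁻¹ * x * g).1.2
  rw [Matrix.det_fin_three, n20, n21, n02, n12, n22] at hd
  have htr : (N 0 0 + N 1 1) * (N 0 0 - N 1 1) = 0 := by linear_combination e00 - e11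
  have hdiag : N 0 1 = 0 ∧ N 1 0 = 0 ∧ N 0 0 = N 1 1 ∧ N 0 0 ^ 2 = 1 := by
    by_cases h0 : N 0 0 + N 1 1 = 0
    · exfalso
      refine h2 ?_
      linear_combination -hd - e00 + N 0 0 * h0
    · have a : N 0 1 = 0 := (mul_eq_zero.1 (show (N 0 0 + N 1 1) * N 0 1 = 0 by
        linear_combination e01)).resolve_left h0
      have b : N 1 0 = 0 := (mul_eq_zero.1 (show (N 0 0 + N 1 1) * N 1 0 = 0 by
        linear_combination e10)).resolve_left h0
      refine ⟨a, b, sub_eq_zero.1 ((mul_eq_zero.1 htr).resolve_left h0), ?_⟩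
      rw [a] at e00
      linear_combination e00
  obtain ⟨a, b, c, e⟩ := hdiag
  rcases sq_eq_one_iff.1 e with e1 | e1
  · exfalso
    refine hx1 ?_
    have hN1 : g⁻¹ * x * g = 1 := suVal_ext (by
      show N = 1
      ext i j
      fin_cases i <;> fin_cases j <;> simp [n20, n21, n02, n12, n22, a, b, ← c, e1])
    rwa [mul_eq_one_iff_eq_inv, inv_mul_eq_iff_eq_mul, mul_inv_cancel] at hN1
  · let E : Unit1 F q := ⟨Pi.single 2 1, by rw [hermForm_single_right hF, Pi.single_eq_same]⟩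
    have hN1 : g⁻¹ * x * g = reflSU hF E := suVal_ext (by
      show N = refl q (Pi.single 2 1)
      rw [refl_single hF]
      ext i j
      fin_cases i <;> fin_cases j <;> simp [n20, n21, n02, n12, n22, a, b, ← c, e1])
    rw [← reflSU_map hF g E v hg.symm, ← hN1]
    group

/-- Counting involutions through their unit vectors. -/
theorem card_inv_mul (P : S → Prop) :
    Nat.card {x : S // (x ≠ 1 ∧ x * x = 1) ∧ P x} * (q + 1) =
      Nat.card {v : Unit1 F q // P (reflSU hF v)} := by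
  classical
  rw [← natCard_norm_eq hF (t := (1 : F)) (one_pow q) one_ne_zero, ← Nat.card_prod]
  choose rep hrep using fun x : {x : S // (x ≠ 1 ∧ x * x = 1) ∧ P x} => exists_unit hF h2 x.2.1.1 x.2.1.2
  let sm : ∀ (_ : {c : F // c ^ (q + 1) = 1}), Unit1 F q → Unit1 F q := fun c v => ⟨c.1 • v.1, by
    rw [h_smul_left, h_smul_right hF, v.2, mul_one, ← cj_pow hF, ← pow_succ', c.2]⟩
  have hsm : ∀ c v, reflSU hF (sm c v) = reflSU hF v := fun c v => (refl_eq_iff hF h2).2 ⟨c.1, c.2, rfl⟩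
  let f : {x : S // (x ≠ 1 ∧ x * x = 1) ∧ P x} × {c : F // c ^ (q + 1) = 1} →
      {v : Unit1 F q // P (reflSU hF v)} := fun xc =>
    ⟨sm xc.2 (rep xc.1), by rw [hsm, ← hrep]; exact xc.1.2.2⟩
  refine Nat.card_eq_of_bijective f ⟨?_, ?_⟩
  · rintro ⟨x, c⟩ ⟨x', c'⟩ e
    have e1 := congrArg Subtype.val e
    have e2 := congrArg (reflSU hF) e1
    simp only [f, hsm] at e2
    rw [← hrep, ← hrep] at e2
    obtain rfl : x = x' := Subtype.ext e2
    refine Prod.ext rfl (Subtype.ext ?_)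
    have e3 : c.1 • (rep x).1 = c'.1 • (rep x).1 := congrArg Subtype.val e1
    refine smul_left_injective F (fun h0 => ?_) e3
    have := (rep x).2
    rw [h0, h_zero_left] at this
    exact zero_ne_one this
  · rintro ⟨v, hv⟩
    let x : {x : S // (x ≠ 1 ∧ x * x = 1) ∧ P x} :=
      ⟨reflSU hF v, ⟨reflSU_ne_one hF h2 v, reflSU_mul_self hF v⟩, hv⟩
    obtain ⟨c, hc, e⟩ := (refl_eq_iff hF h2).1 (hrep x)
    exact ⟨(x, ⟨c, hc⟩), Subtype.ext (Subtype.ext e.symm)⟩

end

section Count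
variable (hF : Fintype.card F = q ^ 2) (h2 : (2 : F) ≠ 0)
include hF

theorem hermForm_three (u v : V) : h u v = u 0 * v 0 ^ q + u 1 * v 1 ^ q + u 2 * v 2 ^ q := by
  simp [hermForm, Fin.sum_univ_three]

/-- Moving a unit vector to the last coordinate. -/
noncomputable def moveEquiv (g : S) : Unit1 F q ≃ Unit1 F q where
  toFun w := ⟨suVal g *ᵥ w.1, by rw [su_h hF]; exact w.2⟩
  invFun w := ⟨suVal g⁻¹ *ᵥ w.1, by rw [su_h hF]; exact w.2⟩
  left_inv w := Subtype.ext (su_inv' hF g w.1)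
  right_inv w := Subtype.ext (su_inv hF g w.1)

theorem card_orth (v : Unit1 F q) :
    Nat.card {w : Unit1 F q // h v.1 w.1 = 0} = normCount 2 F q (1 : F) := by
  obtain ⟨g, hg⟩ := exists_move hF v.2
  have h1 : Nat.card {w : Unit1 F q // h v.1 w.1 = 0} = Nat.card {w : Unit1 F q // w.1 2 = 0} := by
    refine (Nat.card_congr ((moveEquiv hF g).subtypeEquiv fun w => ?_)).symm
    show w.1 2 = 0 ↔ h v.1 (suVal g *ᵥ w.1) = 0
    rw [← hg, su_h hF, ← cj_h hF w.1, hermForm_single_right hF, map_eq_zero]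
  have hq := two_le_q hF
  rw [h1, normCount]
  refine Nat.card_congr
    { toFun := fun w => ⟨![w.1.1 0, w.1.1 1], ?_⟩
      invFun := fun u => ⟨⟨![u.1 0, u.1 1, 0], ?_⟩, rfl⟩
      left_inv := fun w => Subtype.ext (Subtype.ext (funext fun i => by
        fin_cases i <;> simp [w.2]))
      right_inv := fun u => Subtype.ext (funext fun i => by fin_cases i <;> simp) }
  · have := w.1.2
    rw [hermForm_three hF, w.2, zero_mul, add_zero] at this
    simpa [hermForm, Fin.sum_univ_two] using this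
  · have := u.2
    rw [hermForm_three hF]
    simp only [hermForm, Fin.sum_univ_two] at this
    simp [this]

include h2

theorem card_far (v : Unit1 F q) :
    Nat.card {w : Unit1 F q // h v.1 w.1 ^ (q + 1) = 1 ∧ reflSU hF v ≠ reflSU hF w} =
      (q + 1) * (normCount 2 F q (0 : F) - 1) := by
  classical
  obtain ⟨g, hg⟩ := exists_move hF v.2
  have hq := two_le_q hF
  let E : Unit1 F q := ⟨Pi.single 2 1, by rw [hermForm_single_right hF, Pi.single_eq_same]⟩
  have h1 : Nat.card {w : Unit1 F q // h v.1 w.1 ^ (q + 1) = 1 ∧ reflSU hF v ≠ reflSU hF w} =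
      Nat.card {w : Unit1 F q // w.1 2 ^ (q + 1) = 1 ∧ ¬ (w.1 0 = 0 ∧ w.1 1 = 0)} := by
    refine (Nat.card_congr ((moveEquiv hF g).subtypeEquiv fun w => ?_)).symm
    show _ ↔ h v.1 (suVal g *ᵥ w.1) ^ (q + 1) = 1 ∧ reflSU hF v ≠ reflSU hF (moveEquiv hF g w)
    have hh : h v.1 (suVal g *ᵥ w.1) ^ (q + 1) = w.1 2 ^ (q + 1) := by
      rw [← hg, su_h hF, ← cj_h hF w.1, hermForm_single_right hF, qFrob_apply, ← pow_mul,
        show q * (q + 1) = q * q + q by ring, pow_add, ← sq, ← hF, FiniteField.pow_card, ← pow_succ']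
    rw [hh, ← reflSU_map hF g E v hg.symm, ← reflSU_map hF g w (moveEquiv hF g w) rfl]
    refine and_congr_right fun hw2 => not_congr ?_
    rw [mul_left_inj, mul_right_inj, eq_comm (a := reflSU hF E), refl_eq_iff hF h2]
    constructor
    · rintro ⟨a, b⟩
      refine ⟨w.1 2, hw2, funext fun i => ?_⟩
      fin_cases i <;> simp [E, a, b]
    · rintro ⟨c, -, hc⟩
      simp [hc, E]
  have h00 : hermForm 2 F q (0 : Fin 2 → F) 0 = 0 := by simp [hermForm]
  have hc : Nat.card {x : {u : Fin 2 → F // hermForm 2 F q u u = 0} // x ≠ ⟨0, h00⟩} = normCount 2 F q (0 : F) - 1 := by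
    rw [normCount, Nat.card_eq_fintype_card, Fintype.card_subtype_compl, Fintype.card_subtype_eq,
      Nat.card_eq_fintype_card]
  rw [h1, ← hc]
  refine Eq.trans ?_ (congrArg (· * _) (natCard_norm_eq hF (t := (1 : F)) (one_pow q) one_ne_zero))
  rw [← Nat.card_prod]
  refine Nat.card_congr
    { toFun := fun w => (⟨w.1.1 2, w.2.1⟩, ⟨⟨![w.1.1 0, w.1.1 1], ?_⟩, fun e => w.2.2 ?_⟩)
      invFun := fun x => ⟨⟨![x.2.1.1 0, x.2.1.1 1, x.1.1], ?_⟩, x.1.2, fun e => x.2.2 ?_⟩
      left_inv := fun w => Subtype.ext (Subtype.ext (funext fun i => by fin_cases i <;> simp))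
      right_inv := fun x => Prod.ext rfl (Subtype.ext (Subtype.ext (funext fun i => by fin_cases i <;> simp))) }
  · have := w.1.2
    rw [hermForm_three hF] at this
    have h3 := w.2.1
    rw [pow_succ'] at h3
    simp only [hermForm, Fin.sum_univ_two]
    simp
    linear_combination this - h3
  · have e' : ![w.1.1 0, w.1.1 1] = 0 := congrArg Subtype.val e
    exact ⟨by simpa using congrFun e' 0, by simpa using congrFun e' 1⟩
  · have := x.2.1.2
    simp only [hermForm, Fin.sum_univ_two] at this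
    have h3 := x.1.2
    rw [pow_succ'] at h3
    rw [hermForm_three hF]
    simp
    linear_combination this + h3
  · exact Subtype.ext (funext fun i => by
      fin_cases i
      · simpa using e.1
      · simpa using e.2)

/-- A third unit vector. -/
theorem exists_third {v w : Unit1 F q} (hvw : h v.1 w.1 = 0) :
    ∃ u : Unit1 F q, h u.1 v.1 = 0 ∧ h u.1 w.1 = 0 := by
  have hne : reflSU hF v ≠ reflSU hF w := fun e => by
    have h1 := eq_smul_of_refl_eq hF h2 e
    rw [hvw, zero_smul] at h1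
    have := v.2
    rw [h1, h_zero_left] at this
    exact zero_ne_one this
  have hc := (commute_iff hF h2).2 (Or.inl hvw)
  have hxx : ∀ z : Unit1 F q, reflSU hF z * reflSU hF z = 1 := reflSU_mul_self hF
  obtain ⟨u, hu⟩ := exists_unit hF h2 (x := reflSU hF v * reflSU hF w)
    (fun e => hne (mul_right_cancel (e.trans (hxx w).symm)))
    (by rw [mul_assoc, ← mul_assoc (reflSU hF w), ← hc.eq, mul_assoc, hxx, mul_one, hxx])
  refine ⟨u, ?_, ?_⟩
  · refine ((commute_iff hF h2).1 ?_).resolve_right fun e => ?_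
    · rw [← hu]; exact (Commute.refl _).mul_left hc.symm
    · rw [← e] at hu
      exact reflSU_ne_one hF h2 w (mul_left_cancel (a := reflSU hF u)
        (hu.trans (mul_one _).symm))
  · refine ((commute_iff hF h2).1 ?_).resolve_right fun e => ?_
    · rw [← hu]; exact hc.mul_left (Commute.refl _)
    · rw [← e] at hu
      exact reflSU_ne_one hF h2 v (mul_right_cancel (b := reflSU hF u)
        (hu.trans (one_mul _).symm))

/-- An orthonormal triple spans. -/
theorem eq_smul_of_orth {v w u : Unit1 F q} (hvw : h v.1 w.1 = 0) (huv : h u.1 v.1 = 0) (huw : h u.1 w.1 = 0)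
    {z : V} (hzv : h z v.1 = 0) (hzw : h z w.1 = 0) : z = h z u.1 • u.1 := by
  have hli : LinearIndependent F ![v.1, w.1, u.1] := by
    rw [Fintype.linearIndependent_iff]
    intro c hc
    simp [Fin.sum_univ_three] at hc
    have a := congrArg (fun x : V => hermForm 3 F q x v.1) hc
    have b := congrArg (fun x : V => hermForm 3 F q x w.1) hc
    have d := congrArg (fun x : V => hermForm 3 F q x u.1) hc
    simp only [h_add_left, h_smul_left, v.2, w.2, u.2, hvw, h_comm_zero hF hvw, huv, huw, h_comm_zero hF huv,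
      h_comm_zero hF huw, mul_one, mul_zero, add_zero, zero_add, h_zero_left] at a b d
    intro i; fin_cases i
    exacts [a, b, d]
  let bas := basisOfLinearIndependentOfCardEqFinrank hli (by simp)
  have hb : ∀ i, bas i = ![v.1, w.1, u.1] i := fun i => by simp [bas]
  have hz := bas.sum_repr z
  simp only [Fin.sum_univ_three, hb] at hz
  simp at hz
  have a := congrArg (fun x : V => hermForm 3 F q x v.1) hz
  have b := congrArg (fun x : V => hermForm 3 F q x w.1) hz
  have d := congrArg (fun x : V => hermForm 3 F q x u.1) hz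
  simp only [h_add_left, h_smul_left, v.2, w.2, u.2, hvw, h_comm_zero hF hvw, huv, huw, h_comm_zero hF huv,
    h_comm_zero hF huw, mul_one, mul_zero, add_zero, zero_add, hzv, hzw] at a b d
  conv_lhs => rw [← hz, a, b, zero_smul, zero_smul, zero_add, zero_add, d]

/-- A common neighbour exists unless the product has norm one. -/
theorem exists_common_iff (v w : Unit1 F q) (hne : reflSU hF v ≠ reflSU hF w) :
    (∃ u : Unit1 F q, h u.1 v.1 = 0 ∧ h u.1 w.1 = 0) ↔ h v.1 w.1 ^ (q + 1) ≠ 1 := by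
  set a := h w.1 v.1 with ha
  have hN : h v.1 w.1 ^ (q + 1) = a * qFrob hF a := by
    rw [pow_succ', cj_pow hF, cj_h hF, ha, cj_h hF, mul_comm]
  set w' := w.1 - a • v.1 with hw'
  have hw'v : h w' v.1 = 0 := by rw [hw', h_sub_left, h_smul_left, v.2, mul_one, ← ha, sub_self]
  have hnorm : h w' w' = 1 - a * qFrob hF a := by
    conv_lhs => arg 5; rw [hw']
    rw [h_sub_right hF, h_smul_right hF, hw'v, mul_zero, sub_zero, hw', h_sub_left, h_smul_left, w.2, ha,
      cj_h hF]
  constructor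
  · rintro ⟨u, huv, huw⟩ hone
    have huw' : h u.1 w' = 0 := by rw [hw', h_sub_right hF, h_smul_right hF, huv, huw, mul_zero, sub_zero]
    obtain ⟨t, htu, htv⟩ := exists_third hF h2 huv
    have e := eq_smul_of_orth hF h2 huv htu htv (h_comm_zero hF huw') hw'v
    have h0 : h w' t.1 * qFrob hF (h w' t.1) = 0 := by
      have := hnorm
      rw [← hN, hone, sub_self, e, h_smul_left, h_smul_right hF, t.2, mul_one] at this
      exact this
    have hz : h w' t.1 = 0 := (mul_eq_zero.1 h0).elim id fun x => (map_eq_zero _).1 x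
    rw [hz, zero_smul, hw', sub_eq_zero] at e
    refine hne ((refl_eq_iff hF h2).2 ⟨a, ?_, e⟩).symm
    rw [pow_succ', cj_pow hF, ← hN, hone]
  · intro hne1
    obtain ⟨s, hs⟩ := exists_norm hF (cj_h_self hF w')
    have hs0 : s ≠ 0 := fun h0 => hne1 (by
      rw [h0, zero_mul, hnorm] at hs
      rw [hN]; linear_combination hs)
    let w'' : Unit1 F q := ⟨s⁻¹ • w', by
      rw [h_smul_left, h_smul_right hF, ← hs, map_inv₀]
      have : qFrob hF s ≠ 0 := (map_ne_zero _).2 hs0
      field_simp⟩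
    have hw''v : h w''.1 v.1 = 0 := by rw [h_smul_left, hw'v, mul_zero]
    obtain ⟨u, hu, huv⟩ := exists_third hF h2 hw''v
    refine ⟨u, huv, ?_⟩
    have hww : w.1 = s • w''.1 + a • v.1 := by simp [w'', smul_smul, hs0, hw']
    rw [hww, h_add_right hF, h_smul_right hF s, h_smul_right hF a, hu, huv, mul_zero, mul_zero, add_zero]

/-- A neighbour of `v` has a common neighbour with `w`. -/
theorem exists_two_step (v w : Unit1 F q) :
    ∃ u : Unit1 F q, h u.1 v.1 = 0 ∧ h u.1 w.1 ^ (q + 1) ≠ 1 := by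
  by_cases hone : h v.1 w.1 ^ (q + 1) = 1
  · obtain ⟨g, hg⟩ := exists_move hF v.2
    have hEi : ∀ i : Fin 3, h (suVal g *ᵥ Pi.single i 1) (suVal g *ᵥ Pi.single i 1) = 1 := fun i => by
      rw [su_h hF, hermForm_single_right hF, Pi.single_eq_same]
    have hEv : ∀ i : Fin 3, i ≠ 2 → h (suVal g *ᵥ Pi.single i 1) v.1 = 0 := fun i hi => by
      rw [← hg, su_h hF, hermForm_single_right hF, Pi.single_eq_of_ne (Ne.symm hi)]
    set z := suVal g⁻¹ *ᵥ w.1 with hz
    have hcomp : ∀ i : Fin 3, h (suVal g *ᵥ Pi.single i 1) w.1 ^ (q + 1) = z i ^ (q + 1) := fun i => by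
      rw [← su_inv hF g w.1, su_h hF, ← hz, ← cj_h hF z, hermForm_single_right hF, qFrob_apply, ← pow_mul,
        show q * (q + 1) = q * q + q by ring, pow_add, ← sq, ← hF, FiniteField.pow_card, ← pow_succ']
    by_cases h0 : z 0 ^ (q + 1) = 1
    · refine ⟨⟨_, hEi 1⟩, hEv 1 (by decide), ?_⟩
      rw [hcomp]
      intro h1
      have hsum : h z z = 1 := by rw [hz, su_h hF]; exact w.2
      rw [hermForm_three hF, ← pow_succ', ← pow_succ', ← pow_succ', h0, h1] at hsum
      have h3 : z 2 ^ (q + 1) = 1 := by rw [← hcomp, hg]; exact hone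
      rw [h3] at hsum
      exact h2 (by linear_combination hsum)
    · exact ⟨⟨_, hEi 0⟩, hEv 0 (by decide), by rw [hcomp]; exact h0⟩
  · by_cases e : reflSU hF v = reflSU hF w
    · obtain ⟨c, hc, hvw⟩ := (refl_eq_iff hF h2).1 e
      refine absurd ?_ hone
      rw [hvw, h_smul_left, w.2, mul_one, hc]
    · obtain ⟨u, huv, huw⟩ := (exists_common_iff hF h2 v w e).2 hone
      exact ⟨u, huv, by rw [huw, zero_pow (by omega)]; exact zero_ne_one⟩

end Count

section Main
variable (hF : Fintype.card F = q ^ 2) (h2 : (2 : F) ≠ 0)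
include hF h2

theorem card_involutions : Nat.card {x : S // x ≠ 1 ∧ x * x = 1} = q ^ 2 * (q ^ 2 - q + 1) := by
  have h1 := card_inv_mul hF h2 (fun _ => True)
  rw [Nat.card_congr (Equiv.subtypeUnivEquiv (p := fun v : Unit1 F q => True) fun _ => trivial),
    Nat.card_congr ((Equiv.refl S).subtypeEquiv
      (q := fun x => (x ≠ 1 ∧ x * x = 1)) (p := fun x => (x ≠ 1 ∧ x * x = 1) ∧ True) fun x => by simp)] at h1
  have hN := normCount_one hF 3
  have hu : Nat.card (Unit1 F q) = normCount 3 F q (1 : F) := rfl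
  rw [← hu, ← h1] at hN
  have hq : q ≤ q ^ 2 := Nat.le_self_pow two_ne_zero q
  have hq2 := two_le_q hF
  have key : ((Nat.card {x : S // x ≠ 1 ∧ x * x = 1} : ℕ) : ℤ) = ((q ^ 2 * (q ^ 2 - q + 1) : ℕ) : ℤ) := by
    push_cast [hq] at hN ⊢
    refine mul_right_cancel₀ (b := ((q : ℤ) + 1) * q) (by positivity) ?_
    linear_combination hN
  exact_mod_cast key

theorem exists_conj {t x : S} (ht : t ≠ 1) (ht2 : t * t = 1) (hx : x ≠ 1) (hx2 : x * x = 1) :
    ∃ g : S, g * t * g⁻¹ = x := by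
  obtain ⟨v, rfl⟩ := exists_unit hF h2 ht ht2
  obtain ⟨w, rfl⟩ := exists_unit hF h2 hx hx2
  obtain ⟨g, hg⟩ := exists_move hF v.2
  obtain ⟨k, hk⟩ := exists_move hF w.2
  refine ⟨k * g⁻¹, reflSU_map hF _ _ _ ?_⟩
  rw [← hk, ← hg, suVal_mul, ← Matrix.mulVec_mulVec, su_inv' hF]

theorem card_centralizer {t : S} (ht : t ≠ 1) (ht2 : t * t = 1) :
    Nat.card (Subgroup.centralizer ({t} : Set S)) = q * (q + 1) * (q ^ 2 - 1) := by
  have hidx : (Subgroup.centralizer ({t} : Set S)).index = q ^ 2 * (q ^ 2 - q + 1) := by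
    rw [← card_involutions hF h2]
    have e : (Subgroup.centralizer ({t} : Set S)).index = Nat.card (MulAction.orbit (ConjAct S) t) := by
      rw [Nat.card_coe_set_eq, ← MulAction.index_stabilizer, ConjAct.stabilizer_eq_centralizer]
      rfl
    rw [e]
    refine Nat.card_congr ((Equiv.refl S).subtypeEquiv fun x => ?_)
    show x ∈ MulAction.orbit (ConjAct S) t ↔ x ≠ 1 ∧ x * x = 1
    rw [MulAction.mem_orbit_iff]
    constructor
    · rintro ⟨g, rfl⟩
      rw [ConjAct.smul_def]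
      exact ⟨fun e' => ht (conj_eq_one_iff.1 e'), by rw [conj_mul, ht2, mul_one, mul_inv_cancel]⟩
    · rintro ⟨hx, hx2⟩
      obtain ⟨g, hg⟩ := exists_conj hF h2 ht ht2 hx hx2
      exact ⟨ConjAct.toConjAct g, by rw [ConjAct.toConjAct_smul]; exact hg⟩
  have hm := Subgroup.card_mul_index (Subgroup.centralizer ({t} : Set S))
  rw [hidx] at hm
  have hGU := order_GU hF 3
  rw [natCard_GU_eq_SU hF (n := 3) (by norm_num), ← hm] at hGU
  simp only [Finset.prod_range_succ, Finset.range_zero, Finset.prod_empty, one_mul] at hGU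
  norm_num at hGU
  have hq : q ≤ q ^ 2 := Nat.le_self_pow two_ne_zero q
  have h1 : 1 ≤ q ^ 2 := by have := two_le_q hF; omega
  have key : ((Nat.card (Subgroup.centralizer ({t} : Set S)) : ℕ) : ℤ) = ((q * (q + 1) * (q ^ 2 - 1) : ℕ) : ℤ) := by
    push_cast [hq, h1] at hGU ⊢
    have hq0 : (2 : ℤ) ≤ q := by exact_mod_cast two_le_q hF
    refine mul_right_cancel₀ (b := ((q : ℤ) + 1) * ((q : ℤ) ^ 2 * ((q : ℤ) ^ 2 - q + 1))) ?_ ?_
    · have : (0 : ℤ) < (q : ℤ) ^ 2 - q + 1 := by nlinarith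
      positivity
    · linear_combination hGU
  exact_mod_cast key

theorem commute_refl_iff {v w : Unit1 F q} (hne : reflSU hF w ≠ reflSU hF v) :
    Commute (reflSU hF v) (reflSU hF w) ↔ h v.1 w.1 = 0 :=
  (commute_iff hF h2).trans (or_iff_left (Ne.symm hne))

theorem card_third {t x : S} (ht : t ≠ 1) (ht2 : t * t = 1) (hx : x ≠ 1) (hx2 : x * x = 1) (hxt : x ≠ t)
    (hc : Commute t x) :
    Nat.card {y : S // y ≠ 1 ∧ y * y = 1 ∧ y ≠ t ∧ y ≠ x ∧ Commute t y ∧ Commute x y} = 1 := by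
  obtain ⟨v, rfl⟩ := exists_unit hF h2 ht ht2
  obtain ⟨w, rfl⟩ := exists_unit hF h2 hx hx2
  have hvw := (commute_refl_iff hF h2 hxt).1 hc
  obtain ⟨u, huv, huw⟩ := exists_third hF h2 hvw
  have huv' : reflSU hF u ≠ reflSU hF v := fun e => by
    have h1 := eq_smul_of_refl_eq hF h2 e
    rw [huv, zero_smul] at h1
    have := u.2
    rw [h1, h_zero_left] at this
    exact zero_ne_one this
  have huw' : reflSU hF u ≠ reflSU hF w := fun e => by
    have h1 := eq_smul_of_refl_eq hF h2 e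
    rw [huw, zero_smul] at h1
    have := u.2
    rw [h1, h_zero_left] at this
    exact zero_ne_one this
  refine Nat.card_eq_one_iff_unique.2 ⟨⟨fun a b => Subtype.ext ?_⟩, ⟨reflSU hF u, reflSU_ne_one hF h2 u,
    reflSU_mul_self hF u, huv', huw', (commute_refl_iff hF h2 huv').2 (h_comm_zero hF huv),
    (commute_refl_iff hF h2 huw').2 (h_comm_zero hF huw)⟩⟩
  have key : ∀ y : S, y ≠ 1 → y * y = 1 → y ≠ reflSU hF v → y ≠ reflSU hF w →
      Commute (reflSU hF v) y → Commute (reflSU hF w) y → y = reflSU hF u := by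
    intro y hy hy2 hyv hyw cv cw
    obtain ⟨z, rfl⟩ := exists_unit hF h2 hy hy2
    have e := eq_smul_of_orth hF h2 hvw huv huw (h_comm_zero hF ((commute_refl_iff hF h2 hyv).1 cv))
      (h_comm_zero hF ((commute_refl_iff hF h2 hyw).1 cw))
    refine (refl_eq_iff hF h2).2 ⟨_, ?_, e⟩
    have := z.2
    rw [e, h_smul_left, h_smul_right hF, u.2, mul_one, ← cj_pow hF, ← pow_succ'] at this
    exact this
  obtain ⟨a1, a2, a3, a4, a5, a6⟩ := a.2
  obtain ⟨b1, b2, b3, b4, b5, b6⟩ := b.2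
  rw [key _ a1 a2 a3 a4 a5 a6, key _ b1 b2 b3 b4 b5 b6]

theorem card_near {t : S} (ht : t ≠ 1) (ht2 : t * t = 1) :
    Nat.card {x : S // x ≠ 1 ∧ x * x = 1 ∧ x ≠ t ∧ Commute t x} = q * (q - 1) := by
  obtain ⟨v, rfl⟩ := exists_unit hF h2 ht ht2
  have h1 := card_inv_mul hF h2 (fun x => x ≠ reflSU hF v ∧ Commute (reflSU hF v) x)
  have hpred : ∀ w : Unit1 F q,
      (reflSU hF w ≠ reflSU hF v ∧ Commute (reflSU hF v) (reflSU hF w)) ↔ h v.1 w.1 = 0 := by
    intro w
    refine ⟨fun hw => (commute_refl_iff hF h2 hw.1).1 hw.2, fun h0 => ?_⟩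
    have hne : reflSU hF w ≠ reflSU hF v := fun e => by
      have e1 := eq_smul_of_refl_eq hF h2 e
      rw [h_comm_zero hF h0, zero_smul] at e1
      have := w.2
      rw [e1, h_zero_left] at this
      exact zero_ne_one this
    exact ⟨hne, (commute_refl_iff hF h2 hne).2 h0⟩
  rw [Nat.card_congr (Equiv.subtypeEquivRight hpred), card_orth hF v] at h1
  rw [Nat.card_congr ((Equiv.refl S).subtypeEquiv (q := fun x => (x ≠ 1 ∧ x * x = 1) ∧ x ≠ reflSU hF v ∧
    Commute (reflSU hF v) x) fun x => by simp [and_assoc])]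
  have hN := normCount_one hF 2
  rw [← h1] at hN
  have hq2 := two_le_q hF
  set N := Nat.card {x : S // (x ≠ 1 ∧ x * x = 1) ∧ x ≠ reflSU hF v ∧ Commute (reflSU hF v) x}
  have key : ((N : ℕ) : ℤ) = ((q * (q - 1) : ℕ) : ℤ) := by
    push_cast [show 1 ≤ q by omega] at hN ⊢
    refine mul_right_cancel₀ (b := ((q : ℤ) + 1) * q) (by positivity) ?_
    linear_combination hN
  exact_mod_cast key

theorem common_iff {v w : Unit1 F q} (hne : reflSU hF w ≠ reflSU hF v)
    (hnc : ¬ Commute (reflSU hF v) (reflSU hF w)) :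
    (∃ y : S, y ≠ 1 ∧ y * y = 1 ∧ Commute (reflSU hF v) y ∧ Commute y (reflSU hF w)) ↔
      h v.1 w.1 ^ (q + 1) ≠ 1 := by
  rw [← exists_common_iff hF h2 v w (Ne.symm hne)]
  constructor
  · rintro ⟨y, hy, hy2, cv, cw⟩
    obtain ⟨u, rfl⟩ := exists_unit hF h2 hy hy2
    have a : reflSU hF u ≠ reflSU hF v := fun e => hnc (e ▸ cw)
    have b : reflSU hF w ≠ reflSU hF u := fun e => hnc (e.symm ▸ cv)
    exact ⟨u, h_comm_zero hF ((commute_refl_iff hF h2 a).1 cv), (commute_refl_iff hF h2 b).1 cw⟩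
  · rintro ⟨u, huv, huw⟩
    exact ⟨_, reflSU_ne_one hF h2 u, reflSU_mul_self hF u, (commute_iff hF h2).2 (Or.inl (h_comm_zero hF huv)),
      (commute_iff hF h2).2 (Or.inl huw)⟩

theorem card_far_inv {t : S} (ht : t ≠ 1) (ht2 : t * t = 1) :
    Nat.card {x : S // x ≠ 1 ∧ x * x = 1 ∧ ¬ Commute t x ∧
      ∀ y : S, y ≠ 1 → y * y = 1 → ¬ (Commute t y ∧ Commute y x)} = (q + 1) * (q ^ 2 - 1) := by
  obtain ⟨v, rfl⟩ := exists_unit hF h2 ht ht2
  have h1 := card_inv_mul hF h2 (fun x => ¬ Commute (reflSU hF v) x ∧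
      ∀ y : S, y ≠ 1 → y * y = 1 → ¬ (Commute (reflSU hF v) y ∧ Commute y x))
  have hpred : ∀ w : Unit1 F q, (¬ Commute (reflSU hF v) (reflSU hF w) ∧
      ∀ y : S, y ≠ 1 → y * y = 1 → ¬ (Commute (reflSU hF v) y ∧ Commute y (reflSU hF w))) ↔
      h v.1 w.1 ^ (q + 1) = 1 ∧ reflSU hF v ≠ reflSU hF w := by
    intro w
    constructor
    · rintro ⟨hnc, hy⟩
      have hne : reflSU hF w ≠ reflSU hF v := fun e => hnc (by rw [e])
      refine ⟨?_, Ne.symm hne⟩
      by_contra hone
      obtain ⟨y, a, b, c, d⟩ := (common_iff hF h2 hne hnc).2 hone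
      exact hy y a b ⟨c, d⟩
    · rintro ⟨hone, hne⟩
      have hnc : ¬ Commute (reflSU hF v) (reflSU hF w) := fun hc => by
        rw [(commute_refl_iff hF h2 (Ne.symm hne)).1 hc, zero_pow (Nat.succ_ne_zero q)] at hone
        exact zero_ne_one hone
      exact ⟨hnc, fun y a b c => (common_iff hF h2 (Ne.symm hne) hnc).1 ⟨y, a, b, c⟩ hone⟩
  rw [Nat.card_congr (Equiv.subtypeEquivRight hpred), card_far hF h2 v] at h1
  rw [Nat.card_congr ((Equiv.refl S).subtypeEquiv (q := fun x => (x ≠ 1 ∧ x * x = 1) ∧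
    ¬ Commute (reflSU hF v) x ∧
      ∀ y : S, y ≠ 1 → y * y = 1 → ¬ (Commute (reflSU hF v) y ∧ Commute y x)) fun x => by simp [and_assoc])]
  set N := Nat.card {x : S // (x ≠ 1 ∧ x * x = 1) ∧ ¬ Commute (reflSU hF v) x ∧
      ∀ y : S, y ≠ 1 → y * y = 1 → ¬ (Commute (reflSU hF v) y ∧ Commute y x)}
  have hN0 : N = normCount 2 F q (0 : F) - 1 :=
    Nat.eq_of_mul_eq_mul_left (Nat.succ_pos q) (by rw [mul_comm]; exact h1)
  have hN := normCount_zero hF 2
  have hpos : 1 ≤ normCount 2 F q (0 : F) := by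
    haveI : Nonempty {u : Fin 2 → F // hermForm 2 F q u u = 0} := ⟨⟨0, by simp [hermForm]⟩⟩
    exact Nat.card_pos
  rw [hN0]
  have hq2 := two_le_q hF
  have key : ((normCount 2 F q (0 : F) - 1 : ℕ) : ℤ) = (((q + 1) * (q ^ 2 - 1) : ℕ) : ℤ) := by
    push_cast [hpos, Nat.one_le_pow 2 q (by omega)]
    refine mul_right_cancel₀ (b := (q : ℤ)) (by positivity) ?_
    linear_combination hN
  exact_mod_cast key

theorem card_middle {t : S} (ht : t ≠ 1) (ht2 : t * t = 1) :
    Nat.card {x : S // x ≠ 1 ∧ x * x = 1 ∧ ¬ Commute t x ∧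
      ∃ y : S, y ≠ 1 ∧ y * y = 1 ∧ Commute t y ∧ Commute y x} = q * (q - 2) * (q ^ 2 - 1) := by
  classical
  let I : Finset S := Finset.univ.filter fun x => x ≠ 1 ∧ x * x = 1
  have hI : I.card = q ^ 2 * (q ^ 2 - q + 1) := by
    rw [← card_involutions hF h2, Nat.card_eq_fintype_card, Fintype.card_subtype]
  have hA : (I.filter fun x => Commute t x).card = q * (q - 1) + 1 := by
    have hn := card_near hF h2 ht ht2
    rw [Nat.card_eq_fintype_card, Fintype.card_subtype] at hn
    rw [← hn, ← Finset.card_insert_of_notMem (a := t) (by simp)]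
    congr 1
    ext x
    by_cases hxt : x = t
    · subst hxt; simp [I, ht, ht2]
    · simp [I, hxt, and_assoc]
  have hB : (I.filter fun x => ¬ Commute t x ∧
      ∀ y : S, y ≠ 1 → y * y = 1 → ¬ (Commute t y ∧ Commute y x)).card = (q + 1) * (q ^ 2 - 1) := by
    rw [← card_far_inv hF h2 ht ht2, Nat.card_eq_fintype_card, Fintype.card_subtype, Finset.filter_filter]
    simp only [and_assoc]
  have hC : Nat.card {x : S // x ≠ 1 ∧ x * x = 1 ∧ ¬ Commute t x ∧
      ∃ y : S, y ≠ 1 ∧ y * y = 1 ∧ Commute t y ∧ Commute y x} =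
      (I.filter fun x => ¬ Commute t x ∧ ∃ y : S, y ≠ 1 ∧ y * y = 1 ∧ Commute t y ∧ Commute y x).card := by
    rw [Nat.card_eq_fintype_card, Fintype.card_subtype, Finset.filter_filter]
    simp only [and_assoc]
  have hsplit := Finset.card_filter_add_card_filter_not (s := I) (fun x => Commute t x)
  have hsplit2 := Finset.card_filter_add_card_filter_not (s := I.filter fun x => ¬ Commute t x)
    (fun x => ∃ y : S, y ≠ 1 ∧ y * y = 1 ∧ Commute t y ∧ Commute y x)
  simp only [Finset.filter_filter] at hsplit2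
  have hB' : (I.filter fun x => ¬ Commute t x ∧
      ¬ ∃ y : S, y ≠ 1 ∧ y * y = 1 ∧ Commute t y ∧ Commute y x).card = (q + 1) * (q ^ 2 - 1) := by
    rw [← hB]
    congr 1
    ext x
    simp only [Finset.mem_filter, not_exists, not_and]
  rw [hB', ← hC] at hsplit2
  rw [hA, ← hsplit2, hI] at hsplit
  have hq2 := two_le_q hF
  have hq : q ≤ q ^ 2 := Nat.le_self_pow two_ne_zero q
  set C := Nat.card {x : S // x ≠ 1 ∧ x * x = 1 ∧ ¬ Commute t x ∧
      ∃ y : S, y ≠ 1 ∧ y * y = 1 ∧ Commute t y ∧ Commute y x}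
  have key : ((C : ℕ) : ℤ) = ((q * (q - 2) * (q ^ 2 - 1) : ℕ) : ℤ) := by
    have hz := congrArg (Nat.cast : ℕ → ℤ) hsplit
    push_cast [hq, hq2, show 1 ≤ q by omega, Nat.one_le_pow 2 q (by omega)] at hz ⊢
    linear_combination hz
  exact_mod_cast key

theorem exists_path {t x : S} (ht : t ≠ 1) (ht2 : t * t = 1) (hx : x ≠ 1) (hx2 : x * x = 1) :
    ∃ y z : S, y ≠ 1 ∧ y * y = 1 ∧ z ≠ 1 ∧ z * z = 1 ∧ Commute t y ∧ Commute y z ∧ Commute z x := by
  obtain ⟨v, rfl⟩ := exists_unit hF h2 ht ht2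
  obtain ⟨w, rfl⟩ := exists_unit hF h2 hx hx2
  obtain ⟨u, huv, huw⟩ := exists_two_step hF h2 v w
  have hc : Commute (reflSU hF v) (reflSU hF u) := (commute_iff hF h2).2 (Or.inl (h_comm_zero hF huv))
  by_cases e : reflSU hF u = reflSU hF w
  · exact ⟨reflSU hF u, reflSU hF u, reflSU_ne_one hF h2 u, reflSU_mul_self hF u, reflSU_ne_one hF h2 u,
      reflSU_mul_self hF u, hc, Commute.refl _, by rw [e]⟩
  · obtain ⟨z, hzu, hzw⟩ := (exists_common_iff hF h2 u w e).2 huw
    exact ⟨reflSU hF u, reflSU hF z, reflSU_ne_one hF h2 u, reflSU_mul_self hF u, reflSU_ne_one hF h2 z,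
      reflSU_mul_self hF z, hc, (commute_iff hF h2).2 (Or.inl (h_comm_zero hF hzu)),
      (commute_iff hF h2).2 (Or.inl hzw)⟩

end Main

end Cfsg.Agent.Lie.SUThreeInvolutions
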