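import Mathlib

/-!
The abelian normal subgroup in a short presentation of `SL₂(q)`: the conjugates of `u` by powers of
`a` commute as soon as two of them do, and then form a cyclic module over a polynomial ring.
-/

set_option autoImplicit false

namespace Cfsg.Agent.Lie.Sl2Pres

open Polynomial

variable {G : Type*} [Group G] {p : ℕ}

/-- `a ^ i * u * a ^ (-i)`. -/
def cj (a u : G) (i : ℕ) : G := a ^ i * u * (a ^ i)⁻¹

/-- The conjugates of `u` by powers of `a`, multiplied with the coefficients of `P` as exponents. -/
def pword (P : (ZMod p)[X]) (a u : G) : G :=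
  ((List.range (P.natDegree + 1)).map fun i => a ^ i * u ^ (P.coeff i).val * (a ^ i)⁻¹).prod

theorem map_pword {H : Type*} [Group H] (f : G →* H) (P : (ZMod p)[X]) (a u : G) :
    f (pword P a u) = pword P (f a) (f u) := by
  unfold pword
  rw [map_list_prod, List.map_map]
  congr 1
  refine List.map_congr_left fun i _ => ?_
  simp

theorem cj_zero (a u : G) : cj a u 0 = u := by simp [cj]

theorem cj_add (a u : G) (i k : ℕ) : cj a u (k + i) = a ^ k * cj a u i * (a ^ k)⁻¹ := by
  simp [cj, pow_add, mul_assoc]

theorem commute_cj_of_zero {a u : G} {m : ℕ} (h : Commute u (cj a u m)) (k : ℕ) :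
    Commute (cj a u k) (cj a u (k + m)) := by
  rw [cj_add a u m k]
  show Commute (a ^ k * u * (a ^ k)⁻¹) _
  exact (Commute.conj_iff (a ^ k)).2 h

/-- If `u` commutes with its conjugate by `a`, and some `b` commuting with `a` takes `u` to
`u * uᵃ`, then `u` commutes with all its conjugates by powers of `a`. -/
theorem commute_all_of_shift {a b u : G} (hab : Commute a b) (hb : b * u * b⁻¹ = u * cj a u 1)
    (h1 : Commute u (cj a u 1)) : ∀ m, Commute u (cj a u m) := by
  intro m
  induction m using Nat.strong_induction_on with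
  | _ m ih =>
    match m with
    | 0 => rw [cj_zero]
    | 1 => exact h1
    | m + 2 =>
      have hbc : ∀ i, b * cj a u i * b⁻¹ = cj a u i * cj a u (i + 1) := by
        intro i
        have e := hab.pow_left i
        calc b * cj a u i * b⁻¹ = (b * a ^ i) * u * (b * a ^ i)⁻¹ := by simp [cj, mul_assoc]
          _ = (a ^ i * b) * u * (a ^ i * b)⁻¹ := by rw [e.eq]
          _ = a ^ i * (b * u * b⁻¹) * (a ^ i)⁻¹ := by simp [mul_assoc]
          _ = a ^ i * (u * cj a u 1) * (a ^ i)⁻¹ := by rw [hb]
          _ = _ := by
            rw [cj_add a u 1 i]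
            simp [cj, mul_assoc]
      have h0 : Commute (u * cj a u 1) (cj a u (m + 1) * cj a u (m + 1 + 1)) := by
        have h := (Commute.conj_iff b).2 (ih (m + 1) (by omega))
        rw [hbc (m + 1)] at h
        rwa [hb] at h
      have c2 : Commute (cj a u 1) (cj a u (m + 1)) := by
        have := commute_cj_of_zero (ih m (by omega)) 1
        rwa [show 1 + m = m + 1 by omega] at this
      have c3 : Commute (cj a u 1) (cj a u (m + 2)) := by
        have := commute_cj_of_zero (ih (m + 1) (by omega)) 1
        rwa [show 1 + (m + 1) = m + 2 by omega] at this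
      have h2 := (((ih (m + 1) (by omega)).mul_left c2).inv_right).mul_right h0
      rw [inv_mul_cancel_left] at h2
      have h3 := h2.mul_left c3.inv_left
      rwa [mul_inv_cancel_right] at h3

/-- If `a ^ 2` inverts `u`, then commuting with one conjugate is enough. -/
theorem commute_all_of_sq {a u : G} (h2 : a ^ 2 * u * (a ^ 2)⁻¹ = u⁻¹) (h1 : Commute u (cj a u 1)) :
    ∀ m, Commute u (cj a u m) := by
  have key : ∀ k, cj a u (k + 2) = (cj a u k)⁻¹ := fun k => by
    rw [cj_add a u 2 k, show cj a u 2 = u⁻¹ from h2]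
    simp [cj, mul_assoc]
  intro m
  induction m using Nat.strong_induction_on with
  | _ m ih =>
    match m with
    | 0 => rw [cj_zero]
    | 1 => exact h1
    | m + 2 => rw [key]; exact (ih m (by omega)).inv_right

/-- The hypotheses making the conjugates of `u` an elementary abelian group. -/
def AbData (p : ℕ) (a u : G) : Prop := u ^ p = 1 ∧ ∀ m, Commute u (cj a u m)

variable [Fact p.Prime] {a u : G}

theorem AbData.commute (hd : AbData p a u) (i j : ℕ) : Commute (cj a u i) (cj a u j) := by
  rcases Nat.le_total i j with h | h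
  · have := commute_cj_of_zero (hd.2 (j - i)) i
    rwa [show i + (j - i) = j by omega] at this
  · have := commute_cj_of_zero (hd.2 (i - j)) j
    rw [show j + (i - j) = i by omega] at this
    exact this.symm

theorem AbData.pword_add (hd : AbData p a u) (P Q : (ZMod p)[X]) :
    pword (P + Q) a u = pword P a u * pword Q a u := by
  classical
  let S : Set G := Set.range (cj a u)
  let M := Subgroup.closure S
  have h1 : M ≤ Subgroup.centralizer S := by
    rw [Subgroup.closure_le]
    rintro _ ⟨i, rfl⟩
    rw [SetLike.mem_coe, Subgroup.mem_centralizer_iff]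
    rintro _ ⟨j, rfl⟩
    exact hd.commute j i
  have h2 : M ≤ Subgroup.centralizer (M : Set G) := by
    rw [Subgroup.closure_le]
    rintro x hx
    rw [SetLike.mem_coe, Subgroup.mem_centralizer_iff]
    intro y hy
    exact ((Subgroup.mem_centralizer_iff.1 (h1 hy)) x hx).symm
  letI : CommGroup M := { (inferInstance : Group M) with
    mul_comm := fun x y => Subtype.ext ((Subgroup.mem_centralizer_iff.1 (h2 y.2)) x.1 x.2) }
  let y : ℕ → M := fun i => ⟨cj a u i, Subgroup.subset_closure ⟨i, rfl⟩⟩
  have hy : ∀ i, y i ^ p = 1 := fun i => Subtype.ext (by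
    show (cj a u i) ^ p = 1
    rw [cj, conj_pow, hd.1, mul_one, mul_inv_cancel])
  have hval : ∀ (R : (ZMod p)[X]) N, R.natDegree < N →
      pword R a u = ((∏ i ∈ Finset.range N, y i ^ (R.coeff i).val : M) : G) := by
    intro R N hN
    have e : ∏ i ∈ Finset.range N, y i ^ (R.coeff i).val =
        ∏ i ∈ Finset.range (R.natDegree + 1), y i ^ (R.coeff i).val := by
      refine (Finset.prod_subset (Finset.range_mono hN) fun i _ hi => ?_).symm
      rw [Finset.mem_range, not_lt] at hi
      rw [Polynomial.coeff_eq_zero_of_natDegree_lt hi, ZMod.val_zero, pow_zero]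
    rw [e]
    unfold pword
    generalize R.natDegree + 1 = k
    induction k with
    | zero => simp
    | succ k ih =>
      rw [List.range_succ, List.map_append, List.prod_append, ih, Finset.prod_range_succ,
        Subgroup.coe_mul, SubgroupClass.coe_pow]
      simp [y, cj, conj_pow]
  let N := max (max P.natDegree Q.natDegree) (P + Q).natDegree + 1
  rw [hval (P + Q) N (by omega), hval P N (by omega), hval Q N (by omega), ← Subgroup.coe_mul,
    ← Finset.prod_mul_distrib]
  congr 1
  refine Finset.prod_congr rfl fun i _ => ?_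
  rw [Polynomial.coeff_add, ← pow_add, ZMod.val_add]
  exact (pow_eq_pow_mod _ (hy i)).symm

theorem AbData.pword_zero (hd : AbData p a u) : pword (0 : (ZMod p)[X]) a u = 1 := by
  have := hd.pword_add 0 0
  rw [add_zero] at this
  exact left_eq_mul.1 this

theorem AbData.pword_nsmul (hd : AbData p a u) (n : ℕ) (P : (ZMod p)[X]) :
    pword (n • P) a u = pword P a u ^ n := by
  induction n with
  | zero => rw [zero_smul, pow_zero, hd.pword_zero]
  | succ n ih => rw [succ_nsmul, hd.pword_add, ih, pow_succ]

theorem AbData.pword_neg (hd : AbData p a u) (P : (ZMod p)[X]) : pword (-P) a u = (pword P a u)⁻¹ := by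
  refine eq_inv_of_mul_eq_one_left ?_
  rw [← hd.pword_add, neg_add_cancel, hd.pword_zero]

theorem AbData.pword_sub (hd : AbData p a u) (P Q : (ZMod p)[X]) :
    pword (P - Q) a u = pword P a u * (pword Q a u)⁻¹ := by
  rw [sub_eq_add_neg, hd.pword_add, hd.pword_neg]

theorem pword_X_pow (a u : G) (m : ℕ) : pword ((X : (ZMod p)[X]) ^ m) a u = cj a u m := by
  unfold pword
  rw [natDegree_X_pow, List.range_succ, List.map_append, List.prod_append]
  rw [List.prod_eq_one (fun x hx => ?_)]
  · simp [cj, ZMod.val_one]
  · obtain ⟨i, hi, rfl⟩ := List.mem_map.1 hx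
    rw [List.mem_range] at hi
    rw [coeff_X_pow, if_neg (by omega), ZMod.val_zero]
    simp

theorem pword_one (a u : G) : pword (1 : (ZMod p)[X]) a u = u := by
  rw [← pow_zero (X : (ZMod p)[X]), pword_X_pow, cj_zero]

theorem AbData.pword_natCast (hd : AbData p a u) (n : ℕ) : pword ((n : (ZMod p)[X])) a u = u ^ n := by
  rw [← nsmul_one n, hd.pword_nsmul, pword_one]

/-- If `h` commutes with `a` and takes `u` to the word of `g`, then it multiplies all words by `g`. -/
theorem AbData.conj_pword (hd : AbData p a u) {h : G} (hha : Commute h a) {g : (ZMod p)[X]}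
    (hg : h * u * h⁻¹ = pword g a u) (P : (ZMod p)[X]) :
    h * pword P a u * h⁻¹ = pword (g * P) a u := by
  have hX : ∀ (m : ℕ) (Q : (ZMod p)[X]), a ^ m * pword Q a u * (a ^ m)⁻¹ = pword (X ^ m * Q) a u := by
    intro m Q
    induction Q using Polynomial.induction_on' with
    | add A B ihA ihB => rw [mul_add, hd.pword_add, hd.pword_add, ← ihA, ← ihB]; group
    | monomial i c =>
      have e : ∀ j, (monomial j c : (ZMod p)[X]) = c.val • (X : (ZMod p)[X]) ^ j := fun j => by
        rw [nsmul_eq_mul, ← C_eq_natCast, ZMod.natCast_zmod_val, C_mul_X_pow_eq_monomial]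
      rw [X_pow_mul_monomial, e, e, hd.pword_nsmul, hd.pword_nsmul, pword_X_pow, pword_X_pow,
        ← conj_pow, show i + m = m + i from add_comm _ _, cj_add]
  induction P using Polynomial.induction_on' with
  | add A B ihA ihB => rw [mul_add, hd.pword_add, hd.pword_add, ← ihA, ← ihB]; group
  | monomial i c =>
    rw [show (monomial i c : (ZMod p)[X]) = c.val • (X : (ZMod p)[X]) ^ i by
      rw [nsmul_eq_mul, ← C_eq_natCast, ZMod.natCast_zmod_val, C_mul_X_pow_eq_monomial],
      mul_smul_comm, hd.pword_nsmul, hd.pword_nsmul, ← conj_pow, pword_X_pow, mul_comm g, ← hX i g,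
      ← hg]
    congr 1
    calc h * cj a u i * h⁻¹ = (h * a ^ i) * u * (h * a ^ i)⁻¹ := by simp [cj, mul_assoc]
      _ = (a ^ i * h) * u * (a ^ i * h)⁻¹ := by rw [(hha.pow_right i).eq]
      _ = _ := by simp [mul_assoc]

theorem AbData.conj_a_pow (hd : AbData p a u) (m : ℕ) (P : (ZMod p)[X]) :
    a ^ m * pword P a u * (a ^ m)⁻¹ = pword (X ^ m * P) a u := by
  refine hd.conj_pword ((Commute.refl a).pow_left m) ?_ P
  rw [pword_X_pow]
  rfl

/-- The polynomials whose word is trivial form an ideal. -/
theorem AbData.pword_mul_eq_one (hd : AbData p a u) {P : (ZMod p)[X]} (h : pword P a u = 1)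
    (Q : (ZMod p)[X]) : pword (Q * P) a u = 1 := by
  induction Q using Polynomial.induction_on' with
  | add A B ihA ihB => rw [add_mul, hd.pword_add, ihA, ihB, one_mul]
  | monomial i c =>
    rw [show (monomial i c : (ZMod p)[X]) = c.val • (X : (ZMod p)[X]) ^ i by
      rw [nsmul_eq_mul, ← C_eq_natCast, ZMod.natCast_zmod_val, C_mul_X_pow_eq_monomial],
      smul_mul_assoc, hd.pword_nsmul, ← hd.conj_a_pow, h, mul_one, mul_inv_cancel, one_pow]

/-- If a generator of the ideal of polynomials vanishing at `s` has trivial word, then there is an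
additive map from the field sending the value at `s` to the word. -/
theorem AbData.exists_phi {F : Type*} [Field F] [Algebra (ZMod p) F] (hd : AbData p a u) {s : F}
    (hs : ∀ t : F, ∃ P : (ZMod p)[X], aeval s P = t) (hf : pword (minpoly (ZMod p) s) a u = 1) :
    ∃ φ : F → G, (∀ x y, φ (x + y) = φ x * φ y) ∧
      ∀ P : (ZMod p)[X], φ (aeval s P) = pword P a u := by
  choose P hP using hs
  have wd : ∀ Q : (ZMod p)[X], pword (P (aeval s Q)) a u = pword Q a u := by
    intro Q
    have h0 : aeval s (P (aeval s Q) - Q) = 0 := by rw [map_sub, hP, sub_self]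
    obtain ⟨R, hR⟩ := minpoly.dvd (ZMod p) s h0
    have h1 := hd.pword_mul_eq_one hf R
    rw [mul_comm, ← hR, hd.pword_sub] at h1
    exact mul_inv_eq_one.1 h1
  refine ⟨fun t => pword (P t) a u, fun x y => ?_, wd⟩
  show pword (P (x + y)) a u = pword (P x) a u * pword (P y) a u
  rw [← hd.pword_add, ← wd (P x + P y), map_add, hP, hP]

end Cfsg.Agent.Lie.Sl2Pres
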