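import Cfsg.Agent.Lib.Lie.Sl2Pres
import Cfsg.Agent.Lib.Lie.RegUnipTwoExists

/-! Short presentations of `SL₂(F)`: odd characteristic, and the choice of parameters. -/

set_option autoImplicit false
set_option linter.unusedSectionVars false

namespace Cfsg.Agent.Lie.Sl2Pres

open Matrix Polynomial Cfsg.Agent.Lie.RegUnip

variable {F : Type*} [Field F] [Fintype F] {p : ℕ} [Fact p.Prime] [Algebra (ZMod p) F]

theorem presents_odd {ω : Fˣ} (hgen : ∀ x : Fˣ, ∃ n : ℕ, x = ω ^ n) (hodd : Odd (Fintype.card F))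
    (i : ℕ) (E : Finset (FreeGroup (Fin 3))) (hEc : E.card ≤ 2)
    (hE : ∀ r ∈ E, FreeGroup.lift ![slU (1 : F), slW, slH ω] r = 1)
    (hEG : ∀ (G : Type) [Group G] (f : FreeGroup (Fin 3) →* G), (∀ r ∈ E, f r = 1) →
      ∀ m, Commute (f fu) (cj (f fh ^ i) (f fu) m))
    (hs : ∀ t : F, ∃ P : (ZMod p)[X], aeval (((ω ^ i : Fˣ) : F) ^ 2) P = t) :
    ∃ rels : Finset (FreeGroup (Fin 3)), rels.card ≤ 8 ∧ Presents rels ω := by
  classical
  haveI : CharP F p := charP_of_injective_algebraMap (algebraMap (ZMod p) F).injective p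
  obtain ⟨k, hk⟩ := hodd
  have hN : orderOf ω = 2 * k := by
    have h1 : orderOf ω = Nat.card Fˣ :=
      orderOf_eq_card_of_forall_mem_zpowers fun x => by
        obtain ⟨n, rfl⟩ := hgen x
        exact Subgroup.mem_zpowers_iff.2 ⟨n, zpow_natCast ω n⟩
    rw [h1, Nat.card_units, Nat.card_eq_fintype_card]
    omega
  have hk0 : 0 < k := by have := orderOf_pos ω; omega
  have hneg : ω ^ k = -1 := by
    have h1 : (ω ^ k) * (ω ^ k) = 1 := by rw [← pow_add, ← two_mul, ← hN, pow_orderOf_eq_one]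
    have h2 : ω ^ k ≠ 1 := fun e => by
      have := Nat.le_of_dvd hk0 (orderOf_dvd_of_pow_eq_one e)
      omega
    refine Units.ext ?_
    have h3 : ((ω ^ k : Fˣ) : F) * ((ω ^ k : Fˣ) : F) = 1 := by rw [← Units.val_mul, h1, Units.val_one]
    rcases mul_self_eq_one_iff.1 h3 with e | e
    · exact absurd (Units.ext e) h2
    · rw [e]; simp
  set σ : Fˣ := ω ^ i with hσdef
  set s := (σ : F) ^ 2 with hsdef
  obtain ⟨P₁, hP₁⟩ := hs (ω : F)
  obtain ⟨P₂, hP₂⟩ := hs (-(ω : F)⁻¹)
  obtain ⟨G₀, hG₀⟩ := hs ((ω : F) ^ 2)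
  set f := minpoly (ZMod p) s with hf
  obtain ⟨cof, hcof⟩ : f ∣ (X ^ Fintype.card F - X : (ZMod p)[X]) := minpoly.dvd _ _ (by
    rw [map_sub, map_pow, aeval_X, FiniteField.pow_card, sub_self])
  have hsep : (X ^ Fintype.card F - X : (ZMod p)[X]).Separable :=
    galois_poly_separable p _ (by
      rw [← CharP.cast_eq_zero_iff F p, Nat.cast_card_eq_zero])
  rw [hcof] at hsep
  obtain ⟨a', b', hab⟩ := hsep.isCoprime
  set g := G₀ * (b' * cof) with hgdef
  have hgs : aeval s g = (ω : F) ^ 2 := by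
    have e : aeval s (b' * cof) = 1 := by
      have := congrArg (aeval s) hab
      rwa [map_add, map_mul, minpoly.aeval, mul_zero, zero_add, map_one] at this
    rw [hgdef, map_mul, e, hG₀, mul_one]
  let fa : FreeGroup (Fin 3) := fh ^ i
  let rels : Finset (FreeGroup (Fin 3)) := E ∪ {fu ^ p, fh * fu * fh⁻¹ * (pword g fa fu)⁻¹,
    fw * fh * fw⁻¹ * fh, fw * fw * (fh ^ k)⁻¹, fw * fu * fw⁻¹ * (fu⁻¹ * fw * fu⁻¹)⁻¹,
    fw * pword P₁ fa fu * fw⁻¹ * (pword P₂ fa fu * fh ^ (2 * k - 1) * fw * pword P₂ fa fu)⁻¹}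
  refine ⟨rels, ?_, ?_⟩
  · refine le_trans (Finset.card_union_le _ _) (Nat.add_le_add hEc (?_ : _ ≤ 6))
    refine le_trans (Finset.card_insert_le _ _) (Nat.succ_le_succ ?_)
    refine le_trans (Finset.card_insert_le _ _) (Nat.succ_le_succ ?_)
    refine le_trans (Finset.card_insert_le _ _) (Nat.succ_le_succ ?_)
    refine le_trans (Finset.card_insert_le _ _) (Nat.succ_le_succ ?_)
    exact le_trans (Finset.card_insert_le _ _) (Nat.succ_le_succ (Finset.card_singleton _).le)
  have eu : FreeGroup.lift ![slU (1 : F), slW, slH ω] fu = slU 1 := by simp [fu]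
  have ew : FreeGroup.lift ![slU (1 : F), slW, slH ω] fw = slW := by simp [fw]
  have eh : FreeGroup.lift ![slU (1 : F), slW, slH ω] fh = slH ω := by simp [fh]
  have ea : FreeGroup.lift ![slU (1 : F), slW, slH ω] fa = slH σ := by rw [map_pow, eh, slH_pow]
  have hev : ∀ r ∈ (rels : Set (FreeGroup (Fin 3))), FreeGroup.lift ![slU (1 : F), slW, slH ω] r = 1 := by
    intro r hr
    simp only [rels, Finset.coe_union, Finset.coe_insert, Finset.coe_singleton, Set.mem_union,
      Set.mem_insert_iff, Set.mem_singleton_iff, Finset.mem_coe] at hr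
    rcases hr with hr | rfl | rfl | rfl | rfl | rfl | rfl
    · exact hE r hr
    · rw [map_pow, eu, slU_pow, CharP.cast_eq_zero, zero_mul, slU_zero]
    · rw [map_mul, map_mul, map_mul, map_inv, map_inv, map_pword, eu, eh, ea, pword_slU σ hsdef, hgs,
        slH_conj, mul_one, mul_inv_cancel]
    · simp only [map_mul, map_inv, ew, eh]
      rw [mul_eq_one_iff_eq_inv, slH_inv, mul_inv_eq_iff_eq_mul]
      refine Subtype.ext ?_
      show (slW : SpecialLinearGroup (Fin 2) F).val * (slH ω).val =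
        (slH ω⁻¹).val * (slW : SpecialLinearGroup (Fin 2) F).val
      simp [slW, slH]
    · simp only [map_mul, map_inv, map_pow, ew, eh, mul_inv_eq_one, slH_pow, hneg]
      refine Subtype.ext ?_
      show (slW : SpecialLinearGroup (Fin 2) F).val * (slW : SpecialLinearGroup (Fin 2) F).val =
        (slH (-1)).val
      simp [slW, slH]
    · simp only [map_mul, map_inv, ew, eu, mul_inv_eq_one, slU_inv]
      rw [mul_inv_eq_iff_eq_mul]
      refine Subtype.ext ?_
      show (slW : SpecialLinearGroup (Fin 2) F).val * (slU (1 : F)).val =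
        (slU (-1 : F)).val * (slW : SpecialLinearGroup (Fin 2) F).val * (slU (-1 : F)).val *
          (slW : SpecialLinearGroup (Fin 2) F).val
      simp [slW, slU]
    · simp only [map_mul, map_inv, map_pow, map_pword, ew, eu, eh, ea, mul_inv_eq_one,
        pword_slU σ hsdef, hP₁, hP₂]
      rw [show slH ω ^ (2 * k - 1) = slH ω⁻¹ from by
        rw [slH_pow, eq_inv_of_mul_eq_one_left (show ω ^ (2 * k - 1) * ω = 1 by
          rw [← pow_succ, show 2 * k - 1 + 1 = orderOf ω by omega, pow_orderOf_eq_one])],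
        mul_inv_eq_iff_eq_mul]
      refine Subtype.ext ?_
      show (slW : SpecialLinearGroup (Fin 2) F).val * (slU (ω : F)).val =
        (slU (-(ω : F)⁻¹)).val * (slH ω⁻¹).val * (slW : SpecialLinearGroup (Fin 2) F).val *
          (slU (-(ω : F)⁻¹)).val * (slW : SpecialLinearGroup (Fin 2) F).val
      simp [slW, slU, slH, ω.ne_zero]
  refine ⟨hev, ?_⟩
  let mk := PresentedGroup.mk (rels : Set (FreeGroup (Fin 3)))
  set u := mk fu with hu'
  set w := mk fw with hw'
  set h := mk fh with hh'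
  set a := mk fa with ha'
  have hah : a = h ^ i := map_pow _ _ _
  have hone : ∀ r ∈ rels, mk r = 1 := fun r hr => PresentedGroup.one_of_mem (Finset.mem_coe.2 hr)
  have hup : u ^ p = 1 := by
    have := hone (fu ^ p) (by simp [rels])
    rwa [map_pow] at this
  have hgu : h * u * h⁻¹ = pword g a u := by
    have := hone (fh * fu * fh⁻¹ * (pword g fa fu)⁻¹) (by simp [rels])
    rwa [map_mul, map_inv, mul_inv_eq_one, map_mul, map_mul, map_inv, map_pword] at this
  have hinv : w * h * w⁻¹ = h⁻¹ := by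
    have := hone (fw * fh * fw⁻¹ * fh) (by simp [rels])
    rw [map_mul, map_mul, map_mul, map_inv] at this
    exact eq_inv_of_mul_eq_one_left this
  have hww : w * w = h ^ k := by
    have := hone (fw * fw * (fh ^ k)⁻¹) (by simp [rels])
    rwa [map_mul, map_inv, mul_inv_eq_one, map_mul, map_pow] at this
  have hB1 : w * u * w⁻¹ = u⁻¹ * w * u⁻¹ := by
    have := hone (fw * fu * fw⁻¹ * (fu⁻¹ * fw * fu⁻¹)⁻¹) (by simp [rels])
    rwa [map_mul, map_inv, mul_inv_eq_one, map_mul, map_mul, map_mul, map_mul, map_inv, map_inv] at this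
  have hB2 : w * pword P₁ a u * w⁻¹ = pword P₂ a u * h ^ (2 * k - 1) * w * pword P₂ a u := by
    have := hone (fw * pword P₁ fa fu * fw⁻¹ *
      (pword P₂ fa fu * fh ^ (2 * k - 1) * fw * pword P₂ fa fu)⁻¹) (by simp [rels])
    rwa [map_mul, map_inv, mul_inv_eq_one, map_mul, map_mul, map_mul, map_mul, map_mul, map_inv,
      map_pow, map_pword, map_pword] at this
  have hd : AbData p a u := ⟨hup, fun m => by
    rw [hah]
    exact hEG _ mk (fun r hr => hone r (Finset.mem_union_left _ hr)) m⟩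
  have hN1 : h ^ orderOf ω = 1 := by
    have e1 : w * h ^ k * w⁻¹ = h ^ k := by rw [← hww]; group
    rw [← conj_pow, hinv, inv_pow] at e1
    rw [hN, two_mul, pow_add]
    exact inv_eq_iff_mul_eq_one.1 e1
  have hha : Commute h a := by rw [hah]; exact (Commute.refl h).pow_right i
  have hf1 : pword f a u = 1 := by
    have hgpow : ∀ n, h ^ n * u * (h ^ n)⁻¹ = pword (g ^ n) a u := by
      intro n
      induction n with
      | zero => rw [pow_zero, pow_zero, pword_one]; simp
      | succ n ih =>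
        rw [pow_succ', pow_succ', ← hd.conj_pword hha hgu, ← ih]
        group
    have hgN : pword (g ^ orderOf ω - 1) a u = 1 := by
      rw [hd.pword_sub, ← hgpow, hN1, pword_one]; simp
    have hXq : pword (X ^ Fintype.card F - X : (ZMod p)[X]) a u = 1 := by
      have haN : a ^ orderOf ω = 1 := by rw [hah, ← pow_mul, mul_comm, pow_mul, hN1, one_pow]
      have e : pword ((X : (ZMod p)[X]) ^ orderOf ω - 1) a u = 1 := by
        rw [hd.pword_sub, pword_X_pow, pword_one, cj, haN]; simp
      have := hd.pword_mul_eq_one e X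
      rwa [mul_sub, mul_one, ← pow_succ', show orderOf ω + 1 = Fintype.card F by omega] at this
    obtain ⟨n, hn⟩ : ∃ n, orderOf ω = n + 1 := ⟨orderOf ω - 1, by omega⟩
    have key : f = -f * (g ^ orderOf ω - 1) + (g ^ n * G₀ * b') * (X ^ Fintype.card F - X) := by
      rw [hcof, hn, pow_succ, hgdef]; ring
    rw [key, hd.pword_add, hd.pword_mul_eq_one hgN, hd.pword_mul_eq_one hXq, one_mul]
  exact bijective_of_module _ (a := a) (σ := σ) (closure_mk _) eu ew eh ea hsdef hd hs hf1 hha hgs hgu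
    hgen hN1 hinv ⟨k, hww⟩ ⟨0, by rw [pow_zero, mul_one]; exact hB1⟩
    (Or.inl ⟨P₁, P₂, 2 * k - 1, hP₁, hP₂, hB2⟩)

theorem exists_aeval_of_generates {s : F} (h : ∀ M : Subfield F, s ∈ M → M = ⊤) (t : F) :
    ∃ P : (ZMod p)[X], aeval s P = t := by
  classical
  let S : Subalgebra (ZMod p) F := (aeval (R := ZMod p) s).range
  let M : Subfield F := { S.toSubring with
    inv_mem' := fun x hx => by
      rcases eq_or_ne x 0 with rfl | hx0
      · rw [_root_.inv_zero]; exact S.zero_mem
      · have e : x⁻¹ = x ^ (Fintype.card F - 2) := by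
          refine inv_eq_of_mul_eq_one_right ?_
          rw [← pow_succ', show Fintype.card F - 2 + 1 = Fintype.card F - 1 by
            have := Fintype.one_lt_card (α := F); omega]
          exact FiniteField.pow_card_sub_one_eq_one x hx0
        rw [e]; exact S.pow_mem hx _ }
  have hM := h M (show s ∈ S from ⟨X, aeval_X s⟩)
  have ht : t ∈ M := by rw [hM]; trivial
  exact ht

theorem card_filter_pow_eq_le {n : ℕ} (hn : 1 < n) [DecidableEq F] :
    (Finset.univ.filter fun c : F => c ^ n = c).card ≤ n := by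
  have hp : (X ^ n - X : F[X]) ≠ 0 := FiniteField.X_pow_card_sub_X_ne_zero F hn
  refine le_trans (Polynomial.card_le_degree_of_subset_roots fun c hc => ?_)
    (FiniteField.X_pow_card_sub_X_natDegree_eq F hn).le
  rw [Polynomial.mem_roots hp, Polynomial.IsRoot, Polynomial.eval_sub, Polynomial.eval_pow,
    Polynomial.eval_X, (Finset.mem_filter.1 hc).2, sub_self]

theorem sum_pow_le {p h : ℕ} (hp : 3 ≤ p) : 2 * ∑ d ∈ Finset.Icc 1 h, p ^ d ≤ 3 * p ^ h := by
  induction h with
  | zero => simp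
  | succ h ih =>
    rw [Finset.sum_Icc_succ_top (by omega), mul_add, pow_succ]
    nlinarith [Nat.one_le_pow h p (by omega)]

/-- Outside small fields there are `r, z` with `z ^ 2 = 1 + r ^ 2` and `r ^ 2` generating `F`. -/
theorem exists_pythagorean (h2 : (2 : F) ≠ 0) (hnp : ¬ (Fintype.card F).Prime)
    (h9 : Fintype.card F ≠ 9) :
    ∃ r z : F, r ≠ 0 ∧ z ≠ 0 ∧ z ^ 2 = 1 + r ^ 2 ∧ ∀ M : Subfield F, r ^ 2 ∈ M → M = ⊤ := by
  classical
  obtain ⟨p, hpc⟩ := CharP.exists F
  obtain ⟨k, hp, hk⟩ := FiniteField.card F p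
  have hp3 : 3 ≤ p := by
    have := hp.two_le
    rcases Nat.lt_or_ge 2 p with h | h
    · omega
    · exfalso
      obtain rfl : p = 2 := by omega
      exact h2 (by exact_mod_cast CharP.cast_eq_zero F 2)
  have hk2 : 2 ≤ (k : ℕ) := by
    by_contra h
    have : (k : ℕ) = 1 := by have := k.pos; omega
    rw [this, pow_one] at hk
    exact hnp (hk ▸ hp)
  have hbot : (⊥ : Subfield F) ≠ ⊤ := by
    intro e
    have h1 : (Finset.univ.filter fun c : F => c ^ p = c) = Finset.univ := by
      refine Finset.filter_true_of_mem fun c _ => ?_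
      haveI := Fact.mk hp
      exact (Subfield.mem_bot_iff_pow_eq_self F p).1 (by rw [e]; trivial)
    have := card_filter_pow_eq_le (F := F) hp.one_lt
    rw [h1, Finset.card_univ, hk] at this
    have := Nat.pow_le_pow_right hp.pos hk2
    nlinarith [pow_two p]
  set h := (k : ℕ) / 2 with hh
  let T : Finset F := (Finset.Icc 1 h).biUnion fun d => Finset.univ.filter fun c : F => c ^ (p ^ d) = c
  have hT : T.card ≤ ∑ d ∈ Finset.Icc 1 h, p ^ d := by
    refine le_trans Finset.card_biUnion_le (Finset.sum_le_sum fun d hd => card_filter_pow_eq_le ?_)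
    exact Nat.one_lt_pow (by have := (Finset.mem_Icc.1 hd).1; omega) hp.one_lt
  let R : F → F := fun x => ((x - x⁻¹) / 2) ^ 2
  suffices hx : ∃ x : F, x ≠ 0 ∧ R x ∉ T by
    obtain ⟨x, hx0, hxT⟩ := hx
    have hgen : ∀ M : Subfield F, R x ∈ M → M = ⊤ := by
      intro M hM
      by_contra hne
      refine hxT ?_
      haveI : Fintype M := Fintype.ofFinite M
      haveI : CharP M p := (RingHom.charP_iff M.subtype M.subtype.injective p).2 hpc
      obtain ⟨d, -, hd⟩ := FiniteField.card M p
      have hle := natCard_subfield_sq_le hne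
      rw [Nat.card_eq_fintype_card, Nat.card_eq_fintype_card, hd, hk, ← pow_mul] at hle
      have := (Nat.pow_le_pow_iff_right hp.one_lt).1 hle
      refine Finset.mem_biUnion.2 ⟨d, Finset.mem_Icc.2 ⟨d.pos, by omega⟩, Finset.mem_filter.2 ⟨Finset.mem_univ _, ?_⟩⟩
      have e := subfield_pow_natCard hM
      rwa [Nat.card_eq_fintype_card, hd] at e
    have hz : ((x + x⁻¹) / 2) ^ 2 = 1 + R x := by
      show _ = 1 + ((x - x⁻¹) / 2) ^ 2
      field_simp
      ring
    refine ⟨(x - x⁻¹) / 2, (x + x⁻¹) / 2, fun e => hbot (hgen ⊥ ?_), fun e => hbot (hgen ⊥ ?_), hz, hgen⟩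
    · show ((x - x⁻¹) / 2) ^ 2 ∈ (⊥ : Subfield F)
      rw [e]; simp
    · rw [e, zero_pow two_ne_zero] at hz
      rw [show R x = -1 by linear_combination -hz]
      exact (⊥ : Subfield F).neg_mem (⊥ : Subfield F).one_mem
  by_contra hall
  push Not at hall
  have hfib : ∀ c ∈ T, ((Finset.univ.erase (0 : F)).filter fun x => R x = c).card ≤ 4 := by
    intro c _
    let P : F[X] := X ^ 4 - C (2 + 4 * c) * X ^ 2 + 1
    have hdeg : P.natDegree = 4 := by simp only [P]; compute_degree!
    refine le_trans (Polynomial.card_le_degree_of_subset_roots fun x hx => ?_) hdeg.le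
    simp only [Finset.mem_val, Finset.mem_filter, Finset.mem_erase] at hx
    obtain ⟨⟨hx0, -⟩, hxc⟩ := hx
    rw [Polynomial.mem_roots (fun e => by rw [e, natDegree_zero] at hdeg; omega)]
    subst hxc
    show eval x P = 0
    simp only [P, R, eval_add, eval_sub, eval_pow, eval_mul, eval_X, eval_C, eval_one]
    field_simp
    ring
  have hmain := Finset.card_le_mul_card_image_of_maps_to (f := R) (s := Finset.univ.erase (0 : F))
    (t := T) (fun x hx => hall x (Finset.mem_erase.1 hx).1) 4 hfib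
  rw [Finset.card_erase_of_mem (Finset.mem_univ _), Finset.card_univ, hk] at hmain
  have hS := sum_pow_le (h := h) hp3
  have hq : p ^ (2 * h) ≤ p ^ (k : ℕ) := Nat.pow_le_pow_right hp.pos (by omega)
  have hb : p ^ (k : ℕ) ≤ 6 * p ^ h + 1 := by omega
  have hP : 0 < p ^ h := Nat.pow_pos hp.pos
  rw [two_mul, pow_add] at hq
  rcases (show h = 1 ∨ 2 ≤ h by omega) with h1 | h1
  · rw [h1, Finset.Icc_self, Finset.sum_singleton, pow_one] at hT
    rcases (show (k : ℕ) = 2 ∨ (k : ℕ) = 3 by omega) with hk' | hk'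
    · rw [hk'] at hmain hk
      rcases (show p = 3 ∨ p = 4 ∨ 5 ≤ p by omega) with rfl | rfl | h5
      · exact h9 (by rw [hk]; norm_num)
      · exact absurd hp (by norm_num)
      · rw [pow_two] at hmain; have := Nat.mul_le_mul_right p h5; omega
    · rw [hk', pow_succ, pow_two] at hmain
      have := Nat.mul_le_mul (Nat.mul_le_mul hp3 hp3) (le_refl p)
      omega
  · have h9' : 9 ≤ p ^ h := le_trans (by nlinarith [pow_two p]) (Nat.pow_le_pow_right hp.pos h1)
    nlinarith

end Cfsg.Agent.Lie.Sl2Pres
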