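import Cfsg.Agent.Lib.Lie.Sl2PresOdd
import Cfsg.Agent.Lib.Lie.SteinbergSL

/-!
Steinberg's relations of `SL₃(F)` from a short list: a torus element, the cyclic permutation and one
commutator relation for each of the two orbits of root triples.
-/

set_option autoImplicit false
set_option linter.unusedSectionVars false

namespace Cfsg.Agent.Lie.Sl3Pres

open scoped commutatorElement

variable {F : Type*} [Field F] [Fintype F] {G : Type*} [Group G]

/-- The basic data. -/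
structure Core (ω : Fˣ) (h c : G) (φ : F → G) : Prop where
  c3 : c * c * c = 1
  prod : h * (c * h * c⁻¹) * (c * c * h * (c * c)⁻¹) = 1
  add : ∀ x y, φ (x + y) = φ x * φ y
  conjh : ∀ t, h * φ t * h⁻¹ = φ ((ω : F) ^ 2 * t)
  conja : ∀ t, c * c * h * (c * c)⁻¹ * φ t * (c * c * h * (c * c)⁻¹)⁻¹ = φ ((ω : F)⁻¹ * t)

variable {ω : Fˣ} {h c : G} {φ : F → G}

/-- `g` multiplies the first two positive root groups by `α` and `β`. -/
def Scales (c : G) (φ : F → G) (g : G) (α β : F) : Prop :=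
  (∀ t, g * φ t * g⁻¹ = φ (α * t)) ∧
    ∀ t, g * (c * φ t * c⁻¹) * g⁻¹ = c * φ (β * t) * c⁻¹

/-- The commutator defining the third root group. -/
def Z (c : G) (φ : F → G) (s t : F) : G := ⁅φ s, c * φ t * c⁻¹⁆

theorem Scales.mul {g g' : G} {α β α' β' : F} (hg : Scales c φ g α β) (hg' : Scales c φ g' α' β') :
    Scales c φ (g * g') (α * α') (β * β') := by
  constructor
  · intro t
    rw [show g * g' * φ t * (g * g')⁻¹ = g * (g' * φ t * g'⁻¹) * g⁻¹ by group, hg'.1, hg.1, mul_assoc α]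
  · intro t
    rw [show g * g' * (c * φ t * c⁻¹) * (g * g')⁻¹ = g * (g' * (c * φ t * c⁻¹) * g'⁻¹) * g⁻¹ by group,
      hg'.2, hg.2, mul_assoc β]

theorem Scales.one : Scales c φ 1 1 1 := by constructor <;> intro t <;> simp

theorem Scales.inv {g : G} {α β : F} (hg : Scales c φ g α β) (hα : α ≠ 0) (hβ : β ≠ 0) :
    Scales c φ g⁻¹ α⁻¹ β⁻¹ := by
  constructor
  · intro t
    have := hg.1 (α⁻¹ * t)
    rw [← mul_assoc, mul_inv_cancel₀ hα, one_mul] at this
    rw [← this]; group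
  · intro t
    have := hg.2 (β⁻¹ * t)
    rw [← mul_assoc β, mul_inv_cancel₀ hβ, one_mul] at this
    rw [← this]; group

theorem Scales.pow {g : G} {α β : F} (hg : Scales c φ g α β) (n : ℕ) :
    Scales c φ (g ^ n) (α ^ n) (β ^ n) := by
  induction n with
  | zero => simpa using Scales.one
  | succ n ih => simpa only [pow_succ] using ih.mul hg

theorem Scales.conj_Z {g : G} {α β : F} (hg : Scales c φ g α β) (s t : F) :
    g * Z c φ s t * g⁻¹ = Z c φ (α * s) (β * t) := by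
  rw [Z, Z, ← hg.1, ← hg.2, commutatorElement_def, commutatorElement_def]
  group

namespace Core

variable (d : Core ω h c φ)
include d

theorem φ_zero : φ 0 = 1 := by
  have := d.add 0 0
  rw [add_zero] at this
  exact left_eq_mul.1 this

theorem φ_neg (t : F) : φ (-t) = (φ t)⁻¹ :=
  eq_inv_of_mul_eq_one_left (by rw [← d.add, neg_add_cancel, d.φ_zero])

theorem c_inv : c⁻¹ = c * c := inv_eq_of_mul_eq_one_right (by rw [← mul_assoc]; exact d.c3)

theorem scales_h : Scales c φ h ((ω : F) ^ 2) (ω : F)⁻¹ := by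
  refine ⟨d.conjh, fun t => ?_⟩
  have e : c⁻¹ * h * c = c * c * h * (c * c)⁻¹ := by
    rw [show (c * c)⁻¹ = c by rw [← d.c_inv, inv_inv], d.c_inv]
  rw [show h * (c * φ t * c⁻¹) * h⁻¹ = c * ((c⁻¹ * h * c) * φ t * (c⁻¹ * h * c)⁻¹) * c⁻¹ by group,
    e, d.conja]

theorem scales_h₂ : Scales c φ (c * h * c⁻¹) (ω : F)⁻¹ ((ω : F) ^ 2) := by
  have hω := ω.ne_zero
  refine ⟨fun t => ?_, fun t => ?_⟩
  · have e : c * h * c⁻¹ = h⁻¹ * (c * c * h * (c * c)⁻¹)⁻¹ := by
      calc c * h * c⁻¹ = h⁻¹ * (h * (c * h * c⁻¹) * (c * c * h * (c * c)⁻¹)) *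
            (c * c * h * (c * c)⁻¹)⁻¹ := by group
        _ = _ := by rw [d.prod, mul_one]
    have h1 : ∀ t, (c * c * h * (c * c)⁻¹)⁻¹ * φ t * (c * c * h * (c * c)⁻¹) = φ ((ω : F) * t) := by
      intro t
      have := d.conja ((ω : F) * t)
      rw [← mul_assoc (ω : F)⁻¹, inv_mul_cancel₀ hω, one_mul] at this
      rw [← this]; group
    have h2 : ∀ t, h⁻¹ * φ t * h = φ (((ω : F) ^ 2)⁻¹ * t) := by
      intro t
      have := d.conjh (((ω : F) ^ 2)⁻¹ * t)
      rw [← mul_assoc, mul_inv_cancel₀ (pow_ne_zero 2 hω), one_mul] at this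
      rw [← this]; group
    have e2 : ∀ A : G, h⁻¹ * A⁻¹ * φ t * (h⁻¹ * A⁻¹)⁻¹ = h⁻¹ * (A⁻¹ * φ t * A) * h := fun A => by group
    rw [e, e2, h1, h2, ← mul_assoc]
    congr 1
    field_simp
  · rw [← d.conjh]; group

theorem scales_a : Scales c φ (c * c * h * (c * c)⁻¹) (ω : F)⁻¹ (ω : F)⁻¹ := by
  refine ⟨d.conja, fun t => ?_⟩
  rw [← d.scales_h₂.1]
  group

theorem scales_cube_fst : ∃ g : G, Scales c φ g ((ω : F) ^ 3) 1 := by
  have hω := ω.ne_zero
  have := d.scales_h.mul (d.scales_a.inv (inv_ne_zero hω) (inv_ne_zero hω))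
  rw [inv_inv, inv_mul_cancel₀ hω, ← pow_succ] at this
  exact ⟨_, this⟩

theorem scales_cube_snd : ∃ g : G, Scales c φ g 1 ((ω : F) ^ 3) := by
  have hω := ω.ne_zero
  have := d.scales_h₂.mul (d.scales_a.inv (inv_ne_zero hω) (inv_ne_zero hω))
  rw [inv_inv, inv_mul_cancel₀ hω, ← pow_succ] at this
  exact ⟨_, this⟩

theorem scales_diag : ∃ g : G, Scales c φ g (ω : F) (ω : F) := by
  have hω := ω.ne_zero
  have := d.scales_a.inv (inv_ne_zero hω) (inv_ne_zero hω)
  rw [inv_inv] at this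
  exact ⟨_, this⟩

end Core

/-- The centraliser of the first two root groups. -/
def cen (c : G) (φ : F → G) : Subgroup G :=
  Subgroup.centralizer (Set.range φ ∪ Set.range fun t => c * φ t * c⁻¹)

theorem mem_cen {x : G} :
    x ∈ cen c φ ↔ ∀ t, Commute (φ t) x ∧ Commute (c * φ t * c⁻¹) x := by
  rw [cen, Subgroup.mem_centralizer_iff]
  constructor
  · exact fun hx t => ⟨hx _ (Or.inl ⟨t, rfl⟩), hx _ (Or.inr ⟨t, rfl⟩)⟩
  · rintro hx _ (⟨t, rfl⟩ | ⟨t, rfl⟩)
    exacts [(hx t).1, (hx t).2]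

theorem Scales.conj_mem_cen {g : G} {α β : F} (hg : Scales c φ g α β) (hα : α ≠ 0) (hβ : β ≠ 0)
    {x : G} (hx : x ∈ cen c φ) : g * x * g⁻¹ ∈ cen c φ := by
  rw [mem_cen] at hx ⊢
  intro t
  constructor
  · rw [show φ t = g * φ (α⁻¹ * t) * g⁻¹ by rw [hg.1, ← mul_assoc, mul_inv_cancel₀ hα, one_mul]]
    exact (Commute.conj_iff g).2 (hx _).1
  · rw [show c * φ t * c⁻¹ = g * (c * φ (β⁻¹ * t) * c⁻¹) * g⁻¹ by
      rw [hg.2, ← mul_assoc β, mul_inv_cancel₀ hβ, one_mul]]
    exact (Commute.conj_iff g).2 (hx _).2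

section Bilinear

variable (d : Core ω h c φ)
include d

theorem Z_add_left {s₁ s₂ t : F} (h₂ : Z c φ s₂ t ∈ cen c φ) :
    Z c φ (s₁ + s₂) t = Z c φ s₂ t * Z c φ s₁ t := by
  have e := ((mem_cen.1 h₂) s₁).1
  calc Z c φ (s₁ + s₂) t = (φ s₁ * Z c φ s₂ t) * (φ s₁)⁻¹ * Z c φ s₁ t := by
        simp only [Z, commutatorElement_def, d.add]; group
    _ = _ := by rw [e.eq]; group

theorem Z_add_right {s t₁ t₂ : F} (h₂ : Z c φ s t₂ ∈ cen c φ) :
    Z c φ s (t₁ + t₂) = Z c φ s t₁ * Z c φ s t₂ := by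
  have e := ((mem_cen.1 h₂) t₁).2
  calc Z c φ s (t₁ + t₂) = Z c φ s t₁ * ((c * φ t₁ * c⁻¹) * Z c φ s t₂) * (c * φ t₁ * c⁻¹)⁻¹ := by
        simp only [Z, commutatorElement_def, d.add]; group
    _ = _ := by rw [e.eq]; group

theorem commute_cen {x : G} (hx : x ∈ cen c φ) (s t : F) : Commute (Z c φ s t) x :=
  ((((mem_cen.1 hx) s).1.mul_left ((mem_cen.1 hx) t).2).mul_left ((mem_cen.1 hx) s).1.inv_left).mul_left
    ((mem_cen.1 hx) t).2.inv_left

theorem Z_zero_left (t : F) : Z c φ 0 t = 1 := by simp [Z, d.φ_zero]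

theorem Z_zero_right (s : F) : Z c φ s 0 = 1 := by simp [Z, d.φ_zero]

end Bilinear

/-- An additively closed predicate containing a set that spans holds everywhere. -/
theorem all_of_span {K : Set F} (hK : AddSubgroup.closure K = ⊤) {P : F → Prop} (h0 : P 0)
    (hadd : ∀ x y, P x → P y → P (x + y)) (hmem : ∀ x ∈ K, P x) (x : F) : P x := by
  obtain ⟨q, hq⟩ := CharP.exists F
  haveI := hq
  have hq0 : q ≠ 0 := fun e => by
    subst e
    haveI := CharP.charP_to_charZero F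
    exact not_finite F
  have hx : x ∈ AddSubgroup.closure K := hK ▸ AddSubgroup.mem_top x
  induction hx using AddSubgroup.closure_induction with
  | mem y hy => exact hmem y hy
  | zero => exact h0
  | add y z _ _ hy hz => exact hadd y z hy hz
  | neg y _ hy =>
    have e : ((q - 1 : ℕ) : F) = -1 := by
      rw [Nat.cast_sub (Nat.one_le_iff_ne_zero.2 hq0), CharP.cast_eq_zero, Nat.cast_one, zero_sub]
    have : ∀ n : ℕ, P ((n : F) * y) := fun n => by
      induction n with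
      | zero => simpa using h0
      | succ n ih => rw [Nat.cast_succ, add_mul, one_mul]; exact hadd _ _ ih hy
    have := this (q - 1)
    rwa [e, neg_one_mul] at this

/-- The commutators of the first two root groups are a bilinear image of multiplication. -/
structure Heis (c : G) (φ : F → G) : Prop where
  cent : ∀ s t, Z c φ s t ∈ cen c φ
  swap : ∀ k s t, Z c φ (k * s) t = Z c φ s (k * t)

/-- The case where the cubes span `F`. -/
theorem heis_general (d : Core ω h c φ)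
    (hspan : AddSubgroup.closure (Set.range fun n : ℕ => ((ω : F) ^ 3) ^ n) = ⊤)
    (hneg : (2 : F) ≠ 0 → ∃ n : ℕ, ((ω : F) ^ 3) ^ n = -1)
    (hu : Commute (φ 1) (Z c φ 1 1))
    (hτ : Commute (h * (c * h * c⁻¹)⁻¹) (Z c φ 1 1)) : Heis c φ := by
  have hω := ω.ne_zero
  set τ := h * (c * h * c⁻¹)⁻¹
  have hτs : Scales c φ τ ((ω : F) ^ 3) ((ω : F) ^ 3)⁻¹ := by
    have := d.scales_h.mul (d.scales_h₂.inv (inv_ne_zero hω) (pow_ne_zero 2 hω))
    rw [inv_inv, ← pow_succ, ← mul_inv, ← pow_succ'] at this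
    exact this
  have hz : ∀ n : ℕ, Z c φ (((ω : F) ^ 3) ^ n) (((ω : F) ^ 3)⁻¹ ^ n) = Z c φ 1 1 := fun n => by
    have := (hτs.pow n).conj_Z 1 1
    rw [mul_one, mul_one, (hτ.pow_left n).eq, mul_inv_cancel_right] at this
    exact this.symm
  have hv : Commute (c * φ 1 * c⁻¹) (Z c φ 1 1) := by
    set z := Z c φ 1 1 with hzdef
    set U := φ 1
    set V := c * φ 1 * c⁻¹
    have hz' : z = U * V * U⁻¹ * V⁻¹ := by rw [hzdef, Z, commutatorElement_def]
    have hu' : U * z = z * U := hu.eq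
    have key : U⁻¹ * V⁻¹ * U * V = z → Commute V z := by
      intro e
      have e1 : (U⁻¹ * V⁻¹) * z * (U⁻¹ * V⁻¹)⁻¹ = z := by
        conv_rhs => rw [← e]
        rw [hz']; group
      have e2 : z * U⁻¹ = U⁻¹ * z := (Commute.inv_left hu).eq.symm
      have e3 : U⁻¹ * (V⁻¹ * z * V) = U⁻¹ * z := by
        rw [← e2]
        calc U⁻¹ * (V⁻¹ * z * V) = U⁻¹ * V⁻¹ * z * (U⁻¹ * V⁻¹)⁻¹ * U⁻¹ := by group
          _ = z * U⁻¹ := by rw [e1]
      have e4 := mul_left_cancel e3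
      show V * z = z * V
      calc V * z = V * (V⁻¹ * z * V) := by rw [e4]
        _ = z * V := by group
    by_cases h2 : (2 : F) = 0
    · have hinv : ∀ t : F, (φ t)⁻¹ = φ t := fun t => by
        rw [← d.φ_neg]; congr 1; linear_combination -t * h2
      refine key ?_
      have hU : U⁻¹ = U := hinv 1
      have hV : V⁻¹ = V := by simp only [V, mul_inv_rev, inv_inv, hinv, mul_assoc]
      rw [hz', hU, hV]
    · obtain ⟨n, hn⟩ := hneg h2
      have e := hz n
      rw [inv_pow, hn, inv_neg, inv_one] at e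
      refine key ?_
      rw [← e, Z, commutatorElement_def, d.φ_neg]
      simp only [U, V]
      group
  have hzc : Z c φ 1 1 ∈ cen c φ := by
    rw [mem_cen]
    intro t
    refine ⟨all_of_span hspan (P := fun t => Commute (φ t) _) (by simp [d.φ_zero]) ?_ ?_ t,
      all_of_span hspan (P := fun t => Commute (c * φ t * c⁻¹) _) (by simp [d.φ_zero]) ?_ ?_ t⟩
    · intro x y hx hy; rw [d.add]; exact hx.mul_left hy
    · rintro _ ⟨n, rfl⟩
      have := (Commute.conj_iff (τ ^ n)).2 hu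
      rwa [(hτs.pow n).1, mul_one, (hτ.pow_left n).eq, mul_inv_cancel_right] at this
    · intro x y hx hy
      rw [d.add, show c * (φ x * φ y) * c⁻¹ = (c * φ x * c⁻¹) * (c * φ y * c⁻¹) by group]
      exact hx.mul_left hy
    · rintro _ ⟨n, rfl⟩
      have hτi := hτs.inv (pow_ne_zero 3 hω) (inv_ne_zero (pow_ne_zero 3 hω))
      rw [inv_inv] at hτi
      have := (Commute.conj_iff (τ⁻¹ ^ n)).2 hv
      rwa [(hτi.pow n).2, mul_one, ((hτ.inv_left).pow_left n).eq, mul_inv_cancel_right] at this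
  obtain ⟨g₁, hg₁⟩ := d.scales_cube_fst
  obtain ⟨g₂, hg₂⟩ := d.scales_cube_snd
  have h3 := pow_ne_zero 3 hω
  have hcen : ∀ s t, Z c φ s t ∈ cen c φ := by
    refine fun s => all_of_span hspan (P := fun s => ∀ t, Z c φ s t ∈ cen c φ)
      (fun t => by rw [Z_zero_left d]; exact one_mem _)
      (fun x y hx hy t => by rw [Z_add_left d (hy t)]; exact mul_mem (hy t) (hx t)) ?_ s
    rintro _ ⟨m, rfl⟩
    refine all_of_span hspan (P := fun t => Z c φ _ t ∈ cen c φ)
      (by rw [Z_zero_right d]; exact one_mem _)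
      (fun x y hx hy => by rw [Z_add_right d hy]; exact mul_mem hx hy) ?_
    rintro _ ⟨n, rfl⟩
    have hs := (hg₁.pow m).mul (hg₂.pow n)
    rw [one_pow, one_pow, mul_one, one_mul] at hs
    have := hs.conj_Z 1 1
    rw [mul_one, mul_one] at this
    rw [← this]
    exact hs.conj_mem_cen (pow_ne_zero _ h3) (pow_ne_zero _ h3) hzc
  refine ⟨hcen, ?_⟩
  refine all_of_span hspan (P := fun k => ∀ s t, Z c φ (k * s) t = Z c φ s (k * t))
    (fun s t => by rw [zero_mul, zero_mul, Z_zero_left d, Z_zero_right d]) ?_ ?_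
  · intro x y hx hy s t
    rw [add_mul, add_mul, Z_add_left d (hcen _ _), Z_add_right d (hcen _ _), hx, hy]
    exact Commute.eq (commute_cen d (hcen s (x * t)) s (y * t))
  · rintro _ ⟨k, rfl⟩
    refine all_of_span hspan (P := fun s => ∀ t, Z c φ (_ * s) t = Z c φ s (_ * t))
      (fun t => by rw [mul_zero, Z_zero_left d, Z_zero_left d]) ?_ ?_
    · intro x y hx hy t
      rw [mul_add, Z_add_left d (hcen _ _), Z_add_left d (hcen _ _), hx, hy]
    rintro _ ⟨m, rfl⟩
    refine all_of_span hspan (P := fun t => Z c φ _ t = Z c φ _ (_ * t))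
      (by rw [mul_zero, Z_zero_right d, Z_zero_right d]) ?_ ?_
    · intro x y hx hy
      rw [mul_add, Z_add_right d (hcen _ _), Z_add_right d (hcen _ _), hx, hy]
    rintro _ ⟨n, rfl⟩
    have hs := (hg₁.pow m).mul (hg₂.pow (k + n))
    rw [one_pow, one_pow, mul_one, one_mul] at hs
    have h1 := congrArg (fun x => (g₁ ^ m * g₂ ^ (k + n)) * x * (g₁ ^ m * g₂ ^ (k + n))⁻¹) (hz k)
    simp only [hs.conj_Z, mul_one] at h1
    convert h1 using 2
    · rw [mul_comm]
    · rw [pow_add, inv_pow, mul_assoc, mul_left_comm, mul_inv_cancel₀ (pow_ne_zero _ h3), mul_one]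
    · rw [pow_add]

/-- The field with four elements. -/
theorem heis_four (d : Core ω h c φ) (h2 : (2 : F) = 0) (hω2 : (ω : F) * (ω : F) = 1 + (ω : F))
    (hspan : AddSubgroup.closure ({1, (ω : F)} : Set F) = ⊤)
    (hu : Commute (φ 1) (Z c φ 1 1))
    (hW : Z c φ (ω : F) 1 = Z c φ 1 1 * Z c φ (ω : F) (ω : F))
    (hW' : Z c φ 1 (ω : F) = Z c φ 1 1 * Z c φ (ω : F) (ω : F)) : Heis c φ := by
  have hinv : ∀ t : F, (φ t)⁻¹ = φ t := fun t => by
    rw [← d.φ_neg]; congr 1; linear_combination -t * h2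
  have hsq : ∀ t : F, φ t * φ t = 1 := fun t => by nth_rw 2 [← hinv t]; rw [mul_inv_cancel]
  have hinvv : ∀ t : F, (c * φ t * c⁻¹)⁻¹ = c * φ t * c⁻¹ := fun t => by
    simp only [mul_inv_rev, inv_inv, hinv, mul_assoc]
  -- the two generators invert their commutator
  have hsqv : ∀ t : F, c * φ t * c⁻¹ * (c * φ t * c⁻¹) = 1 := fun t => by
    nth_rw 2 [← hinvv t]; rw [mul_inv_cancel]
  have inv_comm : ∀ x y : G, x⁻¹ = x → y⁻¹ = y →
      x * ⁅x, y⁆ * x = ⁅x, y⁆⁻¹ ∧ y * ⁅x, y⁆ * y = ⁅x, y⁆⁻¹ := by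
    intro x y hx hy
    have hx2 : x * x = 1 := by nth_rw 2 [← hx]; rw [mul_inv_cancel]
    have hy2 : y * y = 1 := by nth_rw 2 [← hy]; rw [mul_inv_cancel]
    simp only [commutatorElement_def, hx, hy, mul_inv_rev]
    constructor
    · simp only [← mul_assoc, hx2, one_mul]
    · simp only [mul_assoc, hy2, mul_one]
  have il : ∀ s t, φ s * Z c φ s t * φ s = (Z c φ s t)⁻¹ :=
    fun s t => (inv_comm _ _ (hinv s) (hinvv t)).1
  have ir : ∀ s t, c * φ t * c⁻¹ * Z c φ s t * (c * φ t * c⁻¹) = (Z c φ s t)⁻¹ :=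
    fun s t => (inv_comm _ _ (hinv s) (hinvv t)).2
  have cl : ∀ s x, φ s * x * φ s = x → Commute (φ s) x := fun s x e => by
    show φ s * x = x * φ s
    nth_rw 2 [← e]
    simp only [mul_assoc, hsq, mul_one]
  have cr : ∀ t x, c * φ t * c⁻¹ * x * (c * φ t * c⁻¹) = x → Commute (c * φ t * c⁻¹) x := fun t x e => by
    show _ * x = x * _
    nth_rw 2 [← e]
    rw [mul_assoc (c * φ t * c⁻¹ * x), hsqv, mul_one]
  have cl' : ∀ s x, Commute (φ s) x → φ s * x * φ s = x := fun s x e => by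
    rw [e.eq, mul_assoc, hsq, mul_one]
  have cr' : ∀ t x, Commute (c * φ t * c⁻¹) x → c * φ t * c⁻¹ * x * (c * φ t * c⁻¹) = x :=
    fun t x e => by rw [e.eq, mul_assoc, hsqv, mul_one]
  obtain ⟨g, hg⟩ := d.scales_diag
  set D₀ := Z c φ 1 1 with hD₀
  set D₁ := Z c φ (ω : F) (ω : F) with hD₁
  have hgD : g * D₀ * g⁻¹ = D₁ := by rw [hD₀, hg.conj_Z, mul_one]
  have i0 : D₀⁻¹ = D₀ := by rw [hD₀, ← il, cl' _ _ hu]
  have v10 : Commute (c * φ 1 * c⁻¹) D₀ := cr _ _ (by rw [hD₀, ir, i0])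
  have u21 : Commute (φ (ω : F)) D₁ := by
    have := (Commute.conj_iff g).2 hu
    rwa [hg.1, mul_one, hgD] at this
  have v21 : Commute (c * φ (ω : F) * c⁻¹) D₁ := by
    have := (Commute.conj_iff g).2 v10
    rwa [hg.2, mul_one, hgD] at this
  have i1 : D₁⁻¹ = D₁ := by
    have := congrArg (fun x => g * x * g⁻¹) i0
    simp only [← conj_inv, hgD] at this
    exact this
  -- the commutator of `1 + ω` and `1`
  have hu1W : φ 1 * (D₀ * D₁) * φ 1 = D₁ * D₀ := by
    rw [← hW', il, hW', mul_inv_rev, i0, i1]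
  have hZ : Z c φ (1 + (ω : F)) 1 = D₁ := by
    have e : Z c φ (1 + (ω : F)) 1 = φ 1 * Z c φ (ω : F) 1 * (φ 1)⁻¹ * Z c φ 1 1 := by
      simp only [Z, commutatorElement_def, d.add]; group
    rw [e, hW, hinv, hu1W, mul_assoc, ← hD₀]
    nth_rw 2 [← i0]
    rw [mul_inv_cancel, mul_one]
  have v11 : Commute (c * φ 1 * c⁻¹) D₁ := cr _ _ (by nth_rw 1 [← hZ]; rw [ir, hZ, i1])
  have hDD : Commute D₀ D₁ := by
    have e := ir (ω : F) 1
    rw [hW, cr' _ _ (v10.mul_right v11), mul_inv_rev, i0, i1] at e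
    exact e
  have iW : (D₀ * D₁)⁻¹ = D₀ * D₁ := by rw [mul_inv_rev, i0, i1, hDD.eq]
  have u11 : Commute (φ 1) D₁ := by
    have := hu.inv_right.mul_right (cl 1 _ (hu1W.trans hDD.eq.symm))
    rwa [inv_mul_cancel_left] at this
  have u20 : Commute (φ (ω : F)) D₀ := by
    have := (cl (ω : F) (D₀ * D₁) (by rw [← hW, il, hW, iW])).mul_right u21.inv_right
    rwa [mul_inv_cancel_right] at this
  have v20 : Commute (c * φ (ω : F) * c⁻¹) D₀ := by
    have := (cr (ω : F) (D₀ * D₁) (by rw [← hW', ir, hW', iW])).mul_right v21.inv_right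
    rwa [mul_inv_cancel_right] at this
  have mem : ∀ x, Commute (φ 1) x → Commute (φ (ω : F)) x → Commute (c * φ 1 * c⁻¹) x →
      Commute (c * φ (ω : F) * c⁻¹) x → x ∈ cen c φ := by
    intro x a1 a2 b1 b2
    rw [mem_cen]
    intro t
    refine all_of_span hspan (P := fun t => Commute (φ t) x ∧ Commute (c * φ t * c⁻¹) x)
      (by simp [d.φ_zero]) ?_ ?_ t
    · intro a b ha hb
      rw [d.add, show c * (φ a * φ b) * c⁻¹ = (c * φ a * c⁻¹) * (c * φ b * c⁻¹) by group]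
      exact ⟨ha.1.mul_left hb.1, ha.2.mul_left hb.2⟩
    · rintro a (rfl | rfl)
      exacts [⟨a1, b1⟩, ⟨a2, b2⟩]
  have m0 : D₀ ∈ cen c φ := mem _ hu u20 v10 v20
  have m1 : D₁ ∈ cen c φ := mem _ u11 u21 v11 v21
  have hbase : ∀ s ∈ ({1, (ω : F)} : Set F), ∀ t ∈ ({1, (ω : F)} : Set F), Z c φ s t ∈ cen c φ := by
    rintro s (rfl | rfl) t (rfl | rfl)
    exacts [m0, hW' ▸ mul_mem m0 m1, hW ▸ mul_mem m0 m1, m1]
  have hcen : ∀ s t, Z c φ s t ∈ cen c φ := by
    refine fun s => all_of_span hspan (P := fun s => ∀ t, Z c φ s t ∈ cen c φ)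
      (fun t => by rw [Z_zero_left d]; exact one_mem _)
      (fun x y hx hy t => by rw [Z_add_left d (hy t)]; exact mul_mem (hy t) (hx t)) ?_ s
    intro s hs
    refine all_of_span hspan (P := fun t => Z c φ s t ∈ cen c φ)
      (by rw [Z_zero_right d]; exact one_mem _)
      (fun x y hx hy => by rw [Z_add_right d hy]; exact mul_mem hx hy) ?_
    exact hbase s hs
  refine ⟨hcen, ?_⟩
  refine all_of_span hspan (P := fun k => ∀ s t, Z c φ (k * s) t = Z c φ s (k * t))
    (fun s t => by rw [zero_mul, zero_mul, Z_zero_left d, Z_zero_right d]) ?_ ?_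
  · intro x y hx hy s t
    rw [add_mul, add_mul, Z_add_left d (hcen _ _), Z_add_right d (hcen _ _), hx, hy]
    exact Commute.eq (commute_cen d (hcen s (x * t)) s (y * t))
  intro k hk
  rcases hk with rfl | rfl
  · intro s t; rw [one_mul, one_mul]
  refine all_of_span hspan (P := fun s => ∀ t, Z c φ (_ * s) t = Z c φ s (_ * t))
    (fun t => by rw [mul_zero, Z_zero_left d, Z_zero_left d]) ?_ ?_
  · intro x y hx hy t
    rw [mul_add, Z_add_left d (hcen _ _), Z_add_left d (hcen _ _), hx, hy]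
  intro s hs
  refine all_of_span hspan (P := fun t => Z c φ _ t = Z c φ _ (_ * t))
    (by rw [mul_zero, Z_zero_right d, Z_zero_right d]) ?_ ?_
  · intro x y hx hy
    rw [mul_add, Z_add_right d (hcen _ _), Z_add_right d (hcen _ _), hx, hy]
  intro t ht
  have e11 : D₁ * (D₀ * D₁) = D₀ := by
    rw [hDD.eq, ← mul_assoc]; nth_rw 1 [← i1]; rw [inv_mul_cancel, one_mul]
  rcases hs with rfl | rfl <;> rcases ht with rfl | rfl <;> simp only [mul_one, hω2]
  · rw [hW, hW']
  · rw [Z_add_right d (hcen _ _), hW']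
    show D₁ = D₀ * (D₀ * D₁)
    nth_rw 1 [← i0]; rw [inv_mul_cancel_left]
  · rw [hZ]
  · rw [Z_add_left d (hcen _ _), Z_add_right d (hcen _ _), hW', hW]
    show D₁ * (D₀ * D₁) = D₀ * D₁ * D₁
    rw [e11, mul_assoc, show D₁ * D₁ = 1 by nth_rw 2 [← i1]; rw [mul_inv_cancel], mul_one]

section Second

/-- The third positive root group. -/
def Y (c : G) (φ : F → G) (r : F) : G := Z c φ r 1

/-- `g` multiplies the two root groups whose commutators fill the first one. -/
def Acts (c : G) (φ : F → G) (g : G) (α β : F) : Prop :=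
  (∀ s, g * Y c φ s * g⁻¹ = Y c φ (α * s)) ∧
    (∀ t, g * (c * c * Y c φ t * (c * c)⁻¹) * g⁻¹ = c * c * Y c φ (β * t) * (c * c)⁻¹) ∧
      ∀ r, g * φ r * g⁻¹ = φ (α * β * r)

/-- The second family of commutator relations. -/
def Rel (c : G) (φ : F → G) (s t : F) : Prop :=
  ⁅Y c φ s, c * c * Y c φ t * (c * c)⁻¹⁆ = φ (s * t)

variable (d : Core ω h c φ) (H : Heis c φ)
include d H

theorem Z_eq (s t : F) : Z c φ s t = Y c φ (s * t) := by
  rw [Y, mul_comm s t, H.swap, mul_one]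

theorem Y_add (x y : F) : Y c φ (x + y) = Y c φ x * Y c φ y := by
  rw [Y, Z_add_left d (H.cent _ _)]
  exact (commute_cen d (H.cent x 1) y 1).eq

theorem commute_φ_Y (s r : F) : Commute (φ s) (Y c φ r) := ((mem_cen.1 (H.cent r 1)) s).1

theorem commute_v_Y (s r : F) : Commute (c * φ s * c⁻¹) (Y c φ r) := ((mem_cen.1 (H.cent r 1)) s).2

theorem commute_φ_cY (s r : F) : Commute (φ s) (c * c * Y c φ r * (c * c)⁻¹) := by
  have := (Commute.conj_iff (c * c)).2 (commute_v_Y d H s r)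
  have e : c * c * (c * φ s * c⁻¹) * (c * c)⁻¹ = φ s := by
    calc c * c * (c * φ s * c⁻¹) * (c * c)⁻¹ = c * c * c * φ s * (c * c * c)⁻¹ := by group
      _ = _ := by rw [d.c3]; simp
  rwa [e] at this

theorem conj_Y {g : G} {α β : F} (hg : Scales c φ g α β) (r : F) :
    g * Y c φ r * g⁻¹ = Y c φ (α * β * r) := by
  rw [Y, hg.conj_Z, Z_eq d H]; congr 1; ring

theorem acts_of {g : G} {α β α' β' : F} (hg : Scales c φ g α β)
    (hg' : Scales c φ ((c * c)⁻¹ * g * (c * c)) α' β') (hαβ : α = α * β * (α' * β')) :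
    Acts c φ g (α * β) (α' * β') := by
  refine ⟨conj_Y d H hg, fun t => ?_, fun r => by rw [hg.1, ← hαβ]⟩
  rw [← conj_Y d H hg']
  group

theorem acts_h : Acts c φ h (ω : F) (ω : F) := by
  have hω := ω.ne_zero
  have e : (c * c)⁻¹ * h * (c * c) = c * h * c⁻¹ := by
    rw [show (c * c)⁻¹ = c by rw [← d.c_inv, inv_inv], d.c_inv]
  have := acts_of d H d.scales_h (α' := (ω : F)⁻¹) (β' := (ω : F) ^ 2) (by rw [e]; exact d.scales_h₂)
    (by field_simp)
  rwa [show (ω : F) ^ 2 * (ω : F)⁻¹ = ω by field_simp, show (ω : F)⁻¹ * (ω : F) ^ 2 = ω by field_simp] at this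

theorem acts_a : Acts c φ (c * c * h * (c * c)⁻¹) ((ω : F) ^ 2)⁻¹ (ω : F) := by
  have hω := ω.ne_zero
  have := acts_of d H d.scales_a (α' := (ω : F) ^ 2) (β' := (ω : F)⁻¹)
    (by rw [show (c * c)⁻¹ * (c * c * h * (c * c)⁻¹) * (c * c) = h by group]; exact d.scales_h)
    (by field_simp)
  rwa [show (ω : F)⁻¹ * (ω : F)⁻¹ = ((ω : F) ^ 2)⁻¹ by field_simp, show (ω : F) ^ 2 * (ω : F)⁻¹ = ω by field_simp] at this

theorem acts_h₂ : Acts c φ (c * h * c⁻¹) (ω : F) ((ω : F) ^ 2)⁻¹ := by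
  have hω := ω.ne_zero
  have e : (c * c)⁻¹ * (c * h * c⁻¹) * (c * c) = c * c * h * (c * c)⁻¹ := by
    rw [show (c * c)⁻¹ = c by rw [← d.c_inv, inv_inv]]
    group
  have := acts_of d H d.scales_h₂ (α' := (ω : F)⁻¹) (β' := (ω : F)⁻¹) (by rw [e]; exact d.scales_a)
    (by field_simp)
  rwa [show (ω : F)⁻¹ * (ω : F) ^ 2 = ω by field_simp, show (ω : F)⁻¹ * (ω : F)⁻¹ = ((ω : F) ^ 2)⁻¹ by field_simp] at this

theorem Rel.conj {g : G} {α β : F} (hg : Acts c φ g α β) {s t : F} (hr : Rel c φ s t) :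
    Rel c φ (α * s) (β * t) := by
  have := congrArg (fun x => g * x * g⁻¹) hr
  simp only [commutatorElement_def] at this
  rw [hg.2.2, show α * β * (s * t) = α * s * (β * t) by ring] at this
  rw [Rel, ← this, ← hg.1, ← hg.2.1, commutatorElement_def]
  group

theorem Rel.add_left {x y t : F} (hx : Rel c φ x t) (hy : Rel c φ y t) : Rel c φ (x + y) t := by
  unfold Rel at hx hy ⊢
  calc ⁅Y c φ (x + y), c * c * Y c φ t * (c * c)⁻¹⁆
      = Y c φ x * ⁅Y c φ y, c * c * Y c φ t * (c * c)⁻¹⁆ * (Y c φ x)⁻¹ *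
          ⁅Y c φ x, c * c * Y c φ t * (c * c)⁻¹⁆ := by
        simp only [Y_add d H, commutatorElement_def]; group
    _ = φ (y * t) * φ (x * t) := by
        rw [hx, hy, (commute_φ_Y d H _ _).symm.eq, mul_inv_cancel_right]
    _ = _ := by rw [← d.add]; congr 1; ring

theorem Rel.add_right {s x y : F} (hx : Rel c φ s x) (hy : Rel c φ s y) : Rel c φ s (x + y) := by
  unfold Rel at hx hy ⊢
  calc ⁅Y c φ s, c * c * Y c φ (x + y) * (c * c)⁻¹⁆
      = ⁅Y c φ s, c * c * Y c φ x * (c * c)⁻¹⁆ * ((c * c * Y c φ x * (c * c)⁻¹) *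
          ⁅Y c φ s, c * c * Y c φ y * (c * c)⁻¹⁆ * (c * c * Y c φ x * (c * c)⁻¹)⁻¹) := by
        simp only [Y_add d H, commutatorElement_def]; group
    _ = φ (s * x) * φ (s * y) := by
        rw [hx, hy, (commute_φ_cY d H _ _).symm.eq, mul_inv_cancel_right]
    _ = _ := by rw [← d.add]; congr 1; ring

theorem Y_zero : Y c φ 0 = 1 := Z_zero_left d 1

theorem rel_zero_left (t : F) : Rel c φ 0 t := by
  simp [Rel, Y_zero d H, d.φ_zero]

theorem rel_zero_right (s : F) : Rel c φ s 0 := by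
  simp [Rel, Y_zero d H, d.φ_zero]

theorem rel_of_span {K L : Set F} (hK : AddSubgroup.closure K = ⊤) (hL : AddSubgroup.closure L = ⊤)
    (hb : ∀ s ∈ K, ∀ t ∈ L, Rel c φ s t) (s t : F) : Rel c φ s t :=
  all_of_span hK (P := fun s => ∀ t, Rel c φ s t) (rel_zero_left d H)
    (fun _ _ hx hy t => Rel.add_left d H (hx t) (hy t))
    (fun s hs t => all_of_span hL (P := Rel c φ s) (rel_zero_right d H s)
      (fun _ _ hx hy => Rel.add_right d H hx hy) (hb s hs) t) s t

theorem Acts.mul {g g' : G} {α β α' β' : F} (hg : Acts c φ g α β) (hg' : Acts c φ g' α' β') :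
    Acts c φ (g * g') (α * α') (β * β') := by
  refine ⟨fun s => ?_, fun t => ?_, fun r => ?_⟩
  · rw [show g * g' * Y c φ s * (g * g')⁻¹ = g * (g' * Y c φ s * g'⁻¹) * g⁻¹ by group, hg'.1, hg.1, mul_assoc α]
  · rw [show g * g' * (c * c * Y c φ t * (c * c)⁻¹) * (g * g')⁻¹ =
      g * (g' * (c * c * Y c φ t * (c * c)⁻¹) * g'⁻¹) * g⁻¹ by group, hg'.2.1, hg.2.1, mul_assoc β]
  · rw [show g * g' * φ r * (g * g')⁻¹ = g * (g' * φ r * g'⁻¹) * g⁻¹ by group, hg'.2.2, hg.2.2,
      ← mul_assoc]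
    congr 1; ring

theorem rel_general (hspan : AddSubgroup.closure (Set.range fun n : ℕ => ((ω : F) ^ 3) ^ n) = ⊤)
    (h1 : Rel c φ 1 1) (s t : F) : Rel c φ s t := by
  have hω := ω.ne_zero
  refine rel_of_span d H hspan hspan ?_ s t
  rintro _ ⟨m, rfl⟩ _ ⟨n, rfl⟩
  -- `(ω, ω)` and `(ω, ω⁻²)` generate the pairs of cubes
  have e1 : ∀ (n : ℕ) {s t : F}, Rel c φ s t → Rel c φ ((ω : F) ^ n * s) ((ω : F) ^ n * t) := by
    intro n
    induction n with
    | zero => intro s t hr; simpa using hr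
    | succ n ih =>
      intro s t hr
      have := Rel.conj d H (acts_h d H) (ih hr)
      rwa [← mul_assoc, ← mul_assoc, ← pow_succ'] at this
  have e2 : ∀ (n : ℕ) {s t : F}, Rel c φ s t →
      Rel c φ ((ω : F) ^ n * s) (((ω : F) ^ 2)⁻¹ ^ n * t) := by
    intro n
    induction n with
    | zero => intro s t hr; simpa using hr
    | succ n ih =>
      intro s t hr
      have := Rel.conj d H (acts_h₂ d H) (ih hr)
      rwa [← mul_assoc, ← mul_assoc, ← pow_succ', ← pow_succ'] at this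
  have e3 : ∀ (n : ℕ) {s t : F}, Rel c φ s t →
      Rel c φ (((ω : F) ^ 2)⁻¹ ^ n * s) ((ω : F) ^ n * t) := by
    intro n
    induction n with
    | zero => intro s t hr; simpa using hr
    | succ n ih =>
      intro s t hr
      have := Rel.conj d H (acts_a d H) (ih hr)
      rwa [← mul_assoc, ← mul_assoc, ← pow_succ', ← pow_succ'] at this
  have := e1 (2 * m + 2 * n) (e2 m (e3 n h1))
  have ha : (ω : F) ^ (2 * m + 2 * n) * ((ω : F) ^ m * (((ω : F) ^ 2)⁻¹ ^ n * 1)) = ((ω : F) ^ 3) ^ m := by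
    rw [inv_pow, mul_one]; field_simp; ring
  have hb : (ω : F) ^ (2 * m + 2 * n) * (((ω : F) ^ 2)⁻¹ ^ m * ((ω : F) ^ n * 1)) = ((ω : F) ^ 3) ^ n := by
    rw [inv_pow, mul_one]; field_simp; ring
  rwa [ha, hb] at this

theorem rel_four (hω2 : (ω : F) * (ω : F) = 1 + (ω : F)) (h2 : (2 : F) = 0)
    (hspan : AddSubgroup.closure ({1, (ω : F)} : Set F) = ⊤)
    (h1 : Rel c φ 1 1) (h1' : Rel c φ (ω : F) 1) (s t : F) : Rel c φ s t := by
  refine rel_of_span d H hspan hspan ?_ s t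
  have h11 : Rel c φ (ω : F) (ω : F) := by simpa using Rel.conj d H (acts_h d H) h1
  rintro s (rfl | rfl) t (rfl | rfl)
  · exact h1
  · have e := Rel.conj d H (acts_h d H) (Rel.conj d H (acts_h d H) h1')
    rw [mul_one, hω2] at e
    have e3 : (ω : F) * (1 + ω) = 1 := by linear_combination hω2 + (ω : F) * h2
    rw [e3] at e
    have := Rel.add_right d H e h1
    rwa [show (1 : F) + (ω : F) + 1 = ω by linear_combination h2] at this
  · exact h1'
  · exact h11

/-- The six root groups. -/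
def root (c : G) (φ : F → G) (i j : Fin 3) (t : F) : G :=
  c ^ (i : ℕ) * (if j = i + 1 then φ t else Y c φ t) * (c ^ (i : ℕ))⁻¹

omit d H in
theorem root_zero_one (t : F) : root c φ 0 1 t = φ t := by simp [root]

omit d H in
theorem root_zero_two (t : F) : root c φ 0 2 t = Y c φ t := by simp [root]

omit H in
theorem root_shift (i a b : Fin 3) (t : F) :
    root c φ (a + i) (b + i) t = c ^ (i : ℕ) * root c φ a b t * (c ^ (i : ℕ))⁻¹ := by
  have e : c ^ ((a + i : Fin 3) : ℕ) = c ^ (i : ℕ) * c ^ (a : ℕ) := by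
    rw [← pow_add, Fin.val_add]
    conv_rhs => rw [← Nat.mod_add_div ((i : ℕ) + a) 3, pow_add, pow_mul,
      show c ^ 3 = 1 by rw [pow_succ, pow_two]; exact d.c3, one_pow, mul_one]
    rw [add_comm (a : ℕ)]
  have hif : (b + i = a + i + 1) ↔ (b = a + 1) := by
    rw [add_right_comm]; exact add_left_inj i
  simp only [root, e, hif]
  group

theorem comm₁_all (hR : ∀ s t, Rel c φ s t) (i j k : Fin 3) (hij : i ≠ j) (hjk : j ≠ k) (hik : i ≠ k)
    (t u : F) : root c φ i j t * root c φ j k u = root c φ i k (t * u) * root c φ j k u * root c φ i j t := by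
  obtain ⟨b, rfl⟩ : ∃ b, j = b + i := ⟨j - i, (sub_add_cancel _ _).symm⟩
  obtain ⟨e, rfl⟩ : ∃ e, k = e + i := ⟨k - i, (sub_add_cancel _ _).symm⟩
  have h0 : root c φ i (b + i) t = c ^ (i : ℕ) * root c φ 0 b t * (c ^ (i : ℕ))⁻¹ := by
    rw [← root_shift d i 0 b t, zero_add]
  have h1 : root c φ i (e + i) (t * u) = c ^ (i : ℕ) * root c φ 0 e (t * u) * (c ^ (i : ℕ))⁻¹ := by
    rw [← root_shift d i 0 e (t * u), zero_add]
  rw [h0, h1, root_shift d i b e u]
  suffices hs : root c φ 0 b t * root c φ b e u = root c φ 0 e (t * u) * root c φ b e u * root c φ 0 b t by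
    calc _ = c ^ (i : ℕ) * (root c φ 0 b t * root c φ b e u) * (c ^ (i : ℕ))⁻¹ := by group
      _ = _ := by rw [hs]; group
  have hb : b ≠ 0 := fun hb => hij (by rw [hb, zero_add])
  have he : e ≠ 0 := fun he => hik (by rw [he, zero_add])
  have hbe : b ≠ e := fun hbe => hjk (by rw [hbe])
  fin_cases b <;> fin_cases e <;> simp at hb he hbe
  · show root c φ 0 1 t * root c φ 1 2 u = root c φ 0 2 (t * u) * root c φ 1 2 u * root c φ 0 1 t
    rw [root_zero_one, root_zero_two, show root c φ 1 2 u = c * φ u * c⁻¹ by simp [root],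
      ← Z_eq d H, Z, commutatorElement_def]
    group
  · show root c φ 0 2 t * root c φ 2 1 u = root c φ 0 1 (t * u) * root c φ 2 1 u * root c φ 0 2 t
    rw [root_zero_one, root_zero_two, show root c φ 2 1 u = c * c * Y c φ u * (c * c)⁻¹ by
      simp [root, pow_two], ← hR t u, commutatorElement_def]
    group

theorem comm₀_all (i j k l : Fin 3) (hij : i ≠ j) (hkl : k ≠ l) (hjk : j ≠ k) (hil : i ≠ l)
    (t u : F) : Commute (root c φ i j t) (root c φ k l u) := by
  obtain ⟨b, rfl⟩ : ∃ b, j = b + i := ⟨j - i, (sub_add_cancel _ _).symm⟩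
  obtain ⟨e, rfl⟩ : ∃ e, k = e + i := ⟨k - i, (sub_add_cancel _ _).symm⟩
  obtain ⟨f, rfl⟩ : ∃ f, l = f + i := ⟨l - i, (sub_add_cancel _ _).symm⟩
  have h0 : root c φ i (b + i) t = c ^ (i : ℕ) * root c φ 0 b t * (c ^ (i : ℕ))⁻¹ := by
    rw [← root_shift d i 0 b t, zero_add]
  rw [h0, root_shift d i e f u, Commute.conj_iff]
  have hb : b ≠ 0 := fun hb => hij (by rw [hb, zero_add])
  have hbe : b ≠ e := fun hbe => hjk (by rw [hbe])
  have hef : e ≠ f := fun hef => hkl (by rw [hef])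
  have hf : f ≠ 0 := fun hf => hil (by rw [hf, zero_add])
  have hφ : ∀ x y, Commute (φ x) (φ y) := fun x y => by
    show _ * _ = _ * _
    rw [← d.add, ← d.add, add_comm]
  have hY : ∀ x y, Commute (Y c φ x) (Y c φ y) := fun x y => commute_cen d (H.cent y 1) x 1
  fin_cases b <;> fin_cases e <;> fin_cases f <;> simp at hb hbe hef hf <;>
    simp only [root, Fin.mk_one, Fin.reduceFinMk, Fin.reduceAdd, Fin.reduceEq, ↓reduceIte, Fin.val_zero,
      Fin.val_one, Fin.val_two, pow_zero, pow_one, pow_two, one_mul, inv_one, mul_one] <;>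
    first
      | exact hφ _ _
      | exact hY _ _
      | exact commute_φ_Y d H _ _
      | exact (commute_φ_Y d H _ _).symm
      | exact (commute_v_Y d H _ _).symm
      | exact commute_φ_cY d H _ _

end Second

end Cfsg.Agent.Lie.Sl3Pres
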