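import Cfsg.Agent.Lib.Lie.Sp4PresCells
import Cfsg.Agent.Lib.Classical.SympGen
import Cfsg.Agent.Lib.Classical.AschSpProper

/-! Short presentations of `Sp₄(F)` and `PSp₄(F)`. -/

set_option autoImplicit false
set_option linter.unusedSectionVars false
set_option maxHeartbeats 1000000

namespace Cfsg.Agent.Lie.Sp4Pres

open Matrix Cfsg.Agent.Lie.Sl2Pres Cfsg.Agent.Classical Cfsg.Agent.Classical.Asch Cfsg.Geo
open scoped commutatorElement

variable {F : Type*} [Field F] [Fintype F]

local notation "SL2" => SpecialLinearGroup (Fin 2) F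
set_option quotPrecheck false in
local notation "Sp4" => ↥(Matrix.symplecticGroup (Fin 2) F)
local notation "M4" => Matrix (Fin 2 ⊕ Fin 2) (Fin 2 ⊕ Fin 2) F

theorem det_eq (A : SL2) : A.1 0 0 * A.1 1 1 - A.1 0 1 * A.1 1 0 = 1 := by
  have h := A.2; rwa [Matrix.det_fin_two] at h

/-- The matrix of the copy on the short root. -/
def matA (A : Matrix (Fin 2) (Fin 2) F) : Matrix (Fin 2 ⊕ Fin 2) (Fin 2 ⊕ Fin 2) F :=
  fromBlocks A 0 0 !![A 1 1, -A 1 0; -A 0 1, A 0 0]

/-- The matrix of the copy on the long root. -/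
def matB (A : Matrix (Fin 2) (Fin 2) F) : Matrix (Fin 2 ⊕ Fin 2) (Fin 2 ⊕ Fin 2) F :=
  fromBlocks !![1, 0; 0, A 0 0] !![0, 0; 0, A 0 1] !![0, 0; 0, A 1 0] !![1, 0; 0, A 1 1]

theorem matA_mem (A : SL2) : matA A.1 ∈ Matrix.symplecticGroup (Fin 2) F := by
  have h := det_eq A
  rw [SymplecticGroup.mem_iff, Matrix.J, matA, fromBlocks_transpose, fromBlocks_multiply,
    fromBlocks_multiply]
  congr 1 <;> ext i j <;> fin_cases i <;> fin_cases j <;>
    simp [Matrix.mul_apply, Matrix.vecMul, dotProduct, Fin.sum_univ_two, Matrix.transpose_apply] <;>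
    first
    | ring1
    | linear_combination h
    | linear_combination -h

theorem matB_mem (A : SL2) : matB A.1 ∈ Matrix.symplecticGroup (Fin 2) F := by
  have h := det_eq A
  rw [SymplecticGroup.mem_iff, Matrix.J, matB, fromBlocks_transpose, fromBlocks_multiply,
    fromBlocks_multiply]
  congr 1 <;> ext i j <;> fin_cases i <;> fin_cases j <;>
    simp [Matrix.mul_apply, Matrix.vecMul, dotProduct, Fin.sum_univ_two, Matrix.transpose_apply] <;>
    first
    | ring1
    | linear_combination h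
    | linear_combination -h

theorem matA_mul (A B : Matrix (Fin 2) (Fin 2) F) : matA (A * B) = matA A * matA B := by
  simp only [matA, fromBlocks_multiply]
  congr 1 <;> ext i j <;> fin_cases i <;> fin_cases j <;>
    simp [Matrix.mul_apply, Matrix.vecMul, dotProduct, Fin.sum_univ_two] <;> ring

theorem matB_mul (A B : Matrix (Fin 2) (Fin 2) F) : matB (A * B) = matB A * matB B := by
  simp only [matB, fromBlocks_multiply]
  congr 1 <;> ext i j <;> fin_cases i <;> fin_cases j <;>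
    simp [Matrix.mul_apply, Matrix.vecMul, dotProduct, Fin.sum_univ_two] <;> ring

/-- The copy of `SL₂` on the short root. -/
def emA : SpecialLinearGroup (Fin 2) F →* Matrix.symplecticGroup (Fin 2) F :=
  MonoidHom.mk' (fun A => ⟨matA A.1, matA_mem A⟩) fun A B => Subtype.ext (matA_mul A.1 B.1)

/-- The copy of `SL₂` on the long root. -/
def emB : SpecialLinearGroup (Fin 2) F →* Matrix.symplecticGroup (Fin 2) F :=
  MonoidHom.mk' (fun A => ⟨matB A.1, matB_mem A⟩) fun A B => Subtype.ext (matB_mul A.1 B.1)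

theorem emA_val (A : SL2) : ((emA A : Sp4) : M4) = matA A.1 := rfl
theorem emB_val (A : SL2) : ((emB A : Sp4) : M4) = matB A.1 := rfl

theorem lit_inj {a b c d a' b' c' d' : F} :
    !![a, b; c, d] = !![a', b'; c', d'] ↔ a = a' ∧ b = b' ∧ c = c' ∧ d = d' :=
  ⟨fun h => ⟨congrFun (congrFun h 0) 0, congrFun (congrFun h 0) 1, congrFun (congrFun h 1) 0,
    congrFun (congrFun h 1) 1⟩, fun ⟨h1, h2, h3, h4⟩ => by rw [h1, h2, h3, h4]⟩

theorem lit_add (a b c d a' b' c' d' : F) :
    !![a, b; c, d] + !![a', b'; c', d'] = !![a + a', b + b'; c + c', d + d'] := by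
  ext i j; fin_cases i <;> fin_cases j <;> simp

theorem lit_zero : (0 : Matrix (Fin 2) (Fin 2) F) = !![0, 0; 0, 0] := by
  ext i j; fin_cases i <;> fin_cases j <;> simp

theorem lit_one : (1 : M4) = fromBlocks !![1, 0; 0, 1] !![0, 0; 0, 0] !![0, 0; 0, 0] !![1, 0; 0, 1] := by
  rw [← fromBlocks_one, one_fin_two, lit_zero]

theorem matA_lit (a b c d : F) : matA !![a, b; c, d] =
    fromBlocks !![a, b; c, d] !![0, 0; 0, 0] !![0, 0; 0, 0] !![d, -c; -b, a] := by
  rw [matA, lit_zero]; simp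

theorem matB_lit (a b c d : F) : matB !![a, b; c, d] =
    fromBlocks !![1, 0; 0, a] !![0, 0; 0, b] !![0, 0; 0, c] !![1, 0; 0, d] := by
  rw [matB]; simp

theorem coe_slU (t : F) : ((slU t : SL2) : Matrix (Fin 2) (Fin 2) F) = !![1, t; 0, 1] := rfl
theorem coe_slW : ((slW : SL2) : Matrix (Fin 2) (Fin 2) F) = !![0, 1; -1, 0] := rfl
theorem coe_slH (x : Fˣ) :
    ((slH x : SL2) : Matrix (Fin 2) (Fin 2) F) = !![(x : F), 0; 0, ((x⁻¹ : Fˣ) : F)] := by
  simp [slH]
theorem coe_slW_inv : ((slW⁻¹ : SL2) : Matrix (Fin 2) (Fin 2) F) = !![0, -1; 1, 0] := by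
  show adjugate (!![0, 1; -1, 0] : Matrix (Fin 2) (Fin 2) F) = _
  rw [adjugate_fin_two]; simp

/-- The relations hold in `Sp₄(F)`. -/
theorem rels_target (ω : Fˣ) : Rels ω (emA (F := F)) emB := by
  have hm : ∀ {a b : Sp4}, (a : M4) = b → a = b := fun h => Subtype.ext h
  refine ⟨⟨?_, ?_, ?_⟩, ⟨?_, ?_, ?_⟩, ⟨?_, ?_, ?_⟩, ⟨?_, ?_, ?_⟩, ?_, ?_, ?_, ?_⟩
  all_goals
    simp only [commutatorElement_def, _root_.mul_inv_rev, inv_inv, ← map_inv, slH_inv, slU_inv, map_mul]
    refine hm ?_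
    simp only [Submonoid.coe_mul, OneMemClass.coe_one, emA_val, emB_val, coe_slU, coe_slW,
      coe_slW_inv, coe_slH, matA_lit, matB_lit, fromBlocks_multiply, mul_fin_two, lit_add, lit_one]
    simp [fromBlocks_inj, lit_inj]
    try (repeat' constructor)
    all_goals (try field_simp)
    all_goals ring

theorem form_entries (t r s e : F) (p q : Fˣ) :
    ((emB (slU t) * xA emA emB r * xB emA emB s * emA (slU e) * T emA emB p q : Sp4) : M4) =
      fromBlocks !![(p : F), e * q * (p⁻¹ : Fˣ); 0, q * (p⁻¹ : Fˣ)]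
        (!![s, -r; -r, t] * !![((p⁻¹ : Fˣ) : F), 0; -e * (p⁻¹ : Fˣ), p * (q⁻¹ : Fˣ)]) 0
        !![((p⁻¹ : Fˣ) : F), 0; -e * (p⁻¹ : Fˣ), p * (q⁻¹ : Fˣ)] := by
  simp only [xA, xB, T, ← map_inv]
  simp only [Submonoid.coe_mul, emA_val, emB_val, coe_slU, coe_slW, coe_slW_inv, coe_slH, matA_lit,
    matB_lit, fromBlocks_multiply, mul_fin_two, lit_add, lit_zero]
  simp [fromBlocks_inj, lit_inj]
  try (repeat' constructor)
  all_goals (try field_simp)
  all_goals ring

theorem surjective_of_embeddings {K : Subgroup (Matrix.symplecticGroup (Fin 2) F)}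
    (hA : ∀ x, emA x ∈ K) (hB : ∀ x, emB x ∈ K) : K = ⊤ := by
  rw [eq_top_iff, ← closure_sympTvSet, Subgroup.closure_le]
  rintro A ⟨w, c, hw⟩
  rcases eq_or_ne w 0 with rfl | hw0
  · have : A = 1 := Subtype.ext (by
      rw [hw]
      refine Matrix.ext_iff_mulVec.2 fun v => ?_
      simp [sympTransvection_mulVec])
    rw [this]; exact K.one_mem
  let e : Fin 2 ⊕ Fin 2 → F := Pi.single (Sum.inl 1) 1
  have hT : ∀ c : F, sympTv e c ∈ K := fun c => by
    have h : (sympTv e c : Sp4) = emB (slU c) := by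
      refine Subtype.ext (Matrix.ext_iff_mulVec.2 fun v => ?_)
      show sympTransvection 2 e c *ᵥ v = _
      rw [sympTransvection_mulVec, emB_val]
      funext k
      rcases k with k | k <;> fin_cases k <;>
        simp [e, matB, slU, sympForm, Matrix.J, Matrix.one_apply, fromBlocks_mulVec, Matrix.mulVec,
          dotProduct, Fin.sum_univ_two]
    rw [h]; exact hB _
  suffices hmove : ∀ v : Fin 2 ⊕ Fin 2 → F, v ≠ 0 → ∃ g ∈ K, ((g : Sp4) : M4) *ᵥ v = e by
    obtain ⟨g, hg, hge⟩ := hmove w hw0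
    have hA' : A = g⁻¹ * sympTv e c * g⁻¹⁻¹ := by
      rw [sympTv_conj]
      refine Subtype.ext ?_
      rw [hw, ← hge, Matrix.mulVec_mulVec, ← Submonoid.coe_mul, inv_mul_cancel,
        Submonoid.coe_one, Matrix.one_mulVec]
      rfl
    rw [hA']
    exact K.mul_mem (K.mul_mem (K.inv_mem hg) (hT c)) (K.inv_mem (K.inv_mem hg))
  have step : ∀ (g : Sp4) (v v' : Fin 2 ⊕ Fin 2 → F), g ∈ K → (g : M4) *ᵥ v = v' →
      (∃ k ∈ K, ((k : Sp4) : M4) *ᵥ v' = e) → ∃ k ∈ K, ((k : Sp4) : M4) *ᵥ v = e := by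
    rintro g v v' hg hgv ⟨k, hk, hke⟩
    exact ⟨k * g, K.mul_mem hk hg, by rw [Submonoid.coe_mul, ← Matrix.mulVec_mulVec, hgv, hke]⟩
  -- vectors of the first Lagrangian
  have hx : ∀ v : Fin 2 ⊕ Fin 2 → F, v (.inr 0) = 0 → v (.inr 1) = 0 → v ≠ 0 →
      ∃ k ∈ K, ((k : Sp4) : M4) *ᵥ v = e := by
    intro v h0 h1 hv
    obtain ⟨x, hx⟩ : ∃ x : SL2, x.1 0 0 * v (.inl 0) + x.1 0 1 * v (.inl 1) = 0 ∧
        x.1 1 0 * v (.inl 0) + x.1 1 1 * v (.inl 1) = 1 := by
      rcases eq_or_ne (v (.inl 1)) 0 with h | h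
      · have h' : v (.inl 0) ≠ 0 := fun h' => hv (funext fun k => by
          rcases k with k | k <;> fin_cases k <;> assumption)
        exact ⟨⟨!![0, -v (.inl 0); (v (.inl 0))⁻¹, 0], by simp [Matrix.det_fin_two, h']⟩,
          by simp [h], by simp [h, h']⟩
      · exact ⟨⟨!![v (.inl 1), -v (.inl 0); 0, (v (.inl 1))⁻¹], by simp [Matrix.det_fin_two, h]⟩,
          by simp; ring, by simp [h]⟩
    refine ⟨emA x, hA x, ?_⟩
    funext k
    rcases k with k | k <;> fin_cases k <;>
      simp [e, emA_val, matA, fromBlocks_mulVec, Matrix.mulVec, dotProduct, Fin.sum_univ_two, h0,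
        h1] <;> first | exact hx.1 | exact hx.2
  intro v hv
  rcases em (v (.inr 0) = 0 ∧ v (.inr 1) = 0) with ⟨h0, h1⟩ | hy
  · exact hx v h0 h1 hv
  obtain ⟨x, hx0, hx1⟩ : ∃ x : SL2, x.1 1 1 * v (.inr 0) - x.1 1 0 * v (.inr 1) = 0 ∧
      -x.1 0 1 * v (.inr 0) + x.1 0 0 * v (.inr 1) = 1 := by
    rcases eq_or_ne (v (.inr 1)) 0 with h | h
    · have h' : v (.inr 0) ≠ 0 := fun h' => hy ⟨h', h⟩
      exact ⟨⟨!![0, -(v (.inr 0))⁻¹; v (.inr 0), 0], by simp [Matrix.det_fin_two, h']⟩,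
        by simp [h], by simp [h, h']⟩
    · exact ⟨⟨!![(v (.inr 1))⁻¹, 0; v (.inr 0), v (.inr 1)], by simp [Matrix.det_fin_two, h]⟩,
        by simp; ring, by simp [h]⟩
  refine step (emA x) v _ (hA x) rfl ?_
  set v' := ((emA x : Sp4) : M4) *ᵥ v with hv'
  have e0 : v' (.inr 0) = 0 := by
    rw [hv', emA_val]
    simp [matA, fromBlocks_mulVec, Matrix.mulVec, dotProduct, Fin.sum_univ_two]
    linear_combination hx0
  have e1 : v' (.inr 1) = 1 := by
    rw [hv', emA_val]
    simp [matA, fromBlocks_mulVec, Matrix.mulVec, dotProduct, Fin.sum_univ_two]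
    linear_combination hx1
  let y : SL2 := ⟨!![0, 1; -1, v' (.inl 1)], by simp [Matrix.det_fin_two]⟩
  refine step (emB y) v' _ (hB y) rfl ?_
  show ∃ k ∈ K, ((k : Sp4) : M4) *ᵥ (matB !![0, 1; -1, v' (.inl 1)] *ᵥ v') = e
  refine hx _ ?_ ?_ ?_
  · simp [matB, fromBlocks_mulVec, Matrix.mulVec, dotProduct, Fin.sum_univ_two, e0]
  · simp [matB, fromBlocks_mulVec, Matrix.mulVec, dotProduct, Fin.sum_univ_two, e1]
  · intro hz
    have := congrFun hz (.inl 1)
    simp [matB, fromBlocks_mulVec, Matrix.mulVec, dotProduct, Fin.sum_univ_two, e1]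
      at this

theorem sep_target {ω : Fˣ} (hω : Prim ω) {G : Type*} [Group G]
    {ia ib : SpecialLinearGroup (Fin 2) F →* G} (d : Rels ω ia ib)
    (π : G →* Matrix.symplecticGroup (Fin 2) F) (ha : ∀ x, π (ia x) = emA x)
    (hb : ∀ x, π (ib x) = emB x) (hgen : ia.range ⊔ ib.range = ⊤) : Function.Bijective π := by
  have hpush : ∀ t r s e p q, π (ib (slU t) * xA ia ib r * xB ia ib s * ia (slU e) * T ia ib p q) =
      emB (slU t) * xA emA emB r * xB emA emB s * emA (slU e) * T emA emB p q := by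
    intros; simp [xA, xB, T, ha, hb]
  refine ⟨injective_of_separated d hω π hgen ?_ ?_, ?_⟩
  · intro t r s e p q h
    rw [hpush] at h
    have h' := congrArg (fun g : Sp4 => (g : M4)) h
    simp only [form_entries, OneMemClass.coe_one] at h'
    have a00 := congrFun (congrFun h' (.inl 0)) (.inl 0)
    have a11 := congrFun (congrFun h' (.inl 1)) (.inl 1)
    have a01 := congrFun (congrFun h' (.inl 0)) (.inl 1)
    simp at a00 a11 a01
    obtain rfl : p = 1 := a00
    simp at a11 a01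
    obtain rfl : q = 1 := a11
    subst a01
    have b00 := congrFun (congrFun h' (.inl 0)) (.inr 0)
    have b01 := congrFun (congrFun h' (.inl 0)) (.inr 1)
    have b11 := congrFun (congrFun h' (.inl 1)) (.inr 1)
    simp [Matrix.mul_apply, Fin.sum_univ_two] at b00 b01 b11
    exact ⟨b11, b01, b00, rfl, rfl, rfl⟩
  · intro w hw hne
    rintro ⟨_, ⟨u, hu, _, ⟨⟨p, q⟩, rfl⟩, rfl⟩, hπ⟩
    obtain ⟨t, r, s, e, rfl⟩ := U_normal_form d hω hu
    rw [hpush] at hπ
    have h' := congrArg (fun g : Sp4 => (g : M4)) hπ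
    simp only [form_entries] at h'
    simp only [reps, List.mem_cons, List.not_mem_nil, or_false] at hw
    rcases hw with rfl | rfl | rfl | rfl | rfl | rfl | rfl | rfl
    · exact hne rfl
    all_goals
      simp only [wd, mul_one, if_true, if_false, Bool.false_eq_true, map_mul, ha, hb,
        Submonoid.coe_mul, emA_val, emB_val, coe_slW, matA_lit, matB_lit, fromBlocks_multiply,
        mul_fin_two, lit_add, lit_zero] at h'
      simp [fromBlocks_inj, lit_inj] at h'
  · rw [← MonoidHom.range_eq_top]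
    exact surjective_of_embeddings (fun x => ⟨ia x, ha x⟩) fun x => ⟨ib x, hb x⟩

section Presentation

variable {ω₀ : Fˣ} {R : Finset (FreeGroup (Fin 3))}

/-- The first three generators. -/
def fA : FreeGroup (Fin 3) →* FreeGroup (Fin 6) := FreeGroup.map (Fin.castAdd 3)

/-- The last three generators. -/
def fB : FreeGroup (Fin 3) →* FreeGroup (Fin 6) := FreeGroup.map (Fin.natAdd 3)

/-- The images of the six generators. -/
def gens6 (ω₀ : Fˣ) : Fin 6 → Matrix.symplecticGroup (Fin 2) F :=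
  Fin.append (fun i => emA (![slU (1 : F), slW, slH ω₀] i))
    fun i => emB (![slU (1 : F), slW, slH ω₀] i)

theorem lift_fA (x : FreeGroup (Fin 3)) :
    FreeGroup.lift (gens6 ω₀) (fA x) = emA (FreeGroup.lift ![slU (1 : F), slW, slH ω₀] x) :=
  DFunLike.congr_fun (f := (FreeGroup.lift (gens6 ω₀)).comp fA)
    (g := emA.comp (FreeGroup.lift ![slU (1 : F), slW, slH ω₀]))
    (FreeGroup.ext_hom _ _ fun i => by simp [fA, gens6]) x

theorem lift_fB (x : FreeGroup (Fin 3)) :
    FreeGroup.lift (gens6 ω₀) (fB x) = emB (FreeGroup.lift ![slU (1 : F), slW, slH ω₀] x) :=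
  DFunLike.congr_fun (f := (FreeGroup.lift (gens6 ω₀)).comp fB)
    (g := emB.comp (FreeGroup.lift ![slU (1 : F), slW, slH ω₀]))
    (FreeGroup.ext_hom _ _ fun i => by simp [fB, gens6]; fin_cases i <;> rfl) x

/-- Relators expressing a `ScaleGen`. -/
def scaleWords (ω : Fˣ) (a : SpecialLinearGroup (Fin 2) F → FreeGroup (Fin 6)) (g : FreeGroup (Fin 6))
    (d : Fˣ) : List (FreeGroup (Fin 6)) :=
  [g * a (slU 1) * g⁻¹ * (a (slU (d : F)))⁻¹, g * a slW * g⁻¹ * (a (slH d * slW))⁻¹,
    g * a (slH ω) * g⁻¹ * (a (slH ω))⁻¹]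

theorem scaleWords_iff {K : Type*} [Group K] (f : FreeGroup (Fin 6) →* K) {ω : Fˣ}
    {a : SpecialLinearGroup (Fin 2) F → FreeGroup (Fin 6)} {g : FreeGroup (Fin 6)} {d : Fˣ}
    {i : SpecialLinearGroup (Fin 2) F →* K} (hi : ∀ x, f (a x) = i x) {k : K} (hk : f g = k) :
    (∀ r ∈ scaleWords ω a g d, f r = 1) ↔ ScaleGen ω i k d := by
  simp only [scaleWords, List.mem_cons, List.not_mem_nil, or_false, forall_eq_or_imp, forall_eq,
    map_mul, map_inv, mul_inv_eq_one, hi, hk]
  rw [← map_mul i (slH d)]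
  exact ⟨fun h => ⟨h.1, h.2.1, h.2.2⟩, fun h => ⟨h.u, h.w, h.h⟩⟩

/-- All relators. -/
def relWords (ω : Fˣ) (a b : SpecialLinearGroup (Fin 2) F → FreeGroup (Fin 6)) :
    List (FreeGroup (Fin 6)) :=
  scaleWords ω a (b (slH ω)) ω⁻¹ ++ scaleWords ω b (a (slH ω)) (ω * ω)⁻¹ ++
    scaleWords ω a ((b slW)⁻¹ * a slW * b slW) (-1) ++
    scaleWords ω b ((a slW)⁻¹ * b slW * a slW) 1 ++
    [⁅a (slU 1), b (slU 1)⁆ *
      ((b slW * a (slU (-1)) * (b slW)⁻¹) * (a slW * b (slU 1) * (a slW)⁻¹))⁻¹,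
    ⁅a (slU 1), b slW * a (slU 1) * (b slW)⁻¹⁆ * (a slW * b (slU (-2)) * (a slW)⁻¹)⁻¹,
    ⁅b (slU 1), a slW * b (slU 1) * (a slW)⁻¹⁆, ⁅b (slU 1), b slW * a (slU 1) * (b slW)⁻¹⁆]

theorem relWords_length (ω : Fˣ) (a b : SpecialLinearGroup (Fin 2) F → FreeGroup (Fin 6)) :
    (relWords ω a b).length = 16 := by simp [relWords, scaleWords]

theorem relWords_iff {K : Type*} [Group K] (f : FreeGroup (Fin 6) →* K) {ω : Fˣ}
    {a b : SpecialLinearGroup (Fin 2) F → FreeGroup (Fin 6)}
    {i j : SpecialLinearGroup (Fin 2) F →* K} (hi : ∀ x, f (a x) = i x) (hj : ∀ x, f (b x) = j x) :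
    (∀ r ∈ relWords ω a b, f r = 1) ↔ Rels ω i j := by
  simp only [relWords, List.forall_mem_append, List.mem_cons, List.not_mem_nil, or_false,
    forall_eq_or_imp, forall_eq, map_mul, map_inv, map_commutatorElement, mul_inv_eq_one, hi, hj]
  rw [scaleWords_iff f hi (hj _), scaleWords_iff f hj (hi _),
    scaleWords_iff f hi (k := (j slW)⁻¹ * i slW * j slW) (by simp [hi, hj]),
    scaleWords_iff f hj (k := (i slW)⁻¹ * j slW * i slW) (by simp [hi, hj])]
  exact ⟨fun h => ⟨h.1.1.1.1, h.1.1.1.2, h.1.1.2, h.1.2, h.2.1, h.2.2.1, h.2.2.2.1, h.2.2.2.2⟩,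
    fun h => ⟨⟨⟨⟨h.hb_a, h.ha_b⟩, h.m_a⟩, h.m_b⟩, h.c1, h.c2, h.c3, h.c4⟩⟩

theorem exists_presentation :
    ∃ (rels : Finset (FreeGroup (Fin 6))) (v : Fin 6 → Matrix.symplecticGroup (Fin 2) F)
      (h : ∀ r ∈ (rels : Set (FreeGroup (Fin 6))), FreeGroup.lift v r = 1),
      rels.card ≤ 32 ∧ Function.Bijective (PresentedGroup.toGroup h) := by
  classical
  obtain ⟨ω₀, R, -, ⟨hR, hbij⟩, hc, -⟩ := exists_presentations_aux (F := F)
  obtain ⟨ω, hω⟩ := IsCyclic.exists_monoid_generator (α := Fˣ)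
  have hgen : ∀ x : Fˣ, ∃ n : ℕ, x = ω ^ n := fun x => by
    obtain ⟨n, hn⟩ := hω x
    exact ⟨n, hn.symm⟩
  have hP : Prim ω := ⟨hgen, by
    rw [orderOf_units, orderOf_eq_card_of_forall_mem_zpowers (fun x => by
      obtain ⟨n, rfl⟩ := hgen x
      exact Subgroup.mem_zpowers_iff.2 ⟨n, zpow_natCast ω n⟩), Nat.card_units]⟩
  have hsurj : Function.Surjective (FreeGroup.lift ![slU (1 : F), slW, slH ω₀]) := fun y => by
    obtain ⟨x, rfl⟩ := hbij.2 y
    induction x with
    | H z => exact ⟨z, rfl⟩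
  choose pre hpre using hsurj
  set a : SL2 → FreeGroup (Fin 6) := fun x => fA (pre x) with ha
  set b : SL2 → FreeGroup (Fin 6) := fun x => fB (pre x) with hb
  set rels := R.image fA ∪ R.image fB ∪ (relWords ω a b).toFinset with hrels
  have hv : ∀ r ∈ (rels : Set (FreeGroup (Fin 6))), FreeGroup.lift (gens6 ω₀) r = 1 := by
    intro r hr
    simp only [hrels, Finset.coe_union, Set.mem_union, Finset.mem_coe, Finset.mem_image,
      List.mem_toFinset] at hr
    rcases hr with (⟨x, hx, rfl⟩ | ⟨x, hx, rfl⟩) | hr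
    · rw [lift_fA, hR x hx, map_one]
    · rw [lift_fB, hR x hx, map_one]
    · exact (relWords_iff _ (fun x => by rw [ha, lift_fA, hpre])
        (fun x => by rw [hb, lift_fB, hpre])).2 (rels_target ω) r hr
  refine ⟨rels, gens6 ω₀, hv, ?_, ?_⟩
  · refine (Finset.card_union_le _ _).trans ?_
    refine (Nat.add_le_add (Finset.card_union_le _ _) (List.toFinset_card_le _)).trans ?_
    have := Finset.card_image_le (s := R) (f := fA)
    have := Finset.card_image_le (s := R) (f := fB)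
    rw [relWords_length]
    omega
  let G := PresentedGroup (rels : Set (FreeGroup (Fin 6)))
  set mk : FreeGroup (Fin 6) →* G := PresentedGroup.mk _
  let e := MulEquiv.ofBijective _ hbij
  have hmkA : ∀ r ∈ (R : Set (FreeGroup (Fin 3))),
      FreeGroup.lift (fun i => mk (fA (FreeGroup.of i))) r = 1 := fun r hr => by
    rw [show FreeGroup.lift (fun i => mk (fA (FreeGroup.of i))) = mk.comp fA from
      FreeGroup.ext_hom _ _ fun i => by simp]
    exact PresentedGroup.one_of_mem (by simp [hrels]; exact Or.inl ⟨r, Finset.mem_coe.1 hr, rfl⟩)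
  have hmkB : ∀ r ∈ (R : Set (FreeGroup (Fin 3))),
      FreeGroup.lift (fun i => mk (fB (FreeGroup.of i))) r = 1 := fun r hr => by
    rw [show FreeGroup.lift (fun i => mk (fB (FreeGroup.of i))) = mk.comp fB from
      FreeGroup.ext_hom _ _ fun i => by simp]
    exact PresentedGroup.one_of_mem
      (by simp [hrels]; exact Or.inr (Or.inl ⟨r, Finset.mem_coe.1 hr, rfl⟩))
  let ia : SL2 →* G := (PresentedGroup.toGroup hmkA).comp e.symm.toMonoidHom
  let ib : SL2 →* G := (PresentedGroup.toGroup hmkB).comp e.symm.toMonoidHom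
  have hes : ∀ y, e.symm (FreeGroup.lift ![slU (1 : F), slW, slH ω₀] y) = PresentedGroup.mk _ y :=
    fun y => e.injective (by rw [e.apply_symm_apply]; rfl)
  have hiA : ∀ y, ia (FreeGroup.lift ![slU (1 : F), slW, slH ω₀] y) = mk (fA y) := fun y => by
    show PresentedGroup.toGroup hmkA (e.symm _) = _
    rw [hes]
    exact DFunLike.congr_fun (f := FreeGroup.lift fun i => mk (fA (FreeGroup.of i)))
      (g := mk.comp fA) (FreeGroup.ext_hom _ _ fun i => by simp) y
  have hiB : ∀ y, ib (FreeGroup.lift ![slU (1 : F), slW, slH ω₀] y) = mk (fB y) := fun y => by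
    show PresentedGroup.toGroup hmkB (e.symm _) = _
    rw [hes]
    exact DFunLike.congr_fun (f := FreeGroup.lift fun i => mk (fB (FreeGroup.of i)))
      (g := mk.comp fB) (FreeGroup.ext_hom _ _ fun i => by simp) y
  have hd : Rels ω ia ib := (relWords_iff mk (a := a) (b := b) (i := ia) (j := ib)
    (fun x => by conv_rhs => rw [← hpre x, hiA])
    (fun x => by conv_rhs => rw [← hpre x, hiB])).1 fun r hr =>
      PresentedGroup.one_of_mem (by simp [hrels]; exact Or.inr (Or.inr hr))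
  refine sep_target hP hd _ (fun x => ?_) (fun x => ?_) ?_
  · rw [← hpre x, hiA]; exact lift_fA _
  · rw [← hpre x, hiB]; exact lift_fB _
  · refine eq_top_iff.2 fun x _ => PresentedGroup.generated_by _ _ (fun j => ?_) x
    induction j using Fin.addCases (m := 3) (n := 3) with
    | left i =>
      refine Subgroup.mem_sup_left ⟨FreeGroup.lift ![slU (1 : F), slW, slH ω₀] (FreeGroup.of i), ?_⟩
      rw [hiA]; simp [mk, fA, PresentedGroup.of]
    | right i =>
      refine Subgroup.mem_sup_right ⟨FreeGroup.lift ![slU (1 : F), slW, slH ω₀] (FreeGroup.of i), ?_⟩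
      rw [hiB]; simp [mk, fB, PresentedGroup.of]

end Presentation

theorem center_pm (z : Sp4) (hz : z ∈ Subgroup.center Sp4) : z = 1 ∨ z = emA (slH (-1)) := by
  have h := sp_center_scalar (m := 2) (by omega) hz
  obtain ⟨c, hc⟩ := (mem_scalars_iff _).1 h
  rw [spHom_val] at hc
  have hm := z.2
  rw [SymplecticGroup.mem_iff, hc] at hm
  have h1 := congrFun (congrFun hm (.inl 0)) (.inr 0)
  simp [Matrix.J] at h1
  rcases mul_self_eq_one_iff.1 (show (c : F) * c = 1 by linear_combination h1) with e | e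
  · exact Or.inl (Subtype.ext (by rw [hc, e, one_smul]; rfl))
  · refine Or.inr (Subtype.ext ?_)
    rw [hc, e, emA_val]
    ext (i | i) (j | j) <;> fin_cases i <;> fin_cases j <;> simp [matA, slH, Matrix.one_apply]

theorem sp4_presentations :
    (∃ rels : Finset (FreeGroup (Fin 6)), rels.card ≤ 35 ∧
      Nonempty (PresentedGroup (↑rels : Set (FreeGroup (Fin 6))) ≃* Matrix.symplecticGroup (Fin 2) F)) ∧
    (∃ rels : Finset (FreeGroup (Fin 6)), rels.card ≤ 36 ∧
      Nonempty (PresentedGroup (↑rels : Set (FreeGroup (Fin 6))) ≃* Cfsg.PSp 2 F)) := by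
  classical
  obtain ⟨rels, v, hv, hc, hb⟩ := exists_presentation (F := F)
  refine ⟨⟨rels, by omega, ⟨MulEquiv.ofBijective _ hb⟩⟩, ?_⟩
  obtain ⟨w, hw⟩ := hb.2 (emA (slH (-1)))
  induction w with
  | H z =>
    refine ⟨insert z rels, (Finset.card_insert_le _ _).trans (by omega), ?_⟩
    let q : Sp4 →* Cfsg.PSp 2 F := QuotientGroup.mk' _
    have hzc : (emA (slH (-1)) : Sp4) ∈ Subgroup.center Sp4 := by
      refine Subgroup.mem_center_iff.2 fun g => Subtype.ext ?_
      have e : ((emA (slH (-1)) : Sp4) : M4) = (-1 : F) • (1 : M4) := by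
        rw [emA_val]
        ext (i | i) (j | j) <;> fin_cases i <;> fin_cases j <;> simp [matA, slH, Matrix.one_apply]
      simp [Submonoid.coe_mul, e]
    have hf : ∀ x, FreeGroup.lift (fun i => q (v i)) x = q (FreeGroup.lift v x) := fun x =>
      DFunLike.congr_fun (f := FreeGroup.lift fun i => q (v i)) (g := q.comp (FreeGroup.lift v))
        (FreeGroup.ext_hom _ _ fun i => by simp) x
    have hR : ∀ r ∈ ((insert z rels : Finset (FreeGroup (Fin 6))) : Set (FreeGroup (Fin 6))),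
        FreeGroup.lift (fun i => q (v i)) r = 1 := by
      intro r hr
      rw [hf]
      rcases Finset.mem_insert.1 (Finset.mem_coe.1 hr) with rfl | hr
      · rw [show FreeGroup.lift v r = _ from hw]; exact (QuotientGroup.eq_one_iff _).2 hzc
      · rw [hv r hr, map_one]
    refine ⟨MulEquiv.ofBijective (PresentedGroup.toGroup hR)
      ⟨(injective_iff_map_eq_one _).2 fun x hx => ?_, fun y => ?_⟩⟩
    · induction x with
      | H x =>
        have hx' : q (FreeGroup.lift v x) = 1 := by rw [← hf]; exact hx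
        have key : ∀ x', FreeGroup.lift v x' = FreeGroup.lift v x →
            PresentedGroup.mk ((insert z rels : Finset (FreeGroup (Fin 6))) : Set (FreeGroup (Fin 6))) x' =
              PresentedGroup.mk _ x := by
          intro x' e
          have h1 : PresentedGroup.mk (rels : Set (FreeGroup (Fin 6))) x' = PresentedGroup.mk _ x :=
            hb.1 e
          have h2 : x' * x⁻¹ ∈ Subgroup.normalClosure (rels : Set (FreeGroup (Fin 6))) := by
            rw [← PresentedGroup.mk_eq_one_iff, map_mul, map_inv, h1, mul_inv_cancel]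
          have h3 := PresentedGroup.mk_eq_one_iff.2 (Subgroup.normalClosure_mono
            (show (rels : Set (FreeGroup (Fin 6))) ⊆ ↑(insert z rels) from fun r hr =>
              Finset.mem_insert_of_mem hr) h2)
          rwa [map_mul, map_inv, mul_inv_eq_one] at h3
        rcases center_pm _ ((QuotientGroup.eq_one_iff _).1 hx') with e | e
        · rw [← key 1 (by rw [map_one, e]), map_one]
        · rw [← key z (hw.trans e.symm)]
          exact PresentedGroup.one_of_mem (Finset.mem_coe.2 (Finset.mem_insert_self _ _))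
    · obtain ⟨y', rfl⟩ := QuotientGroup.mk'_surjective _ y
      obtain ⟨x, rfl⟩ := hb.2 y'
      induction x with
      | H x => exact ⟨PresentedGroup.mk _ x, hf x⟩

end Cfsg.Agent.Lie.Sp4Pres
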