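import Cfsg.Agent.Lib.Lie.Sl2PresFinal
import Cfsg.Agent.Lib.Lie.SLnPres

/-!
Two copies of `SL₂(F)` tied by finitely many relations of type `C₂`: the root subgroups, the torus
and the Bruhat cells of the group they generate.
-/

set_option autoImplicit false
set_option linter.unusedSectionVars false

namespace Cfsg.Agent.Lie.Sp4Pres

open Matrix Cfsg.Agent.Lie.Sl2Pres
open scoped commutatorElement

variable {F : Type*} [Field F] [Fintype F] {G : Type*} [Group G]

local notation "SL2" => SpecialLinearGroup (Fin 2) F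

theorem slW_slH (z : Fˣ) : (slW : SL2) * slH z * slW⁻¹ = slH z⁻¹ := by
  rw [mul_inv_eq_iff_eq_mul]
  refine Subtype.ext ?_
  show (slW : SL2).val * (slH z).val = (slH z⁻¹).val * (slW : SL2).val
  simp [slW, slH]

theorem slW_sq : (slW : SL2) * slW = slH (-1) := by
  refine Subtype.ext ?_
  show (slW : SL2).val * (slW : SL2).val = _
  simp [slW, slH]

theorem slH_slW (z : Fˣ) : slH z * slW * (slH z)⁻¹ = slH (z * z) * (slW : SL2) := by
  have h := slW_slH z⁻¹
  rw [inv_inv, mul_inv_eq_iff_eq_mul] at h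
  rw [slH_inv, mul_assoc, h, ← mul_assoc, ← slH_mul]

theorem slU_bruhat {t : F} (ht : t ≠ 0) : (slW : SL2) * slU t * slW =
    slU (-t⁻¹) * slH (-(Units.mk0 t ht)⁻¹) * slW * slU (-t⁻¹) := by
  refine Subtype.ext ?_
  show (slW : SL2).val * (slU t).val * (slW : SL2).val = (slU (-t⁻¹)).val *
    (slH (-(Units.mk0 t ht)⁻¹)).val * (slW : SL2).val * (slU (-t⁻¹)).val
  simp [slW, slU, slH, ht]

/-- The upper unitriangular subgroup. -/
def upper : Subgroup SL2 where
  carrier := Set.range slU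
  mul_mem' := by rintro _ _ ⟨x, rfl⟩ ⟨y, rfl⟩; exact ⟨x + y, slU_add x y⟩
  one_mem' := ⟨0, slU_zero⟩
  inv_mem' := by
    rintro _ ⟨x, rfl⟩
    exact ⟨-x, (inv_eq_of_mul_eq_one_right (by rw [← slU_add, add_neg_cancel, slU_zero])).symm⟩

/-- Conjugate of a subgroup. -/
def cj (g : G) (S : Subgroup G) : Subgroup G := S.map (MulAut.conj g).toMonoidHom

theorem mem_cj {g x : G} {S : Subgroup G} : x ∈ cj g S ↔ g⁻¹ * x * g ∈ S := by
  constructor
  · rintro ⟨y, hy, rfl⟩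
    show g⁻¹ * (g * y * g⁻¹) * g ∈ S
    rwa [show g⁻¹ * (g * y * g⁻¹) * g = y by group]
  · intro h
    exact ⟨_, h, show g * (g⁻¹ * x * g) * g⁻¹ = x by group⟩

theorem cj_mul (g h : G) (S : Subgroup G) : cj (g * h) S = cj g (cj h S) := by
  ext x
  simp only [mem_cj]
  rw [show (g * h)⁻¹ * x * (g * h) = h⁻¹ * (g⁻¹ * x * g) * h by group]

theorem conj_mem {g x : G} {S : Subgroup G} (hx : x ∈ S) : g * x * g⁻¹ ∈ cj g S := ⟨x, hx, rfl⟩

theorem conj_le {g : G} {S S' : Subgroup G} (h : cj g S = S') {x : G} (hx : x ∈ S) :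
    g * x * g⁻¹ ∈ S' := h ▸ conj_mem hx

/-- `g` scales the root subgroup of `i` by `d`. -/
structure Scales (i : SpecialLinearGroup (Fin 2) F →* G) (g : G) (d : Fˣ) : Prop where
  onU : ∀ t, g * i (slU t) * g⁻¹ = i (slU ((d : F) * t))
  onW : g * i slW * g⁻¹ = i (slH d * slW)
  comm : ∀ z, Commute g (i (slH z))

namespace Scales

variable {i : SpecialLinearGroup (Fin 2) F →* G} {g g' : G} {d d' : Fˣ}

theorem one : Scales i (1 : G) 1 := by
  refine ⟨fun t => ?_, ?_, fun z => Commute.one_left _⟩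
  · simp
  · simp [slH_one]

theorem mul (h : Scales i g d) (h' : Scales i g' d') : Scales i (g * g') (d * d') := by
  refine ⟨fun t => ?_, ?_, fun z => (h.comm z).mul_left (h'.comm z)⟩
  · rw [show g * g' * i (slU t) * (g * g')⁻¹ = g * (g' * i (slU t) * g'⁻¹) * g⁻¹ by group, h'.onU,
      h.onU, Units.val_mul, mul_assoc]
  · rw [show g * g' * i slW * (g * g')⁻¹ = g * (g' * i slW * g'⁻¹) * g⁻¹ by group, h'.onW, map_mul,
      ← mul_assoc, (h.comm d').eq, mul_assoc (i (slH d')), mul_assoc (i (slH d')), h.onW,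
      ← map_mul i, ← mul_assoc, ← slH_mul, mul_comm d']

theorem pow (h : Scales i g d) (n : ℕ) : Scales i (g ^ n) (d ^ n) := by
  induction n with
  | zero => simpa using Scales.one
  | succ n ih => simpa only [pow_succ] using ih.mul h

theorem fix (h : Scales i g d) : cj g (upper.map i) = upper.map i := by
  ext x
  rw [mem_cj]
  constructor
  · rintro ⟨y, ⟨t, rfl⟩, e⟩
    refine ⟨slU ((d : F) * t), ⟨_, rfl⟩, ?_⟩
    rw [← h.onU, e]; group
  · rintro ⟨y, ⟨t, rfl⟩, rfl⟩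
    refine ⟨slU ((d⁻¹ : Fˣ) * t), ⟨_, rfl⟩, ?_⟩
    have e := h.onU ((d⁻¹ : Fˣ) * t)
    rw [Units.mul_inv_cancel_left] at e
    rw [← e]; group

end Scales

/-- The values on the three generators. -/
structure ScaleGen (ω : Fˣ) (i : SpecialLinearGroup (Fin 2) F →* G) (g : G) (d : Fˣ) : Prop where
  u : g * i (slU 1) * g⁻¹ = i (slU (d : F))
  w : g * i slW * g⁻¹ = i (slH d * slW)
  h : g * i (slH ω) * g⁻¹ = i (slH ω)

/-- The relations between the two copies. -/
structure Rels (ω : Fˣ) (ia ib : SpecialLinearGroup (Fin 2) F →* G) : Prop where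
  hb_a : ScaleGen ω ia (ib (slH ω)) ω⁻¹
  ha_b : ScaleGen ω ib (ia (slH ω)) (ω * ω)⁻¹
  m_a : ScaleGen ω ia ((ib slW)⁻¹ * ia slW * ib slW) (-1)
  m_b : ScaleGen ω ib ((ia slW)⁻¹ * ib slW * ia slW) 1
  c1 : ⁅ia (slU 1), ib (slU 1)⁆ =
    (ib slW * ia (slU (-1)) * (ib slW)⁻¹) * (ia slW * ib (slU 1) * (ia slW)⁻¹)
  c2 : ⁅ia (slU 1), ib slW * ia (slU 1) * (ib slW)⁻¹⁆ = ia slW * ib (slU (-2)) * (ia slW)⁻¹
  c3 : ⁅ib (slU 1), ia slW * ib (slU 1) * (ia slW)⁻¹⁆ = 1
  c4 : ⁅ib (slU 1), ib slW * ia (slU 1) * (ib slW)⁻¹⁆ = 1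

/-- Reflection in the short fundamental root, on root indices. -/
def sa : Fin 8 → Fin 8 := ![4, 3, 2, 1, 0, 7, 6, 5]

/-- Reflection in the long fundamental root, on root indices. -/
def sb : Fin 8 → Fin 8 := ![2, 5, 0, 3, 6, 1, 4, 7]

variable {ω : Fˣ} {ia ib : SpecialLinearGroup (Fin 2) F →* G}

variable (ia ib) in
/-- Root subgroups: `e₁-e₂, 2e₂, e₁+e₂, 2e₁` and their negatives. -/
def R : Fin 8 → Subgroup G :=
  ![upper.map ia, upper.map ib, cj (ib slW) (upper.map ia), cj (ia slW) (upper.map ib),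
    cj (ia slW) (upper.map ia), cj (ib slW) (upper.map ib),
    cj (ib slW) (cj (ia slW) (upper.map ia)), cj (ia slW) (cj (ib slW) (upper.map ib))]

variable (ia ib) in
/-- A torus element. -/
def T (p q : Fˣ) : G := ia (slH p) * ib (slH q)

/-- A primitive element. -/
structure Prim (ω : Fˣ) : Prop where
  gen : ∀ x : Fˣ, ∃ n : ℕ, x = ω ^ n
  ord : orderOf (ω : F) = Nat.card F - 1

theorem sq_pow (n : ℕ) : ((ω : F) ^ 2) ^ n = ((ω ^ n * ω ^ n : Fˣ) : F) := by
  push_cast; ring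

theorem ScaleGen.scales (hω : Prim ω) {i : SpecialLinearGroup (Fin 2) F →* G} {g : G} {d : Fˣ} (h : ScaleGen ω i g d) :
    Scales i g d := by
  have hc : ∀ z, Commute g (i (slH z)) := by
    intro z
    obtain ⟨n, rfl⟩ := hω.gen z
    rw [← slH_pow, map_pow]
    exact Commute.pow_right (mul_inv_eq_iff_eq_mul.1 h.h) n
  refine ⟨Sl3Pres.all_of_span (SLnPres.sq_span hω.ord)
    (P := fun t => g * i (slU t) * g⁻¹ = i (slU ((d : F) * t))) (by simp [slU_zero]) ?_ ?_, h.w, hc⟩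
  · intro x y hx hy
    rw [slU_add, map_mul, mul_add, slU_add, map_mul, ← hx, ← hy]
    group
  · rintro _ ⟨n, rfl⟩
    have e : ∀ x, i (slH (ω ^ n)) * i (slU x) * (i (slH (ω ^ n)))⁻¹ =
        i (slU (((ω : F) ^ 2) ^ n * x)) := fun x => by
      rw [← map_mul, ← map_inv, ← map_mul, slH_conj]
      congr 2
      push_cast; ring
    have e1 := e 1
    rw [mul_one] at e1
    have hz := hc (ω ^ n)
    calc g * i (slU (((ω : F) ^ 2) ^ n)) * g⁻¹ =
          g * (i (slH (ω ^ n)) * i (slU 1) * (i (slH (ω ^ n)))⁻¹) * g⁻¹ := by rw [e1]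
      _ = (g * i (slH (ω ^ n))) * i (slU 1) * (g * i (slH (ω ^ n)))⁻¹ := by group
      _ = i (slH (ω ^ n)) * (g * i (slU 1) * g⁻¹) * (i (slH (ω ^ n)))⁻¹ := by rw [hz.eq]; group
      _ = _ := by rw [h.u, e, mul_comm]

theorem own_scales {i : SpecialLinearGroup (Fin 2) F →* G} (z : Fˣ) : Scales i (i (slH z)) (z * z) := by
  refine ⟨fun t => ?_, ?_, fun y => ?_⟩
  · rw [← map_mul, ← map_inv, ← map_mul, slH_conj, Units.val_mul, pow_two]
  · rw [← map_mul, ← map_inv, ← map_mul, slH_slW]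
  · exact Commute.map (show Commute (slH z) (slH y) by
      show _ * _ = _ * _
      rw [← slH_mul, ← slH_mul, mul_comm]) i

theorem W_conj {i : SpecialLinearGroup (Fin 2) F →* G} {g : G} {d : Fˣ} (h : Scales i g d) :
    (i slW)⁻¹ * g * i slW = i (slH d⁻¹) * g := by
  have e := h.onW
  rw [mul_inv_eq_iff_eq_mul] at e
  rw [mul_assoc, e, ← mul_assoc, ← map_inv, ← map_mul, ← mul_assoc]
  congr 2
  have := slW_slH (F := F) d⁻¹
  rw [inv_inv, mul_inv_eq_iff_eq_mul] at this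
  rw [mul_assoc, ← this, inv_mul_cancel_left]

theorem W_conj_own {i : SpecialLinearGroup (Fin 2) F →* G} (z : Fˣ) :
    (i slW)⁻¹ * i (slH z) * i slW = i (slH z⁻¹) := by
  rw [← map_inv, ← map_mul, ← map_mul]
  congr 1
  have := slW_slH (F := F) z⁻¹
  rw [inv_inv, mul_inv_eq_iff_eq_mul] at this
  rw [mul_assoc, ← this, inv_mul_cancel_left]

section

variable (d : Rels ω ia ib) (hω : Prim ω)
include d hω

theorem hb_scales (q : Fˣ) : Scales ia (ib (slH q)) q⁻¹ := by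
  obtain ⟨n, rfl⟩ := hω.gen q
  rw [← slH_pow, map_pow, ← inv_pow]
  exact (d.hb_a.scales hω).pow n

theorem ha_scales (p : Fˣ) : Scales ib (ia (slH p)) (p * p)⁻¹ := by
  obtain ⟨n, rfl⟩ := hω.gen p
  rw [← slH_pow, map_pow, ← mul_pow, ← inv_pow]
  exact (d.ha_b.scales hω).pow n

theorem T_comm (p q : Fˣ) : Commute (ia (slH p)) (ib (slH q)) :=
  ((hb_scales d hω q).comm p).symm

theorem T_mul (p q p' q' : Fˣ) : T ia ib p q * T ia ib p' q' = T ia ib (p * p') (q * q') := by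
  simp only [T, slH_mul, map_mul]
  rw [mul_assoc, ← mul_assoc (ib (slH q)), ← (T_comm d hω p' q).eq]
  simp only [mul_assoc]

theorem T_xa (p q : Fˣ) : Scales ia (T ia ib p q) (p * p * q⁻¹) :=
  (own_scales p).mul (hb_scales d hω q)

theorem T_xb (p q : Fˣ) : Scales ib (T ia ib p q) ((p * p)⁻¹ * (q * q)) :=
  (ha_scales d hω p).mul (own_scales q)

theorem nb_conj_T (p q : Fˣ) : (ib slW)⁻¹ * T ia ib p q * ib slW = T ia ib p (p * p * q⁻¹) := by
  have h1 := W_conj (ha_scales d hω p)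
  have h2 := W_conj_own (i := ib) q
  rw [inv_inv] at h1
  calc (ib slW)⁻¹ * T ia ib p q * ib slW =
        ((ib slW)⁻¹ * ia (slH p) * ib slW) * ((ib slW)⁻¹ * ib (slH q) * ib slW) := by
          rw [T]; group
    _ = ib (slH (p * p)) * ia (slH p) * ib (slH q⁻¹) := by rw [h1, h2]
    _ = _ := by rw [← (T_comm d hω p (p * p)).eq, mul_assoc, ← map_mul, ← slH_mul]; rfl

theorem na_conj_T (p q : Fˣ) : (ia slW)⁻¹ * T ia ib p q * ia slW = T ia ib (p⁻¹ * q) q := by
  have h1 := W_conj_own (i := ia) p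
  have h2 := W_conj (hb_scales d hω q)
  rw [inv_inv] at h2
  calc (ia slW)⁻¹ * T ia ib p q * ia slW =
        ((ia slW)⁻¹ * ia (slH p) * ia slW) * ((ia slW)⁻¹ * ib (slH q) * ia slW) := by
          rw [T]; group
    _ = ia (slH p⁻¹) * (ia (slH q) * ib (slH q)) := by rw [h1, h2]
    _ = _ := by rw [← mul_assoc, ← map_mul, ← slH_mul]; rfl

theorem T_one : T ia ib 1 1 = 1 := by simp [T, slH_one]

theorem T_inv (p q : Fˣ) : (T ia ib p q)⁻¹ = T ia ib p⁻¹ q⁻¹ :=
  inv_eq_of_mul_eq_one_right (by rw [T_mul d hω, mul_inv_cancel, mul_inv_cancel, T_one d hω])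

/-- The torus. -/
def torus : Subgroup G where
  carrier := Set.range fun z : Fˣ × Fˣ => T ia ib z.1 z.2
  mul_mem' := by
    rintro _ _ ⟨x, rfl⟩ ⟨y, rfl⟩
    exact ⟨x * y, (T_mul d hω _ _ _ _).symm⟩
  one_mem' := ⟨1, T_one d hω⟩
  inv_mem' := by rintro _ ⟨x, rfl⟩; exact ⟨x⁻¹, (T_inv d hω _ _).symm⟩

theorem na_torus {h : G} (hh : h ∈ torus d hω) : (ia slW)⁻¹ * h * ia slW ∈ torus d hω := by
  obtain ⟨⟨p, q⟩, rfl⟩ := hh
  exact ⟨(p⁻¹ * q, q), (na_conj_T d hω p q).symm⟩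

theorem nb_torus {h : G} (hh : h ∈ torus d hω) : (ib slW)⁻¹ * h * ib slW ∈ torus d hω := by
  obtain ⟨⟨p, q⟩, rfl⟩ := hh
  exact ⟨(p, p * p * q⁻¹), (nb_conj_T d hω p q).symm⟩

theorem na_sq : ia slW * ia slW ∈ torus d hω :=
  ⟨(-1, 1), by simp [T, ← map_mul, slW_sq, slH_one]⟩

theorem nb_sq : ib slW * ib slW ∈ torus d hω :=
  ⟨(1, -1), by simp [T, ← map_mul, slW_sq, slH_one]⟩

theorem torus_fix (r : Fin 8) : ∀ {h : G}, h ∈ torus d hω → cj h (R ia ib r) = R ia ib r := by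
  have hA : ∀ {h : G}, h ∈ torus d hω → cj h (upper.map ia) = upper.map ia := by
    rintro _ ⟨⟨p, q⟩, rfl⟩; exact (T_xa d hω p q).fix
  have hB : ∀ {h : G}, h ∈ torus d hω → cj h (upper.map ib) = upper.map ib := by
    rintro _ ⟨⟨p, q⟩, rfl⟩; exact (T_xb d hω p q).fix
  have ha : ∀ {S : Subgroup G}, (∀ {h : G}, h ∈ torus d hω → cj h S = S) →
      ∀ {h : G}, h ∈ torus d hω → cj h (cj (ia slW) S) = cj (ia slW) S := by
    intro S hS h hh
    rw [← cj_mul, show h * ia slW = ia slW * ((ia slW)⁻¹ * h * ia slW) by group, cj_mul,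
      hS (na_torus d hω hh)]
  have hb : ∀ {S : Subgroup G}, (∀ {h : G}, h ∈ torus d hω → cj h S = S) →
      ∀ {h : G}, h ∈ torus d hω → cj h (cj (ib slW) S) = cj (ib slW) S := by
    intro S hS h hh
    rw [← cj_mul, show h * ib slW = ib slW * ((ib slW)⁻¹ * h * ib slW) by group, cj_mul,
      hS (nb_torus d hω hh)]
  intro h hh
  fin_cases r
  exacts [hA hh, hB hh, hb hA hh, ha hB hh, ha hA hh, hb hB hh, hb (ha hA) hh, ha (hb hB) hh]

theorem cj_na (r : Fin 8) : cj (ia slW) (R ia ib r) = R ia ib (sa r) := by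
  have hsq : ∀ s, cj (ia slW * ia slW) (R ia ib s) = R ia ib s :=
    fun s => torus_fix d hω s (na_sq d hω)
  have hm := d.m_a.scales hω
  set m := (ib slW)⁻¹ * ia slW * ib slW with hmdef
  fin_cases r
  · rfl
  · rfl
  · show cj (ia slW) (cj (ib slW) (upper.map ia)) = cj (ib slW) (upper.map ia)
    rw [← cj_mul, show ia slW * ib slW = ib slW * m by rw [hmdef]; group, cj_mul, hm.fix]
  · show cj (ia slW) (cj (ia slW) (upper.map ib)) = upper.map ib
    rw [← cj_mul]; exact hsq 1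
  · show cj (ia slW) (cj (ia slW) (upper.map ia)) = upper.map ia
    rw [← cj_mul]; exact hsq 0
  · rfl
  · show cj (ia slW) (cj (ib slW) (cj (ia slW) (upper.map ia))) =
      cj (ib slW) (cj (ia slW) (upper.map ia))
    have e : m * ia slW = ia (slH (-1)) * ia slW * m := by
      rw [← map_mul, ← hm.onW]; group
    rw [← cj_mul, show ia slW * ib slW = ib slW * m by rw [hmdef]; group, cj_mul, ← cj_mul m, e,
      cj_mul (_ * _) m, hm.fix, cj_mul]
    exact congrArg _ (torus_fix d hω 4 ⟨(-1, 1), by simp [T, slH_one]⟩)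
  · show cj (ia slW) (cj (ia slW) (cj (ib slW) (upper.map ib))) = cj (ib slW) (upper.map ib)
    rw [← cj_mul]; exact hsq 5

theorem cj_nb (r : Fin 8) : cj (ib slW) (R ia ib r) = R ia ib (sb r) := by
  have hsq : ∀ s, cj (ib slW * ib slW) (R ia ib s) = R ia ib s :=
    fun s => torus_fix d hω s (nb_sq d hω)
  have hm := d.m_b.scales hω
  set m := (ia slW)⁻¹ * ib slW * ia slW with hmdef
  fin_cases r
  · rfl
  · rfl
  · show cj (ib slW) (cj (ib slW) (upper.map ia)) = upper.map ia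
    rw [← cj_mul]; exact hsq 0
  · show cj (ib slW) (cj (ia slW) (upper.map ib)) = cj (ia slW) (upper.map ib)
    rw [← cj_mul, show ib slW * ia slW = ia slW * m by rw [hmdef]; group, cj_mul, hm.fix]
  · rfl
  · show cj (ib slW) (cj (ib slW) (upper.map ib)) = upper.map ib
    rw [← cj_mul]; exact hsq 1
  · show cj (ib slW) (cj (ib slW) (cj (ia slW) (upper.map ia))) = cj (ia slW) (upper.map ia)
    rw [← cj_mul]; exact hsq 4
  · show cj (ib slW) (cj (ia slW) (cj (ib slW) (upper.map ib))) =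
      cj (ia slW) (cj (ib slW) (upper.map ib))
    have e : m * ib slW = ib slW * m := by
      have h := hm.onW
      rw [slH_one, one_mul, mul_inv_eq_iff_eq_mul] at h
      exact h
    rw [← cj_mul, show ib slW * ia slW = ia slW * m by rw [hmdef]; group, cj_mul, ← cj_mul m, e,
      cj_mul _ m, hm.fix]

end

/-- The root element `e₁ + e₂`. -/
def xA (ia ib : SpecialLinearGroup (Fin 2) F →* G) (t : F) : G := ib slW * ia (slU t) * (ib slW)⁻¹

/-- The root element `2e₁`. -/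
def xB (ia ib : SpecialLinearGroup (Fin 2) F →* G) (t : F) : G := ia slW * ib (slU t) * (ia slW)⁻¹

theorem mem_R0 {x : G} : x ∈ R ia ib 0 ↔ ∃ t, ia (slU t) = x :=
  ⟨fun ⟨_, ⟨t, rfl⟩, e⟩ => ⟨t, e⟩, fun ⟨t, e⟩ => ⟨_, ⟨t, rfl⟩, e⟩⟩

theorem mem_R1 {x : G} : x ∈ R ia ib 1 ↔ ∃ t, ib (slU t) = x :=
  ⟨fun ⟨_, ⟨t, rfl⟩, e⟩ => ⟨t, e⟩, fun ⟨t, e⟩ => ⟨_, ⟨t, rfl⟩, e⟩⟩

theorem mem_R2 {x : G} : x ∈ R ia ib 2 ↔ ∃ t, xA ia ib t = x := by
  constructor
  · rintro ⟨_, ⟨_, ⟨t, rfl⟩, rfl⟩, rfl⟩; exact ⟨t, rfl⟩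
  · rintro ⟨t, rfl⟩; exact conj_mem ⟨_, ⟨t, rfl⟩, rfl⟩

theorem mem_R3 {x : G} : x ∈ R ia ib 3 ↔ ∃ t, xB ia ib t = x := by
  constructor
  · rintro ⟨_, ⟨_, ⟨t, rfl⟩, rfl⟩, rfl⟩; exact ⟨t, rfl⟩
  · rintro ⟨t, rfl⟩; exact conj_mem ⟨_, ⟨t, rfl⟩, rfl⟩

theorem xA_add (s t : F) : xA ia ib (s + t) = xA ia ib s * xA ia ib t := by
  simp only [xA, slU_add, map_mul]; group

theorem xB_add (s t : F) : xB ia ib (s + t) = xB ia ib s * xB ia ib t := by
  simp only [xB, slU_add, map_mul]; group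

/-- A relation additive in both arguments and invariant under a spanning set of scalings. -/
theorem pairs (hω : Prim ω) {P : F → F → Prop} (h0l : ∀ t, P 0 t) (h0r : ∀ s, P s 0)
    (hl : ∀ s s', (∀ t, P s t) → (∀ t, P s' t) → ∀ t, P (s + s') t)
    (hr : ∀ s t t', P s t → P s t' → P s (t + t'))
    (h11 : ∀ i j : ℕ, P ((ω ^ i * ω ^ i : Fˣ) : F) ((ω ^ j * ω ^ j : Fˣ) : F)) :
    ∀ s t, P s t := by
  intro s
  refine Sl3Pres.all_of_span (SLnPres.sq_span hω.ord) (P := fun s => ∀ t, P s t) h0l hl ?_ s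
  rintro _ ⟨i, rfl⟩
  refine Sl3Pres.all_of_span (SLnPres.sq_span hω.ord) (P := fun t => P _ t) (h0r _) (hr _) ?_
  rintro _ ⟨j, rfl⟩
  simp only [sq_pow]
  exact h11 i j

section

variable (d : Rels ω ia ib) (hω : Prim ω)
include d hω

theorem T_conj_a (p q : Fˣ) (t : F) :
    T ia ib p q * ia (slU t) * (T ia ib p q)⁻¹ = ia (slU ((p * p * q⁻¹ : Fˣ) * t)) :=
  (T_xa d hω p q).onU t

theorem T_conj_b (p q : Fˣ) (t : F) :
    T ia ib p q * ib (slU t) * (T ia ib p q)⁻¹ = ib (slU (((p * p)⁻¹ * (q * q) : Fˣ) * t)) :=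
  (T_xb d hω p q).onU t

theorem T_conj_A (p q : Fˣ) (t : F) :
    T ia ib p q * xA ia ib t * (T ia ib p q)⁻¹ = xA ia ib ((q : F) * t) := by
  have e := T_conj_a d hω p (p * p * q⁻¹) t
  rw [← nb_conj_T d hω p q, show p * p * (p * p * q⁻¹)⁻¹ = q from Units.ext (by push_cast; field_simp)] at e
  simp only [xA, ← e]
  group

theorem T_conj_B (p q : Fˣ) (t : F) :
    T ia ib p q * xB ia ib t * (T ia ib p q)⁻¹ = xB ia ib (((p * p : Fˣ) : F) * t) := by
  have e := T_conj_b d hω (p⁻¹ * q) q t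
  rw [← na_conj_T d hω p q, show ((p⁻¹ * q) * (p⁻¹ * q))⁻¹ * (q * q) = p * p from Units.ext (by push_cast; field_simp)] at e
  simp only [xB, ← e]
  group

theorem comm_bB {x y : G} (hx : x ∈ R ia ib 1) (hy : y ∈ R ia ib 3) : Commute x y := by
  obtain ⟨s, rfl⟩ := mem_R1.1 hx
  obtain ⟨t, rfl⟩ := mem_R3.1 hy
  refine pairs hω (P := fun s t => Commute (ib (slU s)) (xB ia ib t)) (fun t => by simp [slU_zero])
    (fun s => by simp [xB, slU_zero]) ?_ ?_ ?_ s t
  · intro s s' h h' t; rw [slU_add, map_mul]; exact (h t).mul_left (h' t)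
  · intro s t t' h h'; rw [xB_add]; exact h.mul_right h'
  · intro i j
    have h := (Commute.conj_iff (T ia ib (ω ^ j) (ω ^ (i + j)))).2
      (commutatorElement_eq_one_iff_commute.1 d.c3)
    change Commute (_ * ib (slU 1) * _) (_ * xB ia ib 1 * _) at h
    rw [T_conj_b d hω, T_conj_B d hω, mul_one, mul_one, show
      (ω ^ j * ω ^ j)⁻¹ * (ω ^ (i + j) * ω ^ (i + j)) = ω ^ i * ω ^ i by
        rw [inv_mul_eq_iff_eq_mul, pow_add]; exact (mul_mul_mul_comm _ _ _ _).trans (mul_comm _ _)] at h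
    exact h

theorem comm_bA {x y : G} (hx : x ∈ R ia ib 1) (hy : y ∈ R ia ib 2) : Commute x y := by
  obtain ⟨s, rfl⟩ := mem_R1.1 hx
  obtain ⟨t, rfl⟩ := mem_R2.1 hy
  refine pairs hω (P := fun s t => Commute (ib (slU s)) (xA ia ib t)) (fun t => by simp [slU_zero])
    (fun s => by simp [xA, slU_zero]) ?_ ?_ ?_ s t
  · intro s s' h h' t; rw [slU_add, map_mul]; exact (h t).mul_left (h' t)
  · intro s t t' h h'; rw [xA_add]; exact h.mul_right h'
  · intro i j
    have h := (Commute.conj_iff (T ia ib ((ω ^ i)⁻¹ * (ω ^ j * ω ^ j)) (ω ^ j * ω ^ j))).2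
      (commutatorElement_eq_one_iff_commute.1 d.c4)
    change Commute (_ * ib (slU 1) * _) (_ * xA ia ib 1 * _) at h
    rw [T_conj_b d hω, T_conj_A d hω, mul_one, mul_one, show
      ((ω ^ i)⁻¹ * (ω ^ j * ω ^ j) * ((ω ^ i)⁻¹ * (ω ^ j * ω ^ j)))⁻¹ *
        (ω ^ j * ω ^ j * (ω ^ j * ω ^ j)) = ω ^ i * ω ^ i by
        apply Units.ext; push_cast; field_simp] at h
    exact h

theorem comm_conj {g : G} {a b a' b' : Fin 8} (ha : cj g (R ia ib a) = R ia ib a')
    (hb : cj g (R ia ib b) = R ia ib b')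
    (h : ∀ {x y : G}, x ∈ R ia ib a → y ∈ R ia ib b → Commute x y) {x y : G} (hx : x ∈ R ia ib a')
    (hy : y ∈ R ia ib b') : Commute x y := by
  rw [← ha] at hx
  rw [← hb] at hy
  obtain ⟨x, hx, rfl⟩ := hx
  obtain ⟨y, hy, rfl⟩ := hy
  exact (h hx hy).map _

theorem comm_BA {x y : G} (hx : x ∈ R ia ib 3) (hy : y ∈ R ia ib 2) : Commute x y :=
  comm_conj d hω (cj_na d hω 1) (cj_na d hω 2) (comm_bA d hω) hx hy

theorem comm_aB {x y : G} (hx : x ∈ R ia ib 0) (hy : y ∈ R ia ib 3) : Commute x y :=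
  comm_conj d hω (cj_nb d hω 2) (cj_nb d hω 3) (fun h h' => (comm_BA d hω h' h).symm) hx hy

/-- `⁅e₁-e₂, e₁+e₂⁆` lies in the root subgroup of `2e₁`. -/
theorem comm_aA (s t : F) : ⁅ia (slU s), xA ia ib t⁆ ∈ R ia ib 3 := by
  refine pairs hω (P := fun s t => ⁅ia (slU s), xA ia ib t⁆ ∈ R ia ib 3)
    (fun t => by simp [slU_zero, one_mem]) (fun s => by simp [xA, slU_zero, one_mem]) ?_ ?_ ?_ s t
  · intro s s' h h' t
    have hc := comm_aB d hω (mem_R0 (ib := ib).2 ⟨s, rfl⟩) (h' t)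
    have e : ⁅ia (slU (s + s')), xA ia ib t⁆ =
        ia (slU s) * ⁅ia (slU s'), xA ia ib t⁆ * (ia (slU s))⁻¹ * ⁅ia (slU s), xA ia ib t⁆ := by
      simp only [commutatorElement_def, slU_add, map_mul]; group
    rw [e, hc.eq, mul_inv_cancel_right]
    exact mul_mem (h' t) (h t)
  · intro s t t' h h'
    have hc := (comm_BA d hω h' (mem_R2.2 ⟨t, rfl⟩)).symm
    have e : ⁅ia (slU s), xA ia ib (t + t')⁆ =
        ⁅ia (slU s), xA ia ib t⁆ * (xA ia ib t * ⁅ia (slU s), xA ia ib t'⁆ * (xA ia ib t)⁻¹) := by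
      simp only [commutatorElement_def, xA_add]; group
    rw [e, hc.eq, mul_inv_cancel_right]
    exact mul_mem h h'
  · intro i j
    have h : ⁅ia (slU 1), xA ia ib 1⁆ ∈ R ia ib 3 := mem_R3.2 ⟨-2, d.c2.symm⟩
    have h' := conj_le (torus_fix d hω 3
      (⟨(ω ^ i * ω ^ j, ω ^ j * ω ^ j), rfl⟩ : T ia ib _ _ ∈ torus d hω)) h
    rw [commutatorElement_def] at h'
    rw [show ∀ g a b : G, g * (a * b * a⁻¹ * b⁻¹) * g⁻¹ = ⁅g * a * g⁻¹, g * b * g⁻¹⁆ from
      fun g a b => by simp only [commutatorElement_def]; group, T_conj_a d hω, T_conj_A d hω,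
      mul_one, mul_one, show ω ^ i * ω ^ j * (ω ^ i * ω ^ j) * (ω ^ j * ω ^ j)⁻¹ = ω ^ i * ω ^ i by
        rw [mul_mul_mul_comm, mul_inv_cancel_right]] at h'
    exact h'

/-- `Z = ⟨e₁+e₂, 2e₁⟩`. -/
theorem a_conj_A {x y : G} (hx : x ∈ R ia ib 0) (hy : y ∈ R ia ib 2 ⊔ R ia ib 3) :
    x * y * x⁻¹ ∈ R ia ib 2 ⊔ R ia ib 3 := by
  suffices R ia ib 2 ⊔ R ia ib 3 ≤ Subgroup.comap (MulAut.conj x).toMonoidHom (R ia ib 2 ⊔ R ia ib 3) by
    exact Subgroup.mem_comap.1 (SetLike.le_def.1 this hy)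
  refine sup_le (fun y hy => ?_) fun y hy => ?_
  · obtain ⟨s, rfl⟩ := mem_R0.1 hx
    obtain ⟨t, rfl⟩ := mem_R2.1 hy
    show ia (slU s) * xA ia ib t * (ia (slU s))⁻¹ ∈ R ia ib 2 ⊔ R ia ib 3
    rw [show ia (slU s) * xA ia ib t * (ia (slU s))⁻¹ = ⁅ia (slU s), xA ia ib t⁆ * xA ia ib t by
      simp only [commutatorElement_def]; group]
    exact mul_mem (Subgroup.mem_sup_right (comm_aA d hω s t)) (Subgroup.mem_sup_left hy)
  · show x * y * x⁻¹ ∈ R ia ib 2 ⊔ R ia ib 3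
    rw [(comm_aB d hω hx hy).eq, mul_inv_cancel_right]
    exact Subgroup.mem_sup_right hy

theorem Z_comm_b {x y : G} (hx : x ∈ R ia ib 1) (hy : y ∈ R ia ib 2 ⊔ R ia ib 3) : Commute x y := by
  suffices R ia ib 2 ⊔ R ia ib 3 ≤ Subgroup.centralizer {x} from
    Subgroup.mem_centralizer_singleton_iff.1 (this hy) |>.symm
  exact sup_le (fun y hy => Subgroup.mem_centralizer_singleton_iff.2 (comm_bA d hω hx hy).eq.symm)
    fun y hy => Subgroup.mem_centralizer_singleton_iff.2 (comm_bB d hω hx hy).eq.symm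

theorem comm_ab (s t : F) : ⁅ia (slU s), ib (slU t)⁆ ∈ R ia ib 2 ⊔ R ia ib 3 := by
  refine pairs hω (P := fun s t => ⁅ia (slU s), ib (slU t)⁆ ∈ R ia ib 2 ⊔ R ia ib 3)
    (fun t => by simp [slU_zero, one_mem]) (fun s => by simp [slU_zero, one_mem]) ?_ ?_ ?_ s t
  · intro s s' h h' t
    rw [show ⁅ia (slU (s + s')), ib (slU t)⁆ =
      ia (slU s) * ⁅ia (slU s'), ib (slU t)⁆ * (ia (slU s))⁻¹ * ⁅ia (slU s), ib (slU t)⁆ by
        simp only [commutatorElement_def, slU_add, map_mul]; group]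
    exact mul_mem (a_conj_A d hω (mem_R0.2 ⟨s, rfl⟩) (h' t)) (h t)
  · intro s t t' h h'
    have e : ⁅ia (slU s), ib (slU (t + t'))⁆ =
        ⁅ia (slU s), ib (slU t)⁆ * (ib (slU t) * ⁅ia (slU s), ib (slU t')⁆ * (ib (slU t))⁻¹) := by
      simp only [commutatorElement_def, slU_add, map_mul]; group
    rw [e, (Z_comm_b d hω (mem_R1.2 ⟨t, rfl⟩) h').eq, mul_inv_cancel_right]
    exact mul_mem h h'
  · intro i j
    have h : ⁅ia (slU 1), ib (slU 1)⁆ ∈ R ia ib 2 ⊔ R ia ib 3 := by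
      rw [d.c1]
      exact mul_mem (Subgroup.mem_sup_left (mem_R2.2 ⟨-1, rfl⟩))
        (Subgroup.mem_sup_right (mem_R3.2 ⟨1, rfl⟩))
    set g := T ia ib (ω ^ i * ω ^ i * ω ^ j) (ω ^ i * ω ^ i * (ω ^ j * ω ^ j))
    have hg : g ∈ torus d hω := ⟨(_, _), rfl⟩
    have h' : g * ⁅ia (slU 1), ib (slU 1)⁆ * g⁻¹ ∈ R ia ib 2 ⊔ R ia ib 3 := by
      have := conj_mem (g := g) h
      rwa [cj, Subgroup.map_sup, ← cj, ← cj, torus_fix d hω 2 hg, torus_fix d hω 3 hg] at this
    rw [show g * ⁅ia (slU 1), ib (slU 1)⁆ * g⁻¹ =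
      ⁅g * ia (slU 1) * g⁻¹, g * ib (slU 1) * g⁻¹⁆ by
        simp only [commutatorElement_def]; group, T_conj_a d hω, T_conj_b d hω, mul_one, mul_one]
      at h'
    convert h' using 4 <;> congr 1 <;> apply Units.ext <;> push_cast <;> field_simp

end

/-- The positive root subgroup. -/
def U (ia ib : SpecialLinearGroup (Fin 2) F →* G) : Subgroup G := R ia ib 1 ⊔ R ia ib 2 ⊔ R ia ib 3 ⊔ R ia ib 0

section

variable (d : Rels ω ia ib) (hω : Prim ω)
include d hω

theorem a_normalizes_M : R ia ib 0 ≤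
    Subgroup.normalizer ((R ia ib 1 ⊔ R ia ib 2 ⊔ R ia ib 3 : Subgroup G) : Set G) := by
  have key : ∀ x ∈ R ia ib 0, ∀ y ∈ R ia ib 1 ⊔ R ia ib 2 ⊔ R ia ib 3,
      x * y * x⁻¹ ∈ R ia ib 1 ⊔ R ia ib 2 ⊔ R ia ib 3 := by
    intro x hx y hy
    suffices R ia ib 1 ⊔ (R ia ib 2 ⊔ R ia ib 3) ≤
        Subgroup.comap (MulAut.conj x).toMonoidHom (R ia ib 1 ⊔ (R ia ib 2 ⊔ R ia ib 3)) by
      rw [sup_assoc] at hy ⊢; exact Subgroup.mem_comap.1 (SetLike.le_def.1 this hy)
    refine sup_le (fun z hz => ?_) fun z hz => Subgroup.mem_sup_right (a_conj_A d hω hx hz)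
    obtain ⟨s, rfl⟩ := mem_R0.1 hx
    obtain ⟨t, rfl⟩ := mem_R1.1 hz
    show ia (slU s) * ib (slU t) * (ia (slU s))⁻¹ ∈ R ia ib 1 ⊔ (R ia ib 2 ⊔ R ia ib 3)
    rw [show ia (slU s) * ib (slU t) * (ia (slU s))⁻¹ = ⁅ia (slU s), ib (slU t)⁆ * ib (slU t) by
      simp only [commutatorElement_def]; group]
    exact mul_mem (Subgroup.mem_sup_right (comm_ab d hω s t)) (Subgroup.mem_sup_left hz)
  intro x hx
  rw [Subgroup.mem_normalizer_iff]
  refine fun y => ⟨key x hx y, fun h => ?_⟩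
  have := key x⁻¹ (inv_mem hx) _ h
  rwa [show x⁻¹ * (x * y * x⁻¹) * x⁻¹⁻¹ = y by group] at this

theorem b_normalizes : R ia ib 1 ≤
    Subgroup.normalizer ((R ia ib 0 ⊔ (R ia ib 2 ⊔ R ia ib 3) : Subgroup G) : Set G) := by
  have key : ∀ x ∈ R ia ib 1, ∀ y ∈ R ia ib 0 ⊔ (R ia ib 2 ⊔ R ia ib 3),
      x * y * x⁻¹ ∈ R ia ib 0 ⊔ (R ia ib 2 ⊔ R ia ib 3) := by
    intro x hx y hy
    suffices R ia ib 0 ⊔ (R ia ib 2 ⊔ R ia ib 3) ≤
        Subgroup.comap (MulAut.conj x).toMonoidHom (R ia ib 0 ⊔ (R ia ib 2 ⊔ R ia ib 3)) by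
      exact Subgroup.mem_comap.1 (SetLike.le_def.1 this hy)
    refine sup_le (fun z hz => ?_) fun z hz => ?_
    · obtain ⟨t, rfl⟩ := mem_R1.1 hx
      obtain ⟨s, rfl⟩ := mem_R0.1 hz
      show ib (slU t) * ia (slU s) * (ib (slU t))⁻¹ ∈ R ia ib 0 ⊔ (R ia ib 2 ⊔ R ia ib 3)
      rw [show ib (slU t) * ia (slU s) * (ib (slU t))⁻¹ =
        ⁅ia (slU s), ib (slU t)⁆⁻¹ * ia (slU s) by simp only [commutatorElement_def]; group]
      exact mul_mem (Subgroup.mem_sup_right (inv_mem (comm_ab d hω s t))) (Subgroup.mem_sup_left hz)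
    · show x * z * x⁻¹ ∈ R ia ib 0 ⊔ (R ia ib 2 ⊔ R ia ib 3)
      rw [(Z_comm_b d hω hx hz).eq, mul_inv_cancel_right]
      exact Subgroup.mem_sup_right hz
  intro x hx
  rw [Subgroup.mem_normalizer_iff]
  refine fun y => ⟨key x hx y, fun h => ?_⟩
  have := key x⁻¹ (inv_mem hx) _ h
  rwa [show x⁻¹ * (x * y * x⁻¹) * x⁻¹⁻¹ = y by group] at this

theorem U_split_a {u : G} (hu : u ∈ U ia ib) :
    ∃ t : F, ∃ m ∈ R ia ib 1 ⊔ R ia ib 2 ⊔ R ia ib 3, u = m * ia (slU t) := by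
  rw [U, ← SetLike.mem_coe,
    Subgroup.coe_mul_of_right_le_normalizer_left _ _ (a_normalizes_M d hω)] at hu
  obtain ⟨m, hm, x, hx, rfl⟩ := Set.mem_mul.1 hu
  obtain ⟨t, rfl⟩ := mem_R0.1 hx
  exact ⟨t, m, hm, rfl⟩

theorem U_split_b {u : G} (hu : u ∈ U ia ib) :
    ∃ t : F, ∃ m ∈ R ia ib 0 ⊔ (R ia ib 2 ⊔ R ia ib 3), u = m * ib (slU t) := by
  rw [U, show R ia ib 1 ⊔ R ia ib 2 ⊔ R ia ib 3 ⊔ R ia ib 0 =
      (R ia ib 0 ⊔ (R ia ib 2 ⊔ R ia ib 3)) ⊔ R ia ib 1 by ac_rfl, ← SetLike.mem_coe,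
    Subgroup.coe_mul_of_right_le_normalizer_left _ _ (b_normalizes d hω)] at hu
  obtain ⟨m, hm, x, hx, rfl⟩ := Set.mem_mul.1 hu
  obtain ⟨t, rfl⟩ := mem_R1.1 hx
  exact ⟨t, m, hm, rfl⟩

theorem U_normal_form {u : G} (hu : u ∈ U ia ib) : ∃ t r s e : F,
    u = ib (slU t) * xA ia ib r * xB ia ib s * ia (slU e) := by
  obtain ⟨e, m, hm, rfl⟩ := U_split_a d hω hu
  rw [← SetLike.mem_coe, Subgroup.coe_mul_of_right_le_normalizer_left _ _ (fun x hx => ?_)] at hm
  · obtain ⟨y, hy, z, hz, rfl⟩ := Set.mem_mul.1 hm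
    rw [Subgroup.coe_mul_of_right_le_normalizer_left _ _ (fun x hx => ?_)] at hy
    · obtain ⟨b, hb, a, ha, rfl⟩ := Set.mem_mul.1 hy
      obtain ⟨t, rfl⟩ := mem_R1.1 hb
      obtain ⟨r, rfl⟩ := mem_R2.1 ha
      obtain ⟨s, rfl⟩ := mem_R3.1 hz
      exact ⟨t, r, s, e, rfl⟩
    · refine Subgroup.centralizer_le_normalizer _ (Subgroup.mem_centralizer_iff.2 fun y hy => ?_)
      exact (comm_bA d hω hy hx).eq
  · refine Subgroup.centralizer_le_normalizer _ (Subgroup.mem_centralizer_iff.2 fun y hy => ?_)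
    suffices R ia ib 1 ⊔ R ia ib 2 ≤ Subgroup.centralizer {x} from
      Subgroup.mem_centralizer_singleton_iff.1 (this hy)
    exact sup_le (fun z hz => Subgroup.mem_centralizer_singleton_iff.2 (comm_bB d hω hz hx).eq)
      fun z hz => Subgroup.mem_centralizer_singleton_iff.2 (comm_BA d hω hx hz).eq.symm

theorem R_le_U {r : Fin 8} (hr : (r : ℕ) < 4) : R ia ib r ≤ U ia ib := by
  have hcases : ∀ r : Fin 8, (r : ℕ) < 4 → r = 0 ∨ r = 1 ∨ r = 2 ∨ r = 3 := by decide
  obtain rfl | rfl | rfl | rfl := hcases r hr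
  · exact le_sup_right
  · exact le_sup_left.trans (le_sup_left.trans le_sup_left)
  · exact le_sup_right.trans (le_sup_left.trans le_sup_left)
  · exact le_sup_right.trans le_sup_left

theorem torus_U {h u : G} (hh : h ∈ torus d hω) (hu : u ∈ U ia ib) : h * u * h⁻¹ ∈ U ia ib := by
  refine conj_le (S := U ia ib) ?_ hu
  simp only [U, cj, Subgroup.map_sup]
  exact congrArg₂ _ (congrArg₂ _ (congrArg₂ _ (torus_fix d hω 1 hh) (torus_fix d hω 2 hh))
    (torus_fix d hω 3 hh)) (torus_fix d hω 0 hh)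

/-- The Borel subgroup. -/
def B : Subgroup G where
  carrier := {g | ∃ u ∈ U ia ib, ∃ h ∈ torus d hω, g = u * h}
  mul_mem' := by
    rintro _ _ ⟨u, hu, h, hh, rfl⟩ ⟨u', hu', h', hh', rfl⟩
    exact ⟨u * (h * u' * h⁻¹), mul_mem hu (torus_U d hω hh hu'), h * h', mul_mem hh hh', by group⟩
  one_mem' := ⟨1, one_mem _, 1, one_mem _, (one_mul 1).symm⟩
  inv_mem' := by
    rintro _ ⟨u, hu, h, hh, rfl⟩
    exact ⟨h⁻¹ * u⁻¹ * h⁻¹⁻¹, torus_U d hω (inv_mem hh) (inv_mem hu), h⁻¹, inv_mem hh, by group⟩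

theorem U_le_B {u : G} (hu : u ∈ U ia ib) : u ∈ B d hω := ⟨u, hu, 1, one_mem _, (mul_one u).symm⟩

theorem torus_le_B {h : G} (hh : h ∈ torus d hω) : h ∈ B d hω :=
  ⟨1, one_mem _, h, hh, (one_mul h).symm⟩

end

/-- The product of Weyl elements over a word (`false`: short root). -/
def wd (ia ib : SpecialLinearGroup (Fin 2) F →* G) : List Bool → G
  | [] => 1
  | s :: w => (if s then ib slW else ia slW) * wd ia ib w

/-- The action of a word on roots: `n_w⁻¹ R r n_w = R (act w r)`. -/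
def act : List Bool → Fin 8 → Fin 8
  | [], r => r
  | s :: w, r => act w (if s then sb r else sa r)

/-- The eight representatives. -/
def reps : List (List Bool) :=
  [[], [false], [true], [false, true], [true, false], [false, true, false], [true, false, true],
    [false, true, false, true]]

section

variable (d : Rels ω ia ib) (hω : Prim ω)
include d hω

theorem wd_torus (w : List Bool) : ∀ {h : G}, h ∈ torus d hω →
    (wd ia ib w)⁻¹ * h * wd ia ib w ∈ torus d hω := by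
  induction w with
  | nil => intro h hh; simpa [wd] using hh
  | cons s w ih =>
    intro h hh
    have h1 : (if s then ib slW else ia slW)⁻¹ * h * (if s then ib slW else ia slW) ∈ torus d hω := by
      cases s
      · exact na_torus d hω hh
      · exact nb_torus d hω hh
    have h2 := ih h1
    convert h2 using 1
    simp only [wd]; group

theorem wd_R (w : List Bool) : ∀ r, cj (wd ia ib w)⁻¹ (R ia ib r) = R ia ib (act w r) := by
  induction w with
  | nil => intro r; ext x; simp [wd, act, mem_cj]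
  | cons s w ih =>
    intro r
    have e : cj (if s then ib slW else ia slW)⁻¹ (R ia ib r) =
        R ia ib (if s then sb r else sa r) := by
      cases s
      · show cj (ia slW)⁻¹ _ = R ia ib (sa r)
        rw [← torus_fix d hω (sa r) (inv_mem (na_sq d hω)), ← cj_na d hω r, ← cj_mul,
          _root_.mul_inv_rev, mul_assoc, inv_mul_cancel, mul_one]
      · show cj (ib slW)⁻¹ _ = R ia ib (sb r)
        rw [← torus_fix d hω (sb r) (inv_mem (nb_sq d hω)), ← cj_nb d hω r, ← cj_mul,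
          _root_.mul_inv_rev, mul_assoc, inv_mul_cancel, mul_one]
    rw [wd, _root_.mul_inv_rev, cj_mul, e, ih]
    rfl

/-- `g` lies in a cell. -/
def InCells (g : G) : Prop :=
  ∃ w ∈ reps, ∃ b ∈ B d hω, ∃ b' ∈ B d hω, g = b * wd ia ib w * b'

theorem inCells_of {w : List Bool} (hw : w ∈ reps) {b b' : G} (hb : b ∈ B d hω) (hb' : b' ∈ B d hω) :
    InCells d hω (b * wd ia ib w * b') := ⟨w, hw, b, hb, b', hb', rfl⟩

theorem inCells_B_mul {b g : G} (hb : b ∈ B d hω) (hg : InCells d hω g) :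
    InCells d hω (b * g) := by
  obtain ⟨w, hw, c, hc, c', hc', rfl⟩ := hg
  rw [← mul_assoc, ← mul_assoc]
  exact inCells_of d hω hw (mul_mem hb hc) hc'

theorem inCells_mul_B {b g : G} (hb : b ∈ B d hω) (hg : InCells d hω g) :
    InCells d hω (g * b) := by
  obtain ⟨w, hw, c, hc, c', hc', rfl⟩ := hg
  rw [mul_assoc]
  exact inCells_of d hω hw hc (mul_mem hc' hb)

theorem braid : ∃ h ∈ torus d hω,
    wd ia ib [false, true, false, true] = wd ia ib [true, false, true, false] * h := by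
  have h1 := (d.m_b.scales hω).onW
  rw [slH_one, one_mul, mul_inv_eq_iff_eq_mul] at h1
  set h₀ := ia slW * ia slW with h₀d
  have hh₀ : h₀ ∈ torus d hω := na_sq d hω
  have k1 := wd_torus d hω [true, false] hh₀
  have k2 := wd_torus d hω [true, false] (mul_mem k1 (inv_mem hh₀))
  refine ⟨_, k2, ?_⟩
  simp only [wd, Bool.false_eq_true, if_false, if_true, mul_one]
  rw [h₀d]
  calc ia slW * (ib slW * (ia slW * ib slW)) =
        ia slW * ia slW * ((ia slW)⁻¹ * ib slW * ia slW * ib slW) := by group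
    _ = _ := by rw [h1]; group

/-- The Weyl element of one fundamental root. -/
def ns (ia ib : SpecialLinearGroup (Fin 2) F →* G) (s : Bool) : G := if s then ib slW else ia slW

/-- The index of a fundamental root. -/
def rs (s : Bool) : Fin 8 := if s then 1 else 0

theorem inCells_torus_mul {w : List Bool} (hw : w ∈ reps) {h h' : G} (hh : h ∈ torus d hω)
    (hh' : h' ∈ torus d hω) : InCells d hω (h * wd ia ib w * h') :=
  inCells_of d hω hw (torus_le_B d hω hh) (torus_le_B d hω hh')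

theorem ns_wd (s : Bool) {w : List Bool} (hw : w ∈ reps) :
    InCells d hω (ns ia ib s * wd ia ib w) := by
  obtain ⟨l, hl, hbr⟩ := braid d hω
  have ha := na_sq d hω
  have hb := nb_sq d hω
  have exact' : ∀ {v : List Bool}, v ∈ reps → InCells d hω (wd ia ib v) := fun {v} hv => by
    simpa using inCells_torus_mul d hω hv (one_mem _) (one_mem _)
  simp only [reps, List.mem_cons, List.not_mem_nil, or_false] at hw
  rcases hw with rfl | rfl | rfl | rfl | rfl | rfl | rfl | rfl <;> cases s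
  · exact exact' (v := [false]) (by decide)
  · exact exact' (v := [true]) (by decide)
  · simpa [ns, wd] using inCells_torus_mul d hω (w := []) (by decide) ha (one_mem _)
  · exact exact' (v := [true, false]) (by decide)
  · exact exact' (v := [false, true]) (by decide)
  · simpa [ns, wd] using inCells_torus_mul d hω (w := []) (by decide) hb (one_mem _)
  · simpa [ns, wd, mul_assoc] using inCells_torus_mul d hω (w := [true]) (by decide) ha (one_mem _)
  · exact exact' (v := [true, false, true]) (by decide)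
  · exact exact' (v := [false, true, false]) (by decide)
  · simpa [ns, wd, mul_assoc] using inCells_torus_mul d hω (w := [false]) (by decide) hb (one_mem _)
  · simpa [ns, wd, mul_assoc] using
      inCells_torus_mul d hω (w := [true, false]) (by decide) ha (one_mem _)
  · have := inCells_torus_mul d hω (w := [false, true, false, true]) (by decide) (one_mem _) (inv_mem hl)
    rw [one_mul, hbr, mul_inv_cancel_right] at this
    exact this
  · exact exact' (v := [false, true, false, true]) (by decide)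
  · simpa [ns, wd, mul_assoc] using
      inCells_torus_mul d hω (w := [false, true]) (by decide) hb (one_mem _)
  · simpa [ns, wd, mul_assoc] using
      inCells_torus_mul d hω (w := [true, false, true]) (by decide) ha (one_mem _)
  · rw [hbr]
    simpa [ns, wd, mul_assoc] using
      inCells_torus_mul d hω (w := [false, true, false]) (by decide) hb hl

theorem act_cases (s : Bool) {w : List Bool} (hw : w ∈ reps) : ((act w (rs s) : Fin 8) : ℕ) < 4 ∨
    ∃ w' ∈ reps, ((act w' (rs s) : Fin 8) : ℕ) < 4 ∧ ∃ h ∈ torus d hω,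
      wd ia ib w = ns ia ib s * wd ia ib w' * h := by
  obtain ⟨l, hl, hbr⟩ := braid d hω
  simp only [reps, List.mem_cons, List.not_mem_nil, or_false] at hw
  rcases hw with rfl | rfl | rfl | rfl | rfl | rfl | rfl | rfl <;> cases s <;>
    first
    | (left; decide)
    | skip
  · exact Or.inr ⟨[], by decide, by decide, 1, one_mem _, (mul_one _).symm⟩
  · exact Or.inr ⟨[], by decide, by decide, 1, one_mem _, (mul_one _).symm⟩
  · exact Or.inr ⟨[true], by decide, by decide, 1, one_mem _, (mul_one _).symm⟩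
  · exact Or.inr ⟨[false], by decide, by decide, 1, one_mem _, (mul_one _).symm⟩
  · exact Or.inr ⟨[true, false], by decide, by decide, 1, one_mem _, (mul_one _).symm⟩
  · exact Or.inr ⟨[false, true], by decide, by decide, 1, one_mem _, (mul_one _).symm⟩
  · exact Or.inr ⟨[true, false, true], by decide, by decide, 1, one_mem _, (mul_one _).symm⟩
  · exact Or.inr ⟨[false, true, false], by decide, by decide, l, hl, hbr⟩

theorem wd_U {w : List Bool} {r : Fin 8} (hr : ((act w r : Fin 8) : ℕ) < 4) {x : G}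
    (hx : x ∈ R ia ib r) : (wd ia ib w)⁻¹ * x * wd ia ib w ∈ B d hω := by
  refine U_le_B d hω (R_le_U d hω hr ?_)
  rw [← wd_R d hω w r]
  simpa using conj_mem (g := (wd ia ib w)⁻¹) hx

/-- The root element of a fundamental root. -/
def xs (ia ib : SpecialLinearGroup (Fin 2) F →* G) (s : Bool) (t : F) : G :=
  if s then ib (slU t) else ia (slU t)

theorem xs_mem (s : Bool) (t : F) : xs ia ib s t ∈ R ia ib (rs s) := by
  cases s
  · exact mem_R0.2 ⟨t, rfl⟩
  · exact mem_R1.2 ⟨t, rfl⟩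

theorem ns_xs_wd (s : Bool) (t : F) {w : List Bool} (hw : w ∈ reps) :
    InCells d hω (ns ia ib s * xs ia ib s t * wd ia ib w) := by
  rcases act_cases d hω s hw with hp | ⟨w', hw', hp, h, hh, he⟩
  · rw [show ns ia ib s * xs ia ib s t * wd ia ib w = ns ia ib s * wd ia ib w *
      ((wd ia ib w)⁻¹ * xs ia ib s t * wd ia ib w) by group]
    exact inCells_mul_B d hω (wd_U d hω hp (xs_mem d hω s t)) (ns_wd d hω s hw)
  rcases eq_or_ne t 0 with rfl | ht
  · rw [show xs ia ib s (0 : F) = 1 by cases s <;> simp [xs, slU_zero], mul_one]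
    exact ns_wd d hω s hw
  have key : ∃ k ∈ torus d hω, ns ia ib s * xs ia ib s t * ns ia ib s =
      xs ia ib s (-t⁻¹) * k * ns ia ib s * xs ia ib s (-t⁻¹) := by
    cases s
    · refine ⟨ia (slH (-(Units.mk0 t ht)⁻¹)), ⟨(-(Units.mk0 t ht)⁻¹, 1), by simp [T, slH_one]⟩, ?_⟩
      simp only [ns, xs, Bool.false_eq_true, if_false, ← map_mul, slU_bruhat ht]
    · refine ⟨ib (slH (-(Units.mk0 t ht)⁻¹)), ⟨(1, -(Units.mk0 t ht)⁻¹), by simp [T, slH_one]⟩, ?_⟩
      simp only [ns, xs, if_true, ← map_mul, slU_bruhat ht]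
  obtain ⟨k, hk, hke⟩ := key
  set e := xs ia ib s (-t⁻¹)
  have heB : e ∈ B d hω := U_le_B d hω (R_le_U d hω (by cases s <;> decide) (xs_mem d hω s _))
  rw [show ns ia ib s * xs ia ib s t * wd ia ib w =
      e * k * (ns ia ib s * wd ia ib w') * ((wd ia ib w')⁻¹ * e * wd ia ib w') * h by
    rw [he]
    calc ns ia ib s * xs ia ib s t * (ns ia ib s * wd ia ib w' * h) =
          ns ia ib s * xs ia ib s t * ns ia ib s * wd ia ib w' * h := by group
      _ = _ := by rw [hke]; group]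
  refine inCells_mul_B d hω (torus_le_B d hω hh) (inCells_mul_B d hω
    (wd_U d hω hp (xs_mem d hω s _)) (inCells_B_mul d hω (mul_mem heB (torus_le_B d hω hk)) ?_))
  exact ns_wd d hω s hw'

theorem ns_mul {g : G} (s : Bool) (hg : InCells d hω g) : InCells d hω (ns ia ib s * g) := by
  obtain ⟨w, hw, c, ⟨u, hu, h, hh, rfl⟩, c', hc', rfl⟩ := hg
  obtain ⟨t, m, hm, rfl⟩ : ∃ t, ∃ m, ns ia ib s * m * (ns ia ib s)⁻¹ ∈ B d hω ∧
      u = m * xs ia ib s t := by
    cases s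
    · obtain ⟨t, m, hm, rfl⟩ := U_split_a d hω hu
      refine ⟨t, m, U_le_B d hω ?_, rfl⟩
      suffices cj (ia slW) (R ia ib 1 ⊔ R ia ib 2 ⊔ R ia ib 3) ≤ U ia ib from this (conj_mem hm)
      simp only [cj, Subgroup.map_sup]
      refine sup_le (sup_le ?_ ?_) ?_ <;> rw [← cj, cj_na d hω]
      exacts [R_le_U d hω (by decide), R_le_U d hω (by decide), R_le_U d hω (by decide)]
    · obtain ⟨t, m, hm, rfl⟩ := U_split_b d hω hu
      refine ⟨t, m, U_le_B d hω ?_, rfl⟩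
      suffices cj (ib slW) (R ia ib 0 ⊔ (R ia ib 2 ⊔ R ia ib 3)) ≤ U ia ib from this (conj_mem hm)
      simp only [cj, Subgroup.map_sup]
      refine sup_le ?_ (sup_le ?_ ?_) <;> rw [← cj, cj_nb d hω]
      exacts [R_le_U d hω (by decide), R_le_U d hω (by decide), R_le_U d hω (by decide)]
  rw [show ns ia ib s * (m * xs ia ib s t * h * wd ia ib w * c') =
    ns ia ib s * m * (ns ia ib s)⁻¹ * (ns ia ib s * xs ia ib s t * wd ia ib w) *
      ((wd ia ib w)⁻¹ * h * wd ia ib w) * c' by group]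
  exact inCells_mul_B d hω hc' (inCells_mul_B d hω (torus_le_B d hω (wd_torus d hω w hh))
    (inCells_B_mul d hω hm (ns_xs_wd d hω s t hw)))

theorem inCells_all (hgen : ia.range ⊔ ib.range = ⊤) (g : G) : InCells d hω g := by
  let S : Submonoid G :=
    { carrier := {g | ∀ x, InCells d hω x → InCells d hω (g * x)}
      one_mem' := fun x hx => by simpa using hx
      mul_mem' := fun {a b} ha hb x hx => by rw [mul_assoc]; exact ha _ (hb _ hx) }
  have hU : ∀ s t, xs ia ib s t ∈ S := fun s t x hx =>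
    inCells_B_mul d hω (U_le_B d hω (R_le_U d hω (by cases s <;> decide) (xs_mem d hω s t))) hx
  have hn : ∀ s, ns ia ib s ∈ S := fun s x hx => ns_mul d hω s hx
  have hT : ∀ {h : G}, h ∈ torus d hω → h ∈ S := fun hh x hx =>
    inCells_B_mul d hω (torus_le_B d hω hh) hx
  have hn' : ∀ s, (ns ia ib s)⁻¹ ∈ S := fun s => by
    rw [show (ns ia ib s)⁻¹ = (ns ia ib s * ns ia ib s)⁻¹ * ns ia ib s by group]
    refine mul_mem (hT (inv_mem ?_)) (hn s)
    cases s
    exacts [na_sq d hω, nb_sq d hω]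
  have hi : ∀ y : SL2, ia y ∈ S ∧ ib y ∈ S := by
    intro y
    have hy : y ∈ Subgroup.closure (Set.range (slU : F → SL2) ∪ {slW}) := by
      rw [closure_slU_slW]; trivial
    induction hy using Subgroup.closure_induction'' with
    | mem y hy =>
      rcases hy with ⟨t, rfl⟩ | rfl
      exacts [⟨hU false t, hU true t⟩, ⟨hn false, hn true⟩]
    | inv_mem y hy =>
      rw [map_inv, map_inv]
      rcases hy with ⟨t, rfl⟩ | rfl
      · rw [← map_inv, ← map_inv, show (slU t : SL2)⁻¹ = slU (-t) from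
          inv_eq_of_mul_eq_one_right (by rw [← slU_add, add_neg_cancel, slU_zero])]
        exact ⟨hU false _, hU true _⟩
      · exact ⟨hn' false, hn' true⟩
    | one => simp [one_mem]
    | mul a b _ _ ha hb => simp only [map_mul]; exact ⟨mul_mem ha.1 hb.1, mul_mem ha.2 hb.2⟩
  have hg : g ∈ ia.range ⊔ ib.range := by rw [hgen]; trivial
  rw [Subgroup.sup_eq_closure] at hg
  have : g ∈ S := by
    induction hg using Subgroup.closure_induction'' with
    | mem y hy =>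
      rcases hy with ⟨z, rfl⟩ | ⟨z, rfl⟩
      exacts [(hi z).1, (hi z).2]
    | inv_mem y hy =>
      rcases hy with ⟨z, rfl⟩ | ⟨z, rfl⟩ <;> rw [← map_inv]
      exacts [(hi z⁻¹).1, (hi z⁻¹).2]
    | one => exact one_mem _
    | mul a b _ _ ha hb => exact mul_mem ha hb
  simpa using this 1 (by simpa [wd] using inCells_torus_mul d hω (w := []) (by decide) (one_mem _) (one_mem _))

/-- The map to a group where the Borel normal forms and the cells are separated is injective. -/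
theorem injective_of_separated {H : Type*} [Group H] (π : G →* H)
    (hgen : ia.range ⊔ ib.range = ⊤)
    (hform : ∀ t r s e (p q : Fˣ),
      π (ib (slU t) * xA ia ib r * xB ia ib s * ia (slU e) * T ia ib p q) = 1 →
        t = 0 ∧ r = 0 ∧ s = 0 ∧ e = 0 ∧ p = 1 ∧ q = 1)
    (hsep : ∀ w ∈ reps, w ≠ [] → π (wd ia ib w) ∉ (B d hω).map π) :
    Function.Injective π := by
  rw [injective_iff_map_eq_one]
  intro g hg
  have hB : ∀ b ∈ B d hω, π b = 1 → b = 1 := by
    rintro _ ⟨u, hu, _, ⟨⟨p, q⟩, rfl⟩, rfl⟩ h1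
    obtain ⟨t, r, s, e, rfl⟩ := U_normal_form d hω hu
    obtain ⟨rfl, rfl, rfl, rfl, rfl, rfl⟩ := hform t r s e p q h1
    simp [xA, xB, slU_zero, T_one d hω]
  obtain ⟨w, hw, b, hb, b', hb', rfl⟩ := inCells_all d hω hgen g
  rcases eq_or_ne w [] with rfl | hne
  · exact hB _ (mul_mem (mul_mem hb (one_mem _)) hb') hg
  · refine absurd ⟨b⁻¹ * b'⁻¹, mul_mem (inv_mem hb) (inv_mem hb'), ?_⟩ (hsep w hw hne)
    rw [map_mul, map_mul] at hg
    rw [map_mul, map_inv, map_inv, ← _root_.mul_inv_rev]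
    calc (π b' * π b)⁻¹ = (π b)⁻¹ * (π b * π (wd ia ib w) * π b') * (π b')⁻¹ := by rw [hg]; group
      _ = _ := by group

end

end Cfsg.Agent.Lie.Sp4Pres
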