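import Cfsg.Agent.Lib.Classical.SympGen
import Cfsg.Agent.Lib.Classical.SympBlocks

/-! Transvections and short root elements of `Sp_{2m}`; the stabiliser of a coordinate pair. -/

set_option autoImplicit false
set_option linter.unusedSectionVars false

namespace Cfsg.Agent.Lie.SpDeg

open Matrix Cfsg.Agent.Classical

universe u

variable {F : Type u} [Field F] {m b : ℕ}

local notation "V" => (Fin m ⊕ Fin m → F)
local notation "Sp" => Matrix.symplecticGroup (Fin m) F
local notation "B" => sympForm m F

/-- The action on vectors. -/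
def act (A : Sp) (v : V) : V := (A : Matrix (Fin m ⊕ Fin m) (Fin m ⊕ Fin m) F) *ᵥ v

theorem act_mul (A C : Sp) (v : V) : act (A * C) v = act A (act C v) := by
  simp [act, Matrix.mulVec_mulVec]

theorem act_one (v : V) : act (1 : Sp) v = v := by simp [act]

theorem act_add (A : Sp) (v w : V) : act A (v + w) = act A v + act A w := Matrix.mulVec_add _ v w

theorem act_smul (A : Sp) (c : F) (v : V) : act A (c • v) = c • act A v := Matrix.mulVec_smul _ c v

theorem act_inv (A : Sp) (v : V) : act A⁻¹ (act A v) = v := by rw [← act_mul, inv_mul_cancel, act_one]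

theorem sp_ext {A C : Sp} (H : ∀ v, act A v = act C v) : A = C :=
  Subtype.ext (Matrix.ext_iff_mulVec.2 H)

theorem act_form (A : Sp) (v w : V) : B (act A v) (act A w) = B v w := sympForm_map A v w

theorem act_tv (v : V) (c : F) (y : V) : act (sympTv v c) y = y + (c * B y v) • v :=
  sympTransvection_mulVec v c y

theorem tv_conj (A : Sp) (v : V) (c : F) : A * sympTv v c * A⁻¹ = sympTv (act A v) c := sympTv_conj A v c

theorem tv_comm_of_fix {A : Sp} {v : V} (h : act A v = v) (c : F) : Commute A (sympTv v c) := by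
  have h1 := tv_conj A v c
  rw [h] at h1
  exact mul_inv_eq_iff_eq_mul.1 h1

theorem tv_smul (v : V) (a c : F) : sympTv (a • v) c = sympTv v (a * a * c) := by
  refine sp_ext fun y => ?_
  rw [act_tv, act_tv, sympForm_smul_right, smul_smul]
  congr 2
  ring

/-- The short root element `y ↦ y + s (B(y,v) u + B(y,u) v)`. -/
noncomputable def xs (u v : V) (s : F) : Sp :=
  sympTv (u + s • v) 1 * sympTv u (-1) * sympTv v (-(s * s))

theorem act_xs {u v : V} (h : B u v = 0) (s : F) (y : V) :
    act (xs u v s) y = y + s • (B y v • u + B y u • v) := by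
  have h' : B v u = 0 := by rw [sympForm_swap, h, neg_zero]
  simp only [xs, act_mul, act_tv, sympForm_add_left, sympForm_add_right, sympForm_smul_left,
    sympForm_smul_right, sympForm_self, h, h', mul_zero, add_zero]
  module

theorem xs_conj (A : Sp) (u v : V) (s : F) : A * xs u v s * A⁻¹ = xs (act A u) (act A v) s := by
  simp only [xs, ← act_smul, ← act_add, ← tv_conj A]
  group

theorem xs_add {u v : V} (h : B u v = 0) (s t : F) : xs u v (s + t) = xs u v s * xs u v t := by
  have h' : B v u = 0 := by rw [sympForm_swap, h, neg_zero]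
  refine sp_ext fun y => ?_
  simp only [act_mul, act_xs h, sympForm_add_left, sympForm_smul_left, sympForm_self, h, h', mul_zero,
    add_zero]
  module

theorem xs_zero {u v : V} (h : B u v = 0) : xs u v 0 = 1 :=
  sp_ext fun y => by rw [act_xs h, zero_smul, add_zero, act_one]

theorem xs_smul {u v : V} (h : B u v = 0) (t s : F) : xs u (t • v) s = xs u v (t * s) := by
  have h2 : B u (t • v) = 0 := by rw [sympForm_smul_right, h, mul_zero]
  refine sp_ext fun y => ?_
  rw [act_xs h, act_xs h2, sympForm_smul_right]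
  module

theorem xs_mul {u v w : V} (hv : B u v = 0) (hw : B u w = 0) :
    xs u v 1 * xs u w 1 = sympTv u (B w v) * xs u (v + w) 1 := by
  have hv' : B v u = 0 := by rw [sympForm_swap, hv, neg_zero]
  have hw' : B w u = 0 := by rw [sympForm_swap, hw, neg_zero]
  have hvw : B u (v + w) = 0 := by rw [sympForm_add_right, hv, hw, add_zero]
  refine sp_ext fun y => ?_
  simp only [act_mul, act_tv, act_xs hv, act_xs hw, act_xs hvw, sympForm_add_left, sympForm_add_right,
    sympForm_smul_left, sympForm_self, hv, hw, hv', hw', mul_zero, add_zero, zero_add, one_smul]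
  module

theorem tv_comb {u v : V} (h : B u v = 0) (a c : F) :
    sympTv (a • u + v) c = sympTv u (a * a * c) * sympTv v c * xs u v (c * a) := by
  have h' : B v u = 0 := by rw [sympForm_swap, h, neg_zero]
  refine sp_ext fun y => ?_
  simp only [act_mul, act_tv, act_xs h, sympForm_add_left, sympForm_add_right, sympForm_smul_left,
    sympForm_smul_right, sympForm_self, h, h', mul_zero, add_zero, zero_add]
  module

theorem act_tv_self (v : V) (c : F) : act (sympTv v c) v = v := by
  rw [act_tv, sympForm_self, mul_zero, zero_smul, add_zero]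

theorem act_tv_perp {v w : V} (h : B w v = 0) (c : F) : act (sympTv v c) w = w := by
  rw [act_tv, h, mul_zero, zero_smul, add_zero]

theorem act_xs_perp {u v w : V} (h : B u v = 0) (hu : B w u = 0) (hv : B w v = 0) (s : F) :
    act (xs u v s) w = w := by
  rw [act_xs h, hu, hv, zero_smul, zero_smul, add_zero, smul_zero, add_zero]

/-- Conjugate pairs of vectors. -/
theorem exists_act_eq {v w : V} (hv : v ≠ 0) (hw : w ≠ 0) : ∃ A : Sp, act A v = w :=
  symp_pretransitive hv hw

/-! ### a coordinate pair and its complement -/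

/-- Two blocks of coordinates glued. -/
def glue (x : Fin 1 ⊕ Fin 1 → F) (w : Fin b ⊕ Fin b → F) : Fin (1 + b) ⊕ Fin (1 + b) → F :=
  Sum.elim x w ∘ (sympBlockEquiv 1 b).symm

/-- The vectors of the complement. -/
def pad (w : Fin b ⊕ Fin b → F) : Fin (1 + b) ⊕ Fin (1 + b) → F := glue 0 w

/-- The first vector of the pair. -/
def ee (F : Type u) [Field F] (b : ℕ) : Fin (1 + b) ⊕ Fin (1 + b) → F :=
  glue (Pi.single (Sum.inl 0) 1) 0

theorem glue_surj (y : Fin (1 + b) ⊕ Fin (1 + b) → F) : ∃ x w, y = glue x w := by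
  refine ⟨fun i => y (sympBlockEquiv 1 b (Sum.inl i)), fun i => y (sympBlockEquiv 1 b (Sum.inr i)), ?_⟩
  funext j
  obtain ⟨i, rfl⟩ := (sympBlockEquiv 1 b).surjective j
  rcases i with i | i <;> simp [glue]

theorem glue_apply_inl (x : Fin 1 ⊕ Fin 1 → F) (w : Fin b ⊕ Fin b → F) (i : Fin 1 ⊕ Fin 1) :
    glue x w (sympBlockEquiv 1 b (Sum.inl i)) = x i := by simp [glue]

theorem glue_apply_inr (x : Fin 1 ⊕ Fin 1 → F) (w : Fin b ⊕ Fin b → F) (i : Fin b ⊕ Fin b) :
    glue x w (sympBlockEquiv 1 b (Sum.inr i)) = w i := by simp [glue]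

theorem glue_add (x x' : Fin 1 ⊕ Fin 1 → F) (w w' : Fin b ⊕ Fin b → F) :
    glue x w + glue x' w' = glue (x + x') (w + w') := by
  funext j
  obtain ⟨i, rfl⟩ := (sympBlockEquiv 1 b).surjective j
  rcases i with i | i <;> simp [glue]

theorem glue_smul (c : F) (x : Fin 1 ⊕ Fin 1 → F) (w : Fin b ⊕ Fin b → F) :
    c • glue x w = glue (c • x) (c • w) := by
  funext j
  obtain ⟨i, rfl⟩ := (sympBlockEquiv 1 b).surjective j
  rcases i with i | i <;> simp [glue]

theorem glue_zero : glue (0 : Fin 1 ⊕ Fin 1 → F) (0 : Fin b ⊕ Fin b → F) = 0 := by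
  funext j
  obtain ⟨i, rfl⟩ := (sympBlockEquiv 1 b).surjective j
  rcases i with i | i <;> simp [glue]

theorem form_glue (x x' : Fin 1 ⊕ Fin 1 → F) (w w' : Fin b ⊕ Fin b → F) :
    sympForm (1 + b) F (glue x w) (glue x' w') = sympForm 1 F x x' + sympForm b F w w' := by
  simp only [sympForm_eq_sum, Fin.sum_univ_add]
  congr 1 <;> refine Finset.sum_congr rfl fun i _ => ?_ <;>
    simp [glue, sympBlockEquiv]

theorem form_pad (w w' : Fin b ⊕ Fin b → F) : sympForm (1 + b) F (pad w) (pad w') = sympForm b F w w' := by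
  rw [pad, pad, form_glue, sympForm_zero_left, zero_add]

theorem form_ee_pad (w : Fin b ⊕ Fin b → F) : sympForm (1 + b) F (ee F b) (pad w) = 0 := by
  rw [ee, pad, form_glue, sympForm_zero_left, sympForm_zero_right, add_zero]

theorem form_pad_ee (w : Fin b ⊕ Fin b → F) : sympForm (1 + b) F (pad w) (ee F b) = 0 := by
  rw [sympForm_swap, form_ee_pad, neg_zero]

theorem pad_add (w w' : Fin b ⊕ Fin b → F) : pad (w + w') = pad w + pad w' := by
  rw [pad, pad, pad, glue_add, add_zero]

theorem pad_smul (c : F) (w : Fin b ⊕ Fin b → F) : pad (c • w) = c • pad w := by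
  rw [pad, pad, glue_smul, smul_zero]

theorem pad_zero : pad (0 : Fin b ⊕ Fin b → F) = 0 := glue_zero

theorem ee_ne : ee F b ≠ 0 := by
  intro h
  have := congrFun h (sympBlockEquiv 1 b (Sum.inl (Sum.inl 0)))
  rw [ee, glue_apply_inl] at this
  simp at this

/-- The group of the complement. -/
def emb : Matrix.symplecticGroup (Fin b) F →* Matrix.symplecticGroup (Fin (1 + b)) F :=
  (sympBlock 1 b).comp (MonoidHom.inr _ _)

theorem act_emb (g : Matrix.symplecticGroup (Fin b) F) (x : Fin 1 ⊕ Fin 1 → F) (w : Fin b ⊕ Fin b → F) :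
    act (emb g) (glue x w) = glue x (act g w) := by
  show blockMat (1 : Matrix (Fin 1 ⊕ Fin 1) (Fin 1 ⊕ Fin 1) F) (g : Matrix _ _ F) *ᵥ glue x w = _
  rw [blockMat, Matrix.submatrix_mulVec_equiv, glue, Function.comp_assoc, Equiv.symm_symm,
    Equiv.symm_comp_self, Function.comp_id, Matrix.fromBlocks_mulVec]
  simp [glue, act]

theorem act_emb_pad (g : Matrix.symplecticGroup (Fin b) F) (w : Fin b ⊕ Fin b → F) :
    act (emb g) (pad w) = pad (act g w) := act_emb g 0 w

theorem act_emb_ee (g : Matrix.symplecticGroup (Fin b) F) : act (emb g) (ee F b) = ee F b := by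
  rw [ee, act_emb, act, Matrix.mulVec_zero]

theorem emb_tv (w : Fin b ⊕ Fin b → F) (c : F) : emb (sympTv w c) = sympTv (pad w) c := by
  refine sp_ext fun y => ?_
  obtain ⟨x, z, rfl⟩ := glue_surj y
  rw [act_emb, act_tv, act_tv, pad, form_glue, glue_smul, glue_add, sympForm_zero_right, zero_add,
    smul_zero, add_zero]

/-- A vector orthogonal to `ee` splits. -/
theorem perp_split {y : Fin (1 + b) ⊕ Fin (1 + b) → F} (h : sympForm (1 + b) F y (ee F b) = 0) :
    ∃ (a : F) (w : Fin b ⊕ Fin b → F), y = a • ee F b + pad w := by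
  obtain ⟨x, w, rfl⟩ := glue_surj y
  rw [ee, form_glue, sympForm_zero_right, add_zero, sympForm_single_inl, mul_one] at h
  refine ⟨x (Sum.inl 0), w, ?_⟩
  rw [ee, pad, glue_smul, glue_add, smul_zero, zero_add, add_zero]
  congr 1
  funext i
  rcases i with i | i <;> fin_cases i <;> simp [h]

end Cfsg.Agent.Lie.SpDeg
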