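import Cfsg.Agent.Lib.Lie.SpDegOdd

/-! The smallest degree of a non-trivial representation of `Sp_{2n}(q)`, `q` even. -/

set_option autoImplicit false
set_option linter.unusedSectionVars false
set_option maxHeartbeats 400000

namespace Cfsg.Agent.Lie.SpDeg

open Matrix Cfsg.Agent.Classical Finset
open Cfsg.Agent.Lie.RepDegSU (pr pr_eigen pr_comm pr_fix exists_pr sum_pr)

universe u v w

section Ops

variable {E : Type w} [AddCommGroup E] [Module ℂ E]

/-- Commuting involutions have a common eigenvector. -/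
theorem exists_inv_joint {ι : Type v} [Finite ι] (T : ι → Module.End ℂ E) (hT : ∀ i, T i * T i = 1)
    (hcomm : ∀ i j, Commute (T i) (T j)) {x : E} (hx : x ≠ 0) :
    ∃ (y : E) (χ : ι → ℂ), y ≠ 0 ∧ (∀ i, T i y = χ i • y) ∧
      ∀ (A : Module.End ℂ E) (a : ℂ), (∀ i, Commute A (T i)) → A x = a • x → A y = a • y := by
  classical
  haveI := Fintype.ofFinite ι
  suffices H : ∀ s : Finset ι, ∃ (y : E) (χ : ι → ℂ), y ≠ 0 ∧ (∀ i ∈ s, T i y = χ i • y) ∧
      ∀ (A : Module.End ℂ E) (a : ℂ), (∀ i, Commute A (T i)) → A x = a • x → A y = a • y by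
    obtain ⟨y, χ, hy, h1, h2⟩ := H Finset.univ
    exact ⟨y, χ, hy, fun i => h1 i (Finset.mem_univ i), h2⟩
  intro s
  induction s using Finset.induction with
  | empty => exact ⟨x, fun _ => 1, hx, by simp, fun A a _ h => h⟩
  | insert j s hjs ih =>
    obtain ⟨y, χ, hy, h1, h2⟩ := ih
    by_cases hz : T j y + y = 0
    · refine ⟨y, Function.update χ j (-1), hy, fun i hi => ?_, h2⟩
      rcases eq_or_ne i j with rfl | hij
      · rw [Function.update_self, neg_one_smul]; exact eq_neg_of_add_eq_zero_left hz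
      · rw [Function.update_of_ne hij]
        exact h1 i ((Finset.mem_insert.1 hi).resolve_left hij)
    · refine ⟨T j y + y, Function.update χ j 1, hz, fun i hi => ?_, fun A a hA hAx => ?_⟩
      · rcases eq_or_ne i j with rfl | hij
        · rw [Function.update_self, one_smul, map_add, ← Module.End.mul_apply, hT, Module.End.one_apply, add_comm]
        · rw [Function.update_of_ne hij, map_add, ← Module.End.mul_apply, (hcomm i j).eq, Module.End.mul_apply,
            h1 i ((Finset.mem_insert.1 hi).resolve_left hij), map_smul, smul_add]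
      · rw [map_add, ← Module.End.mul_apply, (hA j).eq, Module.End.mul_apply, h2 A a hA hAx, map_smul, smul_add]

end Ops

variable {F : Type u} [Field F] [Fintype F]

theorem xs_comm_of_fix {m : ℕ} {A : Matrix.symplecticGroup (Fin m) F} {u v : Fin m ⊕ Fin m → F}
    (hu : act A u = u) (hv : act A v = v) (s : F) : Commute A (xs u v s) := by
  have h1 := xs_conj A u v s
  rw [hu, hv] at h1
  exact mul_inv_eq_iff_eq_mul.1 h1

theorem xs_split {m : ℕ} {u v w : Fin m ⊕ Fin m → F} (hv : sympForm m F u v = 0) (hw : sympForm m F u w = 0)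
    (hvw : sympForm m F v w = 0) (s : F) : xs u (v + w) s = xs u v s * xs u w s := by
  have hv' : sympForm m F v u = 0 := by rw [sympForm_swap, hv, neg_zero]
  have hw' : sympForm m F w u = 0 := by rw [sympForm_swap, hw, neg_zero]
  have hwv : sympForm m F w v = 0 := by rw [sympForm_swap, hvw, neg_zero]
  have h : sympForm m F u (v + w) = 0 := by rw [sympForm_add_right, hv, hw, add_zero]
  refine sp_ext fun y => ?_
  simp only [act_mul, act_xs hv, act_xs hw, act_xs h, sympForm_add_left, sympForm_add_right,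
    sympForm_smul_left, sympForm_self, hv, hw', hwv, hv', mul_zero, add_zero, zero_add]
  module

variable (h2 : (2 : F) = 0)

include h2

theorem neg_eq (x : F) : -x = x := by linear_combination -x * h2

/-- The Artin–Schreier character. -/
theorem exists_as : ∃ ε : AddChar F ℂ, ε ≠ 1 ∧ (∀ y, ε y = 1 ∨ ε y = -1) ∧
    ∀ y, ε y = 1 → ∃ z : F, z * z + z = y := by
  classical
  let f : F →+ F := AddMonoidHom.mk' (fun z => z * z + z) fun a b => by linear_combination (a * b) * h2
  have hker : (f.ker : Set F) = {0, 1} := by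
    ext z
    simp only [SetLike.mem_coe, AddMonoidHom.mem_ker, Set.mem_insert_iff, Set.mem_singleton_iff, f,
      AddMonoidHom.mk'_apply]
    constructor
    · intro hz
      have h1 : z * (z + 1) = 0 := by linear_combination hz
      exact (mul_eq_zero.1 h1).imp_right fun h => by linear_combination h - h2
    · rintro (rfl | rfl)
      · simp
      · linear_combination h2
  have hidx : f.range.index = 2 := by
    have h1 := AddSubgroup.card_eq_card_quotient_mul_card_addSubgroup f.ker
    rw [Nat.card_congr (QuotientAddGroup.quotientKerEquivRange f).toEquiv] at h1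
    have h3 := f.range.card_mul_index
    have hk : Nat.card f.ker = 2 := by
      have : Nat.card f.ker = Set.ncard (f.ker : Set F) := Nat.card_coe_set_eq _
      rw [this, hker, Set.ncard_pair zero_ne_one]
    rw [hk] at h1
    exact Nat.eq_of_mul_eq_mul_left Nat.card_pos (h3.trans h1)
  let ε : AddChar F ℂ := ⟨fun y => if y ∈ f.range then 1 else -1, by rw [if_pos (zero_mem _)], fun a b => by
    by_cases ha : a ∈ f.range <;> by_cases hb : b ∈ f.range <;>
      simp [AddSubgroup.add_mem_iff_of_index_two hidx, ha, hb]⟩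
  have hε : ∀ y, ε y = if y ∈ f.range then 1 else -1 := fun y => rfl
  refine ⟨ε, fun he => ?_, fun y => ?_, fun y hy => ?_⟩
  · have htop : f.range = ⊤ := eq_top_iff.2 fun y _ => by
      by_contra hy
      have h1 : ε y = 1 := by rw [he]; rfl
      rw [hε, if_neg hy] at h1
      norm_num at h1
    rw [htop, AddSubgroup.index_top] at hidx
    omega
  · rw [hε]; split_ifs <;> simp
  · rw [hε] at hy
    by_cases h : y ∈ f.range
    · exact h
    · rw [if_neg h] at hy; norm_num at hy

variable {ψ : AddChar F ℂ} (hψ : ψ ≠ 1)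

include hψ

theorem sq_char_inj {α : F} (hα : α ≠ 0) :
    Function.Injective fun c : F => ψ.compAddMonoidHom
      (AddMonoidHom.mk' (fun s => α * c * (s * s)) fun a b => by linear_combination (α * c * a * b) * h2) := by
  intro c d hcd
  by_contra hne
  apply hψ
  haveI : CharP F 2 := CharTwo.of_one_ne_zero_of_two_eq_zero one_ne_zero h2
  refine DFunLike.ext _ _ fun y => ?_
  obtain ⟨s, hs⟩ := FiniteField.isSquare_of_char_two (CharP.ringChar_of_prime_eq_zero Nat.prime_two (by exact_mod_cast h2)) (y / (α * (c - d)))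
  have h1 := congrArg (fun χ : AddChar F ℂ => χ s) hcd
  simp only [AddChar.compAddMonoidHom_apply, AddMonoidHom.mk'_apply] at h1
  have hy : y = α * c * (s * s) + -(α * d * (s * s)) := by
    rw [← hs]
    field_simp [mul_ne_zero hα (sub_ne_zero.2 hne), sub_ne_zero.2 hne]
    ring
  rw [hy, AddChar.map_add_eq_mul, h1, ← AddChar.map_add_eq_mul, add_neg_cancel, AddChar.map_zero_eq_one]
  rfl

theorem exists_sq_char {α : F} (hα : α ≠ 0) (φ : AddChar F ℂ) :
    ∃ c : F, ∀ s, φ s = ψ (α * c * (s * s)) := by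
  have hb := (Fintype.bijective_iff_injective_and_card _).2
    ⟨sq_char_inj h2 hψ hα, (AddChar.card_eq (α := F)).symm⟩
  obtain ⟨c, hc⟩ := hb.2 φ
  exact ⟨c, fun s => by rw [← hc]; rfl⟩

variable {c : ℕ} {E : Type w} [AddCommGroup E] [Module ℂ E] [FiniteDimensional ℂ E]
variable (σ : Representation ℂ (Matrix.symplecticGroup (Fin (1 + c)) F) E)

/-- An eigenspace of the long root group contains a whole orbit of quadratic forms. -/
theorem range_even {α : F} (hα : α ≠ 0) (H : Spec σ ψ (ee F c) α) :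
    Fintype.card F ^ c * Fintype.card F ^ c ≤
      2 * Module.finrank ℂ (LinearMap.range (pr ψ (tz σ (ee F c)) α)) + Fintype.card F ^ c := by
  classical
  set P := pr ψ (tz σ (ee F c)) α with hP
  obtain ⟨v₀, hv₀, hv₀e⟩ := H
  let X : (Fin c ⊕ Fin c → F) → Module.End ℂ E := fun w => σ (xs (ee F c) (pad w) 1)
  have hfix : ∀ w, act (xs (ee F c) (pad w) 1) (ee F c) = ee F c := fun w =>
    act_xs_perp (form_ee_pad w) (sympForm_self _) (form_ee_pad w) 1
  have hXmul : ∀ u w, X u * X w = tz σ (ee F c) (sympForm c F w u) * X (u + w) := by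
    intro u w
    simp only [X, tz, ← map_mul]
    rw [xs_mul (form_ee_pad _) (form_ee_pad _), form_pad, pad_add]
  have hX0 : X 0 = 1 := by
    have h1 : xs (ee F c) (pad (0 : Fin c ⊕ Fin c → F)) 1 = 1 := sp_ext fun y => by
      rw [act_xs (form_ee_pad 0), pad_zero, act_one]; simp
    simp only [X, h1, map_one]
  have hww : ∀ w : Fin c ⊕ Fin c → F, w + w = 0 := fun w => funext fun i => by
    simp only [Pi.add_apply, Pi.zero_apply]; linear_combination w i * h2
  have hXsq : ∀ w, X w * X w = 1 := fun w => by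
    rw [hXmul, sympForm_self, tz_zero, hww, hX0, one_mul]
  have hXc : ∀ u w, Commute (X u) (X w) := fun u w => by
    show X u * X w = X w * X u
    rw [hXmul, hXmul, sympForm_swap u w, neg_eq h2, add_comm u w]
  obtain ⟨v, χ, hv, hχ, hT⟩ := exists_inv_joint X hXsq hXc hv₀
  have hve : ∀ x, tz σ (ee F c) x v = ψ (α * x) • v := fun x =>
    hT _ _ (fun w => ((tv_comm_of_fix (hfix w) x).symm).map σ) (hv₀e x)
  have hχ0 : χ 0 = 1 := by
    have h1 := hχ 0
    rw [hX0, Module.End.one_apply] at h1
    exact smul_left_injective ℂ hv (show χ 0 • v = (1 : ℂ) • v by rw [one_smul]; exact h1.symm)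
  have hχmul : ∀ u w, χ u * χ w = ψ (α * sympForm c F w u) * χ (u + w) := by
    intro u w
    refine smul_left_injective ℂ hv ?_
    have h1 := LinearMap.congr_fun (hXmul u w) v
    rw [Module.End.mul_apply, Module.End.mul_apply, hχ, map_smul, hχ, hχ, map_smul, hve, smul_smul, smul_smul] at h1
    show (χ u * χ w) • v = (ψ (α * sympForm c F w u) * χ (u + w)) • v
    rw [mul_comm (χ u), h1, mul_comm]
  -- the quadratic form
  have hline : ∀ (u : Fin c ⊕ Fin c → F) (s t : F), χ ((s + t) • u) = χ (s • u) * χ (t • u) := fun u s t => by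
    rw [hχmul, sympForm_smul_left, sympForm_smul_right, sympForm_self, mul_zero, mul_zero, mul_zero,
      AddChar.map_zero_eq_one, one_mul, add_smul]
  choose Qf hQf using fun u : Fin c ⊕ Fin c → F => exists_sq_char h2 hψ hα
    (⟨fun s => χ (s • u), by simp [hχ0], hline u⟩ : AddChar F ℂ)
  have hQ : ∀ u s, χ (s • u) = ψ (α * Qf u * (s * s)) := hQf
  have hQ1 : ∀ u, χ u = ψ (α * Qf u) := fun u => by
    have h1 := hQ u 1
    rwa [one_smul, one_mul, mul_one] at h1
  have hQinj : ∀ a b : F, (∀ s, ψ (α * a * (s * s)) = ψ (α * b * (s * s))) → a = b := fun a b e =>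
    sq_char_inj h2 hψ hα (DFunLike.ext _ _ fun s => e s)
  have hpolar : ∀ u w, Qf (u + w) = Qf u + Qf w + sympForm c F u w := by
    intro u w
    refine hQinj _ _ fun s => ?_
    rw [← hQ]
    have h1 := hχmul (s • u) (s • w)
    rw [← smul_add, hQ, hQ, sympForm_smul_left, sympForm_smul_right] at h1
    have h3 : ψ (α * (s * (s * sympForm c F w u))) * ψ (-(α * (s * (s * sympForm c F w u)))) = 1 := by
      rw [← AddChar.map_add_eq_mul, add_neg_cancel, AddChar.map_zero_eq_one]
    calc χ (s • (u + w)) = (ψ (α * (s * (s * sympForm c F w u))) * χ (s • (u + w))) *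
          ψ (-(α * (s * (s * sympForm c F w u)))) := by rw [mul_right_comm, h3, one_mul]
      _ = _ := by
          rw [← h1, ← AddChar.map_add_eq_mul, ← AddChar.map_add_eq_mul, sympForm_swap u w]
          congr 1
          ring
  have hQsmul : ∀ (t : F) u, Qf (t • u) = t * t * Qf u := fun t u => hQinj _ _ fun s => by
    rw [← hQ, smul_smul, hQ]
    congr 1
    ring
  -- the orbit
  obtain ⟨ε, hε, hε2, hεas⟩ := exists_as h2
  let A : Finset (Fin c ⊕ Fin c → F) := Finset.univ.filter fun x => ε (Qf x) = 1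
  have hmu : ∀ x ∈ A, ∀ _u : Fin c ⊕ Fin c → F, ∃ g : Matrix.symplecticGroup (Fin c) F, g * g = 1 ∧
      ∀ u, Qf (act g u) = Qf u + sympForm c F u x * sympForm c F u x := by
    intro x hx _
    obtain ⟨z, hz⟩ := hεas _ (Finset.mem_filter.1 hx).2
    obtain ⟨μ, hμ⟩ : ∃ μ : F, μ * μ * Qf x + μ = 1 := by
      by_cases h0 : Qf x = 0
      · exact ⟨1, by rw [h0]; ring⟩
      · refine ⟨z / Qf x, ?_⟩
        field_simp
        linear_combination hz
    refine ⟨sympTv x μ, by rw [sympTv_mul, show μ + μ = 0 by linear_combination μ * h2, sympTv_zero],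
      fun u => ?_⟩
    rw [act_tv, hpolar, hQsmul, sympForm_smul_right]
    linear_combination (sympForm c F u x * sympForm c F u x) * hμ
  choose g hg2 hg using fun x : A => hmu x.1 x.2 0
  let y : A → E := fun x => σ (emb (g x)) v
  have hyX : ∀ (x : A) u, X u (y x) = ψ (α * (Qf u + sympForm c F u x.1 * sympForm c F u x.1)) • y x := by
    intro x u
    have hback : act (g x) (act (g x) u) = u := by rw [← act_mul, hg2, act_one]
    have h1 : X u * σ (emb (g x)) = σ (emb (g x)) * X (act (g x) u) := by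
      simp only [X, ← map_mul]
      congr 1
      refine (mul_inv_eq_iff_eq_mul.1 ?_).symm
      rw [xs_conj, act_emb_ee, act_emb_pad, hback]
    show X u (σ (emb (g x)) v) = _
    rw [← Module.End.mul_apply, h1, Module.End.mul_apply, hχ, map_smul, hQ1, hg]
  have hyP : ∀ x, y x ∈ LinearMap.range P := fun x => by
    refine ⟨y x, pr_fix fun t => ?_⟩
    show tz σ (ee F c) t (σ (emb (g x)) v) = _
    conv_lhs => rw [← act_emb_ee (g x), tz_conj, hve, map_smul]
  let sq : F →+ F := AddMonoidHom.mk' (fun s => α * (s * s)) fun a b => by linear_combination (α * a * b) * h2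
  have hψ' : ψ.compAddMonoidHom sq ≠ 1 := by
    intro e
    have h1 : (1 : F) = 0 := hQinj 1 0 fun s => by
      rw [mul_zero, zero_mul, AddChar.map_zero_eq_one, mul_one]
      exact congrArg (fun χ : AddChar F ℂ => χ s) e
    exact one_ne_zero h1
  have hli : LinearIndependent ℂ (fun x : A => (⟨y x, hyP x⟩ : LinearMap.range P)) := by
    refine LinearIndependent.of_comp (LinearMap.range P).subtype ?_
    show LinearIndependent ℂ y
    rw [Fintype.linearIndependent_iff]
    intro k hk x₀
    let L : Module.End ℂ E :=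
      ∑ u, ψ (α * (Qf u + sympForm c F u x₀.1 * sympForm c F u x₀.1)) • X u
    have hL : ∀ x, L (y x) = (if x = x₀ then (Fintype.card (Fin c ⊕ Fin c → F) : ℂ) else 0) • y x := by
      intro x
      simp only [L, LinearMap.sum_apply, LinearMap.smul_apply, hyX, smul_smul, ← AddChar.map_add_eq_mul,
        ← Finset.sum_smul]
      congr 1
      have e : ∀ u, ψ (α * (Qf u + sympForm c F u x₀.1 * sympForm c F u x₀.1) +
          α * (Qf u + sympForm c F u x.1 * sympForm c F u x.1)) =
          (ψ.compAddMonoidHom sq) (sympB c F (x₀.1 + x.1) u) := fun u => by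
        simp only [AddChar.compAddMonoidHom_apply, sq, AddMonoidHom.mk'_apply, sympB_apply, sympForm_add_left,
          sympForm_swap x₀.1 u, sympForm_swap x.1 u, neg_eq h2]
        congr 1
        linear_combination (α * Qf u - α * sympForm c F u x₀.1 * sympForm c F u x.1) * h2
      simp only [e]
      split_ifs with hx
      · subst hx
        simp [hww]
      · refine Char.sum_char_linear hψ' _ fun e0 => hx ?_
        have h1 : x₀.1 + x.1 = 0 := eq_zero_of_sympForm_eq_zero fun w => by
          have := LinearMap.congr_fun e0 w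
          rwa [sympB_apply] at this
        refine Subtype.ext (funext fun i => ?_)
        have h3 := congrFun h1 i
        simp only [Pi.add_apply, Pi.zero_apply] at h3
        linear_combination h3 - x₀.1 i * h2
    have h1 := congrArg L hk
    rw [map_sum, map_zero, Finset.sum_eq_single x₀ (fun x _ hx => by rw [map_smul, hL, if_neg hx, zero_smul, smul_zero])
      (by simp), map_smul, hL, if_pos rfl, smul_smul, smul_eq_zero] at h1
    exact (mul_eq_zero.1 (h1.resolve_right (rho_ne σ hv))).resolve_right (Nat.cast_ne_zero.2 Fintype.card_ne_zero)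
  have hcard := hli.fintype_card_le_finrank
  rw [Fintype.card_coe] at hcard
  -- the number of forms in the orbit
  have hsum : ∑ x : Fin c ⊕ Fin c → F, ε (Qf x) =
      2 * (A.card : ℂ) - (Fintype.card (Fin c ⊕ Fin c → F) : ℂ) := by
    calc ∑ x : Fin c ⊕ Fin c → F, ε (Qf x) = ∑ x : Fin c ⊕ Fin c → F, ((if ε (Qf x) = 1 then 2 else 0) - 1 : ℂ) := by
          refine Finset.sum_congr rfl fun x _ => ?_
          rcases hε2 (Qf x) with e | e <;> rw [e] <;> norm_num
      _ = _ := by
          rw [Finset.sum_sub_distrib, ← Finset.sum_filter, Finset.sum_const, Finset.sum_const, Finset.card_univ,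
            nsmul_eq_mul, nsmul_eq_mul, mul_one, mul_comm]
  have hsq : (∑ x : Fin c ⊕ Fin c → F, ε (Qf x)) * (∑ x : Fin c ⊕ Fin c → F, ε (Qf x)) =
      (Fintype.card (Fin c ⊕ Fin c → F) : ℂ) := by
    rw [Finset.sum_mul_sum]
    calc ∑ x : Fin c ⊕ Fin c → F, ∑ z, ε (Qf x) * ε (Qf z)
        = ∑ x : Fin c ⊕ Fin c → F, ∑ d, ε (Qf d) * ε (sympB c F d x) := by
          refine Finset.sum_congr rfl fun x _ => (Fintype.sum_equiv (Equiv.addLeft x) _ _ fun d => ?_).symm
          rw [Equiv.coe_addLeft, ← AddChar.map_add_eq_mul, ← AddChar.map_add_eq_mul, hpolar, sympB_apply,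
            sympForm_swap d x, neg_eq h2]
          congr 1
          linear_combination -Qf x * h2
      _ = ∑ d, ε (Qf d) * ∑ x : Fin c ⊕ Fin c → F, ε (sympB c F d x) := by
          rw [Finset.sum_comm]; simp only [Finset.mul_sum]
      _ = _ := by
          rw [Finset.sum_eq_single 0]
          · have hQ0 : Qf 0 = 0 := by
              have h3 := hQsmul 0 0
              simpa using h3
            simp [hQ0]
          · intro d _ hd
            rw [Char.sum_char_linear hε _ fun e => hd (eq_zero_of_sympForm_eq_zero fun w => by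
              have := LinearMap.congr_fun e w
              rwa [sympB_apply] at this), mul_zero]
          · simp
  rw [hsum] at hsq
  have hM : Fintype.card (Fin c ⊕ Fin c → F) = Fintype.card F ^ c * Fintype.card F ^ c := by
    rw [Fintype.card_fun, Fintype.card_sum, Fintype.card_fin, pow_add]
  rw [hM] at hsq
  set Qc := Fintype.card F ^ c
  have hsqZ : (2 * (A.card : ℤ) - (Qc : ℤ) * Qc) * (2 * (A.card : ℤ) - (Qc : ℤ) * Qc) = (Qc : ℤ) * Qc := by
    apply Int.cast_injective (α := ℂ)
    push_cast at hsq ⊢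
    exact hsq
  have : ((Qc * Qc : ℕ) : ℤ) ≤ ((2 * A.card + Qc : ℕ) : ℤ) := by
    push_cast
    rcases mul_self_eq_mul_self_iff.1 hsqZ with e | e <;> linarith
  have : Qc * Qc ≤ 2 * A.card + Qc := by exact_mod_cast this
  omega

/-- The fixed space carries the smaller group. -/
theorem exists_res (hc : 2 ≤ c) [σ.IsIrreducible] {g₀ : Matrix.symplecticGroup (Fin (1 + c)) F} (hg₀ : σ g₀ ≠ 1) :
    ∃ g, res σ ψ g ≠ 1 := by
  by_contra hres
  push Not at hres
  have hnf := no_fix hψ σ (by omega) hg₀ hres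
  obtain ⟨A₀, hA₀, u₀, hu₀, hA⟩ := exists_spec σ hψ hg₀ (ee_ne (F := F) (b := c))
  let e := ee F c
  let w₁ : Fin c ⊕ Fin c → F := Pi.single (Sum.inl ⟨0, by omega⟩) 1
  let w₂ : Fin c ⊕ Fin c → F := Pi.single (Sum.inl ⟨1, by omega⟩) 1
  let p := pad (F := F) w₁
  let r := pad (F := F) w₂
  have hep : sympForm (1 + c) F e p = 0 := form_ee_pad _
  have her : sympForm (1 + c) F e r = 0 := form_ee_pad _
  have hpr : sympForm (1 + c) F p r = 0 := by
    show sympForm (1 + c) F (pad w₁) (pad w₂) = 0
    rw [form_pad, sympForm_single_inl]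
    simp [w₁]
  have hpe : sympForm (1 + c) F p e = 0 := form_pad_ee _
  have hre : sympForm (1 + c) F r e = 0 := form_pad_ee _
  have hrp : sympForm (1 + c) F r p = 0 := by rw [sympForm_swap, hpr, neg_zero]
  -- the three families fix the three vectors
  have f1 : ∀ x, act (sympTv p x) e = e := fun x => act_tv_perp hep x
  have f2 : ∀ x, act (sympTv r x) e = e ∧ act (sympTv r x) p = p := fun x =>
    ⟨act_tv_perp her x, act_tv_perp hpr x⟩
  have f3 : ∀ (u v : Fin (1 + c) ⊕ Fin (1 + c) → F), sympForm (1 + c) F u v = 0 →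
      (∀ t ∈ [e, p, r], sympForm (1 + c) F t u = 0 ∧ sympForm (1 + c) F t v = 0) →
      ∀ s, ∀ t ∈ [e, p, r], act (xs u v s) t = t := fun u v huv ht s t htm =>
    act_xs_perp huv (ht t htm).1 (ht t htm).2 s
  have hperp : ∀ t ∈ [e, p, r], sympForm (1 + c) F t e = 0 ∧ sympForm (1 + c) F t p = 0 ∧
      sympForm (1 + c) F t r = 0 := by
    intro t ht
    simp only [List.mem_cons, List.not_mem_nil, or_false] at ht
    rcases ht with rfl | rfl | rfl
    · exact ⟨sympForm_self _, hep, her⟩
    · exact ⟨hpe, sympForm_self _, hpr⟩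
    · exact ⟨hre, hrp, sympForm_self _⟩
  have x1 := f3 e p hep (fun t ht => ⟨(hperp t ht).1, (hperp t ht).2.1⟩)
  have x2 := f3 e r her (fun t ht => ⟨(hperp t ht).1, (hperp t ht).2.2⟩)
  have x3 := f3 p r hpr (fun t ht => ⟨(hperp t ht).2.1, (hperp t ht).2.2⟩)
  -- a common eigenvector
  obtain ⟨C, u₁, hu₁, hC, hT₁⟩ := extend hψ (tz_zero σ p) (tz_add σ p) hu₀
  have hA1 : ∀ x, tz σ e x u₁ = ψ (A₀ * x) • u₁ := fun x =>
    hT₁ _ _ (fun y => ((tv_comm_of_fix (f1 y) x).symm).map σ) (hA x)
  obtain ⟨D, u₂, hu₂, hD, hT₂⟩ := extend hψ (tz_zero σ r) (tz_add σ r) hu₁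
  have hA2 : ∀ x, tz σ e x u₂ = ψ (A₀ * x) • u₂ := fun x =>
    hT₂ _ _ (fun y => ((tv_comm_of_fix (f2 y).1 x).symm).map σ) (hA1 x)
  have hC2 : ∀ x, tz σ p x u₂ = ψ (C * x) • u₂ := fun x =>
    hT₂ _ _ (fun y => ((tv_comm_of_fix (f2 y).2 x).symm).map σ) (hC x)
  obtain ⟨lam, u₃, hu₃, hlam, hT₃⟩ := extend hψ (a := fun s => σ (xs e p s))
    (by simp only [xs_zero hep, map_one]) (fun s t => by simp only [xs_add hep, map_mul]) hu₂
  obtain ⟨mu, u₄, hu₄, hmu, hT₄⟩ := extend hψ (a := fun s => σ (xs e r s))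
    (by simp only [xs_zero her, map_one]) (fun s t => by simp only [xs_add her, map_mul]) hu₃
  obtain ⟨nu, u₅, hu₅, hnu, hT₅⟩ := extend hψ (a := fun s => σ (xs p r s))
    (by simp only [xs_zero hpr, map_one]) (fun s t => by simp only [xs_add hpr, map_mul]) hu₄
  have hz : ∀ t ∈ [e, p, r], ∀ x K, tz σ t x u₂ = K • u₂ → tz σ t x u₅ = K • u₅ := fun t ht x K hK =>
    hT₅ _ _ (fun s => ((tv_comm_of_fix (x3 s t ht) x).symm).map σ)
      (hT₄ _ _ (fun s => ((tv_comm_of_fix (x2 s t ht) x).symm).map σ)
        (hT₃ _ _ (fun s => ((tv_comm_of_fix (x1 s t ht) x).symm).map σ) hK))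
  have hA5 : ∀ x, tz σ e x u₅ = ψ (A₀ * x) • u₅ := fun x => hz e (by simp) x _ (hA2 x)
  have hC5 : ∀ x, tz σ p x u₅ = ψ (C * x) • u₅ := fun x => hz p (by simp) x _ (hC2 x)
  have hD5 : ∀ x, tz σ r x u₅ = ψ (D * x) • u₅ := fun x => hz r (by simp) x _ (hD x)
  have hlam5 : ∀ s, σ (xs e p s) u₅ = ψ (lam * s) • u₅ := fun s =>
    hT₅ _ _ (fun t => (xs_comm_of_fix (x1 s p (by simp)) (x1 s r (by simp)) t).map σ)
      (hT₄ _ _ (fun t => (xs_comm_of_fix (x1 s e (by simp)) (x1 s r (by simp)) t).map σ) (hlam s))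
  have hmu5 : ∀ s, σ (xs e r s) u₅ = ψ (mu * s) • u₅ := fun s =>
    hT₅ _ _ (fun t => (xs_comm_of_fix (x2 s p (by simp)) (x2 s r (by simp)) t).map σ) (hmu s)
  haveI : CharP F 2 := CharTwo.of_one_ne_zero_of_two_eq_zero one_ne_zero h2
  have hroot : ∀ K : F, ∃ a : F, a * a = K := fun K => by
    obtain ⟨a, ha⟩ := FiniteField.isSquare_of_char_two
      (CharP.ringChar_of_prime_eq_zero Nat.prime_two (by exact_mod_cast h2)) K
    exact ⟨a, ha.symm⟩
  by_cases hl : lam = 0
  · obtain ⟨a, ha⟩ := hroot (C / A₀)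
    have h1 : ∀ x, tz σ (a • e + p) x u₅ = ψ ((a * a * A₀ + a * lam + C) * x) • u₅ := fun x =>
      eigen_comb σ hep hA5 hC5 hlam5 a x
    have h3 : a * a * A₀ + a * lam + C = 0 := by
      rw [ha, hl, div_mul_cancel₀ _ hA₀]; linear_combination C * h2
    have hne : a • e + p ≠ 0 := by
      intro e0
      have := congrFun e0 (sympBlockEquiv 1 c (Sum.inr (Sum.inl ⟨0, by omega⟩)))
      simp only [e, p, Pi.add_apply, Pi.smul_apply, ee, pad, glue_apply_inr] at this
      simp [w₁] at this
    exact hnf _ (Spec.move σ ψ ⟨u₅, hu₅, h1⟩ hne ee_ne) h3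
  · set k := mu / lam with hk
    have hkp : sympForm (1 + c) F (k • p) r = 0 := by rw [sympForm_smul_left, hpr, mul_zero]
    have hekp : sympForm (1 + c) F e (k • p) = 0 := by rw [sympForm_smul_right, hep, mul_zero]
    have hek : sympForm (1 + c) F e (k • p + r) = 0 := by rw [sympForm_add_right, hekp, her, add_zero]
    have hC' : ∀ x, tz σ (k • p + r) x u₅ = ψ ((k * k * C + k * nu + D) * x) • u₅ := fun x =>
      eigen_comb σ hpr hC5 hD5 hnu k x
    have hl' : ∀ s, σ (xs e (k • p + r) s) u₅ = ψ ((k * lam + mu) * s) • u₅ := fun s => by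
      rw [xs_split hekp her hkp, xs_smul hep, rho_mul_apply, hmu5, map_smul, hlam5, smul_smul,
        ← AddChar.map_add_eq_mul]
      congr 2
      ring
    obtain ⟨a, ha⟩ := hroot ((k * k * C + k * nu + D) / A₀)
    have h1 := fun x => eigen_comb σ hek hA5 hC' hl' a x
    have h3 : a * a * A₀ + a * (k * lam + mu) + (k * k * C + k * nu + D) = 0 := by
      rw [ha, div_mul_cancel₀ _ hA₀, hk, div_mul_cancel₀ _ hl]
      linear_combination (a * mu + (mu / lam * (mu / lam) * C + mu / lam * nu + D)) * h2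
    have hne : a • e + (k • p + r) ≠ 0 := by
      intro e0
      have := congrFun e0 (sympBlockEquiv 1 c (Sum.inr (Sum.inl ⟨1, by omega⟩)))
      simp only [e, p, r, Pi.add_apply, Pi.smul_apply, ee, pad, glue_apply_inr] at this
      simp [w₁, w₂, Fin.ext_iff] at this
    exact hnf _ (Spec.move σ ψ ⟨u₅, hu₅, h1⟩ hne ee_ne) h3

omit h2 hψ

/-- The estimate for irreducible representations. -/
def LowEven (F : Type u) [Field F] [Fintype F] (m : ℕ) : Prop :=
  ∀ (d : ℕ) (σ : Representation ℂ (Matrix.symplecticGroup (Fin m) F) (Fin d → ℂ)),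
    σ.IsIrreducible → (∃ g, σ g ≠ 1) →
      ((Fintype.card F : ℤ) ^ m - 1) * ((Fintype.card F : ℤ) ^ m - Fintype.card F) ≤
        2 * ((Fintype.card F : ℤ) + 1) * d

theorem lowEven_any {m : ℕ} (hl : LowEven F m) (π : Representation ℂ (Matrix.symplecticGroup (Fin m) F) E)
    {g₀ : Matrix.symplecticGroup (Fin m) F} (hg₀ : π g₀ ≠ 1) :
    ((Fintype.card F : ℤ) ^ m - 1) * ((Fintype.card F : ℤ) ^ m - Fintype.card F) ≤
        2 * ((Fintype.card F : ℤ) + 1) * Module.finrank ℂ E := by
  classical
  haveI := Fintype.ofFinite (Matrix.symplecticGroup (Fin m) F)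
  obtain ⟨d, τ, hτ, -, hd, hg⟩ := Char.exists_nontrivial_constituent π hg₀
  exact (hl d τ hτ hg).trans (mul_le_mul_of_nonneg_left (by exact_mod_cast hd) (by positivity))

theorem lowEven (heven : Even (Fintype.card F)) : ∀ m, LowEven F m
  | 0 => fun d σ _ _ => by
    simp only [pow_zero, sub_self, zero_mul]
    positivity
  | m + 1 => by
    have ih := lowEven heven m
    rw [show m + 1 = 1 + m by omega]
    intro d σ hσ hg
    classical
    haveI := hσ
    obtain ⟨g₀, hg₀⟩ := hg
    have h2 : (2 : F) = 0 := by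
      have h1 : ringChar F = 2 := FiniteField.even_card_iff_char_two.2 (Nat.even_iff.1 heven)
      have := CharP.cast_eq_zero F (ringChar F)
      rw [h1] at this
      exact_mod_cast this
    obtain ⟨ψ, hψ1⟩ := (AddChar.exists_apply_ne_zero (a := (1 : F))).2 one_ne_zero
    have hψ : ψ ≠ 1 := fun h => hψ1 (by rw [h]; rfl)
    obtain ⟨β, hβ, H⟩ := exists_spec σ hψ hg₀ (ee_ne (F := F) (b := m))
    haveI : CharP F 2 := CharTwo.of_one_ne_zero_of_two_eq_zero one_ne_zero h2
    have hall : ∀ α : F, α ≠ 0 → Spec σ ψ (ee F m) α := by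
      intro α hα
      obtain ⟨a, ha⟩ := FiniteField.isSquare_of_char_two
        (CharP.ringChar_of_prime_eq_zero Nat.prime_two (by exact_mod_cast h2)) (α / β)
      have ha0 : a ≠ 0 := by rintro rfl; simp [hα, hβ] at ha
      have h3 : β * (a * a) = α := by rw [← ha, mul_div_cancel₀ _ hβ]
      exact h3 ▸ H.square σ ψ ee_ne ha0
    have hrange : ∀ α : F, α ≠ 0 → (Fintype.card F ^ m * Fintype.card F ^ m - Fintype.card F ^ m) ≤
        2 * Module.finrank ℂ (LinearMap.range (pr ψ (tz σ (ee F m)) α)) := fun α hα => by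
      have := range_even h2 hψ σ hα (hall α hα)
      omega
    -- halves
    obtain ⟨k, hk⟩ : ∃ k, 2 * k = Fintype.card F ^ m * Fintype.card F ^ m - Fintype.card F ^ m := by
      rcases Nat.eq_zero_or_pos m with rfl | hm
      · exact ⟨0, by simp⟩
      · have he : Even (Fintype.card F ^ m) := heven.pow_of_ne_zero (by omega)
        obtain ⟨r, hr⟩ := he
        exact ⟨(2 * r - 1) * r, by rw [hr, Nat.mul_sub_right_distrib, one_mul, Nat.mul_sub_left_distrib]; congr 1 <;> ring⟩
    have h3 := count hψ σ (S := Finset.univ.erase (0 : F)) (by simp) (k := k) (l := 1) fun α hα => by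
      have := hrange α (Finset.ne_of_mem_erase hα)
      omega
    rw [Finset.card_erase_of_mem (Finset.mem_univ _), Finset.card_univ, one_mul, one_mul, one_mul,
      Module.finrank_fin_fun] at h3
    have hq := Fintype.one_lt_card (α := F)
    have hfix : ((Fintype.card F : ℤ) ^ m - 1) * ((Fintype.card F : ℤ) ^ m - Fintype.card F) ≤
        2 * ((Fintype.card F : ℤ) + 1) * Module.finrank ℂ (fix0 σ ψ) := by
      rcases Nat.lt_or_ge m 2 with hm | hm
      · interval_cases m
        · simp only [pow_zero, sub_self, zero_mul]; positivity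
        · simp only [pow_one, sub_self, mul_zero]; positivity
      · obtain ⟨g, hg⟩ := exists_res h2 hψ σ hm hg₀
        exact lowEven_any ih (res σ ψ) hg
    have hN : Fintype.card F ^ m ≤ Fintype.card F ^ m * Fintype.card F ^ m :=
      Nat.le_mul_of_pos_left _ (Nat.pow_pos (by omega))
    have hkZ : (2 : ℤ) * k = (Fintype.card F : ℤ) ^ m * (Fintype.card F : ℤ) ^ m - (Fintype.card F : ℤ) ^ m := by
      have := congrArg (Nat.cast : ℕ → ℤ) hk
      rw [Nat.cast_sub hN] at this
      push_cast at this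
      exact this
    have h3Z : ((Fintype.card F : ℤ) - 1) * k + Module.finrank ℂ (fix0 σ ψ) ≤ d := by
      have := Int.ofNat_le.2 h3
      push_cast [Nat.cast_sub hq.le] at this
      exact this
    have h4 := mul_le_mul_of_nonneg_left h3Z (show (0 : ℤ) ≤ 2 * ((Fintype.card F : ℤ) + 1) by positivity)
    rw [pow_add, pow_one]
    refine le_trans (le_of_eq ?_) (le_trans (add_le_add_left hfix
      (2 * ((Fintype.card F : ℤ) + 1) * (((Fintype.card F : ℤ) - 1) * k))) (le_of_eq_of_le (by ring) h4))
    linear_combination -((Fintype.card F : ℤ) + 1) * ((Fintype.card F : ℤ) - 1) * hkZ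

end Cfsg.Agent.Lie.SpDeg
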