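import Cfsg.Agent.Lib.Lie.SpDegRep
import Cfsg.Agent.Lib.Char.TwoTransConstituent

/-! The smallest degree of a non-trivial representation of `Sp_{2n}(q)`, `q` odd. -/

set_option autoImplicit false
set_option linter.unusedSectionVars false
set_option maxHeartbeats 400000

namespace Cfsg.Agent.Lie.SpDeg

open Matrix Cfsg.Agent.Classical Finset
open Cfsg.Agent.Lie.RepDegSU (pr pr_eigen pr_comm pr_fix exists_pr sum_pr)

universe u w

variable {F : Type u} [Field F] [Fintype F] {c : ℕ}
variable {E : Type w} [AddCommGroup E] [Module ℂ E] [FiniteDimensional ℂ E]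
variable (σ : Representation ℂ (Matrix.symplecticGroup (Fin (1 + c)) F) E)
variable {ψ : AddChar F ℂ} (hψ : ψ ≠ 1)

include hψ in
/-- An eigenspace of the centre of the Heisenberg group is large. -/
theorem range_odd (h2 : (2 : F) ≠ 0) {α : F} (hα : α ≠ 0) (H : Spec σ ψ (ee F c) α) :
    Fintype.card F ^ c ≤ Module.finrank ℂ (LinearMap.range (pr ψ (tz σ (ee F c)) α)) := by
  classical
  set P := pr ψ (tz σ (ee F c)) α with hP
  obtain ⟨v, hv0, hv⟩ := H
  have hPv : P v = v := pr_fix hv
  let g : (Fin c ⊕ Fin c → F) → Matrix.symplecticGroup (Fin (1 + c)) F := fun w => xs (ee F c) (pad w) 1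
  have hfix : ∀ w, act (g w) (ee F c) = ee F c := fun w =>
    act_xs_perp (form_ee_pad w) (sympForm_self _) (form_ee_pad w) 1
  have hgP : ∀ w, Commute (σ (g w)) P := fun w =>
    pr_comm (fun x => (tv_comm_of_fix (hfix w) x).map σ) α
  have hgP' : ∀ w, Commute (σ (g w)⁻¹) P := fun w =>
    pr_comm (fun x => ((tv_comm_of_fix (hfix w) x).inv_left).map σ) α
  have hPz : ∀ x, tz σ (ee F c) x * P = ψ (α * x) • P := fun x => LinearMap.ext fun y => by
    rw [Module.End.mul_apply, pr_eigen (tz_add σ _)]; rfl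
  have hcomm : ∀ u w, σ (g u) * σ (g w) * P =
      ψ (2 * α * sympForm c F w u) • (σ (g w) * σ (g u) * P) := by
    intro u w
    have e1 : g u * g w = g w * g u * sympTv (ee F c) (2 * sympForm c F w u) := by
      have e2 : Commute (g w * g u) (sympTv (ee F c) (2 * sympForm c F w u)) :=
        (tv_comm_of_fix (hfix w) _).mul_left (tv_comm_of_fix (hfix u) _)
      rw [e2.eq]
      simp only [g]
      rw [xs_mul (form_ee_pad _) (form_ee_pad _), xs_mul (form_ee_pad _) (form_ee_pad _), ← mul_assoc,
        sympTv_mul, form_pad, form_pad, sympForm_swap u w, add_comm (pad u) (pad w)]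
      congr 2
      ring
    calc σ (g u) * σ (g w) * P = σ (g w) * σ (g u) * (tz σ (ee F c) (2 * sympForm c F w u) * P) := by
          rw [← map_mul, e1, map_mul, map_mul, tz, mul_assoc]
      _ = _ := by rw [hPz, mul_smul_comm, show α * (2 * sympForm c F w u) = 2 * α * sympForm c F w u by ring]
  let R := LinearMap.range P
  have hmap : ∀ T : Module.End ℂ E, Commute T P → ∀ x ∈ R, T x ∈ R := by
    rintro T hT x ⟨y, rfl⟩
    exact ⟨T y, by rw [← Module.End.mul_apply, ← hT.eq]; rfl⟩
  let T : (Fin c ⊕ Fin c → F) → Module.End ℂ R := fun w => (σ (g w)).restrict (hmap _ (hgP w))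
  let T' : (Fin c ⊕ Fin c → F) → Module.End ℂ R := fun w => (σ (g w)⁻¹).restrict (hmap _ (hgP' w))
  have hTT : ∀ u w, T u * T w * T' u = ψ (2 * α * sympForm c F w u) • T w := by
    intro u w
    refine LinearMap.ext fun r => Subtype.ext ?_
    obtain ⟨y, hy⟩ := (T' u r).2
    show σ (g u) (σ (g w) ((T' u r : R) : E)) = ψ (2 * α * sympForm c F w u) • σ (g w) (r : E)
    have hr : σ (g u) ((T' u r : R) : E) = (r : E) := by
      show σ (g u) (σ (g u)⁻¹ (r : E)) = _
      rw [← rho_mul_apply, mul_inv_cancel, map_one]; rfl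
    rw [← hy] at hr ⊢
    have := LinearMap.congr_fun (hcomm u w) y
    simp only [Module.End.mul_apply, LinearMap.smul_apply] at this
    rw [this, hr]
  have hT0 : ∀ w, T w ≠ 0 := fun w e =>
    rho_ne σ hv0 (congrArg Subtype.val (LinearMap.congr_fun e ⟨v, v, hPv⟩))
  have hli : LinearIndependent ℂ T := by
    rw [Fintype.linearIndependent_iff]
    intro k hk w₀
    have h1 : ∀ u, ∑ w, (k w * ψ (2 * α * sympForm c F w u)) • T w = 0 := by
      intro u
      have : T u * (∑ w, k w • T w) * T' u = 0 := by rw [hk, mul_zero, zero_mul]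
      simpa [Finset.mul_sum, Finset.sum_mul, hTT, smul_smul] using this
    have h3 : ∑ u, ψ (-(2 * α * sympForm c F w₀ u)) • ∑ w, (k w * ψ (2 * α * sympForm c F w u)) • T w = 0 := by
      simp [h1]
    simp only [Finset.smul_sum, smul_smul] at h3
    rw [Finset.sum_comm] at h3
    simp only [← Finset.sum_smul] at h3
    rw [Finset.sum_eq_single w₀] at h3
    · have h4 : ∑ u : Fin c ⊕ Fin c → F, ψ (-(2 * α * sympForm c F w₀ u)) * (k w₀ * ψ (2 * α * sympForm c F w₀ u)) =
          (Fintype.card (Fin c ⊕ Fin c → F) : ℂ) * k w₀ := by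
        rw [← nsmul_eq_mul, ← Finset.card_univ, ← Finset.sum_const]
        refine Finset.sum_congr rfl fun u _ => ?_
        rw [mul_left_comm, ← AddChar.map_add_eq_mul, neg_add_cancel, AddChar.map_zero_eq_one, mul_one]
      rw [h4, smul_eq_zero] at h3
      exact (mul_eq_zero.1 (h3.resolve_right (hT0 w₀))).resolve_left (Nat.cast_ne_zero.2 Fintype.card_ne_zero)
    · intro w _ hw
      let β : (Fin c ⊕ Fin c → F) →ₗ[F] F := (2 * α) • (sympB c F (w - w₀))
      have hβe : ∀ u, β u = -(2 * α * sympForm c F w₀ u) + 2 * α * sympForm c F w u := fun u => by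
        simp only [β, LinearMap.smul_apply, sympB_apply, smul_eq_mul, sympForm_sub_left]; ring
      have hβ : β ≠ 0 := by
        obtain ⟨y, hy⟩ := exists_sympForm_eq_one (sub_ne_zero.2 hw)
        intro e
        have := LinearMap.congr_fun e y
        simp only [β, LinearMap.smul_apply, sympB_apply, hy, smul_eq_mul, mul_one, LinearMap.zero_apply] at this
        exact mul_ne_zero h2 hα this
      have h4 : ∑ u : Fin c ⊕ Fin c → F, ψ (-(2 * α * sympForm c F w₀ u)) * (k w * ψ (2 * α * sympForm c F w u)) = 0 := by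
        calc _ = k w * ∑ u, ψ (β u) := by
              rw [Finset.mul_sum]
              exact Finset.sum_congr rfl fun u _ => by rw [hβe, AddChar.map_add_eq_mul]; ring
          _ = 0 := by rw [Char.sum_char_linear hψ β hβ, mul_zero]
      rw [h4, zero_smul]
    · simp
  have h5 := hli.fintype_card_le_finrank
  rw [Module.finrank_linearMap, Fintype.card_fun, Fintype.card_sum, Fintype.card_fin, pow_add] at h5
  exact Nat.mul_self_le_mul_self_iff.1 h5

/-- The estimate for irreducible representations. -/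
def LowOdd (F : Type u) [Field F] [Fintype F] (m : ℕ) : Prop :=
  ∀ (d : ℕ) (σ : Representation ℂ (Matrix.symplecticGroup (Fin m) F) (Fin d → ℂ)),
    σ.IsIrreducible → (∃ g, σ g ≠ 1) → Fintype.card F ^ m ≤ 2 * d + 1

theorem lowOdd_any {m : ℕ} (hl : LowOdd F m) (π : Representation ℂ (Matrix.symplecticGroup (Fin m) F) E)
    {g₀ : Matrix.symplecticGroup (Fin m) F} (hg₀ : π g₀ ≠ 1) :
    Fintype.card F ^ m ≤ 2 * Module.finrank ℂ E + 1 := by
  classical
  haveI := Fintype.ofFinite (Matrix.symplecticGroup (Fin m) F)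
  obtain ⟨d, τ, hτ, -, hd, hg⟩ := Char.exists_nontrivial_constituent π hg₀
  have := hl d τ hτ hg
  omega

include hψ in
/-- The orbit of a character under the torus. -/
theorem exists_square_class (hodd : Odd (Fintype.card F)) {g₀ : Matrix.symplecticGroup (Fin (1 + c)) F} (hg₀ : σ g₀ ≠ 1) :
    ∃ S : Finset F, (0 : F) ∉ S ∧ Fintype.card F - 1 ≤ 2 * S.card ∧ ∀ α ∈ S, Spec σ ψ (ee F c) α := by
  classical
  obtain ⟨β, hβ, H⟩ := exists_spec σ hψ hg₀ (ee_ne (F := F) (b := c))
  refine ⟨(Finset.univ.erase (0 : F)).image fun a => β * (a * a), ?_, ?_, ?_⟩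
  · simp only [Finset.mem_image, Finset.mem_erase, Finset.mem_univ, and_true, not_exists, not_and]
    intro a ha
    exact mul_ne_zero hβ (mul_ne_zero ha ha)
  · calc Fintype.card F - 1 = (Finset.univ.erase (0 : F)).card := by
          rw [Finset.card_erase_of_mem (Finset.mem_univ _), Finset.card_univ]
      _ ≤ _ := Finset.card_le_mul_card_image (f := fun a => β * (a * a)) (Finset.univ.erase (0 : F)) 2
          fun y hy => by
            obtain ⟨a, -, rfl⟩ := Finset.mem_image.1 hy
            refine (Finset.card_le_card (t := {a, -a}) fun x hx => ?_).trans Finset.card_le_two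
            have h1 := mul_left_cancel₀ hβ (Finset.mem_filter.1 hx).2
            rcases mul_self_eq_mul_self_iff.1 h1 with h | h <;> simp [h]
  · intro α hα
    obtain ⟨a, ha, rfl⟩ := Finset.mem_image.1 hα
    exact H.square σ ψ ee_ne (Finset.ne_of_mem_erase ha)

theorem lowOdd (hodd : Odd (Fintype.card F)) : ∀ m, LowOdd F m
  | 0 => fun d σ _ _ => by simp
  | m + 1 => by
    have ih := lowOdd hodd m
    rw [show m + 1 = 1 + m by omega]
    intro d σ hσ hg
    classical
    obtain ⟨g₀, hg₀⟩ := hg
    have h2 : (2 : F) ≠ 0 := by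
      refine Ring.two_ne_zero fun h => ?_
      have := FiniteField.even_card_iff_char_two.1 h
      rw [Nat.odd_iff] at hodd
      omega
    obtain ⟨ψ, hψ1⟩ := (AddChar.exists_apply_ne_zero (a := (1 : F))).2 one_ne_zero
    have hψ : ψ ≠ 1 := fun h => hψ1 (by rw [h]; rfl)
    have hq := Fintype.one_lt_card (α := F)
    set q := Fintype.card F
    obtain ⟨p, hp⟩ : ∃ p, q = p + 1 := ⟨q - 1, by omega⟩
    have hN : 1 ≤ q ^ m := Nat.one_le_pow _ _ (by omega)
    have hdim : Module.finrank ℂ (Fin d → ℂ) = d := Module.finrank_fin_fun _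
    by_cases hres : ∃ g, res σ ψ g ≠ 1
    · obtain ⟨g, hg⟩ := hres
      have h1 : q ^ m ≤ 2 * Module.finrank ℂ (fix0 σ ψ) + 1 := lowOdd_any ih (res σ ψ) hg
      obtain ⟨S, hS0, hS, hSs⟩ := exists_square_class σ hψ hodd hg₀
      have h3 := count hψ σ hS0 (k := q ^ m) (l := 2) fun α hα =>
        Nat.mul_le_mul_left 2 (range_odd σ hψ h2 (fun h => hS0 (h ▸ hα)) (hSs α hα))
      rw [hdim] at h3
      have h4 : (q - 1) * q ^ m ≤ S.card * (2 * q ^ m) := by
        calc (q - 1) * q ^ m ≤ 2 * S.card * q ^ m := Nat.mul_le_mul_right _ hS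
          _ = _ := by ring
      rw [hp, Nat.add_sub_cancel, ← hp] at h4
      have h5 : q ^ (1 + m) = p * q ^ m + q ^ m := by rw [pow_add, pow_one, hp, add_mul, one_mul]
      clear_value q
      linarith
    · push Not at hres
      rcases Nat.eq_zero_or_pos m with rfl | hm
      · obtain ⟨S, hS0, hS, hSs⟩ := exists_square_class σ hψ hodd hg₀
        have h3 := count hψ σ hS0 (k := 1) (l := 1) fun α hα => by
          have := range_odd σ hψ h2 (fun h => hS0 (h ▸ hα)) (hSs α hα)
          simpa using this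
        rw [hdim] at h3
        simp
        omega
      haveI := hσ
      have hnf := no_fix hψ σ hm hg₀ hres
      have hall : ∀ γ : F, γ ≠ 0 → Spec σ ψ (ee F m) γ := by
        intro γ hγ
        obtain ⟨β, hβ, H⟩ := exists_spec σ hψ hg₀ (ee_ne (F := F) (b := m))
        let w : Fin m ⊕ Fin m → F := Pi.single (Sum.inl ⟨0, hm⟩) 1
        obtain ⟨C, lam, hb⟩ := exists_binary σ hψ (form_ee_pad w) H
        have hpw : ∀ a : F, a • ee F m + pad w ≠ 0 := by
          intro a e
          have := congrFun e (sympBlockEquiv 1 m (Sum.inr (Sum.inl ⟨0, hm⟩)))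
          rw [Pi.add_apply, Pi.smul_apply, ee, pad, glue_apply_inr, glue_apply_inr] at this
          simp [w] at this
        have hne : ∀ a : F, a * a * β + a * lam + C ≠ 0 := fun a =>
          hnf _ ((hb a).move σ ψ (hpw a) ee_ne)
        obtain ⟨a, c, hac⟩ := FiniteField.exists_root_sum_quadratic
          (f := Polynomial.C β * Polynomial.X ^ 2 + Polynomial.C lam * Polynomial.X + Polynomial.C C)
          (g := Polynomial.C (-γ) * Polynomial.X ^ 2 + Polynomial.C 0 * Polynomial.X + Polynomial.C 0)
          (Polynomial.degree_quadratic hβ) (Polynomial.degree_quadratic (neg_ne_zero.2 hγ))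
          (Nat.odd_iff.1 hodd)
        simp at hac
        have hc : c ≠ 0 := by
          rintro rfl
          refine hne a ?_
          linear_combination hac
        have h6 := (hb a).square σ ψ (hpw a) (inv_ne_zero hc)
        have h7 : (a * a * β + a * lam + C) * (c⁻¹ * c⁻¹) = γ := by
          field_simp
          linear_combination hac
        exact h7 ▸ h6.move σ ψ (hpw a) ee_ne
      have h3 := count hψ σ (S := Finset.univ.erase (0 : F)) (by simp) (k := q ^ m) (l := 1) fun α hα => by
        rw [one_mul, one_mul]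
        exact range_odd σ hψ h2 (Finset.ne_of_mem_erase hα) (hall α (Finset.ne_of_mem_erase hα))
      rw [hdim, Finset.card_erase_of_mem (Finset.mem_univ _), Finset.card_univ, one_mul, one_mul, one_mul] at h3
      change (q - 1) * q ^ m + _ ≤ d at h3
      rw [hp, Nat.add_sub_cancel, ← hp] at h3
      have h5 : q ^ (1 + m) = p * q ^ m + q ^ m := by rw [pow_add, pow_one, hp, add_mul, one_mul]
      have h8 : q ^ m ≤ p * q ^ m := Nat.le_mul_of_pos_left _ (by omega)
      omega

end Cfsg.Agent.Lie.SpDeg
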