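import Cfsg.Agent.Lib.Lie.SpDegBasic
import Cfsg.Agent.Lib.Lie.RepDegSUMain

/-! The characters of the long root groups in a representation of `Sp_{2m}`. -/

set_option autoImplicit false
set_option linter.unusedSectionVars false
set_option maxHeartbeats 400000

namespace Cfsg.Agent.Lie.SpDeg

open Matrix Cfsg.Agent.Classical Finset
open Cfsg.Agent.Lie.RepDegSU (pr pr_eigen pr_comm pr_fix exists_pr sum_pr)

universe u w

variable {F : Type u} [Field F] [Fintype F] {m b : ℕ}
variable {E : Type w} [AddCommGroup E] [Module ℂ E] [FiniteDimensional ℂ E]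
variable (ρ : Representation ℂ (Matrix.symplecticGroup (Fin m) F) E)

local notation "V" => (Fin m ⊕ Fin m → F)
local notation "Sp" => Matrix.symplecticGroup (Fin m) F
local notation "B" => sympForm m F

/-- The long root group of a vector as operators. -/
noncomputable def tz (v : V) (x : F) : Module.End ℂ E := ρ (sympTv v x)

theorem tz_zero (v : V) : tz ρ v 0 = 1 := by rw [tz, sympTv_zero, map_one]

theorem tz_add (v : V) (x y : F) : tz ρ v (x + y) = tz ρ v x * tz ρ v y := by
  rw [tz, ← sympTv_mul, map_mul]; rfl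

theorem rho_ne {g : Sp} {u : E} (hu : u ≠ 0) : ρ g u ≠ 0 := fun e => hu (by
  have := congrArg (ρ g⁻¹) e
  rwa [← Module.End.mul_apply, ← map_mul, inv_mul_cancel, map_one, Module.End.one_apply, map_zero] at this)

theorem rho_mul_apply (g k : Sp) (u : E) : ρ (g * k) u = ρ g (ρ k u) := by
  rw [map_mul]; rfl

theorem tz_conj (g : Sp) (v : V) (x : F) (u : E) :
    tz ρ (act g v) x (ρ g u) = ρ g (tz ρ v x u) := by
  rw [tz, tz, ← tv_conj, ← rho_mul_apply, ← rho_mul_apply, inv_mul_cancel_right]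

variable (ψ : AddChar F ℂ)

/-- The character `β` occurs in the root group of `v`. -/
def Spec (v : V) (β : F) : Prop := ∃ u : E, u ≠ 0 ∧ ∀ x, tz ρ v x u = ψ (β * x) • u

theorem Spec.act {v : V} {β : F} (H : Spec ρ ψ v β) (g : Sp) : Spec ρ ψ (act g v) β := by
  obtain ⟨u, hu, hx⟩ := H
  exact ⟨ρ g u, rho_ne ρ hu, fun x => by rw [tz_conj, hx, map_smul]⟩

theorem Spec.smul {v : V} {β : F} (H : Spec ρ ψ v β) (a : F) : Spec ρ ψ (a • v) (β * (a * a)) := by
  obtain ⟨u, hu, hx⟩ := H
  exact ⟨u, hu, fun x => by rw [tz, tv_smul, ← tz, hx, show β * (a * a * x) = β * (a * a) * x by ring]⟩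

theorem Spec.move {v w : V} {β : F} (H : Spec ρ ψ v β) (hv : v ≠ 0) (hw : w ≠ 0) : Spec ρ ψ w β := by
  obtain ⟨g, rfl⟩ := exists_act_eq hv hw
  exact H.act ρ ψ g

theorem Spec.square {v : V} {β a : F} (H : Spec ρ ψ v β) (hv : v ≠ 0) (ha : a ≠ 0) :
    Spec ρ ψ v (β * (a * a)) :=
  (H.smul ρ ψ a).move ρ ψ (smul_ne_zero ha hv) hv

variable {ψ} (hψ : ψ ≠ 1)

include hψ in
/-- A non-trivial character occurs. -/
theorem exists_spec {g₀ : Sp} (hg₀ : ρ g₀ ≠ 1) {e : V} (he : e ≠ 0) :
    ∃ β : F, β ≠ 0 ∧ Spec ρ ψ e β := by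
  by_contra hcon
  push Not at hcon
  apply hg₀
  have htriv : ∀ x, tz ρ e x = 1 := by
    intro x
    calc tz ρ e x = tz ρ e x * ∑ al : F, pr ψ (tz ρ e) al := by rw [sum_pr hψ (tz_zero ρ e), mul_one]
      _ = ∑ al : F, pr ψ (tz ρ e) al := by
          rw [Finset.mul_sum]
          refine Finset.sum_congr rfl fun al _ => LinearMap.ext fun v => ?_
          rw [Module.End.mul_apply, pr_eigen (tz_add ρ e)]
          rcases eq_or_ne al 0 with rfl | hal
          · rw [zero_mul, AddChar.map_zero_eq_one, one_smul]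
          · have h0 : pr ψ (tz ρ e) al v = 0 := by
              by_contra h0
              exact hcon al hal ⟨_, h0, fun y => pr_eigen (tz_add ρ e) al y v⟩
            rw [h0, smul_zero]
      _ = 1 := sum_pr hψ (tz_zero ρ e)
  have hle : Subgroup.closure (sympTvSet m F) ≤ MonoidHom.ker ρ := by
    refine (Subgroup.closure_le _).2 ?_
    rintro A ⟨w, c, hA⟩
    have hA' : A = sympTv w c := Subtype.ext hA
    subst hA'
    rw [SetLike.mem_coe, MonoidHom.mem_ker]
    rcases eq_or_ne w 0 with rfl | hw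
    · have h1 : sympTv (0 : V) c = 1 := sp_ext fun y => by simp [act_tv, act_one]
      rw [h1, map_one]
    obtain ⟨g, hg⟩ := exists_act_eq he hw
    rw [← hg, ← tv_conj, map_mul, map_mul, show ρ (sympTv e c) = 1 from htriv c, mul_one, ← map_mul,
      mul_inv_cancel, map_one]
  rw [closure_sympTvSet] at hle
  exact MonoidHom.mem_ker.1 (hle (Subgroup.mem_top g₀))

include hψ in
/-- One more family of operators is diagonalised. -/
theorem extend {a : F → Module.End ℂ E} (h0 : a 0 = 1) (hmul : ∀ x y, a (x + y) = a x * a y)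
    {v : E} (hv : v ≠ 0) : ∃ (al : F) (u : E), u ≠ 0 ∧ (∀ x, a x u = ψ (al * x) • u) ∧
      ∀ (T : Module.End ℂ E) (c : ℂ), (∀ x, Commute T (a x)) → T v = c • v → T u = c • u := by
  obtain ⟨al, hal⟩ := exists_pr (E := E) hψ h0 hv
  refine ⟨al, _, hal, fun x => pr_eigen hmul al x v, fun T c hT hTv => ?_⟩
  rw [← Module.End.mul_apply, (pr_comm hT al).eq, Module.End.mul_apply, hTv, map_smul]

/-- The eigenvalue of a combination of two orthogonal vectors. -/
theorem eigen_comb {e p : V} (hep : B e p = 0) {A C lam : F} {u : E}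
    (hA : ∀ x, tz ρ e x u = ψ (A * x) • u) (hC : ∀ x, tz ρ p x u = ψ (C * x) • u)
    (hl : ∀ s, ρ (xs e p s) u = ψ (lam * s) • u) (a x : F) :
    tz ρ (a • e + p) x u = ψ ((a * a * A + a * lam + C) * x) • u := by
  rw [tz, tv_comb hep, rho_mul_apply, rho_mul_apply, hl, map_smul, ← tz, ← tz, hC, map_smul, map_smul, hA,
    smul_smul, smul_smul, ← AddChar.map_add_eq_mul, ← AddChar.map_add_eq_mul]
  congr 2
  ring

include hψ in
/-- A binary quadratic form of characters. -/
theorem exists_binary {e p : V} {β : F} (hep : B e p = 0) (H : Spec ρ ψ e β) :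
    ∃ C lam : F, ∀ a, Spec ρ ψ (a • e + p) (a * a * β + a * lam + C) := by
  obtain ⟨u, hu, hA⟩ := H
  obtain ⟨C, u₁, hu₁, hC, hT₁⟩ := extend hψ (tz_zero ρ p) (tz_add ρ p) hu
  have hA₁ : ∀ x, tz ρ e x u₁ = ψ (β * x) • u₁ := fun x => hT₁ _ _
    (fun y => ((tv_comm_of_fix (act_tv_perp (m := m) (by rw [sympForm_swap, hep, neg_zero]) x) y).map ρ)) (hA x)
  have hpe : B p e = 0 := by rw [sympForm_swap, hep, neg_zero]
  obtain ⟨lam, u₂, hu₂, hl, hT₂⟩ := extend hψ (a := fun s => ρ (xs e p s))
    (by simp only [xs_zero hep, map_one]) (fun s t => by simp only [xs_add hep, map_mul]) hu₁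
  refine ⟨C, lam, fun a => ⟨u₂, hu₂, fun x => eigen_comb ρ hep (fun y => ?_) (fun y => ?_) hl a x⟩⟩
  · exact hT₂ _ _ (fun s => ((tv_comm_of_fix (act_xs_perp hep (sympForm_self e) hep s) y).symm).map ρ) (hA₁ y)
  · exact hT₂ _ _ (fun s => ((tv_comm_of_fix (act_xs_perp hep hpe (sympForm_self p) s) y).symm).map ρ) (hC y)

/-! ### the fixed space of one root group -/

section Fixed

variable {c : ℕ} (σ : Representation ℂ (Matrix.symplecticGroup (Fin (1 + c)) F) E)

/-- The fixed space of the first root group. -/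
noncomputable def fix0 (ψ : AddChar F ℂ) : Submodule ℂ E :=
  LinearMap.range (pr ψ (tz σ (ee F c)) 0)

theorem mem_fix0 {u : E} : u ∈ fix0 σ ψ ↔ ∀ x, tz σ (ee F c) x u = u := by
  constructor
  · rintro ⟨v, rfl⟩ x
    rw [pr_eigen (tz_add σ _), zero_mul, AddChar.map_zero_eq_one, one_smul]
  · intro hu
    exact ⟨u, pr_fix fun x => by rw [hu x, zero_mul, AddChar.map_zero_eq_one, one_smul]⟩

theorem emb_fix0 (g : Matrix.symplecticGroup (Fin c) F) : ∀ u ∈ fix0 σ ψ, σ (emb g) u ∈ fix0 σ ψ := by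
  intro u hu
  rw [mem_fix0] at hu ⊢
  intro x
  conv_lhs => rw [← act_emb_ee g, tz_conj, hu]

/-- The representation of the smaller group on the fixed space. -/
noncomputable def res (ψ : AddChar F ℂ) : Representation ℂ (Matrix.symplecticGroup (Fin c) F) (fix0 σ ψ) where
  toFun g := (σ (emb g)).restrict (emb_fix0 σ g)
  map_one' := LinearMap.ext fun u => Subtype.ext (by
    show σ (emb 1) (u : E) = (u : E)
    rw [map_one, map_one, Module.End.one_apply])
  map_mul' g k := LinearMap.ext fun u => Subtype.ext (by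
    show σ (emb (g * k)) (u : E) = σ (emb g) (σ (emb k) (u : E))
    rw [map_mul, rho_mul_apply])

theorem res_apply (g : Matrix.symplecticGroup (Fin c) F) (u : fix0 σ ψ) :
    ((res σ ψ g u : fix0 σ ψ) : E) = σ (emb g) (u : E) := rfl

/-- The fixed space is invariant under everything if the smaller group is trivial on it. -/
theorem fix_perp (htriv : ∀ g, res σ ψ g = 1) {u : E} (hu : ∀ x, tz σ (ee F c) x u = u)
    {y : Fin (1 + c) ⊕ Fin (1 + c) → F} (hy : sympForm (1 + c) F y (ee F c) = 0) : ∀ x, tz σ y x u = u := by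
  have hemb : ∀ (g : Matrix.symplecticGroup (Fin c) F) (v : E), (∀ x, tz σ (ee F c) x v = v) → σ (emb g) v = v :=
    fun g v hv => by
      have h1 := res_apply σ g (⟨v, (mem_fix0 σ).2 hv⟩ : fix0 σ ψ)
      rw [htriv g] at h1
      exact h1.symm
  let X : (Fin c ⊕ Fin c → F) → Module.End ℂ E := fun w => σ (xs (ee F c) (pad w) 1)
  have hXe : ∀ w x, tz σ (ee F c) x (X w u) = X w u := by
    intro w x
    have hf := act_xs_perp (form_ee_pad w) (sympForm_self (ee F c)) (form_ee_pad w) 1
    conv_lhs => rw [← hf, tz_conj, hu]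
  have hXg : ∀ g w, X (act g w) u = X w u := by
    intro g w
    have hginv : σ (emb g)⁻¹ u = u := by rw [← map_inv]; exact hemb _ _ hu
    show σ (xs (ee F c) (pad (act g w)) 1) u = _
    rw [← act_emb_pad g w]
    conv_lhs => rw [← act_emb_ee g, ← xs_conj, rho_mul_apply, rho_mul_apply, hginv]
    exact hemb g _ (hXe w)
  have hXd : ∀ d, X d u = u := by
    intro d
    rcases eq_or_ne d 0 with rfl | hd
    · show σ (xs (ee F c) (pad 0) 1) u = u
      have h1 : xs (ee F c) (pad (0 : Fin c ⊕ Fin c → F)) 1 = 1 := sp_ext fun y => by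
        rw [act_xs (form_ee_pad 0), pad_zero, act_one]; simp
      rw [h1, map_one]; rfl
    obtain ⟨w₀, hw₀⟩ := exists_sympForm_eq_one hd
    have hact : act (sympTv d 1) (-w₀) = -w₀ + d := by
      rw [act_tv, ← neg_one_smul F w₀, sympForm_smul_left, sympForm_swap w₀ d, hw₀]
      simp
    have h1 := hXg (sympTv d 1) (-w₀)
    rw [hact] at h1
    have h2 : X (-w₀) (X d u) = tz σ (ee F c) (sympForm (1 + c) F (pad d) (pad (-w₀))) (X (-w₀ + d) u) := by
      simp only [X, ← rho_mul_apply, tz]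
      rw [xs_mul (form_ee_pad _) (form_ee_pad _), ← pad_add]
    rw [h1, hXe] at h2
    exact (Function.Injective.eq_iff (Module.End.isUnit_iff _ |>.1
      ((Group.isUnit (xs (ee F c) (pad (-w₀)) (1 : F))).map σ)).1).1 h2
  obtain ⟨a, w, rfl⟩ := perp_split hy
  intro x
  rw [tz, tv_comb (form_ee_pad w), rho_mul_apply, rho_mul_apply,
    show xs (ee F c) (pad w) (x * a) = xs (ee F c) (pad ((x * a) • w)) 1 by
      rw [pad_smul, xs_smul (form_ee_pad w), mul_one],
    show σ (xs (ee F c) (pad ((x * a) • w)) 1) u = u from hXd _, ← emb_tv, hemb _ _ hu]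
  exact hu _

include hψ in
/-- Otherwise no vector is fixed by a long root group. -/
theorem no_fix (hc : 1 ≤ c) [σ.IsIrreducible] {g₀ : Matrix.symplecticGroup (Fin (1 + c)) F} (hg₀ : σ g₀ ≠ 1)
    (htriv : ∀ g, res σ ψ g = 1) : ∀ al : F, Spec σ ψ (ee F c) al → al ≠ 0 := by
  rintro al ⟨u, hu0, hu⟩ rfl
  have hu' : ∀ x, tz σ (ee F c) x u = u := fun x => by
    rw [hu x, zero_mul, AddChar.map_zero_eq_one, one_smul]
  have hgen : ∀ v y : Fin (1 + c) ⊕ Fin (1 + c) → F, v ≠ 0 → sympForm (1 + c) F y v = 0 →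
      ∀ z : E, (∀ x, tz σ v x z = z) → ∀ x, tz σ y x z = z := by
    intro v y hv hyv z hz x
    obtain ⟨g, rfl⟩ := exists_act_eq ee_ne hv
    have hz' : ∀ t, tz σ (ee F c) t (σ g⁻¹ z) = σ g⁻¹ z := fun t => by
      conv_lhs => rw [← act_inv g (ee F c), tz_conj, hz]
    have h1 := fix_perp σ htriv hz' (y := act g⁻¹ y) (by
      rw [← act_inv g (ee F c), act_form, hyv]) x
    rw [tz_conj] at h1
    exact (Function.Injective.eq_iff (Module.End.isUnit_iff _ |>.1 ((Group.isUnit g⁻¹).map σ)).1).1 h1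
  have hall : ∀ v : Fin (1 + c) ⊕ Fin (1 + c) → F, ∀ x, tz σ v x u = u := by
    intro v x
    obtain ⟨z, hz0, hze, hzv⟩ : ∃ z, z ≠ 0 ∧ sympForm (1 + c) F z (ee F c) = 0 ∧ sympForm (1 + c) F v z = 0 := by
      let L : (Fin (1 + c) ⊕ Fin (1 + c) → F) →ₗ[F] F × F :=
        ((sympB (1 + c) F).flip (ee F c)).prod (sympB (1 + c) F v)
      obtain ⟨z, hzL, hz0⟩ := Submodule.exists_mem_ne_zero_of_ne_bot
        (LinearMap.ker_ne_bot_of_finrank_lt (f := L) (by
          rw [Module.finrank_prod, Module.finrank_self, Module.finrank_fintype_fun_eq_card,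
            Fintype.card_sum, Fintype.card_fin]
          omega))
      rw [LinearMap.mem_ker, LinearMap.prod_apply] at hzL
      simp only [Function.prod_apply, Prod.mk_eq_zero, LinearMap.flip_apply, sympB_apply] at hzL
      exact ⟨z, hz0, (sympB_apply _ _).symm.trans hzL.1, hzL.2⟩
    exact hgen z v hz0 hzv u (hgen _ z ee_ne hze u hu') x
  have hfix : ∀ g, σ g u = u := by
    intro g
    have hg : g ∈ Subgroup.closure (sympTvSet (1 + c) F) := by rw [closure_sympTvSet]; trivial
    induction hg using Subgroup.closure_induction with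
    | mem A hA =>
      obtain ⟨v, x, hA⟩ := hA
      rw [show A = sympTv v x from Subtype.ext hA]
      exact hall v x
    | one => rw [map_one]; rfl
    | mul A C _ _ hA hC => rw [rho_mul_apply, hC, hA]
    | inv A _ hA =>
      conv_lhs => rw [← hA, ← rho_mul_apply, inv_mul_cancel, map_one]
      rfl
  let W : Subrepresentation σ :=
    { toSubmodule := Submodule.span ℂ {u}
      apply_mem_toSubmodule := fun g w hw => by
        obtain ⟨t, rfl⟩ := Submodule.mem_span_singleton.1 hw
        rw [map_smul, hfix]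
        exact Submodule.smul_mem _ t (Submodule.mem_span_singleton_self u) }
  rcases IsSimpleOrder.eq_bot_or_eq_top W with hW | hW
  · exact hu0 (Submodule.span_singleton_eq_bot.1 (congrArg Subrepresentation.toSubmodule hW))
  · have h0 : Submodule.span ℂ {u} = ⊤ := congrArg Subrepresentation.toSubmodule hW
    refine hg₀ (LinearMap.ext fun w => ?_)
    obtain ⟨t, rfl⟩ := Submodule.mem_span_singleton.1 (h0.ge (Submodule.mem_top (x := w)))
    rw [map_smul, hfix, Module.End.one_apply]

include hψ in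
/-- The dimension is shared among the characters. -/
theorem count {S : Finset F} (hS : (0 : F) ∉ S) {k l : ℕ}
    (hk : ∀ α ∈ S, l * k ≤ l * Module.finrank ℂ (LinearMap.range (pr ψ (tz σ (ee F c)) α))) :
    S.card * (l * k) + l * Module.finrank ℂ (fix0 σ ψ) ≤ l * Module.finrank ℂ E := by
  classical
  have hid : ∀ al, IsIdempotentElem (pr ψ (tz σ (ee F c)) al) := fun al =>
    Char.cproj_idem hψ (tz_add σ _) _
  choose r hr hrR _hr0 using fun al => Char.idem_trace_nat (hid al)
  have hsum : ∑ al, r al = Module.finrank ℂ E := by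
    apply Nat.cast_injective (R := ℂ)
    rw [Nat.cast_sum, Finset.sum_congr rfl fun al _ => (hr al).symm, ← map_sum,
      sum_pr hψ (tz_zero σ _), Module.End.one_eq_id, LinearMap.trace_id]
  rw [← hsum, ← Finset.add_sum_erase _ _ (Finset.mem_univ (0 : F)), fix0, ← hrR 0,
    mul_add l, add_comm (l * r 0), Finset.mul_sum]
  refine Nat.add_le_add_right ?_ _
  calc S.card * (l * k) ≤ ∑ α ∈ S, l * r α := by
        have := Finset.card_nsmul_le_sum S (fun α => l * r α) (l * k) fun α hα => by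
          rw [hrR α]; exact hk α hα
        rwa [smul_eq_mul] at this
    _ ≤ _ := Finset.sum_le_sum_of_subset fun α hα =>
        Finset.mem_erase.2 ⟨fun h => hS (by rw [h] at hα; exact hα), Finset.mem_univ _⟩

end Fixed

end Cfsg.Agent.Lie.SpDeg
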