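import Cfsg.Agent.Lib.Lie.SpRankEigen

/-! A partial Weyl element applied to an eigenvector of a coordinate axis. -/

set_option autoImplicit false
set_option linter.unusedSectionVars false

namespace Cfsg.Agent.Lie.SpRank

open Matrix Finset Cfsg.Agent.Classical

universe u w

variable {F : Type u} [Field F] [Fintype F] [DecidableEq F] {n : ℕ}
variable {E : Type w} [AddCommGroup E] [Module ℂ E] [FiniteDimensional ℂ E]
variable {ψ : AddChar F ℂ} {ρ : Representation ℂ (Matrix.symplecticGroup (Fin n) F) E}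

local notation "M" => Matrix (Fin n) (Fin n) F
local notation "U" => (Fin n → F)

/-- The quadratic character with complex values. -/
noncomputable def qc (s : F) : ℂ := ((quadraticChar F s : ℤ) : ℂ)

theorem qc_one : qc (1 : F) = 1 := by simp [qc]

theorem qc_mul (s t : F) : qc (s * t) = qc s * qc t := by simp [qc, map_mul]

theorem qc_mul_self {s : F} (hs : s ≠ 0) : qc s * qc s = 1 := by
  rw [← qc_mul, qc, ← sq, quadraticChar_sq_one' hs]
  norm_num

theorem qc_inv {s : F} (hs : s ≠ 0) : qc s⁻¹ = qc s := by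
  have h1 : qc s⁻¹ * qc s = 1 := by rw [← qc_mul, inv_mul_cancel₀ hs, qc_one]
  calc qc s⁻¹ = qc s⁻¹ * (qc s * qc s) := by rw [qc_mul_self hs, mul_one]
    _ = qc s := by rw [← mul_assoc, h1, one_mul]

/-- The quadratic exponential sum. -/
noncomputable def gs (ψ : AddChar F ℂ) (k : F) : ℂ := ∑ t : F, ψ (k * t ^ 2)

theorem gs_eq (hψ : ψ ≠ 1) (h2 : ringChar F ≠ 2) {k : F} (hk : k ≠ 0) :
    gs ψ k = ∑ y : F, qc y * ψ (k * y) := by
  classical
  have h0 : ∑ y : F, ψ (k * y) = 0 := by
    refine Char.sum_char_linear (W := F) hψ (k • LinearMap.id) fun e => hk ?_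
    simpa using LinearMap.congr_fun e 1
  calc gs ψ k = ∑ y : F, ∑ t ∈ Finset.univ.filter (fun t : F => t ^ 2 = y), ψ (k * t ^ 2) :=
        (Finset.sum_fiberwise Finset.univ (fun t : F => t ^ 2) _).symm
    _ = ∑ y : F, ((Finset.univ.filter fun t : F => t ^ 2 = y).card : ℂ) * ψ (k * y) := by
        refine Finset.sum_congr rfl fun y _ => ?_
        rw [← nsmul_eq_mul, ← Finset.sum_const]
        exact Finset.sum_congr rfl fun t ht => by rw [(Finset.mem_filter.1 ht).2]
    _ = ∑ y : F, (qc y + 1) * ψ (k * y) := by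
        refine Finset.sum_congr rfl fun y _ => ?_
        congr 1
        have h1 := quadraticChar_card_sqrts h2 y
        rw [Set.toFinset_setOf] at h1
        rw [qc, ← Int.cast_natCast, h1]
        push_cast
        rfl
    _ = _ := by simp only [add_mul, one_mul, Finset.sum_add_distrib, h0, add_zero]

theorem gs_mul (hψ : ψ ≠ 1) (h2 : ringChar F ≠ 2) {k s : F} (hk : k ≠ 0) (hs : s ≠ 0) :
    gs ψ (k * s) = qc s * gs ψ k := by
  rw [gs_eq hψ h2 (mul_ne_zero hk hs), gs_eq hψ h2 hk, Finset.mul_sum]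
  refine Fintype.sum_equiv (Equiv.mulLeft₀ s hs) _ _ fun y => ?_
  rw [show (Equiv.mulLeft₀ s hs) y = s * y from rfl, qc_mul, ← mul_assoc, ← mul_assoc, qc_mul_self hs, one_mul, mul_assoc k]

/-- The scalar of the partial Fourier transform. -/
noncomputable def gam (ψ : AddChar F ℂ) (c : F) : ℂ := qc (-1 : F) / gs ψ (c / 2)

theorem gam_sq_mul (hψ : ψ ≠ 1) (h2 : ringChar F ≠ 2) {c s : F} (hc : c ≠ 0) (hs : s ≠ 0) :
    gam ψ (c * (s * s)) = gam ψ c := by
  have h2' : (2 : F) ≠ 0 := Ring.two_ne_zero h2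
  rw [gam, gam, show c * (s * s) / 2 = c / 2 * (s * s) by ring,
    gs_mul hψ h2 (div_ne_zero hc h2') (mul_ne_zero hs hs), qc_mul, qc_mul_self hs, one_mul]

theorem pj_comm (A T : M) (u : E) : ρ (nel T) (pj ψ ρ A u) = pj ψ ρ A (ρ (nel T) u) := by
  simp only [pj, LinearMap.smul_apply, LinearMap.sum_apply, map_smul, map_sum, ← rho_mul, nel_comm T]

theorem pj_map_lel (hψ : ψ ≠ 1) (A : M) (g : GL (Fin n) F) (u : E) :
    pj ψ ρ ((g : M) * A * (g : M)ᵀ) (ρ (lel g) u) = ρ (lel g) (pj ψ ρ A u) := by
  classical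
  conv_lhs => rw [← sum_pj (ρ := ρ) hψ u, map_sum, map_sum]
  rw [Finset.sum_eq_single A]
  · rw [pj_of_eig hψ ((pj_eig A u).map_lel g), if_pos rfl]
  · intro B _ hB
    rw [pj_of_eig hψ ((pj_eig B u).map_lel g), if_neg]
    intro e
    refine hB ((Units.mul_right_inj g).1 ?_).symm
    have e1 : (g : M) * A = (g : M) * B := by
      have h := congrArg (fun X => X * ((g⁻¹ : GL (Fin n) F) : M)ᵀ) e
      simpa only [Matrix.mul_assoc, ← transpose_mul, ← Units.val_mul, inv_mul_cancel, Units.val_one,
        transpose_one, Matrix.mul_one] using h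
    exact e1
  · simp

theorem tvg_add {i j : Fin n} (h : i ≠ j) (s t : F) : tvg i j (s + t) = tvg i j s * tvg i j t :=
  Units.ext (by rw [Units.val_mul, tvg_coe h, tvg_coe h, tvg_coe h, transvection_mul_transvection_same _ _ h])

theorem tvg_det {i j : Fin n} (h : i ≠ j) (t : F) : (tvg i j t : M).det = 1 := by
  rw [tvg_coe h, det_transvection_of_ne i j h]

theorem dg_one (i : Fin n) : dg i (1 : Fˣ) = 1 :=
  Units.ext (by
    show Matrix.diagonal (Function.update 1 i ((1 : Fˣ) : F)) = 1
    rw [Units.val_one, show (1 : F) = (1 : U) i from rfl, Function.update_eq_self, ← diagonal_one]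
    rfl)

variable (hψ : ψ ≠ 1) (h2 : ringChar F ≠ 2) (hR : RankOne ψ ρ)

include hψ hR in
/-- The image lies on the line through the axis. -/
theorem wel_axis_expand {c : F} (hc : c ≠ 0) {j k : Fin n} (hjk : j ≠ k) {v : E}
    (hv : EigV ψ ρ c (Pi.single k 1) v) :
    ρ (wel j) v = ∑ t : F, ρ (lel (tvg j k t)) (pj ψ ρ (c • vecMulVec (Pi.single k 1) (Pi.single k 1))
      (ρ (wel j) v)) := by
  classical
  set u := ρ (wel j) v with hu
  let At : F → M := fun t => c • vecMulVec (Pi.single k 1 + Pi.single j t) (Pi.single k 1 + Pi.single j t)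
  have hinj : Function.Injective At := fun t t' e => by
    have h1 := congrFun (congrFun e j) k
    simpa [At, vecMulVec_apply, hjk, Ne.symm hjk, hc] using h1
  have hzero : ∀ A, A ∉ Finset.univ.image At → pj ψ ρ A u = 0 := by
    intro A hA
    by_contra hne
    refine hA ?_
    obtain ⟨d, y, rfl⟩ := hR _ _ (pj_eig A u) hne
    have hent : ∀ p p', p ≠ j → p' ≠ j →
        (d • vecMulVec y y : M) p p' = c * (Pi.single k 1 : U) p * (Pi.single k 1 : U) p' := by
      intro p p' hp hp'
      refine Eig.entry_eq hψ (pj_eig _ u) hne fun t => ?_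
      rw [pj_comm, hu, ← rho_mul, ← wel_nel j _ (fun l => by simp [Matrix.single_apply, hp, hp']), rho_mul,
        hv.apply_single, map_smul, map_smul]
    have hkk := hent k k (Ne.symm hjk) (Ne.symm hjk)
    simp only [Matrix.smul_apply, vecMulVec_apply, Pi.single_eq_same, mul_one, smul_eq_mul] at hkk
    have hd : d ≠ 0 := fun e => hc (by rw [← hkk, e, zero_mul])
    have hyk : y k ≠ 0 := fun e => hc (by rw [← hkk, e, zero_mul, mul_zero])
    have hy : y = y k • (Pi.single k 1 + Pi.single j (y j / y k) : U) := by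
      funext p
      by_cases hp : p = j
      · subst hp; simp [hjk]; field_simp
      by_cases hpk : p = k
      · subst hpk; simp [hp]
      have h1 := hent p p hp hp
      simp only [Matrix.smul_apply, vecMulVec_apply, Pi.single_eq_of_ne hpk, mul_zero, smul_eq_mul,
        mul_eq_zero, hd, false_or, or_self] at h1
      simp [h1, hp, hpk]
    refine Finset.mem_image.2 ⟨y j / y k, Finset.mem_univ _, ?_⟩
    conv_rhs => rw [hy]
    rw [smul_vecMulVec, vecMulVec_smul, smul_smul, smul_smul, mul_assoc, hkk]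
  have hsum : u = ∑ t : F, pj ψ ρ (At t) u := by
    rw [← Finset.sum_image (f := fun A => pj ψ ρ A u) (fun a _ b _ h => hinj h)]
    conv_lhs => rw [← sum_pj (ρ := ρ) hψ u]
    exact (Finset.sum_subset (Finset.subset_univ _) fun A _ hA => hzero A hA).symm
  conv_lhs => rw [hsum]
  refine Finset.sum_congr rfl fun t => fun _ => ?_
  have hfix : ρ (lel (tvg j k t)) u = u := by
    have h1 := congrArg (fun g => ρ g v) (wel_nel_cross (F := F) hjk (-t))
    simp only [neg_neg, rho_mul, ← hu] at h1
    rw [← h1, hv.apply_single, Pi.single_eq_of_ne hjk]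
    simp [hu]
  have hA : (tvg j k t : M) * (c • vecMulVec (Pi.single k 1) (Pi.single k 1)) * (tvg j k t : M)ᵀ = At t := by
    rw [smul_vecMulVec_map, tvg_mulVec hjk, Pi.single_eq_same, mul_one]
  rw [← hA, ← pj_map_lel hψ, hfix]

include hψ h2 hR in
/-- The image of an axis vector, the torus, and the norm of the scalar. -/
theorem wel_axis {c : F} (hc : c ≠ 0) {j k : Fin n} (hjk : j ≠ k) {v : E}
    (hv : EigV ψ ρ c (Pi.single k 1) v) :
    ρ (wel j) v = gam ψ c • ∑ t : F, ρ (lel (tvg j k t)) v ∧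
      (∀ s : Fˣ, ρ (lel (dg j s)) v = qc (s : F) • v) ∧
      (v ≠ 0 → gam ψ c ≠ 0 ∧ (Fintype.card F : ℂ) * (gam ψ c * gam ψ c) = qc (-1 : F)) := by
  classical
  have h2' : (2 : F) ≠ 0 := Ring.two_ne_zero h2
  rcases eq_or_ne v 0 with rfl | hv0
  · simp
  set A₀ : M := c • vecMulVec (Pi.single k 1) (Pi.single k 1)
  set b := pj ψ ρ A₀ (ρ (wel j) v) with hb
  have hbE : EigV ψ ρ c (Pi.single k 1) b := pj_eig A₀ _
  set b' := pj ψ ρ A₀ (ρ (wel j) b) with hb'
  have hbE' : EigV ψ ρ c (Pi.single k 1) b' := pj_eig A₀ _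
  have hu := wel_axis_expand hψ hR hc hjk hv
  have hu' := wel_axis_expand hψ hR hc hjk hbE
  rw [← hb] at hu
  rw [← hb'] at hu'
  have hx : ∀ r : F, (tvg j k r : M) *ᵥ Pi.single k 1 = Pi.single k 1 + Pi.single j r := fun r => by
    rw [tvg_mulVec hjk, Pi.single_eq_same, mul_one]
  have hN1 : ∀ r t : F, ρ (nel (Matrix.single j k t)) (ρ (lel (tvg j k r)) b') =
      ψ (c * r * t) • ρ (lel (tvg j k r)) b' := fun r t => by
    have h1 : EigV ψ ρ c (Pi.single k 1 + Pi.single j r) (ρ (lel (tvg j k r)) b') := hx r ▸ hbE'.map_lel _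
    rw [h1.apply_single]
    congr 2
    simp [hjk, Ne.symm hjk]
  have hN2 : ∀ (w : E), EigV ψ ρ c (Pi.single k 1) w → ∀ r t : F,
      ρ (nel (Matrix.single j j t)) (ρ (lel (tvg j k r)) w) = ψ (c * r * r * t) • ρ (lel (tvg j k r)) w :=
    fun w hw r t => by
      have h1 : EigV ψ ρ c (Pi.single k 1 + Pi.single j r) (ρ (lel (tvg j k r)) w) := hx r ▸ hw.map_lel _
      rw [h1.apply_single]
      congr 2
      simp [hjk]
  have hWL : ∀ t : F, ρ (wel j) (ρ (lel (tvg j k t)) b) =
      ∑ r : F, ψ (c * r * t) • ρ (lel (tvg j k r)) b' := fun t => by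
    rw [← rho_mul, wel_lel_cross hjk t, rho_mul, hu', map_sum]
    exact Finset.sum_congr rfl fun r _ => hN1 r t
  -- the braid relation
  have hbr : ∀ s : Fˣ, ρ (lel (dg j s)) v = (qc (s : F) * gs ψ (c / 2)) • ρ (lel (dg j (-1))) b := by
    intro s
    have hs : (s : F) ≠ 0 := s.ne_zero
    have e0 : ρ (nel (Matrix.single j j ((s : F) / 2))) v = v := by
      rw [hv.apply_single, Pi.single_eq_of_ne hjk]; simp
    have e1 : ρ (nel (Matrix.single j j ((s : F) / 2)))
        (ρ (wel j) (ρ (nel (Matrix.single j j (1 / (2 * (s : F))))) (ρ (wel j) v))) =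
        gs ψ (c / (2 * (s : F))) • ρ (wel j) b := by
      rw [hu, hu', map_sum, map_sum, map_sum, Finset.smul_sum]
      simp only [hN2 b hbE, map_smul, hWL, map_sum, hN2 b' hbE', Finset.smul_sum, smul_smul]
      rw [Finset.sum_comm]
      refine Finset.sum_congr rfl fun r _ => ?_
      rw [← Finset.sum_smul]
      congr 1
      simp only [← AddChar.map_add_eq_mul, gs]
      refine Fintype.sum_equiv (Equiv.addRight ((s : F) * r)) _ _ fun t => ?_
      rw [Equiv.coe_addRight]
      congr 1
      field_simp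
      ring
    rw [← braid h2' j s]
    simp only [rho_mul]
    rw [e0, e1, map_smul, ← rho_mul, wel_sq, show c / (2 * (s : F)) = c / 2 * (s : F)⁻¹ by field_simp,
      gs_mul hψ h2 (div_ne_zero hc h2') (inv_ne_zero hs), qc_inv hs]
  have h1 := hbr 1
  rw [dg_one, lel_one, map_one, Module.End.one_apply, Units.val_one, qc_one, one_mul] at h1
  have hG : gs ψ (c / 2) ≠ 0 := fun e => hv0 (by rw [h1, e, zero_smul])
  have hD : ∀ s : Fˣ, ρ (lel (dg j s)) v = qc (s : F) • v := fun s => by
    rw [hbr s, mul_smul, ← h1]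
  have hbv : b = gam ψ c • v := by
    have h3 := congrArg (ρ (lel (dg j (-1)))) h1
    rw [map_smul, ← rho_mul, ← lel_mul, ← dg_mul, hD, show (-1 : Fˣ) * -1 = 1 by simp, dg_one, lel_one,
      map_one, Module.End.one_apply, Units.val_neg, Units.val_one] at h3
    rw [gam, div_eq_inv_mul, mul_smul, h3, inv_smul_smul₀ hG]
  have hW : ρ (wel j) v = gam ψ c • ∑ t : F, ρ (lel (tvg j k t)) v := by
    rw [hu, hbv, Finset.smul_sum]
    exact Finset.sum_congr rfl fun t _ => map_smul _ _ _
  refine ⟨hW, hD, fun _ => ⟨div_ne_zero (fun e => ?_) hG, ?_⟩⟩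
  · have := qc_mul_self (s := (-1 : F)) (by simp)
    rw [e, zero_mul] at this
    exact zero_ne_one this
  have hb2 : b' = gam ψ c • gam ψ c • v := by rw [hb', hbv, map_smul, map_smul, ← hb, hbv]
  have h4 : ρ (lel (dg j (-1))) v = (Fintype.card F : ℂ) • b' := by
    rw [← wel_sq, rho_mul, hu, map_sum]
    simp only [hWL]
    rw [Finset.sum_comm]
    simp only [← Finset.sum_smul]
    rw [Finset.sum_eq_single (0 : F)]
    · simp only [mul_zero, zero_mul, AddChar.map_zero_eq_one, Finset.sum_const, Finset.card_univ, nsmul_eq_mul,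
        mul_one]
      rw [show tvg j k (0 : F) = 1 from Units.ext (by rw [tvg_coe hjk, transvection_zero, Units.val_one]), lel_one,
        map_one, Module.End.one_apply]
    · intro r _ hr
      have h0 : ∑ t : F, ψ (c * r * t) = 0 := by
        refine Char.sum_char_linear (W := F) hψ ((c * r) • LinearMap.id) fun e => ?_
        have := LinearMap.congr_fun e 1
        simp [hc, hr] at this
      rw [h0, zero_smul]
    · simp
  rw [hD, hb2, smul_smul, smul_smul, Units.val_neg, Units.val_one] at h4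
  rw [← mul_assoc]; exact (smul_left_injective ℂ hv0 h4).symm

/-- The block matrix of the other coordinates. -/
def blk (k : Fin n) (X : Matrix {l // l ≠ k} {l // l ≠ k} F) : M :=
  Matrix.of fun i j => if hi : i = k then (if j = k then 1 else 0) else if hj : j = k then 0 else X ⟨i, hi⟩ ⟨j, hj⟩

theorem blk_mul (k : Fin n) (X Y : Matrix {l // l ≠ k} {l // l ≠ k} F) : blk k (X * Y) = blk k X * blk k Y := by
  ext i j
  rw [Matrix.mul_apply, ← Finset.add_sum_erase _ _ (Finset.mem_univ k),
    Finset.sum_subtype (Finset.univ.erase k) (p := fun l => l ≠ k) (F := inferInstance) (fun l => by simp)]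
  by_cases hi : i = k <;> by_cases hj : j = k <;>
    simp [blk, hi, hj, Matrix.mul_apply, fun x : {l // l ≠ k} => x.2]

theorem blk_diagonal (k : Fin n) (D : {l // l ≠ k} → F) :
    blk k (Matrix.diagonal D) = Matrix.diagonal fun i => if h : i = k then 1 else D ⟨i, h⟩ := by
  ext i j
  by_cases hi : i = k <;> by_cases hj : j = k <;> by_cases hij : i = j <;> simp_all [blk, Matrix.diagonal]

theorem blk_transvection (k : Fin n) {p l : {l // l ≠ k}} (hpl : p ≠ l) (t : F) :
    blk k (Matrix.transvection p l t) = Matrix.transvection (p : Fin n) (l : Fin n) t := by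
  ext i j
  simp only [blk, Matrix.transvection, Matrix.of_apply, Matrix.add_apply, Matrix.one_apply, Matrix.single_apply,
    Subtype.ext_iff]
  have hp := p.2
  have hl := l.2
  by_cases hi : i = k <;> by_cases hj : j = k <;> simp [hi, hj, hp, hl, Ne.symm hp, Ne.symm hl] <;>
    first | (split_ifs <;> simp_all [eq_comm]) | exact Ne.symm hj | exact Ne.symm hi | simp_all [eq_comm]

theorem exists_dg_prod (s : Finset (Fin n)) (D : U) (hD : ∀ i, D i ≠ 0) (hs : ∀ i ∉ s, D i = 1) {P : GL (Fin n) F → Prop}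
    (h1 : P 1) (hm : ∀ g h, P g → P h → P (g * h)) (hd : ∀ i ∈ s, P (dg i (Units.mk0 (D i) (hD i)))) :
    ∃ g : GL (Fin n) F, (g : M) = Matrix.diagonal D ∧ P g := by
  classical
  induction s using Finset.induction_on generalizing D with
  | empty => exact ⟨1, by rw [Units.val_one, ← diagonal_one]; congr 1; funext i; exact (hs i (by simp)).symm, h1⟩
  | @insert a s ha ih =>
    have hD' : ∀ i, Function.update D a 1 i ≠ 0 := fun i => by
      by_cases h : i = a
      · subst h; simp
      · simp [h, hD i]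
    obtain ⟨g, hg, hgP⟩ := ih (Function.update D a 1) hD' (fun i hi => by
      by_cases h : i = a
      · subst h; simp
      · simp [h, hs i (by simp [h, hi])]) (fun i hi => by
      have h : i ≠ a := fun e => ha (e ▸ hi)
      have := hd i (Finset.mem_insert_of_mem hi)
      convert this using 2
      ext; simp [h])
    refine ⟨dg a (Units.mk0 (D a) (hD a)) * g, ?_, hm _ _ (hd a (Finset.mem_insert_self a s)) hgP⟩
    rw [Units.val_mul, hg, show (dg a (Units.mk0 (D a) (hD a)) : M) =
      Matrix.diagonal (Function.update 1 a (D a)) from rfl, diagonal_mul_diagonal]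
    congr 1
    funext i
    by_cases h : i = a
    · subst h; simp
    · simp [h]

include hψ h2 hR in
/-- The stabiliser of the axis acts by the character of the determinant. -/
theorem lel_fix {c : F} (hc : c ≠ 0) {k : Fin n} (g : GL (Fin n) F)
    (hg : (g : M) *ᵥ Pi.single k 1 = Pi.single k 1) {v : E} (hv : EigV ψ ρ c (Pi.single k 1) v) :
    ρ (lel g) v = qc (g : M).det • v := by
  classical
  let P : GL (Fin n) F → Prop := fun h => ∀ w : E, EigV ψ ρ c (Pi.single k 1) w → ρ (lel h) w = qc (h : M).det • w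
  have h1 : P 1 := fun w _ => by rw [lel_one, map_one, Units.val_one, det_one, qc_one, one_smul]; rfl
  have hmul : ∀ g h, P g → P h → P (g * h) := fun g h hg hh w hw => by
    rw [lel_mul, rho_mul, hh w hw, map_smul, hg w hw, smul_smul, Units.val_mul, det_mul, qc_mul, mul_comm]
  have hdg : ∀ j, j ≠ k → ∀ s : Fˣ, P (dg j s) := fun j hj s w hw => by
    rw [dg_det]; exact (wel_axis hψ h2 hR hc hj hw).2.1 s
  obtain ⟨s, hs⟩ : ∃ s : Fˣ, (s : F) ≠ 1 :=
    ⟨-1, by rw [Units.val_neg, Units.val_one]; exact Ring.neg_one_ne_one_of_char_ne_two h2⟩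
  have htv : ∀ p l, p ≠ l → l ≠ k → ∀ t, P (tvg p l t) := by
    intro p l hpl hlk t w hw
    rw [tvg_det hpl, qc_one, one_smul]
    have hEig : ∀ τ, EigV ψ ρ c (Pi.single k 1) (ρ (lel (tvg p l τ)) w) := fun τ => by
      have := hw.map_lel (tvg p l τ)
      rwa [tvg_mulVec hpl, Pi.single_eq_of_ne hlk, mul_zero, Pi.single_zero, add_zero] at this
    -- a torus element scales the parameter
    obtain ⟨j, hj, a, ha, hconj⟩ : ∃ j, j ≠ k ∧ ∃ a : F, a ≠ 1 ∧ ∀ τ, dg j s * tvg p l τ = tvg p l (a * τ) * dg j s := by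
      by_cases hp : p = k
      · refine ⟨l, hlk, (s : F)⁻¹, fun e => hs (inv_eq_one.1 e), fun τ => Units.ext (Matrix.ext_iff_mulVec.2 fun x => ?_)⟩
        simp only [Units.val_mul, ← mulVec_mulVec, dg_mulVec, tvg_mulVec hpl]
        funext i
        simp only [Pi.add_apply, Pi.single_apply, if_neg (Ne.symm hpl), if_true]
        have := s.ne_zero
        split_ifs <;> subst_vars <;> first | exact absurd rfl hpl | ((try field_simp) <;> ring)
      · refine ⟨p, hp, (s : F), hs, fun τ => Units.ext (Matrix.ext_iff_mulVec.2 fun x => ?_)⟩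
        simp only [Units.val_mul, ← mulVec_mulVec, dg_mulVec, tvg_mulVec hpl]
        funext i
        simp only [Pi.add_apply, Pi.single_apply, if_neg (Ne.symm hpl), if_true]
        split_ifs <;> subst_vars <;> first | exact absurd rfl hpl | ring
    have hstep : ∀ τ, ρ (lel (tvg p l ((a - 1) * τ))) w = w := fun τ => by
      have h3 := congrArg (fun g => ρ (lel g) w) (hconj τ)
      simp only [lel_mul, rho_mul] at h3
      rw [hdg j hj s _ (hEig τ), hdg j hj s _ hw, map_smul] at h3
      have hq : qc (dg j s : M).det ≠ 0 := fun e => by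
        have := qc_mul_self (s := (dg j s : M).det) (by rw [dg_det]; exact s.ne_zero)
        rw [e, zero_mul] at this
        exact zero_ne_one this
      have h4 := smul_right_injective E hq h3
      rw [show a * τ = τ + (a - 1) * τ by ring, tvg_add hpl, lel_mul, rho_mul] at h4
      exact (rho_inj _ h4).symm
    have := hstep ((a - 1)⁻¹ * t)
    rwa [← mul_assoc, mul_inv_cancel₀ (sub_ne_zero.2 ha), one_mul] at this
  -- row operations
  have hrow : ∀ s : Finset (Fin n), k ∉ s → ∀ f : U, ∃ h : GL (Fin n) F, P h ∧ (∀ x : U,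
      (h : M) *ᵥ x = x + Pi.single k (∑ l ∈ s, f l * x l)) := by
    intro s hs f
    induction s using Finset.induction_on with
    | empty => exact ⟨1, h1, fun x => by simp⟩
    | @insert a s ha ih =>
      rw [Finset.mem_insert, not_or] at hs
      obtain ⟨h, hh, hhx⟩ := ih hs.2
      refine ⟨tvg k a (f a) * h, hmul _ _ (htv k a hs.1 (Ne.symm hs.1) _) hh, fun x => ?_⟩
      rw [Units.val_mul, ← mulVec_mulVec, hhx, tvg_mulVec hs.1, Finset.sum_insert ha, Pi.add_apply,
        Pi.single_eq_of_ne (Ne.symm hs.1), add_zero, Pi.single_add]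
      abel
  let X : Matrix {l // l ≠ k} {l // l ≠ k} F := Matrix.of fun i j => (g : M) i j
  have hcol : ∀ i, (g : M) i k = (Pi.single k 1 : U) i := fun i => by
    have := congrFun hg i
    rwa [mulVec_single_one] at this
  obtain ⟨h, hh, hhx⟩ := hrow (Finset.univ.erase k) (Finset.notMem_erase k _) (fun l => (g : M) k l)
  have hb : ∀ (x : U) i, (blk k X *ᵥ x) i = if i = k then x k else ∑ l ∈ Finset.univ.erase k, (g : M) i l * x l := by
    intro x i
    show ∑ l, blk k X i l * x l = _
    rw [← Finset.add_sum_erase _ _ (Finset.mem_univ k)]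
    by_cases hi : i = k
    · subst hi
      rw [if_pos rfl, Finset.sum_eq_zero fun l hl => by simp [blk, Finset.ne_of_mem_erase hl], add_zero]
      simp [blk]
    · rw [if_neg hi, show blk k X i k = 0 by simp [blk, hi], zero_mul, zero_add]
      exact Finset.sum_congr rfl fun l hl => by simp [blk, X, hi, Finset.ne_of_mem_erase hl]
  have hg' : (g : M) = blk k X * (h : M) := by
    refine Matrix.ext_iff_mulVec.2 fun x => ?_
    rw [← mulVec_mulVec]
    funext i
    rw [hb, hhx]
    show ∑ l, (g : M) i l * x l = _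
    rw [← Finset.add_sum_erase _ _ (Finset.mem_univ k), hcol]
    by_cases hi : i = k
    · subst hi
      rw [Pi.single_eq_same, if_pos rfl, one_mul, Pi.add_apply, Pi.single_eq_same]
    · rw [Pi.single_eq_of_ne hi, if_neg hi, zero_mul, zero_add]
      exact Finset.sum_congr rfl fun l hl => by
        rw [Pi.add_apply, Pi.single_eq_of_ne (Finset.ne_of_mem_erase hl), add_zero]
  have hX : X.det ≠ 0 := by
    intro h0
    obtain ⟨y, hy0, hy⟩ := Matrix.exists_mulVec_eq_zero_iff.2 h0
    let x : U := fun i => if hi : i = k then 0 else y ⟨i, hi⟩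
    have hx : (blk k X) *ᵥ x = 0 := funext fun i => by
      rw [hb]
      by_cases hi : i = k
      · subst hi; simp [x]
      · rw [if_neg hi]
        have := congrFun hy ⟨i, hi⟩
        simp only [Matrix.mulVec, dotProduct, Pi.zero_apply] at this
        rw [Pi.zero_apply, Finset.sum_subtype (Finset.univ.erase k) (p := fun l => l ≠ k) (fun l => by simp)]
        exact (Finset.sum_congr rfl fun l _ => by simp [x, X, l.2]).trans this
    have hu : IsUnit (blk k X) := by
      have := (Units.isUnit (g * h⁻¹))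
      rwa [Units.val_mul, hg', Matrix.mul_assoc, ← Units.val_mul, mul_inv_cancel, Units.val_one, Matrix.mul_one] at this
    have hx0 : x = 0 := (Matrix.mulVec_injective_iff_isUnit.2 hu) (hx.trans (Matrix.mulVec_zero _).symm)
    refine hy0 (funext fun i => ?_)
    simpa [x, i.2] using congrFun hx0 i
  obtain ⟨b, hb', hbP⟩ : ∃ b : GL (Fin n) F, (b : M) = blk k X ∧ P b := by
    refine Matrix.diagonal_transvection_induction_of_det_ne_zero
      (fun Y => ∃ b : GL (Fin n) F, (b : M) = blk k Y ∧ P b) X hX (fun D hD => ?_) (fun t => ?_)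
      (fun Y Z _ _ ⟨b, hb, hbP⟩ ⟨b', hb', hbP'⟩ =>
        ⟨b * b', by rw [Units.val_mul, hb, hb', blk_mul], hmul _ _ hbP hbP'⟩)
    · rw [det_diagonal, Finset.prod_ne_zero_iff] at hD
      obtain ⟨b, hb, hbP⟩ := exists_dg_prod (P := P) (Finset.univ.erase k)
        (fun i => if h : i = k then (1 : F) else D ⟨i, h⟩)
        (fun i => by
          by_cases h : i = k
          · simp [h]
          · simpa [h] using hD ⟨i, h⟩ (Finset.mem_univ _))
        (fun i hi => by
          have h : i = k := by simpa using hi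
          simp [h]) h1 hmul (fun i hi => hdg i (Finset.ne_of_mem_erase hi) _)
      exact ⟨b, hb.trans (blk_diagonal k D).symm, hbP⟩
    · obtain ⟨p, l, hpl, t⟩ := t
      refine ⟨tvg (p : Fin n) (l : Fin n) t, ?_, htv _ _ (fun e => hpl (Subtype.ext e)) l.2 t⟩
      rw [tvg_coe (fun e => hpl (Subtype.ext e))]
      exact (blk_transvection k hpl t).symm
  have e : g = b * h := Units.ext (by rw [Units.val_mul, hb', hg'])
  exact e ▸ hmul _ _ hbP hh v hv

end Cfsg.Agent.Lie.SpRank
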