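import Cfsg.Agent.Lib.Lie.SpRankAxis

/-! The vectors attached to the points of `F ^ n` by a representation of rank one. -/

set_option autoImplicit false
set_option linter.unusedSectionVars false

namespace Cfsg.Agent.Lie.SpRank

open Matrix Finset Cfsg.Agent.Classical
open Cfsg.Agent.Lie.SpDeg (tv_conj exists_act_eq)

universe u w

variable {F : Type u} [Field F] [Fintype F] [DecidableEq F] {n : ℕ}
variable {E : Type w} [AddCommGroup E] [Module ℂ E] [FiniteDimensional ℂ E]
variable {ψ : AddChar F ℂ} {ρ : Representation ℂ (Matrix.symplecticGroup (Fin n) F) E}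

local notation "M" => Matrix (Fin n) (Fin n) F
local notation "U" => (Fin n → F)

/-- Vectors attached to the points, on which the generators act by the standard formulas. -/
structure Mdl (ψ : AddChar F ℂ) (ρ : Representation ℂ (Matrix.symplecticGroup (Fin n) F) E) (c : F)
    (δ : (Fin n → F) → E) : Prop where
  eig : ∀ x, EigV ψ ρ c x (δ x)
  levi : ∀ (g : GL (Fin n) F) (x : Fin n → F),
    ρ (lel g) (δ x) = qc (g : Matrix (Fin n) (Fin n) F).det • δ ((g : Matrix (Fin n) (Fin n) F) *ᵥ x)
  weyl : ∀ (j : Fin n) (x : Fin n → F),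
    ρ (wel j) (δ x) = gam ψ c • ∑ r : F, ψ (c * x j * r) • δ (Function.update x j r)
  ne : ∀ x, x ≠ 0 → δ x ≠ 0

theorem gl_det_ne (g : GL (Fin n) F) : (g : M).det ≠ 0 :=
  ((Matrix.isUnit_iff_isUnit_det _).1 (Units.isUnit g)).ne_zero

theorem qc_ne {s : F} (hs : s ≠ 0) : qc s ≠ 0 := fun e => by
  have := qc_mul_self hs
  rw [e, zero_mul] at this
  exact zero_ne_one this

theorem update_eq_add (x : U) (j : Fin n) (r : F) : Function.update x j r = x + Pi.single j (r - x j) := by
  funext i
  by_cases hi : i = j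
  · subst hi; simp
  · simp [hi]

theorem vmv_eq_zero {c : F} (hc : c ≠ 0) {x : U} (h : c • vecMulVec x x = (0 : M)) : x = 0 := funext fun i => by
  have h1 := congrFun (congrFun h i) i
  simpa [vecMulVec_apply, hc] using h1

theorem vmv_inj {c : F} (hc : c ≠ 0) {x y : U} (h : c • vecMulVec x x = (c • vecMulVec y y : M)) :
    y = x ∨ y = -x := by
  have h1 : ∀ i j, x i * x j = y i * y j := fun i j => by
    have h2 := congrFun (congrFun h i) j
    simpa [vecMulVec_apply, hc] using h2
  rcases eq_or_ne x 0 with rfl | hx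
  · exact Or.inl (funext fun i => by
      have := h1 i i
      simp only [Pi.zero_apply, mul_zero] at this
      exact mul_self_eq_zero.1 this.symm)
  obtain ⟨i, hi⟩ := Function.ne_iff.1 hx
  rcases mul_self_eq_mul_self_iff.1 (h1 i i) with e | e
  · exact Or.inl (funext fun j => by
      have := h1 i j
      rw [← e] at this
      exact (mul_left_cancel₀ hi this).symm)
  · exact Or.inr (funext fun j => by
      have h3 := h1 i j
      have hyi : y i = -x i := by rw [e, neg_neg]
      rw [hyi, neg_mul, ← mul_neg] at h3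
      rw [Pi.neg_apply, mul_left_cancel₀ hi h3, neg_neg])

/-- Eigenvectors with different matrices. -/
theorem pj_mdl (hψ : ψ ≠ 1) {c : F} {δ : U → E} (h : ∀ x, EigV ψ ρ c x (δ x)) (A : M) (x : U) :
    pj ψ ρ A (δ x) = if A = c • vecMulVec x x then δ x else 0 := pj_of_eig hψ (h x)

variable (hψ : ψ ≠ 1) (h2 : ringChar F ≠ 2) (hR : RankOne ψ ρ)

/-- Choice of an element moving the base point. -/
noncomputable def mov (k : Fin n) (x : U) : GL (Fin n) F :=
  haveI := Classical.propDecidable (x ≠ 0)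
  if h : x ≠ 0 then (exists_gl_col h k).choose else 1

theorem mov_spec (k : Fin n) {x : U} (hx : x ≠ 0) : (mov k x : M) *ᵥ Pi.single k 1 = x := by
  rw [mov, dif_pos hx]
  exact (exists_gl_col hx k).choose_spec

include hψ h2 hR in
/-- The vectors of the non-zero points. -/
theorem exists_pre {c : F} (hc : c ≠ 0) {k₀ : Fin n} {v₀ : E} (hv₀ : v₀ ≠ 0)
    (hE : EigV ψ ρ c (Pi.single k₀ 1) v₀) :
    ∃ δ : U → E, (∀ x, x ≠ 0 → EigV ψ ρ c x (δ x) ∧ δ x ≠ 0) ∧
      (∀ (g : GL (Fin n) F) (x : U), x ≠ 0 → ρ (lel g) (δ x) = qc (g : M).det • δ ((g : M) *ᵥ x)) ∧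
      ∀ (j : Fin n) (x : U), (∃ k, k ≠ j ∧ x k ≠ 0) →
        ρ (wel j) (δ x) = gam ψ c • ∑ r : F, ψ (c * x j * r) • δ (Function.update x j r) := by
  classical
  let δ : U → E := fun x => qc (mov k₀ x : M).det • ρ (lel (mov k₀ x)) v₀
  have hne : ∀ x, x ≠ 0 → EigV ψ ρ c x (δ x) ∧ δ x ≠ 0 := fun x hx => by
    refine ⟨?_, smul_ne_zero (qc_ne (gl_det_ne _)) fun e => hv₀ (rho_inj (lel (mov k₀ x)) (by rw [e, map_zero]))⟩
    have := hE.map_lel (mov k₀ x)
    rw [mov_spec k₀ hx] at this
    exact this.smul _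
  have hind : ∀ (g : GL (Fin n) F) (x : U), x ≠ 0 → (g : M) *ᵥ Pi.single k₀ 1 = x →
      ρ (lel g) v₀ = qc (g : M).det • δ x := by
    intro g x hx hg
    set h := (mov k₀ x)⁻¹ * g
    have hh : (h : M) *ᵥ Pi.single k₀ 1 = Pi.single k₀ 1 := by
      rw [Units.val_mul, ← mulVec_mulVec, hg]
      conv_lhs => arg 2; rw [← mov_spec k₀ hx]
      rw [MaxTv.inv_mulVec_cancel]
    have hg' : g = mov k₀ x * h := by simp [h]
    simp only [δ]
    have hdet : qc (g : M).det = qc (mov k₀ x : M).det * qc (h : M).det := by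
      rw [hg', Units.val_mul, det_mul, qc_mul]
    conv_lhs => rw [hg', lel_mul, rho_mul, lel_fix hψ h2 hR hc h hh hE, map_smul]
    rw [smul_smul]
    congr 1
    rw [hdet]
    linear_combination (-qc (h : M).det) * qc_mul_self (gl_det_ne (mov k₀ x))
  have hlevi : ∀ (g : GL (Fin n) F) (x : U), x ≠ 0 → ρ (lel g) (δ x) = qc (g : M).det • δ ((g : M) *ᵥ x) := by
    intro g x hx
    have hgx : (g : M) *ᵥ x ≠ 0 := fun e => hx (MaxTv.gl_mulVec_injective g (e.trans (mulVec_zero _).symm))
    have h1 := hind (g * mov k₀ x) _ hgx (by rw [Units.val_mul, ← mulVec_mulVec, mov_spec k₀ hx])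
    rw [lel_mul, rho_mul] at h1
    simp only [δ, map_smul] at h1 ⊢
    rw [h1]
    simp only [smul_smul, Units.val_mul, det_mul, qc_mul]
    congr 1
    linear_combination (qc (g : M).det * qc (mov k₀ ((g : M) *ᵥ x) : M).det) * qc_mul_self (gl_det_ne (mov k₀ x))
  refine ⟨δ, hne, hlevi, ?_⟩
  rintro j x ⟨k, hkj, hxk⟩
  set a := x k with ha
  set b := x j with hb
  let e : F → U := fun r => Pi.single k a + Pi.single j r
  have he : ∀ r, e r ≠ 0 := fun r h => hxk (by
    have := congrFun h k
    simpa [e, hkj] using this)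
  -- from the axis
  have hv1 : EigV ψ ρ (c * (a * a)) (Pi.single k 1) (δ (e 0)) := by
    have h1 := (hne _ (he 0)).1
    rw [EigV] at h1 ⊢
    convert h1 using 1
    ext p p'
    simp only [Matrix.smul_apply, vecMulVec_apply, smul_eq_mul, e, Pi.single_zero, add_zero, Pi.single_apply]
    split_ifs <;> ring
  have hde : ∀ r, δ (e r) = ρ (lel (tvg j k (r / a))) (δ (e 0)) := fun r => by
    rw [hlevi _ _ (he 0), tvg_det (Ne.symm hkj), qc_one, one_smul, tvg_mulVec (Ne.symm hkj)]
    congr 1
    simp [e, hkj]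
    rw [div_mul_cancel₀ _ hxk]
  have hW0 : ρ (wel j) (δ (e 0)) = gam ψ c • ∑ r : F, δ (e r) := by
    rw [(wel_axis hψ h2 hR (mul_ne_zero hc (mul_ne_zero hxk hxk)) (Ne.symm hkj) hv1).1, gam_sq_mul hψ h2 hc hxk]
    congr 1
    refine Fintype.sum_equiv (Equiv.mulRight₀ a hxk) _ _ fun t => ?_
    show ρ (lel (tvg j k t)) (δ (e 0)) = δ (e (t * a))
    rw [hde (t * a), mul_div_assoc, div_self hxk, mul_one]
  have hWe : ρ (wel j) (δ (e b)) = gam ψ c • ∑ r : F, ψ (c * b * r) • δ (e r) := by
    rw [hde b, ← rho_mul, wel_lel_cross (Ne.symm hkj), rho_mul, hW0, map_smul, map_sum]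
    congr 1
    refine Finset.sum_congr rfl fun r _ => ?_
    rw [(hne _ (he r)).1.apply_single]
    congr 2
    simp [e, hkj, Ne.symm hkj]
    field_simp
  -- to the point
  let L : U →ₗ[F] U :=
    { toFun := fun y => y + y k • (a⁻¹ • (x - Pi.single j b) - Pi.single k 1)
      map_add' := fun p p' => by simp only [Pi.add_apply, add_smul]; abel
      map_smul' := fun t p => by simp [smul_add, smul_smul] }
  have hLk : ∀ y, L y k = y k := fun y => by
    simp [L, hkj, ← ha, inv_mul_cancel₀ hxk]
  have hL : Function.Injective L := (injective_iff_map_eq_zero L).2 fun y hy => by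
    have h0 : y k = 0 := by rw [← hLk y, hy]; rfl
    simpa [L, h0] using hy
  obtain ⟨g, hg⟩ := MaxTv.exists_gl_of_injective L hL
  have hg1 : (g : M) *ᵥ Pi.single j 1 = Pi.single j 1 := by
    rw [hg]; simp [L, hkj]
  have hg2 : (g : M)ᵀ *ᵥ Pi.single j 1 = Pi.single j 1 := by
    funext l
    rw [mulVec_single_one]
    show (g : M) j l = (Pi.single j 1 : U) l
    have h1 := congrFun (hg (Pi.single l 1)) j
    rw [mulVec_single_one] at h1
    change (g : M) j l = _ at h1
    rw [h1]
    rcases eq_or_ne l k with rfl | hlk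
    · simp [L, hkj, Ne.symm hkj, ← hb]
    · simp [L, hkj, Ne.symm hkj, ← hb, Ne.symm hlk, Pi.single_apply, eq_comm]
  have hge : ∀ r, (g : M) *ᵥ e r = Function.update x j r := fun r => by
    rw [hg, update_eq_add, ← hb]
    funext p
    simp [L, e, hkj, Ne.symm hkj, ← mul_assoc, mul_inv_cancel₀ hxk, Pi.single_apply]
    split_ifs <;> subst_vars <;> first | exact absurd rfl hkj | simp [a, b, hxk, mul_inv_cancel₀ hxk] | ring
  have hx : δ x = qc (g : M).det • ρ (lel g) (δ (e b)) := by
    rw [hlevi _ _ (he b), smul_smul, qc_mul_self (gl_det_ne _), one_smul, hge, hb, Function.update_eq_self]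
  rw [hx, map_smul, ← rho_mul, wel_lel j g hg1 hg2, rho_mul, hWe, map_smul, map_sum, smul_comm]
  congr 1
  rw [Finset.smul_sum]
  refine Finset.sum_congr rfl fun r _ => ?_
  rw [map_smul, hlevi _ _ (he r), hge, smul_comm (qc _), smul_smul (qc _), qc_mul_self (gl_det_ne _), one_smul]

include hψ hR in
/-- The image of the vector of an axis point. -/
theorem wel_point {c : F} (hc : c ≠ 0) (h2 : ringChar F ≠ 2) {i j : Fin n} (hij : j ≠ i) {δ : U → E}
    (hne : ∀ x, x ≠ 0 → EigV ψ ρ c x (δ x) ∧ δ x ≠ 0)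
    (hlevi : ∀ (g : GL (Fin n) F) (x : U), x ≠ 0 → ρ (lel g) (δ x) = qc (g : M).det • δ ((g : M) *ᵥ x))
    (hweyl : ∀ (j : Fin n) (x : U), (∃ k, k ≠ j ∧ x k ≠ 0) →
        ρ (wel j) (δ x) = gam ψ c • ∑ r : F, ψ (c * x j * r) • δ (Function.update x j r))
    {a : F} (ha : a ≠ 0) :
    let φ := pj ψ ρ 0 (ρ (wel i) (δ (Pi.single i a)))
    ρ (wel i) (δ (Pi.single i a)) =
        φ + gam ψ c • ∑ s ∈ Finset.univ.erase (0 : F), ψ (c * a * s) • δ (Pi.single i s) ∧
      ρ (wel j) φ = gam ψ c • φ + (gam ψ c * gam ψ c) • ∑ r ∈ Finset.univ.erase (0 : F), δ (Pi.single j r) := by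
  classical
  intro φ
  have hpa : ∀ s : F, s ≠ 0 → (Pi.single i s : U) ≠ 0 := fun s hs e => hs (by simpa using congrFun e i)
  set R := ρ (wel i) (δ (Pi.single i a)) with hRd
  set P : F → U := fun s => Pi.single i s
  let e : F → F → U := fun s r => Pi.single i s + Pi.single j r
  -- the components
  have hcomp : ∀ A, pj ψ ρ A R ≠ 0 → ∀ p p', p ≠ i → p' ≠ i → A p p' = 0 := by
    intro A hA p p' hp hp'
    refine Eig.entry_eq hψ (pj_eig _ R) hA fun t => ?_
    rw [pj_comm, hRd, ← rho_mul, ← wel_nel i _ (fun l => by simp [Matrix.single_apply, hp, hp']), rho_mul,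
      (hne _ (hpa a ha)).1.apply_single, map_smul, map_smul, Pi.single_eq_of_ne hp]
    simp
  have hzero : ∀ A, A ∉ Finset.univ.image (fun d : F => Matrix.single i i d) → pj ψ ρ A R = 0 := by
    intro A hA
    by_contra hne'
    refine hA ?_
    obtain ⟨d, y, rfl⟩ := hR _ _ (pj_eig A R) hne'
    refine Finset.mem_image.2 ⟨d * (y i * y i), Finset.mem_univ _, Matrix.ext fun p p' => ?_⟩
    simp only [Matrix.single_apply, Matrix.smul_apply, vecMulVec_apply, smul_eq_mul]
    by_cases h : i = p ∧ i = p'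
    · rw [if_pos h, ← h.1, ← h.2]
    rw [if_neg h]
    rw [not_and_or] at h
    have key : ∀ l, l ≠ i → d = 0 ∨ y l = 0 := fun l hl => by
      have := hcomp _ hne' l l hl hl
      rw [Matrix.smul_apply, vecMulVec_apply, smul_eq_mul] at this
      exact (mul_eq_zero.1 this).imp id mul_self_eq_zero.1
    rcases h with h | h
    · rcases key p (Ne.symm h) with e' | e' <;> rw [e'] <;> ring
    · rcases key p' (Ne.symm h) with e' | e' <;> rw [e'] <;> ring
  have hsum : R = φ + ∑ d ∈ Finset.univ.erase (0 : F), pj ψ ρ (Matrix.single i i d) R := by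
    conv_lhs => rw [← sum_pj (ρ := ρ) hψ R, ← Finset.sum_subset (Finset.subset_univ _) (fun A _ hA => hzero A hA),
      Finset.sum_image (fun x _ y _ h => by simpa using congrFun (congrFun h i) i),
      ← Finset.add_sum_erase _ _ (Finset.mem_univ (0 : F))]
    rw [Matrix.single_zero]
  have hsingle : ∀ d : F, (Matrix.single i i d : M) = d • vecMulVec (Pi.single i 1) (Pi.single i 1) := fun d => by
    ext p p'
    simp only [Matrix.single_apply, Matrix.smul_apply, vecMulVec_apply, smul_eq_mul, Pi.single_apply]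
    by_cases h1 : p = i
    · by_cases h2 : p' = i
      · rw [if_pos ⟨h1.symm, h2.symm⟩, if_pos h1, if_pos h2, mul_one, mul_one]
      · rw [if_neg (fun h => h2 h.2.symm), if_neg h2, mul_zero, mul_zero]
    · rw [if_neg (fun h => h1 h.1.symm), if_neg h1, zero_mul, mul_zero]
  have hEd : ∀ d, EigV ψ ρ d (Pi.single i 1) (pj ψ ρ (Matrix.single i i d) R) := fun d => by
    rw [EigV, ← hsingle]; exact pj_eig _ R
  -- the commutation
  have hWd : ρ (wel j) (δ (P a)) = gam ψ c • ∑ r : F, δ (e a r) := by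
    rw [hweyl j (P a) ⟨i, hij.symm, by simpa [P] using ha⟩]
    congr 1
    refine Finset.sum_congr rfl fun r _ => ?_
    simp only [P]
    rw [Pi.single_eq_of_ne hij, mul_zero, zero_mul, AddChar.map_zero_eq_one, one_smul, update_eq_add,
      Pi.single_eq_of_ne hij, sub_zero]
  have hkey : ρ (wel j) R = gam ψ c • R + (gam ψ c * gam ψ c) •
      ∑ r ∈ Finset.univ.erase (0 : F), ∑ s : F, ψ (c * a * s) • δ (e s r) := by
    rw [hRd, ← rho_mul, wel_comm, rho_mul, hWd, map_smul, map_sum,
      ← Finset.add_sum_erase _ _ (Finset.mem_univ (0 : F)), smul_add, show e a 0 = P a by simp [e, P], mul_smul,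
      Finset.smul_sum (s := Finset.univ.erase (0 : F)) (r := gam ψ c), ← hRd]
    congr 1
    rw [Finset.smul_sum, Finset.smul_sum]
    refine Finset.sum_congr rfl fun r hr => ?_
    congr 1
    rw [hweyl i (e a r) ⟨j, hij, by simpa [e, hij] using Finset.ne_of_mem_erase hr⟩]
    congr 1
    refine Finset.sum_congr rfl fun s _ => ?_
    have h1 : Function.update (e a r) i s = e s r := by
      rw [update_eq_add]; funext p
      simp [e, Pi.single_apply, hij.symm]
      split_ifs <;> subst_vars <;> first | exact absurd rfl hij | ring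
    rw [h1]
    simp [e, hij.symm]
  -- the fixed part
  have hφ0 : ∀ T, ρ (nel T) φ = φ := fun T => by
    rw [pj_eig (0 : M) R T, tp_comm, tp_zero, AddChar.map_zero_eq_one, one_smul]
  have hWφ : ∀ Q : M, Q i i ≠ 0 → pj ψ ρ Q (ρ (wel j) φ) = 0 := by
    intro Q hQ
    by_contra h
    refine hQ (Eig.entry_eq hψ (pj_eig Q _) h fun t => ?_)
    rw [pj_comm, ← rho_mul, ← wel_nel j _ (fun l => by simp [Matrix.single_apply, hij.symm]), rho_mul, hφ0,
      zero_mul, AddChar.map_zero_eq_one, one_smul]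
  -- every component
  have hRd' : ∀ d, d ≠ 0 → pj ψ ρ (Matrix.single i i d) R =
      gam ψ c • ∑ s ∈ (Finset.univ.erase (0 : F)).filter (fun s => c * (s * s) = d), ψ (c * a * s) • δ (P s) := by
    intro d hd
    set Rd := pj ψ ρ (Matrix.single i i d) R
    let x₁ : U := Pi.single i 1 + Pi.single j 1
    set Q : M := d • vecMulVec x₁ x₁
    have hQi : Q i i ≠ 0 := by simp [Q, x₁, vecMulVec_apply, hij, Ne.symm hij, hd]
    have hQR : pj ψ ρ Q R = 0 := hzero Q fun h => by
      obtain ⟨d', -, hd'⟩ := Finset.mem_image.1 h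
      have := congrFun (congrFun hd' j) j
      simp [Q, x₁, vecMulVec_apply, hij, Ne.symm hij] at this
      exact hd this.symm
    have hL : pj ψ ρ Q (ρ (wel j) R) = gam ψ d • ρ (lel (tvg j i 1)) Rd := by
      rw [hsum, map_add, map_add, hWφ Q hQi, zero_add, map_sum, map_sum, Finset.sum_eq_single d]
      · rw [(wel_axis hψ h2 hR hd hij (hEd d)).1, map_smul, map_sum, Finset.sum_eq_single (1 : F)]
        · have := (hEd d).map_lel (tvg j i (1 : F))
          rw [tvg_mulVec hij, Pi.single_eq_same, mul_one] at this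
          rw [pj_of_eig hψ this, if_pos rfl]
        · intro t _ ht
          have := (hEd d).map_lel (tvg j i t)
          rw [tvg_mulVec hij, Pi.single_eq_same, mul_one] at this
          rw [pj_of_eig hψ this, if_neg]
          intro h
          have h' := congrFun (congrFun h i) j
          simp [Q, x₁, vecMulVec_apply, hij, Ne.symm hij, hd] at h'
          exact ht h'
        · simp
      · intro d' hd' hne'
        rw [(wel_axis hψ h2 hR (Finset.ne_of_mem_erase hd') hij (hEd d')).1, map_smul, map_sum,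
          Finset.sum_eq_zero fun t _ => ?_, smul_zero]
        have := (hEd d').map_lel (tvg j i t)
        rw [tvg_mulVec hij, Pi.single_eq_same, mul_one] at this
        rw [pj_of_eig hψ this, if_neg]
        intro h
        have h' := congrFun (congrFun h i) i
        simp [Q, x₁, vecMulVec_apply, hij, Ne.symm hij] at h'
        exact hne' h'.symm
      · intro h; exact absurd (Finset.mem_erase.2 ⟨hd, Finset.mem_univ _⟩) h
    have hRt : pj ψ ρ Q (ρ (wel j) R) = (gam ψ c * gam ψ c) •
        ρ (lel (tvg j i 1)) (∑ s ∈ (Finset.univ.erase (0 : F)).filter (fun s => c * (s * s) = d),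
          ψ (c * a * s) • δ (P s)) := by
      rw [hkey, map_add, map_smul, hQR, smul_zero, zero_add, map_smul]
      congr 1
      simp only [map_sum, map_smul]
      rw [Finset.sum_comm, ← Finset.add_sum_erase _ _ (Finset.mem_univ (0 : F)), Finset.sum_eq_zero ?_, zero_add,
        Finset.sum_filter]
      · refine Finset.sum_congr rfl fun s hs => ?_
        have hs0 := Finset.ne_of_mem_erase hs
        rw [Finset.sum_eq_single s]
        · have he : e s s ≠ 0 := fun h => hs0 (by simpa [e, hij.symm] using congrFun h i)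
          rw [pj_of_eig hψ (hne _ he).1]
          have hiff : Q = c • vecMulVec (e s s) (e s s) ↔ c * (s * s) = d := by
            constructor
            · intro h
              have h' := congrFun (congrFun h i) i
              simp [Q, x₁, e, vecMulVec_apply, hij, Ne.symm hij] at h'
              exact h'.symm
            · intro h
              rw [show e s s = s • x₁ by simp [e, x₁, smul_add, ← Pi.single_smul], smul_vecMulVec, vecMulVec_smul,
                smul_smul, smul_smul, mul_assoc, h]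
          by_cases h : c * (s * s) = d
          · rw [if_pos h, if_pos (hiff.2 h), hlevi _ _ (hpa s hs0), tvg_det hij, qc_one, one_smul, tvg_mulVec hij,
              Pi.single_eq_same, one_mul]
          · rw [if_neg h, if_neg (mt hiff.1 h), smul_zero]
        · intro r hr hrs
          have he : e s r ≠ 0 := fun h => hs0 (by simpa [e, hij.symm] using congrFun h i)
          rw [pj_of_eig hψ (hne _ he).1, if_neg, smul_zero]
          intro h
          have hii := congrFun (congrFun h i) i
          have hjj := congrFun (congrFun h i) j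
          simp [Q, x₁, e, vecMulVec_apply, hij, Ne.symm hij] at hii hjj
          exact hrs (mul_left_cancel₀ hs0 (mul_left_cancel₀ hc (hjj.symm.trans hii)))
        · intro h; exact absurd hs h
      · intro r hr
        have he : e 0 r ≠ 0 := fun h => Finset.ne_of_mem_erase hr (by simpa [e] using congrFun h j)
        rw [pj_of_eig hψ (hne _ he).1, if_neg, smul_zero]
        intro h
        have h' := congrFun (congrFun h i) i
        simp [Q, x₁, e, vecMulVec_apply, hij, Ne.symm hij] at h'
        exact hd h'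
    have hE := hL.symm.trans hRt
    rw [← map_smul (ρ (lel (tvg j i (1 : F)))), ← map_smul (ρ (lel (tvg j i (1 : F))))] at hE
    have h3 := rho_inj _ hE
    rcases ((Finset.univ.erase (0 : F)).filter fun s => c * (s * s) = d).eq_empty_or_nonempty with he | ⟨s, hs⟩
    · rw [he, Finset.sum_empty, smul_zero] at h3 ⊢
      by_contra hne'
      exact hne' ((smul_eq_zero.1 h3).resolve_left
        (((wel_axis hψ h2 hR hd hij (hEd d)).2.2 hne').1))
    · simp only [Finset.mem_filter, Finset.mem_erase] at hs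
      obtain ⟨⟨hs0, -⟩, hsd⟩ := hs
      rw [← hsd, gam_sq_mul hψ h2 hc hs0, hsd, mul_smul] at h3
      have hv : EigV ψ ρ (c * (s * s)) (Pi.single i 1) (δ (P s)) := by
        have h1 := (hne _ (hpa s hs0)).1
        rw [EigV] at h1 ⊢
        convert h1 using 1
        ext p p'
        simp only [Matrix.smul_apply, vecMulVec_apply, smul_eq_mul, Pi.single_apply]
        split_ifs <;> ring
      have hg := ((wel_axis hψ h2 hR (mul_ne_zero hc (mul_ne_zero hs0 hs0)) hij hv).2.2 (hne _ (hpa s hs0)).2).1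
      rw [gam_sq_mul hψ h2 hc hs0] at hg
      exact smul_right_injective E hg h3
  have hR' : R = φ + gam ψ c • ∑ s ∈ Finset.univ.erase (0 : F), ψ (c * a * s) • δ (Pi.single i s) := by
    conv_lhs => rw [hsum, Finset.sum_congr rfl (fun d hd => hRd' d (Finset.ne_of_mem_erase hd)), ← Finset.smul_sum,
      Finset.sum_fiberwise_of_maps_to (g := fun s => c * (s * s)) (fun s hs => Finset.mem_erase.2
        ⟨mul_ne_zero hc (mul_ne_zero (Finset.ne_of_mem_erase hs) (Finset.ne_of_mem_erase hs)), Finset.mem_univ _⟩)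
        (fun s => ψ (c * a * s) • δ (P s))]
  refine ⟨hR', ?_⟩
  have hWs : ∀ s : F, s ≠ 0 → ρ (wel j) (δ (P s)) = gam ψ c • ∑ r : F, δ (e s r) := by
    intro s hs
    rw [hweyl j (P s) ⟨i, hij.symm, by simpa [P] using hs⟩]
    congr 1
    refine Finset.sum_congr rfl fun r _ => ?_
    simp only [P]
    rw [Pi.single_eq_of_ne hij, mul_zero, zero_mul, AddChar.map_zero_eq_one, one_smul, update_eq_add,
      Pi.single_eq_of_ne hij, sub_zero]
  have hL : ρ (wel j) R = ρ (wel j) φ + (gam ψ c * gam ψ c) •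
      (∑ s ∈ Finset.univ.erase (0 : F), ψ (c * a * s) • δ (P s) +
        ∑ r ∈ Finset.univ.erase (0 : F), ∑ s ∈ Finset.univ.erase (0 : F), ψ (c * a * s) • δ (e s r)) := by
    rw [hR', map_add, map_smul, map_sum, Finset.sum_comm, ← Finset.sum_add_distrib, mul_smul, Finset.smul_sum,
      Finset.smul_sum, Finset.smul_sum]
    congr 1
    refine Finset.sum_congr rfl fun s hs => ?_
    rw [map_smul, hWs s (Finset.ne_of_mem_erase hs), ← Finset.add_sum_erase _ _ (Finset.mem_univ (0 : F)),
      show e s 0 = P s by simp [e, P], ← Finset.smul_sum]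
    module
  have hsplit : ∑ r ∈ Finset.univ.erase (0 : F), ∑ s : F, ψ (c * a * s) • δ (e s r) =
      ∑ r ∈ Finset.univ.erase (0 : F), δ (Pi.single j r) +
        ∑ r ∈ Finset.univ.erase (0 : F), ∑ s ∈ Finset.univ.erase (0 : F), ψ (c * a * s) • δ (e s r) := by
    rw [← Finset.sum_add_distrib]
    refine Finset.sum_congr rfl fun r _ => ?_
    rw [← Finset.add_sum_erase _ _ (Finset.mem_univ (0 : F)), mul_zero, AddChar.map_zero_eq_one, one_smul,
      show e 0 r = Pi.single j r by simp [e]]
  have h4 := hL.symm.trans hkey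
  rw [hsplit, hR'] at h4
  linear_combination (norm := module) h4

include hψ h2 hR in
/-- All the vectors. -/
theorem exists_mdl (hn : 2 ≤ n) {c : F} (hc : c ≠ 0) {k₀ : Fin n} {v₀ : E} (hv₀ : v₀ ≠ 0)
    (hE : EigV ψ ρ c (Pi.single k₀ 1) v₀) : ∃ δ : U → E, Mdl ψ ρ c δ := by
  classical
  obtain ⟨δ, hne, hlevi, hweyl⟩ := exists_pre hψ h2 hR hc hv₀ hE
  set γ := gam ψ c with hγ
  obtain ⟨j₀, hj₀⟩ : ∃ j, j ≠ k₀ := by
    haveI : Nontrivial (Fin n) := Fin.nontrivial_iff_two_le.2 hn
    exact exists_ne k₀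
  obtain ⟨hγ0, hγq⟩ := (wel_axis hψ h2 hR hc hj₀ hE).2.2 hv₀
  have hother : ∀ i : Fin n, ∃ j, j ≠ i := fun i => by
    haveI : Nontrivial (Fin n) := Fin.nontrivial_iff_two_le.2 hn
    exact exists_ne i
  let φ : Fin n → F → E := fun i a => pj ψ ρ 0 (ρ (wel i) (δ (Pi.single i a)))
  have hp := fun (i j : Fin n) (hij : j ≠ i) (a : F) (ha : a ≠ 0) => wel_point hψ hR hc h2 hij hne hlevi hweyl ha
  have hpa : ∀ (i : Fin n) (s : F), s ≠ 0 → (Pi.single i s : U) ≠ 0 := fun i s hs e => hs (by
    simpa using congrFun e i)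
  have hpL : ∀ (g : GL (Fin n) F) (v : E), pj ψ ρ 0 (ρ (lel g) v) = ρ (lel g) (pj ψ ρ 0 v) := fun g v => by
    simpa using pj_map_lel (ρ := ρ) hψ (0 : M) g v
  -- the torus
  have hD : ∀ i j, j ≠ i → ∀ a, a ≠ 0 → ∀ s : Fˣ, ρ (lel (dg j s)) (φ i a) = qc (s : F) • φ i a := by
    intro i j hij a ha s
    simp only [φ]
    rw [← hpL, ← rho_mul, ← wel_lel i (dg j s) (by rw [dg_mulVec, Pi.single_eq_of_ne hij]; simp)
      (by rw [dg_transpose, dg_mulVec, Pi.single_eq_of_ne hij]; simp), rho_mul, hlevi _ _ (hpa i a ha),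
      dg_mulVec, Pi.single_eq_of_ne hij, mul_zero, Pi.single_zero, add_zero, dg_det, map_smul, map_smul]
  -- two steps
  have hrec : ∀ i j, j ≠ i → ∀ a, a ≠ 0 → (qc (-1 : F) - γ * γ) • φ i a =
      (γ * γ) • ∑ r ∈ Finset.univ.erase (0 : F), φ j r := by
    intro i j hij a ha
    have h1 : ρ (wel j) (φ i a) = γ • φ i a + (γ * γ) • ∑ r ∈ Finset.univ.erase (0 : F), δ (Pi.single j r) :=
      (hp i j hij a ha).2
    have h3 := congrArg (fun v => pj ψ ρ 0 (ρ (wel j) v)) h1
    simp only [map_add, map_smul, map_sum] at h3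
    rw [← rho_mul, wel_sq, hD i j hij a ha, map_smul, h1, map_add, map_smul, map_smul, map_sum] at h3
    have h4 : pj ψ ρ 0 (φ i a) = φ i a := by
      rw [pj_of_eig hψ (pj_eig (0 : M) _), if_pos rfl]
    rw [h4, Finset.sum_eq_zero (fun r hr => (pj_of_eig hψ (hne _ (hpa j r (Finset.ne_of_mem_erase hr))).1).trans
      (if_neg fun e => hpa j r (Finset.ne_of_mem_erase hr) (vmv_eq_zero hc e.symm))), smul_zero, add_zero,
      smul_smul, Units.val_neg, Units.val_one] at h3
    rw [sub_smul, h3, add_sub_cancel_left]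
  have hq1 : (1 : ℕ) < Fintype.card F := Fintype.one_lt_card
  have hqc : qc (-1 : F) - γ * γ = ((Fintype.card F - 1 : ℕ) : ℂ) * (γ * γ) := by
    rw [Nat.cast_sub hq1.le, ← hγq, Nat.cast_one]
    ring
  have hne0 : qc (-1 : F) - γ * γ ≠ 0 := by
    rw [hqc]
    exact mul_ne_zero (Nat.cast_ne_zero.2 (by omega)) (mul_ne_zero hγ0 hγ0)
  have hconst : ∀ i, ∀ a, a ≠ 0 → φ i a = φ i 1 := fun i a ha => by
    obtain ⟨j, hj⟩ := hother i
    exact smul_right_injective E hne0 ((hrec i j hj a ha).trans (hrec i j hj 1 one_ne_zero).symm)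
  have hall : ∀ i a, a ≠ 0 → φ i a = φ k₀ 1 := by
    have h1 : ∀ i j, j ≠ i → φ i 1 = φ j 1 := fun i j hij => by
      have h3 := hrec i j hij 1 one_ne_zero
      rw [Finset.sum_congr rfl fun r hr => hconst j r (Finset.ne_of_mem_erase hr), Finset.sum_const,
        Finset.card_erase_of_mem (Finset.mem_univ _), Finset.card_univ, ← Nat.cast_smul_eq_nsmul ℂ, smul_smul,
        mul_comm (γ * γ), ← hqc] at h3
      exact smul_right_injective E hne0 h3
    intro i a ha
    rw [hconst i a ha]
    by_cases h : i = k₀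
    · rw [h]
    · exact h1 i k₀ (Ne.symm h)
  set z := φ k₀ 1 with hz
  have hzN : ∀ T, ρ (nel T) z = z := fun T => by
    rw [hz]
    simp only [φ]
    rw [pj_eig (0 : M) _ T, tp_comm, tp_zero, AddChar.map_zero_eq_one, one_smul]
  have hzW : ∀ j, ρ (wel j) z = γ • z + (γ * γ) • ∑ r ∈ Finset.univ.erase (0 : F), δ (Pi.single j r) := fun j => by
    obtain ⟨i, hi⟩ := hother j
    rw [← hall i 1 one_ne_zero]
    exact (hp i j (Ne.symm hi) 1 one_ne_zero).2
  -- the Levi factor on the fixed vector
  have hzL : ∀ g : GL (Fin n) F, ρ (lel g) z = qc (g : M).det • z := by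
    intro g
    let P : GL (Fin n) F → Prop := fun h => ρ (lel h) z = qc (h : M).det • z
    have h1 : P 1 := by
      show ρ (lel (1 : GL (Fin n) F)) z = _
      rw [lel_one, map_one, Units.val_one, det_one, qc_one, one_smul]; rfl
    have hm : ∀ g h, P g → P h → P (g * h) := fun g h hg hh => by
      show ρ (lel (g * h)) z = _
      rw [lel_mul, rho_mul, hh, map_smul, hg, smul_smul, Units.val_mul, det_mul, qc_mul, mul_comm]
    obtain ⟨b, hb, hbP⟩ : ∃ b : GL (Fin n) F, (b : M) = (g : M) ∧ P b := by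
      refine Matrix.diagonal_transvection_induction_of_det_ne_zero (fun Y => ∃ b : GL (Fin n) F, (b : M) = Y ∧ P b)
        (g : M) (gl_det_ne g) (fun D hDet => ?_) (fun t => ?_)
        (fun Y Z _ _ ⟨b, hb, hbP⟩ ⟨b', hb', hbP'⟩ => ⟨b * b', by rw [Units.val_mul, hb, hb'], hm _ _ hbP hbP'⟩)
      · rw [det_diagonal, Finset.prod_ne_zero_iff] at hDet
        refine exists_dg_prod (P := P) Finset.univ D (fun i => hDet i (Finset.mem_univ _)) (by simp) h1 hm
          fun j _ => ?_
        obtain ⟨i, hi⟩ := hother j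
        show ρ (lel _) z = _
        rw [← hall i 1 one_ne_zero, dg_det]
        exact hD i j (Ne.symm hi) 1 one_ne_zero _
      · obtain ⟨p, l, hpl, t⟩ := t
        refine ⟨tvg p l t, tvg_coe hpl t, ?_⟩
        show ρ (lel (tvg p l t)) z = _
        rw [tvg_det hpl, qc_one, one_smul]
        have h3 := congrArg (fun g => ρ g z) (wel_nel_cross (F := F) (i := l) hpl (-t))
        simp only [neg_neg, rho_mul, hzN, hzW, map_add, map_smul, map_sum] at h3
        have h4 : ∀ r ∈ Finset.univ.erase (0 : F), ρ (lel (tvg p l t)) (δ (Pi.single p r)) = δ (Pi.single p r) := by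
          intro r hr
          rw [hlevi _ _ (hpa p r (Finset.ne_of_mem_erase hr)), tvg_det hpl, qc_one, one_smul, tvg_mulVec hpl,
            Pi.single_eq_of_ne (Ne.symm hpl), mul_zero, Pi.single_zero, add_zero]
        rw [Finset.sum_congr rfl h4] at h3
        exact (smul_right_injective E hγ0 (add_right_cancel h3)).symm
    rw [show g = b from Units.ext hb.symm]
    exact hbP
  let D : U → E := fun x => if x = 0 then γ⁻¹ • z else δ x
  have hD0 : D 0 = γ⁻¹ • z := if_pos rfl
  have hD1 : ∀ x, x ≠ 0 → D x = δ x := fun x hx => if_neg hx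
  refine ⟨D, fun x => ?_, fun g x => ?_, fun j x => ?_, fun x hx => by rw [hD1 x hx]; exact (hne x hx).2⟩
  · rcases eq_or_ne x 0 with rfl | hx
    · rw [hD0]
      refine Eig.smul (fun T => ?_) _
      rw [hzN, tp_vecMulVec]
      simp
    · rw [hD1 x hx]; exact (hne x hx).1
  · rcases eq_or_ne x 0 with rfl | hx
    · rw [mulVec_zero, hD0, map_smul, hzL, smul_comm]
    · rw [hD1 x hx, hD1 _ fun e => hx (MaxTv.gl_mulVec_injective g (e.trans (mulVec_zero _).symm))]
      exact hlevi g x hx
  · by_cases hk : ∃ k, k ≠ j ∧ x k ≠ 0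
    · obtain ⟨k, hkj, hxk⟩ := hk
      rw [hD1 x fun e => hxk (by rw [e]; rfl), hweyl j x ⟨k, hkj, hxk⟩]
      congr 1
      refine Finset.sum_congr rfl fun r _ => ?_
      rw [hD1 _ fun e => hxk (by simpa [hkj] using congrFun e k)]
    · push Not at hk
      have hx : x = Pi.single j (x j) := funext fun p => by
        by_cases hp : p = j
        · subst hp; simp
        · simp [hp, hk p hp]
      have hup : ∀ r, Function.update x j r = Pi.single j r := fun r => funext fun p => by
        by_cases hp : p = j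
        · subst hp; simp
        · simp [hp, hk p hp]
      simp only [hup]
      rw [← Finset.add_sum_erase _ _ (Finset.mem_univ (0 : F)), Pi.single_zero, hD0, mul_zero,
        AddChar.map_zero_eq_one, one_smul, smul_add, smul_smul, mul_inv_cancel₀ hγ0, one_smul,
        Finset.sum_congr rfl fun r hr => by rw [hD1 _ (hpa j r (Finset.ne_of_mem_erase hr))]]
      rcases eq_or_ne (x j) 0 with h0 | h0
      · rw [h0] at hx ⊢
        rw [hx, Pi.single_zero, hD0, map_smul, hzW, smul_add, smul_smul, smul_smul, inv_mul_cancel₀ hγ0, one_smul,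
          ← mul_assoc, inv_mul_cancel₀ hγ0, one_mul]
        simp [hγ]
      · obtain ⟨i, hi⟩ := hother j
        conv_lhs => rw [hx]
        rw [hD1 _ (hpa j _ h0), (hp j i hi (x j) h0).1]
        congr 1
        exact hall j (x j) h0

end Cfsg.Agent.Lie.SpRank
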