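import Cfsg.Agent.Lib.Lie.SpRankEigen
import Cfsg.Agent.Lib.Classical.MaxLinearSubspace

/-! A character of rank at least two forces a large degree. -/

set_option autoImplicit false
set_option linter.unusedSectionVars false

namespace Cfsg.Agent.Lie.SpRank

open Matrix Module Finset Cfsg.Agent.Classical

universe u w

variable {F : Type u} [Field F] [Fintype F] [DecidableEq F] {n : ℕ}

local notation "M" => Matrix (Fin n) (Fin n) F
local notation "U" => (Fin n → F)
local notation "q" => Fintype.card F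

/-- A conic has at most `q + 1` affine points. -/
theorem card_conic {a b t : F} (h2 : (2 : F) ≠ 0) (ha : a ≠ 0) (hb : b ≠ 0)
    (h : t ≠ 0 ∨ ¬ IsSquare (-(a * b))) :
    (Finset.univ.filter fun p : F × F => a * p.1 ^ 2 + b * p.2 ^ 2 = t).card ≤ q + 1 := by
  classical
  set S := Finset.univ.filter fun p : F × F => a * p.1 ^ 2 + b * p.2 ^ 2 = t with hS
  by_cases ht : t = 0
  · have hns := h.resolve_left (fun h => h ht)
    have hsub : S ⊆ {(0, 0)} := fun p hp => by
      simp only [hS, Finset.mem_filter, Finset.mem_univ, true_and, ht] at hp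
      have hy : p.2 = 0 := by
        by_contra hy
        exact hns ⟨a * p.1 / p.2, by field_simp; first | linear_combination (-a) * hp | linear_combination a * hp | linear_combination hp | linear_combination -hp⟩
      have hx : p.1 = 0 := by
        rw [hy] at hp
        have : a * p.1 ^ 2 = 0 := by linear_combination hp
        exact pow_eq_zero_iff two_ne_zero |>.1 ((mul_eq_zero.1 this).resolve_left ha)
      simp [Prod.ext_iff, hx, hy]
    exact (Finset.card_le_card hsub).trans (by simp)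
  rcases S.eq_empty_or_nonempty with he | ⟨⟨x₀, y₀⟩, hP⟩
  · simp [he]
  simp only [hS, Finset.mem_filter, Finset.mem_univ, true_and] at hP
  -- the slope of the chord, the tangent at the point itself
  let f : F × F → Option F := fun p =>
    if p.1 = x₀ ∧ p.2 = y₀ then (if y₀ = 0 then none else some (-(a * x₀) / (b * y₀)))
    else if p.1 = x₀ then none else some ((p.2 - y₀) / (p.1 - x₀))
  have key : ∀ x y : F, a * x ^ 2 + b * y ^ 2 = t → x ≠ x₀ →
      (a + b * ((y - y₀) / (x - x₀)) ^ 2) * (x - x₀) = -(2 * (a * x₀ + b * ((y - y₀) / (x - x₀)) * y₀)) ∧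
        a + b * ((y - y₀) / (x - x₀)) ^ 2 ≠ 0 := by
    intro x y hxy hx
    set m := (y - y₀) / (x - x₀) with hm
    have hy : y = y₀ + m * (x - x₀) := by rw [hm, div_mul_cancel₀ _ (sub_ne_zero.2 hx)]; ring
    have h1 : (x - x₀) * ((a + b * m ^ 2) * (x - x₀) + 2 * (a * x₀ + b * m * y₀)) = 0 := by
      rw [hy] at hxy
      linear_combination hxy - hP
    have h3 := (mul_eq_zero.1 h1).resolve_left (sub_ne_zero.2 hx)
    refine ⟨by linear_combination h3, fun h0 => ?_⟩
    rw [h0, zero_mul, zero_add] at h3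
    have h4 : a * x₀ + b * m * y₀ = 0 := (mul_eq_zero.1 h3).resolve_left h2
    have h5 : b * m * (y₀ - m * x₀) = 0 := by linear_combination h4 - x₀ * h0
    rcases mul_eq_zero.1 h5 with h6 | h6
    · have hm0 : m = 0 := (mul_eq_zero.1 h6).resolve_left hb
      rw [hm0] at h0
      exact ha (by linear_combination h0)
    · exact ht (by linear_combination -hP + x₀ ^ 2 * h0 + b * (y₀ + m * x₀) * h6)
  calc S.card ≤ (Finset.univ : Finset (Option F)).card := by
        refine Finset.card_le_card_of_injOn f (fun _ _ => Finset.mem_univ _) ?_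
        rintro ⟨x, y⟩ hp ⟨x', y'⟩ hp' he
        simp only [hS, Finset.mem_coe, Finset.mem_filter, Finset.mem_univ, true_and] at hp hp'
        have hvert : ∀ y : F, a * x₀ ^ 2 + b * y ^ 2 = t → y = y₀ ∨ y = -y₀ := by
          intro y hy
          have : b * ((y - y₀) * (y + y₀)) = 0 := by linear_combination hy - hP
          rcases mul_eq_zero.1 ((mul_eq_zero.1 this).resolve_left hb) with h | h
          · exact Or.inl (sub_eq_zero.1 h)
          · exact Or.inr (eq_neg_of_add_eq_zero_left h)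
        by_cases hx : x = x₀ <;> by_cases hx' : x' = x₀
        · subst hx hx'
          rcases hvert y hp with hy | hy <;> rcases hvert y' hp' with hy' | hy'
          · rw [hy, hy']
          · by_cases hy0 : y₀ = 0
            · rw [hy, hy', hy0, neg_zero]
            · exfalso
              have hne : y' ≠ y₀ := fun e => hy0 (by
                have : (2 : F) * y₀ = 0 := by linear_combination hy' - e
                exact (mul_eq_zero.1 this).resolve_left h2)
              simp [f, hy, hne, hy0] at he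
          · by_cases hy0 : y₀ = 0
            · rw [hy, hy', hy0, neg_zero]
            · exfalso
              have hne : y ≠ y₀ := fun e => hy0 (by
                have : (2 : F) * y₀ = 0 := by linear_combination hy - e
                exact (mul_eq_zero.1 this).resolve_left h2)
              simp [f, hy', hne, hy0] at he
          · rw [hy, hy']
        · exfalso
          subst hx
          obtain ⟨k1, k2⟩ := key x' y' hp' hx'
          rcases hvert y hp with hy | hy
          · by_cases hy0 : y₀ = 0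
            · simp [f, hy, hy0, hx'] at he
            · simp only [f, hy, hx', hy0, and_self, if_true, if_false, false_and, Option.some.injEq] at he
              rw [← he] at k1
              field_simp at k1
              exact k2 ((mul_eq_zero.1 (show (a + b * ((y' - y₀) / (x' - x)) ^ 2) * (x' - x) = 0 by
                rw [(key x' y' hp' hx').1, ← he]; field_simp; ring)).resolve_right (sub_ne_zero.2 hx'))
          · by_cases hne : y = y₀
            · by_cases hy0 : y₀ = 0
              · simp [f, hne, hy0, hx'] at he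
              · exact hy0 ((mul_eq_zero.1 (show (2 : F) * y₀ = 0 by linear_combination hy - hne)).resolve_left h2)
            · simp [f, hne, hx'] at he
        · exfalso
          subst hx'
          obtain ⟨k1, k2⟩ := key x y hp hx
          rcases hvert y' hp' with hy | hy
          · by_cases hy0 : y₀ = 0
            · simp [f, hy, hy0, hx] at he
            · simp only [f, hy, hx, hy0, and_self, if_true, if_false, false_and, Option.some.injEq] at he
              exact k2 ((mul_eq_zero.1 (show (a + b * ((y - y₀) / (x - x')) ^ 2) * (x - x') = 0 by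
                rw [(key x y hp hx).1, he]; field_simp; ring)).resolve_right (sub_ne_zero.2 hx))
          · by_cases hne : y' = y₀
            · by_cases hy0 : y₀ = 0
              · simp [f, hne, hy0, hx] at he
              · exact hy0 ((mul_eq_zero.1 (show (2 : F) * y₀ = 0 by linear_combination hy - hne)).resolve_left h2)
            · simp [f, hne, hx] at he
        · simp only [f, hx, hx', false_and, if_false, Option.some.injEq] at he
          obtain ⟨k1, k2⟩ := key x y hp hx
          obtain ⟨k1', -⟩ := key x' y' hp' hx'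
          have hxx : x = x' := by
            rw [← he] at k1'
            exact sub_left_injective (mul_left_cancel₀ k2 (k1.trans k1'.symm))
          subst hxx
          rw [div_left_inj' (sub_ne_zero.2 hx)] at he
          rw [sub_left_inj.1 he]
    _ = q + 1 := by simp

/-- The bilinear form of a matrix. -/
def bf (A : M) (x y : U) : F := x ⬝ᵥ A *ᵥ y

theorem bf_add_left (A : M) (x x' y : U) : bf A (x + x') y = bf A x y + bf A x' y := add_dotProduct _ _ _

theorem bf_add_right (A : M) (x y y' : U) : bf A x (y + y') = bf A x y + bf A x y' := by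
  rw [bf, mulVec_add, dotProduct_add]; rfl

theorem bf_smul_left (A : M) (c : F) (x y : U) : bf A (c • x) y = c * bf A x y := smul_dotProduct _ _ _

theorem bf_smul_right (A : M) (c : F) (x y : U) : bf A x (c • y) = c * bf A x y := by
  rw [bf, mulVec_smul, dotProduct_smul]; rfl

theorem bf_sub_left (A : M) (x x' y : U) : bf A (x - x') y = bf A x y - bf A x' y := sub_dotProduct _ _ _

theorem bf_sub_right (A : M) (x y y' : U) : bf A x (y - y') = bf A x y - bf A x y' := by
  rw [bf, mulVec_sub, dotProduct_sub]; rfl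

theorem bf_comm {A : M} (hA : Aᵀ = A) (x y : U) : bf A x y = bf A y x := by
  rw [bf, bf, ← symm_dot A hA, dotProduct_comm]

theorem bf_congr (A g : M) (x y : U) : bf (gᵀ * A * g) x y = bf A (g *ᵥ x) (g *ᵥ y) := by
  rw [bf, bf, ← mulVec_mulVec, ← mulVec_mulVec, dotProduct_mulVec, ← mulVec_transpose, transpose_transpose]

theorem bf_single (A : M) (i j : Fin n) : bf A (Pi.single i 1) (Pi.single j 1) = A i j := by
  simp [bf, mulVec_single_one, single_dotProduct]

/-- A good pair of vectors. -/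
structure GoodPair (A : M) (u₁ u₂ : U) : Prop where
  ne1 : bf A u₁ u₁ ≠ 0
  ne2 : bf A u₂ u₂ ≠ 0
  perp : bf A u₁ u₂ = 0
  shape : (¬ IsSquare (-(bf A u₁ u₁ * bf A u₂ u₂))) ∨
    ∀ r, bf A u₁ r = 0 → bf A u₂ r = 0 → bf A r r = 0

variable {A : Matrix (Fin n) (Fin n) F} (hA : Aᵀ = A)

include hA in
theorem polar (h2 : (2 : F) ≠ 0) {S : U → Prop} (hadd : ∀ x y, S x → S y → S (x + y))
    (h : ∀ x, S x → bf A x x = 0) {x y : U} (hx : S x) (hy : S y) : bf A x y = 0 := by
  have h1 := h _ (hadd _ _ hx hy)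
  rw [bf_add_left, bf_add_right, bf_add_right, h x hx, h y hy, bf_comm hA y x] at h1
  exact (mul_eq_zero.1 (show (2 : F) * bf A x y = 0 by linear_combination h1)).resolve_left h2

include hA in
theorem exists_goodPair (h2 : (2 : F) ≠ 0) (hodd : q % 2 = 1)
    (hr : ∀ (d : F) (y : U), A ≠ d • vecMulVec y y) : ∃ u₁ u₂, GoodPair A u₁ u₂ := by
  classical
  obtain ⟨u₁, h1⟩ : ∃ u, bf A u u ≠ 0 := by
    by_contra hcon
    push Not at hcon
    refine hr 0 0 (Matrix.ext fun i j => ?_)
    rw [zero_smul, Matrix.zero_apply, ← bf_single A i j]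
    exact polar hA h2 (S := fun _ => True) (fun _ _ _ _ => trivial) (fun x _ => hcon x) trivial trivial
  set a₁ := bf A u₁ u₁ with ha₁
  obtain ⟨u₂, hp, h22⟩ : ∃ u, bf A u₁ u = 0 ∧ bf A u u ≠ 0 := by
    by_contra hcon
    push Not at hcon
    refine hr a₁⁻¹ (A *ᵥ u₁) (Matrix.ext fun i j => ?_)
    let p : U → U := fun x => x - (bf A u₁ x / a₁) • u₁
    have hp : ∀ x, bf A u₁ (p x) = 0 := fun x => by
      simp only [p, bf_sub_right, bf_smul_right, ← ha₁]
      field_simp
      ring
    have h0 := polar hA h2 (S := fun x => bf A u₁ x = 0)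
      (fun x y hx hy => by rw [bf_add_right, hx, hy, add_zero]) hcon (hp (Pi.single i 1)) (hp (Pi.single j 1))
    simp only [p, bf_sub_left, bf_sub_right, bf_smul_left, bf_smul_right, bf_single, ← ha₁,
      bf_comm hA (Pi.single i (1 : F)) u₁] at h0
    have hv : ∀ k, (A *ᵥ u₁) k = bf A u₁ (Pi.single k 1) := fun k => by
      rw [bf_comm hA, bf, single_dotProduct, one_mul]
    rw [Matrix.smul_apply, vecMulVec_apply, smul_eq_mul, hv, hv]
    field_simp at h0 ⊢
    linear_combination h0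
  set a₂ := bf A u₂ u₂ with ha₂
  by_cases hrest : ∀ r, bf A u₁ r = 0 → bf A u₂ r = 0 → bf A r r = 0
  · exact ⟨u₁, u₂, h1, h22, hp, Or.inr hrest⟩
  push Not at hrest
  obtain ⟨u₃, h13, h23, h33⟩ := hrest
  set a₃ := bf A u₃ u₃ with ha₃
  by_cases s12 : IsSquare (-(a₁ * a₂))
  swap; · exact ⟨u₁, u₂, h1, h22, hp, Or.inl s12⟩
  by_cases s13 : IsSquare (-(a₁ * a₃))
  swap; · exact ⟨u₁, u₃, h1, h33, h13, Or.inl s13⟩
  by_cases s23 : IsSquare (-(a₂ * a₃))
  swap; · exact ⟨u₂, u₃, h22, h33, h23, Or.inl s23⟩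
  have hm1 : IsSquare (-1 : F) := by
    obtain ⟨r, hr'⟩ := (s12.mul s13).mul s23
    refine ⟨r / (a₁ * a₂ * a₃), ?_⟩
    field_simp
    linear_combination hr'
  obtain ⟨ν, hν⟩ := FiniteField.exists_nonsquare (F := F) (fun hc => by
    have := FiniteField.even_card_of_char_two (F := F) hc; omega)
  obtain ⟨x, y, hxy⟩ := FiniteField.exists_root_sum_quadratic
    (f := Polynomial.C a₁ * Polynomial.X ^ 2 + Polynomial.C 0 * Polynomial.X + Polynomial.C (-(ν * a₁)))
    (g := Polynomial.C a₂ * Polynomial.X ^ 2 + Polynomial.C 0 * Polynomial.X + Polynomial.C 0)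
    (Polynomial.degree_quadratic h1) (Polynomial.degree_quadratic h22) hodd
  simp at hxy
  have hν0 : ν ≠ 0 := fun e => hν (e ▸ ⟨0, by simp⟩)
  have hv : bf A (x • u₁ + y • u₂) (x • u₁ + y • u₂) = ν * a₁ := by
    simp only [bf_add_left, bf_add_right, bf_smul_left, bf_smul_right, hp, bf_comm hA u₂ u₁, ← ha₁, ← ha₂]
    linear_combination hxy
  refine ⟨x • u₁ + y • u₂, u₃, by rw [hv]; exact mul_ne_zero hν0 h1, h33,
    by rw [bf_add_left, bf_smul_left, bf_smul_left, h13, h23]; ring, Or.inl ?_⟩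
  rw [hv, ← ha₃]
  rintro ⟨r, hr'⟩
  obtain ⟨s, hs⟩ := s13
  have hs0 : s ≠ 0 := fun e => mul_ne_zero h1 h33 (by rw [e] at hs; linear_combination -hs)
  refine hν ⟨r / s, ?_⟩
  field_simp
  linear_combination (-ν) * hs + hr'

theorem card_ker_two (L : U →ₗ[F] F × F) (hL : Function.Surjective L) :
    (Finset.univ.filter fun x => L x = 0).card = q ^ (n - 2) := by
  classical
  have h1 := LinearMap.finrank_range_add_finrank_ker L
  rw [LinearMap.range_eq_top.2 hL, finrank_top, Module.finrank_prod, finrank_self,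
    Module.finrank_fintype_fun_eq_card, Fintype.card_fin] at h1
  rw [← Fintype.card_subtype, ← show finrank F (LinearMap.ker L) = n - 2 by omega, ← Nat.card_eq_fintype_card,
    ← Nat.card_eq_fintype_card, ← Module.natCard_eq_pow_finrank]
  exact Nat.card_congr (Equiv.subtypeEquivRight fun x => Iff.rfl)

variable {u₁ u₂ : Fin n → F}

/-- The orthogonal projection along two vectors. -/
def bf2 (A : M) (u₁ u₂ : U) : U →ₗ[F] F × F where
  toFun x := (bf A u₁ x, bf A u₂ x)
  map_add' x y := Prod.ext (bf_add_right _ _ _ _) (bf_add_right _ _ _ _)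
  map_smul' c x := Prod.ext (bf_smul_right _ _ _ _) (bf_smul_right _ _ _ _)

include hA in
theorem bf2_surj (h1 : bf A u₁ u₁ ≠ 0) (h2 : bf A u₂ u₂ ≠ 0) (hp : bf A u₁ u₂ = 0) :
    Function.Surjective (bf2 A u₁ u₂) := fun ⟨s, t⟩ => ⟨(s / bf A u₁ u₁) • u₁ + (t / bf A u₂ u₂) • u₂, by
  have hp' : bf A u₂ u₁ = 0 := by rw [bf_comm hA, hp]
  refine Prod.ext ?_ ?_ <;>
    simp [bf2, bf_add_right, bf_smul_right, hp, hp', div_mul_cancel₀ _ h1, div_mul_cancel₀ _ h2]⟩

include hA in
/-- Vectors of the first value. -/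
theorem card_first (h2 : (2 : F) ≠ 0) (hg : GoodPair A u₁ u₂) :
    (Finset.univ.filter fun v => bf A v v = bf A u₁ u₁).card ≤ (q + 1) * q ^ (n - 2) := by
  classical
  obtain ⟨h1, h22, hp, hshape⟩ := hg
  set a₁ := bf A u₁ u₁ with ha₁
  set a₂ := bf A u₂ u₂ with ha₂
  have hp' : bf A u₂ u₁ = 0 := by rw [bf_comm hA, hp]
  set S := Finset.univ.filter fun v => bf A v v = a₁
  let p : U → U := fun v => v - (bf A u₁ v / a₁) • u₁ - (bf A u₂ v / a₂) • u₂
  have hK : ∀ v, bf2 A u₁ u₂ (p v) = 0 := fun v => by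
    refine Prod.ext ?_ ?_ <;>
      simp [p, bf2, bf_sub_right, bf_smul_right, hp, hp', ← ha₁, ← ha₂, div_mul_cancel₀ _ h1,
        div_mul_cancel₀ _ h22]
  rw [← card_ker_two (bf2 A u₁ u₂) (bf2_surj hA h1 h22 hp)]
  refine Finset.card_le_mul_card_image_of_maps_to (f := p) (fun v _ => by simpa using hK v) (q + 1) ?_
  intro r hr
  simp only [Finset.mem_filter, Finset.mem_univ, true_and] at hr
  have hr1 : bf A u₁ r = 0 := congrArg Prod.fst hr
  have hr2 : bf A u₂ r = 0 := congrArg Prod.snd hr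
  refine le_trans ?_ (card_conic h2 h1 h22 (t := a₁ - bf A r r) ?_)
  · refine Finset.card_le_card_of_injOn (fun v => (bf A u₁ v / a₁, bf A u₂ v / a₂)) ?_ ?_
    · intro v hv
      simp only [S, Finset.mem_coe, Finset.mem_filter, Finset.mem_univ, true_and] at hv ⊢
      obtain ⟨hv, rfl⟩ := hv
      simp only [p, bf_sub_left, bf_sub_right, bf_smul_left, bf_smul_right, bf_comm hA v u₁, bf_comm hA v u₂,
        hp, hp', ← ha₁, ← ha₂, hv]
      field_simp
      ring
    · intro v hv v' hv' e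
      simp only [S, Finset.mem_coe, Finset.mem_filter, Finset.mem_univ, true_and] at hv hv'
      have h3 := hv.2.trans hv'.2.symm
      simp only [Prod.mk.injEq] at e
      simp only [p, e.1, e.2] at h3
      simpa using h3
  · rcases hshape with hs | hs
    · exact Or.inr hs
    · exact Or.inl (by rw [hs r hr1 hr2, sub_zero]; exact h1)

include hA in
/-- Vectors of the second value. -/
theorem card_second {v₁ : U} {a₂ : F} (h1 : bf A v₁ v₁ ≠ 0) (h22 : a₂ ≠ 0) :
    (Finset.univ.filter fun v => bf A v₁ v = 0 ∧ bf A v v = a₂).card ≤ 2 * q ^ (n - 2) := by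
  classical
  set T := Finset.univ.filter fun v => bf A v₁ v = 0 ∧ bf A v v = a₂ with hT
  rcases T.eq_empty_or_nonempty with he | ⟨w, hw⟩
  · simp [he]
  simp only [hT, Finset.mem_filter, Finset.mem_univ, true_and] at hw
  obtain ⟨hw1, hw2⟩ := hw
  have hw1' : bf A w v₁ = 0 := by rw [bf_comm hA, hw1]
  let p : U → U := fun v => v - (bf A w v / a₂) • w
  have hK : ∀ v ∈ T, bf2 A v₁ w (p v) = 0 := fun v hv => by
    simp only [hT, Finset.mem_filter, Finset.mem_univ, true_and] at hv
    refine Prod.ext ?_ ?_ <;>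
      simp [p, bf2, bf_sub_right, bf_smul_right, hv.1, hw1, hw2, div_mul_cancel₀ _ h22]
  rw [← card_ker_two (bf2 A v₁ w) (bf2_surj hA h1 (hw2 ▸ h22) hw1)]
  refine Finset.card_le_mul_card_image_of_maps_to (f := p) (fun v hv => by simpa using hK v hv) 2 ?_
  intro r hr
  simp only [Finset.mem_filter, Finset.mem_univ, true_and] at hr
  have hr2 : bf A w r = 0 := congrArg Prod.snd hr
  rcases (T.filter fun v => p v = r).eq_empty_or_nonempty with he | ⟨v₀, hv₀⟩
  · simp [he]
  have hsq : ∀ v ∈ T.filter (fun v => p v = r), (bf A w v / a₂) ^ 2 * a₂ = a₂ - bf A r r ∧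
      v = r + (bf A w v / a₂) • w := by
    intro v hv
    simp only [hT, Finset.mem_filter, Finset.mem_univ, true_and] at hv
    obtain ⟨⟨-, hv2⟩, rfl⟩ := hv
    refine ⟨?_, by simp [p]⟩
    simp only [p, bf_sub_left, bf_sub_right, bf_smul_left, bf_smul_right, bf_comm hA v w, hw2, hv2]
    field_simp
    ring
  refine (Finset.card_le_card (t := {r + (bf A w v₀ / a₂) • w, r + (-(bf A w v₀ / a₂)) • w}) ?_).trans
    Finset.card_le_two
  intro v hv
  obtain ⟨e1, e2⟩ := hsq v hv
  rcases sq_eq_sq_iff_eq_or_eq_neg.1 (mul_right_cancel₀ h22 (e1.trans (hsq v₀ hv₀).1.symm)) with h | h <;>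
    rw [Finset.mem_insert, Finset.mem_singleton]
  · exact Or.inl (by rw [← h]; exact e2)
  · exact Or.inr (by rw [← h]; exact e2)

/-- Moving a pair to another one. -/
theorem exists_gl_pair {p₁ p₂ : U} (hp : LinearIndependent F ![p₁, p₂])
    (hu : LinearIndependent F ![u₁, u₂]) :
    ∃ g : GL (Fin n) F, (g : M) *ᵥ p₁ = u₁ ∧ (g : M) *ᵥ p₂ = u₂ := by
  classical
  have hp1 : p₁ ≠ 0 := hp.ne_zero 0
  have hu1 : u₁ ≠ 0 := hu.ne_zero 0
  have hp2 : p₂ ∉ (F ∙ p₁) := fun h => by
    obtain ⟨c, hc⟩ := Submodule.mem_span_singleton.1 h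
    exact (LinearIndependent.pair_iff' hp1).1 hp c hc
  have hu2 : u₂ ∉ (F ∙ u₁) := fun h => by
    obtain ⟨c, hc⟩ := Submodule.mem_span_singleton.1 h
    exact (LinearIndependent.pair_iff' hu1).1 hu c hc
  have hn : 0 < n := by
    rcases Nat.eq_zero_or_pos n with h | h
    · subst h; exact absurd (Subsingleton.elim _ _) hu1
    · exact h
  obtain ⟨g₁, hg₁⟩ := exists_gl_col hp1 (⟨0, hn⟩ : Fin n)
  obtain ⟨g₂, hg₂⟩ := exists_gl_col hu1 (⟨0, hn⟩ : Fin n)
  have h0 : ((g₂ * g₁⁻¹ : GL (Fin n) F) : M) *ᵥ p₁ = u₁ := by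
    rw [Units.val_mul, ← mulVec_mulVec, ← hg₁, MaxTv.inv_mulVec_cancel, hg₂]
  set g := g₂ * g₁⁻¹
  set w := (g : M) *ᵥ p₂
  have hw : w ∉ (F ∙ u₁) := fun h => hp2 (by
    obtain ⟨c, hc⟩ := Submodule.mem_span_singleton.1 h
    refine Submodule.mem_span_singleton.2 ⟨c, MaxTv.gl_mulVec_injective g ?_⟩
    show (g : M) *ᵥ _ = (g : M) *ᵥ _
    rw [mulVec_smul, h0, hc])
  obtain ⟨φa, ha, ha0⟩ := MaxTv.exists_dot_one hw
  obtain ⟨φb, hb, hb0⟩ := MaxTv.exists_dot_one hu2
  have hu1m := Submodule.mem_span_singleton_self (R := F) u₁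
  obtain ⟨φ, hφw, hφu, hφ0⟩ : ∃ φ : U, φ ⬝ᵥ w = 1 ∧ φ ⬝ᵥ u₂ ≠ 0 ∧ φ ⬝ᵥ u₁ = 0 := by
    by_cases h : φa ⬝ᵥ u₂ = 0
    · by_cases h' : φb ⬝ᵥ w = 0
      · exact ⟨φa + φb, by rw [add_dotProduct, ha, h', add_zero], by rw [add_dotProduct, h, hb, zero_add]; simp,
          by rw [add_dotProduct, ha0 _ hu1m, hb0 _ hu1m, add_zero]⟩
      · exact ⟨(φb ⬝ᵥ w)⁻¹ • φb, by rw [smul_dotProduct, smul_eq_mul, inv_mul_cancel₀ h'],
          by rw [smul_dotProduct, hb]; simpa using h', by rw [smul_dotProduct, hb0 _ hu1m, smul_zero]⟩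
    · exact ⟨φa, ha, h, ha0 _ hu1m⟩
  let L : U →ₗ[F] U :=
    { toFun := fun y => y + (φ ⬝ᵥ y) • (u₂ - w)
      map_add' := fun x y => by rw [dotProduct_add, add_smul]; abel
      map_smul' := fun c x => by simp [smul_add, smul_smul] }
  have hL : Function.Injective L := (injective_iff_map_eq_zero L).2 fun y hy => by
    have h1 := congrArg (φ ⬝ᵥ ·) hy
    simp only [L, LinearMap.coe_mk, AddHom.coe_mk, dotProduct_add, dotProduct_smul, dotProduct_sub, hφw,
      dotProduct_zero, smul_eq_mul] at h1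
    have h3 : φ ⬝ᵥ y = 0 :=
      (mul_eq_zero.1 (show (φ ⬝ᵥ y) * (φ ⬝ᵥ u₂) = 0 by linear_combination h1)).resolve_right hφu
    simpa [L, h3] using hy
  obtain ⟨g', hg'⟩ := MaxTv.exists_gl_of_injective L hL
  refine ⟨g' * g, ?_, ?_⟩ <;> rw [Units.val_mul, ← mulVec_mulVec, hg']
  · rw [h0]; simp [L, hφ0]
  · show w + (φ ⬝ᵥ w) • (u₂ - w) = u₂
    rw [hφw, one_smul, add_sub_cancel]

variable {E : Type w} [AddCommGroup E] [Module ℂ E] [FiniteDimensional ℂ E]
variable {ψ : AddChar F ℂ} {ρ : Representation ℂ (Matrix.symplecticGroup (Fin n) F) E}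

/-- The orbit of a matrix under congruence. -/
noncomputable def orb (A : M) : Finset M :=
  haveI := Classical.decPred fun A' : M => ∃ h : GL (Fin n) F, (h : M) * A * (h : M)ᵀ = A'
  Finset.univ.filter fun A' => ∃ h : GL (Fin n) F, (h : M) * A * (h : M)ᵀ = A'

theorem orb_le_finrank (hψ : ψ ≠ 1) {v : E} (hv : v ≠ 0) (hE : Eig ψ ρ A v) :
    (orb A).card ≤ finrank ℂ E := by
  classical
  have hmem : ∀ A' : {A' // A' ∈ orb A}, ∃ x : E, x ≠ 0 ∧ Eig ψ ρ (A' : M) x := by
    rintro ⟨A', hA'⟩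
    simp only [orb, Finset.mem_filter, Finset.mem_univ, true_and] at hA'
    obtain ⟨h, rfl⟩ := hA'
    exact ⟨ρ (lel h) v, fun e => hv (rho_inj (lel h) (by rw [e, map_zero])), hE.map_lel h⟩
  choose x hx hxE using hmem
  have hli : LinearIndependent ℂ x := by
    rw [Fintype.linearIndependent_iff]
    intro k hk A₀
    have h1 := congrArg (pj ψ ρ (A₀ : M)) hk
    rw [map_sum, map_zero] at h1
    simp only [map_smul, pj_of_eig hψ (hxE _), ← Subtype.ext_iff, smul_ite, smul_zero, Finset.sum_ite_eq,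
      Finset.mem_univ, if_true] at h1
    exact (smul_eq_zero.1 h1).resolve_right (hx A₀)
  simpa using hli.fintype_card_le_finrank

/-- The degree bound. -/
theorem bound_of_not_rankOne (h2 : (2 : F) ≠ 0) (hodd : q % 2 = 1) (hψ : ψ ≠ 1)
    (h : ¬ RankOne ψ ρ) : (q ^ n - 1) * (q ^ n - q) ≤ finrank ℂ E * (2 * (q + 1)) := by
  classical
  simp only [RankOne, not_forall, not_exists] at h
  obtain ⟨A, v, hE, hv, hr⟩ := h
  have hA := hE.symm hψ hv
  obtain ⟨u₁, u₂, hg⟩ := exists_goodPair hA h2 hodd hr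
  have hN1 := card_first hA h2 hg
  have horb := orb_le_finrank hψ hv hE
  obtain ⟨h1, h22, hp, -⟩ := hg
  set a₁ := bf A u₁ u₁ with ha₁
  set a₂ := bf A u₂ u₂ with ha₂
  have hp' : bf A u₂ u₁ = 0 := by rw [bf_comm hA, hp]
  have hu : LinearIndependent F ![u₁, u₂] := LinearIndependent.pair_iff.2 fun s t e => by
    have e1 := congrArg (bf A u₁) e
    have e2 := congrArg (bf A u₂) e
    simp only [bf_add_right, bf_smul_right, hp, hp', ← ha₁, ← ha₂, show ∀ x, bf A x (0 : U) = 0 from fun x => by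
      simp [bf], mul_zero, add_zero, zero_add, mul_eq_zero, h1, h22, or_false] at e1 e2
    exact ⟨e1, e2⟩
  have hn : 2 ≤ n := by
    have := hu.fintype_card_le_finrank
    simpa using this
  -- functionals killing the pair
  let KL : U →ₗ[F] F × F :=
    { toFun := fun f => (f ⬝ᵥ u₁, f ⬝ᵥ u₂)
      map_add' := fun f g => by simp [add_dotProduct]
      map_smul' := fun c f => by simp [smul_dotProduct] }
  have hKL : Function.Surjective KL := fun st => by
    obtain ⟨x, hx⟩ := bf2_surj hA h1 h22 hp st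
    exact ⟨A *ᵥ x, by rw [← hx]; simp [KL, bf2, bf, dotProduct_comm]⟩
  set K := Finset.univ.filter fun f => KL f = 0
  set P := Finset.univ.filter fun p : Fin 2 → U => LinearIndependent F p
  have hPc : P.card = (q ^ n - 1) * (q ^ n - q) := by
    rw [← Fintype.card_subtype, ← Nat.card_eq_fintype_card,
      card_linearIndependent (by rw [Module.finrank_fintype_fun_eq_card, Fintype.card_fin]; exact hn),
      Fin.prod_univ_two, Module.finrank_fintype_fun_eq_card, Fintype.card_fin]
    simp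
  have hgl : ∀ p : Fin 2 → U, ∃ g : GL (Fin n) F, p ∈ P → (g : M) *ᵥ p 0 = u₁ ∧ (g : M) *ᵥ p 1 = u₂ := by
    intro p
    by_cases hpP : p ∈ P
    · simp only [P, Finset.mem_filter, Finset.mem_univ, true_and] at hpP
      obtain ⟨g, hg⟩ := exists_gl_pair (p₁ := p 0) (p₂ := p 1)
        (by convert hpP using 1; funext i; fin_cases i <;> rfl) hu
      exact ⟨g, fun _ => hg⟩
    · exact ⟨1, fun h => absurd h hpP⟩
  choose g hg using hgl
  let τ : U → U → M := fun f₁ f₂ => 1 + vecMulVec u₁ f₁ + vecMulVec u₂ f₂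
  have hτ : ∀ f₁ f₂ y, τ f₁ f₂ *ᵥ y = y + (f₁ ⬝ᵥ y) • u₁ + (f₂ ⬝ᵥ y) • u₂ := fun f₁ f₂ y => by
    simp [τ, add_mulVec, vecMulVec_mulVec]
  let Q : M → U × U → Prop := fun A' p =>
    bf A' p.1 p.1 = a₁ ∧ bf A' p.1 p.2 = 0 ∧ bf A' p.2 p.2 = a₂
  set trg := (orb A ×ˢ (Finset.univ : Finset (U × U))).filter fun z => Q z.1 z.2 with htrg
  let Φ : (Fin 2 → U) × U × U → M × (U × U) := fun z =>
    (((τ z.2.1 z.2.2 * (g z.1 : M))ᵀ * A * (τ z.2.1 z.2.2 * (g z.1 : M))), (z.1 0, z.1 1))
  have hΦ : ∀ p f₁ f₂ x y, bf (Φ (p, f₁, f₂)).1 x y =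
      bf A (τ f₁ f₂ *ᵥ ((g p : M) *ᵥ x)) (τ f₁ f₂ *ᵥ ((g p : M) *ᵥ y)) := fun p f₁ f₂ x y => by
    rw [mulVec_mulVec, mulVec_mulVec]
    exact bf_congr A _ x y
  have hKm : ∀ f ∈ K, f ⬝ᵥ u₁ = 0 ∧ f ⬝ᵥ u₂ = 0 := fun f hf => by
    simp only [K, Finset.mem_filter, Finset.mem_univ, true_and] at hf
    exact ⟨congrArg Prod.fst hf, congrArg Prod.snd hf⟩
  have hfix : ∀ f₁ ∈ K, ∀ f₂ ∈ K, τ f₁ f₂ *ᵥ u₁ = u₁ ∧ τ f₁ f₂ *ᵥ u₂ = u₂ := fun f₁ h₁ f₂ h₂ => by
    simp [hτ, (hKm f₁ h₁).1, (hKm f₁ h₁).2, (hKm f₂ h₂).1, (hKm f₂ h₂).2]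
  have hle1 : (P ×ˢ (K ×ˢ K)).card ≤ trg.card := by
    refine Finset.card_le_card_of_injOn Φ ?_ ?_
    · rintro ⟨p, f₁, f₂⟩ hz
      simp only [Finset.mem_coe, Finset.mem_product] at hz
      obtain ⟨hpP, hf1, hf2⟩ := hz
      simp only [Finset.mem_coe, htrg, Finset.mem_filter, Finset.mem_product, Finset.mem_univ, and_true, Q]
      refine ⟨?_, ?_⟩
      · have hi : Function.Injective (Matrix.toLin' (τ f₁ f₂)) := (injective_iff_map_eq_zero _).2 fun y hy => by
          rw [Matrix.toLin'_apply, hτ] at hy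
          have k1 := congrArg (f₁ ⬝ᵥ ·) hy
          have k2 := congrArg (f₂ ⬝ᵥ ·) hy
          simp only [dotProduct_add, dotProduct_smul, (hKm f₁ hf1).1, (hKm f₁ hf1).2, (hKm f₂ hf2).1,
            (hKm f₂ hf2).2, smul_zero, add_zero, dotProduct_zero] at k1 k2
          simpa [k1, k2] using hy
        obtain ⟨t, ht⟩ := MaxTv.exists_gl_of_injective _ hi
        have htm : (t : M) = τ f₁ f₂ := Matrix.ext_iff_mulVec.2 fun y => by rw [ht, Matrix.toLin'_apply]
        simp only [orb, Finset.mem_filter, Finset.mem_univ, true_and]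
        refine ⟨Matrix.GeneralLinearGroup.mkOfDetNeZero (((t * g p : GL (Fin n) F) : M))ᵀ (by
          rw [det_transpose]; exact ((Matrix.isUnit_iff_isUnit_det _).1 (Units.isUnit _)).ne_zero), ?_⟩
        show ((t * g p : GL (Fin n) F) : M)ᵀ * A * ((t * g p : GL (Fin n) F) : M)ᵀᵀ = _
        rw [transpose_transpose, Units.val_mul, htm]
      · rw [hΦ, hΦ, hΦ, (hg p hpP).1, (hg p hpP).2, (hfix f₁ hf1 f₂ hf2).1, (hfix f₁ hf1 f₂ hf2).2]
        exact ⟨rfl, hp, rfl⟩
    · rintro ⟨p, f₁, f₂⟩ hz ⟨p', f₁', f₂'⟩ hz' e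
      simp only [Finset.mem_coe, Finset.mem_product] at hz hz'
      obtain ⟨hpP, hf1, hf2⟩ := hz
      obtain ⟨hpP', hf1', hf2'⟩ := hz'
      have e2 := congrArg Prod.snd e
      simp only [Φ, Prod.mk.injEq] at e2
      have hpp : p = p' := funext fun i => by fin_cases i <;> simp_all
      subst hpp
      have e1 := congrArg Prod.fst e
      have hy : ∀ y, f₁ ⬝ᵥ y = f₁' ⬝ᵥ y ∧ f₂ ⬝ᵥ y = f₂' ⬝ᵥ y := by
        intro y
        obtain ⟨x, rfl⟩ : ∃ x, y = (g p : M) *ᵥ x := ⟨_, (MaxTv.mulVec_inv_cancel (g p) y).symm⟩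
        have k1 : bf (Φ (p, f₁, f₂)).1 (p 0) x = bf (Φ (p, f₁', f₂')).1 (p 0) x := by rw [e1]
        have k2 : bf (Φ (p, f₁, f₂)).1 (p 1) x = bf (Φ (p, f₁', f₂')).1 (p 1) x := by rw [e1]
        rw [hΦ, hΦ] at k1 k2
        simp only [(hg p hpP).1, (hg p hpP).2, (hfix f₁ hf1 f₂ hf2).1, (hfix f₁ hf1 f₂ hf2).2,
          (hfix f₁' hf1' f₂' hf2').1, (hfix f₁' hf1' f₂' hf2').2, hτ, bf_add_right, bf_smul_right, hp, hp',
          ← ha₁, ← ha₂, mul_zero, add_zero, add_right_inj, mul_eq_mul_right_iff, h1, h22, or_false] at k1 k2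
        exact ⟨k1, k2⟩
      rw [dotProduct_eq _ _ fun y => (hy y).1, dotProduct_eq _ _ fun y => (hy y).2]
  have hle2 : trg.card ≤ (q + 1) * q ^ (n - 2) * (2 * q ^ (n - 2)) * (orb A).card := by
    refine Finset.card_le_mul_card_image_of_maps_to (f := Prod.fst)
      (fun z hz => by simp only [htrg, Finset.mem_filter, Finset.mem_product] at hz; exact hz.1.1) _ ?_
    intro A' hA'
    simp only [orb, Finset.mem_filter, Finset.mem_univ, true_and] at hA'
    obtain ⟨h, rfl⟩ := hA'
    set N := ((Finset.univ : Finset U).filter fun x => bf A x x = a₁) ×ˢ (Finset.univ : Finset U) |>.filter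
      fun p => bf A p.1 p.2 = 0 ∧ bf A p.2 p.2 = a₂ with hN
    have hh : ∀ x y, bf ((h : M) * A * (h : M)ᵀ) x y = bf A ((h : M)ᵀ *ᵥ x) ((h : M)ᵀ *ᵥ y) := fun x y => by
      rw [bf, bf, ← mulVec_mulVec, ← mulVec_mulVec, dotProduct_mulVec, ← mulVec_transpose]
    refine le_trans (Finset.card_le_card_of_injOn (fun z => ((h : M)ᵀ *ᵥ z.2.1, (h : M)ᵀ *ᵥ z.2.2)) ?_ ?_)
      (b := N.card) ?_
    · rintro ⟨A', x, y⟩ hz
      simp only [htrg, Finset.mem_coe, Finset.mem_filter, Finset.mem_product, Finset.mem_univ, and_true, Q] at hz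
      obtain ⟨⟨-, hq⟩, rfl⟩ := hz
      rw [hh, hh, hh] at hq
      simp only [hN, Finset.mem_coe, Finset.mem_filter, Finset.mem_product, Finset.mem_univ, true_and, and_true]
      exact hq
    · rintro ⟨A₁, x, y⟩ hz ⟨A₂, x', y'⟩ hz' e
      simp only [htrg, Finset.mem_coe, Finset.mem_filter] at hz hz'
      have hinj : Function.Injective fun x : U => (h : M)ᵀ *ᵥ x :=
        mulVec_injective_iff_isUnit.2 ((Units.isUnit h).map (transposeAlgEquiv (Fin n) F F).toMonoidHom
          |> fun hu => by simpa using isUnit_transpose.2 (Units.isUnit h))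
      simp only [Prod.mk.injEq] at e
      rw [hinj e.1, hinj e.2, hz.2, hz'.2]
    · calc N.card ≤ (2 * q ^ (n - 2)) * ((Finset.univ : Finset U).filter fun x => bf A x x = a₁).card := by
            refine Finset.card_le_mul_card_image_of_maps_to (f := Prod.fst)
              (fun z hz => by simp only [hN, Finset.mem_filter, Finset.mem_product] at hz; simpa using hz.1) _ ?_
            intro x hx
            simp only [Finset.mem_filter, Finset.mem_univ, true_and] at hx
            refine le_trans (Finset.card_le_card_of_injOn Prod.snd ?_ ?_) (card_second hA (hx ▸ h1) h22)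
            · rintro ⟨x', y⟩ hz
              simp only [hN, Finset.mem_coe, Finset.mem_filter, Finset.mem_product] at hz
              obtain ⟨⟨-, hq⟩, rfl⟩ := hz
              simpa using hq
            · rintro ⟨x', y⟩ hz ⟨x'', y'⟩ hz' e
              simp only [Finset.mem_coe, Finset.mem_filter] at hz hz'
              simp only at e
              rw [e, hz.2, hz'.2]
        _ ≤ _ := by rw [mul_comm]; exact Nat.mul_le_mul_right _ hN1
  rw [Finset.card_product, Finset.card_product, card_ker_two KL hKL, hPc] at hle1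
  refine Nat.le_of_mul_le_mul_right (c := q ^ (n - 2) * q ^ (n - 2)) ?_ (by positivity)
  calc _ ≤ (q + 1) * q ^ (n - 2) * (2 * q ^ (n - 2)) * (orb A).card := hle1.trans hle2
    _ ≤ (q + 1) * q ^ (n - 2) * (2 * q ^ (n - 2)) * finrank ℂ E := Nat.mul_le_mul_left _ horb
    _ = _ := by ring

end Cfsg.Agent.Lie.SpRank
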