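import Cfsg.Agent.Lib.Lie.SpRankOps
import Cfsg.Agent.Lib.Char.CharProj

/-! Simultaneous eigenspaces of the unipotent radical of the Siegel parabolic. -/

set_option autoImplicit false
set_option linter.unusedSectionVars false

namespace Cfsg.Agent.Lie.SpRank

open Matrix Cfsg.Agent.Classical

universe u w

variable {F : Type u} [Field F] [Fintype F] [DecidableEq F] {n : ℕ}
variable {E : Type w} [AddCommGroup E] [Module ℂ E] [FiniteDimensional ℂ E]
variable (ψ : AddChar F ℂ) (ρ : Representation ℂ (Matrix.symplecticGroup (Fin n) F) E)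

local notation "M" => Matrix (Fin n) (Fin n) F

/-- The pairing of two square matrices. -/
def tp (A T : M) : F := ∑ i, ∑ j, A i j * T i j

theorem tp_add (A S T : M) : tp A (S + T) = tp A S + tp A T := by
  simp [tp, mul_add, Finset.sum_add_distrib]

theorem tp_zero (A : M) : tp A (0 : M) = 0 := by simp [tp]

theorem tp_smul (A : M) (c : F) (T : M) : tp A (c • T) = c * tp A T := by
  simp [tp, Finset.mul_sum, mul_left_comm]

theorem tp_sub_left (A B T : M) : tp (A - B) T = tp A T - tp B T := by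
  simp [tp, sub_mul, Finset.sum_sub_distrib]

theorem tp_single (A : M) (i j : Fin n) (t : F) : tp A (Matrix.single i j t) = A i j * t := by
  simp [tp, Matrix.single_apply, ite_and]

theorem tp_comm (A T : M) : tp A T = tp T A := by simp [tp, mul_comm]

theorem tp_eq_trace (A T : M) : tp A T = (Aᵀ * T).trace := by
  simp only [tp, Matrix.trace, Matrix.diag_apply, Matrix.mul_apply, Matrix.transpose_apply]
  exact Finset.sum_comm

theorem tp_conj (A T g : M) : tp A (gᵀ * T * g) = tp (g * A * gᵀ) T := by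
  rw [tp_eq_trace, tp_eq_trace, transpose_mul, transpose_mul, transpose_transpose, ← Matrix.mul_assoc,
    ← Matrix.mul_assoc, Matrix.trace_mul_comm]
  simp [Matrix.mul_assoc]

/-- The pairing as a linear map. -/
def tpL (A : M) : M →ₗ[F] F where
  toFun := tp A
  map_add' := tp_add A
  map_smul' c T := by rw [RingHom.id_apply, tp_smul, smul_eq_mul]

theorem tp_vecMulVec (c : F) (x : Fin n → F) (T : M) :
    tp (c • vecMulVec x x) T = c * (x ⬝ᵥ T *ᵥ x) := by
  simp only [tp, Matrix.smul_apply, smul_eq_mul, vecMulVec_apply, dotProduct, Matrix.mulVec, Finset.mul_sum]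
  exact Finset.sum_congr rfl fun i _ => Finset.sum_congr rfl fun j _ => by ring

/-- A simultaneous eigenvector. -/
def Eig (A : M) (v : E) : Prop := ∀ T : M, ρ (nel T) v = ψ (tp A T) • v

/-- The projection to a simultaneous eigenspace. -/
noncomputable def pj (A : M) : Module.End ℂ E :=
  (Fintype.card M : ℂ)⁻¹ • ∑ T : M, ψ (-(tp A T)) • ρ (nel T)

variable {ψ ρ}

theorem Eig.smul {A : M} {v : E} (h : Eig ψ ρ A v) (c : ℂ) : Eig ψ ρ A (c • v) := fun T => by
  rw [map_smul, h T, smul_comm]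

theorem rho_mul (g k : Matrix.symplecticGroup (Fin n) F) (v : E) : ρ (g * k) v = ρ g (ρ k v) := by
  rw [map_mul]; rfl

theorem rho_inj (g : Matrix.symplecticGroup (Fin n) F) : Function.Injective (ρ g) := fun a b h => by
  have := congrArg (ρ g⁻¹) h
  rwa [← rho_mul, ← rho_mul, inv_mul_cancel, map_one] at this

theorem nel_comm (S T : M) : nel S * nel T = nel T * nel S := by rw [← nel_add, ← nel_add, add_comm]

theorem pj_eig (A : M) (v : E) : Eig ψ ρ A (pj ψ ρ A v) := by
  intro S
  have key : ρ (nel S) ((∑ T : M, ψ (-(tp A T)) • ρ (nel T)) v) =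
      ψ (tp A S) • (∑ T : M, ψ (-(tp A T)) • ρ (nel T)) v := by
    simp only [LinearMap.sum_apply, LinearMap.smul_apply, map_sum, map_smul, Finset.smul_sum, smul_smul]
    refine Fintype.sum_equiv (Equiv.addLeft S) _ _ fun T => ?_
    rw [Equiv.coe_addLeft, ← rho_mul, ← nel_add, ← AddChar.map_add_eq_mul, tp_add]
    congr 2
    ring
  rw [pj, LinearMap.smul_apply, map_smul, key, smul_comm]

theorem sum_char (hψ : ψ ≠ 1) (A : M) :
    ∑ T : M, ψ (tp A T) = if A = 0 then (Fintype.card M : ℂ) else 0 := by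
  classical
  split_ifs with h
  · subst h; simp [tp]
  · refine Char.sum_char_linear (W := M) hψ (tpL A) fun e => h (Matrix.ext fun i j => ?_)
    have := LinearMap.congr_fun e (Matrix.single i j 1)
    simpa [tpL, tp_single] using this

theorem sum_pj (hψ : ψ ≠ 1) (v : E) : ∑ A : M, pj ψ ρ A v = v := by
  simp only [pj, LinearMap.smul_apply, LinearMap.sum_apply, ← Finset.smul_sum]
  rw [Finset.sum_comm]
  simp only [← Finset.sum_smul]
  have h : ∀ T : M, ∑ A : M, ψ (-(tp A T)) = if -T = 0 then (Fintype.card M : ℂ) else 0 := fun T => by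
    rw [← sum_char hψ (-T)]
    refine Finset.sum_congr rfl fun A _ => congrArg ψ ?_
    simp [tp, mul_comm]
  rw [Finset.sum_eq_single (0 : M)]
  · rw [h, neg_zero, if_pos rfl, nel_zero, map_one, Module.End.one_apply, smul_smul,
      inv_mul_cancel₀ (Nat.cast_ne_zero.2 Fintype.card_ne_zero), one_smul]
  · intro T _ hT
    rw [h, if_neg (neg_ne_zero.2 hT), zero_smul]
  · simp

theorem pj_of_eig (hψ : ψ ≠ 1) {A A' : M} {v : E} (h : Eig ψ ρ A' v) :
    pj ψ ρ A v = if A = A' then v else 0 := by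
  have e : (∑ T : M, ψ (-(tp A T)) • ρ (nel T)) v = (∑ T : M, ψ (tp (A' - A) T)) • v := by
    simp only [LinearMap.sum_apply, LinearMap.smul_apply, h, smul_smul, Finset.sum_smul,
      ← AddChar.map_add_eq_mul, tp_sub_left]
    exact Finset.sum_congr rfl fun T _ => by rw [h T, smul_smul, ← AddChar.map_add_eq_mul]; ring_nf
  rw [pj, LinearMap.smul_apply, e, sum_char hψ, smul_smul]
  by_cases hA : A = A'
  · subst hA
    rw [sub_self, if_pos rfl, if_pos rfl, inv_mul_cancel₀ (Nat.cast_ne_zero.2 Fintype.card_ne_zero), one_smul]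
  · rw [if_neg (sub_ne_zero.2 (Ne.symm hA)), if_neg hA, mul_zero, zero_smul]

theorem eq_of_char (hψ : ψ ≠ 1) {a b : F} (h : ∀ t : F, ψ (a * t) = ψ (b * t)) : a = b := by
  by_contra hab
  refine hψ (DFunLike.ext _ _ fun y => ?_)
  have h1 := h (y / (a - b))
  have e : a * (y / (a - b)) = b * (y / (a - b)) + y := by
    have : a - b ≠ 0 := sub_ne_zero.2 hab
    field_simp
    ring
  rw [e, AddChar.map_add_eq_mul] at h1
  rw [AddChar.one_apply]
  exact mul_left_cancel₀ (AddChar.val_isUnit ψ _).ne_zero (h1.trans (mul_one _).symm)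

theorem Eig.entry_eq (hψ : ψ ≠ 1) {A : M} {v : E} (h : Eig ψ ρ A v) (hv : v ≠ 0) {i j : Fin n} {a : F}
    (ha : ∀ t : F, ρ (nel (Matrix.single i j t)) v = ψ (a * t) • v) : A i j = a := by
  refine eq_of_char hψ fun t => ?_
  have h1 := h (Matrix.single i j t)
  rw [ha, tp_single] at h1
  exact (smul_left_injective ℂ hv h1).symm

theorem Eig.symm (hψ : ψ ≠ 1) {A : M} {v : E} (h : Eig ψ ρ A v) (hv : v ≠ 0) : Aᵀ = A :=
  Matrix.ext fun j i => h.entry_eq hψ hv fun t => by
    rw [← tp_single A j i t, ← h, ← nel_transpose (Matrix.single i j t), transpose_single]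

theorem Eig.map_lel {A : M} {v : E} (h : Eig ψ ρ A v) (g : GL (Fin n) F) :
    Eig ψ ρ ((g : M) * A * (g : M)ᵀ) (ρ (lel g) v) := fun T => by
  rw [← rho_mul, lel_nel, rho_mul, h, map_smul, tp_conj]

/-- Only characters of rank at most one occur. -/
def RankOne (ψ : AddChar F ℂ) (ρ : Representation ℂ (Matrix.symplecticGroup (Fin n) F) E) : Prop :=
  ∀ (A : M) (v : E), Eig ψ ρ A v → v ≠ 0 → ∃ (d : F) (y : Fin n → F), A = d • vecMulVec y y

/-- An eigenvector attached to a rank one matrix. -/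
def EigV (ψ : AddChar F ℂ) (ρ : Representation ℂ (Matrix.symplecticGroup (Fin n) F) E) (c : F)
    (x : Fin n → F) (v : E) : Prop := Eig ψ ρ (c • vecMulVec x x) v

theorem EigV.apply {c : F} {x : Fin n → F} {v : E} (h : EigV ψ ρ c x v) (T : M) :
    ρ (nel T) v = ψ (c * (x ⬝ᵥ T *ᵥ x)) • v := by
  rw [h, tp_vecMulVec]

theorem EigV.apply_single {c : F} {x : Fin n → F} {v : E} (h : EigV ψ ρ c x v) (i j : Fin n) (t : F) :
    ρ (nel (Matrix.single i j t)) v = ψ (c * x i * x j * t) • v := by
  rw [h, tp_single, Matrix.smul_apply, smul_eq_mul, vecMulVec_apply]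
  congr 2
  ring

theorem smul_vecMulVec_map (c : F) (x : Fin n → F) (g : M) :
    g * (c • vecMulVec x x) * gᵀ = c • vecMulVec (g *ᵥ x) (g *ᵥ x) := by
  rw [Matrix.mul_smul, Matrix.smul_mul, mul_vecMulVec, vecMulVec_mul, vecMul_transpose]

theorem EigV.map_lel {c : F} {x : Fin n → F} {v : E} (h : EigV ψ ρ c x v) (g : GL (Fin n) F) :
    EigV ψ ρ c ((g : M) *ᵥ x) (ρ (lel g) v) := by
  rw [EigV, ← smul_vecMulVec_map]
  exact Eig.map_lel h g

end Cfsg.Agent.Lie.SpRank
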