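import Cfsg.Agent.Lib.Lie.SpDegBasic
import Cfsg.Agent.Lib.Classical.MaxDecomp

/-! The Siegel parabolic and the partial Weyl elements of `Sp_{2n}`. -/

set_option autoImplicit false
set_option linter.unusedSectionVars false

namespace Cfsg.Agent.Lie.SpRank

open Matrix Cfsg.Agent.Classical
open Cfsg.Agent.Lie.SpDeg (act act_mul act_one act_inv sp_ext act_form act_tv tv_conj)

universe u

variable {F : Type u} [Field F] {n : ℕ}

local notation "V" => (Fin n ⊕ Fin n → F)
local notation "Sp" => Matrix.symplecticGroup (Fin n) F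
local notation "B" => sympForm n F
local notation "M" => Matrix (Fin n) (Fin n) F
local notation "U" => (Fin n → F)

/-- The first half of the coordinates. -/
def pa (v : V) : U := fun i => v (Sum.inl i)

/-- The second half of the coordinates. -/
def pb (v : V) : U := fun i => v (Sum.inr i)

theorem pair_ext {v w : V} (h1 : pa v = pa w) (h2 : pb v = pb w) : v = w := by
  funext i
  rcases i with i | i
  · exact congrFun h1 i
  · exact congrFun h2 i

theorem form_eq (v w : V) : B v w = pb v ⬝ᵥ pa w - pa v ⬝ᵥ pb w := by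
  rw [sympForm_eq_sum, Finset.sum_sub_distrib]; rfl

/-- An element of the group from its two halves. -/
noncomputable def mk (f : V →ₗ[F] V) (hf : ∀ x y, B (f x) (f y) = B x y) : Sp :=
  ⟨LinearMap.toMatrix' f, (mem_symplecticGroup_iff_form).2 fun x y => by
    rw [LinearMap.toMatrix'_mulVec, LinearMap.toMatrix'_mulVec, hf]⟩

theorem act_mk (f : V →ₗ[F] V) (hf : ∀ x y, B (f x) (f y) = B x y) (v : V) : act (mk f hf) v = f v :=
  LinearMap.toMatrix'_mulVec f v

/-- The unipotent map of a square matrix. -/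
def nMap (T : M) : V →ₗ[F] V where
  toFun v := Sum.elim (pa v + (T + Tᵀ) *ᵥ pb v) (pb v)
  map_add' v w := by
    apply pair_ext <;> funext i
    · simp [pa, show pb (v + w) = pb v + pb w from rfl, mulVec_add]; ring
    · simp [pb]
  map_smul' c v := by
    apply pair_ext <;> funext i
    · simp [pa, show pb (c • v) = c • pb v from rfl, mulVec_smul]; ring
    · simp [pb]

theorem symm_dot (S : M) (hS : Sᵀ = S) (x y : U) : (S *ᵥ x) ⬝ᵥ y = x ⬝ᵥ S *ᵥ y := by
  rw [dotProduct_mulVec, ← vecMul_transpose, hS]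

/-- The unipotent radical of the Siegel parabolic. -/
noncomputable def nel (T : M) : Sp := mk (nMap T) fun x y => by
  have h : (T + Tᵀ)ᵀ = T + Tᵀ := by rw [transpose_add, transpose_transpose, add_comm]
  rw [form_eq, form_eq]
  show pb x ⬝ᵥ (pa y + (T + Tᵀ) *ᵥ pb y) - (pa x + (T + Tᵀ) *ᵥ pb x) ⬝ᵥ pb y = _
  rw [dotProduct_add, add_dotProduct, symm_dot _ h]
  ring

theorem pa_nel (T : M) (v : V) : pa (act (nel T) v) = pa v + (T + Tᵀ) *ᵥ pb v := by
  rw [nel, act_mk]; rfl

theorem pb_nel (T : M) (v : V) : pb (act (nel T) v) = pb v := by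
  rw [nel, act_mk]; rfl

theorem nel_add (S T : M) : nel (S + T) = nel S * nel T := sp_ext fun v => by
  rw [act_mul]
  apply pair_ext
  · rw [pa_nel, pa_nel, pa_nel, pb_nel, transpose_add]
    simp only [add_mulVec]
    abel
  · rw [pb_nel, pb_nel, pb_nel]

theorem nel_zero : nel (0 : M) = 1 := sp_ext fun v => by
  rw [act_one]
  apply pair_ext
  · rw [pa_nel, transpose_zero, add_zero, zero_mulVec, add_zero]
  · rw [pb_nel]

theorem nel_transpose (T : M) : nel Tᵀ = nel T := sp_ext fun v => by
  apply pair_ext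
  · rw [pa_nel, pa_nel, transpose_transpose, add_comm Tᵀ]
  · rw [pb_nel, pb_nel]

/-- The Levi map of an invertible matrix. -/
def lMap (h : GL (Fin n) F) : V →ₗ[F] V where
  toFun v := Sum.elim (((h⁻¹ : GL (Fin n) F) : M)ᵀ *ᵥ pa v) ((h : M) *ᵥ pb v)
  map_add' v w := by
    apply pair_ext <;> funext i
    · simp [pa, show pa (v + w) = pa v + pa w from rfl, mulVec_add]
    · simp [pb, show pb (v + w) = pb v + pb w from rfl, mulVec_add]
  map_smul' c v := by
    apply pair_ext <;> funext i
    · simp [pa, show pa (c • v) = c • pa v from rfl, mulVec_smul]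
    · simp [pb, show pb (c • v) = c • pb v from rfl, mulVec_smul]

theorem dot_inv (h : GL (Fin n) F) (x y : U) :
    ((h : M) *ᵥ x) ⬝ᵥ (((h⁻¹ : GL (Fin n) F) : M)ᵀ *ᵥ y) = x ⬝ᵥ y := by
  rw [mulVec_transpose, dotProduct_comm, ← dotProduct_mulVec, mulVec_mulVec, ← Units.val_mul, inv_mul_cancel,
    Units.val_one, one_mulVec, dotProduct_comm]

/-- The Levi factor. -/
noncomputable def lel (h : GL (Fin n) F) : Sp := mk (lMap h) fun x y => by
  rw [form_eq, form_eq]
  show ((h : M) *ᵥ pb x) ⬝ᵥ (((h⁻¹ : GL (Fin n) F) : M)ᵀ *ᵥ pa y) -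
    (((h⁻¹ : GL (Fin n) F) : M)ᵀ *ᵥ pa x) ⬝ᵥ ((h : M) *ᵥ pb y) = _
  rw [dot_inv, dotProduct_comm _ ((h : M) *ᵥ pb y), dot_inv, dotProduct_comm (pb y)]

theorem pa_lel (h : GL (Fin n) F) (v : V) : pa (act (lel h) v) = ((h⁻¹ : GL (Fin n) F) : M)ᵀ *ᵥ pa v := by
  rw [lel, act_mk]; rfl

theorem pb_lel (h : GL (Fin n) F) (v : V) : pb (act (lel h) v) = (h : M) *ᵥ pb v := by
  rw [lel, act_mk]; rfl

theorem lel_mul (g h : GL (Fin n) F) : lel (g * h) = lel g * lel h := sp_ext fun v => by
  rw [act_mul]
  apply pair_ext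
  · rw [pa_lel, pa_lel, pa_lel, mulVec_mulVec, _root_.mul_inv_rev, Units.val_mul, transpose_mul]
  · rw [pb_lel, pb_lel, pb_lel, mulVec_mulVec, Units.val_mul]

theorem lel_one : lel (1 : GL (Fin n) F) = 1 := sp_ext fun v => by
  rw [act_one]
  apply pair_ext
  · rw [pa_lel, inv_one, Units.val_one, transpose_one, one_mulVec]
  · rw [pb_lel, Units.val_one, one_mulVec]

theorem lel_nel (h : GL (Fin n) F) (T : M) : nel T * lel h = lel h * nel ((h : M)ᵀ * T * (h : M)) :=
  sp_ext fun v => by
    rw [act_mul, act_mul]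
    apply pair_ext
    · rw [pa_nel, pa_lel, pb_lel, pa_lel, pa_nel, mulVec_add, mulVec_mulVec, mulVec_mulVec]
      congr 2
      rw [transpose_mul, transpose_mul, transpose_transpose]
      have e : ((h⁻¹ : GL (Fin n) F) : M)ᵀ * (h : M)ᵀ = 1 := by
        rw [← transpose_mul, ← Units.val_mul, mul_inv_cancel, Units.val_one, transpose_one]
      simp only [Matrix.mul_add, Matrix.add_mul, ← Matrix.mul_assoc, e, Matrix.one_mul]
    · rw [pb_nel, pb_lel, pb_lel, pb_nel]

/-- The partial Weyl map. -/
def wMap (i : Fin n) : V →ₗ[F] V where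
  toFun v := Sum.elim (pa v + Pi.single i (pb v i - pa v i)) (pb v + Pi.single i (-(pa v i) - pb v i))
  map_add' v w := by
    apply pair_ext <;> funext j <;> simp [pa, pb, Pi.single_apply] <;> split_ifs <;> ring
  map_smul' c v := by
    apply pair_ext <;> funext j <;> simp [pa, pb, Pi.single_apply] <;> split_ifs <;> ring

/-- The partial Weyl element. -/
noncomputable def wel (i : Fin n) : Sp := mk (wMap i) fun x y => by
  rw [form_eq, form_eq]
  show (pb x + Pi.single i (-(pa x i) - pb x i)) ⬝ᵥ (pa y + Pi.single i (pb y i - pa y i)) -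
    (pa x + Pi.single i (pb x i - pa x i)) ⬝ᵥ (pb y + Pi.single i (-(pa y i) - pb y i)) = _
  simp only [add_dotProduct, dotProduct_add, single_dotProduct, dotProduct_single, Pi.add_apply, Pi.single_eq_same]
  ring

theorem pa_wel (i : Fin n) (v : V) : pa (act (wel i) v) = pa v + Pi.single i (pb v i - pa v i) := by
  rw [wel, act_mk]; rfl

theorem pb_wel (i : Fin n) (v : V) : pb (act (wel i) v) = pb v + Pi.single i (-(pa v i) - pb v i) := by
  rw [wel, act_mk]; rfl

theorem wel_comm (i j : Fin n) : wel (F := F) i * wel j = wel j * wel i := by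
  rcases eq_or_ne i j with rfl | hij
  · rfl
  refine sp_ext fun v => ?_
  rw [act_mul, act_mul]
  apply pair_ext
  · simp only [pa_wel, pb_wel, Pi.add_apply, Pi.single_eq_of_ne hij, Pi.single_eq_of_ne (Ne.symm hij), add_zero]
    abel
  · simp only [pa_wel, pb_wel, Pi.add_apply, Pi.single_eq_of_ne hij, Pi.single_eq_of_ne (Ne.symm hij), add_zero]
    abel

theorem mulVec_single_add (A : M) (x : U) (i : Fin n) (a : F) (h : A *ᵥ Pi.single i 1 = Pi.single i 1) :
    A *ᵥ (x + Pi.single i a) = A *ᵥ x + Pi.single i a := by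
  rw [mulVec_add, show (Pi.single i a : U) = a • Pi.single i 1 by rw [← Pi.single_smul, smul_eq_mul, mul_one],
    mulVec_smul, h]

theorem apply_of_fix (A : M) (x : U) (i : Fin n) (h : Aᵀ *ᵥ Pi.single i 1 = Pi.single i 1) :
    (A *ᵥ x) i = x i := by
  have : (A *ᵥ x) ⬝ᵥ Pi.single i 1 = x ⬝ᵥ (Aᵀ *ᵥ Pi.single i 1) := by
    rw [mulVec_transpose, dotProduct_comm, dotProduct_mulVec, dotProduct_comm]
  simpa [h] using this

theorem wel_lel (i : Fin n) (h : GL (Fin n) F) (h1 : (h : M) *ᵥ Pi.single i 1 = Pi.single i 1)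
    (h2 : (h : M)ᵀ *ᵥ Pi.single i 1 = Pi.single i 1) : wel i * lel h = lel h * wel i := by
  have h3 : ((h⁻¹ : GL (Fin n) F) : M) *ᵥ Pi.single i 1 = Pi.single i 1 := by
    conv_lhs => rw [← h1]
    rw [mulVec_mulVec, ← Units.val_mul, inv_mul_cancel, Units.val_one, one_mulVec]
  have h4 : (((h⁻¹ : GL (Fin n) F) : M)ᵀ) *ᵥ Pi.single i 1 = Pi.single i 1 := by
    conv_lhs => rw [← h2]
    rw [mulVec_mulVec, ← transpose_mul, ← Units.val_mul, mul_inv_cancel, Units.val_one, transpose_one, one_mulVec]
  refine sp_ext fun v => ?_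
  rw [act_mul, act_mul]
  apply pair_ext
  · rw [pa_wel, pa_lel, pb_lel, pa_lel, pa_wel, mulVec_single_add _ _ _ _ h4, apply_of_fix _ _ _ h2,
      apply_of_fix _ (pa v) i (by rw [transpose_transpose]; exact h3)]
  · rw [pb_wel, pb_lel, pa_lel, pb_lel, pb_wel, mulVec_single_add _ _ _ _ h1, apply_of_fix _ _ _ h2,
      apply_of_fix _ (pa v) i (by rw [transpose_transpose]; exact h3)]

theorem wel_nel (i : Fin n) (T : M) (h : ∀ j, T i j = 0 ∧ T j i = 0) : wel i * nel T = nel T * wel i := by
  have h1 : (T + Tᵀ) *ᵥ (Pi.single i (1 : F) : U) = 0 := by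
    rw [mulVec_single_one]; funext j; simp [(h j).1, (h j).2]
  have h2 : ∀ x : U, ((T + Tᵀ) *ᵥ x) i = 0 := fun x => by
    show ∑ j, (T + Tᵀ) i j * x j = 0
    simp [(h _).1, (h _).2]
  have hs : ∀ a : F, (T + Tᵀ) *ᵥ (Pi.single i a : U) = 0 := fun a => by
    rw [show (Pi.single i a : U) = a • Pi.single i 1 by rw [← Pi.single_smul, smul_eq_mul, mul_one],
      mulVec_smul, h1, smul_zero]
  refine sp_ext fun v => ?_
  rw [act_mul, act_mul]
  apply pair_ext
  · rw [pa_wel, pa_nel, pb_nel, pa_nel, pa_wel, pb_wel, mulVec_add]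
    simp only [hs, add_zero, Pi.add_apply, h2]
    abel
  · rw [pb_wel, pa_nel, pb_nel, pb_nel, pb_wel, Pi.add_apply, h2, add_zero]

/-- An elementary matrix. -/
noncomputable def tvg (i j : Fin n) (t : F) : GL (Fin n) F :=
  if h : i = j then 1 else Matrix.GeneralLinearGroup.mkOfDetNeZero (Matrix.transvection i j t)
    (by rw [det_transvection_of_ne i j h]; exact one_ne_zero)

theorem tvg_coe {i j : Fin n} (h : i ≠ j) (t : F) : (tvg i j t : M) = Matrix.transvection i j t := by
  rw [tvg, dif_neg h]; rfl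

theorem tvg_mulVec {i j : Fin n} (h : i ≠ j) (t : F) (x : U) :
    (tvg i j t : M) *ᵥ x = x + Pi.single i (t * x j) := by
  rw [tvg_coe h, transvection, add_mulVec, one_mulVec]
  congr 1
  funext l
  show ∑ k, Matrix.single i j t l k * x k = _
  simp [Matrix.single_apply, Pi.single_apply, ite_and, eq_comm]

theorem tvg_inv {i j : Fin n} (h : i ≠ j) (t : F) : (tvg i j t)⁻¹ = tvg i j (-t) := by
  refine inv_eq_of_mul_eq_one_left (Units.ext ?_)
  rw [Units.val_mul, tvg_coe h, tvg_coe h, transvection_mul_transvection_same _ _ h, neg_add_cancel,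
    transvection_zero, Units.val_one]

theorem tvg_transpose_mulVec {i j : Fin n} (h : i ≠ j) (t : F) (x : U) :
    (tvg i j t : M)ᵀ *ᵥ x = x + Pi.single j (t * x i) := by
  rw [tvg_coe h, transvection, transpose_add, transpose_one, transpose_single, add_mulVec, one_mulVec]
  congr 1
  funext l
  show ∑ k, Matrix.single j i t l k * x k = _
  simp [Matrix.single_apply, Pi.single_apply, ite_and, eq_comm]

theorem single_mulVec' (i j : Fin n) (t : F) (x : U) :
    Matrix.single i j t *ᵥ x = Pi.single i (t * x j) := by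
  funext l
  show ∑ k, Matrix.single i j t l k * x k = _
  simp [Matrix.single_apply, Pi.single_apply, ite_and, eq_comm]

theorem nel_single (i j : Fin n) (t : F) (v : V) :
    pa (act (nel (Matrix.single i j t)) v) = pa v + (Pi.single i (t * pb v j) + Pi.single j (t * pb v i)) := by
  rw [pa_nel, transpose_single, add_mulVec, single_mulVec', single_mulVec']

theorem wel_nel_cross {i j : Fin n} (h : j ≠ i) (t : F) :
    wel j * nel (Matrix.single j i t) = lel (tvg j i (-t)) * wel j := by
  refine sp_ext fun v => ?_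
  rw [act_mul, act_mul]
  apply pair_ext
  · rw [pa_wel, nel_single, pb_nel, pa_lel, tvg_inv h, neg_neg, tvg_transpose_mulVec h, pa_wel]
    funext l
    simp only [Pi.add_apply, Pi.single_apply]
    split_ifs <;> subst_vars <;> first | exact absurd rfl h | ring
  · rw [pb_wel, nel_single, pb_nel, pb_lel, tvg_mulVec h, pb_wel]
    funext l
    simp only [Pi.add_apply, Pi.single_apply]
    split_ifs <;> subst_vars <;> first | exact absurd rfl h | ring

theorem wel_lel_cross {i j : Fin n} (h : j ≠ i) (t : F) :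
    wel j * lel (tvg j i t) = nel (Matrix.single j i t) * wel j := by
  refine sp_ext fun v => ?_
  rw [act_mul, act_mul]
  apply pair_ext
  · rw [pa_wel, pa_lel, pb_lel, tvg_inv h, tvg_transpose_mulVec h, tvg_mulVec h, nel_single, pa_wel, pb_wel]
    funext l
    simp only [Pi.add_apply, Pi.single_apply]
    split_ifs <;> subst_vars <;> first | exact absurd rfl h | ring
  · rw [pb_wel, pa_lel, pb_lel, tvg_inv h, tvg_transpose_mulVec h, tvg_mulVec h, pb_nel, pb_wel]
    funext l
    simp only [Pi.add_apply, Pi.single_apply]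
    split_ifs <;> subst_vars <;> first | exact absurd rfl h | ring

/-- A diagonal element. -/
noncomputable def dg (i : Fin n) (s : Fˣ) : GL (Fin n) F :=
  ⟨Matrix.diagonal (Function.update 1 i (s : F)), Matrix.diagonal (Function.update 1 i (s⁻¹ : Fˣ).val),
    by rw [diagonal_mul_diagonal, ← diagonal_one]; congr 1; funext l; by_cases hl : l = i <;> simp [hl],
    by rw [diagonal_mul_diagonal, ← diagonal_one]; congr 1; funext l; by_cases hl : l = i <;> simp [hl]⟩

theorem dg_mulVec (i : Fin n) (s : Fˣ) (x : U) :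
    (dg i s : M) *ᵥ x = x + Pi.single i (((s : F) - 1) * x i) := by
  funext l
  rw [show (dg i s : M) = Matrix.diagonal (Function.update 1 i (s : F)) from rfl, mulVec_diagonal,
    Pi.add_apply, Pi.single_apply]
  by_cases hl : l = i
  · subst hl; simp; ring
  · simp [hl]

theorem dg_inv (i : Fin n) (s : Fˣ) : (dg i s)⁻¹ = dg i s⁻¹ := Units.ext rfl

theorem dg_transpose (i : Fin n) (s : Fˣ) : (dg i s : M)ᵀ = dg i s :=
  diagonal_transpose _

theorem dg_mul (i : Fin n) (s t : Fˣ) : dg i (s * t) = dg i s * dg i t := by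
  refine Units.ext (Matrix.ext_iff_mulVec.2 fun x => ?_)
  rw [Units.val_mul, ← mulVec_mulVec, dg_mulVec, dg_mulVec, dg_mulVec]
  funext l
  simp only [Pi.add_apply, Pi.single_apply, Units.val_mul, if_true]
  split_ifs <;> subst_vars <;> ring

theorem dg_det (i : Fin n) (s : Fˣ) : (dg i s : M).det = s := by
  rw [show (dg i s : M) = Matrix.diagonal (Function.update 1 i (s : F)) from rfl, det_diagonal,
    Finset.prod_update_of_mem (Finset.mem_univ i)]
  simp

theorem wel_dg (i : Fin n) (s : Fˣ) : wel i * lel (dg i s) = lel (dg i s⁻¹) * wel (F := F) i := by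
  refine sp_ext fun v => ?_
  rw [act_mul, act_mul]
  apply pair_ext
  · rw [pa_wel, pa_lel, pb_lel, pa_lel, dg_inv, dg_inv, dg_transpose, dg_transpose, dg_mulVec, dg_mulVec,
      dg_mulVec, pa_wel, inv_inv]
    funext l
    simp only [Pi.add_apply, Pi.single_apply]
    split_ifs <;> subst_vars <;> ring
  · rw [pb_wel, pa_lel, pb_lel, pb_lel, dg_inv, dg_transpose, dg_mulVec, dg_mulVec, dg_mulVec, pb_wel]
    funext l
    simp only [Pi.add_apply, Pi.single_apply]
    split_ifs <;> subst_vars <;> ring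

theorem wel_sq (i : Fin n) : wel (F := F) i * wel i = lel (dg i (-1)) := by
  refine sp_ext fun v => ?_
  rw [act_mul]
  apply pair_ext
  · rw [pa_wel, pa_wel, pb_wel, pa_lel, dg_inv, dg_transpose, dg_mulVec, inv_neg, inv_one]
    funext l
    simp only [Pi.add_apply, Pi.single_apply, Units.val_neg, Units.val_one]
    split_ifs <;> subst_vars <;> ring
  · rw [pb_wel, pa_wel, pb_wel, pb_lel, dg_mulVec]
    funext l
    simp only [Pi.add_apply, Pi.single_apply, Units.val_neg, Units.val_one]
    split_ifs <;> subst_vars <;> ring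

theorem braid (h2 : (2 : F) ≠ 0) (i : Fin n) (s : Fˣ) :
    wel i * nel (Matrix.single i i ((s : F) / 2)) * wel i * nel (Matrix.single i i (1 / (2 * (s : F)))) * wel i *
      nel (Matrix.single i i ((s : F) / 2)) = lel (dg i s) := by
  have hs : (s : F) ≠ 0 := s.ne_zero
  refine sp_ext fun v => ?_
  simp only [act_mul]
  apply pair_ext
  · simp only [pa_wel, pb_wel, nel_single, pb_nel, pa_lel, dg_inv, dg_transpose, dg_mulVec]
    funext l
    simp only [Pi.add_apply, Pi.single_apply, Units.val_inv_eq_inv_val, if_true]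
    split_ifs <;> subst_vars <;> (try field_simp) <;> ring
  · simp only [pa_wel, pb_wel, nel_single, pb_nel, pb_lel, dg_mulVec]
    funext l
    simp only [Pi.add_apply, Pi.single_apply, if_true]
    split_ifs <;> subst_vars <;> (try field_simp) <;> ring

theorem act_neg_one (v : V) : act (lel (-1 : GL (Fin n) F)) v = -v := by
  apply pair_ext
  · rw [pa_lel, inv_neg, inv_one, Units.val_neg, Units.val_one, transpose_neg, transpose_one, neg_mulVec,
      one_mulVec]; rfl
  · rw [pb_lel, Units.val_neg, Units.val_one, neg_mulVec, one_mulVec]; rfl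

theorem neg_one_comm (g : Sp) : g * lel (-1 : GL (Fin n) F) = lel (-1 : GL (Fin n) F) * g :=
  sp_ext fun v => by
    rw [act_mul, act_mul, act_neg_one, act_neg_one]
    exact Matrix.mulVec_neg _ _

/-- An invertible matrix with a prescribed column. -/
theorem exists_gl_col {x : U} (hx : x ≠ 0) (k : Fin n) : ∃ g : GL (Fin n) F, (g : M) *ᵥ Pi.single k 1 = x := by
  classical
  have key : ∀ z : U, z k ≠ 0 → ∃ g : GL (Fin n) F, (g : M) *ᵥ Pi.single k 1 = z := by
    intro z hz
    let L : U →ₗ[F] U :=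
      { toFun := fun y => y + y k • (z - Pi.single k 1)
        map_add' := fun x y => by simp only [Pi.add_apply, add_smul]; abel
        map_smul' := fun r x => by simp [smul_add, smul_smul] }
    have hL : Function.Injective L := (injective_iff_map_eq_zero L).2 fun y hy => by
      have h0 : y k + y k * (z k - 1) = 0 := by simpa [L] using congrFun hy k
      have h1 : y k = 0 :=
        (mul_eq_zero.1 (show y k * z k = 0 by linear_combination h0)).resolve_right hz
      simpa [L, h1] using hy
    obtain ⟨g, hg⟩ := MaxTv.exists_gl_of_injective L hL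
    exact ⟨g, by rw [hg]; simp [L]⟩
  by_cases hk : x k = 0
  · obtain ⟨p, hp⟩ := Function.ne_iff.1 hx
    have hkp : k ≠ p := fun e => hp (by rw [← e, hk]; rfl)
    obtain ⟨g, hg⟩ := key ((tvg k p (1 : F) : M) *ᵥ x) (by
      rw [tvg_mulVec hkp, Pi.add_apply, Pi.single_eq_same, hk, zero_add, one_mul]; exact hp)
    refine ⟨(tvg k p (1 : F))⁻¹ * g, ?_⟩
    rw [Units.val_mul, ← mulVec_mulVec, hg, mulVec_mulVec, ← Units.val_mul, inv_mul_cancel, Units.val_one,
      one_mulVec]
  · exact key x hk

/-- The generating elements. -/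
def gens (F : Type u) [Field F] (n : ℕ) : Set (Matrix.symplecticGroup (Fin n) F) :=
  (Set.range (nel (F := F) (n := n)) ∪ Set.range (lel (F := F) (n := n))) ∪ Set.range (wel (F := F) (n := n))

theorem closure_gens (h2 : (2 : F) ≠ 0) : Subgroup.closure (gens F n) = ⊤ := by
  classical
  set H := Subgroup.closure (gens F n)
  have hN : ∀ T : M, nel T ∈ H := fun T => Subgroup.subset_closure (Or.inl (Or.inl ⟨T, rfl⟩))
  have hL : ∀ h : GL (Fin n) F, lel h ∈ H := fun h => Subgroup.subset_closure (Or.inl (Or.inr ⟨h, rfl⟩))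
  have hW : ∀ i, wel (F := F) (n := n) i ∈ H := fun i => Subgroup.subset_closure (Or.inr ⟨i, rfl⟩)
  rw [eq_top_iff, ← closure_sympTvSet, Subgroup.closure_le]
  rintro A ⟨v, c, hA⟩
  rw [show A = sympTv v c from Subtype.ext hA, SetLike.mem_coe]
  rcases eq_or_ne v 0 with rfl | hv
  · rw [show sympTv (0 : V) c = 1 from sp_ext fun y => by simp [act_tv, act_one]]
    exact one_mem H
  obtain ⟨k⟩ : Nonempty (Fin n) := by
    by_contra hne
    exact hv (funext fun l => by rcases l with l | l <;> exact absurd ⟨l⟩ hne)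
  let e : V := Pi.single (Sum.inl k) 1
  have hpe : pb e = 0 := funext fun j => by simp [pb, e]
  have hpae : pa e = Pi.single k 1 := funext fun j => by simp [pa, e, Pi.single_apply]
  have heH : sympTv e c ∈ H := by
    have he : sympTv e c = nel (Matrix.single k k (c / 2)) := by
      refine sp_ext fun y => ?_
      have hB : B y e = pb y k := by rw [sympForm_single_inl, mul_one]; rfl
      apply pair_ext
      · rw [nel_single, act_tv, hB]
        funext j
        simp only [pa, Pi.add_apply, Pi.smul_apply, smul_eq_mul, e, Pi.single_apply, Sum.inl.injEq]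
        split_ifs <;> subst_vars <;> (try field_simp) <;> ring
      · rw [pb_nel, act_tv]
        funext j
        simp [pb, e]
    rw [he]
    exact hN _
  suffices h : ∃ g ∈ H, act g e = v by
    obtain ⟨g, hg, rfl⟩ := h
    rw [← tv_conj]
    exact mul_mem (mul_mem hg heH) (inv_mem hg)
  by_cases hb : pb v = 0
  · have ha : pa v ≠ 0 := fun h => hv (pair_ext (w := 0) h hb)
    obtain ⟨g, hg⟩ := exists_gl_col ha k
    let g' : GL (Fin n) F := Matrix.GeneralLinearGroup.mkOfDetNeZero (g : M)ᵀ (by
      rw [det_transpose]; exact (Matrix.GeneralLinearGroup.det g).ne_zero)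
    refine ⟨lel g'⁻¹, hL _, pair_ext ?_ ?_⟩
    · rw [pa_lel, inv_inv, hpae]
      show (g : M)ᵀᵀ *ᵥ _ = _
      rw [transpose_transpose, hg]
    · rw [pb_lel, hpe, mulVec_zero, hb]
  · obtain ⟨g, hg⟩ := exists_gl_col (x := -pb v) (neg_ne_zero.2 hb) k
    obtain ⟨p, hp⟩ := Function.ne_iff.1 hb
    let u : U := Pi.single p (pb v p)⁻¹
    have hu : u ⬝ᵥ pb v = 1 := by
      rw [single_dotProduct, inv_mul_cancel₀ (by simpa using hp)]
    have h1 : pb (act (wel k) e) = Pi.single k (-1) := by
      rw [pb_wel, hpe, hpae]; simp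
    have h0 : pa (act (wel k) e) = 0 := by
      rw [pa_wel, hpe, hpae]; simp [← Pi.single_add]
    have h3 : pb (act (lel g) (act (wel k) e)) = pb v := by
      rw [pb_lel, h1, Pi.single_neg, mulVec_neg, hg, neg_neg]
    have h4 : pa (act (lel g) (act (wel k) e)) = 0 := by rw [pa_lel, h0, mulVec_zero]
    set T : M := vecMulVec (pa v) u - ((pa v ⬝ᵥ pb v) / 2) • vecMulVec u u
    refine ⟨nel T * (lel g * wel k), mul_mem (hN _) (mul_mem (hL _) (hW _)), pair_ext ?_ ?_⟩
    · rw [act_mul, act_mul, pa_nel, h3, h4, zero_add]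
      simp only [T, transpose_sub, transpose_smul, transpose_vecMulVec, add_mulVec, sub_mulVec, smul_mulVec,
        vecMulVec_mulVec, op_smul_eq_smul, hu, one_smul, smul_smul, mul_one]
      funext j
      simp only [Pi.add_apply, Pi.sub_apply, Pi.smul_apply, smul_eq_mul]
      field_simp
      ring
    · rw [act_mul, act_mul, pb_nel, h3]

end Cfsg.Agent.Lie.SpRank
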