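import Cfsg.Agent.Lib.Lie.SpWeil
import Cfsg.Agent.Lib.Lie.SpRankOps

/-! The even Weil representation. -/

set_option autoImplicit false
set_option linter.unusedSectionVars false

namespace Cfsg.Agent.Lie.SpRank

open Matrix Cfsg.Agent.Classical
open Cfsg.Agent.Lie.SpWeil

universe u

variable {F : Type u} [Field F] [Fintype F] {m : ℕ}

variable (ψ : AddChar F ℂ) (hψ : ψ ≠ 1) (h2 : (2 : F) ≠ 0)

/-- The scalar making the intertwiners multiplicative. -/
noncomputable def wScal (g : Matrix.symplecticGroup (Fin m) F) : ℂ :=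
  LinearMap.det (wHalf ψ hψ h2 g neg_sq_one) / LinearMap.det (wHalf ψ hψ h2 g one_sq)

/-- The intertwiners on the even functions. -/
noncomputable def evenFun (g : Matrix.symplecticGroup (Fin m) F) :
    Module.End ℂ (half (m := m) (F := F) 1) := wScal ψ hψ h2 g • wHalf ψ hψ h2 g one_sq

theorem evenFun_mul (g k : Matrix.symplecticGroup (Fin m) F) :
    evenFun ψ hψ h2 (g * k) = evenFun ψ hψ h2 g * evenFun ψ hψ h2 k := by
  obtain ⟨c, hc0, -, hc⟩ := wHalf_mul ψ hψ h2 g k
  have hg := wHalf_det_ne ψ hψ h2 g one_sq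
  have hk := wHalf_det_ne ψ hψ h2 k one_sq
  simp only [evenFun, wScal, hc neg_sq_one, hc one_sq, LinearMap.det_smul, map_mul, smul_mul_smul_comm, smul_smul,
    finrank_plus h2, pow_succ]
  congr 1
  field_simp

/-- The even Weil representation. -/
noncomputable def evenWeil : Representation ℂ (Matrix.symplecticGroup (Fin m) F) (half (m := m) (F := F) 1) where
  toFun := evenFun ψ hψ h2
  map_one' := by
    have h1 := evenFun_mul ψ hψ h2 (1 : Matrix.symplecticGroup (Fin m) F) 1
    rw [one_mul] at h1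
    have hu : IsUnit (evenFun ψ hψ h2 (1 : Matrix.symplecticGroup (Fin m) F)) := by
      have h3 := (LinearMap.isUnit_iff_isUnit_det _).2 (isUnit_iff_ne_zero.2
        (wHalf_det_ne ψ hψ h2 (1 : Matrix.symplecticGroup (Fin m) F) one_sq))
      exact h3.smul (Units.mk0 _ (div_ne_zero (wHalf_det_ne ψ hψ h2 (1 : Matrix.symplecticGroup (Fin m) F) neg_sq_one)
        (wHalf_det_ne ψ hψ h2 (1 : Matrix.symplecticGroup (Fin m) F) one_sq)))
    exact (hu.mul_left_cancel (by rw [mul_one]; exact h1.symm))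
  map_mul' := evenFun_mul ψ hψ h2

/-- The central involution acts by a sign on the even functions. -/
theorem evenWeil_neg :
    evenWeil ψ hψ h2 (lel (-1 : GL (Fin m) F)) =
      (-1 : ℂ) ^ Module.finrank ℂ (half (m := m) (F := F) (-1)) • 1 := by
  set z := lel (-1 : GL (Fin m) F)
  set d := Module.finrank ℂ (half (m := m) (F := F) (-1))
  have hI : Int' ψ z (par : Module.End ℂ ((Fin m → F) → ℂ)) := fun u => by
    rw [par_op, show SpDeg.act z u = -u from act_neg_one u]
  obtain ⟨c, hc⟩ := int_unique ψ hψ h2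
    (show (par : Module.End ℂ ((Fin m → F) → ℂ)) ≠ 0 from fun e => by
      have := congrArg (fun T => T * T) e
      rw [par_par, mul_zero] at this
      exact one_ne_zero this) hI (wOp_int ψ hψ h2 z)
  have hh : ∀ (s : ℂ) (hs : s * s = 1), wHalf ψ hψ h2 z hs = (c * s) • 1 := fun s hs =>
    LinearMap.ext fun f => Subtype.ext (by
      show wOp ψ hψ h2 z (f : (Fin m → F) → ℂ) = (c * s) • (f : (Fin m → F) → ℂ)
      rw [hc, LinearMap.smul_apply, (half_mem_iff hs).1 f.2, smul_smul])
  have hc0 : c ≠ 0 := fun e => wOp_ne ψ hψ h2 z (by rw [hc, e, zero_smul])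
  show evenFun ψ hψ h2 z = _
  rw [evenFun, wScal, hh _ neg_sq_one, hh _ one_sq, mul_one, mul_neg, mul_one, LinearMap.det_smul, LinearMap.det_smul,
    map_one, map_one, mul_one, mul_one, finrank_plus h2, smul_smul, neg_pow, pow_succ]
  congr 1
  field_simp
  rfl

include hψ h2 in
/-- It is not trivial. -/
theorem evenWeil_ne (hm : 1 ≤ m) : ∃ g, evenWeil ψ hψ h2 g ≠ (1 : Module.End ℂ (half (m := m) (F := F) 1)) := by
  classical
  let i : Fin m := ⟨0, by omega⟩
  let v₀ : Fin m ⊕ Fin m → F := Pi.single (Sum.inr i) 1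
  let g : Matrix.symplecticGroup (Fin m) F := sympTv v₀ (-1)
  refine ⟨g, fun hone => ?_⟩
  let D : Module.End ℂ ((Fin m → F) → ℂ) :=
    { toFun := fun f x => ψ (-(2⁻¹ * (x i * x i))) * f x
      map_add' := fun f g => by funext x; simp [mul_add]
      map_smul' := fun c f => by funext x; simp [mul_left_comm] }
  have hD : Int' ψ g D := by
    intro u
    refine LinearMap.ext fun f => funext fun x => ?_
    have hB : sympForm m F u v₀ = -u (Sum.inl i) := by rw [sympForm_single_inr, mul_one]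
    have ha : SpWeil.pa (SpDeg.act g u) = SpWeil.pa u := by
      funext l
      simp [SpWeil.pa, g, SpDeg.act_tv, v₀, hB]
    have hb : SpWeil.pb (SpDeg.act g u) = SpWeil.pb u + Pi.single i (u (Sum.inl i)) := by
      funext l
      simp [SpWeil.pb, g, SpDeg.act_tv, v₀, hB, Pi.single_apply]
    show ψ (-(2⁻¹ * (x i * x i))) * op ψ u f x = op ψ (SpDeg.act g u) (D f) x
    rw [op_apply, op_apply, ha, hb, ← mul_assoc, ← AddChar.map_add_eq_mul]
    show _ = _ * (ψ (-(2⁻¹ * ((x + SpWeil.pa u) i * (x + SpWeil.pa u) i))) * f (x + SpWeil.pa u))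
    rw [← mul_assoc (ψ _) (ψ _) (f _), ← AddChar.map_add_eq_mul, add_dotProduct, dotProduct_add, single_dotProduct,
      dotProduct_single]
    congr 2
    simp only [Pi.add_apply, SpWeil.pa]
    field_simp
    ring
  obtain ⟨c, hc⟩ := int_unique ψ hψ h2 (wOp_ne ψ hψ h2 g) (wOp_int ψ hψ h2 g) hD
  have hx : ∀ x : Fin m → F, wScal ψ hψ h2 g * ψ (-(2⁻¹ * (x i * x i))) = c := by
    intro x
    let f : (Fin m → F) → ℂ := fun y => (if y = x then 1 else 0) + (if y = -x then 1 else 0)
    have hf : f ∈ half (m := m) (F := F) 1 := by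
      rw [half_mem_iff one_sq]
      funext y
      show f (-y) = (1 : ℂ) * f y
      simp only [f, neg_eq_iff_eq_neg, neg_neg]
      ring
    have h1 := congrArg Subtype.val (LinearMap.congr_fun hone ⟨f, hf⟩)
    change wScal ψ hψ h2 g • wOp ψ hψ h2 g f = f at h1
    have h3 : wScal ψ hψ h2 g • D f = c • f := by rw [hc, LinearMap.smul_apply, smul_comm, h1]
    have h4 := congrFun h3 x
    change wScal ψ hψ h2 g * (ψ (-(2⁻¹ * (x i * x i))) * f x) = c * f x at h4
    have hfx : f x ≠ 0 := by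
      by_cases h : x = -x
      · simp [f, ← h]
      · simp [f, h]
    exact mul_right_cancel₀ hfx (by rw [← h4]; ring)
  have h0 := hx 0
  rw [Pi.zero_apply, mul_zero, mul_zero, neg_zero, AddChar.map_zero_eq_one, mul_one] at h0
  obtain ⟨t, ht⟩ := exists_sq_ne ψ hψ h2 (k := -(2⁻¹ : F)) (neg_ne_zero.2 (inv_ne_zero h2))
  have h1 := hx (Pi.single i t)
  rw [Pi.single_eq_same, ← h0] at h1
  have hk0 : wScal ψ hψ h2 g ≠ 0 :=
    div_ne_zero (wHalf_det_ne ψ hψ h2 g neg_sq_one) (wHalf_det_ne ψ hψ h2 g one_sq)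
  refine ht ?_
  rw [neg_mul]
  exact mul_left_cancel₀ hk0 (h1.trans (mul_one _).symm)

end Cfsg.Agent.Lie.SpRank
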