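import Cfsg.Agent.Lib.Lie.SpRankBasis
import Cfsg.Agent.Lib.Lie.SpRankBound
import Cfsg.Agent.Lib.Lie.SpRankEven

/-! The classification of the representations of `Sp_{2n}` of small degree. -/

set_option autoImplicit false
set_option linter.unusedSectionVars false

namespace Cfsg.Agent.Lie.SpRank

open Matrix Module Finset Cfsg.Agent.Classical
open Cfsg.Agent.Lie.SpDeg (act act_tv tv_conj exists_act_eq)
open Cfsg.Agent.Lie.SpWeil (par half half_mem_iff finrank_half)

universe u w w'

variable {F : Type u} [Field F] [Fintype F] [DecidableEq F] {n : ℕ}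
variable {E : Type w} [AddCommGroup E] [Module ℂ E] [FiniteDimensional ℂ E]
variable {ψ : AddChar F ℂ} {ρ : Representation ℂ (Matrix.symplecticGroup (Fin n) F) E}
variable (hψ : ψ ≠ 1) (h2 : ringChar F ≠ 2)

local notation "M" => Matrix (Fin n) (Fin n) F
local notation "U" => (Fin n → F)

include hψ h2 in
/-- A non-trivial representation has a non-trivial character on the radical. -/
theorem exists_class (hR : RankOne ψ ρ) (hn : 1 ≤ n) {g₀ : Matrix.symplecticGroup (Fin n) F} (hg₀ : ρ g₀ ≠ 1) :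
    ∃ (c : F) (v : E), c ≠ 0 ∧ v ≠ 0 ∧ EigV ψ ρ c (Pi.single ⟨0, by omega⟩ 1) v := by
  classical
  obtain ⟨A, u, hA, hu⟩ : ∃ (A : M) (u : E), A ≠ 0 ∧ pj ψ ρ A u ≠ 0 := by
    by_contra hcon
    push Not at hcon
    have hN : ∀ T, ρ (nel T) = 1 := fun T => LinearMap.ext fun u => by
      conv_lhs => rw [← sum_pj (ρ := ρ) hψ u]
      rw [map_sum, Module.End.one_apply]
      conv_rhs => rw [← sum_pj (ρ := ρ) hψ u]
      refine Finset.sum_congr rfl fun A _ => ?_
      rcases eq_or_ne A 0 with rfl | hA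
      · rw [pj_eig (0 : M) u T, tp_comm, tp_zero, AddChar.map_zero_eq_one, one_smul]
      · rw [hcon A u hA, map_zero]
    refine hg₀ ?_
    let i : Fin n := ⟨0, by omega⟩
    let e : Fin n ⊕ Fin n → F := Pi.single (Sum.inl i) 1
    have h2' : (2 : F) ≠ 0 := Ring.two_ne_zero h2
    have he : ∀ c, sympTv e c = nel (Matrix.single i i (c / 2)) := fun c => SpDeg.sp_ext fun y => by
      have hB : sympForm n F y e = pb y i := by rw [sympForm_single_inl, mul_one]; rfl
      apply pair_ext
      · rw [nel_single, act_tv, hB]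
        funext j
        simp only [pa, Pi.add_apply, Pi.smul_apply, smul_eq_mul, e, Pi.single_apply, Sum.inl.injEq]
        split_ifs <;> subst_vars <;> (try field_simp) <;> ring
      · rw [pb_nel, act_tv]
        funext j
        simp [pb, e]
    have he0 : e ≠ 0 := fun h => one_ne_zero (α := F) (by simpa [e] using congrFun h (Sum.inl i))
    have hle : Subgroup.closure (sympTvSet n F) ≤ MonoidHom.ker ρ := by
      refine (Subgroup.closure_le _).2 ?_
      rintro A ⟨v, c, hA⟩
      rw [show A = sympTv v c from Subtype.ext hA, SetLike.mem_coe, MonoidHom.mem_ker]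
      rcases eq_or_ne v 0 with rfl | hv
      · rw [show sympTv (0 : Fin n ⊕ Fin n → F) c = 1 from
          SpDeg.sp_ext fun y => by simp [act_tv, SpDeg.act_one], map_one]
      obtain ⟨g, rfl⟩ := exists_act_eq he0 hv
      rw [← tv_conj, map_mul, map_mul, he, hN, mul_one, ← map_mul, mul_inv_cancel, map_one]
    rw [closure_sympTvSet] at hle
    exact MonoidHom.mem_ker.1 (hle (Subgroup.mem_top g₀))
  obtain ⟨d, y, rfl⟩ := hR _ _ (pj_eig A u) hu
  obtain ⟨hd, hy⟩ : d ≠ 0 ∧ y ≠ 0 := ⟨fun e => hA (by rw [e, zero_smul]), fun e => hA (by rw [e]; simp)⟩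
  obtain ⟨g, hg⟩ := exists_gl_col hy (⟨0, by omega⟩ : Fin n)
  refine ⟨d, ρ (lel g⁻¹) (pj ψ ρ (d • vecMulVec y y) u), hd, fun e => hu (rho_inj (lel g⁻¹) (by rw [e, map_zero])), ?_⟩
  have h := EigV.map_lel (ψ := ψ) (ρ := ρ) (c := d) (x := y) (pj_eig _ u) g⁻¹
  rwa [← hg, MaxTv.inv_mulVec_cancel, hg] at h

variable {c : F} {δ : (Fin n → F) → E}

/-- The map from functions. -/
noncomputable def theta (δ : (Fin n → F) → E) : ((Fin n → F) → ℂ) →ₗ[ℂ] E where
  toFun f := ∑ x, f x • δ x
  map_add' f g := by simp [add_smul, Finset.sum_add_distrib]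
  map_smul' a f := by simp [mul_smul, Finset.smul_sum]

theorem theta_apply (f : (Fin n → F) → ℂ) : theta δ f = ∑ x, f x • δ x := rfl

theorem theta_single (x : U) : theta δ (Pi.single x 1) = δ x := by
  classical
  rw [theta_apply, Finset.sum_eq_single x] <;> simp +contextual

include h2 in
theorem range_invariant (hM : Mdl ψ ρ c δ) (g : Matrix.symplecticGroup (Fin n) F) :
    ∀ v ∈ LinearMap.range (theta δ), ρ g v ∈ LinearMap.range (theta δ) := by
  classical
  have hmem : ∀ x, δ x ∈ LinearMap.range (theta δ) := fun x => ⟨_, theta_single x⟩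
  have hg : g ∈ Subgroup.closure (gens F n) := by rw [closure_gens (Ring.two_ne_zero h2)]; trivial
  induction hg using Subgroup.closure_induction_left with
  | one => intro v hv; rwa [map_one]
  | mul_left x hx y _ ih =>
    intro v hv
    rw [rho_mul]
    obtain ⟨f, hf⟩ := ih v hv
    rw [← hf, theta_apply, map_sum]
    refine Submodule.sum_mem _ fun z _ => ?_
    rw [map_smul]
    refine Submodule.smul_mem _ _ ?_
    rcases hx with (⟨T, rfl⟩ | ⟨h, rfl⟩) | ⟨j, rfl⟩
    · rw [(hM.eig z).apply]; exact Submodule.smul_mem _ _ (hmem z)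
    · rw [hM.levi]; exact Submodule.smul_mem _ _ (hmem _)
    · rw [hM.weyl]
      exact Submodule.smul_mem _ _ (Submodule.sum_mem _ fun r _ => Submodule.smul_mem _ _ (hmem _))
  | inv_mul_cancel x hx y _ ih =>
    intro v hv
    rw [rho_mul]
    obtain ⟨f, hf⟩ := ih v hv
    rw [← hf, theta_apply, map_sum]
    refine Submodule.sum_mem _ fun z _ => ?_
    rw [map_smul]
    refine Submodule.smul_mem _ _ ?_
    rcases hx with (⟨T, rfl⟩ | ⟨h, rfl⟩) | ⟨j, rfl⟩
    · have h1 : (nel T)⁻¹ = nel (-T) := inv_eq_of_mul_eq_one_left (by rw [← nel_add, neg_add_cancel, nel_zero])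
      rw [h1, (hM.eig z).apply]; exact Submodule.smul_mem _ _ (hmem z)
    · have h1 : (lel h)⁻¹ = lel h⁻¹ := inv_eq_of_mul_eq_one_left (by rw [← lel_mul, inv_mul_cancel, lel_one])
      rw [h1, hM.levi]; exact Submodule.smul_mem _ _ (hmem _)
    · have h1 : (wel j)⁻¹ = lel (dg j (-1)) * wel (F := F) (n := n) j := inv_eq_of_mul_eq_one_left (by
        rw [mul_assoc, wel_sq, ← lel_mul, ← dg_mul, show (-1 : Fˣ) * -1 = 1 by simp, dg_one, lel_one])
      rw [h1, rho_mul, hM.weyl, map_smul, map_sum]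
      refine Submodule.smul_mem _ _ (Submodule.sum_mem _ fun r _ => ?_)
      rw [map_smul, hM.levi]
      exact Submodule.smul_mem _ _ (Submodule.smul_mem _ _ (hmem _))

theorem neg_one_det : ((-1 : GL (Fin n) F) : M).det = (-1) ^ n := by
  rw [Units.val_neg, Units.val_one, Matrix.det_neg, det_one, mul_one, Fintype.card_fin]

/-- The parity of the vectors. -/
def Parity (δ : (Fin n → F) → E) (ε : ℂ) : Prop := ∀ x, δ (-x) = ε • δ x

theorem parity_of_scalar (hM : Mdl ψ ρ c δ) {s : ℂ} (hs : ρ (lel (-1 : GL (Fin n) F)) = s • 1) :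
    Parity δ (qc ((-1 : F) ^ n) * s) := by
  intro x
  have h := hM.levi (-1) x
  rw [hs, LinearMap.smul_apply, Module.End.one_apply, neg_one_det, Units.val_neg, Units.val_one, neg_mulVec,
    one_mulVec] at h
  rw [mul_smul, h, smul_smul, qc_mul_self (pow_ne_zero _ (neg_ne_zero.2 one_ne_zero)), one_smul]

theorem scalar_of_irreducible [ρ.IsIrreducible] :
    ∃ s : ℂ, s * s = 1 ∧ ρ (lel (-1 : GL (Fin n) F)) = s • 1 := by
  set z := lel (-1 : GL (Fin n) F)
  have hzz : z * z = 1 := by rw [← lel_mul, neg_mul_neg, mul_one, lel_one]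
  let W : Subrepresentation ρ :=
    { toSubmodule := LinearMap.ker (ρ z - 1)
      apply_mem_toSubmodule := fun g v hv => by
        rw [LinearMap.mem_ker, LinearMap.sub_apply, Module.End.one_apply, sub_eq_zero] at hv ⊢
        rw [← rho_mul, ← neg_one_comm, rho_mul, hv] }
  rcases IsSimpleOrder.eq_bot_or_eq_top W with hW | hW
  · refine ⟨-1, by norm_num, LinearMap.ext fun v => ?_⟩
    have h : ρ z v + v ∈ LinearMap.ker (ρ z - 1) := by
      rw [LinearMap.mem_ker, LinearMap.sub_apply, Module.End.one_apply, map_add, ← rho_mul, hzz, map_one,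
        Module.End.one_apply]
      abel
    rw [show LinearMap.ker (ρ z - 1) = ⊥ from congrArg Subrepresentation.toSubmodule hW, Submodule.mem_bot] at h
    rw [LinearMap.smul_apply, Module.End.one_apply, neg_one_smul]
    exact eq_neg_of_add_eq_zero_left h
  · refine ⟨1, one_mul 1, LinearMap.ext fun v => ?_⟩
    have h : v ∈ LinearMap.ker (ρ z - 1) := by
      rw [show LinearMap.ker (ρ z - 1) = ⊤ from congrArg Subrepresentation.toSubmodule hW]; trivial
    rw [LinearMap.mem_ker, LinearMap.sub_apply, sub_eq_zero] at h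
    rw [h, one_smul]

variable {ε : ℂ}

theorem theta_par (hP : Parity δ ε) (f : (Fin n → F) → ℂ) : theta δ (par f) = ε • theta δ f := by
  rw [theta_apply, theta_apply, Finset.smul_sum]
  refine Fintype.sum_equiv (Equiv.neg _) _ _ fun x => ?_
  show f (-x) • δ x = ε • f (-x) • δ (-x)
  have h := hP (-x)
  rw [neg_neg] at h
  rw [h, smul_comm]

/-- The part of the right parity. -/
noncomputable def proj (ε : ℂ) (f : (Fin n → F) → ℂ) : half (m := n) (F := F) ε :=
  ⟨((2 : ℂ)⁻¹ • (1 + ε • (par : Module.End ℂ ((Fin n → F) → ℂ)))) f, LinearMap.mem_range_self _ f⟩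

theorem theta_proj (hε : ε * ε = 1) (hP : Parity δ ε) (f : (Fin n → F) → ℂ) :
    theta δ (proj ε f : (Fin n → F) → ℂ) = theta δ f := by
  rw [proj]
  simp only [LinearMap.smul_apply, LinearMap.add_apply, Module.End.one_apply, map_smul, map_add, theta_par hP,
    smul_smul, hε, one_smul, ← two_smul ℂ (theta δ f)]
  norm_num

include hψ h2 in
theorem fixed_ne (hM : Mdl ψ ρ c δ) (hc : c ≠ 0) (hn : 1 ≤ n) (hP : Parity δ 1) (hg : gam ψ c ≠ 0) : δ 0 ≠ 0 := by
  classical
  intro h0
  let i : Fin n := ⟨0, by omega⟩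
  set e : U := Pi.single i 1
  have he : e ≠ 0 := fun h => one_ne_zero (α := F) (by simpa [e] using congrFun h i)
  have h := hM.weyl i 0
  rw [h0, map_zero] at h
  have h1 := congrArg (pj ψ ρ (c • vecMulVec e e)) h.symm
  rw [map_smul, map_zero, map_sum] at h1
  have hu : ∀ r, Function.update (0 : U) i r = Pi.single i r := fun r => rfl
  simp only [hu, Pi.zero_apply, mul_zero, zero_mul, AddChar.map_zero_eq_one, one_smul, pj_mdl hψ hM.eig] at h1
  rw [Finset.sum_eq_add_of_mem (1 : F) (-1) (Finset.mem_univ _) (Finset.mem_univ _)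
    (Ne.symm (Ring.neg_one_ne_one_of_char_ne_two h2)), if_pos rfl,
    if_pos (by rw [Pi.single_neg, neg_vecMulVec, vecMulVec_neg, neg_neg]), Pi.single_neg, hP, one_smul,
    ← two_smul ℂ, smul_smul] at h1
  · exact hM.ne e he ((smul_eq_zero.1 h1).resolve_left (mul_ne_zero hg two_ne_zero))
  · intro r _ hr
    rw [if_neg]
    intro h
    rcases vmv_inj hc h with h' | h'
    · exact hr.1 (by simpa [e] using congrFun h' i)
    · exact hr.2 (by simpa [e] using congrFun h' i)

include hψ h2 in
/-- On functions of the right parity the map is injective. -/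
theorem theta_inj (hM : Mdl ψ ρ c δ) (hc : c ≠ 0) (hn : 1 ≤ n) (hε : ε = 1 ∨ ε = -1) (hP : Parity δ ε)
    (hg : gam ψ c ≠ 0) {f : (Fin n → F) → ℂ} (hf : f ∈ half (m := n) (F := F) ε) (h : theta δ f = 0) : f = 0 := by
  classical
  have hεε : ε * ε = 1 := by rcases hε with rfl | rfl <;> norm_num
  have hsym : ∀ x, f (-x) = ε * f x := fun x => congrFun ((half_mem_iff hεε).1 hf) x
  have h0 : ∀ x, x ≠ 0 → f x = 0 := by
    intro x hx
    have h1 := congrArg (pj ψ ρ (c • vecMulVec x x)) h
    rw [theta_apply, map_sum, map_zero] at h1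
    simp only [map_smul, pj_mdl hψ hM.eig] at h1
    have hne : x ≠ -x := fun e => hx (funext fun i => by
      have hi := congrFun e i
      rw [Pi.neg_apply] at hi
      exact (mul_eq_zero.1 (show (2 : F) * x i = 0 by linear_combination hi)).resolve_left (Ring.two_ne_zero h2))
    rw [Finset.sum_eq_add_of_mem x (-x) (Finset.mem_univ _) (Finset.mem_univ _) hne, if_pos rfl,
      if_pos (by rw [neg_vecMulVec, vecMulVec_neg, neg_neg]), hP, hsym, smul_smul, mul_right_comm, hεε, one_mul,
      ← add_smul] at h1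
    · have h3 := (smul_eq_zero.1 h1).resolve_right (hM.ne x hx)
      linear_combination h3 / 2
    · intro y _ hy
      rw [if_neg, smul_zero]
      intro h
      rcases vmv_inj hc h with h' | h'
      · exact hy.1 h'
      · exact hy.2 h'
  funext x
  rcases eq_or_ne x 0 with rfl | hx
  · rcases hε with rfl | rfl
    · rw [theta_apply, Finset.sum_eq_single (0 : U)] at h
      · exact (smul_eq_zero.1 h).resolve_right (fixed_ne hψ h2 hM hc hn hP hg)
      · intro y _ hy; rw [h0 y hy, zero_smul]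
      · simp
    · have h1 := hsym 0
      rw [neg_zero] at h1
      show f 0 = 0
      linear_combination h1 / 2
  · exact h0 x hx

/-- The data of a model. -/
structure Full (ψ : AddChar F ℂ) (ρ : Representation ℂ (Matrix.symplecticGroup (Fin n) F) E) (c : F) (ε : ℂ)
    (δ : (Fin n → F) → E) : Prop where
  mdl : Mdl ψ ρ c δ
  c_ne : c ≠ 0
  gam_ne : gam ψ c ≠ 0
  sign : ε = 1 ∨ ε = -1
  parity : Parity δ ε
  onto : LinearMap.range (theta δ) = ⊤

theorem Full.sq {ε : ℂ} (hF : Full ψ ρ c ε δ) : ε * ε = 1 := by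
  rcases hF.sign with rfl | rfl <;> norm_num

include hψ h2 in
theorem Full.bij (hn : 1 ≤ n) (hF : Full ψ ρ c ε δ) :
    Function.Bijective ((theta δ).domRestrict (half (m := n) (F := F) ε)) := by
  refine ⟨(injective_iff_map_eq_zero _).2 fun f hf => Subtype.ext
    (theta_inj hψ h2 hF.mdl hF.c_ne hn hF.sign hF.parity hF.gam_ne f.2 hf), fun v => ?_⟩
  obtain ⟨f, rfl⟩ : v ∈ LinearMap.range (theta δ) := by rw [hF.onto]; trivial
  exact ⟨proj ε f, theta_proj hF.sq hF.parity f⟩

include hψ h2 in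
theorem Full.finrank_eq (hn : 1 ≤ n) (hF : Full ψ ρ c ε δ) :
    (2 : ℂ) * (finrank ℂ E : ℂ) = (Fintype.card F : ℂ) ^ n + ε := by
  rw [← (LinearEquiv.ofBijective _ (hF.bij hψ h2 hn)).finrank_eq]
  exact finrank_half (Ring.two_ne_zero h2) hF.sq

include hψ h2 in
theorem exists_full_irreducible (hn : 2 ≤ n) [ρ.IsIrreducible] (hR : RankOne ψ ρ)
    {g₀ : Matrix.symplecticGroup (Fin n) F} (hg₀ : ρ g₀ ≠ 1) :
    ∃ (c : F) (ε : ℂ) (δ : U → E), Full ψ ρ c ε δ := by
  classical
  obtain ⟨c, v, hc, hv, hE⟩ := exists_class hψ h2 hR (by omega) hg₀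
  obtain ⟨δ, hM⟩ := exists_mdl hψ h2 hR hn hc hv hE
  obtain ⟨s, hs, hz⟩ := scalar_of_irreducible (ρ := ρ)
  obtain ⟨hg, -⟩ := (wel_axis hψ h2 hR hc (j := ⟨1, by omega⟩) (k := ⟨0, by omega⟩) (by simp [Fin.ext_iff]) hE).2.2 hv
  refine ⟨c, _, δ, hM, hc, hg, ?_, parity_of_scalar hM hz, ?_⟩
  · refine mul_self_eq_one_iff.1 ?_
    rw [mul_mul_mul_comm, hs, qc_mul_self (pow_ne_zero _ (neg_ne_zero.2 one_ne_zero)), one_mul]
  · let W : Subrepresentation ρ :=
      { toSubmodule := LinearMap.range (theta δ)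
        apply_mem_toSubmodule := fun g v hv => range_invariant h2 hM g v hv }
    rcases IsSimpleOrder.eq_bot_or_eq_top W with hW | hW
    · exfalso
      have h : δ (Pi.single ⟨0, by omega⟩ 1) ∈ LinearMap.range (theta δ) := ⟨_, theta_single _⟩
      rw [show LinearMap.range (theta δ) = ⊥ from congrArg Subrepresentation.toSubmodule hW, Submodule.mem_bot] at h
      exact hM.ne _ (fun e => one_ne_zero (α := F) (by simpa using congrFun e (⟨0, by omega⟩ : Fin n))) h
    · exact congrArg Subrepresentation.toSubmodule hW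

include hψ h2 in
/-- A model is irreducible. -/
theorem Full.irreducible (hn : 1 ≤ n) (hF : Full ψ ρ c ε δ) : ρ.IsIrreducible := by
  classical
  have hM := hF.mdl
  let i : Fin n := ⟨0, by omega⟩
  have hi : ∀ r : F, r ≠ 0 → (Pi.single i r : U) ≠ 0 := fun r hr e => hr (by simpa using congrFun e i)
  haveI : Nontrivial (Subrepresentation ρ) := by
    refine ⟨⊥, ⊤, fun h => hM.ne _ (hi 1 one_ne_zero) ?_⟩
    have h1 := (congrArg Subrepresentation.toSubmodule h).ge (Submodule.mem_top (x := δ (Pi.single i 1)))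
    exact (Submodule.mem_bot ℂ).1 h1
  refine (⟨fun W => ?_⟩ : IsSimpleOrder (Subrepresentation ρ))
  by_contra hW
  push Not at hW
  obtain ⟨hbot, htop⟩ := hW
  obtain ⟨w, hwW, hw0⟩ := Submodule.exists_mem_ne_zero_of_ne_bot
    (fun h : W.toSubmodule = ⊥ => hbot (Subrepresentation.toSubmodule_injective h))
  have hpj : ∀ A, ∀ v ∈ W.toSubmodule, pj ψ ρ A v ∈ W.toSubmodule := fun A v hv => by
    simp only [pj, LinearMap.smul_apply, LinearMap.sum_apply]
    exact Submodule.smul_mem _ _ (Submodule.sum_mem _ fun T _ => Submodule.smul_mem _ _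
      (W.apply_mem_toSubmodule _ hv))
  -- one non-zero point suffices
  have hall : ∀ x, x ≠ 0 → δ x ∈ W.toSubmodule → False := by
    intro x hx hxW
    refine htop (Subrepresentation.toSubmodule_injective (eq_top_iff.2 ?_))
    rw [← hF.onto]
    have hne : ∀ y, y ≠ 0 → δ y ∈ W.toSubmodule := by
      intro y hy
      obtain ⟨g₁, hg₁⟩ := exists_gl_col hx i
      obtain ⟨g₂, hg₂⟩ := exists_gl_col hy i
      have h := W.apply_mem_toSubmodule (lel (g₂ * g₁⁻¹)) hxW
      rw [hM.levi, Units.val_mul, ← mulVec_mulVec, ← hg₁, MaxTv.inv_mulVec_cancel, hg₂] at h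
      exact (Submodule.smul_mem_iff _ (qc_ne (by rw [← Units.val_mul]; exact gl_det_ne _))).1 h
    rintro v ⟨f, rfl⟩
    rw [theta_apply]
    refine Submodule.sum_mem _ fun y _ => Submodule.smul_mem _ _ ?_
    rcases eq_or_ne y 0 with rfl | hy
    · have h := W.apply_mem_toSubmodule (wel i) (hne _ (hi 1 one_ne_zero))
      rw [hM.weyl, Submodule.smul_mem_iff _ hF.gam_ne, ← Finset.add_sum_erase _ _ (Finset.mem_univ (0 : F))] at h
      have hrest : ∑ r ∈ Finset.univ.erase (0 : F), ψ (c * (Pi.single i (1 : F) : U) i * r) •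
          δ (Function.update (Pi.single i (1 : F) : U) i r) ∈ W.toSubmodule :=
        Submodule.sum_mem _ fun r hr => Submodule.smul_mem _ _ (hne _ fun e =>
          Finset.ne_of_mem_erase hr (by simpa using congrFun e i))
      have h' := (Submodule.add_mem_iff_left _ hrest).1 h
      rw [mul_zero, AddChar.map_zero_eq_one, one_smul, show Function.update (Pi.single i (1 : F) : U) i 0 = 0 by
        funext p; by_cases hp : p = i <;> simp [hp]] at h'
      exact h'
    · exact hne y hy
  -- some component is a non-zero point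
  obtain ⟨f, hfw⟩ : w ∈ LinearMap.range (theta δ) := by rw [hF.onto]; trivial
  have hf0 := theta_proj hF.sq hF.parity f
  set f' : (Fin n → F) → ℂ := (proj ε f : (Fin n → F) → ℂ)
  rw [hfw] at hf0
  by_cases hx : ∃ x, x ≠ 0 ∧ f' x ≠ 0
  · obtain ⟨x, hx, hfx⟩ := hx
    refine hall x hx ?_
    have h := hpj (c • vecMulVec x x) w hwW
    rw [← hf0, theta_apply, map_sum] at h
    simp only [map_smul, pj_mdl hψ hM.eig] at h
    have hne : x ≠ -x := fun e => hx (funext fun j => by
      have hj := congrFun e j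
      rw [Pi.neg_apply] at hj
      exact (mul_eq_zero.1 (show (2 : F) * x j = 0 by linear_combination hj)).resolve_left (Ring.two_ne_zero h2))
    rw [Finset.sum_eq_add_of_mem x (-x) (Finset.mem_univ _) (Finset.mem_univ _) hne, if_pos rfl,
      if_pos (by rw [neg_vecMulVec, vecMulVec_neg, neg_neg]), hF.parity,
      show f' (-x) = ε * f' x from congrFun ((half_mem_iff hF.sq).1 (proj ε f).2) x, smul_smul, mul_right_comm,
      hF.sq, one_mul, ← add_smul, ← two_mul] at h
    · exact (Submodule.smul_mem_iff _ (mul_ne_zero two_ne_zero hfx)).1 h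
    · intro y _ hy
      rw [if_neg, smul_zero]
      intro h
      rcases vmv_inj hF.c_ne h with h' | h'
      · exact hy.1 h'
      · exact hy.2 h'
  · push Not at hx
    rw [theta_apply, Finset.sum_eq_single (0 : U) (fun y _ hy => by rw [hx y hy, zero_smul]) (by simp)] at hf0
    have hf00 : f' 0 ≠ 0 := fun e => hw0 (by rw [← hf0, e, zero_smul])
    have hd : δ 0 ∈ W.toSubmodule := (Submodule.smul_mem_iff _ hf00).1 (hf0 ▸ hwW)
    have hd0 : δ 0 ≠ 0 := fun e => hw0 (by rw [← hf0, e, smul_zero])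
    have hP1 : Parity δ 1 := by
      have h := hF.parity 0
      rw [neg_zero] at h
      have hε1 : ε = 1 := smul_left_injective ℂ hd0 (show ε • δ 0 = (1 : ℂ) • δ 0 by rw [one_smul]; exact h.symm)
      exact hε1 ▸ hF.parity
    have h := hpj (c • vecMulVec (Pi.single i 1) (Pi.single i 1)) _ (W.apply_mem_toSubmodule (wel i) hd)
    rw [hM.weyl, map_smul, map_sum, Submodule.smul_mem_iff _ hF.gam_ne] at h
    have hu : ∀ r, Function.update (0 : U) i r = Pi.single i r := fun r => rfl
    simp only [hu, Pi.zero_apply, mul_zero, zero_mul, AddChar.map_zero_eq_one, one_smul, pj_mdl hψ hM.eig] at h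
    rw [Finset.sum_eq_add_of_mem (1 : F) (-1) (Finset.mem_univ _) (Finset.mem_univ _)
      (Ne.symm (Ring.neg_one_ne_one_of_char_ne_two h2)), if_pos rfl,
      if_pos (by rw [Pi.single_neg, neg_vecMulVec, vecMulVec_neg, neg_neg]), Pi.single_neg, hP1, one_smul,
      ← two_smul ℂ, Submodule.smul_mem_iff _ two_ne_zero] at h
    · exact hall _ (hi 1 one_ne_zero) h
    · intro r _ hr
      rw [if_neg]
      intro h
      rcases vmv_inj hF.c_ne h with h' | h'
      · exact hr.1 (by simpa using congrFun h' i)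
      · exact hr.2 (by simpa using congrFun h' i)

include hψ in
/-- The class is determined. -/
theorem Full.class_unique (hF : Full ψ ρ c ε δ) {c' : F} {x : U} {v : E} (hv : v ≠ 0) (hc' : c' ≠ 0) (hx : x ≠ 0)
    (hE : EigV ψ ρ c' x v) : ∃ s : F, s ≠ 0 ∧ c' = c * (s * s) := by
  classical
  obtain ⟨f, hfv⟩ : v ∈ LinearMap.range (theta δ) := by rw [hF.onto]; trivial
  by_contra hcon
  push Not at hcon
  obtain ⟨i, hi⟩ := Function.ne_iff.1 hx
  apply hv
  rw [← if_pos (t := v) (e := 0) (rfl : c' • vecMulVec x x = c' • vecMulVec x x), ← pj_of_eig hψ hE, ← hfv,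
    theta_apply, map_sum]
  refine Finset.sum_eq_zero fun y _ => ?_
  rw [map_smul, pj_mdl hψ hF.mdl.eig, if_neg, smul_zero]
  intro h
  have h1 := congrFun (congrFun h i) i
  simp only [Matrix.smul_apply, vecMulVec_apply, smul_eq_mul] at h1
  have hi0 : x i ≠ 0 := hi
  have hy : y i ≠ 0 := fun e => mul_ne_zero hc' (mul_ne_zero hi0 hi0) (by rw [h1, e, mul_zero, mul_zero])
  refine hcon (y i / x i) (div_ne_zero hy hi0) ?_
  field_simp
  linear_combination h1

include h2 in
/-- Changing the representative of the class. -/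
theorem Full.rescale (hψ : ψ ≠ 1) (hF : Full ψ ρ c ε δ) {s : F} (hs : s ≠ 0) :
    Full ψ ρ (c * (s * s)) ε (fun x => δ (s • x)) := by
  classical
  have hg := gam_sq_mul hψ h2 hF.c_ne hs
  refine ⟨⟨fun x => ?_, fun g x => ?_, fun j x => ?_, fun x hx => hF.mdl.ne _ (smul_ne_zero hs hx)⟩,
    mul_ne_zero hF.c_ne (mul_ne_zero hs hs), hg ▸ hF.gam_ne, hF.sign, fun x => by
      show δ (s • -x) = _
      rw [smul_neg, hF.parity], ?_⟩
  · have h := hF.mdl.eig (s • x)
    rw [EigV] at h ⊢
    rwa [smul_vecMulVec, vecMulVec_smul, smul_smul, smul_smul, mul_assoc] at h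
  · show _ = _ • δ (s • ((g : M) *ᵥ x))
    rw [← mulVec_smul]
    exact hF.mdl.levi g _
  · rw [hF.mdl.weyl, hg]
    congr 1
    refine Fintype.sum_equiv (Equiv.mulRight₀ s⁻¹ (inv_ne_zero hs)) _ _ fun r => ?_
    show _ = ψ (c * (s * s) * x j * (r * s⁻¹)) • δ (s • Function.update x j (r * s⁻¹))
    congr 2
    · simp only [Pi.smul_apply, smul_eq_mul]
      field_simp
    · funext p
      by_cases hp : p = j
      · subst hp; simp; field_simp
      · simp [hp]
  · rw [eq_top_iff, ← hF.onto]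
    rintro v ⟨f, rfl⟩
    refine ⟨fun x => f (s • x), ?_⟩
    rw [theta_apply, theta_apply]
    exact Fintype.sum_equiv (Equiv.smulRight hs) _ _ fun x => rfl

variable {E' : Type w'} [AddCommGroup E'] [Module ℂ E'] [FiniteDimensional ℂ E']
variable {ρ' : Representation ℂ (Matrix.symplecticGroup (Fin n) F) E'} {δ' : (Fin n → F) → E'}

include hψ h2 in
/-- A model determines the character. -/
theorem Full.char_eq (hn : 1 ≤ n) (hF : Full ψ ρ c ε δ) (hF' : Full ψ ρ' c ε δ') :
    ρ.character = ρ'.character := by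
  classical
  let e₁ := LinearEquiv.ofBijective _ (hF.bij hψ h2 hn)
  let e₂ := LinearEquiv.ofBijective _ (hF'.bij hψ h2 hn)
  let e : E ≃ₗ[ℂ] E' := e₁.symm.trans e₂
  have he : ∀ x, e (δ x) = δ' x := fun x => by
    have h1 : e₁ (proj ε (Pi.single x 1)) = δ x := by
      show theta δ (proj ε (Pi.single x 1) : (Fin n → F) → ℂ) = _
      rw [theta_proj hF.sq hF.parity, theta_single]
    show e₂ (e₁.symm (δ x)) = _
    rw [← h1, e₁.symm_apply_apply]
    show theta δ' (proj ε (Pi.single x 1) : (Fin n → F) → ℂ) = _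
    rw [theta_proj hF'.sq hF'.parity, theta_single]
  have hspan : ∀ {T T' : E →ₗ[ℂ] E'}, (∀ x, T (δ x) = T' (δ x)) → T = T' := fun {T T'} h => by
    refine LinearMap.ext fun v => ?_
    obtain ⟨f, rfl⟩ : v ∈ LinearMap.range (theta δ) := by rw [hF.onto]; trivial
    simp [theta_apply, h]
  have hgen : ∀ g, ∀ v, e (ρ g v) = ρ' g (e v) := by
    intro g
    have hg : g ∈ Subgroup.closure (gens F n) := by rw [closure_gens (Ring.two_ne_zero h2)]; trivial
    induction hg using Subgroup.closure_induction with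
    | mem g hg =>
      intro v
      refine LinearMap.congr_fun (hspan (T := e.toLinearMap.comp (ρ g)) (T' := (ρ' g).comp e.toLinearMap) fun x => ?_) v
      show e (ρ g (δ x)) = ρ' g (e (δ x))
      rw [he]
      rcases hg with (⟨T, rfl⟩ | ⟨h, rfl⟩) | ⟨j, rfl⟩
      · rw [(hF.mdl.eig x).apply, (hF'.mdl.eig x).apply, map_smul, he]
      · rw [hF.mdl.levi, hF'.mdl.levi, map_smul, he]
      · rw [hF.mdl.weyl, hF'.mdl.weyl, map_smul, map_sum]
        simp [he]
    | one => intro v; simp
    | mul a b _ _ ha hb => intro v; rw [rho_mul, rho_mul, ha, hb]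
    | inv a _ ha =>
      intro v
      apply rho_inj (ρ := ρ') a
      rw [← ha, ← rho_mul, ← rho_mul, mul_inv_cancel, map_one, map_one]
      rfl
  funext g
  show LinearMap.trace ℂ E (ρ g) = LinearMap.trace ℂ E' (ρ' g)
  rw [← LinearMap.trace_conj' (ρ g) e]
  congr 1
  refine LinearMap.ext fun v => ?_
  rw [LinearEquiv.conj_apply_apply, hgen, e.apply_symm_apply]

include hψ in
/-- Whether a matrix occurs can be read off from the character. -/
theorem pj_ne_of_char (h : ρ.character = ρ'.character) (A : M) {v : E} (hv : v ≠ 0) (hE : Eig ψ ρ A v) :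
    ∃ v' : E', v' ≠ 0 ∧ Eig ψ ρ' A v' := by
  classical
  by_contra hcon
  push Not at hcon
  have h0 : pj ψ ρ' A = 0 := LinearMap.ext fun v' => by
    by_contra hne
    exact hcon _ hne (pj_eig A v')
  have hid : IsIdempotentElem (pj ψ ρ A) := LinearMap.ext fun u => by
    rw [Module.End.mul_apply, pj_of_eig hψ (pj_eig A u), if_pos rfl]
  have htr : LinearMap.trace ℂ E (pj ψ ρ A) = LinearMap.trace ℂ E' (pj ψ ρ' A) := by
    rw [pj, pj, map_smul, map_smul, map_sum, map_sum]
    congr 1
    exact Finset.sum_congr rfl fun T _ => by rw [map_smul, map_smul]; exact congrArg _ (congrFun h (nel T))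
  rw [h0, map_zero] at htr
  obtain ⟨r, hr, -, hr0⟩ := Char.idem_trace_nat hid
  rw [hr] at htr
  have := LinearMap.congr_fun (hr0 (by exact_mod_cast htr)) v
  rw [pj_of_eig hψ hE, if_pos rfl] at this
  exact hv this

end Cfsg.Agent.Lie.SpRank
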