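import Cfsg.Agent.Lib.Lie.SpRankMain
import Cfsg.Agent.Lib.Char.Det

/-! The count of the irreducible characters of small degree. -/

set_option autoImplicit false
set_option linter.unusedSectionVars false

namespace Cfsg.Agent.Lie.SpRank

open Matrix Module Finset Cfsg.Agent.Classical
open Cfsg.Agent.Lie.SpDeg (act act_mul act_one sp_ext act_form)
open Cfsg.Agent.Lie.SpWeil (half half_mem_iff finrank_half)

universe u

variable {F : Type u} [Field F] [Fintype F] [DecidableEq F] {n : ℕ}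

/-- Scaling of the first half of the coordinates. -/
def scMap (ν : F) : (Fin n ⊕ Fin n → F) →ₗ[F] (Fin n ⊕ Fin n → F) where
  toFun v := Sum.elim (ν • pa v) (pb v)
  map_add' v w := by
    apply pair_ext <;> funext i <;> simp [pa, pb, mul_add]
  map_smul' c v := by
    apply pair_ext <;> funext i <;> simp [pa, pb, mul_left_comm]

theorem pa_sc (ν : F) (v : Fin n ⊕ Fin n → F) : pa (scMap ν v) = ν • pa v := rfl

theorem pb_sc (ν : F) (v : Fin n ⊕ Fin n → F) : pb (scMap ν v) = pb v := rfl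

theorem sc_sc (ν μ : F) (v : Fin n ⊕ Fin n → F) : scMap ν (scMap μ v) = scMap (ν * μ) v :=
  pair_ext (by rw [pa_sc, pa_sc, pa_sc, smul_smul]) rfl

theorem sc_one (v : Fin n ⊕ Fin n → F) : scMap (1 : F) v = v := pair_ext (by rw [pa_sc, one_smul]) rfl

theorem form_sc (ν : F) (v w : Fin n ⊕ Fin n → F) :
    sympForm n F (scMap ν v) (scMap ν w) = ν * sympForm n F v w := by
  rw [form_eq, form_eq, pa_sc, pa_sc, pb_sc, pb_sc, dotProduct_smul, smul_dotProduct, smul_eq_mul, smul_eq_mul]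
  ring

/-- The image under the diagonal automorphism. -/
noncomputable def twFun (ν : Fˣ) (g : Matrix.symplecticGroup (Fin n) F) : Matrix.symplecticGroup (Fin n) F :=
  mk ((scMap (ν : F)).comp ((Matrix.mulVecLin (g : Matrix (Fin n ⊕ Fin n) (Fin n ⊕ Fin n) F)).comp
    (scMap ((ν⁻¹ : Fˣ) : F)))) fun x y => by
    show sympForm n F (scMap _ (act g (scMap _ x))) (scMap _ (act g (scMap _ y))) = _
    rw [form_sc, act_form, form_sc, ← mul_assoc, ← Units.val_mul, mul_inv_cancel, Units.val_one, one_mul]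

theorem act_twFun (ν : Fˣ) (g : Matrix.symplecticGroup (Fin n) F) (v : Fin n ⊕ Fin n → F) :
    act (twFun ν g) v = scMap (ν : F) (act g (scMap ((ν⁻¹ : Fˣ) : F) v)) := act_mk _ _ v

/-- The diagonal automorphism. -/
noncomputable def tw (ν : Fˣ) : Matrix.symplecticGroup (Fin n) F →* Matrix.symplecticGroup (Fin n) F where
  toFun := twFun ν
  map_one' := sp_ext fun v => by
    rw [act_twFun, act_one, act_one, sc_sc, ← Units.val_mul, mul_inv_cancel, Units.val_one, sc_one]
  map_mul' g h := sp_ext fun v => by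
    rw [act_twFun, act_mul, act_mul, act_twFun, act_twFun, sc_sc _ _ (act h _), ← Units.val_mul, inv_mul_cancel,
      Units.val_one, sc_one]

theorem tw_surj (ν : Fˣ) : Function.Surjective (tw (n := n) ν) := fun g =>
  ⟨twFun ν⁻¹ g, sp_ext fun v => by
    show act (twFun ν (twFun ν⁻¹ g)) v = _
    rw [act_twFun, act_twFun, inv_inv, sc_sc, sc_sc, ← Units.val_mul, mul_inv_cancel, Units.val_one, sc_one, sc_one]⟩

theorem tw_nel (ν : Fˣ) (T : Matrix (Fin n) (Fin n) F) : tw ν (nel T) = nel ((ν : F) • T) := sp_ext fun v => by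
  show act (twFun ν (nel T)) v = _
  rw [act_twFun]
  apply pair_ext
  · rw [pa_sc, pa_nel, pa_nel, pa_sc, pb_sc, smul_add, smul_smul, ← Units.val_mul, mul_inv_cancel, Units.val_one,
      one_smul, transpose_smul, ← smul_add (ν : F), smul_mulVec]
  · rw [pb_sc, pb_nel, pb_nel, pb_sc]

theorem ringChar_ne_two (hodd : Odd (Fintype.card F)) : ringChar F ≠ 2 := fun h => by
  have := FiniteField.even_card_iff_char_two.1 h
  rw [Nat.odd_iff] at hodd
  omega

theorem two_d_add_one (hodd : Odd (Fintype.card F)) : ∀ k : ℕ, ∃ d, Fintype.card F ^ k = 2 * d + 1 := fun k =>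
  hodd.pow

theorem neg_one_pow_half (hodd : Odd (Fintype.card F)) :
    ∀ (k d : ℕ), 2 * d + 1 = Fintype.card F ^ k → qc ((-1 : F) ^ k) = (-1 : ℂ) ^ d := by
  have hq : qc (-1 : F) = (-1 : ℂ) ^ (Fintype.card F / 2) := by
    rw [qc, quadraticChar_neg_one (ringChar_ne_two hodd), ZMod.χ₄_eq_neg_one_pow (Nat.odd_iff.1 hodd)]
    push_cast
    rfl
  intro k
  induction k with
  | zero =>
    intro d hd
    rw [pow_zero] at hd
    rw [show d = 0 by omega, pow_zero, qc_one, pow_zero]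
  | succ k ih =>
    intro d hd
    obtain ⟨e, he⟩ := two_d_add_one hodd k
    obtain ⟨h, hh⟩ := hodd
    rw [pow_succ, qc_mul, ih e he.symm, hq, ← pow_add]
    rw [pow_succ, he, hh] at hd
    rw [hh, show (2 * h + 1) / 2 = h by omega, show d = e + h + 2 * (e * h) by linarith, pow_add _ (e + h),
      pow_mul, neg_one_sq, one_pow, mul_one]

variable {ψ : AddChar F ℂ}

/-- Small degree forces rank one. -/
theorem rankOne_of_small (hψ : ψ ≠ 1) (hodd : Odd (Fintype.card F)) {E : Type} [AddCommGroup E] [Module ℂ E]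
    [FiniteDimensional ℂ E] (ρ : Representation ℂ (Matrix.symplecticGroup (Fin n) F) E)
    (h : finrank ℂ E * (2 * (Fintype.card F + 1)) < (Fintype.card F ^ n - 1) * (Fintype.card F ^ n - Fintype.card F)) :
    RankOne ψ ρ := by
  by_contra hR
  have := bound_of_not_rankOne (Ring.two_ne_zero (ringChar_ne_two hodd)) (Nat.odd_iff.1 hodd) hψ hR
  omega

theorem small_bound (hq : 3 ≤ Fintype.card F) (hn : 2 ≤ n) {d : ℕ} (hd : 2 * d ≤ Fintype.card F ^ n + 1) :
    d * (2 * (Fintype.card F + 1)) < (Fintype.card F ^ n - 1) * (Fintype.card F ^ n - Fintype.card F) := by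
  set q := Fintype.card F
  have h1 : q ^ 2 ≤ q ^ n := Nat.pow_le_pow_right (by omega) hn
  set Q := q ^ n
  obtain ⟨a, ha⟩ : ∃ a, Q = q * q + a := ⟨Q - q * q, by rw [sq] at h1; omega⟩
  obtain ⟨b, hb⟩ : ∃ b, q = 3 + b := ⟨q - 3, by omega⟩
  have h3 : d * (2 * (q + 1)) ≤ (Q + 1) * (q + 1) := by
    rw [← mul_assoc, mul_comm d 2]
    exact Nat.mul_le_mul_right _ hd
  refine h3.trans_lt ?_
  have e1 : Q - 1 = 8 + 6 * b + b * b + a := by rw [ha, hb]; ring_nf; omega
  have e2 : Q - q = 6 + 5 * b + b * b + a := by rw [ha, hb]; ring_nf; omega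
  rw [e1, e2, ha, hb]
  nlinarith [Nat.zero_le (a * b), Nat.zero_le (b * b * b), Nat.zero_le (a * a), Nat.zero_le (b * b * a),
    Nat.zero_le (b * b * b * b), Nat.zero_le (b * b), Nat.zero_le a, Nat.zero_le b]

theorem exists_psi : ∃ ψ : AddChar F ℂ, ψ ≠ 1 := by
  obtain ⟨ψ, hψ1⟩ := (AddChar.exists_apply_ne_zero (a := (1 : F))).2 one_ne_zero
  exact ⟨ψ, fun h => hψ1 (by rw [h]; rfl)⟩

theorem deg_cast {q : ℕ} (hq : 1 ≤ q) {d : ℕ} :
    ((d : ℂ) = ((q ^ n + 1 : ℕ) : ℂ) / 2 ↔ (2 : ℂ) * d = (q : ℂ) ^ n + 1) ∧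
      ((d : ℂ) = ((q ^ n - 1 : ℕ) : ℂ) / 2 ↔ (2 : ℂ) * d = (q : ℂ) ^ n + -1) := by
  have h : 1 ≤ q ^ n := Nat.one_le_pow _ _ hq
  refine ⟨?_, ?_⟩ <;>
  · push_cast [Nat.cast_sub h]
    constructor <;> intro e
    · linear_combination (2 : ℂ) * e
    · linear_combination (1 / 2 : ℂ) * e

/-- An irreducible character of small degree comes from a model. -/
theorem full_of_degree (hψ : ψ ≠ 1) (hodd : Odd (Fintype.card F)) (hn : 2 ≤ n) {s : ℂ} (hs : s = 1 ∨ s = -1)
    {k : ℕ} (π : Representation ℂ (Matrix.symplecticGroup (Fin n) F) (Fin k → ℂ)) [π.IsIrreducible]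
    (hk : (2 : ℂ) * k = (Fintype.card F : ℂ) ^ n + s) :
    ∃ (c : F) (δ : (Fin n → F) → (Fin k → ℂ)), Full ψ π c s δ := by
  have hq : 3 ≤ Fintype.card F := by
    have := Fintype.one_lt_card (α := F)
    rw [Nat.odd_iff] at hodd
    omega
  have hQ : Fintype.card F ^ 2 ≤ Fintype.card F ^ n := Nat.pow_le_pow_right (by omega) hn
  have hQ' : 9 ≤ Fintype.card F ^ n := le_trans (by nlinarith) hQ
  have hk' : 2 * k ≤ Fintype.card F ^ n + 1 ∧ 2 ≤ k := by
    rcases hs with rfl | rfl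
    · have : 2 * k = Fintype.card F ^ n + 1 := by exact_mod_cast hk
      omega
    · have h : (2 : ℂ) * k + 1 = (Fintype.card F : ℂ) ^ n := by linear_combination hk
      have : 2 * k + 1 = Fintype.card F ^ n := by exact_mod_cast h
      omega
  have h2 := ringChar_ne_two hodd
  obtain ⟨g, hg⟩ := SpWeil.nontrivial_of_irreducible π hk'.2
  have hR := rankOne_of_small hψ hodd π (by rw [finrank_fin_fun]; exact small_bound hq hn hk'.1)
  obtain ⟨c, ε, δ, hF⟩ := exists_full_irreducible hψ h2 hn hR hg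
  refine ⟨c, δ, ?_⟩
  have h := hF.finrank_eq hψ h2 (by omega)
  rw [finrank_fin_fun, hk] at h
  rwa [show s = ε from by linear_combination h]

/-- There are exactly two characters of each small degree. -/
theorem count_two (hψ : ψ ≠ 1) (hodd : Odd (Fintype.card F)) (hn : 2 ≤ n) {s : ℂ} (hs : s = 1 ∨ s = -1) {k : ℕ}
    (hk : (2 : ℂ) * k = (Fintype.card F : ℂ) ^ n + s)
    (hex : ∃ π : Representation ℂ ↥(Matrix.symplecticGroup (Fin n) F) (Fin k → ℂ), π.IsIrreducible) :
    Nat.card {χ : Cfsg.IrrCharacter ↥(Matrix.symplecticGroup (Fin n) F) // (χ : ↥(Matrix.symplecticGroup (Fin n) F) → ℂ) 1 = (k : ℂ)} = 2 := by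
  classical
  have h2 := ringChar_ne_two hodd
  obtain ⟨π, hπ⟩ := hex
  haveI := hπ
  obtain ⟨c₀, δ₀, hF₀⟩ := full_of_degree hψ hodd hn hs π hk
  obtain ⟨ν, hν⟩ := FiniteField.exists_nonsquare (F := F) h2
  have hν0 : ν ≠ 0 := fun e => hν (e ▸ ⟨0, by simp⟩)
  let u : Fˣ := Units.mk0 ν hν0
  let π' : Representation ℂ ↥(Matrix.symplecticGroup (Fin n) F) (Fin k → ℂ) := π.comp (tw u)
  haveI : π'.IsIrreducible := Char.irreducible_comp_surjective π (tw u) (tw_surj u)
  obtain ⟨i⟩ : Nonempty (Fin n) := ⟨⟨0, by omega⟩⟩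
  set e : Fin n → F := Pi.single i 1 with he
  have he0 : e ≠ 0 := fun h => one_ne_zero (α := F) (by simpa [he] using congrFun h i)
  have hmk : ∀ {p : Representation ℂ ↥(Matrix.symplecticGroup (Fin n) F) (Fin k → ℂ)}, p.IsIrreducible →
      ∃ χ : {χ : Cfsg.IrrCharacter ↥(Matrix.symplecticGroup (Fin n) F) // (χ : ↥(Matrix.symplecticGroup (Fin n) F) → ℂ) 1 = (k : ℂ)}, (χ.1 : ↥(Matrix.symplecticGroup (Fin n) F) → ℂ) = p.character := fun {p} hp =>
    ⟨⟨⟨p.character, k, p, hp, rfl⟩, by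
      show p.character 1 = _
      rw [Representation.char_one, finrank_fin_fun]⟩, rfl⟩
  obtain ⟨χ₁, hχ₁⟩ := hmk hπ
  obtain ⟨χ₂, hχ₂⟩ := hmk (p := π') (by infer_instance)
  have hclass : EigV ψ π' (c₀ * ν) e (δ₀ e) := by
    intro T
    show π (tw u (nel T)) (δ₀ e) = _
    rw [tw_nel, (hF₀.mdl.eig e).apply, tp_vecMulVec, smul_mulVec, dotProduct_smul, smul_eq_mul, ← mul_assoc]
    rfl
  have hne : χ₁ ≠ χ₂ := by
    intro h
    have hc : π'.character = π.character := by rw [← hχ₁, ← hχ₂, h]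
    obtain ⟨v, hv, hvE⟩ := pj_ne_of_char hψ hc _ (hF₀.mdl.ne e he0) hclass
    obtain ⟨s', hs', h'⟩ := hF₀.class_unique hψ hv (mul_ne_zero hF₀.c_ne hν0) he0 hvE
    exact hν ⟨s', mul_left_cancel₀ hF₀.c_ne h'⟩
  refine Nat.card_eq_two_iff.2 ⟨χ₁, χ₂, hne, Set.eq_univ_of_forall fun χ => ?_⟩
  obtain ⟨⟨f, m, p, hp, rfl⟩, hχ⟩ := χ
  have hm : m = k := by
    apply Nat.cast_injective (R := ℂ)
    simpa [Representation.char_one, finrank_fin_fun] using hχ
  subst hm
  haveI := hp
  obtain ⟨c, δ, hF⟩ := full_of_degree hψ hodd hn hs p hk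
  have key : ∀ {r : Representation ℂ ↥(Matrix.symplecticGroup (Fin n) F) (Fin m → ℂ)} {c' : F} {δ' : (Fin n → F) → (Fin m → ℂ)} {a : F},
      Full ψ r c' s δ' → a ≠ 0 → c = c' * (a * a) → p.character = r.character :=
    fun hr ha e' => hF.char_eq hψ h2 (by omega) (e'.symm ▸ hr.rescale h2 hψ ha)
  obtain ⟨c₁, δ₁, hF₁⟩ := full_of_degree hψ hodd hn hs π' hk
  obtain ⟨t, ht, ht'⟩ := hF₁.class_unique hψ (hF₀.mdl.ne e he0) (mul_ne_zero hF₀.c_ne hν0) he0 hclass
  by_cases hsq : IsSquare (c / c₀)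
  · obtain ⟨a, ha⟩ := hsq
    have ha0 : a ≠ 0 := fun h => div_ne_zero hF.c_ne hF₀.c_ne (by rw [ha, h, mul_zero])
    refine Or.inl (Subtype.ext (Subtype.ext ?_))
    show p.character = _
    rw [hχ₁]
    exact key hF₀ ha0 (by rw [← ha, mul_div_cancel₀ _ hF₀.c_ne])
  · have hsq' : IsSquare (c / (c₀ * ν)) := by
      have h1 : quadraticChar F (c / c₀) = -1 := quadraticChar_neg_one_iff_not_isSquare.2 hsq
      have h3 : quadraticChar F ν = -1 := quadraticChar_neg_one_iff_not_isSquare.2 hν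
      have h4 : quadraticChar F (c / (c₀ * ν)) = 1 := by
        have h5 : c / c₀ = c / (c₀ * ν) * ν := by field_simp
        rw [h5, map_mul, h3] at h1
        linarith
      exact (quadraticChar_one_iff_isSquare (div_ne_zero hF.c_ne (mul_ne_zero hF₀.c_ne hν0))).1 h4
    obtain ⟨a, ha⟩ := hsq'
    have hc : c = c₁ * ((t * a) * (t * a)) := by
      rw [show c₁ * ((t * a) * (t * a)) = c₁ * (t * t) * (a * a) by ring, ← ht', ← ha,
        mul_div_cancel₀ _ (mul_ne_zero hF₀.c_ne hν0)]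
    have ha0 : a ≠ 0 := fun h => div_ne_zero hF.c_ne (mul_ne_zero hF₀.c_ne hν0) (by rw [ha, h, mul_zero])
    refine Or.inr (Subtype.ext (Subtype.ext ?_))
    show p.character = _
    rw [hχ₂]
    exact key hF₁ (mul_ne_zero ht ha0) hc

/-- An irreducible representation of degree `(q ^ n + 1) / 2`. -/
theorem exists_even (hodd : Odd (Fintype.card F)) (hn : 2 ≤ n) {k : ℕ}
    (hk : (2 : ℂ) * k = (Fintype.card F : ℂ) ^ n + 1) : ∃ π : Representation ℂ ↥(Matrix.symplecticGroup (Fin n) F) (Fin k → ℂ), π.IsIrreducible := by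
  classical
  obtain ⟨ψ, hψ⟩ := exists_psi (F := F)
  have h2 := ringChar_ne_two hodd
  have h2' : (2 : F) ≠ 0 := Ring.two_ne_zero h2
  have hdim := finrank_half (m := n) h2' SpWeil.one_sq
  have hdk : finrank ℂ (half (m := n) (F := F) 1) = k := by
    apply Nat.cast_injective (R := ℂ)
    linear_combination (1 / 2 : ℂ) * hdim - (1 / 2 : ℂ) * hk
  let e := (Module.finBasisOfFinrankEq ℂ _ hdk).equivFun
  let π : Representation ℂ (↥(Matrix.symplecticGroup (Fin n) F)) (Fin k → ℂ) :=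
    { toFun := fun g => e.conj (evenWeil ψ hψ h2' g)
      map_one' := by rw [map_one]; exact LinearEquiv.conj_id e
      map_mul' := fun g h => by rw [map_mul]; exact LinearEquiv.conj_comp e _ _ }
  refine ⟨π, ?_⟩
  have hq : 3 ≤ Fintype.card F := by
    have := Fintype.one_lt_card (α := F)
    rw [Nat.odd_iff] at hodd
    omega
  have hR : RankOne ψ π := rankOne_of_small hψ hodd π (by
    rw [finrank_fin_fun]
    refine small_bound hq hn ?_
    have : 2 * k = Fintype.card F ^ n + 1 := by exact_mod_cast hk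
    omega)
  obtain ⟨g, hg⟩ := evenWeil_ne ψ hψ h2' (by omega : 1 ≤ n)
  have hg' : π g ≠ 1 := fun h => hg (e.conj.injective (h.trans (LinearEquiv.conj_id e).symm))
  obtain ⟨c, v, hc, hv, hE⟩ := exists_class hψ h2 hR (by omega) hg'
  obtain ⟨δ, hM⟩ := exists_mdl hψ h2 hR hn hc hv hE
  obtain ⟨hγ, -⟩ := (wel_axis hψ h2 hR hc (j := ⟨1, by omega⟩) (k := ⟨0, by omega⟩) (by simp [Fin.ext_iff]) hE).2.2 hv
  set d := finrank ℂ (half (m := n) (F := F) (-1))
  have hd : 2 * d + 1 = Fintype.card F ^ n := by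
    have h3 := finrank_half (m := n) h2' SpWeil.neg_sq_one
    have : (2 : ℂ) * d + 1 = (Fintype.card F : ℂ) ^ n := by linear_combination h3
    exact_mod_cast this
  have hz : π (lel (-1 : GL (Fin n) F)) = (-1 : ℂ) ^ d • 1 := by
    show e.conj (evenWeil ψ hψ h2' _) = _
    rw [evenWeil_neg, map_smul, Module.End.one_eq_id, LinearEquiv.conj_id, Module.End.one_eq_id]
  have hP : Parity δ (1 : ℂ) := by
    have h := parity_of_scalar hM hz
    rwa [neg_one_pow_half hodd n d hd, ← pow_add, ← two_mul, pow_mul, neg_one_sq, one_pow] at h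
  have hinj : Function.Injective ((theta δ).domRestrict (half (m := n) (F := F) 1)) :=
    (injective_iff_map_eq_zero _).2 fun f hf =>
      Subtype.ext (theta_inj hψ h2 hM hc (by omega) (Or.inl rfl) hP hγ f.2 hf)
  have honto : LinearMap.range (theta δ) = ⊤ := by
    refine Submodule.eq_top_of_finrank_eq (le_antisymm (Submodule.finrank_le _) ?_)
    rw [finrank_fin_fun]
    exact (le_of_eq (hdk.symm.trans (LinearMap.finrank_range_of_inj hinj).symm)).trans
      (Submodule.finrank_mono (LinearMap.range_domRestrict_le_range _ _))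
  exact Full.irreducible hψ h2 (by omega) ⟨hM, hc, hγ, Or.inl rfl, hP, honto⟩

end Cfsg.Agent.Lie.SpRank
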