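import Cfsg.Agent.Lib.Lie.SpDegOdd

/-! The odd Weil representation of `Sp_{2m}(q)`, `q` odd. -/

set_option autoImplicit false
set_option linter.unusedSectionVars false

namespace Cfsg.Agent.Lie.SpWeil

open Matrix Cfsg.Agent.Classical Finset
open Cfsg.Agent.Lie.SpDeg (act act_mul act_one act_add act_form act_inv)

universe u

variable {F : Type u} [Field F] [Fintype F] {m : ℕ}

local notation "V" => (Fin m ⊕ Fin m → F)
local notation "Sp" => Matrix.symplecticGroup (Fin m) F
local notation "B" => sympForm m F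
local notation "E" => ((Fin m → F) → ℂ)

variable (ψ : AddChar F ℂ) (hψ : ψ ≠ 1) (h2 : (2 : F) ≠ 0)

/-- The translation part. -/
def pa (u : V) : Fin m → F := fun i => u (Sum.inl i)

/-- The modulation part. -/
def pb (u : V) : Fin m → F := fun i => u (Sum.inr i)

theorem form_eq (u v : V) : B u v = pb u ⬝ᵥ pa v - pa u ⬝ᵥ pb v := by
  rw [sympForm_eq_sum, Finset.sum_sub_distrib]; rfl

theorem pa_add (u v : V) : pa (u + v) = pa u + pa v := rfl

theorem pb_add (u v : V) : pb (u + v) = pb u + pb v := rfl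

/-- The Heisenberg operators. -/
noncomputable def op (u : V) : Module.End ℂ E where
  toFun f x := ψ (pb u ⬝ᵥ x + 2⁻¹ * (pa u ⬝ᵥ pb u)) * f (x + pa u)
  map_add' f g := by funext x; simp [mul_add]
  map_smul' c f := by funext x; simp [mul_left_comm]

theorem op_apply (u : V) (f : E) (x : Fin m → F) :
    op ψ u f x = ψ (pb u ⬝ᵥ x + 2⁻¹ * (pa u ⬝ᵥ pb u)) * f (x + pa u) := rfl

theorem op_zero : op ψ (0 : V) = 1 := by
  refine LinearMap.ext fun f => funext fun x => ?_
  rw [op_apply, Module.End.one_apply, show pa (0 : V) = 0 from rfl, show pb (0 : V) = 0 from rfl]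
  simp

include h2 in
theorem op_mul (u v : V) : op ψ u * op ψ v = ψ (-(2⁻¹ * B u v)) • op ψ (u + v) := by
  refine LinearMap.ext fun f => funext fun x => ?_
  rw [Module.End.mul_apply, LinearMap.smul_apply, Pi.smul_apply, smul_eq_mul, op_apply, op_apply, op_apply,
    pa_add, pb_add, add_assoc x, ← mul_assoc, ← mul_assoc, ← AddChar.map_add_eq_mul, ← AddChar.map_add_eq_mul]
  congr 2
  rw [form_eq]
  simp only [add_dotProduct, dotProduct_add, dotProduct_comm (pb v) (pa u), dotProduct_comm (pb u) (pa v)]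
  field_simp
  ring

theorem neg_self (u : V) : B u (-u) = 0 := by
  rw [← neg_one_smul F u, sympForm_smul_right, sympForm_self, mul_zero]

include h2 in
theorem op_conj (u w : V) : op ψ u * op ψ w * op ψ (-u) = ψ (-(B u w)) • op ψ w := by
  rw [op_mul ψ h2, smul_mul_assoc, op_mul ψ h2, smul_smul, ← AddChar.map_add_eq_mul,
    show u + w + -u = w by abel, ← neg_one_smul F u, sympForm_smul_right, sympForm_add_left, sympForm_self,
    sympForm_swap w u]
  congr 2
  field_simp
  ring

include hψ h2 in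
theorem op_li : LinearIndependent ℂ (fun u : V => op ψ u) := by
  classical
  rw [Fintype.linearIndependent_iff]
  intro k hk w₀
  have h1 : ∀ u, ∑ w, (k w * ψ (-(B u w))) • op ψ w = 0 := by
    intro u
    have h0 : op ψ u * (∑ w, k w • op ψ w) * op ψ (-u) = 0 := by rw [hk, mul_zero, zero_mul]
    simpa [Finset.mul_sum, Finset.sum_mul, op_conj ψ h2, smul_smul] using h0
  have h3 : ∑ u, ψ (B u w₀) • ∑ w, (k w * ψ (-(B u w))) • op ψ w = 0 := by simp [h1]
  simp only [Finset.smul_sum, smul_smul] at h3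
  rw [Finset.sum_comm] at h3
  simp only [← Finset.sum_smul] at h3
  rw [Finset.sum_eq_single w₀] at h3
  · have h4 : ∑ u : V, ψ (B u w₀) * (k w₀ * ψ (-(B u w₀))) = (Fintype.card V : ℂ) * k w₀ := by
      rw [← nsmul_eq_mul, ← Finset.card_univ, ← Finset.sum_const]
      refine Finset.sum_congr rfl fun u _ => ?_
      rw [mul_left_comm, ← AddChar.map_add_eq_mul, add_neg_cancel, AddChar.map_zero_eq_one, mul_one]
    rw [h4, smul_eq_zero] at h3
    have hne : op ψ w₀ ≠ 0 := by
      intro e
      have := congrFun (LinearMap.congr_fun e (fun _ => (1 : ℂ))) 0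
      rw [op_apply] at this
      simpa [(AddChar.val_isUnit ψ _).ne_zero] using this
    exact (mul_eq_zero.1 (h3.resolve_right hne)).resolve_left (Nat.cast_ne_zero.2 Fintype.card_ne_zero)
  · intro w _ hw
    have hβ : sympB m F (w - w₀) ≠ 0 := by
      obtain ⟨y, hy⟩ := exists_sympForm_eq_one (sub_ne_zero.2 hw)
      intro e
      have := LinearMap.congr_fun e y
      rw [sympB_apply, hy] at this
      exact one_ne_zero this
    have h4 : ∑ u : V, ψ (B u w₀) * (k w * ψ (-(B u w))) = 0 := by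
      calc _ = k w * ∑ u, ψ (sympB m F (w - w₀) u) := by
            rw [Finset.mul_sum]
            refine Finset.sum_congr rfl fun u _ => ?_
            rw [mul_left_comm, ← AddChar.map_add_eq_mul, sympB_apply, sympForm_sub_left,
              sympForm_swap u w₀, sympForm_swap u w]
            congr 2
            ring
        _ = 0 := by rw [Char.sum_char_linear hψ _ hβ, mul_zero]
    rw [h4, zero_smul]
  · simp

include hψ h2 in
theorem op_span : Submodule.span ℂ (Set.range fun u : V => op ψ u) = ⊤ := by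
  classical
  refine (op_li ψ hψ h2).span_eq_top_of_card_eq_finrank ?_
  rw [Module.finrank_linearMap, Module.finrank_fintype_fun_eq_card, Fintype.card_fun, Fintype.card_fun,
    Fintype.card_sum, Fintype.card_fin, pow_add]

include hψ h2 in
theorem scalar_of_commute {T : Module.End ℂ E} (hT : ∀ u, Commute T (op ψ u)) : ∃ c : ℂ, T = c • 1 := by
  classical
  have hall : ∀ X : Module.End ℂ E, Commute T X := by
    intro X
    have hX : X ∈ Submodule.span ℂ (Set.range fun u : V => op ψ u) := by rw [op_span ψ hψ h2]; trivial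
    induction hX using Submodule.span_induction with
    | mem x hx => obtain ⟨u, rfl⟩ := hx; exact hT u
    | zero => exact Commute.zero_right T
    | add x y _ _ hx hy => exact hx.add_right hy
    | smul c x _ hx => exact hx.smul_right c
  refine ⟨T (fun _ => 1) 0, LinearMap.ext fun v => ?_⟩
  let X : Module.End ℂ E := LinearMap.smulRight (LinearMap.proj (0 : Fin m → F) : E →ₗ[ℂ] ℂ) v
  have h1 := LinearMap.congr_fun (hall X) (fun _ => (1 : ℂ))
  simpa [X] using h1

/-- An intertwining operator of `g`. -/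
def Int' (g : Sp) (W : Module.End ℂ E) : Prop := ∀ u, W * op ψ u = op ψ (act g u) * W

include hψ h2 in
theorem exists_int (g : Sp) : ∃ W, W ≠ 0 ∧ Int' ψ g W := by
  classical
  let W : Module.End ℂ E → Module.End ℂ E := fun X => ∑ u, op ψ (act g u) * X * op ψ (-u)
  have hint : ∀ X, Int' ψ g (W X) := by
    intro X v
    simp only [W, Finset.sum_mul, Finset.mul_sum]
    refine (Fintype.sum_equiv (Equiv.addRight v) _ _ fun u => ?_).symm
    simp only [Equiv.coe_addRight]
    rw [mul_assoc _ (op ψ (-(u + v))), op_mul ψ h2, ← mul_assoc (op ψ (act g v)), ← mul_assoc (op ψ (act g v)),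
      op_mul ψ h2, smul_mul_assoc, smul_mul_assoc, mul_smul_comm, ← act_add, add_comm v u, act_form,
      show -(u + v) + v = -u by abel, ← neg_one_smul F (u + v), sympForm_smul_left, sympForm_add_left,
      sympForm_self, sympForm_swap v u]
    congr 2
    ring
  by_contra hcon
  push Not at hcon
  have h0 : ∀ X, W X = 0 := fun X => by
    by_contra h
    exact hcon (W X) h (hint X)
  have h1 : ∀ (y v : E), ∀ u, (op ψ (-u) y) 0 • op ψ (act g u) v = (op ψ (-u) y) 0 • op ψ (act g u) v :=
    fun _ _ _ => rfl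
  let y : E := fun _ => 1
  have h3 : ∑ u : V, (op ψ (-u) y 0) • op ψ (act g u) = 0 := by
    refine LinearMap.ext fun v => ?_
    have h4 := LinearMap.congr_fun (h0 (LinearMap.smulRight (LinearMap.proj (0 : Fin m → F) : E →ₗ[ℂ] ℂ) v)) y
    simpa [W, LinearMap.sum_apply] using h4
  have hinj : Function.Injective (fun u : V => act g u) := fun a b e => by
    rw [← act_inv g a, ← act_inv g b]; exact congrArg _ e
  have h5 := Fintype.linearIndependent_iff.1 ((op_li ψ hψ h2).comp _ hinj) _ h3 0
  rw [neg_zero, op_zero] at h5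
  simp [y] at h5

include hψ h2 in
theorem int_isUnit {g : Sp} {W : Module.End ℂ E} (hW : W ≠ 0) (hI : Int' ψ g W) : IsUnit W := by
  classical
  have hker : LinearMap.ker W = ⊥ := by
    by_contra hne
    obtain ⟨v, hv, hv0⟩ := Submodule.exists_mem_ne_zero_of_ne_bot hne
    apply hW
    have hall : ∀ X : Module.End ℂ E, W (X v) = 0 := by
      intro X
      have hX : X ∈ Submodule.span ℂ (Set.range fun u : V => op ψ u) := by rw [op_span ψ hψ h2]; trivial
      induction hX using Submodule.span_induction with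
      | mem x hx =>
        obtain ⟨u, rfl⟩ := hx
        rw [← Module.End.mul_apply, hI, Module.End.mul_apply, LinearMap.mem_ker.1 hv, map_zero]
      | zero => simp
      | add x y _ _ hx hy => simp [hx, hy]
      | smul c x _ hx => simp [hx]
    obtain ⟨x, hx⟩ := Function.ne_iff.1 hv0
    refine LinearMap.ext fun w => ?_
    have h1 := hall (LinearMap.smulRight ((v x)⁻¹ • (LinearMap.proj x : E →ₗ[ℂ] ℂ)) w)
    simpa [inv_mul_cancel₀ hx] using h1
  exact (Module.End.isUnit_iff W).2 ⟨LinearMap.ker_eq_bot.1 hker,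
    LinearMap.surjective_of_injective (LinearMap.ker_eq_bot.1 hker)⟩

include hψ h2 in
theorem int_unique {g : Sp} {W W' : Module.End ℂ E} (hW : W ≠ 0) (hI : Int' ψ g W) (hI' : Int' ψ g W') :
    ∃ c : ℂ, W' = c • W := by
  obtain ⟨U, rfl⟩ := int_isUnit ψ hψ h2 hW hI
  obtain ⟨c, hc⟩ := scalar_of_commute ψ hψ h2 (T := (↑U⁻¹ : Module.End ℂ E) * W') fun u => by
    have h1 : (↑U⁻¹ : Module.End ℂ E) * op ψ (act g u) = op ψ u * ↑U⁻¹ :=
      (Units.inv_mul_eq_iff_eq_mul U).2 (by rw [← mul_assoc, Units.eq_mul_inv_iff_mul_eq]; exact (hI u).symm)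
    show _ * op ψ u = op ψ u * _
    rw [mul_assoc, hI', ← mul_assoc, h1, mul_assoc]
  refine ⟨c, ?_⟩
  rw [Units.inv_mul_eq_iff_eq_mul] at hc
  rw [hc, mul_smul_comm, mul_one]

theorem int_mul {g k : Sp} {W W' : Module.End ℂ E} (hI : Int' ψ g W) (hI' : Int' ψ k W') :
    Int' ψ (g * k) (W * W') := fun u => by
  rw [mul_assoc, hI', ← mul_assoc, hI, mul_assoc, act_mul]

/-- The parity operator. -/
noncomputable def par : Module.End ℂ E where
  toFun f x := f (-x)
  map_add' _ _ := rfl
  map_smul' _ _ := rfl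

theorem par_par : (par : Module.End ℂ E) * par = 1 :=
  LinearMap.ext fun f => funext fun x => by simp [par]

theorem par_op (u : V) : par * op ψ u = op ψ (-u) * par := by
  refine LinearMap.ext fun f => funext fun x => ?_
  show op ψ u f (-x) = ψ (pb (-u) ⬝ᵥ x + 2⁻¹ * (pa (-u) ⬝ᵥ pb (-u))) * par f (x + pa (-u))
  rw [op_apply, show pa (-u) = -pa u from rfl, show pb (-u) = -pb u from rfl]
  simp [par, add_comm]

theorem trace_par (h2 : (2 : F) ≠ 0) : LinearMap.trace ℂ E par = 1 := by
  classical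
  rw [LinearMap.trace_eq_matrix_trace ℂ (Pi.basisFun ℂ (Fin m → F)), Matrix.trace, Finset.sum_eq_single 0]
  · simp [LinearMap.toMatrix_apply, par]
  · intro x _ hx
    have hne : -x ≠ x := fun e => hx (funext fun i => by
      have hi := congrFun e i
      have : (2 : F) * x i = 0 := by rw [Pi.neg_apply] at hi; linear_combination -hi
      exact (mul_eq_zero.1 this).resolve_left h2)
    simp [LinearMap.toMatrix_apply, par, hne, Pi.single_apply]
  · simp

include hψ h2 in
theorem int_par {g : Sp} {W : Module.End ℂ E} (hW : W ≠ 0) (hI : Int' ψ g W) : Commute W par := by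
  have hneg : ∀ u : V, act g (-u) = -act g u := fun u => Matrix.mulVec_neg _ _
  obtain ⟨c, hc⟩ := int_unique ψ hψ h2 hW hI (W' := par * W * par) fun u => by
    rw [mul_assoc _ par (op ψ u), par_op, ← mul_assoc _ (op ψ (-u)), mul_assoc par W, hI, hneg, ← mul_assoc par,
      par_op, neg_neg]
    simp only [mul_assoc]
  have hc2 : W = (c * c) • W := by
    calc W = par * (par * W * par) * par := by
          rw [← mul_assoc par, ← mul_assoc, par_par, one_mul, mul_assoc, par_par, mul_one]
      _ = _ := by rw [hc, mul_smul_comm, smul_mul_assoc, hc, smul_smul]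
  have hcc : c = 1 ∨ c = -1 := by
    have h1 : ((c * c) - 1) • W = 0 := by linear_combination (norm := module) hc2.symm
    have h3 := (smul_eq_zero.1 h1).resolve_right hW
    exact mul_self_eq_one_iff.1 (by linear_combination h3)
  have hWP : W * par = c • (par * W) := by
    calc W * par = par * (par * W * par) := by
          rw [← mul_assoc par, ← mul_assoc, par_par, one_mul]
      _ = _ := by rw [hc, mul_smul_comm]
  rcases hcc with rfl | rfl
  · rwa [one_smul] at hWP
  exfalso
  obtain ⟨U, rfl⟩ := int_isUnit ψ hψ h2 hW hI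
  have h1 : LinearMap.trace ℂ E ((U : Module.End ℂ E) * par * ((U⁻¹ : (Module.End ℂ E)ˣ) : Module.End ℂ E)) = LinearMap.trace ℂ E par := by
    rw [LinearMap.trace_mul_comm, ← mul_assoc, Units.inv_mul, one_mul]
  rw [hWP, smul_mul_assoc, mul_assoc, Units.mul_inv, mul_one, map_smul, trace_par h2] at h1
  norm_num at h1

/-- The eigenspaces of the parity. -/
noncomputable def half (s : ℂ) : Submodule ℂ E := LinearMap.range ((2 : ℂ)⁻¹ • (1 + s • (par : Module.End ℂ E)))

theorem half_mem_iff {s : ℂ} (hs : s * s = 1) {f : E} : f ∈ half (m := m) (F := F) s ↔ par f = s • f := by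
  have hpp : ∀ g : E, par (par g) = g := fun g => LinearMap.congr_fun par_par g
  constructor
  · rintro ⟨g, rfl⟩
    simp only [LinearMap.smul_apply, LinearMap.add_apply, Module.End.one_apply, map_smul, map_add, hpp,
      smul_add, smul_smul]
    rw [mul_left_comm s, hs, mul_one, mul_comm s, add_comm]
  · intro hf
    refine ⟨f, ?_⟩
    simp only [LinearMap.smul_apply, LinearMap.add_apply, Module.End.one_apply, hf, smul_smul, hs, one_smul,
      smul_add, ← add_smul]
    rw [mul_assoc _ s s, hs]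
    norm_num

theorem finrank_half (h2 : (2 : F) ≠ 0) {s : ℂ} (hs : s * s = 1) :
    (2 : ℂ) * (Module.finrank ℂ (half (m := m) (F := F) s) : ℂ) = (Fintype.card F : ℂ) ^ m + s := by
  classical
  have hP : IsIdempotentElem ((2 : ℂ)⁻¹ • (1 + s • (par : Module.End ℂ E))) := by
    show _ * _ = _
    rw [smul_mul_smul_comm, add_mul, mul_add, mul_add, one_mul, one_mul, mul_one, smul_mul_smul_comm, hs,
      par_par, one_smul]
    module
  obtain ⟨r, hr, hrR, -⟩ := Char.idem_trace_nat hP
  rw [half, ← hrR, ← hr, map_smul, map_add, map_smul, trace_par h2, Module.End.one_eq_id, LinearMap.trace_id,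
    Module.finrank_fintype_fun_eq_card, Fintype.card_fun, Fintype.card_fin, smul_eq_mul, smul_eq_mul, mul_one,
    Nat.cast_pow, ← mul_assoc]
  norm_num

/-- The chosen intertwiner. -/
noncomputable def wOp (g : Sp) : Module.End ℂ E := (exists_int ψ hψ h2 g).choose

theorem wOp_ne (g : Sp) : wOp ψ hψ h2 g ≠ 0 := (exists_int ψ hψ h2 g).choose_spec.1

theorem wOp_int (g : Sp) : Int' ψ g (wOp ψ hψ h2 g) := (exists_int ψ hψ h2 g).choose_spec.2

theorem wOp_maps (g : Sp) {s : ℂ} (hs : s * s = 1) :
    ∀ f ∈ half (m := m) (F := F) s, wOp ψ hψ h2 g f ∈ half (m := m) (F := F) s := by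
  intro f hf
  rw [half_mem_iff hs] at hf ⊢
  have h1 := LinearMap.congr_fun (int_par ψ hψ h2 (wOp_ne ψ hψ h2 g) (wOp_int ψ hψ h2 g)) f
  simp only [Module.End.mul_apply] at h1
  rw [← h1, hf, map_smul]

theorem one_sq : (1 : ℂ) * 1 = 1 := one_mul 1

theorem neg_sq_one : (-1 : ℂ) * -1 = 1 := by norm_num

/-- The action on an eigenspace. -/
noncomputable def wHalf (g : Sp) {s : ℂ} (hs : s * s = 1) : Module.End ℂ (half (m := m) (F := F) s) :=
  (wOp ψ hψ h2 g).restrict (wOp_maps ψ hψ h2 g hs)

theorem wHalf_mul (g k : Sp) : ∃ c : ℂ, c ≠ 0 ∧ wOp ψ hψ h2 (g * k) = c • (wOp ψ hψ h2 g * wOp ψ hψ h2 k) ∧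
    ∀ {s : ℂ} (hs : s * s = 1), wHalf ψ hψ h2 (g * k) hs = c • (wHalf ψ hψ h2 g hs * wHalf ψ hψ h2 k hs) := by
  have hne : wOp ψ hψ h2 g * wOp ψ hψ h2 k ≠ 0 :=
    ((int_isUnit ψ hψ h2 (wOp_ne ψ hψ h2 g) (wOp_int ψ hψ h2 g)).mul
      (int_isUnit ψ hψ h2 (wOp_ne ψ hψ h2 k) (wOp_int ψ hψ h2 k))).ne_zero
  obtain ⟨c, hc⟩ := int_unique ψ hψ h2 hne (int_mul ψ (wOp_int ψ hψ h2 g) (wOp_int ψ hψ h2 k))
    (wOp_int ψ hψ h2 (g * k))
  refine ⟨c, fun h0 => wOp_ne ψ hψ h2 (g * k) (by rw [hc, h0, zero_smul]), hc, fun hs => ?_⟩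
  refine LinearMap.ext fun f => Subtype.ext ?_
  exact LinearMap.congr_fun hc (f : E)

theorem wHalf_det_ne (g : Sp) {s : ℂ} (hs : s * s = 1) : LinearMap.det (wHalf ψ hψ h2 g hs) ≠ 0 := by
  have hU := (Module.End.isUnit_iff _).1 (int_isUnit ψ hψ h2 (wOp_ne ψ hψ h2 g) (wOp_int ψ hψ h2 g))
  have hu : IsUnit (wHalf ψ hψ h2 g hs) := by
    rw [Module.End.isUnit_iff]
    have hinj : Function.Injective (wHalf ψ hψ h2 g hs) := fun a b e =>
      Subtype.ext (hU.1 (congrArg Subtype.val e))
    exact ⟨hinj, LinearMap.surjective_of_injective hinj⟩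
  exact (hu.map (LinearMap.det : Module.End ℂ (half (m := m) (F := F) s) →* ℂ)).ne_zero

/-- The odd Weil representation. -/
noncomputable def weilFun (g : Sp) : Module.End ℂ (half (m := m) (F := F) (-1)) :=
  (LinearMap.det (wHalf ψ hψ h2 g neg_sq_one) / LinearMap.det (wHalf ψ hψ h2 g one_sq)) • wHalf ψ hψ h2 g neg_sq_one

include h2 in
theorem finrank_plus :
    Module.finrank ℂ (half (m := m) (F := F) 1) = Module.finrank ℂ (half (m := m) (F := F) (-1)) + 1 := by
  have h1 := finrank_half (m := m) h2 one_sq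
  have h3 := finrank_half (m := m) h2 neg_sq_one
  apply Nat.cast_injective (R := ℂ)
  push_cast
  linear_combination (2 : ℂ)⁻¹ * h1 - (2 : ℂ)⁻¹ * h3

theorem weilFun_mul (g k : Sp) : weilFun ψ hψ h2 (g * k) = weilFun ψ hψ h2 g * weilFun ψ hψ h2 k := by
  obtain ⟨c, hc0, -, hc⟩ := wHalf_mul ψ hψ h2 g k
  have hg := wHalf_det_ne ψ hψ h2 g one_sq
  have hk := wHalf_det_ne ψ hψ h2 k one_sq
  simp only [weilFun, hc neg_sq_one, hc one_sq, LinearMap.det_smul, map_mul, smul_mul_smul_comm, smul_smul,
    finrank_plus h2, pow_succ]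
  congr 1
  field_simp

/-- The odd Weil representation. -/
noncomputable def weil : Representation ℂ Sp (half (m := m) (F := F) (-1)) where
  toFun := weilFun ψ hψ h2
  map_one' := by
    have h1 := weilFun_mul ψ hψ h2 (1 : Sp) 1
    rw [one_mul] at h1
    have hu : IsUnit (weilFun ψ hψ h2 (1 : Sp)) := by
      have h3 := (LinearMap.isUnit_iff_isUnit_det _).2 (isUnit_iff_ne_zero.2
        (wHalf_det_ne ψ hψ h2 (1 : Sp) neg_sq_one))
      exact h3.smul (Units.mk0 _ (div_ne_zero (wHalf_det_ne ψ hψ h2 (1 : Sp) neg_sq_one)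
        (wHalf_det_ne ψ hψ h2 (1 : Sp) one_sq)))
    exact (hu.mul_left_cancel (by rw [mul_one]; exact h1.symm))
  map_mul' := weilFun_mul ψ hψ h2

include hψ in
theorem exists_sq_ne (h2 : (2 : F) ≠ 0) {k : F} (hk : k ≠ 0) : ∃ t : F, ψ (k * (t * t)) ≠ 1 := by
  by_contra hcon
  push Not at hcon
  refine hψ (DFunLike.ext _ _ fun y => ?_)
  have h1 : y = k * ((y / k + 1) / 2 * ((y / k + 1) / 2)) + -(k * ((y / k - 1) / 2 * ((y / k - 1) / 2))) := by
    field_simp
    ring
  rw [h1, AddChar.map_add_eq_mul, hcon, one_mul, AddChar.map_neg_eq_inv, hcon, inv_one]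
  rfl

/-- It is not trivial. -/
theorem weil_ne (hm : 2 ≤ m) : ∃ g : Sp, weil ψ hψ h2 g ≠ 1 := by
  classical
  let i : Fin m := ⟨0, by omega⟩
  let j : Fin m := ⟨1, by omega⟩
  have hij : j ≠ i := by simp [i, j, Fin.ext_iff]
  let v₀ : V := Pi.single (Sum.inr i) 1
  let g : Sp := sympTv v₀ (-1)
  refine ⟨g, fun hone => ?_⟩
  let D : Module.End ℂ E :=
    { toFun := fun f x => ψ (-(2⁻¹ * (x i * x i))) * f x
      map_add' := fun f g => by funext x; simp [mul_add]
      map_smul' := fun c f => by funext x; simp [mul_left_comm] }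
  have hD : Int' ψ g D := by
    intro u
    refine LinearMap.ext fun f => funext fun x => ?_
    have hB : B u v₀ = -u (Sum.inl i) := by rw [sympForm_single_inr, mul_one]
    have ha : pa (act g u) = pa u := by
      funext l
      simp [pa, g, SpDeg.act_tv, v₀, hB]
    have hb : pb (act g u) = pb u + Pi.single i (u (Sum.inl i)) := by
      funext l
      simp [pb, g, SpDeg.act_tv, v₀, hB, Pi.single_apply]
    show ψ (-(2⁻¹ * (x i * x i))) * op ψ u f x = op ψ (act g u) (D f) x
    rw [op_apply, op_apply, ha, hb, ← mul_assoc, ← AddChar.map_add_eq_mul]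
    show _ = _ * (ψ (-(2⁻¹ * ((x + pa u) i * (x + pa u) i))) * f (x + pa u))
    rw [← mul_assoc (ψ _) (ψ _) (f _), ← AddChar.map_add_eq_mul, add_dotProduct, dotProduct_add, single_dotProduct,
      dotProduct_single]
    congr 2
    simp only [Pi.add_apply, pa]
    field_simp
    ring
  obtain ⟨c, hc⟩ := int_unique ψ hψ h2 (wOp_ne ψ hψ h2 g) (wOp_int ψ hψ h2 g) hD
  set k := LinearMap.det (wHalf ψ hψ h2 g neg_sq_one) / LinearMap.det (wHalf ψ hψ h2 g one_sq)
  have hval : ∀ f ∈ half (m := m) (F := F) (-1), k • D f = c • f := by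
    intro f hf
    have h1 := congrArg Subtype.val (LinearMap.congr_fun hone ⟨f, hf⟩)
    change k • wOp ψ hψ h2 g f = f at h1
    rw [hc, LinearMap.smul_apply, smul_comm, h1]
  have hx : ∀ x : Fin m → F, x ≠ 0 → k * ψ (-(2⁻¹ * (x i * x i))) = c := by
    intro x hx
    have hne : x ≠ -x := fun e => hx (funext fun l => by
      have hl := congrFun e l
      have : (2 : F) * x l = 0 := by rw [Pi.neg_apply] at hl; linear_combination hl
      exact (mul_eq_zero.1 this).resolve_left h2)
    let f : E := fun y => (if y = x then 1 else 0) - (if y = -x then 1 else 0)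
    have hf : f ∈ half (m := m) (F := F) (-1) := by
      rw [half_mem_iff neg_sq_one]
      funext y
      show f (-y) = (-1 : ℂ) * f y
      simp only [f, neg_eq_iff_eq_neg, neg_neg]
      ring
    have h1 := congrFun (hval f hf) x
    change k * (ψ (-(2⁻¹ * (x i * x i))) * f x) = c * f x at h1
    have hfx : f x = 1 := by simp [f, hne]
    rw [hfx, mul_one, mul_one] at h1
    exact h1
  have h0 := hx (Pi.single j 1) (by simp)
  rw [Pi.single_eq_of_ne (Ne.symm hij), mul_zero, mul_zero, neg_zero, AddChar.map_zero_eq_one, mul_one] at h0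
  obtain ⟨t, ht⟩ := exists_sq_ne ψ hψ h2 (k := -(2⁻¹ : F)) (neg_ne_zero.2 (inv_ne_zero h2))
  have h1 := hx (Pi.single j 1 + Pi.single i t) (fun e => by simpa [hij] using congrFun e j)
  rw [Pi.add_apply, Pi.single_eq_of_ne (Ne.symm hij), Pi.single_eq_same, zero_add, ← h0] at h1
  have hk0 : k ≠ 0 := div_ne_zero (wHalf_det_ne ψ hψ h2 g neg_sq_one) (wHalf_det_ne ψ hψ h2 g one_sq)
  apply ht
  rw [neg_mul]
  exact mul_left_cancel₀ hk0 (h1.trans (mul_one k).symm)

/-- A non-trivial representation from an irreducible one of degree at least two. -/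
theorem nontrivial_of_irreducible {G : Type u} [Group G] {k : ℕ} (ρ : Representation ℂ G (Fin k → ℂ))
    [ρ.IsIrreducible] (hk : 2 ≤ k) : ∃ g, ρ g ≠ 1 := by
  by_contra hcon
  push Not at hcon
  let v : Fin k → ℂ := Pi.single ⟨0, by omega⟩ 1
  let W : Subrepresentation ρ :=
    { toSubmodule := Submodule.span ℂ {v}
      apply_mem_toSubmodule := fun g w hw => by rw [hcon g]; exact hw }
  rcases IsSimpleOrder.eq_bot_or_eq_top W with hW | hW
  · have h0 : Submodule.span ℂ {v} = ⊥ := congrArg Subrepresentation.toSubmodule hW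
    rw [Submodule.span_singleton_eq_bot] at h0
    have := congrFun h0 ⟨0, by omega⟩
    simp [v] at this
  · have h0 : Submodule.span ℂ {v} = ⊤ := congrArg Subrepresentation.toSubmodule hW
    have h1 := finrank_span_singleton (K := ℂ) (show v ≠ 0 by simp [v])
    rw [h0, finrank_top, Module.finrank_fin_fun] at h1
    omega

/-- An irreducible representation of the least degree. -/
theorem exists_weil_irreducible (hm : 2 ≤ m) (hodd : Odd (Fintype.card F)) :
    ∃ ρ : Representation ℂ Sp (Fin ((Fintype.card F ^ m - 1) / 2) → ℂ), ρ.IsIrreducible := by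
  classical
  have h2 : (2 : F) ≠ 0 := by
    refine Ring.two_ne_zero fun h => ?_
    have := FiniteField.even_card_iff_char_two.1 h
    rw [Nat.odd_iff] at hodd
    omega
  obtain ⟨ψ, hψ1⟩ := (AddChar.exists_apply_ne_zero (a := (1 : F))).2 one_ne_zero
  have hψ : ψ ≠ 1 := fun h => hψ1 (by rw [h]; rfl)
  obtain ⟨g, hg⟩ := weil_ne ψ hψ h2 hm
  haveI := Fintype.ofFinite (Matrix.symplecticGroup (Fin m) F)
  obtain ⟨d, τ, hτ, -, hd, hgτ⟩ := Char.exists_nontrivial_constituent (weil ψ hψ h2) hg
  have hlow := SpDeg.lowOdd hodd m d τ hτ hgτ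
  have hdim : 2 * Module.finrank ℂ (half (m := m) (F := F) (-1)) + 1 = Fintype.card F ^ m := by
    apply Nat.cast_injective (R := ℂ)
    push_cast
    rw [finrank_half h2 neg_sq_one]
    ring
  have : d = (Fintype.card F ^ m - 1) / 2 := by omega
  subst this
  exact ⟨τ, hτ⟩

end Cfsg.Agent.Lie.SpWeil
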