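import Cfsg.Agent.Lib.Lie.SpnPresBase

/-! A group with the gluing relations of `Sp₄(F)` and `SLₙ(F)`: the Siegel unipotent subgroups. -/

set_option autoImplicit false
set_option linter.unusedSectionVars false
set_option maxHeartbeats 1000000

namespace Cfsg.Agent.Lie.SpnPres

open Matrix Cfsg.Agent.Lie.Sl2Pres

variable {F : Type*} [Field F] [Fintype F] {k : ℕ}

local notation "SL2" => Matrix.SpecialLinearGroup (Fin 2) F
local notation "bv" a:max => (Pi.single a (1 : F) : Fin (k + 3) → F)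

theorem incM_single {α ι : Type} [Fintype α] [DecidableEq α] [Fintype ι] [DecidableEq ι] (f : α ↪ ι)
    (a b : α) (t : F) :
    incM F f * Matrix.single a b t * (incM F f)ᵀ = Matrix.single (f a) (f b) t := by
  have h : Matrix.single a b t = t • vecMulVec (Pi.single a 1) (Pi.single b 1) := by
    rw [← Matrix.single_eq_single_vecMulVec_single, Matrix.smul_single, smul_eq_mul, mul_one]
  rw [h, Matrix.mul_smul, Matrix.smul_mul, mul_vecMulVec, vecMulVec_mul, vecMul_transpose,
    incM_mulVec_single, incM_mulVec_single, ← Matrix.single_eq_single_vecMulVec_single, Matrix.smul_single,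
    smul_eq_mul, mul_one]

theorem extM_transvection {α ι : Type} [Fintype α] [DecidableEq α] [Fintype ι] [DecidableEq ι] (f : α ↪ ι)
    (a b : α) (t : F) : extM f (Matrix.transvection a b t) = Matrix.transvection (f a) (f b) t := by
  rw [extM, Matrix.transvection, Matrix.transvection, add_sub_cancel_left, incM_single]

theorem qvec (u : Fin 2 → F) : incM F (qE (k := k)) *ᵥ u = u 1 • bv 0 + u 0 • bv 1 := by
  ext i
  simp only [incM, Matrix.mulVec, dotProduct, Fin.sum_univ_two, qE_zero, qE_one, Matrix.of_apply,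
    Pi.add_apply, Pi.smul_apply, Pi.single_apply, smul_eq_mul]
  by_cases h0 : i = 0 <;> by_cases h1 : i = 1 <;> simp_all

theorem tail_single_succ (b : Fin (k + 2)) (t : F) :
    (Fin.cons 0 (Pi.single b t) : Fin (k + 3) → F) = Pi.single b.succ t := by
  ext i
  cases i using Fin.cases with
  | zero => simp [(Fin.succ_ne_zero b).symm]
  | succ a => simp [Pi.single_apply]

theorem rowU_single (b : Fin (k + 2)) (t : F) :
    (rowU (Pi.single b t : Fin (k + 2) → F)).1 = Matrix.transvection 0 b.succ t := by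
  show 1 + vecMulVec (Pi.single 0 1) (Fin.cons 0 (Pi.single b t)) = _
  rw [tail_single_succ, Matrix.transvection]
  congr 1
  rw [show (Pi.single b.succ t : Fin (k + 3) → F) = t • Pi.single b.succ 1 by
    rw [← Pi.single_smul, smul_eq_mul, mul_one], vecMulVec_smul, ← Matrix.single_eq_single_vecMulVec_single,
    Matrix.smul_single, smul_eq_mul, mul_one]

theorem rowU_zero : rowU (0 : Fin (k + 2) → F) = 1 := by
  refine Subtype.ext (ext_mulVec_single fun a => ?_)
  rw [rowU_mulVec, sval_one, Matrix.one_mulVec]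
  simp

theorem rowU_inv (r : Fin (k + 2) → F) : (rowU r)⁻¹ = rowU (-r) := by
  refine inv_eq_of_mul_eq_one_right (Subtype.ext (ext_mulVec_single fun a => ?_))
  rw [sval_mul, ← Matrix.mulVec_mulVec, rowU_mulVec, rowU_mulVec, sval_one, Matrix.one_mulVec]
  have h : Fin.tail ((Pi.single a 1 : Fin (k + 3) → F) +
      (-r ⬝ᵥ Fin.tail (Pi.single a 1 : Fin (k + 3) → F)) • bv 0) = Fin.tail (Pi.single a 1 : Fin (k + 3) → F) := by
    ext i; simp [Fin.tail]
  rw [h, neg_dotProduct, neg_smul, neg_add_cancel_right]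

theorem extM_cons (A : Matrix (Fin (k + 2)) (Fin (k + 2)) F) (x : F) (r : Fin (k + 2) → F) :
    extM cE A *ᵥ Fin.cons x r = Fin.cons x (A *ᵥ r) := by
  have hc : ∀ s : Fin (k + 2) → F, incM F cE *ᵥ s = (Fin.cons 0 s : Fin (k + 3) → F) := fun s => by
    ext i
    cases i using Fin.cases with
    | zero => simp [incM, Matrix.mulVec, dotProduct, cE_apply, (Fin.succ_ne_zero _).symm]
    | succ a => simp [incM, Matrix.mulVec, dotProduct, cE_apply]
  have e : (Fin.cons x r : Fin (k + 3) → F) = x • bv 0 + incM F cE *ᵥ r := by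
    rw [hc]
    ext i
    cases i using Fin.cases <;> simp
  rw [e, Matrix.mulVec_add, Matrix.mulVec_smul, extM_mulVec_out cE A fun a => cE_ne a, extM,
    Matrix.add_mulVec, Matrix.one_mulVec, Matrix.mul_assoc, ← Matrix.mulVec_mulVec (incM F cE *ᵥ r),
    ← Matrix.mulVec_mulVec, Matrix.mulVec_mulVec _ (incM F cE)ᵀ, incM_tmul, Matrix.one_mulVec,
    ← Matrix.mulVec_add, Matrix.sub_mulVec, Matrix.one_mulVec, add_sub_cancel, hc]
  ext i
  cases i using Fin.cases <;> simp

theorem rowU_conj (N : Matrix.SpecialLinearGroup (Fin (k + 2)) F) (r : Fin (k + 2) → F) :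
    (extSL cE N)⁻¹ * rowU r * extSL cE N = rowU (r ᵥ* N.1) := by
  rw [← map_inv]
  refine Subtype.ext ?_
  show extM cE (N⁻¹).1 * (1 + vecMulVec (Pi.single 0 1) (Fin.cons 0 r)) * extM cE N.1 =
    1 + vecMulVec (Pi.single 0 1) (Fin.cons 0 (r ᵥ* N.1))
  rw [Matrix.mul_add, Matrix.add_mul, Matrix.mul_one, ← extM_mul, sval_inv_mul, extM_one, mul_vecMulVec,
    extM_mulVec_out cE _ fun a => cE_ne a, vecMulVec_mul, ← Matrix.mulVec_transpose, extM_transpose,
    extM_cons, Matrix.mulVec_transpose]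

/-- The first lower unipotent element. -/
def lo1 (F : Type*) [Field F] : Matrix.SpecialLinearGroup (Fin 2) F :=
  ⟨!![1, 0; 1, 1], by simp [Matrix.det_fin_two]⟩

/-- The transpose. -/
def sT {n : ℕ} (g : Matrix.SpecialLinearGroup (Fin n) F) : Matrix.SpecialLinearGroup (Fin n) F :=
  ⟨g.1ᵀ, by rw [det_transpose, g.2]⟩

/-- Every row element is a conjugate of the first one. -/
theorem rowU_conj_std {r : Fin (k + 2) → F} (hr : r ≠ 0) :
    ∃ N : Matrix.SpecialLinearGroup (Fin (k + 2)) F,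
      (extSL cE N)⁻¹ * extSL qE (lo1 F) * extSL cE N = rowU r := by
  obtain ⟨g, hg⟩ := exists_col (F := F) (n := k) 0 hr
  refine ⟨sT g, ?_⟩
  have e : extSL (qE (k := k)) (lo1 F) = rowU (Pi.single 0 1) := by
    refine Subtype.ext ?_
    rw [rowU_single, extSL_val]
    show extM qE (!![1, 0; 1, 1] : Matrix (Fin 2) (Fin 2) F) = _
    rw [show (!![1, 0; 1, 1] : Matrix (Fin 2) (Fin 2) F) = Matrix.transvection 1 0 1 by
      ext i j; fin_cases i <;> fin_cases j <;> simp [Matrix.transvection], extM_transvection]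
    rfl
  rw [e, rowU_conj]
  congr 1
  show Pi.single 0 1 ᵥ* g.1ᵀ = r
  rw [vecMul_transpose, hg]

/-- The transvection used in the gluing relation. -/
def tv21 (k : ℕ) (F : Type*) [Field F] : Matrix.SpecialLinearGroup (Fin (k + 3)) F :=
  Matrix.SpecialLinearGroup.transvection (show (2 : Fin (k + 3)) ≠ 1 by
    simp [Fin.ext_iff, Nat.mod_eq_of_lt (show 2 < k + 3 by omega)]) 1

/-- The symmetric matrix of the short root. -/
def yS (F : Type*) [Field F] : Matrix (Fin 2) (Fin 2) F := !![0, 1; 1, 0]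

/-- The gluing relation. -/
def RelR {G : Type*} [Group G] (Φ : Matrix.symplecticGroup (Fin 2) F →* G)
    (j : Matrix.SpecialLinearGroup (Fin (k + 3)) F →* G) : Prop :=
  ∃ σ : Matrix.SpecialLinearGroup (Fin (k + 2)) F, σ.1 *ᵥ Pi.single 0 1 = Pi.single 1 1 ∧
    j (tv21 k F) * Φ (uPs (yS F)) * (j (tv21 k F))⁻¹ =
      Φ (uPs (yS F)) * (j (extSL cE σ) * Φ (uPs (yS F)) * (j (extSL cE σ))⁻¹)

/-- The gluing relation for the opposite subgroup. -/
def RelR' {G : Type*} [Group G] (Φ : Matrix.symplecticGroup (Fin 2) F →* G)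
    (j : Matrix.SpecialLinearGroup (Fin (k + 3)) F →* G) : Prop :=
  ∃ σ : Matrix.SpecialLinearGroup (Fin (k + 2)) F, σ.1 *ᵥ Pi.single 0 1 = Pi.single 1 1 ∧
    j (tinv (tv21 k F)) * Φ (cJ (uPs (yS F))) * (j (tinv (tv21 k F)))⁻¹ =
      Φ (cJ (uPs (yS F))) *
        (j (tinv (extSL cE σ)) * Φ (cJ (uPs (yS F))) * (j (tinv (extSL cE σ)))⁻¹)

/-- A group over `Sp_{2n}` with the gluing relations. -/
structure SpData (k : ℕ) (F : Type*) [Field F] [Fintype F] (G : Type*) [Group G] where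
  Φ : Matrix.symplecticGroup (Fin 2) F →* G
  j : Matrix.SpecialLinearGroup (Fin (k + 3)) F →* G
  π : G →* Matrix.symplecticGroup (Fin (k + 3)) F
  Φj : ∀ A : Matrix.SpecialLinearGroup (Fin 2) F, Φ (lev A) = j (extSL qE A)
  cen : ∀ (N : Matrix.SpecialLinearGroup (Fin (k + 2)) F) (x : Matrix.SpecialLinearGroup (Fin 2) F),
    Commute (j (extSL cE N)) (Φ (Sp4Pres.emB x))
  R : RelR Φ j
  R' : RelR' Φ j
  πΦ : ∀ x, π (Φ x) = extSp qE x
  πj : ∀ A, π (j A) = lev A

namespace SpData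

variable {G : Type*} [Group G] (D : SpData k F G)

/-- The opposite data. -/
def dual : SpData k F G where
  Φ := D.Φ.comp cJ
  j := D.j.comp tinv
  π := cJ.comp D.π
  Φj A := by simp only [MonoidHom.comp_apply, cJ_lev, D.Φj, tinv_extSL]
  cen N x := by simp only [MonoidHom.comp_apply, tinv_extSL, cJ_emB]; exact D.cen _ _
  R := by
    obtain ⟨σ, h, e⟩ := D.R'
    exact ⟨σ, h, e⟩
  R' := by
    obtain ⟨σ, h, e⟩ := D.R
    exact ⟨σ, h, by simpa only [MonoidHom.comp_apply, cJ_cJ, tinv_tinv] using e⟩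
  πΦ x := by simp only [MonoidHom.comp_apply, D.πΦ, cJ_extSp, cJ_cJ]
  πj A := by simp only [MonoidHom.comp_apply, D.πj, cJ_lev, tinv_tinv]

/-- The long root subgroup of the first index. -/
def P0 (t : F) : G := D.Φ (Sp4Pres.emB (slU t))

/-- Conjugation by an element of the Levi factor. -/
def cj (M : Matrix.SpecialLinearGroup (Fin (k + 3)) F) : G →* G := (MulAut.conj (D.j M)).toMonoidHom

theorem cj_apply (M : Matrix.SpecialLinearGroup (Fin (k + 3)) F) (x : G) :
    D.cj M x = D.j M * x * (D.j M)⁻¹ := rfl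

theorem cj_mul (M N : Matrix.SpecialLinearGroup (Fin (k + 3)) F) (x : G) :
    D.cj (M * N) x = D.cj M (D.cj N x) := by
  simp only [cj_apply, map_mul]; group

theorem cj_one (x : G) : D.cj 1 x = x := by simp [cj_apply]

theorem P0_eq (t : F) :
    D.P0 t = D.Φ (uPs (t • vecMulVec (Pi.single 1 1) (Pi.single 1 1) : Matrix (Fin 2) (Fin 2) F)) := by
  rw [P0, emB_slU]

theorem P0_add (s t : F) : D.P0 s * D.P0 t = D.P0 (s + t) := by
  rw [P0, P0, P0, ← map_mul, ← map_mul, ← slU_add]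

theorem P0_zero : D.P0 0 = 1 := by rw [P0, slU_zero, map_one, map_one]

theorem P0_stab {M : Matrix.SpecialLinearGroup (Fin (k + 3)) F} (hM : M.1 *ᵥ bv 0 = bv 0) (t : F) :
    D.cj M (D.P0 t) = D.P0 t := by
  obtain ⟨r, N, rfl⟩ := stab_decomp hM
  have hN : ∀ N, D.cj (extSL cE N) (D.P0 t) = D.P0 t := fun N => by
    rw [cj_apply, P0, (D.cen N (slU t)).eq, mul_inv_cancel_right]
  rw [cj_mul, hN]
  rcases eq_or_ne r 0 with rfl | hr
  · rw [rowU_zero, cj_one]
  obtain ⟨N', hN'⟩ := rowU_conj_std hr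
  rw [← hN', cj_mul, cj_mul, hN, ← map_inv (extSL cE) N']
  set A : SL2 := lo1 F with hAdef
  have hA : D.cj (extSL qE A) (D.P0 t) = D.P0 t := by
    rw [cj_apply, ← D.Φj, P0_eq, ← map_inv, ← map_mul, ← map_mul, lev_uPs A (vv_sym _ _), conj_vecMulVec]
    have : A.1 *ᵥ (Pi.single 1 1 : Fin 2 → F) = Pi.single 1 1 := by
      ext i; fin_cases i <;> simp [hAdef, lo1]
    rw [this]
  rw [hA, hN]

open scoped _root_.Classical in
/-- The root element of a transvection in a Lagrangian subspace. -/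
noncomputable def T (v : Fin (k + 3) → F) (t : F) : G :=
  if h : v = 0 then 1 else D.cj (_root_.Classical.choose (exists_col (n := k + 1) 0 h)) (D.P0 t)

theorem T_of_zero (t : F) : D.T 0 t = 1 := by rw [T, dif_pos rfl]

theorem col_ne (M : Matrix.SpecialLinearGroup (Fin (k + 3)) F) (a : Fin (k + 3)) :
    M.1 *ᵥ bv a ≠ 0 := by
  intro h
  have := congrArg (fun v => (M⁻¹).1 *ᵥ v) h
  simp only [inv_mulVec, Matrix.mulVec_zero] at this
  simpa using congrFun this a

theorem T_col (M : Matrix.SpecialLinearGroup (Fin (k + 3)) F) (t : F) :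
    D.T (M.1 *ᵥ bv 0) t = D.cj M (D.P0 t) := by
  have h := col_ne M 0
  rw [T, dif_neg h]
  have hc := _root_.Classical.choose_spec (exists_col (n := k + 1) 0 h)
  set K := _root_.Classical.choose (exists_col (n := k + 1) 0 h)
  have : D.cj (M⁻¹ * K) (D.P0 t) = D.P0 t :=
    D.P0_stab (by rw [sval_mul, ← Matrix.mulVec_mulVec, hc, inv_mulVec]) t
  conv_rhs => rw [← this, ← cj_mul, mul_inv_cancel_left]

theorem T_base (t : F) : D.T (bv 0) t = D.P0 t := by
  have := D.T_col 1 t
  rwa [sval_one, Matrix.one_mulVec, cj_one] at this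

theorem cj_T (M : Matrix.SpecialLinearGroup (Fin (k + 3)) F) (v : Fin (k + 3) → F) (t : F) :
    D.cj M (D.T v t) = D.T (M.1 *ᵥ v) t := by
  rcases eq_or_ne v 0 with rfl | hv
  · rw [Matrix.mulVec_zero, T_of_zero, map_one]
  obtain ⟨K, rfl⟩ := exists_col (n := k + 1) 0 hv
  rw [T_col, ← cj_mul, Matrix.mulVec_mulVec, ← sval_mul, T_col]

theorem Φ_square (u : Fin 2 → F) (t : F) :
    D.Φ (uPs (t • vecMulVec u u)) = D.T (incM F qE *ᵥ u) t := by
  rcases eq_or_ne u 0 with rfl | hu
  · rw [Matrix.mulVec_zero, T_of_zero, zero_vecMulVec, smul_zero, uPs_zero, map_one]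
  obtain ⟨A, rfl⟩ := exists_col (F := F) (n := 0) 1 hu
  rw [← conj_vecMulVec, ← lev_uPs A (vv_sym _ _), map_mul, map_mul, map_inv, D.Φj, ← P0_eq,
    ← extM_mulVec, qE_one, ← extSL_val, T_col, cj_apply]

theorem T_add (v : Fin (k + 3) → F) (s t : F) : D.T v s * D.T v t = D.T v (s + t) := by
  rcases eq_or_ne v 0 with rfl | hv
  · simp [T_of_zero]
  obtain ⟨M, rfl⟩ := exists_col (n := k + 1) 0 hv
  rw [T_col, T_col, T_col, ← map_mul, P0_add]

theorem T_zero (v : Fin (k + 3) → F) : D.T v 0 = 1 := by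
  simpa using D.T_add v 0 0

/-- The image of a symmetric `2 × 2` matrix, moved by an element of the Levi factor. -/
noncomputable def ΦM (M : Matrix.SpecialLinearGroup (Fin (k + 3)) F) (S : Matrix (Fin 2) (Fin 2) F) : G :=
  D.cj M (D.Φ (uPs S))

theorem ΦM_add (M : Matrix.SpecialLinearGroup (Fin (k + 3)) F) {S S' : Matrix (Fin 2) (Fin 2) F}
    (hS : Sᵀ = S) (hS' : S'ᵀ = S') : D.ΦM M (S + S') = D.ΦM M S * D.ΦM M S' := by
  rw [ΦM, ΦM, ΦM, uPs_add hS hS', map_mul, map_mul]

theorem TM (M : Matrix.SpecialLinearGroup (Fin (k + 3)) F) (u : Fin 2 → F) (t : F) :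
    D.ΦM M (t • vecMulVec u u) = D.T (u 1 • (M.1 *ᵥ bv 0) + u 0 • (M.1 *ᵥ bv 1)) t := by
  rw [ΦM, Φ_square, cj_T, qvec, Matrix.mulVec_add, Matrix.mulVec_smul, Matrix.mulVec_smul]

theorem T_smul (c : F) (v : Fin (k + 3) → F) (t : F) : D.T (c • v) t = D.T v (c ^ 2 * t) := by
  rcases eq_or_ne v 0 with rfl | hv
  · simp [T_of_zero]
  obtain ⟨M, rfl⟩ := exists_col (n := k + 1) 0 hv
  have h1 := D.TM M ![0, c] t
  have h2 := D.TM M ![0, 1] (c ^ 2 * t)
  simp only [Matrix.cons_val_zero, Matrix.cons_val_one, zero_smul, add_zero, one_smul] at h1 h2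
  rw [← h1, ← h2]
  congr 1
  ext i j; fin_cases i <;> fin_cases j <;> simp [vecMulVec_apply]
  ring

/-- Two vectors are dependent or the first two columns of an element of `SL`. -/
theorem pair_cases {v : Fin (k + 3) → F} (hv : v ≠ 0) (w : Fin (k + 3) → F) :
    (∃ c : F, w = c • v) ∨
      ∃ M : Matrix.SpecialLinearGroup (Fin (k + 3)) F, M.1 *ᵥ bv 0 = v ∧ M.1 *ᵥ bv 1 = w := by
  obtain ⟨K, rfl⟩ := exists_col (n := k + 1) 0 hv
  have hw : K.1 *ᵥ ((K⁻¹).1 *ᵥ w) = w := mulVec_inv K w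
  set w' := (K⁻¹).1 *ᵥ w
  rcases eq_or_ne (Fin.tail w') 0 with ht | ht
  · refine Or.inl ⟨w' 0, ?_⟩
    rw [← hw, ← Matrix.mulVec_smul]
    congr 1
    ext i
    cases i using Fin.cases with
    | zero => simp
    | succ a => simpa [Fin.tail, (Fin.succ_ne_zero a)] using congrFun ht a
  · right
    obtain ⟨N, hN⟩ := exists_col (n := k) 0 ht
    obtain ⟨b, hb⟩ := Function.ne_iff.1 ht
    refine ⟨K * (rowU (Pi.single b (w' 0 / Fin.tail w' b)) * extSL cE N), ?_, ?_⟩
    · rw [sval_mul, sval_mul, ← Matrix.mulVec_mulVec, ← Matrix.mulVec_mulVec, extSL_val,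
        extM_mulVec_out cE _ fun a => cE_ne a, rowU_mulVec]
      simp [Fin.tail_def, dotProduct]
    · rw [sval_mul, sval_mul, ← Matrix.mulVec_mulVec, ← Matrix.mulVec_mulVec, extSL_val,
        show bv 1 = (Fin.cons 0 (Pi.single 0 1) : Fin (k + 3) → F) from (tail_single_succ 0 1).symm,
        extM_cons, hN, rowU_mulVec]
      conv_rhs => rw [← hw]
      congr 1
      ext i
      cases i using Fin.cases with
      | zero => simp at hb ⊢; field_simp
      | succ a => simp [Fin.tail]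

theorem T_comm (v w : Fin (k + 3) → F) (s t : F) : D.T v s * D.T w t = D.T w t * D.T v s := by
  rcases eq_or_ne v 0 with rfl | hv
  · simp [T_of_zero]
  rcases pair_cases hv w with ⟨c, rfl⟩ | ⟨M, rfl, rfl⟩
  · rw [T_smul, T_add, T_add, add_comm]
  · have h1 := D.TM M ![0, 1] s
    have h2 := D.TM M ![1, 0] t
    simp only [Matrix.cons_val_zero, Matrix.cons_val_one, zero_smul, add_zero, zero_add, one_smul] at h1 h2
    rw [← h1, ← h2, ← D.ΦM_add M (vv_sym _ _) (vv_sym _ _), ← D.ΦM_add M (vv_sym _ _) (vv_sym _ _),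
      add_comm]

/-- The polarisation of `T`. -/
noncomputable def B (v w : Fin (k + 3) → F) (t : F) : G := D.T (v + w) t * D.T v (-t) * D.T w (-t)

theorem cj_B (M : Matrix.SpecialLinearGroup (Fin (k + 3)) F) (v w : Fin (k + 3) → F) (t : F) :
    D.cj M (D.B v w t) = D.B (M.1 *ᵥ v) (M.1 *ᵥ w) t := by
  simp only [B, map_mul, cj_T, Matrix.mulVec_add]

theorem B_symm (v w : Fin (k + 3) → F) (t : F) : D.B v w t = D.B w v t := by
  rw [B, B, add_comm v w, mul_assoc, mul_assoc, D.T_comm v w]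

theorem B_zero (v w : Fin (k + 3) → F) : D.B v w 0 = 1 := by simp [B, T_zero]

/-- Products of root elements in a plane. -/
theorem B_comb (M : Matrix.SpecialLinearGroup (Fin (k + 3)) F) (p q : Fin 2 → F) (t : F) :
    D.B (p 1 • (M.1 *ᵥ bv 0) + p 0 • (M.1 *ᵥ bv 1)) (q 1 • (M.1 *ᵥ bv 0) + q 0 • (M.1 *ᵥ bv 1)) t =
      D.ΦM M (t • vecMulVec p q + t • vecMulVec q p) := by
  have e : (t • vecMulVec p q + t • vecMulVec q p : Matrix (Fin 2) (Fin 2) F) =
      t • vecMulVec (p + q) (p + q) + (-t) • vecMulVec p p + (-t) • vecMulVec q q := by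
    ext i j; simp [vecMulVec_apply]; ring
  rw [e, D.ΦM_add M (by rw [transpose_add, vv_sym, vv_sym]) (vv_sym _ _),
    D.ΦM_add M (vv_sym _ _) (vv_sym _ _), TM, TM, TM, B]
  simp only [Pi.add_apply, add_smul]
  rw [add_add_add_comm]

theorem B_scale (M : Matrix.SpecialLinearGroup (Fin (k + 3)) F) (a b t : F) :
    D.B (a • (M.1 *ᵥ bv 0)) (b • (M.1 *ᵥ bv 1)) t = D.B (M.1 *ᵥ bv 0) (M.1 *ᵥ bv 1) (a * b * t) := by
  have h1 := D.B_comb M ![0, a] ![b, 0] t
  have h2 := D.B_comb M ![0, 1] ![1, 0] (a * b * t)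
  simp only [Matrix.cons_val_zero, Matrix.cons_val_one, zero_smul, add_zero, zero_add, one_smul] at h1 h2
  rw [h1, h2]
  congr 1
  ext i j; fin_cases i <;> fin_cases j <;> simp [vecMulVec_apply] <;> ring

theorem B_shear (M : Matrix.SpecialLinearGroup (Fin (k + 3)) F) (r t : F) :
    D.B (M.1 *ᵥ bv 0) (M.1 *ᵥ bv 1 + r • (M.1 *ᵥ bv 0)) t =
      D.B (M.1 *ᵥ bv 0) (M.1 *ᵥ bv 1) t * D.T (M.1 *ᵥ bv 0) (2 * r * t) := by
  have h1 := D.B_comb M ![0, 1] ![1, r] t
  have h2 := D.B_comb M ![0, 1] ![1, 0] t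
  have h3 := D.TM M ![0, 1] (2 * r * t)
  simp only [Matrix.cons_val_zero, Matrix.cons_val_one, zero_smul, add_zero, zero_add, one_smul] at h1 h2 h3
  rw [add_comm (M.1 *ᵥ bv 1), h1, h2, ← h3, ← D.ΦM_add M ?_ (vv_sym _ _)]
  · congr 1
    ext i j; fin_cases i <;> fin_cases j <;> simp [vecMulVec_apply] <;> ring
  · rw [transpose_add, transpose_smul, transpose_smul, transpose_vecMulVec, transpose_vecMulVec, add_comm]

theorem quad (M : Matrix.SpecialLinearGroup (Fin (k + 3)) F) (r t : F) :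
    D.T (M.1 *ᵥ bv 0 + r • (M.1 *ᵥ bv 1)) t = D.T (M.1 *ᵥ bv 0) t * D.T (M.1 *ᵥ bv 1) (r ^ 2 * t) *
      D.B (M.1 *ᵥ bv 0) (M.1 *ᵥ bv 1) (r * t) := by
  have h := D.TM M ![r, 1] t
  have h1 := D.TM M ![0, 1] t
  have h2 := D.TM M ![1, 0] (r ^ 2 * t)
  have h3 := D.B_comb M ![0, 1] ![1, 0] (r * t)
  simp only [Matrix.cons_val_zero, Matrix.cons_val_one, zero_smul, add_zero, zero_add, one_smul] at h h1 h2 h3
  rw [← h, ← h1, ← h2, h3, ← D.ΦM_add M (vv_sym _ _) (vv_sym _ _),
    ← D.ΦM_add M (by rw [transpose_add, vv_sym, vv_sym]) ?_]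
  · congr 1
    ext i j; fin_cases i <;> fin_cases j <;> simp [vecMulVec_apply] <;> ring
  · rw [transpose_add, transpose_smul, transpose_smul, transpose_vecMulVec, transpose_vecMulVec, add_comm]

theorem exists_pair {a b : Fin (k + 3)} (hab : a ≠ b) (w : Fin (k + 3) → F) (hw : w b ≠ 0) :
    ∃ M : Matrix.SpecialLinearGroup (Fin (k + 3)) F, M.1 *ᵥ bv 0 = bv a ∧ M.1 *ᵥ bv 1 = w := by
  rcases pair_cases (v := bv a) (by simp) w with ⟨c, rfl⟩ | h
  · simp [hab.symm] at hw
  · exact h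

theorem exists_monomial {a b c : Fin (k + 3)} (hab : a ≠ b) (hac : a ≠ c) (hbc : b ≠ c) {x y z : F}
    (hx : x ≠ 0) (hy : y ≠ 0) (hz : z ≠ 0) :
    ∃ (M : Matrix.SpecialLinearGroup (Fin (k + 3)) F) (u : F), u ≠ 0 ∧
      M.1 *ᵥ bv 0 = (x * u) • bv a ∧ M.1 *ᵥ bv 1 = (y / u) • bv b ∧ M.1 *ᵥ bv 2 = (z / u) • bv c := by
  have h01 : (0 : Fin (k + 3)) ≠ 1 := by simp
  have h02 : (0 : Fin (k + 3)) ≠ 2 := by simp [Fin.ext_iff, Nat.mod_eq_of_lt (show 2 < k + 3 by omega)]
  have h12 : (1 : Fin (k + 3)) ≠ 2 := by simp [Fin.ext_iff, Nat.mod_eq_of_lt (show 2 < k + 3 by omega)]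
  obtain ⟨π, h0, h1, h2⟩ : ∃ π : Equiv.Perm (Fin (k + 3)), π 0 = a ∧ π 1 = b ∧ π 2 = c := by
    let f : Fin 3 → Fin (k + 3) := ![0, 1, 2]
    let g : Fin 3 → Fin (k + 3) := ![a, b, c]
    have hf : Function.Injective f := by
      intro i j; fin_cases i <;> fin_cases j <;> simp [f, h01, h01.symm, h02, h02.symm, h12, h12.symm]
    have hg : Function.Injective g := by
      intro i j; fin_cases i <;> fin_cases j <;> simp [g, hab, hab.symm, hac, hac.symm, hbc, hbc.symm]
    obtain ⟨e, he⟩ : ∃ e : Equiv.Perm (Fin (k + 3)), ∀ i, e (f i) = g i :=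
      ⟨(Equiv.ofInjective f hf).symm.trans (Equiv.ofInjective g hg) |>.extendSubtype, fun i => by
        rw [Equiv.extendSubtype_apply_of_mem _ _ (Set.mem_range_self i)]
        simp⟩
    exact ⟨e, he 0, he 1, he 2⟩
  obtain ⟨s, hs, hsd⟩ : ∃ s : F, s * s = 1 ∧ ((Equiv.Perm.sign π⁻¹ : ℤˣ) : F) = s := ⟨_, by
    rcases Int.units_eq_one_or (Equiv.Perm.sign π⁻¹) with h | h <;> simp [h], rfl⟩
  have hs0 : s ≠ 0 := fun e => by simp [e] at hs
  refine ⟨⟨(Matrix.diagonal fun i => (if i = 0 then x * (x * y * z * s) else 1) *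
      (if i = 1 then y / (x * y * z * s) else 1) * if i = 2 then z / (x * y * z * s) else 1).submatrix
      (π⁻¹ : Equiv.Perm (Fin (k + 3))) id, ?_⟩, x * y * z * s, by simp [hx, hy, hz, hs0], ?_, ?_, ?_⟩
  · rw [Matrix.det_permute, Matrix.det_diagonal, Finset.prod_mul_distrib, Finset.prod_mul_distrib,
      Finset.prod_ite_eq' Finset.univ, Finset.prod_ite_eq' Finset.univ, Finset.prod_ite_eq' Finset.univ, hsd]
    simp only [Finset.mem_univ, if_true]
    field_simp
    try linear_combination hs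
  all_goals
    ext i
    simp only [Matrix.mulVec_single_one, Matrix.col_apply, Matrix.submatrix_apply, id, Matrix.diagonal_apply,
      Pi.smul_apply, Pi.single_apply, smul_eq_mul]
    simp only [Equiv.Perm.inv_def, Equiv.symm_apply_eq, h0, h1, h2]
    split_ifs with h <;> simp_all [h01.symm, h02.symm, h12.symm]

theorem extc_mulVec (σ : Matrix.SpecialLinearGroup (Fin (k + 2)) F) (b : Fin (k + 2)) :
    (extSL cE σ).1 *ᵥ bv b.succ = Fin.cons 0 (σ.1 *ᵥ Pi.single b 1) := by
  rw [extSL_val, show bv b.succ = (Fin.cons 0 (Pi.single b 1) : Fin (k + 3) → F) from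
    (tail_single_succ b 1).symm, extM_cons]

theorem B_linear {a b c : Fin (k + 3)} (hab : a ≠ b) (hac : a ≠ c) (hbc : b ≠ c) (r t : F) :
    D.B (bv a) (bv b + r • bv c) t = D.B (bv a) (bv b) t * D.B (bv a) (bv c) (r * t) := by
  rcases eq_or_ne r 0 with rfl | hr
  · simp [B_zero]
  rcases eq_or_ne t 0 with rfl | ht
  · simp [B_zero]
  have hu : D.B (bv 0) (bv 1 + bv 2) 1 = D.B (bv 0) (bv 1) 1 * D.B (bv 0) (bv 2) 1 := by
    obtain ⟨σ, hσ, hR⟩ := D.R
    have hY : D.Φ (uPs (yS F)) = D.B (bv 0) (bv 1) 1 := by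
      have := D.B_comb 1 ![0, 1] ![1, 0] 1
      simp only [Matrix.cons_val_zero, Matrix.cons_val_one, zero_smul, add_zero, zero_add, one_smul,
        sval_one, Matrix.one_mulVec] at this
      rw [this, ΦM, cj_one]
      congr 2
      ext i j; fin_cases i <;> fin_cases j <;> simp [yS, vecMulVec_apply]
    rw [hY, ← cj_apply, ← cj_apply, cj_B, cj_B] at hR
    have h20 : (tv21 k F).1 *ᵥ bv 0 = bv 0 := by
      show Matrix.transvection (2 : Fin (k + 3)) 1 (1 : F) *ᵥ bv 0 = _
      ext i; simp [Matrix.transvection, Matrix.add_mulVec, Matrix.single_mulVec, Matrix.one_apply, Pi.single_apply, Matrix.single_apply]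
    have h21 : (tv21 k F).1 *ᵥ bv 1 = bv 1 + bv 2 := by
      show Matrix.transvection (2 : Fin (k + 3)) 1 (1 : F) *ᵥ bv 1 = _
      ext i; simp [Matrix.transvection, Matrix.add_mulVec, Matrix.single_mulVec, Matrix.one_apply, Pi.single_apply, Matrix.single_apply, eq_comm]
    have hs0 : (extSL cE σ).1 *ᵥ bv 0 = bv 0 := by
      rw [extSL_val, extM_mulVec_out cE _ fun a => cE_ne a]
    have hs1 : (extSL cE σ).1 *ᵥ bv 1 = bv 2 := by
      rw [show (1 : Fin (k + 3)) = (0 : Fin (k + 2)).succ from rfl, extc_mulVec, hσ, tail_single_succ]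
      rfl
    rwa [h20, h21, hs0, hs1] at hR
  obtain ⟨M, u, hu0, m0, m1, m2⟩ := exists_monomial hab hac hbc ht (one_ne_zero (α := F)) hr
  have h := congrArg (D.cj M) hu
  rw [map_mul, cj_B, cj_B, cj_B, Matrix.mulVec_add, m0, m1, m2] at h
  obtain ⟨K, k0, k1⟩ := exists_pair (F := F) hab (bv b + r • bv c) (by simp [hbc])
  obtain ⟨K', k0', k1'⟩ := exists_pair (F := F) hab (bv b) (by simp)
  obtain ⟨K'', k0'', k1''⟩ := exists_pair (F := F) hac (bv c) (by simp)
  have e1 := D.B_scale K (t * u) u⁻¹ 1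
  have e2 := D.B_scale K' (t * u) u⁻¹ 1
  have e3 := D.B_scale K'' (t * u) (r * u⁻¹) 1
  rw [k0, k1, smul_add, smul_smul] at e1
  rw [k0', k1'] at e2
  rw [k0'', k1''] at e3
  rw [one_div, show r / u = u⁻¹ * r by ring, e1, e2, show u⁻¹ * r = r * u⁻¹ by ring, e3] at h
  rw [show t * u * u⁻¹ * 1 = t by field_simp, show t * u * (r * u⁻¹) * 1 = r * t by field_simp] at h
  exact h

/-- The commutative subgroup of the root elements. -/
def TA : Subgroup G := Subgroup.closure (Set.range fun x : (Fin (k + 3) → F) × F => D.T x.1 x.2)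

noncomputable instance : CommGroup ↥D.TA :=
  { (inferInstance : Group ↥D.TA) with
    mul_comm := (Subgroup.closureCommGroupOfComm
      (k := Set.range fun x : (Fin (k + 3) → F) × F => D.T x.1 x.2)
      (by rintro _ ⟨x, rfl⟩ _ ⟨y, rfl⟩; exact D.T_comm _ _ _ _)).mul_comm }

/-- `T` inside the commutative subgroup. -/
noncomputable def T' (v : Fin (k + 3) → F) (t : F) : ↥D.TA :=
  ⟨D.T v t, Subgroup.subset_closure ⟨(v, t), rfl⟩⟩

theorem T'_add (v : Fin (k + 3) → F) (s t : F) : D.T' v (s + t) = D.T' v s * D.T' v t :=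
  Subtype.ext (D.T_add v s t).symm

/-- One factor of the unipotent element of a symmetric matrix. -/
noncomputable def term (S : Matrix (Fin (k + 3)) (Fin (k + 3)) F) (a b : Fin (k + 3)) : ↥D.TA :=
  if a = b then D.T' (bv a) (S a a)
  else if a < b then D.T' (bv a + bv b) (S a b) * D.T' (bv a) (-S a b) * D.T' (bv b) (-S a b) else 1

/-- The unipotent element of a symmetric matrix. -/
noncomputable def uP (S : Matrix (Fin (k + 3)) (Fin (k + 3)) F) : G :=
  ((∏ a, ∏ b, D.term S a b : ↥D.TA) : G)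

theorem uP_add (S S' : Matrix (Fin (k + 3)) (Fin (k + 3)) F) : D.uP (S + S') = D.uP S * D.uP S' := by
  rw [uP, uP, uP, ← Subgroup.coe_mul]
  refine congrArg Subtype.val ?_
  refine (Finset.prod_congr rfl fun a _ => ?_).trans Finset.prod_mul_distrib
  refine (Finset.prod_congr rfl fun b _ => ?_).trans Finset.prod_mul_distrib
  simp only [term, Matrix.add_apply]
  split_ifs
  · exact D.T'_add _ _ _
  · rw [D.T'_add, neg_add, D.T'_add, D.T'_add]
    ac_rfl
  · rw [mul_one]

theorem uP_zero : D.uP 0 = 1 := by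
  simpa using D.uP_add 0 0

theorem term_zero (a b : Fin (k + 3)) {S : Matrix (Fin (k + 3)) (Fin (k + 3)) F} (h : S a b = 0) :
    D.term S a b = 1 := by
  have h0 : ∀ v, D.T' v 0 = 1 := fun v => Subtype.ext (D.T_zero v)
  simp only [term]
  split_ifs with h1 h2
  · subst h1; rw [h, h0]
  · simp [h, h0]
  · rfl

theorem uP_diag (a : Fin (k + 3)) (t : F) : D.uP (Matrix.single a a t) = D.T (bv a) t := by
  rw [uP, Fintype.prod_eq_single a, Fintype.prod_eq_single a]
  · simp [term, T']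
  · intro b hb
    exact D.term_zero _ _ (Matrix.single_apply_of_ne (h := fun e => hb e.2.symm) ..)
  · intro b hb
    exact Finset.prod_eq_one fun c _ => D.term_zero _ _ (Matrix.single_apply_of_ne (h := fun e => hb e.1.symm) ..)

theorem uP_pair {a b : Fin (k + 3)} (hab : a ≠ b) (t : F) :
    D.uP (Matrix.single a b t + Matrix.single b a t) = D.B (bv a) (bv b) t := by
  wlog h : a < b generalizing a b
  · rw [add_comm, this hab.symm (lt_of_le_of_ne (not_lt.1 h) hab.symm), B_symm]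
  have hz : ∀ c d, ¬ (a = c ∧ b = d) → ¬ (b = c ∧ a = d) →
      (Matrix.single a b t + Matrix.single b a t) c d = 0 := fun c d h1 h2 => by
    rw [Matrix.add_apply, Matrix.single_apply_of_ne (h := h1), Matrix.single_apply_of_ne (h := h2), add_zero]
  rw [uP, Fintype.prod_eq_single a, Fintype.prod_eq_single b]
  · simp [term, T', B, hab, h, Matrix.add_apply, hab.symm]
  · intro c hc
    exact D.term_zero _ _ (hz _ _ (fun e => hc e.2.symm) fun e => hab e.1.symm)
  · intro c hc
    refine Finset.prod_eq_one fun d _ => ?_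
    by_cases he : b = c ∧ a = d
    · obtain ⟨rfl, rfl⟩ := he
      simp [term, hab.symm, h.not_gt]
      try rfl
    · exact D.term_zero _ _ (hz _ _ (fun e => hc e.1.symm) he)

theorem cj_uP_transvection {c d : Fin (k + 3)} (hcd : c ≠ d) (r : F)
    {S : Matrix (Fin (k + 3)) (Fin (k + 3)) F} (hS : Sᵀ = S) :
    D.cj (Matrix.SpecialLinearGroup.transvection hcd r) (D.uP S) =
      D.uP (Matrix.transvection c d r * S * (Matrix.transvection c d r)ᵀ) := by
  set M : Matrix.SpecialLinearGroup (Fin (k + 3)) F := Matrix.SpecialLinearGroup.transvection hcd r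
  set E := Matrix.transvection c d r with hE
  have hM : M.1 = E := rfl
  have hv : ∀ a, E *ᵥ bv a = if a = d then bv d + r • bv c else bv a := fun a => by
    rw [hE, Matrix.transvection, Matrix.add_mulVec, Matrix.one_mulVec]
    split_ifs with h
    · subst h
      ext i; simp [Matrix.single_mulVec, Pi.single_apply, Matrix.single_apply, eq_comm]
    · ext i; simp [Matrix.single_mulVec, Ne.symm h]
  refine symm_induction (P := fun S => D.cj M (D.uP S) = D.uP (E * S * Eᵀ)) ?_ ?_ ?_ ?_ hS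
  · simp [uP_zero]
  · intro S T _ _ hS hT
    simp only [Matrix.mul_add, Matrix.add_mul, uP_add, map_mul, hS, hT]
  · intro a t
    have e : Matrix.single a a t = t • vecMulVec (bv a) (bv a) := by
      rw [← Matrix.single_eq_single_vecMulVec_single, Matrix.smul_single, smul_eq_mul, mul_one]
    rw [uP_diag, cj_T, hM, e, conj_vecMulVec, hv]
    split_ifs with h
    · subst h
      obtain ⟨K, k0, k1⟩ := exists_pair (F := F) hcd.symm (bv c) (by simp)
      rw [← k0, ← k1, D.quad K, k0, k1, ← uP_diag, ← uP_diag, ← D.uP_pair hcd.symm, ← uP_add, ← uP_add]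
      congr 1
      simp only [add_vecMulVec, vecMulVec_add, smul_vecMulVec, vecMulVec_smul, smul_add, smul_smul,
        ← Matrix.single_eq_single_vecMulVec_single, Matrix.smul_single, smul_eq_mul, mul_one, two_mul,
        add_mul, Matrix.single_add]
      ring_nf
      abel
    · rw [← e, uP_diag]
  · intro a b t hab
    have key : ∀ a b, a ≠ b → a ≠ d → D.cj M (D.B (bv a) (bv b) t) =
        D.uP (E * (Matrix.single a b t + Matrix.single b a t) * Eᵀ) := by
      intro a b hab had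
      have e : Matrix.single a b t + Matrix.single b a t =
          t • vecMulVec (bv a) (bv b) + t • vecMulVec (bv b) (bv a) := by
        rw [← Matrix.single_eq_single_vecMulVec_single, ← Matrix.single_eq_single_vecMulVec_single,
          Matrix.smul_single, Matrix.smul_single, smul_eq_mul, mul_one]
      rw [cj_B, hM, hv, hv, if_neg had, e, Matrix.mul_add, Matrix.add_mul, Matrix.mul_smul, Matrix.mul_smul,
        Matrix.smul_mul, Matrix.smul_mul, mul_vecMulVec, mul_vecMulVec, vecMulVec_mul, vecMulVec_mul,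
        vecMul_transpose, vecMul_transpose, hv, hv, if_neg had]
      split_ifs with hbd
      · subst hbd
        rcases eq_or_ne c a with rfl | hca
        · obtain ⟨K, k0, k1⟩ := exists_pair (F := F) hab (bv b) (by simp)
          rw [← k0, ← k1, D.B_shear K, k0, k1, ← D.uP_pair hab, ← uP_diag, ← uP_add]
          congr 1
          simp only [add_vecMulVec, vecMulVec_add, smul_vecMulVec, vecMulVec_smul, smul_add, smul_smul,
            ← Matrix.single_eq_single_vecMulVec_single, Matrix.smul_single, smul_eq_mul, mul_one, two_mul,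
            add_mul, Matrix.single_add]
          ring_nf
          abel
        · rw [D.B_linear hab hca.symm hcd.symm, ← D.uP_pair hab, ← D.uP_pair hca.symm, ← uP_add]
          congr 1
          simp only [add_vecMulVec, vecMulVec_add, smul_vecMulVec, vecMulVec_smul, smul_add, smul_smul,
            ← Matrix.single_eq_single_vecMulVec_single, Matrix.smul_single, smul_eq_mul, mul_one, two_mul,
            add_mul, Matrix.single_add]
          ring_nf
          abel
      · rw [← e, D.uP_pair hab]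
    rw [D.uP_pair hab]
    by_cases had : a = d
    · rw [B_symm, add_comm (Matrix.single a b t)]
      exact key b a hab.symm (fun e => hab (had.trans e.symm))
    · exact key a b hab had

theorem cj_uP (M : Matrix.SpecialLinearGroup (Fin (k + 3)) F) {S : Matrix (Fin (k + 3)) (Fin (k + 3)) F}
    (hS : Sᵀ = S) : D.cj M (D.uP S) = D.uP (M.1 * S * M.1ᵀ) := by
  have hM : M ∈ (⊤ : Subgroup (Matrix.SpecialLinearGroup (Fin (k + 3)) F)) := trivial
  rw [← Cfsg.Agent.Classical.SL_closure_transvections] at hM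
  induction hM using Subgroup.closure_induction generalizing S with
  | mem M hM =>
    obtain ⟨⟨c, d, hcd, r⟩, rfl⟩ := hM
    exact D.cj_uP_transvection hcd r hS
  | one => simp [cj_one, sval_one]
  | mul M N _ _ hM hN =>
    rw [cj_mul, hN hS, hM (conj_sym hS), sval_mul, transpose_mul]
    simp only [Matrix.mul_assoc]
  | inv M _ hM =>
    have h := hM (S := (M⁻¹).1 * S * ((M⁻¹).1)ᵀ) (conj_sym hS)
    rw [show M.1 * ((M⁻¹).1 * S * ((M⁻¹).1)ᵀ) * M.1ᵀ =
      (M.1 * (M⁻¹).1) * S * (M.1 * (M⁻¹).1)ᵀ by rw [transpose_mul]; simp only [Matrix.mul_assoc],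
      sval_mul_inv, Matrix.one_mul, transpose_one, Matrix.mul_one] at h
    rw [← h, ← cj_mul, inv_mul_cancel, cj_one]

theorem uP_square (v : Fin (k + 3) → F) (t : F) : D.uP (t • vecMulVec v v) = D.T v t := by
  rcases eq_or_ne v 0 with rfl | hv
  · rw [zero_vecMulVec, smul_zero, uP_zero, T_of_zero]
  obtain ⟨M, rfl⟩ := exists_col (n := k + 1) 0 hv
  rw [← conj_vecMulVec, ← D.cj_uP M (vv_sym _ _), T_col]
  congr 1
  rw [← Matrix.single_eq_single_vecMulVec_single, Matrix.smul_single, smul_eq_mul, mul_one, uP_diag, T_base]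

theorem Φ_uPs {S : Matrix (Fin 2) (Fin 2) F} (hS : Sᵀ = S) :
    D.Φ (uPs S) = D.uP (incM F qE * S * (incM F qE)ᵀ) := by
  refine square_induction (P := fun S => D.Φ (uPs S) = D.uP (incM F qE * S * (incM F qE)ᵀ)) ?_ ?_ hS
  · intro S T hS hT h1 h2
    rw [uPs_add hS hT, map_mul, h1, h2, ← uP_add, Matrix.mul_add, Matrix.add_mul]
  · intro v t
    rw [Φ_square, Matrix.mul_smul, Matrix.smul_mul, mul_vecMulVec, vecMulVec_mul, vecMul_transpose, uP_square]

theorem π_uP {S : Matrix (Fin (k + 3)) (Fin (k + 3)) F} (hS : Sᵀ = S) : D.π (D.uP S) = uPs S := by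
  refine square_induction (P := fun S => D.π (D.uP S) = uPs S) ?_ ?_ hS
  · intro S T hS hT h1 h2
    rw [uP_add, map_mul, h1, h2, uPs_add hS hT]
  · intro v t
    rcases eq_or_ne v 0 with rfl | hv
    · rw [zero_vecMulVec, smul_zero, uP_zero, map_one, uPs_zero]
    obtain ⟨M, rfl⟩ := exists_col (n := k + 1) 0 hv
    rw [uP_square, T_col, cj_apply, map_mul, map_mul, map_inv, D.πj, P0_eq, D.πΦ, extSp_uPs _ (vv_sym _ _),
      Matrix.mul_smul, Matrix.smul_mul, mul_vecMulVec, vecMulVec_mul, vecMul_transpose,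
      incM_mulVec_single, qE_one, lev_uPs M (vv_sym _ _), conj_vecMulVec]

end SpData

end Cfsg.Agent.Lie.SpnPres
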