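import Cfsg.Agent.Lib.Lie.SpnPres
import Cfsg.Agent.Lib.Lie.PresOnGlue
import Cfsg.Agent.Lib.Lie.SLnSevenFinal

/-! Presentations of `Sp₂ₙ(F)` and `PSp₂ₙ(F)` on few generators. -/

set_option autoImplicit false
set_option linter.unusedSectionVars false
set_option maxHeartbeats 1000000

namespace Cfsg.Agent.Lie.SpnPres

open Matrix Cfsg.Agent.Lie.Pres Cfsg.Agent.Lie.Sl2Pres Cfsg.Agent.Lie.SLnSeven

variable {F : Type*} [Field F] [Fintype F]

theorem presOn_glued {k a b : ℕ} {w : Fin b → SpecialLinearGroup (Fin (k + 3)) F} (hw : PresOn w a)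
    (gs : List (SpecialLinearGroup (Fin (k + 2)) F)) (hgs : Subgroup.closure {g | g ∈ gs} = ⊤) :
    ∃ v : Fin (3 + b) → Matrix.symplecticGroup (Fin (k + 3)) F, PresOn v (8 + a + (18 + 2 * gs.length)) := by
  obtain ⟨ω₀, R, -, hP, hc, -⟩ := exists_presentations_aux (F := F)
  obtain ⟨hR, hbij⟩ := hP
  have hA : PresOn ![slU (1 : F), slW, slH ω₀] 8 :=
    ⟨R, hc, MulEquiv.ofBijective _ hbij, fun x => PresentedGroup.toGroup.of hR⟩
  obtain ⟨i, j, E, hlen, hE, h⟩ := exists_glue_Sp gs hgs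
  exact to_fin ((presOn_coprod hA hw i j E hE h).mono (Nat.add_le_add_left hlen _))

theorem pair_gens (k : ℕ) (hk : 1 ≤ k) :
    ∃ u v : SpecialLinearGroup (Fin (k + 2)) F, Subgroup.closure {g | g ∈ [u, v]} = ⊤ := by
  obtain rfl | ⟨k, rfl⟩ : k = 1 ∨ ∃ j, k = j + 2 := by
    rcases (show k = 1 ∨ 2 ≤ k by omega) with h | h
    exacts [Or.inl h, Or.inr ⟨k - 2, by omega⟩]
  · obtain ⟨u, g, -, -, hab⟩ := Cfsg.Agent.S2278.result (F := F)
    refine ⟨u, g * u * g⁻¹, ?_⟩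
    simp only [List.mem_cons, List.not_mem_nil, or_false]
    exact hab
  · obtain ⟨⟨u, v, -, -, hab⟩, -⟩ := Cfsg.Agent.S2279.result (F := F) (k + 2 + 2) (by omega)
    refine ⟨u, v, ?_⟩
    simp only [List.mem_cons, List.not_mem_nil, or_false]
    exact hab

theorem presOn_Sp_ge_four (n : ℕ) (hn : 4 ≤ n) :
    ∃ v : Fin 10 → Matrix.symplecticGroup (Fin n) F, PresOn v 58 := by
  obtain ⟨k, rfl⟩ : ∃ k, n = k + 3 := ⟨n - 3, by omega⟩
  obtain ⟨w, hw⟩ := presOn_seven (F := F) (k + 3) (by omega)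
  obtain ⟨a, b, hab⟩ := pair_gens (F := F) k (by omega)
  obtain ⟨v, hv⟩ := presOn_glued hw [a, b] hab
  exact ⟨v, hv.mono (by simp)⟩

theorem presOn_Sp_four_five (n : ℕ) (hn : n = 4 ∨ n = 5) :
    ∃ v : Fin 9 → Matrix.symplecticGroup (Fin n) F, PresOn v 57 := by
  rcases hn with rfl | rfl
  · obtain ⟨w, hw⟩ := presOn_four (F := F)
    obtain ⟨a, b, hab⟩ := pair_gens (F := F) 1 le_rfl
    obtain ⟨v, hv⟩ := presOn_glued (k := 1) hw [a, b] hab
    exact ⟨v, hv.mono (by simp)⟩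
  · obtain ⟨w, hw⟩ := presOn_five (F := F)
    obtain ⟨a, b, hab⟩ := pair_gens (F := F) 2 (by norm_num)
    obtain ⟨v, hv⟩ := presOn_glued (k := 2) hw [a, b] hab
    exact ⟨v, hv.mono (by simp)⟩

theorem presOn_Sp_three : ∃ v : Fin 8 → Matrix.symplecticGroup (Fin 3) F, PresOn v 52 := by
  obtain ⟨w, hw⟩ := presOn_three (F := F)
  obtain ⟨ω₀, R, -, ⟨hR, hbij⟩, -⟩ := exists_presentations_aux (F := F)
  have hgs : Subgroup.closure {g | g ∈ [slU (1 : F), slW, slH ω₀]} = ⊤ := by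
    have h : ∀ z : FreeGroup (Fin 3), FreeGroup.lift ![slU (1 : F), slW, slH ω₀] z ∈
        Subgroup.closure {g | g ∈ [slU (1 : F), slW, slH ω₀]} := fun z => by
      induction z using FreeGroup.induction_on with
      | C1 => simp [one_mem]
      | of i => exact Subgroup.subset_closure (by fin_cases i <;> simp)
      | inv_of i hi => rw [map_inv]; exact inv_mem hi
      | mul a b ha hb => rw [map_mul]; exact mul_mem ha hb
    refine eq_top_iff.2 fun x _ => ?_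
    obtain ⟨y, rfl⟩ := hbij.2 x
    obtain ⟨z, rfl⟩ := PresentedGroup.mk_surjective _ y
    exact h z
  obtain ⟨v, hv⟩ := presOn_glued (k := 0) hw [slU (1 : F), slW, slH ω₀] hgs
  obtain ⟨v', hv'⟩ := to_fin (presOn_pad hv)
  exact ⟨v', hv'.mono (by simp)⟩

theorem presOn_psp {n : ℕ} (hn : 2 ≤ n) {α : Type} {v : α → Matrix.symplecticGroup (Fin n) F} {r : ℕ}
    (h : PresOn v r) : ∃ w : α → Cfsg.PSp n F, PresOn w (r + 1) := by
  have hneg : (-1 : Matrix (Fin n ⊕ Fin n) (Fin n ⊕ Fin n) F) ∈ Matrix.symplecticGroup (Fin n) F :=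
    SymplecticGroup.neg_mem (one_mem _)
  refine ⟨_, quot_cyclic h (QuotientGroup.mk' _) (QuotientGroup.mk'_surjective _) ⟨-1, hneg⟩ ?_ fun x hx => ?_⟩
  · refine (QuotientGroup.eq_one_iff _).2 (Subgroup.mem_center_iff.2 fun g => Subtype.ext ?_)
    show g.1 * (-1) = (-1) * g.1
    simp
  · obtain ⟨c, hc⟩ := (Cfsg.Geo.mem_scalars_iff _).1
      (Cfsg.Agent.Classical.Asch.sp_center_scalar (m := n) (by omega) ((QuotientGroup.eq_one_iff _).1 hx))
    rw [Cfsg.Agent.Classical.Asch.spHom_val] at hc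
    have hm := x.2
    rw [SymplecticGroup.mem_iff, hc] at hm
    have h1 := congrFun (congrFun hm (.inl ⟨0, by omega⟩)) (.inr ⟨0, by omega⟩)
    simp [Matrix.J] at h1
    rcases mul_self_eq_one_iff.1 (show (c : F) * c = 1 by linear_combination h1) with e | e
    · have : x = 1 := Subtype.ext (by rw [hc, e, one_smul]; rfl)
      rw [this]; exact one_mem _
    · refine Subgroup.mem_zpowers_iff.2 ⟨1, ?_⟩
      rw [zpow_one]
      refine Subtype.ext ?_
      rw [hc, e, neg_one_smul]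

theorem rels_pair {n r : ℕ} {α : Type} (hn : 2 ≤ n)
    (h : ∃ v : α → Matrix.symplecticGroup (Fin n) F, PresOn v r) :
    (∃ rels : Finset (FreeGroup α), rels.card ≤ r ∧
      Nonempty (PresentedGroup (↑rels : Set (FreeGroup α)) ≃* Matrix.symplecticGroup (Fin n) F)) ∧
    (∃ rels : Finset (FreeGroup α), rels.card ≤ r + 1 ∧
      Nonempty (PresentedGroup (↑rels : Set (FreeGroup α)) ≃* Cfsg.PSp n F)) := by
  obtain ⟨v, hv⟩ := h
  obtain ⟨w, hw⟩ := presOn_psp hn hv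
  exact ⟨SLnSeven.PresOn.to_rels hv, SLnSeven.PresOn.to_rels hw⟩

theorem sp_presentations (n : ℕ) :
    (4 ≤ n → (∃ rels : Finset (FreeGroup (Fin 10)), rels.card ≤ 58 ∧ Nonempty (PresentedGroup (↑rels : Set (FreeGroup (Fin 10))) ≃* Matrix.symplecticGroup (Fin n) F)) ∧ (∃ rels : Finset (FreeGroup (Fin 10)), rels.card ≤ 59 ∧ Nonempty (PresentedGroup (↑rels : Set (FreeGroup (Fin 10))) ≃* Cfsg.PSp n F))) ∧
    ((n = 4 ∨ n = 5) → (∃ rels : Finset (FreeGroup (Fin 9)), rels.card ≤ 57 ∧ Nonempty (PresentedGroup (↑rels : Set (FreeGroup (Fin 9))) ≃* Matrix.symplecticGroup (Fin n) F)) ∧ (∃ rels : Finset (FreeGroup (Fin 9)), rels.card ≤ 58 ∧ Nonempty (PresentedGroup (↑rels : Set (FreeGroup (Fin 9))) ≃* Cfsg.PSp n F))) ∧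
    (n = 3 → (∃ rels : Finset (FreeGroup (Fin 8)), rels.card ≤ 52 ∧ Nonempty (PresentedGroup (↑rels : Set (FreeGroup (Fin 8))) ≃* Matrix.symplecticGroup (Fin n) F)) ∧ (∃ rels : Finset (FreeGroup (Fin 8)), rels.card ≤ 53 ∧ Nonempty (PresentedGroup (↑rels : Set (FreeGroup (Fin 8))) ≃* Cfsg.PSp n F))) := by
  refine ⟨fun h => rels_pair (by omega) (presOn_Sp_ge_four n h),
    fun h => rels_pair (by omega) (presOn_Sp_four_five n h), ?_⟩
  rintro rfl
  exact rels_pair (by norm_num) presOn_Sp_three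

end Cfsg.Agent.Lie.SpnPres
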