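import Mathlib
import Cfsg.Agent.Lib.Classical.DicksonTorus
import Cfsg.Agent.Lib.Block.Zas.PrimePlusOne
import Cfsg.Agent.Lib.Transfer.SylowNumber
import Cfsg.Agent.Lib.Grp.Frattini

/-!
Groups with trivial centre and the Sylow numbers of `PSL(2,17)`.
-/

set_option autoImplicit false

namespace Cfsg.Agent.Lie.SylowSeventeen

open scoped Pointwise

local notation "PSL17" => Matrix.ProjectiveSpecialLinearGroup (Fin 2) (ZMod 17)
local notation "PGL17" => Matrix.ProjGenLinGroup (Fin 2) (ZMod 17)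

/-- Sylow numbers grow along embeddings. -/
theorem card_sylow_le_of_injective {H G : Type*} [Group H] [Group G] [Finite H] [Finite G] {p : ℕ}
    [Fact p.Prime] {f : H →* G} (hf : Function.Injective f) :
    Nat.card (Sylow p H) ≤ Nat.card (Sylow p G) := by
  classical
  choose g hg using fun P : Sylow p H => P.exists_comap_eq_of_injective hf
  refine Nat.card_le_card_of_injective g fun P Q h => Sylow.ext ?_
  rw [← hg P, ← hg Q, h]

theorem card_sylow_le_of_surjective {H G : Type*} [Group H] [Group G] [Finite H] [Finite G] {p : ℕ}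
    [Fact p.Prime] {f : H →* G} (hf : Function.Surjective f) :
    Nat.card (Sylow p G) ≤ Nat.card (Sylow p H) :=
  Nat.card_le_card_of_surjective _ (Sylow.mapSurjective_surjective hf p)

/-- Equal Sylow numbers force the kernel to fix every Sylow subgroup. -/
theorem ker_le_normalizer {H G : Type*} [Group H] [Group G] [Finite H] [Finite G] {p : ℕ}
    [Fact p.Prime] {f : H →* G} (hf : Function.Surjective f)
    (h : Nat.card (Sylow p H) ≤ Nat.card (Sylow p G)) (P : Sylow p H) :
    f.ker ≤ Subgroup.normalizer (P : Set H) := by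
  intro k hk
  have hbij := (Nat.bijective_iff_surjective_and_card (fun Q : Sylow p H => Q.mapSurjective hf)).2
    ⟨Sylow.mapSurjective_surjective hf p, le_antisymm h (card_sylow_le_of_surjective hf)⟩
  rw [← Sylow.smul_eq_iff_mem_normalizer]
  refine hbij.1 (Sylow.ext ?_)
  show ((k • P : Sylow p H) : Subgroup H).map f = (P : Subgroup H).map f
  rw [Sylow.coe_subgroup_smul]
  ext y
  simp only [Subgroup.mem_map, Subgroup.mem_pointwise_smul_iff_inv_smul_mem]
  have h1 : f k = 1 := hk
  constructor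
  · rintro ⟨x, hx, rfl⟩
    refine ⟨_, hx, ?_⟩
    simp [h1]
  · rintro ⟨x, hx, rfl⟩
    exact ⟨k * x * k⁻¹, by simpa [mul_assoc] using hx, by simp [h1]⟩

theorem le_factorization {n p a : ℕ} (hp : p.Prime) (hn : n ≠ 0) (h : p ^ a ∣ n) : a ≤ n.factorization p :=
  (Nat.Prime.pow_dvd_iff_le_factorization hp hn).1 h

theorem card_psl17 : Nat.card PSL17 = 2448 := by
  haveI : Fact (Nat.Prime 17) := ⟨by norm_num⟩
  have h := Dickson.card_psl (F := ZMod 17)
  rw [ZMod.card, show Dickson.del (ZMod 17) = 2 by simp [Dickson.del]] at h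
  omega

theorem card_sylow_of_order {G : Type*} [Group G] [Finite G] {p a m : ℕ} [hp : Fact p.Prime]
    (hG : Nat.card G = p ^ a * m) (hm : ¬ p ∣ m) (R : Subgroup G) (hR : Nat.card R = p ^ a) {c : ℕ}
    (hN : Nat.card (Subgroup.normalizer (R : Set G)) = c) (hc : 0 < c) :
    Nat.card (Sylow p G) = Nat.card G / c := by
  have hm0 : m ≠ 0 := fun e => hm (e ▸ dvd_zero p)
  let P : Sylow p G := Sylow.ofCard R (by
    rw [hR, hG, Nat.factorization_mul (pow_ne_zero _ hp.out.ne_zero) hm0, Finsupp.add_apply,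
      Nat.factorization_pow_self hp.out, Nat.factorization_eq_zero_of_not_dvd hm, add_zero])
  rw [Sylow.card_eq_index_normalizer P, ← Subgroup.card_mul_index (Subgroup.normalizer (R : Set G)), hN,
    Nat.mul_div_cancel_left _ hc]
  rfl

theorem card_sylow_three_psl : Nat.card (Sylow 3 PSL17) = 136 := by
  haveI : Fact (Nat.Prime 17) := ⟨by norm_num⟩
  haveI : Fact (Nat.Prime 3) := ⟨by norm_num⟩
  obtain ⟨a, ha, hap, hc⟩ := Dickson.exists_tor_plus (F := ZMod 17) 17
  rw [ZMod.card, show Dickson.del (ZMod 17) = 2 by simp [Dickson.del]] at hc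
  obtain ⟨hN, -⟩ := Dickson.normalizer_tor 17 ha hap
  rw [hc] at hN
  rw [card_sylow_of_order (p := 3) (a := 2) (m := 272) (by rw [card_psl17]; norm_num) (by norm_num) _
    (by rw [hc]; norm_num) hN (by norm_num), card_psl17]

theorem card_sylow_two_psl : Nat.card (Sylow 2 PSL17) = 153 := by
  haveI : Fact (Nat.Prime 17) := ⟨by norm_num⟩
  haveI : Fact (Nat.Prime 2) := ⟨Nat.prime_two⟩
  obtain ⟨b, hb, hbp, hc⟩ := Dickson.exists_tor_minus (F := ZMod 17) 17
    (by rw [ZMod.card, show Dickson.del (ZMod 17) = 2 by simp [Dickson.del]]; norm_num)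
  rw [ZMod.card, show Dickson.del (ZMod 17) = 2 by simp [Dickson.del]] at hc
  obtain ⟨hN, -⟩ := Dickson.normalizer_tor 17 hb hbp
  rw [hc] at hN
  set D := Dickson.pslData (F := ZMod 17) 17
  set A := Dickson.tor b
  set N := Subgroup.normalizer (A : Set PSL17) with hNdef
  -- the dihedral Sylow subgroup is self-normalising
  have hNN : Subgroup.normalizer (N : Set PSL17) = N := by
    refine le_antisymm (fun g hg => ?_) Subgroup.le_normalizer
    haveI : IsCyclic A := D.semi_cyclic hb hbp
    obtain ⟨y, hy⟩ := IsCyclic.exists_generator (α := A)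
    have hy8 : orderOf (y : PSL17) = 8 := by
      rw [Subgroup.orderOf_coe, orderOf_eq_card_of_forall_mem_zpowers hy, hc]
    have hgy : g * (y : PSL17) * g⁻¹ ∈ A := by
      by_contra hout
      have hin : g * (y : PSL17) * g⁻¹ ∈ N :=
        (Subgroup.mem_normalizer_iff.1 hg _).1 (Subgroup.le_normalizer y.2)
      obtain ⟨h2, -⟩ := D.semi_flip hb hbp ((D.mem_normalizer_iff hb).mp hin) hout
      have h3 : orderOf (g * (y : PSL17) * g⁻¹) ∣ 2 := orderOf_dvd_of_pow_eq_one (by rw [sq]; exact h2)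
      have h4 : orderOf (g * (y : PSL17) * g⁻¹) = 8 := by
        rw [← hy8, ← (MulAut.conj g).orderOf_eq (y : PSL17)]
        rfl
      rw [h4] at h3
      norm_num at h3
    have hle : ∀ z : PSL17, z ∈ A → g * z * g⁻¹ ∈ A := by
      intro z hz
      obtain ⟨i, hi⟩ := Subgroup.mem_zpowers_iff.1 (hy ⟨z, hz⟩)
      have : z = (y : PSL17) ^ i := by rw [← Subgroup.coe_zpow, hi]
      rw [this, ← conj_zpow]
      exact A.zpow_mem hgy i
    rw [hNdef, Subgroup.mem_normalizer_iff]
    intro z
    refine ⟨hle z, fun hz => ?_⟩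
    have hbij : Set.BijOn (fun x => g * x * g⁻¹) A A :=
      ((A : Set PSL17).toFinite.injOn_iff_bijOn_of_mapsTo hle).1 fun x _ w _ e => by simpa using e
    obtain ⟨x, hx, hxz⟩ := hbij.surjOn hz
    have : x = z := by simpa using hxz
    exact this ▸ hx
  rw [card_sylow_of_order (p := 2) (a := 4) (m := 153) (by rw [card_psl17]; norm_num) (by norm_num) N
    (by rw [hN]; norm_num) (c := 16) (by rw [hNN, hN]) (by norm_num), card_psl17]

/-- Both possible quotients have at least the Sylow numbers of `PSL(2,17)`. -/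
theorem exists_embedding {L : Type*} [Group L]
    (h : Nonempty (L ≃* PGL17) ∨ Nonempty (L ≃* PSL17)) :
    ∃ φ : PSL17 →* L, Function.Injective φ := by
  rcases h with ⟨⟨e⟩⟩ | ⟨⟨e⟩⟩
  · exact ⟨e.symm.toMonoidHom.comp Matrix.ProjectiveSpecialLinearGroup.toPGL,
      e.symm.injective.comp Matrix.ProjectiveSpecialLinearGroup.toPGL_injective⟩
  · exact ⟨e.symm.toMonoidHom, e.symm.injective⟩

/-- The stabiliser order in degree eighteen. -/
theorem stabilizer_bound {α : Type*} [Fintype α] [DecidableEq α] (hα : Fintype.card α = 18)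
    (S : Subgroup (Equiv.Perm α)) (a : α) (hS : ∀ s ∈ S, s a = a) (g : Equiv.Perm α)
    (hg : orderOf g = 17) (hgS : g ∈ S) (hn : ∀ s ∈ S, s * g * s⁻¹ ∈ Subgroup.zpowers g) :
    ∃ d, d < 17 ∧ Nat.card S = 17 * d := by
  classical
  haveI : Fact (Nat.Prime 17) := ⟨by norm_num⟩
  set P := (Subgroup.zpowers g).subgroupOf S
  have hPc : Nat.card P = 17 := by
    rw [Nat.card_congr (Subgroup.subgroupOfEquivOfLe (Subgroup.zpowers_le.2 hgS)).toEquiv,
      Nat.card_zpowers, hg]
  haveI : P.Normal := ⟨fun x hx s => by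
    rw [Subgroup.mem_subgroupOf] at hx ⊢
    obtain ⟨i, hi⟩ := Subgroup.mem_zpowers_iff.1 hx
    simp only [Subgroup.coe_mul, Subgroup.coe_inv, ← hi, ← conj_zpow]
    exact Subgroup.zpow_mem _ (hn s s.2) i⟩
  haveI : IsCyclic P := isCyclic_of_prime_card hPc
  let φ : S →* MulAut P := MulAut.conjNormal
  have h17 : 17 ∣ Nat.card S := hPc ▸ P.card_subgroup_dvd_card
  have hcyc : g.IsCycle := Equiv.Perm.isCycle_of_prime_order' (by rw [hg]; norm_num) (by rw [hg, hα]; norm_num)
  have hsupp : ∀ x, g x ≠ x ↔ x ≠ a := by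
    have hne : g a = a := hS g hgS
    have : g.support = Finset.univ.erase a := by
      refine Finset.eq_of_subset_of_card_le (fun x hx => ?_) ?_
      · refine Finset.mem_erase.2 ⟨fun e => ?_, Finset.mem_univ _⟩
        exact Equiv.Perm.mem_support.1 hx (e ▸ hne)
      · rw [← hcyc.orderOf, hg, Finset.card_erase_of_mem (Finset.mem_univ _), Finset.card_univ, hα]
    intro x
    rw [← Equiv.Perm.mem_support, this]
    simp
  obtain ⟨x₀, hx₀⟩ : ∃ x, x ≠ a := Fintype.exists_ne_of_one_lt_card (by omega) a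
  have hker : Nat.card φ.ker ≤ 17 := by
    have hcom : ∀ k : φ.ker, ∀ i : ℤ, ((k : S) : Equiv.Perm α) * g ^ i = g ^ i * ((k : S) : Equiv.Perm α) := by
      intro k i
      have h1 := congrArg (fun u : P => ((u : S) : Equiv.Perm α))
        (DFunLike.congr_fun (MonoidHom.mem_ker.1 k.2) ⟨⟨g, hgS⟩, Subgroup.mem_zpowers g⟩)
      simp only [φ, MulAut.conjNormal_apply, MulAut.one_apply, Subgroup.coe_mul, Subgroup.coe_inv] at h1
      exact ((show Commute ((k : S) : Equiv.Perm α) g from mul_inv_eq_iff_eq_mul.1 h1).zpow_right i).eq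
    have hinj : Function.Injective fun k : φ.ker =>
        (⟨((k : S) : Equiv.Perm α) x₀, fun e => hx₀ (((k : S) : Equiv.Perm α).injective
          (e.trans (hS _ (k : S).2).symm))⟩ : {x : α // x ≠ a}) := by
      intro k l h
      have h0 := congrArg Subtype.val h
      apply Subtype.ext
      apply Subtype.ext
      refine Equiv.ext fun z => ?_
      by_cases hz : z = a
      · rw [hz, hS _ (k : S).2, hS _ (l : S).2]
      · obtain ⟨i, rfl⟩ := hcyc.exists_zpow_eq ((hsupp x₀).2 hx₀) ((hsupp z).2 hz)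
        rw [← Equiv.Perm.mul_apply, hcom k i, Equiv.Perm.mul_apply, ← Equiv.Perm.mul_apply _ (g ^ i),
          hcom l i, Equiv.Perm.mul_apply]
        exact congrArg (g ^ i) h0
    refine (Nat.card_le_card_of_injective _ hinj).trans ?_
    rw [Nat.card_eq_fintype_card, Fintype.card_subtype_compl, hα, Fintype.card_subtype_eq]
  have hrange : Nat.card φ.range ≤ 16 := by
    refine (Subgroup.card_le_card_group _).trans ?_
    rw [Nat.card_congr (IsCyclic.mulAutMulEquiv P).toEquiv, hPc, Nat.card_eq_fintype_card,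
      ZMod.card_units_eq_totient]
    rw [Nat.totient_prime (by norm_num)]
  obtain ⟨d, hd⟩ := h17
  refine ⟨d, ?_, hd⟩
  have hm := φ.ker.card_mul_index
  rw [Subgroup.index_ker, hd] at hm
  have := Nat.mul_le_mul hker hrange
  omega

variable {G : Type*} [Group G] [Finite G]

theorem main (hZ : Subgroup.center G = ⊥)
    (hNS : {c : ℕ | ∃ r : ℕ, r.Prime ∧ r ∣ Nat.card G ∧ c = Nat.card (Sylow r G)} = ({18, 136, 153} : Set ℕ)) :
    Nonempty (G ≃* PSL17) ∨ Nonempty (G ≃* PGL17) := by
  classical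
  have hval : ∀ r : ℕ, r.Prime → r ∣ Nat.card G → Nat.card (Sylow r G) = 18 ∨
      Nat.card (Sylow r G) = 136 ∨ Nat.card (Sylow r G) = 153 := fun r hr hd => by
    have : Nat.card (Sylow r G) ∈ ({18, 136, 153} : Set ℕ) := hNS ▸ ⟨r, hr, hd, rfl⟩
    simpa using this
  have hmod : ∀ r : ℕ, r.Prime → Nat.card (Sylow r G) % r = 1 := fun r hr => by
    haveI := Fact.mk hr
    have := card_sylow_modEq_one r G
    rwa [Nat.ModEq, Nat.mod_eq_of_lt hr.one_lt] at this
  have hdvd : ∀ r : ℕ, r.Prime → r ∣ Nat.card (Sylow r G) - 1 := fun r hr => by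
    have h := hmod r hr
    exact ⟨Nat.card (Sylow r G) / r, by have := Nat.div_add_mod (Nat.card (Sylow r G)) r; omega⟩
  obtain ⟨r, hr, hrd, h18⟩ : (18 : ℕ) ∈ {c : ℕ | ∃ r : ℕ, r.Prime ∧ r ∣ Nat.card G ∧ c = Nat.card (Sylow r G)} := by
    rw [hNS]; simp
  have hr17 : r = 17 := by
    have := hdvd r hr
    rw [← h18, show (18 : ℕ) - 1 = 17 from rfl] at this
    exact (Nat.prime_dvd_prime_iff_eq hr (by norm_num)).1 this
  subst hr17
  haveI : Fact (Nat.Prime 17) := ⟨hr⟩
  haveI : Fintype (Sylow 17 G) := Fintype.ofFinite _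
  have hα : Fintype.card (Sylow 17 G) = 18 := by rw [← Nat.card_eq_fintype_card, ← h18]
  set f := MulAction.toPermHom G (Sylow 17 G) with hf
  set L := f.range with hL
  haveI : MulAction.IsPretransitive L (Sylow 17 G) := MulAction.IsPretransitive.mk fun x y => by
    obtain ⟨g, hg⟩ := MulAction.exists_smul_eq G x y
    exact ⟨⟨f g, g, rfl⟩, hg⟩
  obtain ⟨P⟩ : Nonempty (Sylow 17 G) := inferInstance
  set S := MulAction.stabilizer L P with hS
  have hLcard : Nat.card L = 18 * Nat.card S := by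
    rw [← S.index_mul_card, hS, MulAction.index_stabilizer_of_transitive, Nat.card_eq_fintype_card, hα]
  -- an element of order seventeen in the image
  have hPK : ¬ (P : Subgroup G) ≤ f.ker := by
    intro h
    have hall : ∀ Q : Sylow 17 G, Q = P := fun Q => by
      have hle : (P : Subgroup G) ≤ Subgroup.normalizer (Q : Set G) := fun x hx =>
        Sylow.smul_eq_iff_mem_normalizer.1 (DFunLike.congr_fun (MonoidHom.mem_ker.1 (h hx)) Q)
      have h2 := P.isPGroup'.inf_normalizer_sylow Q
      rw [inf_eq_left.2 hle] at h2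
      exact Sylow.ext (P.3 Q.isPGroup' (h2.le.trans inf_le_right))
    haveI : Subsingleton (Sylow 17 G) := ⟨fun x y => (hall x).trans (hall y).symm⟩
    have := Fintype.card_le_one_iff_subsingleton.2 this
    omega
  set Pb := (P : Subgroup G).map f with hPb
  have hPbp : IsPGroup 17 Pb := P.isPGroup'.map f
  obtain ⟨k, hk⟩ := IsPGroup.iff_card.1 hPbp
  have hk1 : k = 1 := by
    have h1 : k ≠ 0 := fun e => by
      rw [e, pow_zero, Subgroup.card_eq_one] at hk
      exact hPK ((Subgroup.map_eq_bot_iff _).1 hk)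
    have h2 : k ≤ 1 := by
      have hd := Pb.card_subgroup_dvd_card
      rw [hk, Nat.card_perm, Nat.card_eq_fintype_card, hα] at hd
      by_contra hh
      exact absurd ((pow_dvd_pow 17 (show 2 ≤ k by omega)).trans hd) (by decide)
    omega
  rw [hk1, pow_one] at hk
  obtain ⟨x, hxP, hxK⟩ := SetLike.not_le_iff_exists.1 hPK
  have hgo : orderOf (f x) = 17 := by
    refine orderOf_eq_prime ?_ fun e => hxK e
    exact congrArg Subtype.val (hk ▸ pow_card_eq_one' (x := (⟨f x, x, hxP, rfl⟩ : Pb)))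
  have hzp : Subgroup.zpowers (f x) = Pb := Subgroup.eq_of_le_of_card_ge
    (Subgroup.zpowers_le.2 ⟨x, hxP, rfl⟩) (by rw [hk, Nat.card_zpowers, hgo])
  obtain ⟨d, hd17, hd⟩ := stabilizer_bound hα (S.map L.subtype) P
    (by rintro _ ⟨s, hs, rfl⟩; exact hs) (f x) hgo
    ⟨⟨f x, x, rfl⟩, Sylow.smul_eq_iff_mem_normalizer.2 (Subgroup.le_normalizer hxP), rfl⟩
    (by
      rintro _ ⟨⟨_, g, rfl⟩, hs, rfl⟩
      rw [hzp]
      have hg : g ∈ Subgroup.normalizer (P : Set G) := Sylow.smul_eq_iff_mem_normalizer.1 hs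
      exact ⟨g * x * g⁻¹, (Subgroup.mem_normalizer_iff.1 hg x).1 hxP, by simp⟩)
  rw [Subgroup.card_map_of_injective (Subgroup.subtype_injective _)] at hd
  have hiso : Nonempty (L ≃* PGL17) ∨ Nonempty (L ≃* PSL17) := by
    rcases Cfsg.Agent.Block.Zas.prime_plus_one (p := 17) (d := d) hr (by rw [hα]) L
      (by rw [hLcard, hd]; ring) hd17 with ⟨-, h⟩ | ⟨-, h⟩ | ⟨q, -, hq, -⟩
    · exact .inl h
    · exact .inr h
    · exfalso
      have hq5 : q < 5 := by
        by_contra hh
        have := Nat.pow_le_pow_right (show 0 < 2 by norm_num) (not_lt.1 hh)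
        omega
      interval_cases q <;> omega
  obtain ⟨φ, hφ⟩ := exists_embedding hiso
  have hd2448 : 2448 ∣ Nat.card L := card_psl17 ▸ Subgroup.card_dvd_of_injective φ hφ
  have hL4896 : Nat.card L ∣ 4896 := by
    rcases hiso with ⟨⟨e⟩⟩ | ⟨⟨e⟩⟩
    · rw [Nat.card_congr e.toEquiv, Cfsg.Agent.Block.Zas.card_PGL_two, ZMod.card]
    · rw [Nat.card_congr e.toEquiv, card_psl17]
      norm_num
  set π := f.rangeRestrict with hπ
  have hπs : Function.Surjective π := f.rangeRestrict_surjective
  have hπk : π.ker = f.ker := f.ker_rangeRestrict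
  -- the kernel fixes every Sylow subgroup
  have hfix : ∀ (r : ℕ) [Fact r.Prime], r ∣ Nat.card G → (r = 2 ∨ r = 3 ∨ r = 17) →
      ∀ R : Sylow r G, f.ker ≤ Subgroup.normalizer (R : Set G) := by
    intro r _ hrG hrs R
    rcases hrs with rfl | rfl | rfl
    · rw [← hπk]
      refine ker_le_normalizer hπs (le_trans ?_ (le_trans card_sylow_two_psl.ge (card_sylow_le_of_injective hφ))) R
      rcases hval 2 Nat.prime_two hrG with h | h | h <;> have := hmod 2 Nat.prime_two <;> omega
    · rw [← hπk]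
      refine ker_le_normalizer hπs (le_trans ?_ (le_trans card_sylow_three_psl.ge (card_sylow_le_of_injective hφ))) R
      rcases hval 3 Nat.prime_three hrG with h | h | h <;> have := hmod 3 Nat.prime_three <;> omega
    · intro y hy
      exact Sylow.smul_eq_iff_mem_normalizer.1 (DFunLike.congr_fun (MonoidHom.mem_ker.1 hy) R)
  -- no further primes
  have hprimes : ∀ r : ℕ, r.Prime → r ∣ Nat.card G → r = 2 ∨ r = 3 ∨ r = 17 := by
    intro r hr' hrG
    haveI := Fact.mk hr'
    by_contra hcon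
    push Not at hcon
    obtain ⟨hr2, hr3, hr17⟩ := hcon
    have hnd : ¬ r ∣ Nat.card L := fun hh => by
      have h2 : r ∣ 2 ^ 5 * 3 ^ 2 * 17 := hh.trans (hL4896.trans (dvd_of_eq (by norm_num)))
      rcases hr'.dvd_mul.1 h2 with h3 | h3
      · rcases hr'.dvd_mul.1 h3 with h4 | h4
        · exact hr2 ((Nat.prime_dvd_prime_iff_eq hr' Nat.prime_two).1 (hr'.dvd_of_dvd_pow h4))
        · exact hr3 ((Nat.prime_dvd_prime_iff_eq hr' Nat.prime_three).1 (hr'.dvd_of_dvd_pow h4))
      · exact hr17 ((Nat.prime_dvd_prime_iff_eq hr' (by norm_num)).1 h3)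
    have hRK : ∀ R : Sylow r G, (R : Subgroup G) ≤ f.ker := by
      intro R
      rw [← hπk]
      have hp := R.isPGroup'.map π
      obtain ⟨j, hj⟩ := IsPGroup.iff_card.1 hp
      have hj0 : j = 0 := by
        by_contra h
        exact hnd ((dvd_pow_self r h).trans (hj ▸ Subgroup.card_subgroup_dvd_card _))
      rw [hj0, pow_zero, Subgroup.card_eq_one] at hj
      exact (Subgroup.map_eq_bot_iff _).1 hj
    set M := f.ker
    -- the Sylow 17-subgroup of the kernel
    set D := M ⊓ (P : Subgroup G) with hD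
    have hDall : ∀ Q : Sylow 17 G, D ≤ Q := by
      intro Q y hy
      have hp : IsPGroup 17 D := P.isPGroup'.to_le inf_le_right
      have h2 := hp.inf_normalizer_sylow Q
      rw [inf_eq_left.2 fun z hz => hfix 17 hrd (Or.inr (Or.inr rfl)) Q hz.1] at h2
      exact (h2.le hy).2
    haveI : M.Normal := f.normal_ker
    haveI hDn : D.Normal := ⟨fun y hy g => ⟨‹M.Normal›.conj_mem y hy.1 g, by
      have := hDall (g⁻¹ • P) hy
      rw [Sylow.coe_subgroup_smul, Subgroup.mem_pointwise_smul_iff_inv_smul_mem] at this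
      simp [MulAut.smul_def, mul_assoc] at this ⊢
      exact this⟩⟩
    obtain ⟨R⟩ : Nonempty (Sylow r G) := inferInstance
    set N := Subgroup.normalizer (R : Set G) with hN
    -- D normalises R
    have hDN : D ≤ N := by
      set O := MulAction.orbit D R
      have hdD : O.ncard ∣ Nat.card D := by
        rw [← Nat.card_coe_set_eq, Nat.card_congr (MulAction.orbitEquivQuotientStabilizer D R),
          ← Subgroup.index_eq_card]
        exact Subgroup.index_dvd_card _
      obtain ⟨j, hj⟩ := IsPGroup.iff_card.1 (P.isPGroup'.to_le (inf_le_right : D ≤ (P : Subgroup G)))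
      rw [hj] at hdD
      obtain ⟨i, -, hi⟩ := (Nat.dvd_prime_pow hr).1 hdD
      -- the orbit is stable under R
      haveI : Finite (Sylow r G) := inferInstance
      have hinv : ∀ y ∈ (R : Subgroup G), ∀ Q ∈ O, y • Q ∈ O := by
        rintro y hy _ ⟨c, rfl⟩
        refine ⟨⟨y * c * y⁻¹, hDn.conj_mem c c.2 y⟩, ?_⟩
        show (y * (c : G) * y⁻¹) • R = y • ((c : G) • R)
        rw [mul_smul, mul_smul, Sylow.smul_eq_iff_mem_normalizer.2 (inv_mem (Subgroup.le_normalizer hy))]
      let OS : SubMulAction (R : Subgroup G) (Sylow r G) :=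
        { carrier := O, smul_mem' := fun y Q hQ => hinv y y.2 Q hQ }
      have hm := R.isPGroup'.card_modEq_card_fixedPoints (α := OS)
      have h1 : Nat.card (MulAction.fixedPoints (R : Subgroup G) OS) = 1 := by
        refine Nat.card_eq_one_iff_unique.2 ⟨⟨fun u v => ?_⟩, ⟨⟨⟨R, MulAction.mem_orbit_self R⟩, fun y => ?_⟩⟩⟩
        · have e : ∀ u : MulAction.fixedPoints (R : Subgroup G) OS, ((u : OS) : Sylow r G) = R := by
            intro u
            have hle : (R : Subgroup G) ≤ Subgroup.normalizer (((u : OS) : Sylow r G) : Set G) := fun y hy =>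
              Sylow.smul_eq_iff_mem_normalizer.1 (congrArg Subtype.val (u.2 ⟨y, hy⟩))
            have h2 := R.isPGroup'.inf_normalizer_sylow ((u : OS) : Sylow r G)
            rw [inf_eq_left.2 hle] at h2
            exact Sylow.ext (R.3 ((u : OS) : Sylow r G).isPGroup' (h2.le.trans inf_le_right))
          exact Subtype.ext (Subtype.ext ((e u).trans (e v).symm))
        · exact Subtype.ext (Sylow.smul_eq_iff_mem_normalizer.2 (Subgroup.le_normalizer y.2))
      have hcardO : Nat.card OS = O.ncard := Nat.card_coe_set_eq O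
      rw [h1, hcardO, hi, Nat.ModEq] at hm
      have hle : O.ncard ≤ Nat.card (Sylow r G) := by
        rw [← Set.ncard_univ]; exact Set.ncard_le_ncard (Set.subset_univ _) (Set.toFinite _)
      have hi0 : i = 0 := by
        by_contra hne
        have hi1 : i ≤ 1 := by
          by_contra hh
          have := Nat.pow_le_pow_right (show 0 < 17 by norm_num) (show 2 ≤ i by omega)
          rcases hval r hr' hrG with h | h | h <;> omega
        rw [show i = 1 by omega, pow_one, Nat.mod_eq_of_lt hr'.one_lt] at hm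
        have h16 : r ∣ 16 := ⟨17 / r, by have := Nat.div_add_mod 17 r; omega⟩
        exact hr2 ((Nat.prime_dvd_prime_iff_eq hr' Nat.prime_two).1
          (hr'.dvd_of_dvd_pow (show r ∣ 2 ^ 4 by norm_num; exact h16)))
      rw [hi0, pow_zero] at hi
      intro y hy
      obtain ⟨z, hz⟩ := Set.ncard_eq_one.1 hi
      have h3 : y • R ∈ O := ⟨⟨y, hy⟩, rfl⟩
      have h4 : R ∈ O := MulAction.mem_orbit_self R
      rw [hz, Set.mem_singleton_iff] at h3 h4
      exact Sylow.smul_eq_iff_mem_normalizer.1 (h3.trans h4.symm)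
    -- counting in the kernel
    have hcount : Nat.card (Sylow r M) = Nat.card (Sylow r G) := Transfer.card_sylow_subgroup M hRK
    have hidx : Nat.card (Sylow r M) = (N.subgroupOf M).index := by
      rw [Sylow.card_eq_index_normalizer (R.subtype (hRK R)), hN]
      show (Subgroup.normalizer (((R : Subgroup G).subgroupOf M) : Set M)).index = _
      rw [← Subgroup.subgroupOf_normalizer_eq (hRK R)]
      rfl
    have hD17 : ¬ 17 ∣ (D.subgroupOf M).index := by
      obtain ⟨Q⟩ : Nonempty (Sylow 17 M) := inferInstance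
      obtain ⟨P', hP'⟩ := (Q.isPGroup'.map M.subtype).exists_le_sylow
      have hQD : (Q : Subgroup M) ≤ D.subgroupOf M := fun y hy => by
        have hp : IsPGroup 17 ↥(M ⊓ (P' : Subgroup G)) := P'.isPGroup'.to_le inf_le_right
        have h2 := hp.inf_normalizer_sylow P
        rw [inf_eq_left.2 fun z hz => hfix 17 hrd (Or.inr (Or.inr rfl)) P hz.1] at h2
        exact Subgroup.mem_subgroupOf.2 ⟨y.2, (h2.le ⟨y.2, hP' ⟨y, hy, rfl⟩⟩).2⟩
      exact fun hh => Q.not_dvd_index' Subgroup.index_ne_zero_of_finite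
        (hh.trans (Subgroup.index_dvd_of_le hQD))
    have h17 : ¬ 17 ∣ Nat.card (Sylow r G) := fun hh => hD17 (by
      rw [← hcount, hidx] at hh
      exact hh.trans (Subgroup.index_dvd_of_le (Subgroup.comap_mono hDN)))
    rcases hval r hr' hrG with h | h | h
    · have := hdvd r hr'
      rw [h] at this
      exact hr17 ((Nat.prime_dvd_prime_iff_eq hr' (by norm_num)).1 this)
    · exact h17 (by rw [h]; norm_num)
    · exact h17 (by rw [h]; norm_num)
  have hKbot : f.ker = ⊥ := by
    by_contra hne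
    obtain ⟨r, hr', hrK⟩ := Nat.exists_prime_and_dvd (show Nat.card f.ker ≠ 1 from fun e => hne (Subgroup.card_eq_one.1 e))
    haveI := Fact.mk hr'
    have hrG : r ∣ Nat.card G := hrK.trans (Subgroup.card_subgroup_dvd_card _)
    obtain ⟨y, hy⟩ := exists_prime_orderOf_dvd_card' (G := f.ker) r hrK
    obtain ⟨R, hR⟩ := (IsPGroup.of_card (n := 1) (show Nat.card (Subgroup.zpowers (y : G)) = r ^ 1 by
      rw [Nat.card_zpowers, Subgroup.orderOf_coe, hy, pow_one])).exists_le_sylow
    set A := f.ker ⊓ (R : Subgroup G) with hA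
    have hyA : (y : G) ∈ A := ⟨y.2, hR (Subgroup.mem_zpowers _)⟩
    have hy1 : (y : G) ≠ 1 := fun e => by
      rw [← Subgroup.orderOf_coe, e, orderOf_one] at hy
      exact hr'.one_lt.ne hy
    have hAp : IsPGroup r A := R.isPGroup'.to_le inf_le_right
    have hAall : ∀ Q : Sylow r G, A ≤ Q := by
      intro Q z hz
      have h2 := hAp.inf_normalizer_sylow Q
      rw [inf_eq_left.2 fun z hz => hfix r hrG (hprimes r hr' hrG) Q hz.1] at h2
      exact (h2.le hz).2
    haveI hAn : A.Normal := ⟨fun z hz g => ⟨f.normal_ker.conj_mem z hz.1 g, by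
      have := hAall (g⁻¹ • R) hz
      rw [Sylow.coe_subgroup_smul, Subgroup.mem_pointwise_smul_iff_inv_smul_mem] at this
      simp [MulAut.smul_def, mul_assoc] at this ⊢
      exact this⟩⟩
    haveI : Group.IsNilpotent (R : Subgroup G) := R.isPGroup'.isNilpotent
    have hne' : A.subgroupOf (R : Subgroup G) ≠ ⊥ := fun e => by
      have hm : (⟨(y : G), hyA.2⟩ : (R : Subgroup G)) ∈ A.subgroupOf (R : Subgroup G) := hyA
      rw [e, Subgroup.mem_bot] at hm
      exact hy1 (congrArg Subtype.val hm)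
    obtain ⟨z, hz, hz1⟩ := (Subgroup.bot_or_exists_ne_one _).resolve_left
      (Grp.inf_center_ne_bot (A.subgroupOf (R : Subgroup G)) hne')
    set C := Subgroup.centralizer ({(z : G)} : Set G) with hC
    have hsyl : ∀ s : ℕ, s.Prime → s ∣ Nat.card G → ∃ Q : Sylow s G, (Q : Subgroup G) ≤ C := by
      intro s hs hsG
      haveI := Fact.mk hs
      by_cases hsr : s = r
      · subst hsr
        refine ⟨R, fun w hw => Subgroup.mem_centralizer_iff.2 ?_⟩
        rintro _ rfl
        exact congrArg Subtype.val (Subgroup.mem_center_iff.1 hz.2 ⟨w, hw⟩).symm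
      · obtain ⟨Q⟩ : Nonempty (Sylow s G) := inferInstance
        refine ⟨Q, fun w hw => Subgroup.mem_centralizer_iff.2 ?_⟩
        rintro v (rfl : v = (z : G))
        have hzA : (z : G) ∈ A := hz.1
        have hzN := hfix s hsG (hprimes s hs hsG) Q hzA.1
        have h1 : (z : G) * w * (z : G)⁻¹ * w⁻¹ ∈ A := by
          have := A.mul_mem hzA (hAn.conj_mem _ (A.inv_mem hzA) w)
          simpa [mul_assoc] using this
        have h2 : (z : G) * w * (z : G)⁻¹ * w⁻¹ ∈ (Q : Subgroup G) :=
          mul_mem ((Subgroup.mem_normalizer_iff.1 hzN w).1 hw) (inv_mem hw)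
        have h3 : A ⊓ (Q : Subgroup G) = ⊥ :=
          (IsPGroup.disjoint_of_ne r s (Ne.symm hsr) _ _ hAp Q.isPGroup').eq_bot
        have h4 : (z : G) * w * (z : G)⁻¹ * w⁻¹ = 1 := Subgroup.mem_bot.1 (h3 ▸ ⟨h1, h2⟩)
        rw [mul_inv_eq_one, mul_inv_eq_iff_eq_mul] at h4
        exact h4
    have hCtop : C = ⊤ := by
      refine Subgroup.index_eq_one.1 (Nat.eq_one_iff_not_exists_prime_dvd.2 ?_)
      intro s hs hsC
      haveI := Fact.mk hs
      obtain ⟨Q, hQ⟩ := hsyl s hs (hsC.trans (Subgroup.index_dvd_card _))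
      exact Q.not_dvd_index' Subgroup.index_ne_zero_of_finite (hsC.trans (Subgroup.index_dvd_of_le hQ))
    have hzc : (z : G) ∈ Subgroup.center G := Subgroup.mem_center_iff.2 fun w => by
      have hw : w ∈ C := hCtop ▸ Subgroup.mem_top w
      exact (Subgroup.mem_centralizer_iff.1 hw _ rfl).symm
    rw [hZ, Subgroup.mem_bot] at hzc
    exact hz1 (Subtype.ext hzc)
  let eG : G ≃* L := MonoidHom.ofInjective ((MonoidHom.ker_eq_bot_iff f).1 hKbot)
  rcases hiso with ⟨⟨e⟩⟩ | ⟨⟨e⟩⟩
  · exact .inr ⟨eG.trans e⟩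
  · exact .inl ⟨eG.trans e⟩

end Cfsg.Agent.Lie.SylowSeventeen
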