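import Cfsg.Agent.Lib.Lie.SympRegGen

/-! A regular unipotent element of `Sp₄(F)`, `F` of characteristic two, with its conjugates. -/

set_option autoImplicit false
set_option linter.unusedSectionVars false

namespace Cfsg.Agent.Lie.SpGen

open Matrix Cfsg.Agent.Classical

variable {F : Type*} [Field F] [CharP F 2]

local notation "Sp" => Matrix.symplecticGroup (Fin 2) F
local notation "MI" => Matrix (Fin 2 ⊕ Fin 2) (Fin 2 ⊕ Fin 2) F
local notation "B" => sympForm 2 F

/-- The element `(r W, A_r)` of the Siegel parabolic. -/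
def fourMat (r w : F) : Matrix (Fin 2 ⊕ Fin 2) (Fin 2 ⊕ Fin 2) F :=
  Matrix.fromBlocks !![1, r; 0, 1] !![0, 0; w * r, w] 0 !![1, 0; r, 1]

theorem fourMat_mem (r w : F) : fourMat r w ∈ Matrix.symplecticGroup (Fin 2) F := by
  rw [SymplecticGroup.mem_iff, fourMat, Matrix.fromBlocks_transpose, Matrix.J,
    Matrix.fromBlocks_multiply, Matrix.fromBlocks_multiply]
  have h2 : (2 : F) = 0 := CharTwo.two_eq_zero
  have hn : ∀ a : F, -a = a := CharTwo.neg_eq
  congr 1 <;> ext i j <;> fin_cases i <;> fin_cases j <;>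
    simp [Matrix.mul_apply, Matrix.vecMul, dotProduct, Fin.sum_univ_two, CharTwo.neg_eq, Matrix.transpose_apply] <;>
    (first | done | ring1 | linear_combination h2 | linear_combination r * h2 | linear_combination (w * r) * h2 | linear_combination w * h2 | (ring_nf; simp [h2]))

/-- The element as a member of the group. -/
def fourElt (r w : F) : Sp := ⟨fourMat r w, fourMat_mem r w⟩

/-- The regular unipotent element. -/
def fourU : Matrix.symplecticGroup (Fin 2) F := fourElt 1 1

/-- The cyclic vector. -/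
def fourF : Fin 2 ⊕ Fin 2 → F := Pi.single (Sum.inr 0) 1

theorem fourU_apply (y : Fin 2 ⊕ Fin 2 → F) : ((fourU : Sp) : MI) *ᵥ y =
    Sum.elim ![y (Sum.inl 0) + y (Sum.inl 1), y (Sum.inl 1) + y (Sum.inr 0) + y (Sum.inr 1)]
      ![y (Sum.inr 0), y (Sum.inr 0) + y (Sum.inr 1)] := by
  funext i
  rcases i with i | i <;> fin_cases i <;>
    simp [fourU, fourElt, fourMat, Matrix.mulVec, dotProduct, Fintype.sum_sum_type, Fin.sum_univ_two] <;>
    ring

theorem fourNu_apply (y : Fin 2 ⊕ Fin 2 → F) : nu fourU *ᵥ y =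
    Sum.elim ![y (Sum.inl 1), y (Sum.inr 0) + y (Sum.inr 1)] ![0, y (Sum.inr 0)] := by
  rw [nu, Matrix.sub_mulVec, Matrix.one_mulVec, fourU_apply]
  funext i
  rcases i with i | i <;> fin_cases i <;> simp <;> ring

theorem fourNu_three : nu (fourU (F := F)) ^ 3 *ᵥ fourF = Pi.single (Sum.inl 0) (1 : F) := by
  simp only [pow_succ', pow_zero, mul_one, ← Matrix.mulVec_mulVec, fourNu_apply]
  funext i
  rcases i with i | i <;> fin_cases i <;> simp [fourF]

theorem fourReg : RegData (fourU (F := F)) (fourF (F := F)) := by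
  refine ⟨?_, ?_, le_rfl⟩
  · refine Matrix.ext_iff_mulVec.2 fun y => ?_
    simp only [show 2 * 2 = 4 from rfl, pow_succ', pow_zero, mul_one, ← Matrix.mulVec_mulVec,
      fourNu_apply, Matrix.zero_mulVec]
    funext i
    rcases i with i | i <;> fin_cases i <;> simp
  · rw [show 2 * 2 - 1 = 3 from rfl, fourNu_three]
    simp

theorem four_e1 : flagVec (fourU (F := F)) fourF 1 = Pi.single (Sum.inl 0) (1 : F) := fourNu_three

theorem four_good_scalar (r : F) :
    GoodScalar (fourU (F := F)) (flagVec fourU fourF 1) (r ^ 2 + r) := by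
  refine ⟨fourElt r r, ?_⟩
  rw [mul_inv_eq_iff_eq_mul, four_e1]
  refine Subtype.ext (Matrix.ext_iff_mulVec.2 fun y => ?_)
  simp only [Submonoid.coe_mul, ← Matrix.mulVec_mulVec, tv_apply]
  have e : sympForm 2 F (((fourU : Sp) : MI) *ᵥ ((fourElt r r : MI) *ᵥ y)) (Pi.single (Sum.inl 0) 1) =
      y (Sum.inr 0) := by
    rw [sympForm_single_inl, fourU_apply]
    simp [fourElt, fourMat, Matrix.mulVec, dotProduct, Fintype.sum_sum_type, Fin.sum_univ_two]
  rw [e, fourU_apply, fourU_apply]
  funext i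
  have h2 : (2 : F) = 0 := CharTwo.two_eq_zero
  rcases i with i | i <;> fin_cases i <;>
    simp [fourElt, fourMat, Matrix.mulVec, dotProduct, Fintype.sum_sum_type, Fin.sum_univ_two,
      Pi.single_apply] <;>
    (first | done | ring1 | (ring_nf; simp [h2]))

theorem four_good_pair (b ρ : F) (hb : b ≠ 0) :
    GoodPair (fourU (F := F)) (flagVec fourU fourF 1) b (b ^ 2 * (ρ ^ 2 + ρ)) := by
  have hn : ∀ a : F, -a = a := CharTwo.neg_eq
  have h2 : (2 : F) = 0 := CharTwo.two_eq_zero
  refine ⟨Sum.elim ![0, 0] ![b, b * ρ], ?_, ?_⟩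
  · rw [four_e1, sympForm_single_inl]; simp
  · rw [fourU_apply, sympForm_eq_sum, Fin.sum_univ_two]
    simp [CharTwo.sub_eq_add]
    ring

theorem four_exists_qk_two : ∃ z, Off (fourU (F := F)) z ∧ Qk (fourU (F := F)) 2 z ≠ 0 := by
  refine ⟨fourF, fourReg.cyc, ?_⟩
  rw [qk_two, fourU_apply, fourU_apply, sympForm_eq_sum, Fin.sum_univ_two]
  simp [fourF, CharTwo.sub_eq_add]

end Cfsg.Agent.Lie.SpGen
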