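import Cfsg.Agent.Lib.Lie.SympRegUnip

/-! Three conjugates of a regular unipotent element generate `Sp_{2n}(F)`, `|F| ≥ 3`. -/

set_option autoImplicit false
set_option linter.unusedSectionVars false

namespace Cfsg.Agent.Lie.SpGen

open Matrix Cfsg.Agent.Classical

variable {F : Type*} [Field F] {n : ℕ}

local notation "V" => (Fin n ⊕ Fin n → F)
local notation "Sp" => Matrix.symplecticGroup (Fin n) F
local notation "MI" => Matrix (Fin n ⊕ Fin n) (Fin n ⊕ Fin n) F
local notation "B" => sympForm n F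

theorem exists_triple {a₁ a₂ a₃ b₁ b₂ b₃ : V} (h0 : B a₂ a₁ ≠ 0) (h21 : B b₂ b₁ = B a₂ a₁)
    (h31 : B b₃ b₁ = B a₃ a₁) (h32 : B b₃ b₂ = B a₃ a₂) (ha : a₃ ∉ Submodule.span F {a₁, a₂})
    (hb : b₃ ∉ Submodule.span F {b₁, b₂}) :
    ∃ g : Sp, (g : MI) *ᵥ a₁ = b₁ ∧ (g : MI) *ᵥ a₂ = b₂ ∧ (g : MI) *ᵥ a₃ = b₃ := by
  set b := B a₂ a₁ with hbdef
  have hA : B ((-b⁻¹) • a₁) a₂ = 1 := by
    rw [sympForm_smul_left, sympForm_swap, ← hbdef]; field_simp
  have hA' : B ((-b⁻¹) • b₁) b₂ = 1 := by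
    rw [sympForm_smul_left, sympForm_swap, h21]; field_simp
  obtain ⟨A, _, hA1, hA2⟩ := exists_closure_pair hA hA'
  have hnz : (-b⁻¹) ≠ 0 := neg_ne_zero.2 (inv_ne_zero h0)
  rw [Matrix.mulVec_smul] at hA1
  have hA1 : (A : MI) *ᵥ a₁ = b₁ := smul_right_injective _ hnz hA1
  let W : Submodule F V :=
    { carrier := {w | B w b₁ = 0 ∧ B w b₂ = 0}
      add_mem' := fun {p q} hp hq => by
        simp only [Set.mem_setOf_eq, sympForm_add_left, hp.1, hp.2, hq.1, hq.2, add_zero, and_self]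
      zero_mem' := by simp
      smul_mem' := fun c {p} hp => by
        simp only [Set.mem_setOf_eq, sympForm_smul_left, hp.1, hp.2, mul_zero, and_self] }
  have hW : SympNondeg W := by
    intro v hv hv0
    obtain ⟨z, hz⟩ := exists_sympForm_eq_one hv0
    refine ⟨z + (B z b₂ / b) • b₁ + (-(B z b₁) / b) • b₂, ⟨?_, ?_⟩, ?_⟩
    · rw [sympForm_add_left, sympForm_add_left, sympForm_smul_left, sympForm_smul_left,
        sympForm_self, h21, mul_zero, add_zero, div_mul_cancel₀ _ h0, add_neg_cancel]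
    · rw [sympForm_add_left, sympForm_add_left, sympForm_smul_left, sympForm_smul_left,
        sympForm_self, sympForm_swap b₁, h21, mul_zero, add_zero, mul_neg, div_mul_cancel₀ _ h0,
        add_neg_cancel]
    · rw [sympForm_add_right, sympForm_add_right, sympForm_smul_right, sympForm_smul_right, hv.1,
        hv.2, hz]
      ring
  set c₃ := (A : MI) *ᵥ a₃ with hc₃
  have hc31 : B c₃ b₁ = B a₃ a₁ := by rw [← hA1, hc₃, sympForm_map]
  have hc32 : B c₃ b₂ = B a₃ a₂ := by rw [← hA2, hc₃, sympForm_map]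
  set π := (-(B a₃ a₂) / b) • b₁ + (B a₃ a₁ / b) • b₂ with hπ
  have hπ1 : B π b₁ = B a₃ a₁ := by
    rw [hπ, sympForm_add_left, sympForm_smul_left, sympForm_smul_left, sympForm_self, h21,
      mul_zero, zero_add, div_mul_cancel₀ _ h0]
  have hπ2 : B π b₂ = B a₃ a₂ := by
    rw [hπ, sympForm_add_left, sympForm_smul_left, sympForm_smul_left, sympForm_self,
      sympForm_swap b₁, h21, mul_zero, add_zero, mul_neg, div_mul_cancel₀ _ h0, neg_neg]
  have hw1 : c₃ - π ∈ W :=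
    ⟨by rw [sympForm_sub_left, hc31, hπ1, sub_self], by rw [sympForm_sub_left, hc32, hπ2, sub_self]⟩
  have hw2 : b₃ - π ∈ W :=
    ⟨by rw [sympForm_sub_left, h31, hπ1, sub_self], by rw [sympForm_sub_left, h32, hπ2, sub_self]⟩
  have hπmem : π ∈ Submodule.span F {b₁, b₂} :=
    add_mem (Submodule.smul_mem _ _ (Submodule.subset_span (by simp)))
      (Submodule.smul_mem _ _ (Submodule.subset_span (by simp)))
  have hn2 : b₃ - π ≠ 0 := fun e => hb (by rwa [sub_eq_zero.1 e])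
  have hn1 : c₃ - π ≠ 0 := by
    intro e
    apply ha
    have e1 : (A : MI) *ᵥ a₃ = (A : MI) *ᵥ
        ((-(B a₃ a₂) / b) • a₁ + (B a₃ a₁ / b) • a₂) := by
      rw [Matrix.mulVec_add, Matrix.mulVec_smul, Matrix.mulVec_smul, hA1, hA2, ← hπ, ← hc₃]
      exact sub_eq_zero.1 e
    have e2 := congrArg (((A⁻¹ : Sp) : MI) *ᵥ ·) e1
    simp only [Matrix.mulVec_mulVec, ← Submonoid.coe_mul, inv_mul_cancel, Submonoid.coe_one,
      Matrix.one_mulVec] at e2
    rw [e2]
    exact add_mem (Submodule.smul_mem _ _ (Submodule.subset_span (by simp)))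
      (Submodule.smul_mem _ _ (Submodule.subset_span (by simp)))
  obtain ⟨C, hC, hCw⟩ := exists_tvIn_mulVec_eq hW hw1 hw2 hn1 hn2
  have hC1 : (C : MI) *ᵥ b₁ = b₁ :=
    closure_tvIn_fix hC fun w hw => by rw [sympForm_swap, hw.1, neg_zero]
  have hC2 : (C : MI) *ᵥ b₂ = b₂ :=
    closure_tvIn_fix hC fun w hw => by rw [sympForm_swap, hw.2, neg_zero]
  refine ⟨C * A, ?_, ?_, ?_⟩
  · rw [Submonoid.coe_mul, ← Matrix.mulVec_mulVec, hA1, hC1]
  · rw [Submonoid.coe_mul, ← Matrix.mulVec_mulVec, hA2, hC2]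
  · rw [Submonoid.coe_mul, ← Matrix.mulVec_mulVec, ← hc₃]
    rw [Matrix.mulVec_sub, hπ, Matrix.mulVec_add, Matrix.mulVec_smul, Matrix.mulVec_smul, hC1, hC2,
      ← hπ] at hCw
    exact sub_left_inj.1 hCw

variable {u : Matrix.symplecticGroup (Fin n) F} {f x : Fin n ⊕ Fin n → F}

/-- Being outside the maximal invariant hyperplane. -/
def Off (u : Matrix.symplecticGroup (Fin n) F) (x : Fin n ⊕ Fin n → F) : Prop :=
  nu u ^ (2 * n - 1) *ᵥ x ≠ 0

/-- `B(uᵏ x, x)`. -/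
def Qk (u : Matrix.symplecticGroup (Fin n) F) (k : ℕ) (x : Fin n ⊕ Fin n → F) : F :=
  sympForm n F (((u ^ k : Matrix.symplecticGroup (Fin n) F) :
    Matrix (Fin n ⊕ Fin n) (Fin n ⊕ Fin n) F) *ᵥ x) x

theorem qk_one (x : V) : Qk u 1 x = B ((u : MI) *ᵥ x) x := by rw [Qk, pow_one]

theorem qk_two (x : V) : Qk u 2 x = B ((u : MI) *ᵥ ((u : MI) *ᵥ x)) x := by
  rw [Qk, pow_two, Submonoid.coe_mul, ← Matrix.mulVec_mulVec]

theorem qk_smul (k : ℕ) (a : F) (x : V) : Qk u k (a • x) = a ^ 2 * Qk u k x := by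
  simp only [Qk, Matrix.mulVec_smul, sympForm_smul_left, sympForm_smul_right]; ring

theorem qk_line (k : ℕ) (y z : V) (t : F) : Qk u k (y + t • z) = Qk u k y +
    t * (B (((u ^ k : Sp) : MI) *ᵥ z) y + B (((u ^ k : Sp) : MI) *ᵥ y) z) + t ^ 2 * Qk u k z := by
  simp only [Qk, Matrix.mulVec_add, Matrix.mulVec_smul, sympForm_add_left, sympForm_add_right,
    sympForm_smul_left, sympForm_smul_right]
  ring

theorem off_smul {a : F} (ha : a ≠ 0) (hx : Off u x) : Off u (a • x) := by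
  rw [Off, Matrix.mulVec_smul]; exact smul_ne_zero ha hx

theorem RegData.exists_coeff (hu : RegData u f) (x : V) :
    ∃ c : F, nu u ^ (2 * n - 1) *ᵥ x = c • flagVec u f 1 := by
  have hv : x ∈ Submodule.span F (Set.range fun i : Fin (2 * n) => nu u ^ (i : ℕ) *ᵥ f) :=
    hu.chain_span hu.cyc ▸ Submodule.mem_top
  induction hv using Submodule.span_induction with
  | mem v hv =>
    obtain ⟨i, rfl⟩ := hv
    simp only [Matrix.mulVec_mulVec, ← pow_add]
    rcases Nat.eq_zero_or_pos (i : ℕ) with h | h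
    · exact ⟨1, by rw [h, add_zero, one_smul]; rfl⟩
    · exact ⟨0, by rw [hu.pow_eq_zero (by omega), zero_smul]⟩
  | zero => exact ⟨0, by simp⟩
  | add a b _ _ iha ihb =>
    obtain ⟨c, hc⟩ := iha
    obtain ⟨d, hd⟩ := ihb
    exact ⟨c + d, by rw [Matrix.mulVec_add, hc, hd, _root_.add_smul]⟩
  | smul a v _ ih =>
    obtain ⟨c, hc⟩ := ih
    exact ⟨a * c, by rw [Matrix.mulVec_smul, hc, smul_smul]⟩

theorem RegData.exists_off_qk (hu : RegData u f) (k : ℕ)
    (h3 : ∀ δ : F, ∃ ε : F, ε ≠ 0 ∧ ε ≠ δ) (hk : (u ^ k) * (u ^ k) ≠ 1) :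
    ∃ x, Off u x ∧ Qk u k x ≠ 0 := by
  by_contra hcon
  push Not at hcon
  have hall : ∀ a, Qk u k a = 0 := by
    intro a
    by_cases ha : Off u a
    · exact hcon a ha
    have hline : ∀ t : F, t ≠ 0 → Qk u k (a + t • f) = 0 := by
      intro t ht
      refine hcon _ ?_
      rw [Off, Matrix.mulVec_add, Matrix.mulVec_smul, not_not.1 ha, zero_add]
      exact smul_ne_zero ht hu.cyc
    obtain ⟨ε, hε, hne⟩ := h3 1
    have h1 := hline 1 one_ne_zero
    have h2 := hline ε hε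
    rw [qk_line, hcon f hu.cyc] at h1 h2
    set C := B (((u ^ k : Sp) : MI) *ᵥ f) a + B (((u ^ k : Sp) : MI) *ᵥ a) f
    have : (ε - 1) * Qk u k a = 0 := by linear_combination ε * h1 - h2
    exact (mul_eq_zero.1 this).resolve_left (sub_ne_zero.2 hne)
  apply hk
  set M := u ^ k
  refine Subtype.ext (Matrix.ext_iff_mulVec.2 fun a => ?_)
  rw [Submonoid.coe_mul, Submonoid.coe_one, Matrix.one_mulVec, ← Matrix.mulVec_mulVec]
  refine sub_eq_zero.1 (eq_zero_of_sympForm_eq_zero fun b => ?_)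
  have h1 := hall (((M : Sp) : MI) *ᵥ a + b)
  have h2 := hall (((M : Sp) : MI) *ᵥ a)
  have h3 := hall b
  simp only [Qk, Matrix.mulVec_add, sympForm_add_left, sympForm_add_right] at h1 h2 h3
  rw [h2, h3, sympForm_map, sympForm_swap b] at h1
  rw [sympForm_sub_left]
  linear_combination h1

theorem RegData.sq_ne_one (hu : RegData u f) : u * u ≠ 1 := by
  intro h
  have := hu.two
  have h1 : (2 : F) • (nu u *ᵥ f) + nu u *ᵥ (nu u *ᵥ f) = 0 := by
    have h2 := congrArg (fun g : Sp => (g : MI) *ᵥ f) h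
    simp only [Submonoid.coe_mul, Submonoid.coe_one, Matrix.one_mulVec, ← Matrix.mulVec_mulVec,
      u_apply, Matrix.mulVec_add] at h2
    rw [← sub_eq_zero] at h2
    rw [← h2]; module
  have h2 : (2 : F) = 0 := by
    have h3 := congrArg (nu u ^ (2 * n - 2) *ᵥ ·) h1
    simp only [Matrix.mulVec_add, Matrix.mulVec_smul, Matrix.mulVec_zero, Matrix.mulVec_mulVec] at h3
    rw [← pow_succ, show nu u * nu u = nu u ^ 2 from (pow_two _).symm, ← pow_add,
      hu.pow_eq_zero (by omega : 2 * n ≤ 2 * n - 2 + 2), add_zero,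
      show 2 * n - 2 + 1 = 2 * n - 1 by omega] at h3
    exact (smul_eq_zero.1 h3).resolve_right hu.cyc
  rw [h2, zero_smul, zero_add] at h1
  apply hu.cyc
  rw [show 2 * n - 1 = (2 * n - 3) + 1 + 1 by omega, pow_succ, pow_succ, ← Matrix.mulVec_mulVec,
    ← Matrix.mulVec_mulVec, h1, Matrix.mulVec_zero]

theorem RegData.four_ne_one (hu : RegData u f) (h : 3 ≤ n ∨ (2 : F) ≠ 0) :
    (u * u) * (u * u) ≠ 1 := by
  intro h0
  have := hu.two
  have h1 : (4 : F) • (nu u ^ 1 *ᵥ f) + (6 : F) • (nu u ^ 2 *ᵥ f) + (4 : F) • (nu u ^ 3 *ᵥ f) +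
      nu u ^ 4 *ᵥ f = 0 := by
    have h2 := congrArg (fun g : Sp => (g : MI) *ᵥ f) h0
    simp only [Submonoid.coe_mul, Submonoid.coe_one, Matrix.one_mulVec, ← Matrix.mulVec_mulVec,
      u_apply, Matrix.mulVec_add] at h2
    rw [← sub_eq_zero] at h2
    rw [← h2]
    simp only [pow_succ', pow_zero, mul_one, ← Matrix.mulVec_mulVec]
    module
  have key : ∀ i, 2 * n ≤ i → nu u ^ i *ᵥ f = 0 := fun i hi => hu.pow_eq_zero hi f
  rcases eq_or_ne (2 : F) 0 with h2 | h2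
  · have hn : 3 ≤ n := h.resolve_right (not_not.2 h2)
    rw [show (4 : F) = 2 * 2 by norm_num, show (6 : F) = 2 * 3 by norm_num, h2] at h1
    simp only [mul_zero, zero_mul, zero_smul, zero_add] at h1
    apply hu.cyc
    rw [show 2 * n - 1 = (2 * n - 5) + 4 by omega, pow_add, ← Matrix.mulVec_mulVec, h1,
      Matrix.mulVec_zero]
  · have h3 := congrArg (nu u ^ (2 * n - 2) *ᵥ ·) h1
    simp only [Matrix.mulVec_add, Matrix.mulVec_smul, Matrix.mulVec_zero, Matrix.mulVec_mulVec,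
      ← pow_add] at h3
    rw [key _ (by omega : 2 * n ≤ 2 * n - 2 + 2), key _ (by omega : 2 * n ≤ 2 * n - 2 + 3),
      key _ (by omega : 2 * n ≤ 2 * n - 2 + 4), show 2 * n - 2 + 1 = 2 * n - 1 by omega,
      smul_zero, smul_zero, add_zero, add_zero, add_zero] at h3
    have h4 := (smul_eq_zero.1 h3).resolve_right hu.cyc
    rw [show (4 : F) = 2 * 2 by norm_num] at h4
    exact h2 (mul_self_eq_zero.1 h4)

variable [Fintype F]

theorem exists_ne_two (h : 3 ≤ Fintype.card F) (δ : F) : ∃ ε : F, ε ≠ 0 ∧ ε ≠ δ := by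
  classical
  by_contra hcon
  push Not at hcon
  have : (Finset.univ : Finset F) ⊆ {0, δ} := fun ε _ => by
    rcases eq_or_ne ε 0 with h | h
    · simp [h]
    · simp [hcon ε h]
  have := (Finset.card_le_card this).trans Finset.card_le_two
  rw [Finset.card_univ] at this
  omega

theorem exists_avoid (a b : Fin 3 → F) (ha : ∃ t, a 0 + t * a 1 + t ^ 2 * a 2 ≠ 0)
    (hb : ∃ t, b 0 + t * b 1 + t ^ 2 * b 2 ≠ 0) (hcard : 4 < Fintype.card F ∨ (b 2 = 0 ∧ 3 < Fintype.card F)) :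
    ∃ t : F, a 0 + t * a 1 + t ^ 2 * a 2 ≠ 0 ∧ b 0 + t * b 1 + t ^ 2 * b 2 ≠ 0 := by
  open Polynomial in
  by_contra hcon
  let P : (Fin 3 → F) → F[X] := fun a => C (a 0) + C (a 1) * X + C (a 2) * X ^ 2
  have hP : ∀ a t, (P a).eval t = a 0 + t * a 1 + t ^ 2 * a 2 := fun a t => by simp [P]; ring
  have hne : ∀ a, (∃ t, a 0 + t * a 1 + t ^ 2 * a 2 ≠ 0) → P a ≠ 0 := by
    rintro a ⟨t, ht⟩ h0
    exact ht (by rw [← hP, h0, eval_zero])
  have hd : ∀ a, (P a).natDegree ≤ 2 := fun a => by simp only [P]; compute_degree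
  have hd1 : b 2 = 0 → (P b).natDegree ≤ 1 := fun h => by
    simp only [P, h, map_zero, zero_mul, add_zero]; compute_degree
  refine mul_ne_zero (hne a ha) (hne b hb) (Polynomial.eq_zero_of_natDegree_lt_card_of_eval_eq_zero
    (P a * P b) (ι := F) Function.injective_id (fun t => ?_) ?_)
  · rw [id_eq, eval_mul, hP, hP]
    by_contra h
    exact hcon ⟨t, left_ne_zero_of_mul h, right_ne_zero_of_mul h⟩
  · refine lt_of_le_of_lt Polynomial.natDegree_mul_le ?_
    rcases hcard with h | ⟨h, h'⟩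
    · have := hd a; have := hd b; omega
    · have := hd a; have := hd1 h; omega

/-- A vector outside the hyperplane with both values nonzero. -/
theorem RegData.exists_base (hu : RegData u f) (h4 : 4 ≤ Fintype.card F)
    (hchar : Fintype.card F = 4 → (2 : F) = 0) (hz : ∃ z, Off u z ∧ Qk u 2 z ≠ 0) :
    ∃ x, Off u x ∧ Qk u 1 x ≠ 0 ∧ Qk u 2 x ≠ 0 := by
  have := hu.two
  obtain ⟨z, hz, hz2⟩ := hz
  rcases eq_or_lt_of_le h4 with h | h
  · have h2 := hchar h.symm
    set w := nu u ^ (n - 1) *ᵥ f with hw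
    have hwN : nu u *ᵥ w = nu u ^ n *ᵥ f := by
      rw [hw, ← pow_nu_succ, show n - 1 + 1 = n by omega]
    have hw1 : Qk u 1 w ≠ 0 := by
      rw [qk_one, u_apply, sympForm_add_left, sympForm_self, zero_add, hwN, sympForm_swap]
      exact neg_ne_zero.2 hu.mid_ne
    have hw2 : Qk u 2 w = 0 := by
      rw [qk_two, u_apply (u := u) w, Matrix.mulVec_add, u_apply, u_apply, sympForm_add_left,
        sympForm_add_left, sympForm_self, zero_add, sympForm_add_left, ← add_assoc,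
        ← two_mul, h2, zero_mul, zero_add, hwN, ← pow_nu_succ, sympForm_swap]
      rw [form_nu_vanish (n + 1) _ _ (by rw [hw, Matrix.mulVec_mulVec, ← pow_add]
                                         exact hu.pow_eq_zero (by omega) f) le_rfl, neg_zero]
    obtain ⟨t, ht1, ht2⟩ := exists_avoid
      ![Qk u 1 z, B (((u ^ 1 : Sp) : MI) *ᵥ w) z + B (((u ^ 1 : Sp) : MI) *ᵥ z) w, Qk u 1 w]
      ![Qk u 2 z, B (((u ^ 2 : Sp) : MI) *ᵥ w) z + B (((u ^ 2 : Sp) : MI) *ᵥ z) w, Qk u 2 w]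
      (by
        by_contra hcon
        push Not at hcon
        obtain ⟨ε, hε, hne⟩ := exists_ne_two (F := F) (by omega) 1
        have e0 := hcon 0
        have e1 := hcon 1
        have e2 := hcon ε
        simp at e0 e1 e2
        apply hw1
        have : ε * (ε - 1) * Qk u 1 w = 0 := by linear_combination e2 - ε * e1 + (ε - 1) * e0
        exact (mul_eq_zero.1 this).resolve_left (mul_ne_zero hε (sub_ne_zero.2 hne)))
      ⟨0, by simpa using hz2⟩ (Or.inr ⟨by simpa using hw2, by omega⟩)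
    simp only [Matrix.cons_val_zero, Matrix.cons_val_one, Matrix.cons_val] at ht1 ht2
    refine ⟨z + t • w, ?_, by rwa [qk_line], by rwa [qk_line]⟩
    rw [Off, Matrix.mulVec_add, Matrix.mulVec_smul, hw, Matrix.mulVec_mulVec, ← pow_add,
      hu.pow_eq_zero (by omega : 2 * n ≤ 2 * n - 1 + (n - 1)), smul_zero, add_zero]
    exact hz
  · obtain ⟨x₁, hx, hx1⟩ := hu.exists_off_qk 1 (exists_ne_two (by omega))
      (by rw [pow_one]; exact hu.sq_ne_one)
    obtain ⟨cz, hcz⟩ := hu.exists_coeff z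
    obtain ⟨cx, hcx⟩ := hu.exists_coeff x₁
    have hcz0 : cz ≠ 0 := fun e => hz (by rw [hcz, e, zero_smul])
    have hcx0 : cx ≠ 0 := fun e => hx (by rw [hcx, e, zero_smul])
    set d := (cz / cx) • x₁ - z with hd
    obtain ⟨t, ht1, ht2⟩ := exists_avoid
      ![Qk u 1 z, B (((u ^ 1 : Sp) : MI) *ᵥ d) z + B (((u ^ 1 : Sp) : MI) *ᵥ z) d, Qk u 1 d]
      ![Qk u 2 z, B (((u ^ 2 : Sp) : MI) *ᵥ d) z + B (((u ^ 2 : Sp) : MI) *ᵥ z) d, Qk u 2 d]
      ⟨1, by
        simp only [Matrix.cons_val_zero, Matrix.cons_val_one, Matrix.cons_val]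
        rw [← qk_line, one_smul, hd, add_sub_cancel, qk_smul]
        exact mul_ne_zero (pow_ne_zero 2 (div_ne_zero hcz0 hcx0)) hx1⟩
      ⟨0, by simpa using hz2⟩ (Or.inl h)
    simp only [Matrix.cons_val_zero, Matrix.cons_val_one, Matrix.cons_val] at ht1 ht2
    refine ⟨z + t • d, ?_, by rwa [qk_line], by rwa [qk_line]⟩
    rw [Off, Matrix.mulVec_add, Matrix.mulVec_smul, hd, Matrix.mulVec_sub, Matrix.mulVec_smul, hcx,
      smul_smul, div_mul_cancel₀ _ hcx0, ← hcz, sub_self, smul_zero, add_zero]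
    exact hz

/-- The conclusion. -/
def ThreeGen (u : Matrix.symplecticGroup (Fin n) F) : Prop :=
  ∃ g h : Matrix.symplecticGroup (Fin n) F,
    Subgroup.closure ({u, g * u * g⁻¹, h * u * h⁻¹} : Set (Matrix.symplecticGroup (Fin n) F)) = ⊤

theorem RegData.finish (hu : RegData u f) (h3 : 3 ≤ Fintype.card F) {x : V} (hx : Off u x)
    (hQ1 : Qk u 1 x ≠ 0) {s : F} (hs : GoodScalar u (flagVec u f 1) s) {g : Sp}
    (hg : (g : MI) *ᵥ flagVec u f 1 = x)
    (hfull : ∀ K : Subgroup Sp, u ∈ K → g * u * g⁻¹ ∈ K → sympTv x s ∈ K → Full K x) :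
    ThreeGen u := by
  obtain ⟨h, hh⟩ := hs
  refine ⟨g, g * h, ?_⟩
  set K := Subgroup.closure ({u, g * u * g⁻¹, g * h * u * (g * h)⁻¹} : Set Sp)
  have hu' : u ∈ K := Subgroup.subset_closure (by simp)
  have hM : g * u * g⁻¹ ∈ K := Subgroup.subset_closure (by simp)
  have hM' : g * h * u * (g * h)⁻¹ ∈ K := Subgroup.subset_closure (by simp)
  have hT : sympTv x s ∈ K := by
    have e : sympTv x s = (g * h * u * (g * h)⁻¹) * (g * u * g⁻¹)⁻¹ := by
      rw [show g * h * u * (g * h)⁻¹ = g * (h * u * h⁻¹) * g⁻¹ by group, hh, ← hg, ← sympTv_conj]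
      group
    rw [e]; exact mul_mem hM' (inv_mem hM)
  have hfx := hfull K hu' hM hT
  refine eq_top_of_full h3 (fun i => ((u ^ i : Sp) : MI) *ᵥ x)
    (fun i => hfx.conj (pow_mem hu' i)) (fun i => ?_) ?_
  · show B _ _ ≠ 0
    rw [pow_succ, Submonoid.coe_mul, ← Matrix.mulVec_mulVec, sympForm_map, ← qk_one]
    exact hQ1
  · simpa using hu.orbit_span hx

theorem RegData.not_mem_span (hu : RegData u f) (hx : Off u x) :
    (u : MI) *ᵥ ((u : MI) *ᵥ x) ∉ Submodule.span F {x, (u : MI) *ᵥ x} := by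
  intro hmem
  obtain ⟨a, b, hab⟩ := Submodule.mem_span_pair.1 hmem
  have := hu.two
  have hli := hu.chain_indep hx
  have h : nu u *ᵥ (nu u *ᵥ x) + (2 - b) • (nu u *ᵥ x) + (1 - a - b) • x = 0 := by
    rw [u_apply (u := u) x, Matrix.mulVec_add, u_apply, u_apply] at hab
    rw [← sub_eq_zero] at hab
    rw [← neg_eq_zero, ← hab]; module
  rw [Fintype.linearIndependent_iff] at hli
  let c : Fin (2 * n) → F := fun i =>
    if (i : ℕ) = 2 then 1 else if (i : ℕ) = 1 then 2 - b else if (i : ℕ) = 0 then 1 - a - b else 0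
  have hc := hli c (by
    let i0 : Fin (2 * n) := ⟨0, by omega⟩
    let i1 : Fin (2 * n) := ⟨1, by omega⟩
    let i2 : Fin (2 * n) := ⟨2, by omega⟩
    have hne01 : i0 ≠ i1 := by simp [i0, i1]
    have hne02 : i0 ≠ i2 := by simp [i0, i2]
    have hne12 : i1 ≠ i2 := by simp [i1, i2]
    rw [← Finset.sum_subset (Finset.subset_univ ({i2, i1, i0} : Finset (Fin (2 * n))))
      (fun j _ hj => by
        simp only [Finset.mem_insert, Finset.mem_singleton, Fin.ext_iff, i0, i1, i2] at hj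
        push Not at hj
        simp [c, hj.1, hj.2.1, hj.2.2]),
      Finset.sum_insert (by simp [hne12.symm, hne02.symm]), Finset.sum_insert (by simp [hne01.symm]),
      Finset.sum_singleton]
    rw [← h]
    simp [c, i0, i1, i2, pow_succ', ← Matrix.mulVec_mulVec]
    abel) ⟨2, by omega⟩
  simp [c] at hc

/-- Reduction to a statement about the three coplanar transvections. -/
theorem RegData.plane_finish (hu : RegData u f) (h3 : 3 ≤ Fintype.card F) {x : V} (hx : Off u x)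
    (hQ1 : Qk u 1 x ≠ 0) (hQ2 : Qk u 2 x ≠ 0) {s η : F} (hs : GoodScalar u (flagVec u f 1) s)
    (hy : GoodPair u (flagVec u f 1) (Qk u 1 x) (Qk u 1 x ^ 2 * (1 - η) / Qk u 2 x))
    (hfull : ∀ K : Subgroup Sp, sympTv x s ∈ K → sympTv ((u : MI) *ᵥ ((u : MI) *ᵥ x)) s ∈ K →
      sympTv ((Qk u 1 x / Qk u 2 x) • ((u : MI) *ᵥ ((u : MI) *ᵥ x) + η • x)) s ∈ K → Full K x) :
    ThreeGen u := by
  obtain ⟨y, hye, hyy⟩ := hy
  have hn := hu.two
  set e := flagVec u f 1 with he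
  set v := (u : MI) *ᵥ ((u : MI) *ᵥ x) with hv
  set β := Qk u 1 x / Qk u 2 x with hβ
  have hβ0 : β ≠ 0 := div_ne_zero hQ1 hQ2
  have h21 : B ((u : MI) *ᵥ x) x = B y e := by rw [hye, qk_one]
  have h31 : B (β • (v + η • x)) x = B ((u : MI) *ᵥ y) e := by
    have h1 : B ((u : MI) *ᵥ y) e = B y e := by
      conv_lhs => rw [he, ← hu.e1_fixed]
      rw [sympForm_map]
    rw [h1, hye, sympForm_smul_left, sympForm_add_left, sympForm_smul_left, sympForm_self, mul_zero,
      add_zero, hv, ← qk_two, hβ, div_mul_cancel₀ _ hQ2]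
  have h32 : B (β • (v + η • x)) ((u : MI) *ᵥ x) = B ((u : MI) *ᵥ y) y := by
    rw [hyy, sympForm_smul_left, sympForm_add_left, sympForm_smul_left, hv, sympForm_map,
      sympForm_swap x, ← qk_one, hβ]
    field_simp
    ring
  have ha3 : (u : MI) *ᵥ y ∉ Submodule.span F {e, y} := by
    intro hmem
    obtain ⟨a, b, hab⟩ := Submodule.mem_span_pair.1 hmem
    have h1 : B ((u : MI) *ᵥ y) e = B y e := by
      conv_lhs => rw [he, ← hu.e1_fixed]
      rw [sympForm_map]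
    rw [← hab, sympForm_add_left, sympForm_smul_left, sympForm_smul_left, sympForm_self, mul_zero,
      zero_add] at h1
    have hb : b = 1 := (mul_eq_right₀ (hye ▸ hQ1)).1 h1
    have h2 : nu u *ᵥ y = a • e := by
      rw [u_apply, hb, one_smul, add_comm] at hab
      exact (add_left_cancel hab).symm
    apply hye ▸ hQ1
    rw [he, flagVec]
    refine form_nu_vanish 2 _ _ ?_ (by omega) f
    rw [pow_nu_succ, pow_one, h2, Matrix.mulVec_smul, he, hu.flag_nu 0 (by omega), hu.flag_zero,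
      smul_zero]
  have hb3 : β • (v + η • x) ∉ Submodule.span F {x, (u : MI) *ᵥ x} := by
    intro hmem
    apply hu.not_mem_span hx
    have h1 := sub_mem (Submodule.smul_mem _ β⁻¹ hmem)
      (Submodule.smul_mem _ η (Submodule.subset_span (Set.mem_insert x _)))
    rwa [smul_smul, inv_mul_cancel₀ hβ0, one_smul, add_sub_cancel_right] at h1
  obtain ⟨g, hg1, hg2, hg3⟩ := exists_triple (by rw [hye]; exact hQ1) h21 h31 h32 ha3 hb3
  refine hu.finish h3 hx hQ1 hs hg1 fun K hK hM hT => hfull K hT ?_ ?_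
  · rw [hv, ← sympTv_conj, ← sympTv_conj]
    exact mul_mem (mul_mem hK (mul_mem (mul_mem hK hT) (inv_mem hK))) (inv_mem hK)
  · have hux : sympTv ((u : MI) *ᵥ x) s ∈ K := by
      rw [← sympTv_conj]; exact mul_mem (mul_mem hK hT) (inv_mem hK)
    have hd : ((g * u * g⁻¹ : Sp) : MI) *ᵥ ((u : MI) *ᵥ x) = β • (v + η • x) := by
      rw [← hg2, Matrix.mulVec_mulVec, ← Submonoid.coe_mul, inv_mul_cancel_right, Submonoid.coe_mul,
        ← Matrix.mulVec_mulVec, hg3]
    rw [← hd, ← sympTv_conj]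
    exact mul_mem (mul_mem hM hux) (inv_mem hM)

theorem RegData.prime_case (hu : RegData u f) (h3 : 3 ≤ Fintype.card F)
    (hp : (Fintype.card F).Prime) {s : F} (hs0 : s ≠ 0) (hs : GoodScalar u (flagVec u f 1) s) :
    ThreeGen u := by
  obtain ⟨x, hx, hQ1⟩ := hu.exists_off_qk 1 (exists_ne_two h3) (by rw [pow_one]; exact hu.sq_ne_one)
  have hx0 : x ≠ 0 := fun e => hx (by rw [e, Matrix.mulVec_zero])
  obtain ⟨g, hg⟩ := symp_pretransitive hu.e1_ne hx0
  refine hu.finish h3 hx hQ1 hs hg fun K _ _ hT c => ?_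
  haveI : Fact (Fintype.card F).Prime := ⟨hp⟩
  haveI : CharP F (Fintype.card F) := charP_of_card_eq_prime rfl
  have hsurj := (ZMod.castHom_bijective F (n := Fintype.card F) rfl).2 (c / s)
  obtain ⟨k, hk⟩ := hsurj
  have hmul : ∀ j : ℕ, sympTv x ((j : F) * s) ∈ K := by
    intro j
    induction j with
    | zero => simp [sympTv_zero]
    | succ j ih => rw [Nat.cast_succ, add_mul, one_mul, ← sympTv_mul]; exact mul_mem ih hT
  have e : ((k.val : ℕ) : F) * s = c := by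
    rw [← map_natCast (ZMod.castHom (dvd_refl (Fintype.card F)) F), ZMod.natCast_zmod_val, hk,
      div_mul_cancel₀ _ hs0]
  exact e ▸ hmul k.val

theorem RegData.eigen_case (hu : RegData u f) (h3 : 3 ≤ Fintype.card F) {x : V} (hx : Off u x)
    (hQ1 : Qk u 1 x ≠ 0) (hQ2 : Qk u 2 x ≠ 0) {s ρ : F} (hρ : ρ ≠ 0) (hσ0 : ρ - ρ⁻¹ ≠ 0)
    (hσ : s * Qk u 2 x = ρ - ρ⁻¹) (hgen : ∀ M : Subfield F, ρ ^ 4 ∈ M → M = ⊤)
    (hs : GoodScalar u (flagVec u f 1) s)
    (hy : GoodPair u (flagVec u f 1) (Qk u 1 x) (Qk u 1 x ^ 2 * (1 - ρ) / Qk u 2 x)) :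
    ThreeGen u :=
  hu.plane_finish h3 hx hQ1 hQ2 hs hy fun _ h1 h2 h4 =>
    full_eigen h1 h2 hρ (by rw [← qk_two]; exact hσ) hσ0 (div_ne_zero hQ1 hQ2) h4 hgen

end Cfsg.Agent.Lie.SpGen
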