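import Cfsg.Agent.Lib.Lie.SympRegTwo
import Cfsg.Agent.Lib.Lie.SympRegFour

/-! Case distinction for the generation of `Sp_{2n}(F)` by three regular unipotent conjugates. -/

set_option autoImplicit false
set_option linter.unusedSectionVars false

namespace Cfsg.Agent.Lie.SpGen

open Matrix Cfsg.Agent.Classical

variable {F : Type*} [Field F] [Fintype F] {n : ℕ}

local notation "Sp" => Matrix.symplecticGroup (Fin n) F
local notation "V" => (Fin n ⊕ Fin n → F)

theorem subfield_eq_top_of_pow_four {ρ : F} (hρ : ρ ≠ 0) (hord : orderOf ρ = Fintype.card F - 1)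
    (h9 : Fintype.card F ≠ 9) (hnp : ¬ (Fintype.card F).Prime) :
    ∀ M : Subfield F, ρ ^ 4 ∈ M → M = ⊤ := by
  classical
  intro M hM
  by_contra hne
  have h2 : 2 ≤ Fintype.card M := Fintype.one_lt_card
  have hd : 2 ≤ Module.finrank M F := by
    by_contra h
    have hpos : 0 < Module.finrank M F := Module.finrank_pos
    have h1 : Module.finrank M F = 1 := by omega
    have hc : Fintype.card F = Fintype.card M := by
      rw [(Module.card_eq_pow_finrank : Fintype.card F = Fintype.card M ^ Module.finrank M F), h1, pow_one]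
    apply hne
    have hsurj : Function.Surjective (Subtype.val : M → F) :=
      ((Fintype.bijective_iff_injective_and_card _).2 ⟨Subtype.val_injective, hc.symm⟩).2
    rw [eq_top_iff]
    intro y _
    obtain ⟨⟨z, hz⟩, rfl⟩ := hsurj y
    exact hz
  have hsq : Fintype.card M ^ 2 ≤ Fintype.card F := by
    rw [(Module.card_eq_pow_finrank : Fintype.card F = Fintype.card M ^ Module.finrank M F)]
    exact Nat.pow_le_pow_right (by omega) hd
  have h4 : (ρ ^ 4) ^ (Fintype.card M - 1) = 1 := by
    have h := FiniteField.pow_card_sub_one_eq_one (⟨ρ ^ 4, hM⟩ : M)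
      (fun e => pow_ne_zero 4 hρ (congrArg Subtype.val e))
    simpa using congrArg Subtype.val h
  rw [← pow_mul] at h4
  have hdvd : Fintype.card F - 1 ∣ 4 * (Fintype.card M - 1) := hord ▸ orderOf_dvd_of_pow_eq_one h4
  have hle : Fintype.card F - 1 ≤ 4 * (Fintype.card M - 1) := Nat.le_of_dvd (by omega) hdvd
  obtain ⟨p, hchar⟩ := CharP.exists F
  obtain ⟨k, hp, hk⟩ := FiniteField.card F p
  have hq4 : Fintype.card F + 3 ≤ 4 * Fintype.card M := by omega
  have hm3 : Fintype.card M ≤ 3 := by nlinarith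
  interval_cases hm : Fintype.card M
  · have hF : Fintype.card F ≤ 5 := by omega
    interval_cases hF' : Fintype.card F
    · norm_num at hdvd
    · exact hnp (by norm_num)
  · have hF : Fintype.card F ≤ 9 := by omega
    interval_cases hF' : Fintype.card F <;> norm_num at hdvd h9

theorem exists_pair_as (h8 : 8 ≤ Fintype.card F) (h2 : (2 : F) = 0) (k : F) :
    ∃ r r' : F, r ^ 2 + r ≠ 0 ∧ (r ^ 2 + r) * k = r' ^ 2 + r' := by
  classical
  haveI : CharP F 2 := CharTwo.of_one_ne_zero_of_two_eq_zero one_ne_zero h2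
  let φ : F × F → F := fun q => (q.1 ^ 2 + q.1) * k + (q.2 ^ 2 + q.2)
  have hφ : ∀ a b : F × F, φ (a - b) = φ a - φ b := fun a b => by
    simp only [φ, Prod.fst_sub, Prod.snd_sub, CharTwo.sub_eq_add]
    simp only [CharTwo.add_sq]
    ring
  obtain ⟨c, _, hc⟩ := Finset.exists_le_card_fiber_of_mul_le_card_of_maps_to
    (s := (Finset.univ : Finset (F × F))) (t := (Finset.univ : Finset F)) (f := φ)
    (n := Fintype.card F) (fun _ _ => Finset.mem_univ _) Finset.univ_nonempty
    (by simp [Finset.card_univ])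
  obtain ⟨q₀, hq₀⟩ : ({q ∈ (Finset.univ : Finset (F × F)) | φ q = c}).Nonempty :=
    Finset.card_pos.1 (by omega)
  by_contra hcon
  push Not at hcon
  have hsub : ({q ∈ (Finset.univ : Finset (F × F)) | φ q = c}).image (fun q => q - q₀) ⊆
      ({0, 1} : Finset F) ×ˢ ({0, 1} : Finset F) := by
    intro d hd
    obtain ⟨q, hq, rfl⟩ := Finset.mem_image.1 hd
    simp only [Finset.mem_filter, Finset.mem_univ, true_and] at hq hq₀
    have h0 : φ (q - q₀) = 0 := by rw [hφ, hq, hq₀, sub_self]
    set r := (q - q₀).1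
    set r' := (q - q₀).2
    have h0' : (r ^ 2 + r) * k = r' ^ 2 + r' := by
      have : (r ^ 2 + r) * k + (r' ^ 2 + r') = 0 := h0
      rwa [CharTwo.add_eq_zero] at this
    have roots : ∀ a : F, a ^ 2 + a = 0 → a ∈ ({0, 1} : Finset F) := fun a ha => by
      have : a * (a + 1) = 0 := by linear_combination ha
      rcases mul_eq_zero.1 this with h | h
      · simp [h]
      · simp [CharTwo.add_eq_zero.1 h]
    have hr : r ^ 2 + r = 0 := by
      by_contra h
      exact hcon r r' h h0'
    rw [hr, zero_mul] at h0'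
    exact Finset.mem_product.2 ⟨roots r hr, roots r' h0'.symm⟩
  have h1 := Finset.card_le_card hsub
  rw [Finset.card_image_of_injective _ sub_left_injective, Finset.card_product] at h1
  have h3 : ({0, 1} : Finset F).card ≤ 2 := Finset.card_le_two
  nlinarith

theorem exists_sq (h2 : (2 : F) = 0) (a : F) : ∃ μ : F, μ ^ 2 = a := by
  haveI : CharP F 2 := CharTwo.of_one_ne_zero_of_two_eq_zero one_ne_zero h2
  obtain ⟨μ, hμ⟩ := FiniteField.isSquare_of_char_two (ringChar.eq F 2) a
  exact ⟨μ, by rw [hμ, sq]⟩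

theorem qk_ratio {u : Sp} (x : V) {μ : F} (hμ : μ ≠ 0) :
    Qk u 1 (μ • x) / Qk u 2 (μ • x) = Qk u 1 x / Qk u 2 x := by
  rw [qk_smul, qk_smul, mul_div_mul_left _ _ (pow_ne_zero 2 hμ)]

variable {u : Matrix.symplecticGroup (Fin n) F} {f : Fin n ⊕ Fin n → F}

/-- All ground fields but `F₂`, given the two parameter hypotheses. -/
theorem RegData.big_case (hu : RegData u f) (h3 : 3 ≤ Fintype.card F)
    (hz : ∃ z, Off u z ∧ Qk u 2 z ≠ 0)
    (hgen : (∀ s : F, GoodScalar u (flagVec u f 1) s) ∧
        (∀ b κ : F, b ≠ 0 → GoodPair u (flagVec u f 1) b κ) ∨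
      ((2 : F) = 0 ∧ (∀ r : F, GoodScalar u (flagVec u f 1) (r ^ 2 + r)) ∧
        ∀ b r : F, b ≠ 0 → GoodPair u (flagVec u f 1) b (b ^ 2 * (r ^ 2 + r)))) : ThreeGen u := by
  classical
  obtain ⟨p, hchar⟩ := CharP.exists F
  obtain ⟨k, hp, hk⟩ := FiniteField.card F p
  haveI := Fact.mk hp
  by_cases hprime : (Fintype.card F).Prime
  · rcases hgen with ⟨hs, _⟩ | ⟨h2, _, _⟩
    · exact hu.prime_case h3 hprime one_ne_zero (hs 1)
    · exfalso
      haveI : CharP F 2 := CharTwo.of_one_ne_zero_of_two_eq_zero one_ne_zero h2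
      have : p = 2 := CharP.eq F hchar inferInstance
      have := (Nat.prime_dvd_prime_iff_eq hp hprime).1 (by rw [hk]; exact dvd_pow_self p k.ne_zero)
      omega
  have h4 : 4 ≤ Fintype.card F := by
    by_contra h
    exact hprime (by rw [show Fintype.card F = 3 by omega]; norm_num)
  have hchar4 : Fintype.card F = 4 → (2 : F) = 0 := by
    intro h
    have hp2 : p = 2 := by
      have : p ∣ 2 ^ 2 := by rw [show 2 ^ 2 = Fintype.card F by rw [h]; norm_num, hk]; exact dvd_pow_self p k.ne_zero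
      exact (Nat.prime_dvd_prime_iff_eq hp Nat.prime_two).1 (hp.dvd_of_dvd_pow this)
    subst hp2
    exact_mod_cast CharP.cast_eq_zero F 2
  obtain ⟨x, hx, hQ1, hQ2⟩ := hu.exists_base h4 hchar4 hz
  obtain ⟨ρ', hρgen⟩ := IsCyclic.exists_generator (α := Fˣ)
  set ρ : F := (ρ' : F) with hρdef
  have hρ : ρ ≠ 0 := ρ'.ne_zero
  have hord : orderOf ρ = Fintype.card F - 1 := by
    rw [hρdef, orderOf_units, orderOf_eq_card_of_forall_mem_zpowers hρgen, Nat.card_eq_fintype_card,
      Fintype.card_units]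
  by_cases hsmall : Fintype.card F = 4 ∨ Fintype.card F = 9
  · -- fields with `p²` elements
    have hp2 : Fintype.card F = p ^ 2 := by
      rcases hsmall with h | h
      · have : p ∣ 2 ^ 2 := by rw [show 2 ^ 2 = Fintype.card F by rw [h]; norm_num, hk]; exact dvd_pow_self p k.ne_zero
        rw [h, (Nat.prime_dvd_prime_iff_eq hp Nat.prime_two).1 (hp.dvd_of_dvd_pow this)]; norm_num
      · have : p ∣ 3 ^ 2 := by rw [show 3 ^ 2 = Fintype.card F by rw [h]; norm_num, hk]; exact dvd_pow_self p k.ne_zero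
        rw [h, (Nat.prime_dvd_prime_iff_eq hp Nat.prime_three).1 (hp.dvd_of_dvd_pow this)]; norm_num
    set β := Qk u 1 x / Qk u 2 x with hβ
    have hcastpow : ∀ j : ℕ, ((j : F)) ^ p = (j : F) := fun j => by
      rw [← frobenius_def p, map_natCast]
    by_cases hl : ∃ l : ℕ, β ^ 2 = (l : F)
    · obtain ⟨l, hl⟩ := hl
      have hl0 : (l : F) ≠ 0 := hl ▸ pow_ne_zero 2 (div_ne_zero hQ1 hQ2)
      set kk := 1 + ρ ^ 2 with hkk
      -- the square of `1 + ρ²` is not in the prime field
      have hkey : kk ≠ 0 ∧ ∀ j : ℕ, (j : F) ≠ kk ^ 2 := by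
        rcases hsmall with h4' | h9
        · have h2 : (2 : F) = 0 := hchar4 h4'
          have hρ3 : ρ ^ 3 = 1 := by
            have := FiniteField.pow_card_sub_one_eq_one ρ hρ
            rwa [h4'] at this
          have hρ1 : ρ ≠ 1 := fun e => by rw [e, orderOf_one] at hord; omega
          have hq : ρ ^ 2 + ρ + 1 = 0 := by
            have : (ρ - 1) * (ρ ^ 2 + ρ + 1) = 0 := by linear_combination hρ3
            exact (mul_eq_zero.1 this).resolve_left (sub_ne_zero.2 hρ1)
          have hkρ : kk = ρ := by linear_combination hkk + hq - ρ * h2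
          refine ⟨hkρ ▸ hρ, fun j hj => hρ1 ?_⟩
          have h5 := hcastpow j
          have hpp : p = 2 := by
            have : p ^ 2 = 2 ^ 2 := by rw [← hp2, h4']; norm_num
            exact Nat.pow_left_injective (by norm_num) this
          rw [hj, hkρ, hpp] at h5
          have h6 : ρ * ρ = 1 * ρ ^ 2 := by ring
          have : ρ ^ 3 * ρ = ρ ^ 2 := by linear_combination h5
          rw [hρ3, one_mul] at this
          exact (mul_right_cancel₀ hρ (by linear_combination -this : ρ * ρ = 1 * ρ))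
        · have hρ8 : ρ ^ 4 * ρ ^ 4 = 1 := by
            have := FiniteField.pow_card_sub_one_eq_one ρ hρ
            rw [h9] at this
            rw [← pow_add]; exact this
          have hρ4 : ρ ^ 4 = -1 := by
            refine (mul_self_eq_one_iff.1 hρ8).resolve_left fun e => ?_
            have := orderOf_dvd_of_pow_eq_one e
            rw [hord, h9] at this
            norm_num at this
          have hp3 : p = 3 := Nat.pow_left_injective (by norm_num : 2 ≠ 0) (show p ^ 2 = 3 ^ 2 by rw [← hp2, h9])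
          have h3F : (3 : F) = 0 := by subst hp3; exact_mod_cast CharP.cast_eq_zero F 3
          have hk2 : kk ^ 2 = 2 * ρ ^ 2 := by rw [hkk]; linear_combination hρ4
          have h20 : (2 : F) ≠ 0 := fun e => one_ne_zero (α := F) (by linear_combination h3F - e)
          refine ⟨fun e => ?_, fun j hj => ?_⟩
          · rw [e, zero_pow two_ne_zero] at hk2
            exact mul_ne_zero h20 (pow_ne_zero 2 hρ) hk2.symm
          · have h5 := hcastpow j
            rw [hj, hk2, hp3] at h5
            -- `8 ρ⁶ = 2 ρ²`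
            have h6 : (2 * ρ ^ 2) * (4 * ρ ^ 4 - 1) = 0 := by linear_combination h5
            rw [hρ4] at h6
            refine (mul_ne_zero (mul_ne_zero h20 (pow_ne_zero 2 hρ)) ?_) h6
            rw [show (4 : F) * -1 - 1 = 1 - 2 * 3 by norm_num, h3F, mul_zero, sub_zero]
            exact one_ne_zero
      set η := ρ / kk with hη
      have hηk : η * kk = ρ := div_mul_cancel₀ _ hkey.1
      rcases hgen with ⟨hs, hy⟩ | ⟨h2, hs, hy⟩
      · refine hu.plane_finish h3 hx hQ1 hQ2 (η := η) (hs (ρ / Qk u 2 x)) (hy _ _ hQ1) fun _ h1 h2' h3' => ?_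
        exact full_two_moved hp2 h1 h2' (σ := ρ) (k := kk) (η := η)
          (by rw [← qk_two, div_mul_cancel₀ _ hQ2]) hρ rfl hkey.1 hηk h3' hl hl0 hkey.2
      · have h4' : Fintype.card F = 4 := by
          refine hsmall.resolve_right fun h9 => ?_
          haveI : CharP F 2 := CharTwo.of_one_ne_zero_of_two_eq_zero one_ne_zero h2
          have : p = 2 := CharP.eq F hchar inferInstance
          rw [this, h9] at hp2
          norm_num at hp2
        obtain ⟨μ, hμ⟩ := exists_sq h2 (ρ / Qk u 2 x)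
        have hμ0 : μ ≠ 0 := fun e => by
          rw [e, zero_pow two_ne_zero] at hμ
          exact div_ne_zero hρ hQ2 hμ.symm
        have hx' := off_smul hμ0 hx
        have hQ2' : Qk u 2 (μ • x) = ρ := by rw [qk_smul, hμ, div_mul_cancel₀ _ hQ2]
        have hρ3 : ρ ^ 3 = 1 := by
          have := FiniteField.pow_card_sub_one_eq_one ρ hρ
          rwa [h4'] at this
        have hρ1 : ρ ≠ 1 := fun e => by rw [e, orderOf_one] at hord; omega
        have hq : ρ ^ 2 + ρ + 1 = 0 := by
          have : (ρ - 1) * (ρ ^ 2 + ρ + 1) = 0 := by linear_combination hρ3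
          exact (mul_eq_zero.1 this).resolve_left (sub_ne_zero.2 hρ1)
        have hs1 : ρ ^ 2 + ρ = 1 := by linear_combination hq - h2
        have hη1 : η = 1 := by
          rw [hη, div_eq_one_iff_eq hkey.1, hkk]; linear_combination -hq + ρ * h2
        have hQ1' : Qk u 1 (μ • x) ≠ 0 := by rw [qk_smul]; exact mul_ne_zero (pow_ne_zero 2 hμ0) hQ1
        refine hu.plane_finish h3 hx' hQ1' (hQ2' ▸ hρ) (η := η) (hs ρ) ?_ fun _ h1 h2' h3' => ?_
        · have := hy (Qk u 1 (μ • x)) 0 hQ1'
          rw [hη1, sub_self, mul_zero, zero_div]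
          simpa using this
        · exact full_two_moved hp2 h1 h2' (σ := ρ) (k := kk) (η := η)
            (by rw [← qk_two, hQ2', hs1, one_mul]) hρ rfl hkey.1 hηk h3'
            (by rw [qk_ratio x hμ0]; exact hl) hl0 hkey.2
    · push Not at hl
      have hr : ∀ j : ℕ, (j : F) ≠ β ^ 2 := fun j e => hl j e.symm
      rcases hgen with ⟨hs, hy⟩ | ⟨h2, hs, hy⟩
      · refine hu.plane_finish h3 hx hQ1 hQ2 (η := 0) (hs 1) (hy _ _ hQ1) fun _ h1 h2' h3' => ?_
        rw [zero_smul, add_zero] at h3'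
        exact full_two_zero hp2 h1 h2' h3' (by rw [← qk_two, one_mul]; exact hQ2) hr
      · have h4' : Fintype.card F = 4 := by
          refine hsmall.resolve_right fun h9 => ?_
          haveI : CharP F 2 := CharTwo.of_one_ne_zero_of_two_eq_zero one_ne_zero h2
          have : p = 2 := CharP.eq F hchar inferInstance
          rw [this, h9] at hp2
          norm_num at hp2
        have hρ3 : ρ ^ 3 = 1 := by
          have := FiniteField.pow_card_sub_one_eq_one ρ hρ
          rwa [h4'] at this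
        have hρ1 : ρ ≠ 1 := fun e => by rw [e, orderOf_one] at hord; omega
        have hq : ρ ^ 2 + ρ + 1 = 0 := by
          have : (ρ - 1) * (ρ ^ 2 + ρ + 1) = 0 := by linear_combination hρ3
          exact (mul_eq_zero.1 this).resolve_left (sub_ne_zero.2 hρ1)
        have hs1 : ρ ^ 2 + ρ = 1 := by linear_combination hq - h2
        obtain ⟨μ, hμ⟩ := exists_sq h2 (1 / Qk u 2 x)
        have hμ0 : μ ≠ 0 := fun e => by
          rw [e, zero_pow two_ne_zero] at hμ
          exact div_ne_zero one_ne_zero hQ2 hμ.symm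
        have hQ2' : Qk u 2 (μ • x) = 1 := by rw [qk_smul, hμ, div_mul_cancel₀ _ hQ2]
        have hQ1' : Qk u 1 (μ • x) ≠ 0 := by rw [qk_smul]; exact mul_ne_zero (pow_ne_zero 2 hμ0) hQ1
        refine hu.plane_finish h3 (off_smul hμ0 hx) hQ1' (hQ2' ▸ one_ne_zero) (η := 0) (hs ρ) ?_
          fun _ h1 h2' h3' => ?_
        · have := hy (Qk u 1 (μ • x)) ρ hQ1'
          rw [hs1, mul_one] at this
          rwa [hQ2', div_one, sub_zero, mul_one]
        · rw [zero_smul, add_zero] at h3'
          exact full_two_zero hp2 h1 h2' h3' (by rw [← qk_two, hQ2', hs1, one_mul]; exact one_ne_zero)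
            (by rw [qk_ratio x hμ0]; exact hr)
  · push Not at hsmall
    have hg := subfield_eq_top_of_pow_four hρ hord hsmall.2 hprime
    have hσ0 : ρ - ρ⁻¹ ≠ 0 := by
      intro e
      have h1 : ρ ^ 2 = 1 := by rw [sq]; nth_rw 2 [sub_eq_zero.1 e]; exact mul_inv_cancel₀ hρ
      have := Nat.le_of_dvd two_pos (orderOf_dvd_of_pow_eq_one h1)
      omega
    rcases hgen with ⟨hs, hy⟩ | ⟨h2, hs, hy⟩
    · exact hu.eigen_case h3 hx hQ1 hQ2 hρ hσ0 (div_mul_cancel₀ _ hQ2) hg (hs _) (hy _ _ hQ1)
    · haveI : CharP F 2 := CharTwo.of_one_ne_zero_of_two_eq_zero one_ne_zero h2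
      have hp2 : p = 2 := CharP.eq F hchar inferInstance
      have h8 : 8 ≤ Fintype.card F := by
        rw [hk, hp2] at h4 hsmall ⊢
        have h3k : 3 ≤ (k : ℕ) := by
          rcases Nat.lt_or_ge (k : ℕ) 3 with h | h
          · interval_cases (k : ℕ) <;> simp_all
          · exact h
        exact le_trans (by norm_num) (Nat.pow_le_pow_right two_pos h3k)
      obtain ⟨r, r', hr, hrr⟩ := exists_pair_as h8 h2 ((1 - ρ) / (ρ - ρ⁻¹))
      obtain ⟨μ, hμ⟩ := exists_sq h2 ((ρ - ρ⁻¹) / ((r ^ 2 + r) * Qk u 2 x))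
      have hμ0 : μ ≠ 0 := fun e => by
        rw [e, zero_pow two_ne_zero] at hμ
        exact div_ne_zero hσ0 (mul_ne_zero hr hQ2) hμ.symm
      have hQ2' : (r ^ 2 + r) * Qk u 2 (μ • x) = ρ - ρ⁻¹ := by
        rw [qk_smul, hμ]; generalize r ^ 2 + r = S at hr ⊢; field_simp
      have hQ1' : Qk u 1 (μ • x) ≠ 0 := by rw [qk_smul]; exact mul_ne_zero (pow_ne_zero 2 hμ0) hQ1
      have hQ20 : Qk u 2 (μ • x) ≠ 0 := by rw [qk_smul]; exact mul_ne_zero (pow_ne_zero 2 hμ0) hQ2
      refine hu.eigen_case h3 (off_smul hμ0 hx) hQ1' hQ20 hρ hσ0 hQ2' hg (hs r) ?_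
      have := hy (Qk u 1 (μ • x)) r' hQ1'
      rw [← hrr, ← hQ2'] at this
      rwa [show Qk u 1 (μ • x) ^ 2 * ((r ^ 2 + r) * ((1 - ρ) / ((r ^ 2 + r) * Qk u 2 (μ • x)))) =
        Qk u 1 (μ • x) ^ 2 * (1 - ρ) / Qk u 2 (μ • x) by
          generalize r ^ 2 + r = S at hr ⊢; field_simp] at this

end Cfsg.Agent.Lie.SpGen
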