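import Cfsg.Agent.Lib.Lie.SympRegGen

/-! Three conjugates of a regular unipotent element generate `Sp_{2n}(2)`, `n ≥ 3`. -/

set_option autoImplicit false
set_option linter.unusedSectionVars false

namespace Cfsg.Agent.Lie.SpGen

open Matrix Cfsg.Agent.Classical

variable {F : Type*} [Field F] {n : ℕ}

local notation "V" => (Fin n ⊕ Fin n → F)
local notation "Sp" => Matrix.symplecticGroup (Fin n) F
local notation "MI" => Matrix (Fin n ⊕ Fin n) (Fin n ⊕ Fin n) F
local notation "B" => sympForm n F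

variable {K : Subgroup (Matrix.symplecticGroup (Fin n) F)} {v w : Fin n ⊕ Fin n → F}

theorem Full.add (hv : Full K v) (hw : Full K w) (hB : B v w ≠ 0) : Full K (v + w) := by
  have := hv.add_smul hw hB 1
  rwa [one_smul] at this

theorem two_extend (h2 : ∀ c : F, c = 0 ∨ c = 1) (U : Submodule F V) (hU : ∀ a ∈ U, Full K a)
    (hw : Full K w) {z : V} (hzU : z ∈ U) (hzw : B z w ≠ 0) {p q : V} (hp : p ∈ U) (hq : q ∈ U)
    (hpq : B p q = 0) (hp0 : p ≠ 0) (hq0 : q ≠ 0) (hne : p ≠ q)
    (hsp : ∀ y : V, y ≠ 0 → ∃ s, Full K s ∧ B y s ≠ 0) : ∀ a ∈ U, Full K (a + w) := by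
  have one_of : ∀ {c : F}, c ≠ 0 → c = 1 := fun h => (h2 _).resolve_left h
  have h11 : (1 : F) + 1 = 0 := (h2 _).resolve_right (by simp)
  have char2 : ∀ a b : V, B a b = B b a := fun a b => by
    rw [sympForm_swap]
    rcases h2 (B b a) with h | h <;> rw [h]
    · simp
    · exact neg_eq_of_add_eq_zero_left h11
  have hadd : ∀ a : V, a + a = 0 := fun a => by
    rw [← two_smul F a, ← one_add_one_eq_two, h11, zero_smul]
  have good : ∀ a ∈ U, (∃ u ∈ U, B (a + w) u ≠ 0) → Full K (a + w) := by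
    intro a ha hu
    obtain ⟨u, huU, hu⟩ := hu
    obtain ⟨z', hz'U, hz'w, hz'y⟩ : ∃ z' ∈ U, B z' w ≠ 0 ∧ B (a + w) z' ≠ 0 := by
      by_cases h1 : B (a + w) z = 0
      · by_cases hu2 : B u w = 0
        · exact ⟨z + u, U.add_mem hzU huU, by rwa [sympForm_add_left, hu2, add_zero],
            by rwa [sympForm_add_right, h1, zero_add]⟩
        · exact ⟨u, huU, hu2, hu⟩
      · exact ⟨z, hzU, hzw, h1⟩
    rcases eq_or_ne (B a w) 0 with h0 | h0
    · have h1 : B (a + z') w ≠ 0 := by rwa [sympForm_add_left, h0, zero_add]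
      have h3 : B (a + z' + w) z' ≠ 0 := by
        rw [show a + z' + w = (a + w) + z' by abel, sympForm_add_left, sympForm_self, add_zero]
        exact hz'y
      have h4 := ((hU _ (U.add_mem ha hz'U)).add hw h1).add (hU _ hz'U) h3
      rwa [show a + z' + w + z' = a + w + (z' + z') by abel, hadd, add_zero] at h4
    · exact (hU _ ha).add hw h0
  intro a ha
  by_cases hu : ∃ u ∈ U, B (a + w) u ≠ 0
  · exact good a ha hu
  push Not at hu
  rcases eq_or_ne (a + w) 0 with h0 | h0
  · rw [h0]; exact full_zero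
  have hwa : ∀ c ∈ U, B w c = B a c := fun c hc => by
    have h := hu c hc
    rw [sympForm_add_left, add_comm, ← eq_neg_iff_add_eq_zero, ← sympForm_swap] at h
    rw [h, char2 c a]
  have haw : B a w = 0 := by rw [char2, hwa a ha, sympForm_self]
  -- the auxiliary vector `r`
  obtain ⟨r, hrU, hr0, hra, t, htU, hrt, hwt⟩ :
      ∃ r ∈ U, r ≠ 0 ∧ B a r = 0 ∧ ∃ t ∈ U, B r t = 0 ∧ B w t = 1 := by
    have haz : B a z ≠ 0 := by rw [← hwa z hzU, char2]; exact hzw
    have ha0 : a ≠ 0 := fun e => haz (by rw [e, sympForm_zero_left])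
    obtain ⟨z₁, hz₁U, hz₁0, hz₁a, hz₁ne⟩ : ∃ z₁ ∈ U, z₁ ≠ 0 ∧ B a z₁ = 0 ∧ z₁ ≠ a := by
      by_cases h1 : B a p = 0 ∧ p ≠ a
      · exact ⟨p, hp, hp0, h1.1, h1.2⟩
      by_cases h2' : B a q = 0 ∧ q ≠ a
      · exact ⟨q, hq, hq0, h2'.1, h2'.2⟩
      push Not at h1 h2'
      by_cases hpa : p = a
      · exact absurd (h2' (by rw [← hpa]; exact hpq)) (fun e => hne (hpa.trans e.symm))
      by_cases hqa : q = a
      · exact absurd (h1 (by rw [← hqa, char2]; exact hpq)) (fun e => hne (e.trans hqa.symm))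
      have hp1 : B a p = 1 := one_of fun e => hpa (h1 e)
      have hq1 : B a q = 1 := one_of fun e => hqa (h2' e)
      refine ⟨p + q, U.add_mem hp hq, fun e => hne ?_, by rw [sympForm_add_right, hp1, hq1, h11],
        fun e => ?_⟩
      · rw [← add_zero p, ← hadd q, ← add_assoc, e, zero_add]
      · rw [← e, sympForm_add_left, sympForm_self, char2 q p, hpq, add_zero] at hp1
        exact zero_ne_one hp1
    by_cases hex : ∃ t ∈ U, B z₁ t = 0 ∧ B w t = 1
    · exact ⟨z₁, hz₁U, hz₁0, hz₁a, hex⟩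
    push Not at hex
    have hsame : ∀ c ∈ U, B z₁ c = B a c ∨ B a c = 0 := fun c hc => by
      rcases h2 (B a c) with h | h
      · exact Or.inr h
      · refine Or.inl ?_
        rw [h]; exact one_of fun e => hex c hc e (by rw [hwa c hc, h])
    have h1z : B a z = 1 := one_of haz
    have hzz : B z₁ z = 1 := ((hsame z hzU).resolve_right haz).trans h1z
    refine ⟨a + z₁, U.add_mem ha hz₁U, fun e => hz₁ne ?_, by
      rw [sympForm_add_right, sympForm_self, hz₁a, add_zero], z, hzU,
      by rw [sympForm_add_left, h1z, hzz, h11], by rw [hwa z hzU, h1z]⟩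
    rw [← zero_add a, ← e, show a + z₁ + a = a + a + z₁ by abel, hadd, zero_add]
  have hwr : Full K (w + r) := by
    rw [add_comm]
    refine good r hrU ⟨t, htU, ?_⟩
    rw [sympForm_add_left, hrt, hwt, zero_add]
    exact one_ne_zero
  have hyr : B (a + w) r = 0 := hu r hrU
  obtain ⟨s₁, hs₁, hys₁⟩ := hsp _ h0
  obtain ⟨s', hs', hys', hrs'⟩ : ∃ s', Full K s' ∧ B (a + w) s' = 1 ∧ B r s' = 1 := by
    obtain ⟨s₂, hs₂, hrs₂⟩ := hsp r hr0
    rcases h2 (B (a + w) s₂) with hy2 | hy2
    swap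
    · exact ⟨s₂, hs₂, hy2, one_of hrs₂⟩
    rcases h2 (B r s₁) with hr1 | hr1
    swap
    · exact ⟨s₁, hs₁, one_of hys₁, hr1⟩
    obtain ⟨s₃, hs₃, hy3, hr3, c, hcU, hrc, hc⟩ : ∃ s₃, Full K s₃ ∧ B (a + w) s₃ = 1 ∧ B r s₃ = 0 ∧
        ∃ c ∈ U, B r c = 0 ∧ B s₃ c = 1 := by
      by_cases hex : ∃ c ∈ U, B r c = 0 ∧ B s₁ c = 1
      · exact ⟨s₁, hs₁, one_of hys₁, hr1, hex⟩
      push Not at hex
      have hsc : ∀ c ∈ U, B r c = 0 → B s₁ c = 0 := fun c hc h =>
        (h2 _).resolve_right (hex c hc h)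
      have hsw : B s₁ w = 1 := by
        have h := one_of hys₁
        rwa [char2, sympForm_add_right, hsc a ha (by rw [char2]; exact hra), zero_add] at h
      refine ⟨s₁ + w, hs₁.add hw (by rw [hsw]; exact one_ne_zero), ?_, ?_, t, htU, hrt, ?_⟩
      · rw [sympForm_add_right, one_of hys₁, sympForm_add_left, haw, sympForm_self, add_zero,
          add_zero]
      · rw [sympForm_add_right, hr1, char2 r, hwa r hrU, hra, add_zero]
      · rw [sympForm_add_left, hsc t htU hrt, hwt, zero_add]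
    rcases h2 (B s₃ s₂) with h32 | h32
    swap
    · exact ⟨s₃ + s₂, hs₃.add hs₂ (by rw [h32]; exact one_ne_zero),
        by rw [sympForm_add_right, hy3, hy2, add_zero],
        by rw [sympForm_add_right, hr3, one_of hrs₂, zero_add]⟩
    obtain ⟨c', hc'U, hrc', hc', hc'2⟩ :
        ∃ c' ∈ U, B r c' = 0 ∧ B s₃ c' = 1 ∧ B c' s₂ = 1 := by
      rcases h2 (B c s₂) with h | h
      · exact ⟨c + r, U.add_mem hcU hrU, by rw [sympForm_add_right, hrc, sympForm_self, add_zero],
          by rw [sympForm_add_right, hc, char2 s₃ r, hr3, add_zero],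
          by rw [sympForm_add_left, h, one_of hrs₂, zero_add]⟩
      · exact ⟨c, hcU, hrc, hc, h⟩
    have h4 : Full K (s₃ + c') := hs₃.add (hU _ hc'U) (by rw [hc']; exact one_ne_zero)
    refine ⟨s₃ + c' + s₂, h4.add hs₂ ?_, ?_, ?_⟩
    · rw [sympForm_add_left, h32, hc'2, zero_add]; exact one_ne_zero
    · rw [sympForm_add_right, sympForm_add_right, hy3, hu c' hc'U, hy2, add_zero, add_zero]
    · rw [sympForm_add_right, sympForm_add_right, hr3, hrc', one_of hrs₂, zero_add, zero_add]
  have hP : Full K (a + w + r + s') := by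
    rcases h2 (B a s') with has | has
    · have hws : B w s' = 1 := by rwa [sympForm_add_left, has, zero_add] at hys'
      have h1 := (hU _ (U.add_mem ha hrU)).add (hw.add hs' (by rw [hws]; exact one_ne_zero))
        (by
          rw [sympForm_add_left, sympForm_add_right, sympForm_add_right, haw, has, char2 r w,
            hwa r hrU, hra, hrs', zero_add, zero_add, zero_add]
          exact one_ne_zero)
      rwa [show a + r + (w + s') = a + w + r + s' by abel] at h1
    · have hws : B w s' = 0 := by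
        rw [sympForm_add_left, has] at hys'
        exact add_left_cancel (hys'.trans (add_zero 1).symm)
      have h1 := ((hU _ ha).add hs' (by rw [has]; exact one_ne_zero)).add hwr
        (by
          rw [sympForm_add_left, sympForm_add_right, sympForm_add_right, haw, hra, char2 s' w, hws,
            char2 s' r, hrs', zero_add, zero_add, zero_add]
          exact one_ne_zero)
      rwa [show a + s' + (w + r) = a + w + r + s' by abel] at h1
  have h5 := hP.add (hU _ hrU) (by
    rw [sympForm_add_left, sympForm_add_left, hyr, sympForm_self, char2 s' r, hrs', zero_add,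
      zero_add]
    exact one_ne_zero)
  rw [show a + w + r + s' + r = a + w + s' + (r + r) by abel, hadd, add_zero] at h5
  have h6 := h5.add hs' (by
    rw [sympForm_add_left, hys', sympForm_self, add_zero]; exact one_ne_zero)
  rwa [show a + w + s' + s' = a + w + (s' + s') by abel, hadd, add_zero] at h6

variable [Fintype F]

theorem two_elems (h : Fintype.card F = 2) (c : F) : c = 0 ∨ c = 1 := by
  classical
  have : ({0, 1} : Finset F) = Finset.univ :=
    Finset.eq_univ_of_card _ (by rw [Finset.card_pair zero_ne_one, h])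
  simpa using (this ▸ Finset.mem_univ c : c ∈ ({0, 1} : Finset F))

/-- An isotropic plane of centres and a spanning star. -/
theorem eq_top_of_two (h : Fintype.card F = 2) {e l : V} (he : Full K e) (hl : Full K l)
    (hel : Full K (e + l)) (horth : B e l = 0) (he0 : e ≠ 0) (hl0 : l ≠ 0) (hne : e ≠ l)
    (x : ℕ → V) (hx : ∀ i, Full K (x i)) (hb : ∀ i, B e (x i) ≠ 0)
    (hspan : Submodule.span F (Set.range x) = ⊤) : K = ⊤ := by
  classical
  have h2 := two_elems h
  have hsp : ∀ y : V, y ≠ 0 → ∃ s, Full K s ∧ B y s ≠ 0 := by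
    intro y hy
    by_contra hcon
    push Not at hcon
    refine hy (eq_zero_of_sympForm_eq_zero fun v => ?_)
    have hv : v ∈ Submodule.span F (Set.range x) := hspan ▸ Submodule.mem_top
    induction hv using Submodule.span_induction with
    | mem v hv => obtain ⟨i, rfl⟩ := hv; exact hcon _ (hx i)
    | zero => simp
    | add a b _ _ iha ihb => rw [sympForm_add_right, iha, ihb, add_zero]
    | smul c a _ ih => rw [sympForm_smul_right, ih, mul_zero]
  let T : Set (Submodule F V) := {U | e ∈ U ∧ l ∈ U ∧ ∀ a ∈ U, Full K a}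
  have hTne : T.Nonempty := by
    refine ⟨Submodule.span F {e, l}, Submodule.subset_span (by simp), Submodule.subset_span (by simp),
      fun a ha => ?_⟩
    obtain ⟨c, d, rfl⟩ := Submodule.mem_span_pair.1 ha
    rcases h2 c with rfl | rfl <;> rcases h2 d with rfl | rfl <;>
      simp [full_zero, he, hl, hel]
  obtain ⟨U, hUT⟩ := (Set.toFinite T).exists_maximal hTne
  obtain ⟨⟨heU, hlU, hU⟩, hmax⟩ := hUT
  have hall : ∀ i, x i ∈ U := by
    intro i
    by_contra hi
    have hmem : U ⊔ Submodule.span F {x i} ∈ T := by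
      refine ⟨Submodule.mem_sup_left heU, Submodule.mem_sup_left hlU, fun a ha => ?_⟩
      obtain ⟨a', ha', c', hc', rfl⟩ := Submodule.mem_sup.1 ha
      obtain ⟨c, rfl⟩ := Submodule.mem_span_singleton.1 hc'
      rcases h2 c with rfl | rfl
      · rw [zero_smul, add_zero]; exact hU a' ha'
      · rw [one_smul]
        exact two_extend h2 U hU (hx i) heU (hb i) heU hlU horth he0 hl0 hne hsp a' ha'
    exact hi (hmax hmem le_sup_left (Submodule.mem_sup_right (Submodule.mem_span_singleton_self _)))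
  have htop : U = ⊤ := top_unique (hspan ▸ Submodule.span_le.2 (by rintro _ ⟨i, rfl⟩; exact hall i))
  rw [eq_top_iff, ← closure_sympTvSet, Subgroup.closure_le]
  rintro A ⟨v, c, hA⟩
  rw [show A = sympTv v c from Subtype.ext hA]
  exact hU v (htop ▸ Submodule.mem_top) c

variable {u : Matrix.symplecticGroup (Fin n) F} {f : Fin n ⊕ Fin n → F}

theorem RegData.two_case (hu : RegData u f) (h : Fintype.card F = 2) (hn : 3 ≤ n) :
    ThreeGen u := by
  have h2 := two_elems h
  have one_of : ∀ {c : F}, c ≠ 0 → c = 1 := fun h => (h2 _).resolve_left h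
  have h11 : (1 : F) + 1 = 0 := (h2 _).resolve_right (by simp)
  set e := flagVec u f 1 with he
  have hfe : B f e = 1 := one_of hu.pairing_ne
  have he2 : nu u *ᵥ flagVec u f 2 = e := hu.flag_nu 1 (by omega)
  obtain ⟨l, hlf, hNl, hle⟩ : ∃ l, B l f = 1 ∧ nu u *ᵥ l = e ∧ B l e = 0 := by
    rcases h2 (B (flagVec u f 2) f) with h0 | h0
    · refine ⟨flagVec u f 2 + e, ?_, ?_, ?_⟩
      · rw [sympForm_add_left, h0, sympForm_swap e, hfe, zero_add]
        exact neg_eq_of_add_eq_zero_left h11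
      · rw [Matrix.mulVec_add, he2, he, hu.flag_nu 0 (by omega), hu.flag_zero, add_zero]
      · rw [sympForm_add_left, he, hu.flag_orth (by omega), hu.flag_orth (by omega), add_zero]
    · exact ⟨flagVec u f 2, h0, he2, hu.flag_orth (by omega)⟩
  set w := nu u ^ (n - 1) *ᵥ f with hw
  have hwN : nu u *ᵥ w = nu u ^ n *ᵥ f := by
    rw [hw, ← pow_nu_succ, show n - 1 + 1 = n by omega]
  have hw1 : B ((u : MI) *ᵥ w) w = 1 := by
    refine one_of ?_
    rw [u_apply, sympForm_add_left, sympForm_self, zero_add, hwN, sympForm_swap]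
    exact neg_ne_zero.2 hu.mid_ne
  have h2F : (2 : F) = 0 := by rw [← one_add_one_eq_two, h11]
  have huu : (u : MI) *ᵥ ((u : MI) *ᵥ w) = w + nu u *ᵥ (nu u *ᵥ w) := by
    rw [u_apply (u := u) w, Matrix.mulVec_add, u_apply, u_apply]
    rw [show w + nu u *ᵥ w + (nu u *ᵥ w + nu u *ᵥ (nu u *ᵥ w)) =
      w + nu u *ᵥ (nu u *ᵥ w) + (2 : F) • (nu u *ᵥ w) by module, h2F, zero_smul, add_zero]
  have hNNw : nu u *ᵥ (nu u *ᵥ w) = nu u ^ (n + 1) *ᵥ f := by rw [hwN, ← pow_nu_succ]
  have hw2 : B ((u : MI) *ᵥ ((u : MI) *ᵥ w)) w = 0 := by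
    rw [huu, sympForm_add_left, sympForm_self, zero_add, hNNw, sympForm_swap,
      form_nu_vanish (n + 1) _ _ (by rw [hw, Matrix.mulVec_mulVec, ← pow_add]
                                     exact hu.pow_eq_zero (by omega) f) le_rfl, neg_zero]
  have hw3 : B ((u : MI) *ᵥ ((u : MI) *ᵥ w)) ((u : MI) *ᵥ w) = 1 := by rw [sympForm_map, hw1]
  have ha3 : (u : MI) *ᵥ ((u : MI) *ᵥ w) ∉ Submodule.span F {w, (u : MI) *ᵥ w} := by
    intro hmem
    obtain ⟨a, b, hab⟩ := Submodule.mem_span_pair.1 hmem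
    have hb : b = 0 := by
      have := hw2
      rwa [← hab, sympForm_add_left, sympForm_smul_left, sympForm_smul_left, sympForm_self, hw1,
        mul_zero, zero_add, mul_one] at this
    have ha : a = 1 := by
      refine one_of fun h0 => zero_ne_one (α := F) ?_
      rw [← hw3, ← hab, h0, hb, zero_smul, zero_smul, add_zero, sympForm_zero_left]
    rw [ha, hb, one_smul, zero_smul, add_zero, huu, left_eq_add, hNNw] at hab
    apply hu.cyc
    rw [show 2 * n - 1 = (n - 2) + (n + 1) by omega, pow_add, ← Matrix.mulVec_mulVec, hab,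
      Matrix.mulVec_zero]
  have hb3 : l ∉ Submodule.span F {e, f} := by
    intro hmem
    obtain ⟨a, b, hab⟩ := Submodule.mem_span_pair.1 hmem
    have hb : b = 0 := by
      have := hle
      rwa [← hab, sympForm_add_left, sympForm_smul_left, sympForm_smul_left, sympForm_self, hfe,
        mul_zero, zero_add, mul_one] at this
    apply hu.e1_ne
    rw [← he, ← hNl, ← hab, hb, zero_smul, add_zero, Matrix.mulVec_smul, he,
      hu.flag_nu 0 (by omega), hu.flag_zero, smul_zero]
  obtain ⟨g, hg1, hg2, hg3⟩ := exists_triple (a₁ := w) (a₂ := (u : MI) *ᵥ w)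
    (a₃ := (u : MI) *ᵥ ((u : MI) *ᵥ w)) (b₁ := e) (b₂ := f) (b₃ := l)
    (by rw [hw1]; exact one_ne_zero) (by rw [hw1, hfe]) (by rw [hw2, hle]) (by rw [hw3, hlf]) ha3 hb3
  obtain ⟨h0, hh⟩ := hu.good_scalar_large hn (1 : F)
  refine ⟨g, h0, ?_⟩
  set K := Subgroup.closure ({u, g * u * g⁻¹, h0 * u * h0⁻¹} : Set Sp)
  have hu' : u ∈ K := Subgroup.subset_closure (by simp)
  have hM : g * u * g⁻¹ ∈ K := Subgroup.subset_closure (by simp)
  have hM' : h0 * u * h0⁻¹ ∈ K := Subgroup.subset_closure (by simp)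
  have hT : sympTv e 1 ∈ K := by
    rw [show sympTv e (1 : F) = (h0 * u * h0⁻¹) * u⁻¹ by rw [hh, mul_inv_cancel_right]]
    exact mul_mem hM' (inv_mem hu')
  have hfe' : Full K e := fun c => by
    rcases h2 c with rfl | rfl
    · rw [sympTv_zero]; exact one_mem K
    · exact hT
  have hMe : ((g * u * g⁻¹ : Sp) : MI) *ᵥ e = f := by
    rw [← hg1, Matrix.mulVec_mulVec, ← Submonoid.coe_mul, inv_mul_cancel_right, Submonoid.coe_mul,
      ← Matrix.mulVec_mulVec, hg2]
  have hMf : ((g * u * g⁻¹ : Sp) : MI) *ᵥ f = l := by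
    rw [← hg2, Matrix.mulVec_mulVec, ← Submonoid.coe_mul, inv_mul_cancel_right, Submonoid.coe_mul,
      ← Matrix.mulVec_mulVec, hg3]
  have hff : Full K f := hMe ▸ hfe'.conj hM
  have hfl : Full K l := hMf ▸ hff.conj hM
  have hel : Full K (e + l) := by
    have := hfl.conj hu'
    rwa [u_apply, hNl, add_comm] at this
  have hl0 : l ≠ 0 := fun e0 => hu.e1_ne (by rw [← he, ← hNl, e0, Matrix.mulVec_zero])
  refine eq_top_of_two h hfe' hfl hel (by rw [sympForm_swap, hle, neg_zero]) hu.e1_ne hl0 ?_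
    (fun i => ((u ^ i : Sp) : MI) *ᵥ f) (fun i => hff.conj (pow_mem hu' i)) (fun i => ?_) ?_
  · intro e0
    apply hu.e1_ne
    rw [← he, ← hNl, ← e0, he, hu.flag_nu 0 (by omega), hu.flag_zero]
  · have hfix : ∀ k : ℕ, ((u ^ k : Sp) : MI) *ᵥ e = e := by
      intro k
      induction k with
      | zero => simp
      | succ k ih => rw [pow_succ, Submonoid.coe_mul, ← Matrix.mulVec_mulVec, hu.e1_fixed, ← he, ih]
    rw [← hfix i, sympForm_map, sympForm_swap, hfe]
    exact neg_ne_zero.2 one_ne_zero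
  · simpa using hu.orbit_span hu.cyc

end Cfsg.Agent.Lie.SpGen
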