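import Cfsg.Agent.Lib.Lie.SympTvGen

/-! Regular unipotent elements of `Sp_{2n}(F)`: the flag, conjugates differing by a transvection,
and the vectors used for the generation theorem. -/

set_option autoImplicit false
set_option linter.unusedSectionVars false

namespace Cfsg.Agent.Lie.SpGen

open Matrix Cfsg.Agent.Classical

variable {F : Type*} [Field F] {n : ℕ}

local notation "V" => (Fin n ⊕ Fin n → F)
local notation "Sp" => Matrix.symplecticGroup (Fin n) F
local notation "MI" => Matrix (Fin n ⊕ Fin n) (Fin n ⊕ Fin n) F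
local notation "B" => sympForm n F

/-- `u - 1`. -/
def nu (u : Matrix.symplecticGroup (Fin n) F) : Matrix (Fin n ⊕ Fin n) (Fin n ⊕ Fin n) F :=
  (u : Matrix (Fin n ⊕ Fin n) (Fin n ⊕ Fin n) F) - 1

/-- The standing data: a regular unipotent element and a cyclic vector. -/
structure RegData (u : Matrix.symplecticGroup (Fin n) F) (f : Fin n ⊕ Fin n → F) : Prop where
  top : nu u ^ (2 * n) = 0
  cyc : nu u ^ (2 * n - 1) *ᵥ f ≠ 0
  two : 2 ≤ n

variable {u : Matrix.symplecticGroup (Fin n) F} {f : Fin n ⊕ Fin n → F}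

/-- The flag vectors `(u - 1)^{2n - i} f`. -/
def flagVec (u : Matrix.symplecticGroup (Fin n) F) (f : Fin n ⊕ Fin n → F) (i : ℕ) :
    Fin n ⊕ Fin n → F := nu u ^ (2 * n - i) *ᵥ f

theorem u_apply (a : V) : ((u : Sp) : MI) *ᵥ a = a + nu u *ᵥ a := by
  rw [nu, Matrix.sub_mulVec, Matrix.one_mulVec, add_sub_cancel]

theorem nu_commute : Commute (nu u) (((u⁻¹ : Sp) : Sp) : MI) := by
  have h1 : ((u : Sp) : MI) * ((u⁻¹ : Sp) : MI) = ((u⁻¹ : Sp) : MI) * ((u : Sp) : MI) := by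
    rw [← Submonoid.coe_mul, ← Submonoid.coe_mul, mul_inv_cancel, inv_mul_cancel]
  exact (Commute.sub_left h1 (Commute.one_left _))

theorem pow_nu_succ (k : ℕ) (a : V) : nu u ^ (k + 1) *ᵥ a = nu u *ᵥ (nu u ^ k *ᵥ a) := by
  rw [pow_succ', Matrix.mulVec_mulVec]

theorem form_nu_right (a b : V) :
    B a (nu u *ᵥ b) = -B (((u⁻¹ : Sp) : MI) *ᵥ (nu u *ᵥ a)) b := by
  have h1 := sympForm_map (u⁻¹ : Sp) a (((u : Sp) : MI) *ᵥ b)
  rw [Matrix.mulVec_mulVec _ ((u⁻¹ : Sp) : MI) ((u : Sp) : MI), ← Submonoid.coe_mul,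
    inv_mul_cancel, Submonoid.coe_one, Matrix.one_mulVec, u_apply (u := u) b, sympForm_add_right] at h1
  have h2 : ((u⁻¹ : Sp) : MI) *ᵥ (nu u *ᵥ a) = a - ((u⁻¹ : Sp) : MI) *ᵥ a := by
    rw [nu, Matrix.sub_mulVec, Matrix.one_mulVec, Matrix.mulVec_sub, Matrix.mulVec_mulVec,
      ← Submonoid.coe_mul, inv_mul_cancel, Submonoid.coe_one, Matrix.one_mulVec]
  rw [h2, sympForm_sub_left, h1]
  ring

theorem form_nu_vanish (k : ℕ) : ∀ (a : V) (j : ℕ), nu u ^ k *ᵥ a = 0 → k ≤ j → ∀ b : V,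
    B a (nu u ^ j *ᵥ b) = 0 := by
  induction k with
  | zero => intro a j ha _ b; rw [pow_zero, Matrix.one_mulVec] at ha; rw [ha, sympForm_zero_left]
  | succ k ih =>
    intro a j ha hj b
    obtain ⟨j, rfl⟩ : ∃ j', j = j' + 1 := ⟨j - 1, by omega⟩
    rw [pow_nu_succ, form_nu_right, ih _ j ?_ (by omega) b, neg_zero]
    have h0 : nu u ^ k *ᵥ (nu u *ᵥ a) = 0 := by rw [Matrix.mulVec_mulVec, ← pow_succ, ha]
    rw [Matrix.mulVec_mulVec, (nu_commute.pow_left k).eq, ← Matrix.mulVec_mulVec, h0,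
      Matrix.mulVec_zero]

theorem RegData.pow_eq_zero (hu : RegData u f) {k : ℕ} (hk : 2 * n ≤ k) (a : V) :
    nu u ^ k *ᵥ a = 0 := by
  obtain ⟨c, rfl⟩ := Nat.exists_eq_add_of_le hk
  rw [pow_add, hu.top, zero_mul, Matrix.zero_mulVec]

theorem RegData.flag_orth (hu : RegData u f) {i j : ℕ} (h : i + j ≤ 2 * n) :
    B (flagVec u f i) (flagVec u f j) = 0 := by
  refine form_nu_vanish i _ _ ?_ (by omega) f
  rw [flagVec, Matrix.mulVec_mulVec, ← pow_add]
  exact hu.pow_eq_zero (by omega) f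

theorem RegData.flag_nu (hu : RegData u f) (i : ℕ) (hi : i + 1 ≤ 2 * n) :
    nu u *ᵥ flagVec u f (i + 1) = flagVec u f i := by
  rw [flagVec, flagVec, ← pow_nu_succ, show 2 * n - (i + 1) + 1 = 2 * n - i by omega]

theorem RegData.flag_zero (hu : RegData u f) : flagVec u f 0 = 0 := hu.pow_eq_zero (by omega) f

theorem RegData.flag_u (hu : RegData u f) (i : ℕ) (hi : i + 1 ≤ 2 * n) :
    ((u : Sp) : MI) *ᵥ flagVec u f (i + 1) = flagVec u f (i + 1) + flagVec u f i := by
  rw [u_apply, hu.flag_nu i hi]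

theorem RegData.e1_fixed (hu : RegData u f) :
    ((u : Sp) : MI) *ᵥ flagVec u f 1 = flagVec u f 1 := by
  rw [hu.flag_u 0 (by have := hu.two; omega), hu.flag_zero, add_zero]

theorem RegData.e1_ne (hu : RegData u f) : flagVec u f 1 ≠ 0 := hu.cyc

theorem RegData.chain_indep (hu : RegData u f) {x : V} (hx : nu u ^ (2 * n - 1) *ᵥ x ≠ 0) :
    LinearIndependent F fun i : Fin (2 * n) => nu u ^ (i : ℕ) *ᵥ x := by
  rw [Fintype.linearIndependent_iff]
  intro c hc
  suffices h : ∀ k : ℕ, ∀ i : Fin (2 * n), (i : ℕ) < k → c i = 0 from fun i => h _ i i.2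
  intro k
  induction k with
  | zero => intro i hi; omega
  | succ k ih =>
    intro i hi
    rcases Nat.lt_succ_iff_lt_or_eq.1 hi with h | h
    · exact ih i h
    have h1 := congrArg (nu u ^ (2 * n - 1 - k) *ᵥ ·) hc
    simp only [Matrix.mulVec_sum, Matrix.mulVec_smul, Matrix.mulVec_zero, Matrix.mulVec_mulVec,
      ← pow_add] at h1
    rw [Finset.sum_eq_single i (fun j _ hj => ?_) (by simp), h,
      show 2 * n - 1 - k + k = 2 * n - 1 by omega] at h1
    · exact (smul_eq_zero.1 h1).resolve_right hx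
    rcases Nat.lt_trichotomy (j : ℕ) k with h' | h' | h'
    · rw [ih j h', zero_smul]
    · exact absurd (Fin.ext (h'.trans h.symm)) hj
    · rw [hu.pow_eq_zero (by omega), smul_zero]

theorem RegData.chain_span (hu : RegData u f) {x : V} (hx : nu u ^ (2 * n - 1) *ᵥ x ≠ 0) :
    Submodule.span F (Set.range fun i : Fin (2 * n) => nu u ^ (i : ℕ) *ᵥ x) = ⊤ := by
  haveI : Nonempty (Fin (2 * n)) := ⟨⟨0, by have := hu.two; omega⟩⟩
  exact (hu.chain_indep hx).span_eq_top_of_card_eq_finrank (by simp [two_mul])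

theorem RegData.orbit_span (hu : RegData u f) {x : V} (hx : nu u ^ (2 * n - 1) *ᵥ x ≠ 0) :
    Submodule.span F (Set.range fun i : ℕ => ((u : Sp) : MI) ^ i *ᵥ x) = ⊤ := by
  set U := Submodule.span F (Set.range fun i : ℕ => ((u : Sp) : MI) ^ i *ᵥ x)
  have hN : ∀ a ∈ U, ((u : Sp) : MI) *ᵥ a ∈ U := by
    intro a ha
    induction ha using Submodule.span_induction with
    | mem a ha =>
      obtain ⟨i, rfl⟩ := ha
      refine Submodule.subset_span ⟨i + 1, ?_⟩
      simp [pow_succ', Matrix.mulVec_mulVec]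
    | zero => simp
    | add a b _ _ iha ihb => rw [Matrix.mulVec_add]; exact add_mem iha ihb
    | smul c a _ ih => rw [Matrix.mulVec_smul]; exact U.smul_mem c ih
  rw [eq_top_iff, ← hu.chain_span hx, Submodule.span_le]
  rintro _ ⟨i, rfl⟩
  show nu u ^ (i : ℕ) *ᵥ x ∈ U
  generalize (i : ℕ) = k
  induction k with
  | zero => exact Submodule.subset_span ⟨0, by simp⟩
  | succ k ih =>
    rw [pow_nu_succ, nu, Matrix.sub_mulVec, Matrix.one_mulVec]
    exact sub_mem (hN _ ih) ih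

theorem RegData.pairing_ne (hu : RegData u f) : B f (flagVec u f 1) ≠ 0 := by
  intro h0
  refine hu.e1_ne (eq_zero_of_sympForm_eq_zero fun v => ?_)
  have hv : v ∈ Submodule.span F (Set.range fun i : Fin (2 * n) => nu u ^ (i : ℕ) *ᵥ f) :=
    hu.chain_span hu.cyc ▸ Submodule.mem_top
  induction hv using Submodule.span_induction with
  | mem v hv =>
    obtain ⟨i, rfl⟩ := hv
    rcases Nat.eq_zero_or_pos (i : ℕ) with h | h
    · simp only [h, pow_zero, Matrix.one_mulVec]; rw [sympForm_swap, h0, neg_zero]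
    · refine form_nu_vanish 1 _ _ ?_ h f
      rw [pow_one, flagVec, ← pow_nu_succ]
      exact hu.pow_eq_zero (by omega) f
  | zero => simp
  | add a b _ _ iha ihb => rw [sympForm_add_right, iha, ihb, add_zero]
  | smul c a _ ih => rw [sympForm_smul_right, ih, mul_zero]

theorem RegData.shift (hu : RegData u f) {i j : ℕ} (h : i + j + 1 = 2 * n - 1) :
    B (nu u ^ i *ᵥ f) (nu u ^ (j + 1) *ᵥ f) = -B (nu u ^ (i + 1) *ᵥ f) (nu u ^ j *ᵥ f) := by
  have := hu.two
  rw [pow_nu_succ j, form_nu_right, ← pow_nu_succ]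
  set a := nu u ^ (i + 1) *ᵥ f with ha
  have e : ((u⁻¹ : Sp) : MI) *ᵥ a = a - ((u⁻¹ : Sp) : MI) *ᵥ (nu u *ᵥ a) := by
    have h1 : ((u⁻¹ : Sp) : MI) *ᵥ (((u : Sp) : MI) *ᵥ a) = a := by
      rw [Matrix.mulVec_mulVec, ← Submonoid.coe_mul, inv_mul_cancel, Submonoid.coe_one,
        Matrix.one_mulVec]
    rw [nu, Matrix.sub_mulVec, Matrix.one_mulVec, Matrix.mulVec_sub, h1]
    abel
  have h0 : B (((u⁻¹ : Sp) : MI) *ᵥ (nu u *ᵥ a)) (nu u ^ j *ᵥ f) = 0 := by
    refine form_nu_vanish j _ _ ?_ le_rfl f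
    have h1 : nu u ^ j *ᵥ (nu u *ᵥ a) = 0 := by
      rw [ha, ← pow_nu_succ, Matrix.mulVec_mulVec, ← pow_add, hu.pow_eq_zero (by omega)]
    rw [Matrix.mulVec_mulVec, (nu_commute.pow_left j).eq, ← Matrix.mulVec_mulVec, h1,
      Matrix.mulVec_zero]
  rw [e, sympForm_sub_left, h0, sub_zero]

theorem RegData.mid_ne (hu : RegData u f) :
    B (nu u ^ (n - 1) *ᵥ f) (nu u ^ n *ᵥ f) ≠ 0 := by
  have h : ∀ i, i ≤ n - 1 → B (nu u ^ i *ᵥ f) (nu u ^ (2 * n - 1 - i) *ᵥ f) ≠ 0 := by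
    intro i
    induction i with
    | zero => intro _; rw [pow_zero, Matrix.one_mulVec, Nat.sub_zero]; exact hu.pairing_ne
    | succ i ih =>
      intro hi
      have h1 := ih (by omega)
      rw [show 2 * n - 1 - i = (2 * n - 1 - (i + 1)) + 1 by omega,
        hu.shift (by omega : i + (2 * n - 1 - (i + 1)) + 1 = 2 * n - 1)] at h1
      exact neg_ne_zero.1 h1
  have := h (n - 1) le_rfl
  rwa [show 2 * n - 1 - (n - 1) = n by omega] at this

/-- `h u h⁻¹ = T(e₁, s) u` for some `h`. -/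
def GoodScalar (u : Matrix.symplecticGroup (Fin n) F) (e₁ : Fin n ⊕ Fin n → F) (s : F) : Prop :=
  ∃ h : Matrix.symplecticGroup (Fin n) F, h * u * h⁻¹ = sympTv e₁ s * u

theorem goodScalar_of_comm {e₁ : V} {s : F} {h : Sp}
    (H : u * h * u⁻¹ = sympTv e₁ (-s) * h) : GoodScalar u e₁ s := by
  refine ⟨h, ?_⟩
  rw [mul_inv_eq_iff_eq_mul] at H
  have : sympTv e₁ s * (u * h) = h * u := by
    rw [H, mul_assoc, ← mul_assoc (sympTv e₁ s), sympTv_mul, add_neg_cancel, sympTv_zero, one_mul]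
  rw [← this, mul_assoc, mul_assoc, mul_inv_cancel, mul_one]

theorem conj4 (g a b c d : Sp) :
    g * (a * b * c * d) * g⁻¹ = (g * a * g⁻¹) * (g * b * g⁻¹) * (g * c * g⁻¹) * (g * d * g⁻¹) := by
  group

theorem RegData.good_scalar_large (hu : RegData u f) (hn : 3 ≤ n) (s : F) :
    GoodScalar u (flagVec u f 1) s := by
  have h11 := hu.flag_orth (i := 1) (j := 1) (by omega)
  have h12 := hu.flag_orth (i := 1) (j := 2) (by omega)
  have h13 := hu.flag_orth (i := 1) (j := 3) (by omega)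
  have h21 := hu.flag_orth (i := 2) (j := 1) (by omega)
  have h22 := hu.flag_orth (i := 2) (j := 2) (by omega)
  have h23 := hu.flag_orth (i := 2) (j := 3) (by omega)
  have h31 := hu.flag_orth (i := 3) (j := 1) (by omega)
  have h32 := hu.flag_orth (i := 3) (j := 2) (by omega)
  have h33 := hu.flag_orth (i := 3) (j := 3) (by omega)
  have u1 := hu.e1_fixed
  have u2 := hu.flag_u 1 (by omega)
  have u3 := hu.flag_u 2 (by omega)
  set a := flagVec u f 1
  set b := flagVec u f 2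
  set c := flagVec u f 3
  refine goodScalar_of_comm
    (h := sympTv b (-s) * sympTv (a + c) s * sympTv a (-s) * sympTv c (-s)) ?_
  rw [conj4, sympTv_conj, sympTv_conj, sympTv_conj, sympTv_conj, Matrix.mulVec_add, u1, u2, u3]
  refine Subtype.ext (Matrix.ext_iff_mulVec.2 fun y => ?_)
  simp only [Submonoid.coe_mul, ← Matrix.mulVec_mulVec, tv_apply, sympForm_add_left,
    sympForm_add_right, sympForm_smul_left, h11, h12, h13, h21, h22, h23, h31, h32, h33, mul_zero,
    add_zero]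
  module

theorem RegData.good_scalar_odd (hu : RegData u f) (h2 : (2 : F) ≠ 0) (s : F) :
    GoodScalar u (flagVec u f 1) s := by
  have := hu.two
  have h11 := hu.flag_orth (i := 1) (j := 1) (by omega)
  have h12 := hu.flag_orth (i := 1) (j := 2) (by omega)
  have h21 := hu.flag_orth (i := 2) (j := 1) (by omega)
  have h22 := hu.flag_orth (i := 2) (j := 2) (by omega)
  have u1 := hu.e1_fixed
  have u2 := hu.flag_u 1 (by omega)
  set a := flagVec u f 1
  set b := flagVec u f 2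
  set t := -s / 2 with ht
  have hs : -s = 2 * t := by rw [ht]; field_simp
  refine goodScalar_of_comm (h := sympTv (a + b) t * sympTv a (-t) * sympTv b (-t) * 1) ?_
  rw [conj4, sympTv_conj, sympTv_conj, sympTv_conj, Matrix.mulVec_add, u1, u2, mul_one, mul_inv_cancel,
    mul_one, mul_one, hs]
  refine Subtype.ext (Matrix.ext_iff_mulVec.2 fun y => ?_)
  simp only [Submonoid.coe_mul, ← Matrix.mulVec_mulVec, tv_apply, sympForm_add_left,
    sympForm_add_right, sympForm_smul_left, h11, h12, h21, h22, mul_zero, add_zero]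
  module

/-- Prescribed values of `B(y, e₁)` and `B(u y, y)`. -/
def GoodPair (u : Matrix.symplecticGroup (Fin n) F) (e₁ : Fin n ⊕ Fin n → F) (b κ : F) : Prop :=
  ∃ y : Fin n ⊕ Fin n → F, sympForm n F y e₁ = b ∧
    sympForm n F ((u : Matrix (Fin n ⊕ Fin n) (Fin n ⊕ Fin n) F) *ᵥ y) y = κ

theorem form_u_line (y z : V) (t : F) :
    B (((u : Sp) : MI) *ᵥ (y + t • z)) (y + t • z) = B (nu u *ᵥ y) y +
      t * (B (nu u *ᵥ z) y + B (nu u *ᵥ y) z) + t ^ 2 * B (nu u *ᵥ z) z := by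
  simp only [u_apply, Matrix.mulVec_add, Matrix.mulVec_smul, sympForm_add_left, sympForm_add_right,
    sympForm_smul_left, sympForm_smul_right, sympForm_self, sympForm_swap z y]
  ring

theorem RegData.goodPair (hu : RegData u f) (h : 3 ≤ n ∨ (2 : F) ≠ 0) {b : F} (hb : b ≠ 0) (κ : F) :
    GoodPair u (flagVec u f 1) b κ := by
  have := hu.two
  set e := flagVec u f 1 with he
  set y₁ := (b / B f e) • f with hy₁
  have hye : B y₁ e = b := by rw [hy₁, sympForm_smul_left, div_mul_cancel₀ _ hu.pairing_ne]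
  have hfix : ((u⁻¹ : Sp) : MI) *ᵥ e = e := by
    conv_lhs => rw [he, ← hu.e1_fixed, Matrix.mulVec_mulVec, ← Submonoid.coe_mul, inv_mul_cancel,
      Submonoid.coe_one, Matrix.one_mulVec]
  obtain ⟨z, hz0, hzz, hlin⟩ : ∃ z, B z e = 0 ∧ B (nu u *ᵥ z) z = 0 ∧
      B (nu u *ᵥ z) y₁ + B (nu u *ᵥ y₁) z ≠ 0 := by
    have e2 : B (nu u *ᵥ flagVec u f 2) y₁ + B (nu u *ᵥ y₁) (flagVec u f 2) = -(2 * b) := by
      rw [sympForm_swap (nu u *ᵥ y₁), form_nu_right, neg_neg, hu.flag_nu 1 (by omega), ← he, hfix,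
        sympForm_swap e, hye]
      ring
    by_cases h2 : (2 : F) = 0
    · have hn : 3 ≤ n := h.resolve_right (not_not.2 h2)
      refine ⟨flagVec u f 3, hu.flag_orth (by omega), ?_, ?_⟩
      · rw [hu.flag_nu 2 (by omega)]; exact hu.flag_orth (by omega)
      · have hfix2 : ((u⁻¹ : Sp) : MI) *ᵥ flagVec u f 2 = flagVec u f 2 - e := by
          have h1 : ((u⁻¹ : Sp) : MI) *ᵥ (((u : Sp) : MI) *ᵥ flagVec u f 2) = flagVec u f 2 := by
            rw [Matrix.mulVec_mulVec, ← Submonoid.coe_mul, inv_mul_cancel, Submonoid.coe_one,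
              Matrix.one_mulVec]
          rw [hu.flag_u 1 (by omega), Matrix.mulVec_add, ← he, hfix] at h1
          exact eq_sub_of_add_eq h1
        rw [sympForm_swap (nu u *ᵥ y₁), form_nu_right, neg_neg, hu.flag_nu 2 (by omega), hfix2,
          sympForm_sub_left, sympForm_swap e, hye, sub_neg_eq_add, ← add_assoc, ← two_mul, h2,
          zero_mul, zero_add]
        exact hb
    · refine ⟨flagVec u f 2, hu.flag_orth (by omega), ?_, ?_⟩
      · rw [hu.flag_nu 1 (by omega)]; exact hu.flag_orth (by omega)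
      · rw [e2]; exact neg_ne_zero.2 (mul_ne_zero h2 hb)
  refine ⟨y₁ + ((κ - B (nu u *ᵥ y₁) y₁) / (B (nu u *ᵥ z) y₁ + B (nu u *ᵥ y₁) z)) • z, ?_, ?_⟩
  · rw [sympForm_add_left, hye, sympForm_smul_left, hz0, mul_zero, add_zero]
  · rw [form_u_line, hzz, mul_zero, add_zero, div_mul_cancel₀ _ hlin]
    ring

end Cfsg.Agent.Lie.SpGen
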