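import Cfsg.Agent.Lib.Lie.SLSemisimpleClasses
import Cfsg.Agent.Lib.Classical.SympBlocks
import Cfsg.Agent.Lib.Classical.Symp
import Cfsg.Agent.Lib.Classical.UnitDichotomy

/-!
Semisimple elements of symplectic groups: similar ones are conjugate, and every palindromic polynomial of
even degree occurs.
-/

set_option autoImplicit false
set_option linter.unusedSectionVars false

namespace Cfsg.Agent.Lie.SympSemisimple

open Polynomial Module Cfsg.Agent.Classical Cfsg.Agent.Lie.Semisimple

/-- The norm form `x² + t x y + y²` on a finite field. -/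
theorem exists_norm_field {K : Type*} [Field K] [Finite K] (t M : K) (hd : t * t - 4 ≠ 0) :
    ∃ x y : K, x * x + t * (x * y) + y * y = M := by
  letI := Fintype.ofFinite K
  by_cases h2 : (2 : K) = 0
  · haveI : CharP K 2 := (CharP.charP_iff_prime_eq_zero Nat.prime_two).2 (by exact_mod_cast h2)
    obtain ⟨x, hx⟩ := FiniteField.isSquare_of_char_two (ringChar.eq K 2 : ringChar K = 2) M
    exact ⟨x, 0, by rw [hx]; ring⟩
  · have hodd : Fintype.card K % 2 = 1 :=
      FiniteField.odd_card_of_char_ne_two fun h => h2 (by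
        have h' : ((ringChar K : ℕ) : K) = 0 := CharP.cast_eq_zero K (ringChar K)
        rw [h] at h'
        exact_mod_cast h')
    obtain ⟨a, b, hab⟩ := FiniteField.exists_root_sum_quadratic (f := (X ^ 2 : K[X]))
      (g := C (-(t * t - 4)) * X ^ 2 - C (4 * M)) (degree_X_pow 2) (by
        rw [degree_sub_eq_left_of_degree_lt] <;> rw [degree_C_mul_X_pow 2 (neg_ne_zero.2 hd)]
        · norm_num
        · exact lt_of_le_of_lt degree_C_le (by norm_num)) hodd
    simp only [eval_pow, eval_X, eval_sub, eval_mul, eval_C] at hab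
    refine ⟨(a - t * b) / 2, b, ?_⟩
    field_simp
    linear_combination hab

/-- The norm form on a finite commutative ring. -/
theorem exists_norm {C : Type*} [CommRing C] [Finite C] (t M : C) (hd : IsUnit (t * t - 4)) (hM : IsUnit M) :
    ∃ x y : C, x * x + t * (x * y) + y * y = M := by
  classical
  haveI : IsArtinianRing C := inferInstance
  set N := nilradical C
  haveI : Finite (C ⧸ N) := Finite.of_surjective (Ideal.Quotient.mk N) Ideal.Quotient.mk_surjective
  haveI : IsReduced (C ⧸ N) := (Ideal.isRadical_iff_quotient_reduced N).1 (Ideal.radical_isRadical ⊥)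
  have hred : ∃ x y : C ⧸ N, x * x + Ideal.Quotient.mk N t * (x * y) + y * y = Ideal.Quotient.mk N M := by
    let e := (IsArtinianRing.equivPi (C ⧸ N)).toRingEquiv
    have hI : ∀ I : MaximalSpectrum (C ⧸ N), ∃ x y : (C ⧸ N) ⧸ I.asIdeal,
        x * x + e (Ideal.Quotient.mk N t) I * (x * y) + y * y = e (Ideal.Quotient.mk N M) I := by
      intro I
      haveI := I.isMaximal
      haveI : Finite ((C ⧸ N) ⧸ I.asIdeal) :=
        Finite.of_surjective (Ideal.Quotient.mk I.asIdeal) Ideal.Quotient.mk_surjective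
      letI := Ideal.Quotient.field I.asIdeal
      refine exists_norm_field _ _ (fun h => ?_)
      have hu := ((hd.map (Ideal.Quotient.mk N)).map e.toRingHom).map (Pi.evalRingHom _ I)
      apply hu.ne_zero
      rw [← h]
      simp [map_sub, map_mul, map_ofNat]
    choose x y hxy using hI
    refine ⟨e.symm x, e.symm y, e.injective (funext fun I => ?_)⟩
    simpa using hxy I
  obtain ⟨x₀, y₀, hxy⟩ := hred
  obtain ⟨x, rfl⟩ := Ideal.Quotient.mk_surjective x₀
  obtain ⟨y, rfl⟩ := Ideal.Quotient.mk_surjective y₀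
  have hmem : x * x + t * (x * y) + y * y - M ∈ N := by
    rw [← Ideal.Quotient.eq]
    simpa using hxy
  set v := x * x + t * (x * y) + y * y with hv
  have hvu : IsUnit v := by
    have h := IsNilpotent.isUnit_add_left_of_commute (mem_nilradical.1 hmem) hM (Commute.all _ _)
    simpa using h
  obtain ⟨vi, hvi⟩ := isUnit_iff_exists_inv.1 hvu
  obtain ⟨di, hdi⟩ := isUnit_iff_exists_inv.1 hd
  -- the nilpotent correction
  have hmaps : ∀ w : N, (w : C) - (w : C) * w ∈ N := fun w => N.sub_mem w.2 (N.mul_mem_left _ w.2)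
  have hsurj : Function.Surjective fun w : N => (⟨_, hmaps w⟩ : N) := by
    refine (Finite.injective_iff_surjective).1 fun w z h => ?_
    have h' : (w : C) - (w : C) * w = z - (z : C) * z := congrArg Subtype.val h
    have hu : IsUnit (1 + -((w : C) + z)) :=
      IsNilpotent.isUnit_one_add (mem_nilradical.1 (N.neg_mem (N.add_mem w.2 z.2)))
    refine Subtype.ext (hu.mul_left_cancel ?_)
    linear_combination h'
  obtain ⟨w, hw⟩ := hsurj ⟨(M - v) * vi * di, N.mul_mem_right _ (N.mul_mem_right _ (by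
    rw [← neg_sub]; exact N.neg_mem hmem))⟩
  have hw' : (w : C) - (w : C) * w = (M - v) * vi * di := congrArg Subtype.val hw
  refine ⟨x * (1 - 2 * w) - y * (t * w), x * (t * w) + y * (1 - 2 * w) + t * (y * (t * w)), ?_⟩
  have h1 : v * (1 + (t * t - 4) * ((w : C) - (w : C) * w)) = M := by
    rw [hw']; linear_combination (M - v) * hvi + (M - v) * v * vi * hdi
  rw [← h1, hv]
  ring

variable {F : Type*} [Field F] [Fintype F]

section Forms

variable {V : Type*} [AddCommGroup V] [Module F V] [FiniteDimensional F V]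

/-- A non-degenerate alternating space has even dimension. -/
theorem exists_even {B : LinearMap.BilinForm F V} (hA : B.IsAlt) (hB : ∀ x, (∀ y, B x y = 0) → x = 0) :
    ∃ e, finrank F V = 2 * e := by
  classical
  obtain ⟨m, k, x, y, r, hmk, -, -, -, -, -, hr, hspan⟩ :=
    exists_symplectic_family B hA (finrank F V) ⊤ (finrank_top F V)
  have hr0 : ∀ j, r j = 0 := fun j => hB _ fun w => hr j w trivial
  refine ⟨m, ?_⟩
  have hle : (⊤ : Submodule F V) ≤ Submodule.span F (Set.range (Sum.elim x y)) :=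
    hspan.trans (Submodule.span_le.2 (by
      rintro z ((⟨i, rfl⟩ | ⟨i, rfl⟩) | ⟨j, rfl⟩)
      · exact Submodule.subset_span ⟨Sum.inl i, rfl⟩
      · exact Submodule.subset_span ⟨Sum.inr i, rfl⟩
      · rw [hr0]; exact Submodule.zero_mem _))
  have h1 := Submodule.finrank_mono hle
  have h2 := finrank_range_le_card (R := F) (b := Sum.elim x y)
  rw [Set.finrank] at h2
  rw [finrank_top] at h1
  rw [Fintype.card_sum, Fintype.card_fin] at h2
  omega

/-- Non-degenerate alternating forms on the same space are equivalent. -/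
theorem exists_isometry {B B' : LinearMap.BilinForm F V} (hA : B.IsAlt) (hA' : B'.IsAlt)
    (hB : ∀ x, (∀ y, B x y = 0) → x = 0) (hB' : ∀ x, (∀ y, B' x y = 0) → x = 0) :
    ∃ Y : V ≃ₗ[F] V, ∀ u v, B' (Y u) (Y v) = B u v := by
  obtain ⟨e, he⟩ := exists_even hA hB
  obtain ⟨L, hL⟩ := exists_symp_coords B hA hB he
  obtain ⟨L', hL'⟩ := exists_symp_coords B' hA' hB' he
  refine ⟨L.symm.trans L', fun u v => ?_⟩
  rw [LinearEquiv.trans_apply, LinearEquiv.trans_apply, hL', ← hL, L.apply_symm_apply, L.apply_symm_apply]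

/-- Two invariant forms are equivariantly equivalent when `g - g⁻¹` is injective. -/
theorem exists_equivariant_core (g gi : Module.End F V) (hgi : gi * g = 1) {B B' : LinearMap.BilinForm F V}
    (hA : B.IsAlt) (hA' : B'.IsAlt) (hB : ∀ x, (∀ y, B x y = 0) → x = 0)
    (hB' : ∀ x, (∀ y, B' x y = 0) → x = 0) (hg : ∀ u v, B (g u) (g v) = B u v)
    (hg' : ∀ u v, B' (g u) (g v) = B' u v) (hinj : ∀ u, (g - gi) u = 0 → u = 0) :
    ∃ Y : V ≃ₗ[F] V, (∀ u v, B' (Y u) (Y v) = B u v) ∧ ∀ u, Y (g u) = g (Y u) := by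
  classical
  have hgi' : g * gi = 1 := mul_eq_one_comm.1 hgi
  have happ : ∀ u, g (gi u) = u := fun u => by rw [← Module.End.mul_apply, hgi', Module.End.one_apply]
  have happ' : ∀ u, gi (g u) = u := fun u => by rw [← Module.End.mul_apply, hgi, Module.End.one_apply]
  have hadj : ∀ u v, B' (g u) v = B' u (gi v) := fun u v => by rw [← hg' u, happ]
  have hadjB : ∀ u v, B (g u) v = B u (gi v) := fun u v => by rw [← hg u, happ]
  have hadjBi : ∀ u v, B' (gi u) v = B' u (g v) := fun u v => by
    conv_rhs => rw [← happ u]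
    rw [hg']
  have hBn : B'.Nondegenerate := ⟨hB', fun v hv => hB' v fun y => by
    rw [← LinearMap.IsAlt.neg hA' y v, hv y, neg_zero]⟩
  let M : Module.End F V := (B'.toDual hBn).symm.toLinearMap ∘ₗ B
  have hM : ∀ u v, B' (M u) v = B u v := fun u v => LinearMap.BilinForm.apply_toDual_symm_apply (hB := hBn) (B u) v
  have hMs : ∀ u v, B' (M u) v = B' u (M v) := fun u v => by
    rw [hM, ← LinearMap.IsAlt.neg hA v u, ← hM v u, LinearMap.IsAlt.neg hA' (M v) u]
  have hMg : M * g = g * M := LinearMap.ext fun u => by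
    rw [← sub_eq_zero]
    refine hB' _ fun v => ?_
    simp only [map_sub, LinearMap.sub_apply, Module.End.mul_apply]
    rw [hM, hadjB, hadj, hM, sub_self]
  have hMgi : M * gi = gi * M := by
    calc M * gi = gi * (g * M) * gi := by rw [← mul_assoc gi, hgi, one_mul]
      _ = gi * M := by rw [← hMg, mul_assoc gi, mul_assoc M, hgi', mul_one]
  set T := g + gi with hT
  set S : Set (Module.End F V) := insert M (insert T (Set.range (algebraMap F (Module.End F V))))
  have hScomm : ∀ x ∈ S, ∀ y ∈ S, x * y = y * x := by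
    rintro x (rfl | rfl | ⟨c, rfl⟩) y (rfl | rfl | ⟨d, rfl⟩)
    all_goals first
      | rfl
      | exact Algebra.commutes _ _
      | exact (Algebra.commutes _ _).symm
      | skip
    · rw [hT, mul_add, add_mul, hMg, hMgi]
    · rw [hT, mul_add, add_mul, hMg, hMgi]
  set C := Subring.closure S
  have hC1 : C ≤ Subring.centralizer S := Subring.closure_le.2 fun x hx =>
    Subring.mem_centralizer_iff.2 fun y hy => hScomm y hy x hx
  have hC2 : C ≤ Subring.centralizer (C : Set (Module.End F V)) := Subring.closure_le.2 fun x hx =>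
    Subring.mem_centralizer_iff.2 fun y hy => (Subring.mem_centralizer_iff.1 (hC1 hy) x hx).symm
  have hCc : ∀ x ∈ C, ∀ y ∈ C, x * y = y * x := fun x hx y hy => Subring.mem_centralizer_iff.1 (hC2 hy) x hx
  letI : CommRing C :=
    { (C.toRing : Ring C) with mul_comm := fun x y => Subtype.ext (hCc _ x.2 _ y.2) }
  have hprop : ∀ x ∈ C, (∀ u v, B' (x u) v = B' u (x v)) ∧ x * g = g * x := by
    intro x hx
    induction hx using Subring.closure_induction with
    | mem x hx =>
      rcases hx with rfl | rfl | ⟨c, rfl⟩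
      · exact ⟨hMs, hMg⟩
      · refine ⟨fun u v => ?_, by rw [hT, add_mul, mul_add, hgi, hgi']⟩
        simp only [hT, LinearMap.add_apply, map_add]
        rw [hadj, hadjBi, add_comm]
      · exact ⟨fun u v => by simp [Module.algebraMap_end_apply], Algebra.commutes c g⟩
    | zero => exact ⟨fun u v => by simp, by simp⟩
    | one => exact ⟨fun u v => by simp, by simp⟩
    | add x y _ _ hx hy => exact ⟨fun u v => by simp [hx.1 u v, hy.1 u v], by rw [add_mul, mul_add, hx.2, hy.2]⟩
    | neg x _ hx => exact ⟨fun u v => by simp [hx.1 u v], by rw [neg_mul, mul_neg, hx.2]⟩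
    | mul x y hx' hy' hx hy =>
      refine ⟨fun u v => ?_, by rw [mul_assoc, hy.2, ← mul_assoc, hx.2, mul_assoc]⟩
      rw [Module.End.mul_apply, hx.1, hy.1, ← Module.End.mul_apply, hCc y hy' x hx']
  haveI : Finite V := Module.finite_of_finite F
  haveI : Finite (Module.End F V) := Finite.of_injective (fun f : Module.End F V => (f : V → V)) DFunLike.coe_injective
  haveI : Finite C := Finite.of_injective (Subtype.val : C → Module.End F V) Subtype.val_injective
  have hmemM : M ∈ C := Subring.subset_closure (Set.mem_insert _ _)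
  have hmemT : T ∈ C := Subring.subset_closure (Set.mem_insert_of_mem _ (Set.mem_insert _ _))
  have hunit : ∀ (x : C), (∀ u, (x : Module.End F V) u = 0 → u = 0) → IsUnit x := by
    intro x hx
    rw [IsUnit.isUnit_iff_mulLeft_bijective]
    refine Finite.injective_iff_bijective.1 fun a b h => Subtype.ext (LinearMap.ext fun u => ?_)
    have h' : (x : Module.End F V) * a = (x : Module.End F V) * b := congrArg Subtype.val h
    rw [← sub_eq_zero]
    refine hx _ ?_
    rw [map_sub, sub_eq_zero]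
    exact LinearMap.congr_fun h' u
  have hMinj : ∀ u, M u = 0 → u = 0 := fun u hu => hB u fun v => by
    rw [← hM, hu, map_zero, LinearMap.zero_apply]
  have hd : IsUnit ((⟨T, hmemT⟩ : C) * ⟨T, hmemT⟩ - 4) := by
    refine hunit _ fun u hu => ?_
    refine hinj u (hinj _ ?_)
    have hval : (((⟨T, hmemT⟩ : C) * ⟨T, hmemT⟩ - 4 : C) : Module.End F V) = (g - gi) * (g - gi) := by
      show C.subtype ((⟨T, hmemT⟩ : C) * ⟨T, hmemT⟩ - 4) = _
      rw [map_sub, map_mul, map_ofNat, Subring.coe_subtype]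
      show T * T - 4 = _
      rw [hT]
      simp only [mul_add, add_mul, mul_sub, sub_mul, hgi, hgi']
      rw [show (4 : Module.End F V) = 1 + 1 + 1 + 1 by norm_num]
      abel
    rw [hval] at hu
    exact hu
  obtain ⟨⟨x, hx⟩, ⟨z, hz⟩, hxz⟩ := exists_norm (⟨T, hmemT⟩ : C) ⟨M, hmemM⟩ hd (hunit _ hMinj)
  have hxz' : x * x + T * (x * z) + z * z = M := congrArg Subtype.val hxz
  obtain ⟨hxs, hxg⟩ := hprop x hx
  obtain ⟨hzs, hzg⟩ := hprop z hz
  set Y : Module.End F V := x + g * z with hY
  have hiso : ∀ u v, B' (Y u) (Y v) = B u v := by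
    intro u v
    rw [← hM, ← hxz', hT]
    have e1 : x (z u) = z (x u) := LinearMap.congr_fun (hCc x hx z hz) u
    have e2 : ∀ a, x (g a) = g (x a) := fun a => LinearMap.congr_fun hxg a
    have e3 : ∀ a, z (g a) = g (z a) := fun a => LinearMap.congr_fun hzg a
    have e4 : z (gi (x u)) = gi (x (z u)) := by
      rw [e1]
      conv_lhs => rw [← happ' (z (gi (x u))), ← e3, happ]
    simp only [hY, LinearMap.add_apply, Module.End.mul_apply, map_add]
    have t1 : B' (x u) (x v) = B' (x (x u)) v := (hxs _ _).symm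
    have t2 : B' (g (z u)) (x v) = B' (g (x (z u))) v := by rw [← hxs, e2]
    have t3 : B' (x u) (g (z v)) = B' (gi (x (z u))) v := by rw [← hadjBi, ← hzs, e4]
    have t4 : B' (g (z u)) (g (z v)) = B' (z (z u)) v := by rw [hg', ← hzs]
    rw [t1, t2, t3, t4]
    ring
  have hYinj : Function.Injective Y := (injective_iff_map_eq_zero Y).2 fun u hu => hB u fun v => by
    rw [← hiso, hu, map_zero, LinearMap.zero_apply]
  refine ⟨LinearEquiv.ofBijective Y ⟨hYinj, LinearMap.surjective_of_injective hYinj⟩, hiso, fun u => ?_⟩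
  show Y (g u) = g (Y u)
  simp only [hY, LinearMap.add_apply, Module.End.mul_apply, map_add]
  rw [show x (g u) = g (x u) from LinearMap.congr_fun hxg u, show z (g u) = g (z u) from LinearMap.congr_fun hzg u]

/-- Splitting off an eigenspace `±1` of a semisimple isometry. -/
theorem exists_glue (g : Module.End F V) {N : ℕ} (hN : (N : F) ≠ 0) (hgN : g ^ N = 1) {c : F} (hc : c * c = 1)
    {B B' : LinearMap.BilinForm F V} (hA : B.IsAlt) (hA' : B'.IsAlt) (hB : ∀ x, (∀ y, B x y = 0) → x = 0)
    (hB' : ∀ x, (∀ y, B' x y = 0) → x = 0) (hg : ∀ u v, B (g u) (g v) = B u v)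
    (hg' : ∀ u v, B' (g u) (g v) = B' u v)
    (hrec : ∀ W : Submodule F V, (∀ w ∈ W, g w ∈ W) → (∀ w ∈ W, g w = c • w → w = 0) →
      (∀ x ∈ W, (∀ y ∈ W, B x y = 0) → x = 0) → (∀ x ∈ W, (∀ y ∈ W, B' x y = 0) → x = 0) →
      ∃ Y : W ≃ₗ[F] W, (∀ u v : W, B' (Y u : V) (Y v : V) = B (u : V) (v : V)) ∧
        ∀ (u : W) (h : g u ∈ W), (Y ⟨g u, h⟩ : V) = g (Y u : V)) :
    ∃ Y : V ≃ₗ[F] V, (∀ u v, B' (Y u) (Y v) = B u v) ∧ ∀ u, Y (g u) = g (Y u) := by
  classical
  set T : Module.End F V := g - c • 1 with hT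
  have hTapp : ∀ u, T u = g u - c • u := fun u => by simp [hT]
  set K := LinearMap.ker T
  set W := LinearMap.range T
  have hK : ∀ u, u ∈ K ↔ g u = c • u := fun u => by rw [LinearMap.mem_ker, hTapp, sub_eq_zero]
  have hdisj : Disjoint K W := by
    rw [Submodule.disjoint_def]
    rintro w hw ⟨v, rfl⟩
    rw [hK] at hw
    by_contra hne
    have hv : g v = c • v + T v := by rw [hTapp]; abel
    have hgk : ∀ k : ℕ, (g ^ k) (T v) = c ^ k • T v := fun k => by
      induction k with
      | zero => simp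
      | succ k ih => rw [pow_succ', Module.End.mul_apply, ih, map_smul, hw, smul_smul, pow_succ]
    have hk : ∀ k : ℕ, c • (g ^ k) v = c • c ^ k • v + (k : F) • c ^ k • T v := fun k => by
      induction k with
      | zero => simp
      | succ k ih =>
        rw [pow_succ, Module.End.mul_apply, hv, map_add, map_smul, hgk, smul_add, smul_smul c c, hc, one_smul,
          Nat.cast_succ, pow_succ]
        have ih' : (g ^ k) v = c ^ k • v + c • (k : F) • c ^ k • T v := by
          have := congrArg (fun w => c • w) ih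
          simpa [smul_smul, ← mul_assoc, hc] using this
        rw [ih', smul_smul, smul_smul, smul_smul, smul_smul, smul_smul, add_assoc, ← add_smul]
        congr 2
        · linear_combination (c ^ k) * hc.symm
        · ring
    have hcN : c ^ N = 1 := by
      have h := hgk N
      rw [hgN, Module.End.one_apply] at h
      have h2 : (c ^ N - 1) • T v = 0 := by rw [sub_smul, one_smul, ← h, sub_self]
      exact sub_eq_zero.1 ((smul_eq_zero.1 h2).resolve_right hne)
    have h := hk N
    rw [hgN, Module.End.one_apply, hcN, one_smul, one_smul, left_eq_add, smul_eq_zero] at h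
    exact hne (h.resolve_left hN)
  have hcompl : IsCompl K W := by
    refine ⟨hdisj, codisjoint_iff.2 (Submodule.eq_top_of_finrank_eq ?_)⟩
    have h := Submodule.finrank_sup_add_finrank_inf_eq K W
    rw [hdisj.eq_bot, finrank_bot, add_zero] at h
    rw [h, add_comm, LinearMap.finrank_range_add_finrank_ker]
  have hgW : ∀ w ∈ W, g w ∈ W := by
    rintro _ ⟨v, rfl⟩
    exact ⟨g v, by simp [hTapp, map_sub, map_smul]⟩
  have hgK : ∀ w ∈ K, g w ∈ K := fun w hw => by
    rw [hK] at hw ⊢
    rw [hw, map_smul, hw]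
  have horth : ∀ {D : LinearMap.BilinForm F V}, D.IsAlt → (∀ u v, D (g u) (g v) = D u v) →
      ∀ u ∈ K, ∀ w ∈ W, D u w = 0 ∧ D w u = 0 := by
    intro D hD hDg u hu w hw
    obtain ⟨v, rfl⟩ := hw
    rw [hK] at hu
    have h := hDg u v
    rw [hu, map_smul, LinearMap.smul_apply, smul_eq_mul] at h
    have h1 : D u (T v) = 0 := by
      rw [hTapp, map_sub, map_smul, smul_eq_mul]
      linear_combination c * h - (D u (g v)) * hc
    exact ⟨h1, by rw [← LinearMap.IsAlt.neg hD u (T v), h1, neg_zero]⟩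
  have hsplit : ∀ u : V, ∃ a ∈ K, ∃ b ∈ W, a + b = u := fun u =>
    Submodule.mem_sup.1 (by rw [hcompl.sup_eq_top]; trivial)
  have ndK : ∀ {D : LinearMap.BilinForm F V}, D.IsAlt → (∀ u v, D (g u) (g v) = D u v) →
      (∀ x, (∀ y, D x y = 0) → x = 0) →
      (∀ x ∈ K, (∀ y ∈ K, D x y = 0) → x = 0) ∧ (∀ x ∈ W, (∀ y ∈ W, D x y = 0) → x = 0) := by
    intro D hD hDg hDn
    constructor
    · intro x hx h
      refine hDn x fun y => ?_
      obtain ⟨a, ha, b, hb, rfl⟩ := hsplit y
      rw [map_add, h a ha, (horth hD hDg x hx b hb).1, add_zero]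
    · intro x hx h
      refine hDn x fun y => ?_
      obtain ⟨a, ha, b, hb, rfl⟩ := hsplit y
      rw [map_add, h b hb, (horth hD hDg a ha x hx).2, add_zero]
  obtain ⟨hBK, hBW⟩ := ndK hA hg hB
  obtain ⟨hBK', hBW'⟩ := ndK hA' hg' hB'
  obtain ⟨YW, hYW, hYWg⟩ := hrec W hgW
    (fun w hw h => (Submodule.disjoint_def.1 hdisj) w ((hK w).2 h) hw) hBW hBW'
  obtain ⟨YK, hYK⟩ := exists_isometry (B := B.compl₁₂ K.subtype K.subtype) (B' := B'.compl₁₂ K.subtype K.subtype)
    (fun x => hA (x : V)) (fun x => hA' (x : V))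
    (fun x h => Subtype.ext (hBK x x.2 fun y hy => h ⟨y, hy⟩))
    (fun x h => Subtype.ext (hBK' x x.2 fun y hy => h ⟨y, hy⟩))
  let E := Submodule.prodEquivOfIsCompl K W hcompl
  have hE : ∀ p : K × W, E p = (p.1 : V) + (p.2 : V) := fun p => by simp [E]
  let Y : V ≃ₗ[F] V := (E.symm.trans (YK.prodCongr YW)).trans E
  have hYE : ∀ p : K × W, Y (E p) = E (YK p.1, YW p.2) := fun p => by simp [Y]
  refine ⟨Y, fun u v => ?_, fun u => ?_⟩
  · obtain ⟨p, rfl⟩ := E.surjective u
    obtain ⟨r, rfl⟩ := E.surjective v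
    rw [hYE, hYE, hE, hE, hE, hE]
    simp only [map_add, LinearMap.add_apply]
    rw [(horth hA' hg' _ (YK p.1).2 _ (YW r.2).2).1, (horth hA' hg' _ (YK r.1).2 _ (YW p.2).2).2,
      (horth hA hg _ p.1.2 _ r.2.2).1, (horth hA hg _ r.1.2 _ p.2.2).2, hYW]
    simp only [add_zero, zero_add]
    congr 1
    exact hYK p.1 r.1
  · obtain ⟨⟨a, b⟩, rfl⟩ := E.surjective u
    have h1 : g (E (a, b)) = E (c • a, ⟨g b, hgW b b.2⟩) := by
      rw [hE, hE, map_add, (hK _).1 a.2]; rfl
    rw [h1, hYE, hYE, hE, hE, map_add, (hK _).1 (YK a).2, hYWg b (hgW b b.2), map_smul]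
    rfl

/-- Two forms invariant under a semisimple map are equivariantly equivalent. -/
theorem exists_equivariant (g : Module.End F V) {N : ℕ} (hN : (N : F) ≠ 0) (hgN : g ^ N = 1)
    {B B' : LinearMap.BilinForm F V} (hA : B.IsAlt) (hA' : B'.IsAlt) (hB : ∀ x, (∀ y, B x y = 0) → x = 0)
    (hB' : ∀ x, (∀ y, B' x y = 0) → x = 0) (hg : ∀ u v, B (g u) (g v) = B u v)
    (hg' : ∀ u v, B' (g u) (g v) = B' u v) :
    ∃ Y : V ≃ₗ[F] V, (∀ u v, B' (Y u) (Y v) = B u v) ∧ ∀ u, Y (g u) = g (Y u) := by
  refine exists_glue g hN hgN (c := 1) (one_mul 1) hA hA' hB hB' hg hg' fun W hgW hW1 hBW hBW' => ?_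
  let gW : Module.End F W := g.restrict hgW
  have hgWv : ∀ (k : ℕ) (u : W), ((gW ^ k) u : V) = (g ^ k) (u : V) := fun k => by
    induction k with
    | zero => simp
    | succ k ih => intro u; rw [pow_succ', pow_succ', Module.End.mul_apply, Module.End.mul_apply, ← ih u]; rfl
  have hgWN : gW ^ N = 1 := LinearMap.ext fun u => Subtype.ext (by rw [hgWv, hgN]; rfl)
  obtain ⟨Y, hY, hYg⟩ := exists_glue gW hN hgWN (c := -1) (by ring)
    (B := B.compl₁₂ W.subtype W.subtype) (B' := B'.compl₁₂ W.subtype W.subtype)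
    (fun x => hA (x : V)) (fun x => hA' (x : V))
    (fun x h => Subtype.ext (hBW x x.2 fun y hy => h ⟨y, hy⟩))
    (fun x h => Subtype.ext (hBW' x x.2 fun y hy => h ⟨y, hy⟩))
    (fun u v => hg (u : V) (v : V)) (fun u v => hg' (u : V) (v : V))
    (fun U hgU hU1 hBU hBU' => by
      let gU : Module.End F U := gW.restrict hgU
      have hgUv : ∀ (k : ℕ) (u : U), ((gU ^ k) u : W) = (gW ^ k) (u : W) := fun k => by
        induction k with
        | zero => simp
        | succ k ih => intro u; rw [pow_succ', pow_succ', Module.End.mul_apply, Module.End.mul_apply, ← ih u]; rfl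
      have hgUN : gU ^ N = 1 := LinearMap.ext fun u => Subtype.ext (by rw [hgUv, hgWN]; rfl)
      have hN1 : gU ^ (N - 1) * gU = 1 := by
        rw [← pow_succ, Nat.sub_add_cancel (Nat.one_le_iff_ne_zero.2 fun h => hN (by rw [h, Nat.cast_zero])), hgUN]
      have hN2 : gU * gU ^ (N - 1) = 1 := mul_eq_one_comm.1 hN1
      obtain ⟨Y, hY, hYg⟩ := exists_equivariant_core gU (gU ^ (N - 1)) hN1
        (B := (B.compl₁₂ W.subtype W.subtype).compl₁₂ U.subtype U.subtype)
        (B' := (B'.compl₁₂ W.subtype W.subtype).compl₁₂ U.subtype U.subtype)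
        (fun x => hA ((x : W) : V)) (fun x => hA' ((x : W) : V))
        (fun x h => Subtype.ext (hBU x x.2 fun y hy => h ⟨y, hy⟩))
        (fun x h => Subtype.ext (hBU' x x.2 fun y hy => h ⟨y, hy⟩))
        (fun u v => hg _ _) (fun u v => hg' _ _) (fun u hu => by
          rw [LinearMap.sub_apply, sub_eq_zero] at hu
          have h2 : gU (gU u) = u := by
            conv_lhs => rw [hu]
            rw [← Module.End.mul_apply, hN2, Module.End.one_apply]
          have h2v : g (g ((u : W) : V)) = ((u : W) : V) := congrArg (fun x : U => ((x : W) : V)) h2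
          have h3 : g ((u : W) : V) + ((u : W) : V) = 0 := by
            refine hW1 _ (W.add_mem (hgW _ (u : W).2) (u : W).2) ?_
            rw [map_add, h2v, one_smul, add_comm]
          refine Subtype.ext (hU1 _ u.2 (Subtype.ext ?_))
          show g ((u : W) : V) = (((-1 : F) • (u : W) : W) : V)
          rw [Submodule.coe_smul, neg_one_smul, eq_neg_iff_add_eq_zero]
          exact h3)
      exact ⟨Y, hY, fun u h => congrArg (fun x : U => (x : W)) (hYg u)⟩)
  exact ⟨Y, hY, fun u h => congrArg (fun x : W => (x : V)) (hYg u)⟩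

end Forms

/-- Palindromic up to the constant term. -/
def Pal (P : F[X]) : Prop := P.reverse = C (P.coeff 0) * P

theorem Pal.of_mul {P R : F[X]} (hR : R ≠ 0) (h0 : R.coeff 0 ≠ 0) (hRs : Pal R) (hs : Pal (R * P)) : Pal P := by
  refine mul_left_cancel₀ (b := P.reverse) (a := C (R.coeff 0) * R) (mul_ne_zero (C_ne_zero.2 h0) hR) ?_
  have h := hs
  rw [Pal, reverse_mul_of_domain, hRs, mul_coeff_zero, C_mul] at h
  rw [h]; ring

theorem Pal.mirror_coeff {P : F[X]} (hP : Pal P) {i : ℕ} (hi : i ≤ P.natDegree) :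
    P.coeff (P.natDegree - i) = P.coeff 0 * P.coeff i := by
  have h := congrArg (fun R : F[X] => R.coeff i) hP
  simpa [Polynomial.reverse, Polynomial.coeff_reflect, Polynomial.revAt_le hi] using h

/-- A palindromic polynomial of odd degree has a root `±1`. -/
theorem Pal.eval_eq_zero {P : F[X]} (hP : Pal P) (hd : Odd P.natDegree) {c : F} (hc : c * c = 1)
    (hε : P.coeff 0 = -c) : P.eval c = 0 := by
  rw [Polynomial.eval_eq_sum_range]
  obtain ⟨k, hk⟩ := hd
  refine Finset.sum_involution (fun i _ => P.natDegree - i) ?_ ?_ ?_ ?_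
  · intro i hi
    rw [Finset.mem_range] at hi
    rw [hP.mirror_coeff (by omega), hε]
    have hsq : ∀ j : ℕ, c ^ (2 * j) = 1 := fun j => by rw [pow_mul, sq, hc, one_pow]
    have h1 : c * c ^ (P.natDegree - i) = c ^ i := by
      rw [← pow_succ']
      rcases le_or_gt i (P.natDegree - i + 1) with h | h
      · obtain ⟨j, hj⟩ : ∃ j, P.natDegree - i + 1 = i + 2 * j := ⟨k + 1 - i, by omega⟩
        rw [hj, pow_add, hsq, mul_one]
      · obtain ⟨j, hj⟩ : ∃ j, i = P.natDegree - i + 1 + 2 * j := ⟨i - k - 1, by omega⟩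
        conv_rhs => rw [hj, pow_add, hsq, mul_one]
    linear_combination -(P.coeff i) * h1
  · intro i hi _
    rw [Finset.mem_range] at hi
    omega
  · intro i hi
    rw [Finset.mem_range] at hi ⊢
    omega
  · intro i hi
    rw [Finset.mem_range] at hi
    omega

theorem pal_linear_sq {c : F} (hc : c * c = 1) : Pal ((X - C c) * (X - C c)) := by
  have h1 : (X - C c : F[X]).reverse = C (-c) * (X - C c) := by
    rw [sub_eq_add_neg, ← C_neg, Polynomial.reverse_add_C, natDegree_X, pow_one,
      show (X : F[X]).reverse = 1 by rw [reverse, natDegree_X, ← pow_one X, reflect_monomial]; simp,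
      mul_add, ← C_mul]
    rw [neg_mul_neg, hc, C_1]
    ring
  rw [Pal, reverse_mul_of_domain, h1, mul_coeff_zero, coeff_sub, coeff_X_zero, coeff_C_zero, zero_sub, C_mul]
  ring

/-- A palindromic, separable divisor of positive degree. -/
theorem exists_pal_factor {N : ℕ} (hN : 0 < N) {P : F[X]} (hs : Pal P) (hP0 : P.coeff 0 ≠ 0) {f : F[X]}
    (hf : 0 < f.natDegree) (hfP : f ∣ P) (hfN : f ∣ X ^ N - 1) :
    ∃ R : F[X], R.Monic ∧ 0 < R.natDegree ∧ R ∣ P ∧ R ∣ X ^ N - 1 ∧ Pal R ∧ R.coeff 0 ≠ 0 := by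
  classical
  set T : F[X] := X ^ N - 1 with hT
  have hTne : T ≠ 0 := by simpa [hT] using (monic_X_pow_sub_C (1 : F) hN.ne').ne_zero
  set G := EuclideanDomain.gcd P T
  have hGne : G ≠ 0 := fun h => hTne ((EuclideanDomain.gcd_eq_zero_iff.1 h).2)
  set R := G * C G.leadingCoeff⁻¹ with hR
  have hRm : R.Monic := monic_mul_leadingCoeff_inv hGne
  have hGR : ∀ D, D ∣ P → D ∣ T → D ∣ R := fun D h1 h2 =>
    dvd_mul_of_dvd_left (EuclideanDomain.dvd_gcd h1 h2) _
  have hu : IsUnit (C G.leadingCoeff⁻¹) := isUnit_C.2 (IsUnit.mk0 _ (inv_ne_zero (leadingCoeff_ne_zero.2 hGne)))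
  have hRP : R ∣ P := hu.mul_right_dvd.2 (EuclideanDomain.gcd_dvd_left P T)
  have hRT : R ∣ T := hu.mul_right_dvd.2 (EuclideanDomain.gcd_dvd_right P T)
  have hR0 : R.coeff 0 ≠ 0 := by
    intro h
    apply hP0
    obtain ⟨D, hD⟩ := hRP
    rw [hD, mul_coeff_zero, h, zero_mul]
  refine ⟨R, hRm, hf.trans_le (natDegree_le_of_dvd (hGR f hfP hfN) hRm.ne_zero), hRP, hRT, ?_, hR0⟩
  have hlc : R.reverse.leadingCoeff = R.coeff 0 := by
    rw [reverse_leadingCoeff, trailingCoeff_eq_coeff_zero hR0]
  have hdvd : R.reverse ∣ R := by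
    refine hGR _ ?_ ?_
    · obtain ⟨D, hD⟩ := hRP
      have h : P.reverse = C (P.coeff 0) * P := hs
      have h' : R.reverse * D.reverse = C (P.coeff 0) * P := by rw [← reverse_mul_of_domain, ← hD, h]
      exact (isUnit_C.2 (IsUnit.mk0 _ hP0)).dvd_mul_left.1 (h' ▸ dvd_mul_right _ _)
    · obtain ⟨D, hD⟩ := hRT
      have h : T.reverse = C (-1) * T := by
        rw [hT, sub_eq_add_neg, ← map_one C, ← C_neg, Polynomial.reverse, natDegree_X_pow_add_C, reflect_add,
          reflect_C, reflect_monomial, revAt_le le_rfl, Nat.sub_self, pow_zero]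
        simp only [C_neg, C_1]
        ring
      have h' : R.reverse * D.reverse = C (-1) * T := by rw [← reverse_mul_of_domain, ← hD, h]
      exact (isUnit_C.2 (IsUnit.mk0 _ (neg_ne_zero.2 (one_ne_zero (α := F))))).dvd_mul_left.1
        (h' ▸ dvd_mul_right _ _)
  have hdeg : R.natDegree ≤ R.reverse.natDegree := by
    rw [reverse_natDegree, natTrailingDegree_eq_zero.2 (Or.inr hR0), Nat.sub_zero]
  obtain ⟨u, hu⟩ := Polynomial.associated_of_dvd_of_natDegree_le hdvd hRm.ne_zero hdeg
  obtain ⟨a, ha, hau⟩ := Polynomial.isUnit_iff.1 u.isUnit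
  rw [← hau] at hu
  have hlead := congrArg leadingCoeff hu
  rw [leadingCoeff_mul, leadingCoeff_C, hlc, hRm.leadingCoeff] at hlead
  have h3 := congrArg (fun D => C (R.coeff 0) * D) hu
  show R.reverse = _
  rw [← h3, ← mul_assoc, mul_comm (C (R.coeff 0)), mul_assoc, ← C_mul, hlead, C_1, mul_one]

/-- The alternating form on a separable palindromic quotient without roots `±1`. -/
theorem exists_block {N : ℕ} (hN : (N : F) ≠ 0) {R : F[X]} (hm : R.Monic)
    (hRN : R ∣ X ^ N - 1) (hs : Pal R) (hcop : ∀ c : F, c * c = 1 → R.eval c ≠ 0) :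
    ∃ (g : Module.End F (Fin R.natDegree → F)) (B : LinearMap.BilinForm F (Fin R.natDegree → F)),
      B.IsAlt ∧ (∀ x, (∀ y, B x y = 0) → x = 0) ∧ (∀ u v, B (g u) (g v) = B u v) ∧ g ^ N = 1 ∧
        g.charpoly = R := by
  classical
  set L := AlgebraicClosure F
  have hN0 : N ≠ 0 := fun h => hN (by rw [h, Nat.cast_zero])
  let A := AdjoinRoot R
  set r : A := AdjoinRoot.root R
  let pb := AdjoinRoot.powerBasis hm.ne_zero
  haveI : Module.Finite F A := pb.finite
  haveI : Finite A := Module.finite_of_finite F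
  have hrN : r ^ N = 1 := by
    have h : AdjoinRoot.mk R (X ^ N - 1) = 0 := AdjoinRoot.mk_eq_zero.2 hRN
    rwa [map_sub, map_pow, AdjoinRoot.mk_X, map_one, sub_eq_zero] at h
  have hNsplit : N - 1 + 1 = N := by omega
  letI hinvr : Invertible r := ⟨r ^ (N - 1), by rw [← pow_succ, hNsplit, hrN], by rw [← pow_succ', hNsplit, hrN]⟩
  have hR0 : R.coeff 0 ≠ 0 := by
    intro h
    obtain ⟨D, hD⟩ := hRN
    have h' := congrArg (fun P => Polynomial.coeff P 0) hD
    simp [mul_coeff_zero, h, hN0.symm] at h'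
  have hσ0 : R.eval₂ (Algebra.ofId F A) (r ^ (N - 1)) = 0 := by
    have h1 : R.reverse.eval₂ (AdjoinRoot.of R) (⅟r) = 0 :=
      (eval₂_reverse_eq_zero_iff _ _ _).2 (AdjoinRoot.eval₂_root R)
    rw [hs, eval₂_mul, eval₂_C] at h1
    exact ((IsUnit.mk0 _ hR0).map (AdjoinRoot.of R)).mul_right_eq_zero.1 h1
  let σ : A →ₐ[F] A := AdjoinRoot.liftAlgHom R (Algebra.ofId F A) (r ^ (N - 1)) hσ0
  have hσr : σ r = r ^ (N - 1) := AdjoinRoot.liftAlgHom_root _ _ _ hσ0
  have hσσ' : σ.comp σ = AlgHom.id F A := by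
    refine AdjoinRoot.algHom_ext ?_
    show σ (σ r) = r
    rw [hσr, map_pow, hσr, ← pow_mul]
    obtain ⟨M, rfl⟩ : ∃ M, N = M + 1 := ⟨N - 1, by omega⟩
    rw [Nat.add_sub_cancel]
    rcases M with _ | M
    · simpa using hrN.symm
    · rw [show (M + 1) * (M + 1) = (M + 1 + 1) * M + 1 by ring, pow_add, pow_mul, hrN, one_pow, one_mul, pow_one]
  have hσσ : ∀ x, σ (σ x) = x := fun x => AlgHom.congr_fun hσσ' x
  set S := (R.map (algebraMap F L)).roots.toFinset with hS
  have hmemS : ∀ {x : L}, x ∈ S ↔ aeval x R = 0 := by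
    intro x
    rw [hS, Multiset.mem_toFinset, mem_roots ((Polynomial.map_ne_zero_iff (algebraMap F L).injective).2 hm.ne_zero),
      IsRoot, eval_map_algebraMap]
  have hsep : (R.map (algebraMap F L)).Separable :=
    ((Polynomial.separable_X_pow_sub_C (1 : F) hN one_ne_zero).of_dvd (by rw [C_1]; exact hRN)).map
  let ev : ∀ x : S, A →ₐ[F] L := fun x => AdjoinRoot.liftAlgHom R (Algebra.ofId F L) (x : L) (hmemS.1 x.2)
  have hevr : ∀ x : S, ev x r = x := fun x => AdjoinRoot.liftAlgHom_root R _ _ _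
  have hrootN : ∀ x : S, (x : L) ^ N = 1 := fun x => by rw [← hevr, ← map_pow, hrN, map_one]
  have hψ : ∀ x : S, ((x : L) ^ (N - 1)) ∈ S := by
    intro x
    have h : aeval ((ev x).comp σ r) R = 0 := by
      rw [Polynomial.aeval_algHom_apply, AdjoinRoot.aeval_eq, AdjoinRoot.mk_self, map_zero]
    rw [hmemS]
    rwa [AlgHom.comp_apply, hσr, map_pow, hevr] at h
  let ψ : S → S := fun x => ⟨_, hψ x⟩
  have hψinj : Function.Injective ψ := by
    intro x y h
    have h2 : (x : L) ^ (N - 1) = (y : L) ^ (N - 1) := congrArg Subtype.val h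
    apply Subtype.ext
    calc (x : L) = x * ((y : L) * y ^ (N - 1)) := by rw [← pow_succ', hNsplit, hrootN, mul_one]
      _ = (x : L) ^ (N - 1) * x * y := by rw [h2]; ring
      _ = y := by rw [← pow_succ, hNsplit, hrootN, one_mul]
  have hψbij : Function.Bijective ψ := Finite.injective_iff_bijective.1 hψinj
  have hevσ : ∀ (x : S) (u : A), ev x (σ u) = ev (ψ x) u := fun x u => by
    have h : (ev x).comp σ = ev (ψ x) := AdjoinRoot.algHom_ext (by
      show ev x (σ r) = ev (ψ x) r
      rw [hσr, map_pow, hevr, hevr])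
    exact AlgHom.congr_fun h u
  let lL : A →ₗ[F] L := ∑ x : S, (ev x).toLinearMap
  have hlL : ∀ u, lL u = ∑ x : S, ev x u := fun u => by simp [lL]
  have hlσ : ∀ u, lL (σ u) = lL u := fun u => by
    rw [hlL, hlL]
    conv_rhs => rw [← hψbij.sum_comp]
    exact Finset.sum_congr rfl fun x _ => hevσ x u
  let φ : L →ₐ[F] L := FiniteField.frobeniusAlgHom F L
  have hφ : ∀ y, φ y = y ^ Fintype.card F := fun y => by simp [φ]
  have hrange : ∀ u, ∃ c : F, algebraMap F L c = lL u := fun u => exists_algebraMap_of_pow_card (by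
    rw [← hφ, hlL, map_sum]
    have hmemφ : ∀ x : S, φ x ∈ S := fun x => hmemS.2 (by rw [Polynomial.aeval_algHom_apply, hmemS.1 x.2, map_zero])
    let π : S → S := fun x => ⟨_, hmemφ x⟩
    have hπ : Function.Bijective π := Finite.injective_iff_bijective.1 fun x y h =>
      Subtype.ext (φ.toRingHom.injective (congrArg Subtype.val h))
    conv_rhs => rw [← hπ.sum_comp]
    refine Finset.sum_congr rfl fun x _ => ?_
    have h : φ.comp (ev x) = ev (π x) := AdjoinRoot.algHom_ext (by
      show φ (ev x r) = ev (π x) r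
      rw [hevr, hevr])
    exact AlgHom.congr_fun h u)
  choose l hl using hrange
  have hl_add : ∀ u v, l (u + v) = l u + l v := fun u v => (algebraMap F L).injective (by
    rw [hl, map_add (algebraMap F L), hl, hl, map_add])
  have hl_smul : ∀ (c : F) u, l (c • u) = c * l u := fun c u => (algebraMap F L).injective (by
    rw [hl, map_mul, hl, map_smul, Algebra.smul_def])
  let l' : A →ₗ[F] F := { toFun := l, map_add' := hl_add, map_smul' := hl_smul }
  have hl_σ : ∀ u, l' (σ u) = l' u := fun u => (algebraMap F L).injective (by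
    show algebraMap F L (l (σ u)) = algebraMap F L (l u)
    rw [hl, hl, hlσ])
  set d : A := r - r ^ (N - 1)
  have hd : IsUnit d := by
    obtain ⟨a, b, hab⟩ : IsCoprime R ((X - C 1) * (X - C (-1))) :=
      IsCoprime.mul_right
        (((irreducible_X_sub_C (1 : F)).coprime_iff_not_dvd.2 fun h =>
          hcop 1 (one_mul 1) (dvd_iff_isRoot.1 h)).symm)
        (((irreducible_X_sub_C (-1 : F)).coprime_iff_not_dvd.2 fun h =>
          hcop (-1) (by ring) (dvd_iff_isRoot.1 h)).symm)
    have h := congrArg (AdjoinRoot.mk R) hab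
    simp only [map_add, map_mul, map_sub, AdjoinRoot.mk_self, mul_zero, zero_add, map_one, AdjoinRoot.mk_X,
      C_1, C_neg, map_neg, sub_neg_eq_add] at h
    have hdr : d * r = (r - 1) * (r + 1) := by
      rw [sub_mul, ← pow_succ, hNsplit, hrN]; ring
    exact IsUnit.of_mul_eq_one (r * AdjoinRoot.mk R b) (by rw [← mul_assoc, hdr, mul_comm]; exact h)
  have hσd : σ d = -d := by
    have h : σ (σ r) = r := hσσ r
    rw [hσr] at h
    simp only [d, map_sub, h, hσr]
    ring
  let B : LinearMap.BilinForm F A :=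
    LinearMap.mk₂ F (fun u v => l' (d * σ u * v))
      (fun u u' v => by rw [map_add, mul_add, add_mul, map_add])
      (fun c u v => by rw [map_smul, mul_smul_comm, smul_mul_assoc, map_smul])
      (fun u v v' => by rw [mul_add, map_add])
      (fun c u v => by rw [mul_smul_comm, map_smul])
  have hBapp : ∀ u v, B u v = l' (d * σ u * v) := fun u v => rfl
  have hBalt : B.IsAlt := fun u => by
    rw [hBapp, mul_assoc]
    simp only [d, sub_mul, map_sub]
    have h := hl_σ (r * (σ u * u))
    rw [map_mul σ, map_mul σ, hσσ, hσr, mul_comm u (σ u)] at h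
    rw [h, sub_self]
  have hBnd : ∀ u, (∀ v, B u v = 0) → u = 0 := by
    intro u hu
    suffices hw : d * σ u = 0 by
      have h2 : σ u = 0 := hd.mul_right_eq_zero.1 hw
      rw [← hσσ u, h2, map_zero]
    obtain ⟨P, hP⟩ := AdjoinRoot.mk_surjective (d * σ u)
    have hz : ∀ v, l (d * σ u * v) = 0 := fun v => hu v
    have heach : ∀ x : S, ev x (d * σ u) = 0 := by
      intro x
      let f : L[X] := ∏ y ∈ Finset.univ.erase x, (X - C (y : L))
      have hsum : ∑ y : S, ev y (d * σ u) * f.eval (y : L) = 0 := by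
        simp only [Polynomial.eval_eq_sum, Polynomial.sum]
        rw [Finset.sum_congr rfl fun y _ => Finset.mul_sum _ _ _, Finset.sum_comm]
        refine Finset.sum_eq_zero fun k _ => ?_
        have h1 : (∑ y : S, ev y (d * σ u * r ^ k)) = 0 := by rw [← hlL, ← hl, hz, map_zero]
        rw [show (∑ y : S, ev y (d * σ u) * (f.coeff k * (y : L) ^ k)) =
          f.coeff k * ∑ y : S, ev y (d * σ u * r ^ k) by
            rw [Finset.mul_sum]
            exact Finset.sum_congr rfl fun y _ => by
              rw [map_mul (ev y) (d * σ u), map_pow, hevr]; ring, h1, mul_zero]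
      rw [Finset.sum_eq_single x (fun y _ hy => ?_) (by simp)] at hsum
      · refine (mul_eq_zero.1 hsum).resolve_right ?_
        simp only [f, eval_prod, eval_sub, eval_X, eval_C]
        exact Finset.prod_ne_zero_iff.2 fun y hy => sub_ne_zero.2 fun e =>
          (Finset.mem_erase.1 hy).1 (Subtype.ext e.symm)
      · rw [show f.eval (y : L) = 0 from by
          simp only [f, eval_prod]
          exact Finset.prod_eq_zero (Finset.mem_erase.2 ⟨hy, Finset.mem_univ _⟩) (by simp), mul_zero]
    rw [← hP, AdjoinRoot.mk_eq_zero]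
    have h2 : R.map (algebraMap F L) ∣ P.map (algebraMap F L) := by
      rw [(IsAlgClosed.splits (R.map (algebraMap F L))).eq_prod_roots_of_monic (hm.map _)]
      by_cases hP0 : P.map (algebraMap F L) = 0
      · rw [hP0]; exact dvd_zero _
      refine (Multiset.prod_X_sub_C_dvd_iff_le_roots hP0 _).2 ((Multiset.le_iff_subset (nodup_roots hsep)).2 ?_)
      intro x hx
      rw [mem_roots hP0, IsRoot, eval_map_algebraMap]
      have hxS : x ∈ S := by rw [hS, Multiset.mem_toFinset]; exact hx
      have h3 := heach ⟨x, hxS⟩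
      rw [← hP] at h3
      simp only [ev, AdjoinRoot.liftAlgHom_mk] at h3
      exact h3
    exact (map_dvd_map (algebraMap F L) (algebraMap F L).injective hm).1 h2
  let e : A ≃ₗ[F] (Fin R.natDegree → F) := (Module.finBasisOfFinrankEq F A (finrank_adjoinRoot hm)).equivFun
  refine ⟨e.conj (LinearMap.mulLeft F r), B.compl₁₂ e.symm.toLinearMap e.symm.toLinearMap,
    fun x => hBalt (e.symm x), fun x h => ?_, fun u v => ?_, ?_, ?_⟩
  · refine e.symm.injective ((hBnd _ fun y => ?_).trans (map_zero _).symm)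
    simpa using h (e y)
  · simp only [LinearMap.compl₁₂_apply, LinearEquiv.conj_apply, LinearMap.coe_comp, LinearEquiv.coe_coe,
      Function.comp_apply, LinearEquiv.symm_apply_apply, LinearMap.mulLeft_apply, hBapp, map_mul, hσr]
    congr 1
    have : r ^ (N - 1) * r = 1 := by rw [← pow_succ, hNsplit, hrN]
    linear_combination (d * σ (e.symm u) * e.symm v) * this
  · rw [show e.conj (LinearMap.mulLeft F r) = e.conjAlgEquiv F (LinearMap.mulLeft F r) from rfl, ← map_pow,
      LinearMap.pow_mulLeft, hrN, LinearMap.mulLeft_one]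
    exact map_one _
  · rw [LinearEquiv.charpoly_conj, ← LinearMap.charpoly_toMatrix _ pb.basis, Algebra.toMatrix_lmul_eq]
    have h := charpoly_leftMulMatrix pb
    rw [AdjoinRoot.powerBasis_gen] at h
    rw [h, AdjoinRoot.minpoly_root hm.ne_zero, hm.leadingCoeff, inv_one, map_one, mul_one]

/-- A semisimple isometry of an alternating space with given characteristic polynomial. -/
theorem exists_model {N : ℕ} (hN : (N : F) ≠ 0) (n₀ : ℕ)
    (hirr : ∀ f : F[X], Irreducible f → f.natDegree ≤ n₀ → f.coeff 0 ≠ 0 → f ∣ X ^ N - 1) :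
    ∀ (n : ℕ) (P : F[X]), n ≤ n₀ → P.Monic → P.natDegree = n → Even n → P.coeff 0 = 1 → Pal P →
    ∃ (g : Module.End F (Fin n → F)) (B : LinearMap.BilinForm F (Fin n → F)),
      B.IsAlt ∧ (∀ x, (∀ y, B x y = 0) → x = 0) ∧ (∀ u v, B (g u) (g v) = B u v) ∧ g ^ N = 1 ∧ g.charpoly = P := by
  classical
  have hN0 : 0 < N := Nat.pos_of_ne_zero fun h => hN (by rw [h, Nat.cast_zero])
  intro n
  induction n using Nat.strong_induction_on with
  | _ n ih =>
  intro P hn hP hd heven h0 hs
  rcases Nat.eq_zero_or_pos n with rfl | hn0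
  · refine ⟨1, 0, fun x => rfl, fun x _ => Subsingleton.elim _ _, fun u v => rfl, one_pow N, ?_⟩
    rw [hP.natDegree_eq_zero.1 hd]
    exact (LinearMap.charpoly_monic _).natDegree_eq_zero.1
      (by rw [LinearMap.charpoly_natDegree, Module.finrank_fin_fun])
  -- it suffices to split off one block
  suffices hblock : ∃ (R : F[X]) (a : ℕ) (g : Module.End F (Fin a → F)) (B : LinearMap.BilinForm F (Fin a → F)),
      R.Monic ∧ R.natDegree = a ∧ 0 < a ∧ Even a ∧ R.coeff 0 = 1 ∧ Pal R ∧ R ∣ P ∧
      B.IsAlt ∧ (∀ x, (∀ y, B x y = 0) → x = 0) ∧ (∀ u v, B (g u) (g v) = B u v) ∧ g ^ N = 1 ∧ g.charpoly = R by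
    obtain ⟨R, a, g, B, hRm, hRd, ha, hae, hR0, hRs, ⟨P', hP'⟩, hA, hB, hg, hgN, hgc⟩ := hblock
    have hP'm : P'.Monic := hRm.of_mul_monic_left (hP' ▸ hP)
    have hdeg : a + P'.natDegree = n := by rw [← hRd, ← hRm.natDegree_mul hP'm, ← hP', hd]
    have hP'0 : P'.coeff 0 = 1 := by
      have := congrArg (fun D => Polynomial.coeff D 0) hP'
      simp only [mul_coeff_zero, h0, hR0, one_mul] at this
      exact this.symm
    obtain ⟨g', B', hA', hB', hg', hgN', hgc'⟩ := ih P'.natDegree (by omega) P' (by omega) hP'm rfl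
      (by rw [Nat.even_iff] at heven hae ⊢; omega) hP'0
      (Pal.of_mul hRm.ne_zero (by rw [hR0]; exact one_ne_zero) hRs (hP' ▸ hs))
    let E : ((Fin a → F) × (Fin P'.natDegree → F)) ≃ₗ[F] (Fin n → F) := LinearEquiv.ofFinrankEq _ _ (by
      rw [Module.finrank_prod, Module.finrank_fin_fun, Module.finrank_fin_fun, Module.finrank_fin_fun]; exact hdeg)
    let D : LinearMap.BilinForm F ((Fin a → F) × (Fin P'.natDegree → F)) :=
      B.compl₁₂ (LinearMap.fst F _ _) (LinearMap.fst F _ _) + B'.compl₁₂ (LinearMap.snd F _ _) (LinearMap.snd F _ _)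
    have hD : ∀ u v, D u v = B u.1 v.1 + B' u.2 v.2 := fun u v => rfl
    refine ⟨E.conj (g.prodMap g'), D.compl₁₂ E.symm.toLinearMap E.symm.toLinearMap, fun x => ?_, fun x h => ?_,
      fun u v => ?_, ?_, ?_⟩
    · simp [hD, hA _, hA' _]
    · have hh : ∀ y : (Fin a → F) × (Fin P'.natDegree → F), B (E.symm x).1 y.1 + B' (E.symm x).2 y.2 = 0 := fun y => by
        have := h (E y)
        simpa [hD] using this
      have h1 : (E.symm x).1 = 0 := hB _ fun y => by simpa using hh (y, 0)
      have h2 : (E.symm x).2 = 0 := hB' _ fun y => by simpa using hh (0, y)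
      exact E.symm.injective (by rw [map_zero]; exact Prod.ext h1 h2)
    · simp [hD, LinearEquiv.conj_apply, hg, hg']
    · have hk : ∀ k : ℕ, (g.prodMap g') ^ k = (g ^ k).prodMap (g' ^ k) := fun k => by
        induction k with
        | zero => simp
        | succ k ih' => rw [pow_succ, ih', pow_succ, pow_succ, LinearMap.prodMap_mul]
      rw [show E.conj (g.prodMap g') = E.conjAlgEquiv F (g.prodMap g') from rfl, ← map_pow, hk, hgN, hgN',
        LinearMap.prodMap_one, map_one]
    · rw [LinearEquiv.charpoly_conj, LinearMap.charpoly_prodMap, hgc, hgc', ← hP']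
  by_cases hroot : ∃ c : F, c * c = 1 ∧ P.eval c = 0
  · -- a plane with a scalar
    obtain ⟨c, hc, hPc⟩ := hroot
    obtain ⟨P1, hP1⟩ := (dvd_iff_isRoot (a := c)).2 hPc
    have hc0 : c ≠ 0 := left_ne_zero_of_mul_eq_one hc
    have hP1m : P1.Monic := (monic_X_sub_C c).of_mul_monic_left (hP1 ▸ hP)
    have hP10 : P1.coeff 0 = -c := by
      have h := congrArg (fun D => Polynomial.coeff D 0) hP1
      simp only [mul_coeff_zero, h0, coeff_sub, coeff_X_zero, coeff_C_zero, zero_sub] at h
      calc P1.coeff 0 = c * c * P1.coeff 0 := by rw [hc, one_mul]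
        _ = -c * (-c * P1.coeff 0) := by ring
        _ = -c := by rw [← h, mul_one]
    have hlin : (X - C c : F[X]).reverse = C (-c) * (X - C c) := by
      rw [sub_eq_add_neg, ← C_neg, Polynomial.reverse_add_C, natDegree_X, pow_one,
        show (X : F[X]).reverse = 1 by rw [reverse, natDegree_X, ← pow_one X, reflect_monomial]; simp,
        mul_add, ← C_mul]
      rw [neg_mul_neg, hc, C_1]
      ring
    have hP1s : Pal P1 := Pal.of_mul (X_sub_C_ne_zero c) (by simpa using hc0)
      (by rw [Pal, hlin]; simp) (hP1 ▸ hs)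
    have hP1d : P1.natDegree + 1 = n := by
      rw [← hd, hP1, (monic_X_sub_C c).natDegree_mul hP1m, natDegree_X_sub_C]; ring
    have hP1c : P1.eval c = 0 := hP1s.eval_eq_zero (by rw [Nat.odd_iff]; rw [Nat.even_iff] at heven; omega) hc hP10
    obtain ⟨P2, hP2⟩ := (dvd_iff_isRoot (a := c)).2 hP1c
    have hcN : c ^ N = 1 := by
      have h := hirr (X - C c) (irreducible_X_sub_C c) (by rw [natDegree_X_sub_C]; omega) (by simpa using hc0)
      have h' := dvd_iff_isRoot.1 h
      simpa [sub_eq_zero] using h'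
    refine ⟨(X - C c) * (X - C c), 2, c • 1, Matrix.toBilin' !![(0 : F), 1; -1, 0],
      (monic_X_sub_C c).mul (monic_X_sub_C c), ?_, two_pos, even_two, ?_, pal_linear_sq hc, ?_, fun x => ?_,
      fun x h => ?_, fun u v => ?_, ?_, ?_⟩
    · rw [(monic_X_sub_C c).natDegree_mul (monic_X_sub_C c), natDegree_X_sub_C]
    · simp [hc]
    · exact ⟨P2, by rw [hP1, hP2, mul_assoc]⟩
    · simp [Matrix.toBilin'_apply', Matrix.mulVec, dotProduct, Fin.sum_univ_two]; ring
    · have h1 := h ![0, 1]
      have h2 := h ![1, 0]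
      simp [Matrix.toBilin'_apply', Matrix.mulVec, dotProduct, Fin.sum_univ_two] at h1 h2
      funext i; fin_cases i <;> simp [h1, h2]
    · simp only [LinearMap.smul_apply, Module.End.one_apply, map_smul, smul_eq_mul]
      rw [← mul_assoc, hc, one_mul]
    · rw [_root_.smul_pow, hcN, one_pow, one_smul]
    · have hmat : (c • (1 : Module.End F (Fin 2 → F))) = Matrix.toLin' (Matrix.diagonal fun _ : Fin 2 => c) := by
        refine LinearMap.ext fun v => funext fun i => ?_
        simp [Matrix.toLin'_apply, Matrix.mulVec_diagonal]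
      rw [hmat, Cfsg.Agent.Lie.Semisimple.toLin_charpoly, Matrix.charpoly_diagonal, Fin.prod_univ_two]
  · push Not at hroot
    obtain ⟨f, hfm, hfi, hfP⟩ := Polynomial.exists_monic_irreducible_factor P
      (fun hu => by rw [Polynomial.natDegree_eq_zero_of_isUnit hu] at hd; omega)
    have hP0' : P.coeff 0 ≠ 0 := by rw [h0]; exact one_ne_zero
    have hf0 : f.coeff 0 ≠ 0 := fun h => hP0' (by
      obtain ⟨D, hD⟩ := hfP; rw [hD, mul_coeff_zero, h, zero_mul])
    obtain ⟨R, hRm, hRd, hRP, hRN, hRs, hR0⟩ := exists_pal_factor hN0 hs hP0' hfi.natDegree_pos hfP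
      (hirr f hfi ((natDegree_le_of_dvd hfP hP.ne_zero).trans (hd.le.trans hn)) hf0)
    have hcop : ∀ c : F, c * c = 1 → R.eval c ≠ 0 := fun c hc h => hroot c hc (by
      obtain ⟨D, hD⟩ := hRP; rw [hD, eval_mul, h, zero_mul])
    have hR01 : R.coeff 0 = 1 := by
      have h1 : R.reverse.eval (1 : F) = R.eval 1 := by
        rw [Polynomial.eval_eq_sum_range' (n := R.natDegree + 1) (by
            have := R.reverse_natDegree_le; omega),
          Polynomial.eval_eq_sum_range, ← Finset.sum_range_reflect]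
        refine Finset.sum_congr rfl fun i hi => ?_
        rw [Finset.mem_range] at hi
        rw [Polynomial.reverse, coeff_reflect, revAt_le (by omega), one_pow, one_pow,
          show R.natDegree - (R.natDegree + 1 - 1 - i) = i by omega]
      rw [hRs, eval_mul, eval_C] at h1
      exact mul_right_cancel₀ (hcop 1 (one_mul 1)) (by rw [h1, one_mul])
    have hReven : Even R.natDegree := by
      by_contra h
      exact hcop (-1) (by ring) (hRs.eval_eq_zero (Nat.not_even_iff_odd.1 h) (by ring) (by rw [hR01, neg_neg]))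
    obtain ⟨g, B, hA, hB, hg, hgN, hgc⟩ := exists_block hN hRm hRN hRs hcop
    exact ⟨R, R.natDegree, g, B, hRm, rfl, hRd, hReven, hR01, hRs, hRP, hA, hB, hg, hgN, hgc⟩

theorem card_pal (n : ℕ) :
    Nat.card {P : F[X] // P.Monic ∧ P.natDegree = 2 * n ∧ P.reverse = P} = Fintype.card F ^ n := by
  classical
  let w : (Fin n → F) → Fin (2 * n) → F := fun v j =>
    if h : (j : ℕ) = 0 then 1 else v ⟨min (j : ℕ) (2 * n - j) - 1, by omega⟩
  have hlt : ∀ v, ((degreeLTEquiv F (2 * n)).symm (w v) : F[X]).degree < (2 * n : ℕ) :=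
    fun v => mem_degreeLT.1 ((degreeLTEquiv F (2 * n)).symm (w v)).2
  let mkP : (Fin n → F) → F[X] := fun v => X ^ (2 * n) + ((degreeLTEquiv F (2 * n)).symm (w v) : F[X])
  have hco : ∀ (v : Fin n → F) (i : Fin (2 * n)), (mkP v).coeff i = w v i := fun v i => by
    rw [coeff_add, coeff_X_pow, if_neg i.2.ne, zero_add]
    exact congrFun ((degreeLTEquiv F (2 * n)).apply_symm_apply (w v)) i
  have hmon : ∀ v, (mkP v).Monic := fun v => monic_X_pow_add (hlt v)
  have hdeg : ∀ v, (mkP v).natDegree = 2 * n := fun v => natDegree_eq_of_degree_eq_some (by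
    rw [degree_add_eq_left_of_degree_lt] <;> rw [degree_X_pow]
    exact hlt v)
  have htop : ∀ v, (mkP v).coeff (2 * n) = 1 := fun v => by
    conv_lhs => rw [← hdeg v]
    exact hmon v
  have hmid : ∀ v (j : ℕ) (h1 : 1 ≤ j) (h2 : j < 2 * n),
      (mkP v).coeff j = v ⟨min j (2 * n - j) - 1, by omega⟩ := fun v j h1 h2 => by
    have h := hco v ⟨j, h2⟩
    simp only [w, dif_neg (show ¬ j = 0 by omega)] at h
    exact h
  have hzero : ∀ v, (mkP v).coeff 0 = 1 := fun v => by
    rcases Nat.eq_zero_or_pos (2 * n) with h | h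
    · rw [← h]; exact htop v
    · rw [show (0 : ℕ) = ((⟨0, h⟩ : Fin (2 * n)) : ℕ) from rfl, hco]; simp [w]
  have hrev : ∀ v, (mkP v).reverse = mkP v := fun v => by
    ext j
    rw [Polynomial.reverse, coeff_reflect, hdeg]
    rcases Nat.lt_or_ge (2 * n) j with hj | hj
    · rw [revAt_eq_self_of_lt hj]
    rw [revAt_le hj]
    rcases Nat.eq_zero_or_pos j with rfl | hj0
    · rw [Nat.sub_zero, htop, hzero]
    rcases eq_or_lt_of_le hj with rfl | hjn
    · rw [Nat.sub_self, hzero, htop]
    rw [hmid v _ (by omega) (by omega), hmid v j hj0 hjn]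
    congr 1
    exact Fin.ext (by simp only; omega)
  have hsurj : ∀ P : F[X], P.Monic → P.natDegree = 2 * n → P.reverse = P → ∃ v, mkP v = P := by
    intro P hm hd hs
    have hP : ∀ j, j ≤ 2 * n → P.coeff (2 * n - j) = P.coeff j := fun j hj => by
      conv_rhs => rw [← hs]
      rw [Polynomial.reverse, coeff_reflect, hd, revAt_le hj]
    obtain ⟨v, hv⟩ : ∃ v : Fin n → F, v = fun i : Fin n => P.coeff ((i : ℕ) + 1) := ⟨_, rfl⟩
    refine ⟨v, Polynomial.ext fun j => ?_⟩
    rcases Nat.lt_or_ge (2 * n) j with hj | hj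
    · have h1 : (mkP v).natDegree < j := by have := hdeg v; omega
      exact (coeff_eq_zero_of_natDegree_lt h1).trans (coeff_eq_zero_of_natDegree_lt (p := P) (by omega)).symm
    rcases eq_or_lt_of_le hj with rfl | hjn
    · refine (htop v).trans ?_; rw [← hd]; exact hm.symm
    rcases Nat.eq_zero_or_pos j with rfl | hj0
    · have htop' : P.coeff (2 * n) = 1 := by rw [← hd]; exact hm
      have hPj := hP 0 (by omega)
      rw [Nat.sub_zero, htop'] at hPj
      exact (hzero v).trans hPj
    refine (hmid v j hj0 hjn).trans ?_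
    rw [hv]
    rcases le_or_gt j (2 * n - j) with h | h
    · simp only [min_eq_left h]; rw [Nat.sub_add_cancel hj0]
    · simp only [min_eq_right h.le]
      rw [Nat.sub_add_cancel (by omega), hP j hj]
  rw [← Nat.card_congr (Equiv.ofBijective
    (fun v : Fin n → F => (⟨mkP v, hmon v, hdeg v, hrev v⟩ :
      {P : F[X] // P.Monic ∧ P.natDegree = 2 * n ∧ P.reverse = P})) ⟨?_, ?_⟩),
    Nat.card_fun, Nat.card_eq_fintype_card, Nat.card_eq_fintype_card, Fintype.card_fin]
  · intro v v' h
    funext i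
    have h' : mkP v = mkP v' := congrArg Subtype.val h
    have h1 := congrArg (fun P => Polynomial.coeff P ((i : ℕ) + 1)) h'
    have hi := i.2
    simp only [hmid _ ((i : ℕ) + 1) (by omega) (by omega)] at h1
    convert h1 using 2 <;> exact Fin.ext (by simp only; omega)
  · rintro ⟨P, hm, hd, hs⟩
    obtain ⟨v, hv⟩ := hsurj P hm hd hs
    exact ⟨v, Subtype.ext hv⟩

end Cfsg.Agent.Lie.SympSemisimple
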