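import Cfsg.Agent.Lib.Classical.SympGen
import Cfsg.Agent.Lib.Lie.RegUnipSL3

/-! Subgroups of `Sp_{2n}(F)` containing full transvection groups at a connected spanning set of
centres, and criteria for three transvections with coplanar centres. -/

set_option autoImplicit false
set_option linter.unusedSectionVars false

namespace Cfsg.Agent.Lie.SpGen

open Matrix Cfsg.Agent.Classical

variable {F : Type*} [Field F] {n : ℕ}

local notation "V" => (Fin n ⊕ Fin n → F)
local notation "Sp" => Matrix.symplecticGroup (Fin n) F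
local notation "MI" => Matrix (Fin n ⊕ Fin n) (Fin n ⊕ Fin n) F
local notation "B" => sympForm n F

/-- All transvections with centre `v` lie in `K`. -/
def Full (K : Subgroup Sp) (v : Fin n ⊕ Fin n → F) : Prop := ∀ t : F, sympTv v t ∈ K

variable {K : Subgroup (Matrix.symplecticGroup (Fin n) F)} {v w : Fin n ⊕ Fin n → F}

theorem tv_smul (a c : F) (v : V) : sympTv (a • v) c = sympTv v (a ^ 2 * c) :=
  Subtype.ext (sympTransvection_smul v a c)

theorem tv_apply (v : V) (c : F) (x : V) :
    ((sympTv v c : Sp) : MI) *ᵥ x = x + (c * B x v) • v :=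
  sympTransvection_mulVec v c x

theorem tv_val_zero (c : F) : sympTv (0 : V) c = 1 := by
  rw [← zero_smul F (0 : V), tv_smul]
  norm_num [sympTv_zero]

theorem full_zero : Full K (0 : V) := fun c => by rw [tv_val_zero]; exact one_mem K

theorem Full.smul (h : Full K v) (a : F) : Full K (a • v) := fun c => by
  rw [tv_smul]; exact h _

theorem Full.conj (h : Full K v) {g : Sp} (hg : g ∈ K) : Full K ((g : MI) *ᵥ v) := fun c => by
  rw [← sympTv_conj]; exact mul_mem (mul_mem hg (h c)) (inv_mem hg)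

theorem Full.add_smul (hv : Full K v) (hw : Full K w) (hB : B v w ≠ 0) (a : F) :
    Full K (v + a • w) := by
  have h := hv.conj (hw (a / B v w))
  rwa [tv_apply, div_mul_cancel₀ _ hB] at h

theorem Full.comb (hv : Full K v) (hw : Full K w) (hB : B v w ≠ 0) (a b : F) :
    Full K (a • v + b • w) := by
  rcases eq_or_ne a 0 with rfl | ha
  · rw [zero_smul, zero_add]; exact hw.smul b
  have h := (hv.add_smul hw hB (b / a)).smul a
  rwa [smul_add, smul_smul, mul_div_cancel₀ _ ha] at h

theorem Full.comb_third {e₁ e₂ s : V} (h₁ : Full K e₁) (h₂ : Full K e₂) (hs : Full K s)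
    (b₁ : B e₁ s ≠ 0) (b₂ : B e₂ s ≠ 0) (c₁ c₂ : F) (hy : B (c₁ • e₁ + c₂ • e₂) s ≠ 0) :
    Full K (c₁ • e₁ + c₂ • e₂) := by
  obtain ⟨l, hl⟩ : ∃ l : F, B (c₁ • e₁ + l • s) e₂ ≠ 0 := by
    by_contra hcon
    push Not at hcon
    have h0 := hcon 0
    have h1 := hcon 1
    rw [zero_smul, add_zero] at h0
    rw [one_smul, sympForm_add_left, h0, zero_add, sympForm_swap] at h1
    exact b₂ (neg_eq_zero.1 h1)
  have h3 := (h₁.comb hs b₁ c₁ l).comb h₂ hl 1 c₂
  rw [one_smul] at h3
  have hB3 : B (c₁ • e₁ + l • s + c₂ • e₂) s ≠ 0 := by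
    rw [show c₁ • e₁ + l • s + c₂ • e₂ = c₁ • e₁ + c₂ • e₂ + l • s by abel, sympForm_add_left,
      sympForm_smul_left l, sympForm_self, mul_zero, add_zero]
    exact hy
  have h4 := h3.comb hs hB3 1 (-l)
  rwa [one_smul, show c₁ • e₁ + l • s + c₂ • e₂ + -l • s = c₁ • e₁ + c₂ • e₂ by module] at h4

/-- Enlarge a subspace of full centres by a full centre that is not orthogonal to it. -/
theorem full_extend (h3 : ∀ δ : F, ∃ ε : F, ε ≠ 0 ∧ ε ≠ δ) (U : Submodule F V)
    (hU : ∀ a ∈ U, Full K a) (hw : Full K w) {z : V} (hzU : z ∈ U) (hzw : B z w ≠ 0)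
    (hsp : ∀ y : V, y ≠ 0 → ∃ s, Full K s ∧ B y s ≠ 0) :
    ∀ a ∈ U, ∀ τ : F, Full K (a + τ • w) := by
  -- points with a partner in `U`
  have good : ∀ a ∈ U, ∀ τ : F, (∃ u ∈ U, B (a + τ • w) u ≠ 0) → Full K (a + τ • w) := by
    intro a ha τ hu
    obtain ⟨u, huU, hu⟩ := hu
    obtain ⟨z', hz'U, hz'w, hz'y⟩ : ∃ z' ∈ U, B z' w ≠ 0 ∧ B (a + τ • w) z' ≠ 0 := by
      by_cases h1 : B (a + τ • w) z = 0
      · by_cases h2 : B u w = 0
        · exact ⟨z + u, U.add_mem hzU huU, by rwa [sympForm_add_left, h2, add_zero],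
            by rwa [sympForm_add_right, h1, zero_add]⟩
        · exact ⟨u, huU, h2, hu⟩
      · exact ⟨z, hzU, hzw, h1⟩
    rcases eq_or_ne (B a w) 0 with h0 | h0
    · have h1 : B (a + z') w ≠ 0 := by rwa [sympForm_add_left, h0, zero_add]
      have h2 := (hU _ (U.add_mem ha hz'U)).comb hw h1 1 τ
      rw [one_smul] at h2
      have h3 : B (a + z' + τ • w) z' ≠ 0 := by
        rw [show a + z' + τ • w = (a + τ • w) + z' by abel, sympForm_add_left, sympForm_self,
          add_zero]
        exact hz'y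
      have h4 := h2.comb (hU _ hz'U) h3 1 (-1)
      rwa [one_smul, show a + z' + τ • w + (-1 : F) • z' = a + τ • w by module] at h4
    · have := (hU _ ha).comb hw h0 1 τ
      rwa [one_smul] at this
  intro a ha τ
  rcases eq_or_ne τ 0 with rfl | hτ
  · rw [zero_smul, add_zero]; exact hU a ha
  by_cases hu : ∃ u ∈ U, B (a + τ • w) u ≠ 0
  · exact good a ha τ hu
  push Not at hu
  set y := a + τ • w with hy
  rcases eq_or_ne y 0 with h0 | h0
  · rw [h0]; exact full_zero
  obtain ⟨s, hs, hys⟩ := hsp y h0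
  have hshift : ∀ δ : F, δ ≠ 0 → Full K (y + δ • w) := by
    intro δ hδ
    rw [hy, add_assoc, ← _root_.add_smul]
    refine good a ha _ ⟨z, hzU, ?_⟩
    rw [_root_.add_smul, ← add_assoc, ← hy, sympForm_add_left, hu z hzU, zero_add,
      sympForm_smul_left, sympForm_swap]
    exact mul_ne_zero hδ (neg_ne_zero.2 hzw)
  rcases eq_or_ne (B w s) 0 with hws | hws
  · obtain ⟨δ₂, hδ₂, hne⟩ := h3 1
    have e : y = (δ₂ / (δ₂ - 1)) • (y + (1 : F) • w) + (-1 / (δ₂ - 1)) • (y + δ₂ • w) := by
      have : δ₂ - 1 ≠ 0 := sub_ne_zero.2 hne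
      match_scalars <;> field_simp <;> ring
    rw [e] at hys ⊢
    refine (hshift 1 one_ne_zero).comb_third (hshift δ₂ hδ₂) hs ?_ ?_ _ _ hys
    · rw [sympForm_add_left, sympForm_smul_left, hws, mul_zero, add_zero]
      rwa [← e] at hys
    · rw [sympForm_add_left, sympForm_smul_left, hws, mul_zero, add_zero]
      rwa [← e] at hys
  · obtain ⟨δ, hδ, hne⟩ := h3 (-(B y s) / B w s)
    have e : y = (1 : F) • (y + δ • w) + (-δ) • w := by module
    rw [e]
    refine (hshift δ hδ).comb_third hw hs ?_ hws _ _ (by rwa [← e])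
    rw [sympForm_add_left, sympForm_smul_left]
    intro h
    apply hne
    field_simp
    linear_combination h

variable [Fintype F]

/-- Full transvection groups along a connected spanning sequence generate `Sp`. -/
theorem eq_top_of_full (h3 : 3 ≤ Fintype.card F) (x : ℕ → V) (hx : ∀ i, Full K (x i))
    (hb : ∀ i, B (x (i + 1)) (x i) ≠ 0) (hspan : Submodule.span F (Set.range x) = ⊤) : K = ⊤ := by
  classical
  have h3' : ∀ δ : F, ∃ ε : F, ε ≠ 0 ∧ ε ≠ δ := by
    intro δ
    by_contra hcon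
    push Not at hcon
    have : (Finset.univ : Finset F) ⊆ {0, δ} := fun ε _ => by
      rcases eq_or_ne ε 0 with h | h
      · simp [h]
      · simp [hcon ε h]
    have := (Finset.card_le_card this).trans Finset.card_le_two
    rw [Finset.card_univ] at this
    omega
  have hsp : ∀ y : V, y ≠ 0 → ∃ s, Full K s ∧ B y s ≠ 0 := by
    intro y hy
    by_contra hcon
    push Not at hcon
    refine hy (eq_zero_of_sympForm_eq_zero fun v => ?_)
    have hv : v ∈ Submodule.span F (Set.range x) := hspan ▸ Submodule.mem_top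
    induction hv using Submodule.span_induction with
    | mem v hv => obtain ⟨i, rfl⟩ := hv; exact hcon _ (hx i)
    | zero => simp
    | add a b _ _ iha ihb => rw [sympForm_add_right, iha, ihb, add_zero]
    | smul c a _ ih => rw [sympForm_smul_right, ih, mul_zero]
  let T : Set (Submodule F V) := {U | x 0 ∈ U ∧ ∀ a ∈ U, Full K a}
  have hTne : T.Nonempty := ⟨Submodule.span F {x 0}, Submodule.mem_span_singleton_self _,
    fun a ha => by obtain ⟨c, rfl⟩ := Submodule.mem_span_singleton.1 ha; exact (hx 0).smul c⟩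
  obtain ⟨U, hUT⟩ := (Set.toFinite T).exists_maximal hTne
  obtain ⟨⟨h0U, hU⟩, hmax⟩ := hUT
  have hall : ∀ i, x i ∈ U := by
    intro i
    induction i with
    | zero => exact h0U
    | succ i ih =>
      by_contra hi
      have hne : B (x i) (x (i + 1)) ≠ 0 := by
        rw [sympForm_swap]; exact neg_ne_zero.2 (hb i)
      have hext := full_extend h3' U hU (hx (i + 1)) ih hne hsp
      have hmem : U ⊔ Submodule.span F {x (i + 1)} ∈ T := by
        refine ⟨Submodule.mem_sup_left h0U, fun a ha => ?_⟩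
        obtain ⟨a', ha', c', hc', rfl⟩ := Submodule.mem_sup.1 ha
        obtain ⟨c, rfl⟩ := Submodule.mem_span_singleton.1 hc'
        exact hext a' ha' c
      exact hi (hmax hmem le_sup_left (Submodule.mem_sup_right (Submodule.mem_span_singleton_self _)))
  have htop : U = ⊤ := top_unique (hspan ▸ Submodule.span_le.2 (by rintro _ ⟨i, rfl⟩; exact hall i))
  rw [eq_top_iff, ← closure_sympTvSet, Subgroup.closure_le]
  rintro A ⟨v, c, hA⟩
  rw [show A = sympTv v c from Subtype.ext hA]
  exact hU v (htop ▸ Submodule.mem_top) c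

/-- A scalar eigenvalue on the centre of a transvection gives the full group. -/
theorem full_of_mult {d : V} {t₀ lam : F} (ht₀ : t₀ ≠ 0) (hd : sympTv d t₀ ∈ K) {g : Sp}
    (hg : g ∈ K) (hgd : (g : MI) *ᵥ d = lam • d) (hgen : ∀ M : Subfield F, lam ^ 2 ∈ M → M = ⊤) :
    Full K d := by
  let A : AddSubgroup F :=
    { carrier := {a | sympTv d a ∈ K}
      add_mem' := fun {a b} ha hb => by show sympTv d (a + b) ∈ K; rw [← sympTv_mul]; exact mul_mem ha hb
      zero_mem' := by show sympTv d 0 ∈ K; rw [sympTv_zero]; exact one_mem K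
      neg_mem' := fun {a} ha => by show sympTv d (-a) ∈ K; rw [← sympTv_inv]; exact inv_mem ha }
  refine RegUnip.forall_mem_of_stable A ht₀ hd (fun a ha => ?_) hgen
  show sympTv d (lam ^ 2 * a) ∈ K
  rw [← tv_smul, ← hgd, ← sympTv_conj]
  exact mul_mem (mul_mem hg ha) (inv_mem hg)

/-- Two independent scalars suffice over a field with `p²` elements. -/
theorem full_of_two {p : ℕ} [Fact p.Prime] [CharP F p] (hF : Fintype.card F = p ^ 2) {e : V}
    {t r : F} (ht : t ≠ 0) (hr : ∀ k : ℕ, (k : F) ≠ r) (h1 : sympTv e t ∈ K)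
    (h2 : sympTv e (r * t) ∈ K) : Full K e := by
  classical
  have hmem : ∀ (a b : ℕ), sympTv e ((a : F) * t + (b : F) * (r * t)) ∈ K := by
    intro a b
    have : ∀ (t' : F) (k : ℕ), sympTv e t' ∈ K → sympTv e ((k : F) * t') ∈ K := by
      intro t' k h
      induction k with
      | zero => simp [sympTv_zero]
      | succ k ih => rw [Nat.cast_succ, add_mul, one_mul, ← sympTv_mul]; exact mul_mem ih h
    rw [← sympTv_mul]
    exact mul_mem (this t a h1) (this _ b h2)
  let φ : Fin p × Fin p → F := fun q => ((q.1 : ℕ) : F) * t + ((q.2 : ℕ) : F) * (r * t)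
  have hinj : Function.Injective φ := by
    rintro ⟨a, b⟩ ⟨a', b'⟩ hab
    have h : (((a : ℕ) : F) - (a' : ℕ)) + (((b : ℕ) : F) - (b' : ℕ)) * r = 0 := by
      refine mul_right_cancel₀ ht ?_
      simp only [φ] at hab
      linear_combination hab
    have hcast : ∀ x y : Fin p, ((x : ℕ) : F) = ((y : ℕ) : F) → x = y := fun x y hxy => by
      refine Fin.ext ?_
      have := (CharP.natCast_eq_natCast F p).1 hxy
      rwa [Nat.ModEq, Nat.mod_eq_of_lt x.2, Nat.mod_eq_of_lt y.2] at this
    by_cases hbb : b = b'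
    · subst hbb
      rw [sub_self, zero_mul, add_zero, sub_eq_zero] at h
      rw [hcast _ _ h]
    · exfalso
      set z : ZMod p := -(((a : ℕ) : ZMod p) - (a' : ℕ)) / (((b : ℕ) : ZMod p) - (b' : ℕ))
      have hne : (((b : ℕ) : F) - (b' : ℕ)) ≠ 0 := fun e => hbb (hcast _ _ (sub_eq_zero.1 e))
      apply hr z.val
      have : ((z.val : ℕ) : F) = ZMod.castHom (dvd_refl p) F z := by
        rw [ZMod.castHom_apply, ZMod.natCast_val]
      rw [this]
      simp only [z, map_div₀, map_neg, map_sub, map_natCast]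
      rw [div_eq_iff hne]
      linear_combination -h
  have hsurj : Function.Surjective φ :=
    ((Fintype.bijective_iff_injective_and_card φ).2 ⟨hinj, by simp [hF, sq]⟩).2
  intro c
  obtain ⟨q, rfl⟩ := hsurj c
  exact hmem _ _

section plane

variable {x : Fin n ⊕ Fin n → F} {s β : F}

private theorem plane_left {c : F} (hc : c = B v x) :
    ((sympTv x s : Sp) : MI) *ᵥ v = v + (s * c) • x := by rw [tv_apply, hc]

private theorem plane_right {c : F} (hc : c = B v x) :
    ((sympTv v (-s) : Sp) : MI) *ᵥ x = x + (s * c) • v := by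
  rw [tv_apply, sympForm_swap, hc]; ring_nf

/-- Generic case: the third centre is an eigenvector of the product of the other two. -/
theorem full_eigen (h1 : sympTv x s ∈ K) (h2 : sympTv v s ∈ K) {ρ : F} (hρ : ρ ≠ 0)
    (hσ : s * B v x = ρ - ρ⁻¹) (hσ0 : ρ - ρ⁻¹ ≠ 0) (hβ : β ≠ 0)
    (h3 : sympTv (β • (v + ρ • x)) s ∈ K) (hgen : ∀ M : Subfield F, ρ ^ 4 ∈ M → M = ⊤) :
    Full K x := by
  set σ := ρ - ρ⁻¹ with hσd
  have hs : s ≠ 0 := fun e => hσ0 (by rw [← hσ, e, zero_mul])
  set d := v + ρ • x with hd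
  rw [tv_smul] at h3
  have hA : ((sympTv x s * sympTv v (-s) : Sp) : MI) *ᵥ d = (ρ ^ 2) • d := by
    have e1 : ((sympTv x s : Sp) : MI) *ᵥ x = x := by simp [tv_apply, sympForm_self]
    have e2 : ((sympTv v (-s) : Sp) : MI) *ᵥ v = v := by simp [tv_apply, sympForm_self]
    have e3 : ((sympTv x s : Sp) : MI) *ᵥ v = v + σ • x := by rw [plane_left rfl, hσ]
    have e4 : ((sympTv v (-s) : Sp) : MI) *ᵥ x = x + σ • v := by rw [plane_right rfl, hσ]
    simp only [Submonoid.coe_mul, ← Matrix.mulVec_mulVec, hd, Matrix.mulVec_add, Matrix.mulVec_smul,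
      e1, e2, e3, e4]
    match_scalars <;> simp only [hσd] <;> field_simp <;> ring
  have hfd : Full K d := full_of_mult (mul_ne_zero (pow_ne_zero 2 hβ) hs) h3
    (mul_mem h1 (by rw [← sympTv_inv]; exact inv_mem h2)) hA
    (fun M hM => hgen M (by rwa [← pow_mul] at hM))
  have hd' : Full K (d + σ • x) := by
    have := hfd.conj h1
    rwa [hd, Matrix.mulVec_add, Matrix.mulVec_smul, plane_left rfl, hσ, tv_apply x s x,
      sympForm_self, mul_zero, zero_smul, add_zero, add_right_comm] at this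
  have hB : B (d + σ • x) d ≠ 0 := by
    rw [sympForm_add_left, sympForm_self, zero_add, sympForm_smul_left, hd, sympForm_add_right,
      sympForm_smul_right, sympForm_self, mul_zero, add_zero, sympForm_swap x v]
    refine mul_ne_zero hσ0 (neg_ne_zero.2 fun e => hσ0 ?_)
    rw [← hσ, e, mul_zero]
  have := hd'.comb hfd hB σ⁻¹ (-σ⁻¹)
  rwa [show σ⁻¹ • (d + σ • x) + -σ⁻¹ • d = (σ⁻¹ * σ) • x by module, inv_mul_cancel₀ hσ0,
    one_smul] at this

/-- Fields with `p²` elements, first case: two scalars at `v`. -/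
theorem full_two_zero {p : ℕ} [Fact p.Prime] [CharP F p] (hF : Fintype.card F = p ^ 2)
    (h1 : sympTv x s ∈ K) (h2 : sympTv v s ∈ K) (h3 : sympTv (β • v) s ∈ K)
    (hσ0 : s * B v x ≠ 0) (hr : ∀ k : ℕ, (k : F) ≠ β ^ 2) : Full K x := by
  rw [tv_smul] at h3
  have hv : Full K v := full_of_two hF (left_ne_zero_of_mul hσ0) hr h2 h3
  have hv' := hv.conj h1
  rw [plane_left rfl] at hv'
  have hB : B (v + (s * B v x) • x) v ≠ 0 := by
    rw [sympForm_add_left, sympForm_self, zero_add, sympForm_smul_left, sympForm_swap x v]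
    exact mul_ne_zero hσ0 (neg_ne_zero.2 (right_ne_zero_of_mul hσ0))
  have := hv'.comb hv hB (s * B v x)⁻¹ (-(s * B v x)⁻¹)
  rwa [show (s * B v x)⁻¹ • (v + (s * B v x) • x) + -(s * B v x)⁻¹ • v =
    ((s * B v x)⁻¹ * (s * B v x)) • x by module, inv_mul_cancel₀ hσ0, one_smul] at this

/-- Fields with `p²` elements, second case: two scalars at a moved centre. -/
theorem full_two_moved {p : ℕ} [Fact p.Prime] [CharP F p] (hF : Fintype.card F = p ^ 2)
    (h1 : sympTv x s ∈ K) (h2 : sympTv v s ∈ K) {σ k η : F} (hσ : s * B v x = σ) (hσ0 : σ ≠ 0)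
    (hk : k = 1 + σ ^ 2) (hk0 : k ≠ 0) (hη : η * k = σ)
    (h3 : sympTv (β • (v + η • x)) s ∈ K) {l : ℕ} (hβ : β ^ 2 = l) (hl : (l : F) ≠ 0)
    (hr : ∀ j : ℕ, (j : F) ≠ k ^ 2) : Full K x := by
  set e := v + η • x with he
  have hs : s ≠ 0 := fun a => hσ0 (by rw [← hσ, a, zero_mul])
  have hk' : sympTv e (k ^ 2 * s) ∈ K := by
    have hm : sympTv v (-s) * sympTv x s ∈ K := mul_mem (by rw [← sympTv_inv]; exact inv_mem h2) h1
    have hv_e : v + σ • (x + σ • v) = k • e := by
      rw [he]; match_scalars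
      · linear_combination -hk
      · linear_combination -hη
    have h := mul_mem (mul_mem hm h2) (inv_mem hm)
    have hgv : ((sympTv v (-s) * sympTv x s : Sp) : MI) *ᵥ v = k • e := by
      have e2 : ((sympTv v (-s) : Sp) : MI) *ᵥ v = v := by simp [tv_apply, sympForm_self]
      have e3 : ((sympTv x s : Sp) : MI) *ᵥ v = v + σ • x := by rw [plane_left rfl, hσ]
      have e4 : ((sympTv v (-s) : Sp) : MI) *ᵥ x = x + σ • v := by rw [plane_right rfl, hσ]
      simp only [Submonoid.coe_mul, ← Matrix.mulVec_mulVec, Matrix.mulVec_add, Matrix.mulVec_smul,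
        e2, e3, e4, hv_e]
    rw [sympTv_conj, hgv] at h
    rwa [tv_smul] at h
  rw [tv_smul, hβ] at h3
  have hfe : Full K e := by
    have hpp : (0 : ℕ) < p := (Fact.out : p.Prime).pos
    refine full_of_two hF (t := (l : F) * s) (r := k ^ 2 / l) (mul_ne_zero hl hs) ?_ h3 ?_
    · intro j hj
      apply hr (j * l)
      rw [Nat.cast_mul, hj, div_mul_cancel₀ _ hl]
    · rwa [show k ^ 2 / (l : F) * ((l : F) * s) = k ^ 2 * s by field_simp]
  have he' := hfe.conj h1
  rw [he, Matrix.mulVec_add, Matrix.mulVec_smul, plane_left rfl, hσ, tv_apply x s x, sympForm_self,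
    mul_zero, zero_smul, add_zero, add_right_comm, ← he] at he'
  have hB : B (e + σ • x) e ≠ 0 := by
    rw [sympForm_add_left, sympForm_self, zero_add, sympForm_smul_left, he, sympForm_add_right,
      sympForm_smul_right, sympForm_self, mul_zero, add_zero, sympForm_swap x v]
    refine mul_ne_zero hσ0 (neg_ne_zero.2 fun a => hσ0 ?_)
    rw [← hσ, a, mul_zero]
  have := he'.comb hfe hB σ⁻¹ (-σ⁻¹)
  rwa [show σ⁻¹ • (e + σ • x) + -σ⁻¹ • e = (σ⁻¹ * σ) • x by module, inv_mul_cancel₀ hσ0,
    one_smul] at this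

end plane

end Cfsg.Agent.Lie.SpGen
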