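import Cfsg.Agent.Lib.Transfer.PronormalSylow

/-!
Overgroups of a Sylow subgroup with a Bruhat decomposition are normalised by the torus, hence pronormal.
-/

set_option autoImplicit false

namespace Cfsg.Agent.Lie.TwoBruhat

open Cfsg.Agent.Transfer.PronormalSyl

universe u

variable {G : Type u} [Group G] [Finite G] {p : ℕ} [Fact p.Prime] (P : Sylow p G) (T : Subgroup G)

/-- The hypotheses of a Bruhat decomposition around `P` with torus `T`. -/
structure BruhatData : Prop where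
  comm : ∀ a ∈ T, ∀ b ∈ T, a * b = b * a
  normalises : ∀ t ∈ T, ∀ x ∈ P, t * x * t⁻¹ ∈ P
  normalizer : ∀ g ∈ Subgroup.normalizer ((P : Subgroup G) : Set G), ∃ t ∈ T, ∃ x ∈ P, g = t * x
  bruhat : ∀ g : G, ∃ u ∈ P, ∃ m : G, ∃ v ∈ P, g = u * m * v ∧ ∀ t ∈ T, m⁻¹ * t * m ∈ T

variable {P T}

theorem torus_normalises (D : BruhatData P T) {H : Subgroup G} (hPH : (P : Subgroup G) ≤ H) {t : G}
    (ht : t ∈ T) {x : G} (hx : x ∈ H) : t * x * t⁻¹ ∈ H := by
  set S : Set G := {y | ∃ k ∈ H, ∃ z ∈ P, k * z * k⁻¹ = y}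
  set H' := Subgroup.closure S
  have hH'H : H' ≤ H := (Subgroup.closure_le H).2 (by
    rintro _ ⟨k, hk, z, hz, rfl⟩
    exact mul_mem (mul_mem hk (hPH hz)) (inv_mem hk))
  have hPH' : (P : Subgroup G) ≤ H' := fun z hz => Subgroup.subset_closure ⟨1, one_mem _, z, hz, by group⟩
  have hconjH : ∀ k ∈ H, ∀ y ∈ H', k * y * k⁻¹ ∈ H' := by
    intro k hk y hy
    induction hy using Subgroup.closure_induction with
    | mem y hy =>
      obtain ⟨k', hk', z, hz, rfl⟩ := hy
      exact Subgroup.subset_closure ⟨k * k', mul_mem hk hk', z, hz, by group⟩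
    | one => simp
    | mul a b _ _ iha ihb =>
      rw [show k * (a * b) * k⁻¹ = (k * a * k⁻¹) * (k * b * k⁻¹) by group]
      exact mul_mem iha ihb
    | inv a _ iha =>
      rw [show k * a⁻¹ * k⁻¹ = (k * a * k⁻¹)⁻¹ by group]
      exact inv_mem iha
  have hconjT : ∀ s ∈ T, ∀ y ∈ H', s * y * s⁻¹ ∈ H' := by
    intro s hs y hy
    induction hy using Subgroup.closure_induction with
    | mem y hy =>
      obtain ⟨k, hk, z, hz, rfl⟩ := hy
      obtain ⟨u, hu, m, v, hv, rfl, hmT⟩ := D.bruhat k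
      have hm : m ∈ H := by
        rw [show m = u⁻¹ * (u * m * v) * v⁻¹ by group]
        exact mul_mem (mul_mem (inv_mem (hPH hu)) hk) (inv_mem (hPH hv))
      refine Subgroup.subset_closure ⟨(s * u * s⁻¹) * m, mul_mem (hPH (D.normalises s hs u hu)) hm,
        (m⁻¹ * s * m) * (v * z * v⁻¹) * (m⁻¹ * s * m)⁻¹,
        D.normalises _ (hmT s hs) _ (mul_mem (mul_mem hv hz) (inv_mem hv)), ?_⟩
      group
    | one => simp
    | mul a b _ _ iha ihb =>
      rw [show s * (a * b) * s⁻¹ = (s * a * s⁻¹) * (s * b * s⁻¹) by group]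
      exact mul_mem iha ihb
    | inv a _ iha =>
      rw [show s * a⁻¹ * s⁻¹ = (s * a * s⁻¹)⁻¹ by group]
      exact inv_mem iha
  have h1 : ((x • P : Sylow p G) : Subgroup G) ≤ H' := by
    rintro _ ⟨y, hy, rfl⟩
    exact hconjH x hx y (hPH' hy)
  obtain ⟨k, hk⟩ := MulAction.exists_smul_eq H' ((x • P : Sylow p G).subtype h1) (P.subtype hPH')
  have hkx : ((k : G) * x) • P = P := by
    rw [mul_smul]
    exact Sylow.subtype_injective ((Sylow.smul_subtype h1 k).symm.trans hk)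
  obtain ⟨t₁, ht₁, z, hz, e⟩ := D.normalizer _ (Sylow.smul_eq_iff_mem_normalizer.1 hkx)
  have ht₁H : t₁ ∈ H := by
    rw [show t₁ = ((k : G) * x) * z⁻¹ by rw [e]; group]
    exact mul_mem (mul_mem (hH'H k.2) hx) (inv_mem (hPH hz))
  rw [show x = (k : G)⁻¹ * t₁ * z by rw [mul_assoc, ← e]; group,
    show t * ((k : G)⁻¹ * t₁ * z) * t⁻¹ = (t * (k : G)⁻¹ * t⁻¹) * (t * t₁ * t⁻¹) * (t * z * t⁻¹) by group,
    show t * t₁ * t⁻¹ = t₁ by rw [D.comm t ht t₁ ht₁, mul_inv_cancel_right]]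
  exact mul_mem (mul_mem (hH'H (hconjT t ht _ (inv_mem k.2))) ht₁H) (hPH (D.normalises t ht z hz))

/-- A subgroup normalised by the normalizer of a Sylow subgroup it contains is pronormal. -/
theorem pronormal_of_normalizer_normalises (P : Sylow p G) {K : Subgroup G} (hPK : (P : Subgroup G) ≤ K)
    (hN : ∀ g ∈ Subgroup.normalizer ((P : Subgroup G) : Set G), g ∈ Subgroup.normalizer (K : Set G)) :
    Cfsg.IsPronormal K := by
  intro g
  show Good K g
  set L := K ⊔ cj g K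
  have h1 : (P : Subgroup G) ≤ L := hPK.trans le_sup_left
  have h2 : ((g • P : Sylow p G) : Subgroup G) ≤ L := (Subgroup.map_mono hPK).trans le_sup_right
  obtain ⟨k, hk⟩ := MulAction.exists_smul_eq L ((g • P : Sylow p G).subtype h2) (P.subtype h1)
  have hkg : ((k : G) * g) • P = P := by
    rw [mul_smul]
    exact Sylow.subtype_injective ((Sylow.smul_subtype h2 k).symm.trans hk)
  refine ⟨(k : G)⁻¹, inv_mem k.2, ?_⟩
  conv_rhs => rw [← cj_eq_self.2 (hN _ (Sylow.smul_eq_iff_mem_normalizer.1 hkg)), ← cj_mul, inv_mul_cancel_left]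

theorem pronormal_of_le (D : BruhatData P T) {H : Subgroup G} (hPH : (P : Subgroup G) ≤ H) :
    Cfsg.IsPronormal H := by
  refine pronormal_of_normalizer_normalises P hPH fun g hg => ?_
  obtain ⟨t, ht, z, hz, rfl⟩ := D.normalizer g hg
  refine mul_mem ?_ (Subgroup.le_normalizer (hPH hz))
  exact Subgroup.mem_normalizer_iff.2 fun x => ⟨fun hx => torus_normalises D hPH ht hx, fun hx => by
    have := torus_normalises D hPH (inv_mem ht) hx
    rwa [show t⁻¹ * (t * x * t⁻¹) * t⁻¹⁻¹ = x by group] at this⟩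

end Cfsg.Agent.Lie.TwoBruhat
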