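import Cfsg.Agent.Lib.Fus.PSLUnipotent
import Cfsg.Agent.Lib.Classical.ParabolicCosets
import Cfsg.Agent.Lib.Transfer.PronormalSylow

/-!
The subgroups of `SL_n(K)` containing the upper unitriangular group are normalised by the diagonal group.
-/

set_option autoImplicit false
set_option linter.unusedSectionVars false
set_option maxHeartbeats 1000000

namespace Cfsg.Agent.Lie.TwoEven

open Matrix Cfsg.Agent.Fus.PSLN
open scoped Classical

universe u
variable {K : Type u} [Field K] [Fintype K] {n : ℕ}

local notation "SLn" => Matrix.SpecialLinearGroup (Fin n) K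

/-- The whole root group `(a, b)` lies in `H`. -/
def Rel (H : Subgroup (Matrix.SpecialLinearGroup (Fin n) K)) (a b : Fin n) : Prop :=
  ∀ (h : a ≠ b) (c : K), Matrix.SpecialLinearGroup.transvection h c ∈ H

theorem commutator_root {a b c : Fin n} (hab : a ≠ b) (hbc : b ≠ c) (hac : a ≠ c) (x : K) :
    Matrix.SpecialLinearGroup.transvection hab x * Matrix.SpecialLinearGroup.transvection hbc 1 *
      Matrix.SpecialLinearGroup.transvection hab (-x) * Matrix.SpecialLinearGroup.transvection hbc (-1) =
    Matrix.SpecialLinearGroup.transvection hac x := Subtype.ext (by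
  simp [Matrix.SpecialLinearGroup.transvection_coe, mul_add, add_mul, hab, hbc, hac, hab.symm, hbc.symm,
    hac.symm, ← Matrix.single_neg, Matrix.single_mul_single_of_ne]
  abel)

variable {H : Subgroup (Matrix.SpecialLinearGroup (Fin n) K)}

theorem Rel.trans {a b c : Fin n} (h1 : Rel H a b) (h2 : Rel H b c) : Rel H a c := by
  intro hac x
  by_cases hab : a = b
  · subst hab; exact h2 hac x
  by_cases hbc : b = c
  · subst hbc; exact h1 hac x
  rw [← commutator_root hab hbc hac x]
  exact mul_mem (mul_mem (mul_mem (h1 hab _) (h2 hbc _)) (h1 hab _)) (h2 hbc _)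

theorem diag2n_eq {a b : Fin n} (hab : a ≠ b) (x : K) (hx : x ≠ 0) :
    Matrix.SpecialLinearGroup.diag2n hab x hx = Matrix.SpecialLinearGroup.transvection hab x *
      Matrix.SpecialLinearGroup.transvection hab.symm (- x⁻¹) *
      Matrix.SpecialLinearGroup.transvection hab x *
      Matrix.SpecialLinearGroup.transvection hab (-1) *
      Matrix.SpecialLinearGroup.transvection hab.symm 1 *
      Matrix.SpecialLinearGroup.transvection hab (-1) := Subtype.ext (by
  simp [Matrix.SpecialLinearGroup.transvection_coe, Matrix.SpecialLinearGroup.diag2n_coe, mul_add, add_mul,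
    hab, hab.symm, ← Matrix.single_neg, Matrix.single_mul_single_of_ne, mul_inv_cancel₀ hx, inv_mul_cancel₀ hx]
  ext i j
  by_cases hij : i = j
  · subst hij
    by_cases hia : i = a
    · subst hia; simp [hab, hab.symm]
    · by_cases hib : i = b
      · subst hib; simp [hab, hab.symm, Ne.symm hia]
      · simp [hia, hib, Ne.symm hia, Ne.symm hib]
  · by_cases hia : i = a <;> by_cases hib : i = b <;> by_cases hja : j = a <;> by_cases hjb : j = b <;>
      simp_all [Matrix.one_apply, Matrix.diagonal_apply, eq_comm])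

theorem diag2n_mem {a b : Fin n} (h1 : Rel H a b) (h2 : Rel H b a) (hab : a ≠ b) (x : K) (hx : x ≠ 0) :
    Matrix.SpecialLinearGroup.diag2n hab x hx ∈ H := by
  rw [diag2n_eq]
  exact mul_mem (mul_mem (mul_mem (mul_mem (mul_mem (h1 _ _) (h2 _ _)) (h1 _ _)) (h1 _ _)) (h2 _ _)) (h1 _ _)

theorem rel_of_lt (hU : unip K n ≤ H) {a b : Fin n} (h : a < b) : Rel H a b := fun _ c =>
  hU (transvection_mem_unip h c)

/-- A monomial element of `H` normalised by its own differences. -/
theorem rel_of_mono (hU : unip K n ≤ H) {M : SLn} (hM : M ∈ H) (σ : Equiv.Perm (Fin n)) (m : Fin n → K)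
    (hm : ∀ i, m i ≠ 0) (hent : ∀ i j, ent M i j = if i = σ j then m j else 0) {a b : Fin n} (hab : a < b) :
    Rel H (σ a) (σ b) := by
  intro hne c
  have key : M * Matrix.SpecialLinearGroup.transvection hab.ne (c * m b / m a) =
      Matrix.SpecialLinearGroup.transvection hne c * M := by
    ext i j
    show ent (M * _) i j = ent (_ * M) i j
    simp only [ent_mul, hent, ent_transvection, ite_mul, mul_add, add_mul, zero_mul, mul_zero, mul_ite, ite_and,
      Finset.sum_add_distrib, one_mul, mul_one]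
    by_cases hi : i = σ a <;> by_cases hj : j = b <;>
      simp [hi, hj, hm, hne, div_mul_cancel₀, mul_div_cancel₀, Finset.sum_ite_eq, Finset.sum_ite_eq',
        σ.injective.eq_iff, hab.ne, hab.ne']
  have : Matrix.SpecialLinearGroup.transvection hne c =
      M * Matrix.SpecialLinearGroup.transvection hab.ne (c * m b / m a) * M⁻¹ := by
    rw [key, mul_inv_cancel_right]
  rw [this]
  exact mul_mem (mul_mem hM (hU (transvection_mem_unip hab _))) (inv_mem hM)

theorem rel_perm (hU : unip K n ≤ H) {M : SLn} (hM : M ∈ H) (σ : Equiv.Perm (Fin n)) (m : Fin n → K)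
    (hm : ∀ i, m i ≠ 0) (hent : ∀ i j, ent M i j = if i = σ j then m j else 0) (a : Fin n) :
    Rel H a (σ a) ∧ Rel H (σ a) a := by
  rcases lt_trichotomy a (σ a) with h | h | h
  · refine ⟨rel_of_lt hU h, ?_⟩
    obtain ⟨b, hb, hσb⟩ : ∃ b, a < b ∧ σ b ≤ a := by
      by_contra hc
      push Not at hc
      have hsub : (Finset.Ici a).image σ ⊆ Finset.Ioi a := by
        intro x hx
        obtain ⟨y, hy, rfl⟩ := Finset.mem_image.1 hx
        rw [Finset.mem_Ici] at hy
        rw [Finset.mem_Ioi]
        rcases eq_or_lt_of_le hy with rfl | hy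
        · exact h
        · exact hc y hy
      have := Finset.card_le_card hsub
      rw [Finset.card_image_of_injective _ σ.injective, Fin.card_Ici, Fin.card_Ioi] at this
      have := a.2
      omega
    rcases eq_or_lt_of_le hσb with e | e
    · have := rel_of_mono hU hM σ m hm hent hb; rwa [e] at this
    · exact (rel_of_mono hU hM σ m hm hent hb).trans (rel_of_lt hU e)
  · rw [← h]; exact ⟨fun hne => absurd rfl hne, fun hne => absurd rfl hne⟩
  · refine ⟨?_, rel_of_lt hU h⟩
    obtain ⟨b, hb, hσb⟩ : ∃ b, b < a ∧ a ≤ σ b := by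
      by_contra hc
      push Not at hc
      have hsub : (Finset.Iic a).image σ ⊆ Finset.Iio a := by
        intro x hx
        obtain ⟨y, hy, rfl⟩ := Finset.mem_image.1 hx
        rw [Finset.mem_Iic] at hy
        rw [Finset.mem_Iio]
        rcases eq_or_lt_of_le hy with rfl | hy
        · exact h
        · exact hc y hy
      have := Finset.card_le_card hsub
      rw [Finset.card_image_of_injective _ σ.injective, Fin.card_Iic, Fin.card_Iio] at this
      omega
    rcases eq_or_lt_of_le hσb with e | e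
    · have := rel_of_mono hU hM σ m hm hent hb; rwa [← e] at this
    · exact (rel_of_lt hU e).trans (rel_of_mono hU hM σ m hm hent hb)

/-- The tuples whose diagonal matrices lie in `H`. -/
def diagSub (H : Subgroup SLn) : Subgroup (Fin n → Kˣ) where
  carrier := {c | ∃ h : ∏ i, (c i : K) = 1, diagSL (fun i => (c i : K)) h ∈ H}
  one_mem' := ⟨by simp, by
    convert one_mem H using 1
    exact Subtype.ext (by simp)⟩
  mul_mem' := by
    rintro c d ⟨hc, hc'⟩ ⟨hd, hd'⟩
    refine ⟨by simp [Finset.prod_mul_distrib, hc, hd], ?_⟩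
    convert mul_mem hc' hd' using 1
    exact Subtype.ext (by simp [Matrix.diagonal_mul_diagonal])
  inv_mem' := by
    rintro c ⟨hc, hc'⟩
    refine ⟨by simp [Units.val_inv_eq_inv_val, Finset.prod_inv_distrib, hc], ?_⟩
    convert inv_mem hc' using 1
    refine (inv_eq_of_mul_eq_one_right (a := diagSL (fun i => (c i : K)) hc) (Subtype.ext ?_)).symm
    simp [Matrix.diagonal_mul_diagonal]

/-- The diagonal group normalises every overgroup of the upper unitriangular group. -/
theorem diag_normalizes (hU : unip K n ≤ H) (t : Fin n → K) (ht : ∏ i, t i = 1) {h : SLn} (hh : h ∈ H) :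
    diagSL t ht * h * (diagSL t ht)⁻¹ ∈ H := by
  have ht0 : ∀ i, t i ≠ 0 := fun i e => by
    exact zero_ne_one ((Finset.prod_eq_zero (Finset.mem_univ i) e).symm.trans ht)
  set d := diagSL t ht
  have hdu : ∀ u ∈ unip K n, d * u * d⁻¹ ∈ unip K n := by
    intro u hu
    obtain ⟨hu1, hu2⟩ := hu
    have hinv : d⁻¹ = diagSL (fun i => (t i)⁻¹) (by rw [Finset.prod_inv_distrib, ht, inv_one]) := by
      refine inv_eq_of_mul_eq_one_right (Subtype.ext ?_)
      simp [d, Matrix.diagonal_mul_diagonal, ht0]
    have he : ∀ i j, ent (d * u * d⁻¹) i j = t i * ent u i j * (t j)⁻¹ := fun i j => by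
      simp [hinv, d, ent, Matrix.mul_diagonal, Matrix.diagonal_mul]
    exact ⟨fun i j hij => by rw [he, hu1 i j hij]; simp, fun i => by rw [he, hu2 i]; simp [ht0]⟩
  -- Bruhat decomposition
  obtain ⟨b, hb, σ, b', hb', e⟩ := Classical.ParCoset.bruhat (Matrix.SpecialLinearGroup.toGL h)
  have hb1 : ∀ i j : Fin n, j < i → b.1 i j = 0 := fun i j hij => hb hij
  have hb1' : ∀ i j : Fin n, j < i → b'.1 i j = 0 := fun i j hij => hb' hij
  have hbd : ∀ i, b.1 i i ≠ 0 := fun i e0 => by
    have := (Matrix.GeneralLinearGroup.det b).ne_zero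
    rw [Matrix.GeneralLinearGroup.val_det_apply, Matrix.det_of_upperTriangular (fun i j hij => hb hij)] at this
    exact this (Finset.prod_eq_zero (Finset.mem_univ i) e0)
  have hbd' : ∀ i, b'.1 i i ≠ 0 := fun i e0 => by
    have := (Matrix.GeneralLinearGroup.det b').ne_zero
    rw [Matrix.GeneralLinearGroup.val_det_apply, Matrix.det_of_upperTriangular (fun i j hij => hb' hij)] at this
    exact this (Finset.prod_eq_zero (Finset.mem_univ i) e0)
  set U₁ : Matrix (Fin n) (Fin n) K := b.1 * Matrix.diagonal (fun i => (b.1 i i)⁻¹) with hU₁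
  set U₂ : Matrix (Fin n) (Fin n) K := Matrix.diagonal (fun i => (b'.1 i i)⁻¹) * b'.1 with hU₂
  have hU₁e : ∀ i j, U₁ i j = b.1 i j * (b.1 j j)⁻¹ := fun i j => Matrix.mul_diagonal ..
  have hU₂e : ∀ i j, U₂ i j = (b'.1 i i)⁻¹ * b'.1 i j := fun i j => Matrix.diagonal_mul ..
  have hd₁ : U₁.det = 1 := by
    rw [Matrix.det_of_upperTriangular (fun i j hij => by rw [hU₁e, hb1 i j hij, zero_mul])]
    exact Finset.prod_eq_one fun i _ => by rw [hU₁e, mul_inv_cancel₀ (hbd i)]
  have hd₂ : U₂.det = 1 := by
    rw [Matrix.det_of_upperTriangular (fun i j hij => by rw [hU₂e, hb1' i j hij, mul_zero])]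
    exact Finset.prod_eq_one fun i _ => by rw [hU₂e, inv_mul_cancel₀ (hbd' i)]
  set u : SLn := ⟨U₁, hd₁⟩
  set u' : SLn := ⟨U₂, hd₂⟩
  have hu : u ∈ unip K n := ⟨fun i j hij => by show U₁ i j = 0; rw [hU₁e, hb1 i j hij, zero_mul],
    fun i => by show U₁ i i = 1; rw [hU₁e, mul_inv_cancel₀ (hbd i)]⟩
  have hu' : u' ∈ unip K n := ⟨fun i j hij => by show U₂ i j = 0; rw [hU₂e, hb1' i j hij, mul_zero],
    fun i => by show U₂ i i = 1; rw [hU₂e, inv_mul_cancel₀ (hbd' i)]⟩
  set M := u⁻¹ * h * u'⁻¹ with hMdef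
  have hMh : M ∈ H := mul_mem (mul_mem (inv_mem (hU hu)) hh) (inv_mem (hU hu'))
  set m : Fin n → K := fun j => b.1 (σ j) (σ j) * b'.1 j j with hm
  have hent : ∀ i j, ent M i j = if i = σ j then m j else 0 := by
    have hmat : (M : Matrix (Fin n) (Fin n) K) = Matrix.diagonal (fun i => b.1 i i) *
        (Classical.ParCoset.permGL σ : GL (Fin n) K).1 * Matrix.diagonal (fun i => b'.1 i i) := by
      have e1 : (h : Matrix (Fin n) (Fin n) K) = (u : Matrix (Fin n) (Fin n) K) * (Matrix.diagonal (fun i => b.1 i i) *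
          (Classical.ParCoset.permGL σ : GL (Fin n) K).1 * Matrix.diagonal (fun i => b'.1 i i)) * u' := by
        show _ = U₁ * _ * U₂
        have a1 : U₁ * Matrix.diagonal (fun i => b.1 i i) = b.1 := by
          rw [hU₁, Matrix.mul_assoc, Matrix.diagonal_mul_diagonal]; simp [hbd]
        have a2 : Matrix.diagonal (fun i => b'.1 i i) * U₂ = b'.1 := by
          rw [hU₂, ← Matrix.mul_assoc, Matrix.diagonal_mul_diagonal]; simp [hbd']
        have := congrArg Units.val e
        simp only [Units.val_mul] at this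
        rw [show (h : Matrix (Fin n) (Fin n) K) = b.1 * (Classical.ParCoset.permGL σ : GL (Fin n) K).1 * b'.1 from this]
        conv_lhs => rw [← a1, ← a2]
        simp only [Matrix.mul_assoc]
      have e2 : U₁ * (M : Matrix (Fin n) (Fin n) K) * U₂ = U₁ * (Matrix.diagonal (fun i => b.1 i i) *
          (Classical.ParCoset.permGL σ : GL (Fin n) K).1 * Matrix.diagonal (fun i => b'.1 i i)) * U₂ := by
        refine Eq.trans ?_ e1
        have : u * M * u' = h := by rw [hMdef]; group
        exact congrArg (fun A : SLn => (A : Matrix (Fin n) (Fin n) K)) this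
      have hi₁ : IsUnit U₁ := (Matrix.isUnit_iff_isUnit_det _).2 (by rw [hd₁]; exact isUnit_one)
      have hi₂ : IsUnit U₂ := (Matrix.isUnit_iff_isUnit_det _).2 (by rw [hd₂]; exact isUnit_one)
      exact hi₁.mul_left_cancel (hi₂.mul_right_cancel e2)
    intro i j
    show (M : Matrix (Fin n) (Fin n) K) i j = _
    rw [hmat, Matrix.mul_diagonal, Matrix.diagonal_mul, Classical.ParCoset.permGL_apply]
    split_ifs with hij
    · subst hij; simp [hm]
    · simp
  have hm0 : ∀ i, m i ≠ 0 := fun i => mul_ne_zero (hbd _) (hbd' _)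
  have hrel := rel_perm hU hMh σ m hm0 hent
  -- the correcting diagonal element
  let T : Fin n → Kˣ := fun i => Units.mk0 (t i) (ht0 i)
  let g : Fin n → (Fin n → Kˣ) := fun a => Pi.mulSingle (σ a) (T a)⁻¹ * Pi.mulSingle a (T a)
  have hg : ∀ a, g a ∈ diagSub H := by
    intro a
    by_cases hσ : σ a = a
    · have : g a = 1 := by simp [g, hσ, ← Pi.mulSingle_mul]
      rw [this]; exact one_mem _
    · have hfun : (fun i => ((g a i : Kˣ) : K)) =
          fun k => if k = σ a then (t a)⁻¹ else if k = a then ((t a)⁻¹)⁻¹ else 1 := by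
        funext k
        by_cases h1 : k = σ a
        · subst h1; simp [g, T, hσ]
        · by_cases h2 : k = a
          · subst h2; simp [g, T, Ne.symm hσ]
          · simp [g, T, h1, h2]
      have hd := Matrix.SpecialLinearGroup.diag2n_coe (F := K) hσ (t a)⁻¹ (inv_ne_zero (ht0 a))
      refine ⟨?_, ?_⟩
      · rw [← Matrix.det_diagonal, hfun, ← hd]
        exact (Matrix.SpecialLinearGroup.diag2n hσ (t a)⁻¹ (inv_ne_zero (ht0 a))).2
      · convert diag2n_mem (hrel a).2 (hrel a).1 hσ (t a)⁻¹ (inv_ne_zero (ht0 a)) using 1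
        exact Subtype.ext (by rw [coe_diagSL, hfun, hd])
  obtain ⟨hE, hEH⟩ : ∏ a, g a ∈ diagSub H := prod_mem fun a _ => hg a
  have hval : ∀ i, ((∏ a, g a) i : K) = t i * (t (σ.symm i))⁻¹ := fun i => by
    have h1 : ∏ a, Pi.mulSingle (σ a) (T a)⁻¹ = fun k => (T (σ.symm k))⁻¹ := by
      rw [← Finset.univ_prod_mulSingle (fun k => (T (σ.symm k))⁻¹),
        ← Equiv.prod_comp σ (fun k => Pi.mulSingle k (T (σ.symm k))⁻¹)]
      simp
    rw [show (∏ a, g a) = (∏ a, Pi.mulSingle (σ a) (T a)⁻¹) * ∏ a, Pi.mulSingle a (T a) from Finset.prod_mul_distrib,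
      h1, Finset.univ_prod_mulSingle]
    simp [T, mul_comm]
  set E := diagSL _ hE
  have hEM : d * M = E * M * d := by
    ext i j
    show ent (d * M) i j = ent (E * M * d) i j
    have : ent (E * M * d) i j = ent (E * M) i j * t j := by
      simp [ent, d, Matrix.mul_diagonal]
    rw [this, ent_diagSL_mul, ent_diagSL_mul, hval, hent]
    split_ifs with hij
    · subst hij
      rw [Equiv.symm_apply_apply]
      field_simp
      rw [mul_comm]
      field_simp [ht0 j]
    · simp
  have : d * h * d⁻¹ = (d * u * d⁻¹) * (E * M) * (d * u' * d⁻¹) := by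
    rw [show h = u * M * u' by rw [hMdef]; group]
    calc d * (u * M * u') * d⁻¹ = (d * u * d⁻¹) * (d * M * d⁻¹) * (d * u' * d⁻¹) := by group
      _ = _ := by rw [hEM, mul_inv_cancel_right]
  rw [this]
  exact mul_mem (mul_mem (hU (hdu u hu)) (mul_mem hEH hMh)) (hU (hdu u' hu'))

open Cfsg.Agent.Transfer.PronormalSyl in
/-- In even characteristic the overgroups of a Sylow 2-subgroup are pronormal. -/
theorem pronormal_of_unip_le (p : ℕ) [Fact p.Prime] [CharP K p] (S : Sylow p (Matrix.SpecialLinearGroup (Fin n) K))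
    (hS : (S : Subgroup SLn) = unip K n) (hU : unip K n ≤ H) : Cfsg.IsPronormal H := by
  intro g₀
  show Good H g₀
  set L₀ := H ⊔ cj g₀ H
  have h1 : (S : Subgroup SLn) ≤ L₀ := (hS ▸ hU).trans le_sup_left
  have h2 : ((g₀ • S : Sylow p SLn) : Subgroup SLn) ≤ L₀ := (Subgroup.map_mono (hS ▸ hU)).trans le_sup_right
  obtain ⟨k, hk⟩ := MulAction.exists_smul_eq L₀ ((g₀ • S : Sylow p SLn).subtype h2) (S.subtype h1)
  have hkg : ((k : SLn) * g₀) • S = S := by
    rw [mul_smul]
    exact Sylow.subtype_injective ((Sylow.smul_subtype h2 k).symm.trans hk)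
  have hg := Sylow.smul_eq_iff_mem_normalizer.1 hkg
  refine ⟨(k : SLn)⁻¹, inv_mem k.2, ?_⟩
  have hfix : cj ((k : SLn) * g₀) H = H := by
    set g := (k : SLn) * g₀
    have hg' : ∀ u ∈ unip K n, g * u * g⁻¹ ∈ unip K n := fun u hu => by
      rw [← hS] at hu ⊢
      exact (Subgroup.mem_normalizer_iff.1 hg u).1 hu
    obtain ⟨t, ht, hv⟩ := exists_diag (isUpper_of_conj_mem hg')
    refine cj_eq_self.2 ?_
    have hd : diagSL t ht ∈ Subgroup.normalizer (H : Set SLn) := by
      refine Subgroup.mem_normalizer_iff.2 fun x => ⟨fun hx => diag_normalizes hU t ht hx, fun hx => ?_⟩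
      let f : H → H := fun y => ⟨_, diag_normalizes hU t ht y.2⟩
      obtain ⟨y, hy⟩ := Finite.surjective_of_injective (f := f) (fun a b e => Subtype.ext (by
        simpa [f] using congrArg Subtype.val e)) ⟨_, hx⟩
      have : (y : SLn) = x := by simpa [f] using congrArg Subtype.val hy
      exact this ▸ y.2
    rw [show g = diagSL t ht * ((diagSL t ht)⁻¹ * g) by group]
    exact mul_mem hd (Subgroup.le_normalizer (hU hv))
  conv_rhs => rw [← hfix, ← cj_mul, inv_mul_cancel_left]

end Cfsg.Agent.Lie.TwoEven
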