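import Cfsg.Agent.Lib.Lie.TwoSylowDouble
import Cfsg.Agent.Lib.Lie.GLWreath

/-!
Self-normalising Sylow 2-subgroups of `SL_{2^k}(q)`, `q` odd: the semidihedral starting point and the iteration.
-/

set_option autoImplicit false
set_option linter.unusedSectionVars false

namespace Cfsg.Agent.Lie.TwoDouble

open Matrix

universe u
variable {F : Type u} [Field F]

section Semi

theorem ent {x y : GL (Fin 2) F} (h : x = y) (i j : Fin 2) : x.val i j = y.val i j := by rw [h]

/-- The matrices `a + bJ`. -/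
def tor (F : Type u) [Field F] : Subgroup (GL (Fin 2) F) where
  carrier := {x | x.val 1 1 = x.val 0 0 ∧ x.val 0 1 = -x.val 1 0}
  one_mem' := by simp
  mul_mem' := by
    rintro x y ⟨hx1, hx2⟩ ⟨hy1, hy2⟩
    simp only [Set.mem_setOf_eq, Units.val_mul, Matrix.mul_apply, Fin.sum_univ_two, hx1, hx2, hy1, hy2]
    constructor <;> ring
  inv_mem' := by
    rintro x ⟨hx1, hx2⟩
    simp only [Set.mem_setOf_eq, Matrix.coe_units_inv, Matrix.inv_def, Matrix.adjugate_fin_two, Matrix.smul_apply,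
      Matrix.of_apply, Matrix.cons_val', Matrix.cons_val_zero, Matrix.cons_val_one, Matrix.empty_val',
      Matrix.cons_val_fin_one, hx1, hx2, smul_eq_mul]
    constructor
    · trivial
    · ring

theorem tor_comm {x y : GL (Fin 2) F} (hx : x ∈ tor F) (hy : y ∈ tor F) : x * y = y * x := by
  obtain ⟨hx1, hx2⟩ := hx
  obtain ⟨hy1, hy2⟩ := hy
  refine Units.ext ?_
  ext i j
  fin_cases i <;> fin_cases j <;> simp [Matrix.mul_apply, Fin.sum_univ_two, hx1, hx2, hy1, hy2] <;> ring

instance tor_isMulCommutative : IsMulCommutative (tor F) := ⟨⟨fun x y => Subtype.ext (tor_comm x.2 y.2)⟩⟩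

theorem sq_add_sq_ne {a b : F} (h : ¬ IsSquare (-1 : F)) (hab : a ≠ 0 ∨ b ≠ 0) : a * a + b * b ≠ 0 := by
  intro e
  rcases eq_or_ne b 0 with rfl | hb
  · simp at e; simp [e] at hab
  · exact h ⟨a / b, by field_simp; linear_combination -e⟩

theorem card_tor [Fintype F] (h : ¬ IsSquare (-1 : F)) :
    Nat.card (tor F) = Fintype.card F * Fintype.card F - 1 := by
  classical
  let f : tor F → {p : F × F // p ≠ 0} := fun x => ⟨(x.1.val 0 0, x.1.val 1 0), fun e => by
    simp [Prod.ext_iff] at e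
    have hdet := (Matrix.GeneralLinearGroup.det x.1).ne_zero
    apply hdet
    rw [Matrix.GeneralLinearGroup.val_det_apply, Matrix.det_fin_two, x.2.1, x.2.2, e.1, e.2]
    ring⟩
  have hf : Function.Bijective f := by
    constructor
    · rintro ⟨x, hx1, hx2⟩ ⟨y, hy1, hy2⟩ e
      simp [f, Subtype.ext_iff, Prod.ext_iff] at e
      refine Subtype.ext (Units.ext ?_)
      ext i j
      fin_cases i <;> fin_cases j <;> simp [hx1, hx2, hy1, hy2, e.1, e.2]
    · rintro ⟨⟨a, b⟩, hab⟩
      have hd : Matrix.det !![a, -b; b, a] ≠ 0 := by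
        rw [Matrix.det_fin_two_of]
        have h0 := sq_add_sq_ne h (a := a) (b := b) (by
          by_contra hc; push_neg at hc; exact hab (Prod.ext hc.1 hc.2))
        intro e; exact h0 (by linear_combination e)
      exact ⟨⟨Matrix.GeneralLinearGroup.mkOfDetNeZero _ hd, by simp [tor, Matrix.GeneralLinearGroup.mkOfDetNeZero]⟩,
        Subtype.ext (by simp [f, Matrix.GeneralLinearGroup.mkOfDetNeZero])⟩
  rw [Nat.card_eq_of_bijective f hf, Nat.card_eq_fintype_card, Fintype.card_subtype_compl, Fintype.card_subtype_eq,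
    Fintype.card_prod]

/-- The 2-elements of `tor`. -/
noncomputable def tor2 (F : Type u) [Field F] [Finite F] : Subgroup (GL (Fin 2) F) :=
  ((default : Sylow 2 (tor F)) : Subgroup (tor F)).map (tor F).subtype

theorem mem_tor2 [Finite F] {x : GL (Fin 2) F} : x ∈ tor2 F ↔ x ∈ tor F ∧ Two x := by
  haveI : Fact (Nat.Prime 2) := ⟨Nat.prime_two⟩
  constructor
  · rintro ⟨y, hy, rfl⟩
    obtain ⟨k, hk⟩ := (default : Sylow 2 (tor F)).isPGroup' ⟨y, hy⟩
    exact ⟨y.2, k, by simpa [Subtype.ext_iff] using hk⟩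
  · rintro ⟨hx, k, hk⟩
    refine ⟨⟨x, hx⟩, ?_, rfl⟩
    have hp : IsPGroup 2 (Subgroup.zpowers (⟨x, hx⟩ : tor F)) := by
      rw [IsPGroup.iff_card]
      rw [Nat.card_zpowers]
      obtain ⟨i, -, hi⟩ := (Nat.dvd_prime_pow Nat.prime_two).1
        (orderOf_dvd_of_pow_eq_one (x := (⟨x, hx⟩ : tor F)) (n := 2 ^ k) (Subtype.ext hk))
      exact ⟨i, hi⟩
    obtain ⟨P, hP⟩ := hp.exists_le_sylow
    haveI : (default : Sylow 2 (tor F)).toSubgroup.Normal := Subgroup.normal_of_isMulCommutative _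
    haveI := Sylow.unique_of_normal (default : Sylow 2 (tor F)) this
    rw [Subsingleton.elim (default : Sylow 2 (tor F)) P]
    exact hP (Subgroup.mem_zpowers _)

/-- `J`. -/
def J : GL (Fin 2) F := Matrix.GeneralLinearGroup.mkOfDetNeZero !![0, -1; 1, 0] (by simp [Matrix.det_fin_two_of])

/-- The reflection. -/
def R : GL (Fin 2) F := Matrix.GeneralLinearGroup.mkOfDetNeZero !![1, 0; 0, -1] (by simp [Matrix.det_fin_two_of])

theorem J_val : ((J : GL (Fin 2) F) : Matrix (Fin 2) (Fin 2) F) = !![0, -1; 1, 0] := rfl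
theorem R_val : ((R : GL (Fin 2) F) : Matrix (Fin 2) (Fin 2) F) = !![1, 0; 0, -1] := rfl

theorem R_sq : (R : GL (Fin 2) F) * R = 1 := Units.ext (by
  ext i j; fin_cases i <;> fin_cases j <;> simp [R_val, Matrix.mul_apply, Fin.sum_univ_two])

theorem J_mem [Finite F] : (J : GL (Fin 2) F) ∈ tor2 F := mem_tor2.2 ⟨by simp [tor, J_val], 2, Units.ext (by
  rw [Units.val_pow_eq_pow_val, J_val, show (2 ^ 2 : ℕ) = 2 + 2 from rfl, pow_add, pow_two]
  ext i j; fin_cases i <;> fin_cases j <;> simp [Matrix.mul_apply, Fin.sum_univ_two])⟩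

theorem R_conj {x : GL (Fin 2) F} (hx : x ∈ tor F) : R * x * R ∈ tor F := by
  obtain ⟨h1, h2⟩ := hx
  show (R * x * R).val 1 1 = (R * x * R).val 0 0 ∧ (R * x * R).val 0 1 = -(R * x * R).val 1 0
  rw [Units.val_mul, Units.val_mul, Matrix.eta_fin_two x.val, R_val, Matrix.mul_fin_two, Matrix.mul_fin_two]
  constructor <;> simp [h1, h2]

theorem R_conj2 [Finite F] {x : GL (Fin 2) F} (hx : x ∈ tor2 F) : R * x * R ∈ tor2 F := by
  obtain ⟨h, k, hk⟩ := mem_tor2.1 hx
  refine mem_tor2.2 ⟨R_conj h, k, ?_⟩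
  conv_lhs => rw [show R * x * R = R * x * R⁻¹ from by rw [inv_eq_of_mul_eq_one_right R_sq]]
  rw [conj_pow, hk]
  group

/-- The semidihedral group. -/
noncomputable def semi (F : Type u) [Field F] [Finite F] : Subgroup (GL (Fin 2) F) where
  carrier := {x | ∃ t ∈ tor2 F, x = t ∨ x = t * R}
  one_mem' := ⟨1, one_mem _, Or.inl rfl⟩
  mul_mem' := by
    rintro x y ⟨a, ha, hx | hx⟩ ⟨c, hc, hy | hy⟩
    · exact ⟨_, mul_mem ha hc, Or.inl (by rw [hx, hy])⟩
    · exact ⟨_, mul_mem ha hc, Or.inr (by rw [hx, hy, mul_assoc])⟩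
    · refine ⟨_, mul_mem ha (R_conj2 hc), Or.inr ?_⟩
      rw [hx, hy, mul_assoc a (R * c * R), mul_assoc (R * c) R, R_sq, mul_one, mul_assoc]
    · refine ⟨_, mul_mem ha (R_conj2 hc), Or.inl ?_⟩
      rw [hx, hy, mul_assoc a R, ← mul_assoc R]
  inv_mem' := by
    rintro _ ⟨a, ha, rfl | rfl⟩
    · exact ⟨_, inv_mem ha, Or.inl rfl⟩
    · refine ⟨_, R_conj2 (inv_mem ha), Or.inr ?_⟩
      rw [mul_assoc (R * a⁻¹) R, R_sq, mul_one, _root_.mul_inv_rev, inv_eq_of_mul_eq_one_right R_sq]

theorem tor_ne_mul_R (h2 : (2 : F) ≠ 0) {a b : GL (Fin 2) F} (ha : a ∈ tor F) (hb : b ∈ tor F) :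
    a ≠ b * R := by
  intro e
  obtain ⟨a1, a2⟩ := ha
  obtain ⟨b1, b2⟩ := hb
  have e' : ∀ i j, a.val i j = (b.val * (!![1, 0; 0, -1] : Matrix (Fin 2) (Fin 2) F)) i j := fun i j => by
    rw [e, Units.val_mul, R_val]
  have e00 := e' 0 0
  have e11 := e' 1 1
  have e10 := e' 1 0
  have e01 := e' 0 1
  simp [R_val, Matrix.mul_apply, Fin.sum_univ_two, a1, a2, b1, b2] at e00 e11 e10 e01
  have hb0 : b.val 0 0 = 0 := by
    have : (2 : F) * b.val 0 0 = 0 := by linear_combination e11 - e00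
    exact (mul_eq_zero.1 this).resolve_left h2
  have hb1 : b.val 1 0 = 0 := by
    have : (2 : F) * b.val 1 0 = 0 := by linear_combination -e01 - e10
    exact (mul_eq_zero.1 this).resolve_left h2
  refine (Matrix.GeneralLinearGroup.det b).ne_zero ?_
  rw [Matrix.GeneralLinearGroup.val_det_apply, Matrix.det_fin_two, b1, b2, hb0, hb1]
  ring

theorem card_semi [Finite F] (h2 : (2 : F) ≠ 0) : Nat.card (semi F) = 2 * Nat.card (tor2 F) := by
  let f : Bool × tor2 F → semi F := fun p =>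
    ⟨if p.1 then p.2.1 else p.2.1 * R, by
      split
      · exact ⟨_, p.2.2, Or.inl rfl⟩
      · exact ⟨_, p.2.2, Or.inr rfl⟩⟩
  have hf : Function.Bijective f := by
    constructor
    · rintro ⟨e, a⟩ ⟨e', a'⟩ h
      have h' := congrArg Subtype.val h
      cases e <;> cases e' <;> simp [f] at h'
      · exact Prod.ext rfl h'
      · exact absurd h'.symm (tor_ne_mul_R h2 (mem_tor2.1 a'.2).1 (mem_tor2.1 a.2).1)
      · exact absurd h' (tor_ne_mul_R h2 (mem_tor2.1 a.2).1 (mem_tor2.1 a'.2).1)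
      · exact Prod.ext rfl h'
    · rintro ⟨x, a, ha, hx | hx⟩
      · exact ⟨(true, ⟨a, ha⟩), Subtype.ext hx.symm⟩
      · exact ⟨(false, ⟨a, ha⟩), Subtype.ext hx.symm⟩
  rw [← Nat.card_eq_of_bijective f hf, Nat.card_prod, Nat.card_eq_fintype_card (α := Bool), Fintype.card_bool]

theorem two_semi [Finite F] {x : GL (Fin 2) F} (hx : x ∈ semi F) : Two x := by
  obtain ⟨a, ha, rfl | rfl⟩ := hx
  · exact (mem_tor2.1 ha).2
  · obtain ⟨k, hk⟩ := (mem_tor2.1 (mul_mem ha (R_conj2 ha))).2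
    refine ⟨k + 1, ?_⟩
    rw [pow_succ', pow_mul, sq]
    convert hk using 2
    group

variable [Fintype F] (hq : Fintype.card F % 4 = 3)

include hq

theorem two_ne : (2 : F) ≠ 0 := Ring.two_ne_zero fun h => by
  have := FiniteField.even_card_of_char_two h
  omega

theorem not_sq : ¬ IsSquare (-1 : F) := fun h => (FiniteField.isSquare_neg_one_iff.1 h) hq

theorem unit_two {a : Fˣ} (h : Two a) : a = 1 ∨ a = -1 := by
  obtain ⟨k, hk⟩ := h
  obtain ⟨i, -, hi⟩ := (Nat.dvd_prime_pow Nat.prime_two).1 (orderOf_dvd_of_pow_eq_one hk)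
  have hc : orderOf a ∣ Fintype.card F - 1 := by
    classical
    rw [← Fintype.card_units]; exact orderOf_dvd_card
  have : a ^ 2 = 1 := by
    refine orderOf_dvd_iff_pow_eq_one.1 ?_
    rw [hi] at hc ⊢
    rcases Nat.lt_or_ge i 2 with h2 | h2
    · interval_cases i <;> norm_num
    · have := (Nat.pow_dvd_pow 2 h2).trans hc
      norm_num at this
      omega
  rcases mul_self_eq_one_iff.1 (show (a : F) * a = 1 by rw [← Units.val_mul, ← sq, this, Units.val_one]) with h | h
  · exact Or.inl (Units.ext h)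
  · exact Or.inr (Units.ext (by simpa using h))

theorem card_tor2 : Nat.card (tor2 F) = 2 ^ padicValNat 2 (Fintype.card F * Fintype.card F - 1) := by
  haveI : Fact (Nat.Prime 2) := ⟨Nat.prime_two⟩
  rw [tor2, Nat.card_congr ((Subgroup.equivMapOfInjective _ _ (tor F).subtype_injective).symm.toEquiv),
    Sylow.card_eq_multiplicity, card_tor (not_sq hq), Nat.factorization_def _ Nat.prime_two]

theorem exists_ab : ∃ t ∈ tor2 F, t.val 0 0 ≠ 0 ∧ t.val 1 0 ≠ 0 := by
  classical
  by_contra hc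
  push Not at hc
  let S : Finset (GL (Fin 2) F) := {(1 : GL (Fin 2) F), -(1 : GL (Fin 2) F), (J : GL (Fin 2) F), -(J : GL (Fin 2) F)}
  have hsub : ∀ t ∈ tor2 F, t ∈ S := by
    intro t ht
    obtain ⟨⟨h1, h2⟩, k, hk⟩ := mem_tor2.1 ht
    by_cases ha : t.val 0 0 = 0
    · have hb : t.val 1 0 ≠ 0 := fun h0 => by
        refine (Matrix.GeneralLinearGroup.det t).ne_zero ?_
        rw [Matrix.GeneralLinearGroup.val_det_apply, Matrix.det_fin_two, h1, h2, ha, h0]; ring
      have htv : t.val = (t.val 1 0) • (J : GL (Fin 2) F).val := by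
        ext i j
        fin_cases i <;> fin_cases j <;> simp [J_val, h1, h2, ha, Matrix.smul_apply]
      have htt : t * t = scl (Fin 2) F (-(Units.mk0 _ hb * Units.mk0 _ hb)) := Units.ext (by
        rw [Units.val_mul, scl_val]
        ext i j; fin_cases i <;> fin_cases j <;> simp [Matrix.mul_apply, Fin.sum_univ_two, h1, h2, ha])
      have h2k : Two (-(Units.mk0 _ hb * Units.mk0 _ hb) : Fˣ) := ⟨k, by
        have : scl (Fin 2) F ((-(Units.mk0 _ hb * Units.mk0 _ hb)) ^ 2 ^ k) = 1 := by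
          rw [map_pow, ← htt, ← sq, ← pow_mul, mul_comm, pow_mul, hk, one_pow]
        have := ent this 0 0
        rw [scl_val] at this
        exact Units.ext (by simpa [Matrix.smul_apply] using this)⟩
      have hbb : t.val 1 0 * t.val 1 0 = 1 := by
        rcases unit_two hq h2k with e | e
        · have := congrArg Units.val e
          simp at this
          exact (not_sq hq ⟨t.val 1 0, by linear_combination this⟩).elim
        · have := congrArg Units.val e
          simpa using this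
      rcases mul_self_eq_one_iff.1 hbb with e | e
      · have : t = J := Units.ext (by rw [htv, e, one_smul])
        simp [S, this]
      · have : t = -(J : GL (Fin 2) F) := Units.ext (by rw [htv, e, neg_one_smul, Units.val_neg])
        simp [S, this]
    · have hb := hc t ht ha
      have ht' : t = scl (Fin 2) F (Units.mk0 _ ha) := Units.ext (by
        rw [scl_val]
        ext i j
        fin_cases i <;> fin_cases j <;> simp [h1, h2, hb, Matrix.smul_apply])
      have h2k : Two (Units.mk0 _ ha) := ⟨k, by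
        rw [ht', ← map_pow] at hk
        have := ent hk 0 0
        rw [scl_val] at this
        exact Units.ext (by simpa [Matrix.smul_apply] using this)⟩
      rcases unit_two hq h2k with e | e
      · have : t = 1 := by rw [ht', e, map_one]
        simp [S, this]
      · have : t = -1 := by rw [ht', e, neg_one_eq]
        simp [S, this]
  have hle : Nat.card (tor2 F) ≤ 4 := by
    refine (Nat.card_le_card_of_injective (fun t : tor2 F => (⟨t.1, hsub t.1 t.2⟩ : S))
      fun a b e => Subtype.ext (congrArg (fun u : S => u.1) e)).trans ?_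
    rw [Nat.card_eq_fintype_card, Fintype.card_coe]
    exact Finset.card_le_four
  rw [card_tor2 hq] at hle
  have hq1 : Fintype.card F * Fintype.card F - 1 ≠ 0 := by
    have := Nat.mul_le_mul (Nat.le_of_lt (Fintype.one_lt_card (α := F))) (le_refl (Fintype.card F)); omega
  have h8 : 2 ^ 3 ∣ Fintype.card F * Fintype.card F - 1 := by
    obtain ⟨j, hj⟩ : ∃ j, Fintype.card F = 4 * j + 3 := ⟨Fintype.card F / 4, by omega⟩
    refine ⟨2 * j * j + 3 * j + 1, ?_⟩
    rw [hj]; ring_nf; omega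
  rw [padicValNat_dvd_iff_le hq1] at h8
  have := Nat.pow_le_pow_right two_pos h8
  omega

theorem exists_det_neg_one : ∃ t ∈ tor2 F, (t : Matrix (Fin 2) (Fin 2) F).det = -1 := by
  obtain ⟨a, b, hab⟩ := FiniteField.exists_root_sum_quadratic (R := F) (f := Polynomial.X ^ 2)
    (g := Polynomial.X ^ 2 + Polynomial.C 1) (Polynomial.degree_X_pow 2)
    (Polynomial.degree_X_pow_add_C two_pos 1) (by omega)
  simp at hab
  have hd : Matrix.det !![a, -b; b, a] ≠ 0 := by
    rw [Matrix.det_fin_two_of, show a * a - -b * b = -1 by linear_combination hab]; simp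
  set t := Matrix.GeneralLinearGroup.mkOfDetNeZero _ hd
  have htv : t.val = !![a, -b; b, a] := rfl
  have htor : t ∈ tor F := by simp [tor, htv]
  obtain ⟨t₂, t₁, ht₂, ht₁, h₂, h₁, ht⟩ := split t
  refine ⟨t₂, mem_tor2.2 ⟨(Subgroup.zpowers_le.2 htor) ht₂, h₂⟩, ?_⟩
  have hdt : (Matrix.GeneralLinearGroup.det t : F) = -1 := by
    rw [Matrix.GeneralLinearGroup.val_det_apply, htv, Matrix.det_fin_two_of]; linear_combination hab
  have h1 : Matrix.GeneralLinearGroup.det t₁ = 1 := by
    refine eq_one_of_two_of_odd ?_ (h₁.of_dvd_nat (orderOf_map_dvd _ _))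
    obtain ⟨i, rfl⟩ := ht₁
    refine ⟨1, ?_⟩
    rw [map_zpow, show Matrix.GeneralLinearGroup.det t = -1 from Units.ext (by rw [hdt]; simp), pow_one,
      ← zpow_natCast, ← _root_.zpow_mul, mul_comm, _root_.zpow_mul]
    simp
  rw [← Matrix.GeneralLinearGroup.val_det_apply, ← hdt, ht, map_mul, h1, mul_one]

theorem eq_scl_of_comm {a : GL (Fin 2) F} (hR : a * R = R * a) (hJ : a * J = J * a) : Sc a := by
  have e1 := ent hR 0 1
  have e2 := ent hR 1 0
  have e3 := ent hJ 1 0
  simp [R_val, J_val, Matrix.mul_apply, Fin.sum_univ_two] at e1 e2 e3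
  have h01 : a.val 0 1 = 0 := by
    have : (2 : F) * a.val 0 1 = 0 := by linear_combination -e1
    exact (mul_eq_zero.1 this).resolve_left (two_ne hq)
  have h10 : a.val 1 0 = 0 := by
    have : (2 : F) * a.val 1 0 = 0 := by linear_combination e2
    exact (mul_eq_zero.1 this).resolve_left (two_ne hq)
  refine ⟨a.val 0 0, ?_⟩
  ext i j
  fin_cases i <;> fin_cases j <;> simp [h01, h10, e3]

theorem semi_R : R ∈ semi F := ⟨1, one_mem _, Or.inr (one_mul _).symm⟩

theorem semi_t {t : GL (Fin 2) F} (ht : t ∈ tor2 F) : t ∈ semi F := ⟨t, ht, Or.inl rfl⟩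

theorem R_mul_R_eq {t : GL (Fin 2) F} (ht : t ∈ tor F) :
    (R * t * R).val = !![t.val 0 0, t.val 1 0; -t.val 1 0, t.val 0 0] := by
  rw [Units.val_mul, Units.val_mul, Matrix.eta_fin_two t.val, R_val, Matrix.mul_fin_two, Matrix.mul_fin_two]
  ext i j
  fin_cases i <;> fin_cases j <;> simp [ht.1, ht.2]

theorem ab_zero_of_conj {t : GL (Fin 2) F} (ht : t ∈ tor F) {c : Fˣ} (h : R * t * R = scl (Fin 2) F c * t) :
    t.val 0 0 = 0 ∨ t.val 1 0 = 0 := by
  have hv := congrArg Units.val h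
  rw [R_mul_R_eq hq ht, Units.val_mul, scl_val, smul_mul, one_mul] at hv
  have e00 := congrFun (congrFun hv 0) 0
  have e10 := congrFun (congrFun hv 1) 0
  simp [Matrix.smul_apply] at e00 e10
  have : (2 : F) * (t.val 0 0 * t.val 1 0) = 0 := by linear_combination (t.val 1 0) * e00 - (t.val 0 0) * e10
  exact mul_eq_zero.1 ((mul_eq_zero.1 this).resolve_left (two_ne hq))

/-- The elements of `semi` that are central modulo scalars. -/
theorem cmod_semi {y : GL (Fin 2) F} (hy : y ∈ semi F) (h : ∀ s ∈ semi F, Cmod y s) :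
    Sc y ∨ ∃ c : Fˣ, y = scl (Fin 2) F c * J := by
  obtain ⟨a, ha, hy' | hy'⟩ := hy
  · subst hy'
    have hyt := (mem_tor2.1 ha).1
    obtain ⟨c, hc⟩ := h R (semi_R hq)
    have hc' : R * y * R = scl (Fin 2) F c⁻¹ * y := by
      have e : R * y = scl (Fin 2) F c⁻¹ * (y * R) := by
        rw [hc, ← mul_assoc, ← map_mul, inv_mul_cancel, map_one, one_mul]
      rw [e, mul_assoc, mul_assoc y, R_sq, mul_one]
    rcases ab_zero_of_conj hq hyt hc' with e | e
    · right
      have hb : y.val 1 0 ≠ 0 := fun h0 => by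
        refine (Matrix.GeneralLinearGroup.det y).ne_zero ?_
        rw [Matrix.GeneralLinearGroup.val_det_apply, Matrix.det_fin_two, hyt.1, hyt.2, e, h0]; ring
      refine ⟨Units.mk0 _ hb, Units.ext ?_⟩
      rw [Units.val_mul, scl_val, smul_mul, one_mul, J_val]
      ext i j
      fin_cases i <;> fin_cases j <;> simp [hyt.1, hyt.2, e, Matrix.smul_apply]
    · left
      refine ⟨y.val 0 0, ?_⟩
      ext i j
      fin_cases i <;> fin_cases j <;> simp [hyt.1, hyt.2, e]
  · exfalso
    subst hy'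
    obtain ⟨t, ht, h0, h1⟩ := exists_ab hq
    obtain ⟨c, hc⟩ := h t (semi_t hq ht)
    have e : R * t * R = scl (Fin 2) F c * t := by
      rw [mul_assoc a R t, ← mul_assoc t a R, tor_comm (mem_tor2.1 ht).1 (mem_tor2.1 ha).1, mul_assoc a t R,
        ← mul_assoc (scl (Fin 2) F c), scl_comm c a, mul_assoc a, mul_right_inj] at hc
      rw [hc, mul_assoc, mul_assoc t, R_sq, mul_one]
    rcases ab_zero_of_conj hq (mem_tor2.1 ht).1 e with e | e <;> contradiction

theorem full_semi : Full (⊤ : Subgroup (GL (Fin 2) F)) (semi F) := by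
  have hneg : scl (Fin 2) F (-1) ∈ tor2 F := mem_tor2.2 ⟨by simp [tor, scl_val], 1, Units.ext (by simp [scl_val])⟩
  obtain ⟨t₀, ht₀, hd₀⟩ := exists_det_neg_one hq
  have hRJ : R * J * R = scl (Fin 2) F (-1) * J := Units.ext (by
    rw [R_mul_R_eq hq (mem_tor2.1 J_mem).1, Units.val_mul, scl_val]
    ext i j; fin_cases i <;> fin_cases j <;> simp [J_val, Matrix.smul_apply])
  have hscal : ∀ c : Fˣ, Two c → scl (Fin 2) F c ∈ tor2 F := fun c ⟨k, hk⟩ =>
    mem_tor2.2 ⟨by simp [tor, scl_val], k, by rw [← map_pow, hk, map_one]⟩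
  refine ⟨⟨le_top, fun x hx => two_semi hx, fun c _ hc => semi_t hq (hscal c hc), ?_, ?_, ?_⟩, ?_, ?_⟩
  · exact fun a ha => eq_scl_of_comm hq (ha R (semi_R hq)) (ha J (semi_t hq J_mem))
  · intro x _ hx
    have hsurj : ∀ s ∈ semi F, ∃ s' ∈ semi F, x * s' * x⁻¹ = s := by
      intro s hs
      let f : semi F → semi F := fun u => ⟨x * u.1 * x⁻¹, hx u.1 u.2⟩
      have hf : Function.Surjective f := Finite.surjective_of_injective fun u v e => Subtype.ext (by
        simpa [f] using congrArg Subtype.val e)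
      obtain ⟨u, hu⟩ := hf ⟨s, hs⟩
      exact ⟨u, u.2, congrArg Subtype.val hu⟩
    have hJc : ∀ s ∈ semi F, Cmod J s := by
      rintro s ⟨a, ha, rfl | rfl⟩
      · exact ⟨1, by rw [map_one, one_mul, tor_comm (mem_tor2.1 J_mem).1 (mem_tor2.1 ha).1]⟩
      · refine ⟨-1, ?_⟩
        have : J * R = scl (Fin 2) F (-1) * (R * J) := by
          have := congrArg (R * ·) hRJ
          simp only [← mul_assoc, R_sq, one_mul] at this
          rw [this, ← scl_comm, mul_assoc]
        rw [← mul_assoc, tor_comm (mem_tor2.1 J_mem).1 (mem_tor2.1 ha).1, mul_assoc, this, ← mul_assoc,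
          ← scl_comm, mul_assoc, mul_assoc]
    have hy : ∀ s ∈ semi F, Cmod (x * J * x⁻¹) s := fun s hs => by
      obtain ⟨u, hu, rfl⟩ := hsurj s hs
      obtain ⟨c, hc⟩ := hJc u hu
      refine ⟨c, ?_⟩
      calc x * J * x⁻¹ * (x * u * x⁻¹) = x * (J * u) * x⁻¹ := by group
        _ = x * scl _ F c * (u * J) * x⁻¹ := by rw [hc]; group
        _ = scl _ F c * (x * (u * J) * x⁻¹) := by rw [← scl_comm]; group
        _ = _ := by group
    rcases cmod_semi hq (hx J (semi_t hq J_mem)) hy with hsc | ⟨c, hc⟩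
    · exfalso
      obtain ⟨c, hc⟩ := hsc.exists_scl
      have : (J : GL (Fin 2) F) = scl (Fin 2) F c := by
        rw [show (J : GL (Fin 2) F) = x⁻¹ * (x * J * x⁻¹) * x by group, hc, mul_assoc, scl_comm, inv_mul_cancel_left]
      have := ent this 1 0
      simp [J_val, scl_val] at this
    have hJJ : (J : GL (Fin 2) F) * J = scl (Fin 2) F (-1) := Units.ext (by
      rw [Units.val_mul, J_val, scl_val]
      ext i j; fin_cases i <;> fin_cases j <;> simp [Matrix.mul_apply, Fin.sum_univ_two])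
    have hc2 : c * c = 1 := by
      have h1 : x * J * x⁻¹ * (x * J * x⁻¹) = scl (Fin 2) F (-1) := by
        rw [show x * J * x⁻¹ * (x * J * x⁻¹) = x * (J * J) * x⁻¹ by group, hJJ, ← scl_comm, mul_inv_cancel_right]
      rw [hc, mul_assoc, ← mul_assoc J, ← scl_comm, mul_assoc, hJJ, ← mul_assoc, ← map_mul, ← map_mul] at h1
      have := ent h1 0 0
      simp [scl_val] at this
      exact Units.ext (by simpa using this)
    obtain ⟨e, he, hxe⟩ : ∃ e : GL (Fin 2) F, (e = 1 ∨ e = R) ∧ (x * e) * J = J * (x * e) := by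
      rcases mul_self_eq_one_iff.1 (show (c : F) * c = 1 by rw [← Units.val_mul, hc2, Units.val_one]) with h | h
      · refine ⟨1, Or.inl rfl, ?_⟩
        rw [show c = 1 from Units.ext h, map_one, one_mul] at hc
        rw [mul_one]; exact mul_inv_eq_iff_eq_mul.1 hc
      · refine ⟨R, Or.inr rfl, ?_⟩
        rw [show c = -1 from Units.ext (by simpa using h)] at hc
        have hRJ' : R * J = scl (Fin 2) F (-1) * J * R := by rw [← hRJ, mul_assoc (R * J), R_sq, mul_one]
        rw [mul_assoc, hRJ', ← mul_assoc, ← mul_assoc, ← scl_comm, mul_assoc (scl _ F _) x J,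
          mul_inv_eq_iff_eq_mul.1 hc, ← mul_assoc, ← mul_assoc, ← map_mul]
        simp [mul_assoc]
    have hxt : x * e ∈ tor F := by
      have e00 := ent hxe 0 0
      have e01 := ent hxe 0 1
      generalize x * e = w at e00 e01
      simp [J_val, Matrix.mul_apply, Fin.sum_univ_two] at e00 e01
      exact ⟨e01.symm, e00⟩
    have heS : e ∈ semi F := by rcases he with rfl | rfl; exacts [one_mem _, semi_R hq]
    obtain ⟨x₂, x₁, hx₂, hx₁, h₂, h₁, hsplit⟩ := split (x * e)
    have hx₂t : x₂ ∈ tor2 F := mem_tor2.2 ⟨(Subgroup.zpowers_le.2 hxt) hx₂, h₂⟩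
    have hx₁t : x₁ ∈ tor F := (Subgroup.zpowers_le.2 hxt) hx₁
    have hmem : x₁ * (R * x₁⁻¹ * R) ∈ tor2 F := by
      refine mem_tor2.2 ⟨mul_mem hx₁t (R_conj (inv_mem hx₁t)), ?_⟩
      have hRS : (x * e) * R * (x * e)⁻¹ * R ∈ semi F := by
        refine mul_mem ?_ (semi_R hq)
        have := hx (e * R * e⁻¹) (mul_mem (mul_mem heS (semi_R hq)) (inv_mem heS))
        rwa [show x * (e * R * e⁻¹) * x⁻¹ = x * e * R * (x * e)⁻¹ by group] at this
      have h12 : (x * e) * R * (x * e)⁻¹ * R = x₂ * (R * x₂⁻¹ * R) * (x₁ * (R * x₁⁻¹ * R)) := by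
        rw [show x₂ * (R * x₂⁻¹ * R) * (x₁ * (R * x₁⁻¹ * R)) = x₂ * ((R * x₂⁻¹ * R) * x₁) * (R * x₁⁻¹ * R) by group,
          tor_comm (R_conj (inv_mem (mem_tor2.1 hx₂t).1)) hx₁t, hsplit]
        rw [show x₂ * (x₁ * (R * x₂⁻¹ * R)) * (R * x₁⁻¹ * R) = x₂ * x₁ * R * x₂⁻¹ * (R * R) * x₁⁻¹ * R by group, R_sq]
        rw [tor_comm (mem_tor2.1 hx₂t).1 hx₁t]
        group
      have hz : x₁ * (R * x₁⁻¹ * R) ∈ semi F := by
        have := mul_mem (inv_mem (semi_t hq (mul_mem hx₂t (R_conj2 (inv_mem hx₂t))))) (h12 ▸ hRS)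
        rwa [inv_mul_cancel_left] at this
      exact two_semi hz
    have hone : x₁ * (R * x₁⁻¹ * R) = 1 := by
      refine eq_one_of_two_of_odd (mem_tor2.1 hmem).2 ?_
      have hco : Commute x₁ (R * x₁⁻¹ * R) := tor_comm hx₁t (R_conj (inv_mem hx₁t))
      refine Odd.of_dvd_nat ?_ (hco.orderOf_mul_dvd_mul_orderOf)
      refine h₁.mul ?_
      rw [show R * x₁⁻¹ * R = MulAut.conj R x₁⁻¹ by rw [MulAut.conj_apply, inv_eq_of_mul_eq_one_right R_sq],
        MulEquiv.orderOf_eq, orderOf_inv]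
      exact h₁
    have hsc₁ : Sc x₁ := by
      refine eq_scl_of_comm hq ?_ (tor_comm hx₁t (mem_tor2.1 J_mem).1)
      have := congrArg (· * R * x₁) hone
      simp only [one_mul] at this
      rw [show x₁ * (R * x₁⁻¹ * R) * R * x₁ = x₁ * R * x₁⁻¹ * (R * R) * x₁ by group, R_sq, mul_one,
        inv_mul_cancel_right] at this
      exact this
    obtain ⟨u, rfl⟩ := hsc₁.exists_scl
    refine ⟨x₂ * e⁻¹, mul_mem (semi_t hq hx₂t) (inv_mem heS), u, ?_⟩
    rw [mul_assoc, ← scl_comm, ← mul_assoc, ← hsplit, mul_inv_cancel_right]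
  · refine ⟨J, semi_t hq J_mem, fun e => ?_⟩
    have := ent e 0 0
    simp [J_val, Matrix.mul_apply, Fin.sum_univ_two] at this
    exact two_ne hq (by linear_combination -this)
  · intro a ha hA hdet
    rcases cmod_semi hq ha hA with h | ⟨c, rfl⟩
    · exact h
    exfalso
    have hd : ((t₀ * R : GL (Fin 2) F).val).det = 1 := by
      rw [Units.val_mul, det_mul, hd₀, R_val, Matrix.det_fin_two_of]; ring
    have h3 := hdet _ (mul_mem (semi_t hq ht₀) (semi_R hq)) hd
    rw [mul_assoc, ← mul_assoc J, tor_comm (mem_tor2.1 J_mem).1 (mem_tor2.1 ht₀).1, ← mul_assoc (t₀ * R) (scl _ F c),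
      ← scl_comm, mul_assoc (scl _ F c), mul_right_inj, mul_assoc t₀ J, mul_assoc t₀ R, mul_right_inj] at h3
    have h4 := congrArg (R * ·) h3
    simp only [← mul_assoc, R_sq, one_mul] at h4
    rw [hRJ] at h4
    have := ent h4 1 0
    simp [J_val, scl_val] at this
    exact two_ne hq (by linear_combination -this)
  · refine ⟨J, semi_t hq J_mem, by simp [J_val, Matrix.det_fin_two_of], ?_⟩
    rintro ⟨c, hc⟩
    have := congrFun (congrFun hc 1) 0
    simp [J_val] at this

end Semi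

end Cfsg.Agent.Lie.TwoDouble
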