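import Cfsg.Agent.Lib.Lie.TwoSylowBase

/-!
`SL_{2^w}(q)`, `q` odd and `w ≥ 2`, has a self-normalising Sylow 2-subgroup.
-/

set_option autoImplicit false
set_option linter.unusedSectionVars false

namespace Cfsg.Agent.Lie.TwoDouble

open Matrix

universe u
variable {F : Type u} [Field F] [Fintype F]

theorem ent' {α : Type} [Fintype α] [DecidableEq α] {x y : GL α F} (h : x = y) (i j : α) :
    x.val i j = y.val i j := by rw [h]

theorem dbl_top {α : Type} [Fintype α] [DecidableEq α] :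
    Dbl (⊤ : Subgroup (GL α F)) (⊤ : Subgroup (GL (α ⊕ α) F)) := ⟨fun a b => by simp, trivial⟩

theorem card_GL_congr {α β : Type} [Fintype α] [DecidableEq α] [Fintype β] [DecidableEq β] (e : α ≃ β) :
    Nat.card (GL α F) = Nat.card (GL β F) :=
  Nat.card_congr (Units.mapEquiv (Matrix.reindexRingEquiv F e).toMulEquiv).toEquiv

theorem two_pow_factorial (i : ℕ) : padicValNat 2 (2 ^ i).factorial = 2 ^ i - 1 := by
  induction i with
  | zero => simp
  | succ i ih =>
    rw [GLWreath.padicValNat_factorial_le, pow_succ, Nat.mul_div_cancel _ two_pos, ih]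
    have := Nat.one_le_two_pow (n := i)
    omega

theorem v_double (hq : Odd (Fintype.card F)) (i : ℕ) :
    padicValNat 2 (Nat.card (GL (Fin (2 ^ (i + 2))) F)) =
      2 * padicValNat 2 (Nat.card (GL (Fin (2 ^ (i + 1))) F)) + 1 := by
  have h1 : 2 ^ (i + 2) / 2 = 2 ^ (i + 1) := by rw [pow_succ 2 (i + 1), Nat.mul_div_cancel _ two_pos]
  have h2 : 2 ^ (i + 1) / 2 = 2 ^ i := by rw [pow_succ, Nat.mul_div_cancel _ two_pos]
  rw [GLWreath.padicValNat_card_GL hq, GLWreath.padicValNat_card_GL hq, h1, h2, two_pow_factorial, two_pow_factorial]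
  have := Nat.one_le_two_pow (n := i)
  have e1 : 2 ^ (i + 2) = 4 * 2 ^ i := by ring
  have e2 : 2 ^ (i + 1) = 2 * 2 ^ i := by ring
  rw [e1, e2]
  generalize hA : padicValNat 2 (Fintype.card F - 1) = A
  generalize hB : padicValNat 2 (Fintype.card F + 1) = B
  generalize 2 ^ i = j at this
  obtain ⟨j, rfl⟩ : ∃ j', j = j' + 1 := ⟨j - 1, by omega⟩
  rw [show 2 * (j + 1) - 1 = 2 * j + 1 by omega, Nat.add_sub_cancel]
  ring

theorem va_three (hq : Fintype.card F % 4 = 3) :
    padicValNat 2 (Fintype.card F - 1) = 1 := by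
  obtain ⟨j, hj⟩ : ∃ j, Fintype.card F = 4 * j + 3 := ⟨Fintype.card F / 4, by omega⟩
  rw [hj, show 4 * j + 3 - 1 = 2 * (2 * j + 1) by omega, padicValNat.mul two_ne_zero (by omega), padicValNat_self,
    padicValNat.eq_zero_of_not_dvd (by omega)]

theorem vb_one (hq : Fintype.card F % 4 = 1) :
    padicValNat 2 (Fintype.card F + 1) = 1 := by
  obtain ⟨j, hj⟩ : ∃ j, Fintype.card F = 4 * j + 1 := ⟨Fintype.card F / 4, by omega⟩
  rw [hj, show 4 * j + 1 + 1 = 2 * (2 * j + 1) by omega, padicValNat.mul two_ne_zero (by omega), padicValNat_self,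
    padicValNat.eq_zero_of_not_dvd (by omega)]

theorem exists_full_base (hq : Odd (Fintype.card F)) :
    ∃ (α : Type) (_ : Fintype α) (_ : DecidableEq α) (_ : Nonempty α) (S : Subgroup (GL α F)),
      Fintype.card α = 2 ^ (0 + 1) ∧ Full (⊤ : Subgroup (GL α F)) S ∧
      Nat.card S = 2 ^ padicValNat 2 (Nat.card (GL (Fin (2 ^ (0 + 1))) F)) := by
  haveI : Fact (Nat.Prime 2) := ⟨Nat.prime_two⟩
  have hq1 : 1 < Fintype.card F := Fintype.one_lt_card
  have h2 : (2 : F) ≠ 0 := Ring.two_ne_zero fun h => by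
    have := FiniteField.even_card_of_char_two h
    rw [Nat.odd_iff] at hq; omega
  rcases (show Fintype.card F % 4 = 1 ∨ Fintype.card F % 4 = 3 by rw [Nat.odd_iff] at hq; omega) with h4 | h4
  · set S₁ : Subgroup (GL (Fin 1) F) := ((default : Sylow 2 Fˣ) : Subgroup Fˣ).map (scl (Fin 1) F) with hS₁
    have hmem : ∀ c : Fˣ, Two c → c ∈ ((default : Sylow 2 Fˣ) : Subgroup Fˣ) := fun c ⟨k, hk⟩ => by
      have hp : IsPGroup 2 (Subgroup.zpowers c) := by
        rw [IsPGroup.iff_card, Nat.card_zpowers]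
        obtain ⟨i, -, hi⟩ := (Nat.dvd_prime_pow Nat.prime_two).1 (orderOf_dvd_of_pow_eq_one hk)
        exact ⟨i, hi⟩
      obtain ⟨P, hP⟩ := hp.exists_le_sylow
      haveI : (default : Sylow 2 Fˣ).toSubgroup.Normal := Subgroup.normal_of_isMulCommutative _
      haveI := Sylow.unique_of_normal (default : Sylow 2 Fˣ) this
      rw [Subsingleton.elim (default : Sylow 2 Fˣ) P]
      exact hP (Subgroup.mem_zpowers _)
    have hall : ∀ a : GL (Fin 1) F, Sc a := fun a => ⟨a.val 0 0, by
      ext i j; fin_cases i; fin_cases j; simp⟩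
    have hpre : Pre (⊤ : Subgroup (GL (Fin 1) F)) S₁ := by
      refine ⟨le_top, ?_, fun c _ hc => ⟨c, hmem c hc, rfl⟩, fun a _ => hall a, fun x _ _ => ?_, ?_⟩
      · rintro _ ⟨c, hc, rfl⟩
        obtain ⟨k, hk⟩ := (default : Sylow 2 Fˣ).isPGroup' ⟨c, hc⟩
        exact ⟨k, by rw [← map_pow, show c ^ 2 ^ k = 1 by simpa [Subtype.ext_iff] using hk, map_one]⟩
      · obtain ⟨c, hc⟩ := (hall x).exists_scl
        exact ⟨1, one_mem _, c, by rw [one_mul, hc]⟩
      · have h4d : 2 ^ 2 ∣ Nat.card Fˣ := by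
          rw [Nat.card_units, Nat.card_eq_fintype_card]; omega
        obtain ⟨Q, hQ⟩ := Sylow.exists_subgroup_card_pow_prime 2 h4d
        haveI : IsCyclic Q := inferInstance
        obtain ⟨g, hg⟩ := IsCyclic.exists_generator (α := Q)
        have hg4 : orderOf (g : Fˣ) = 4 := by
          rw [Subgroup.orderOf_coe, orderOf_eq_card_of_forall_mem_zpowers hg, hQ]; rfl
        refine ⟨scl (Fin 1) F g, ⟨g, hmem _ ⟨2, orderOf_dvd_iff_pow_eq_one.1 (by rw [hg4]; norm_num)⟩, rfl⟩, fun e => ?_⟩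
        rw [← map_mul] at e
        have := ent' e 0 0
        rw [scl_val] at this
        have h22 : (g : Fˣ) ^ 2 = 1 := Units.ext (by rw [sq]; simpa [Matrix.smul_apply] using this)
        have := orderOf_dvd_of_pow_eq_one h22
        rw [hg4] at this
        norm_num at this
    refine ⟨Fin 1 ⊕ Fin 1, inferInstance, inferInstance, inferInstance, dbl S₁, by simp,
      pre_dbl dbl_top hpre h2 trivial, ?_⟩
    have hinj : Function.Injective (scl (Fin 1) F) := fun a b e => by
      have := ent' e 0 0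
      rw [scl_val, scl_val] at this
      exact Units.ext (by simpa [Matrix.smul_apply] using this)
    rw [card_dbl, hS₁, Nat.card_congr (Subgroup.equivMapOfInjective _ _ hinj).symm.toEquiv,
      Sylow.card_eq_multiplicity, Nat.card_units, Nat.card_eq_fintype_card, Nat.factorization_def _ Nat.prime_two,
      GLWreath.padicValNat_card_GL hq, show (2 ^ (0 + 1)) / 2 = 1 by norm_num, vb_one h4, ← pow_mul, ← pow_succ']
    congr 1
    simp
    ring
  · refine ⟨Fin 2, inferInstance, inferInstance, inferInstance, semi F, by simp, full_semi h4, ?_⟩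
    rw [card_semi h2, card_tor2 h4, GLWreath.padicValNat_card_GL hq, ← pow_succ',
      show (2 ^ (0 + 1)) / 2 = 1 by norm_num, va_three h4]
    congr 1
    rw [show Fintype.card F * Fintype.card F - 1 = (Fintype.card F - 1) * (Fintype.card F + 1) by
      obtain ⟨j, hj⟩ : ∃ j, Fintype.card F = j + 1 := ⟨Fintype.card F - 1, by omega⟩
      rw [hj, Nat.add_sub_cancel]
      ring_nf
      omega, padicValNat.mul (by omega) (by omega), va_three h4]
    simp
    ring

theorem exists_full (hq : Odd (Fintype.card F)) : ∀ k : ℕ,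
    ∃ (α : Type) (_ : Fintype α) (_ : DecidableEq α) (_ : Nonempty α) (S : Subgroup (GL α F)),
      Fintype.card α = 2 ^ (k + 1) ∧ Full (⊤ : Subgroup (GL α F)) S ∧
      Nat.card S = 2 ^ padicValNat 2 (Nat.card (GL (Fin (2 ^ (k + 1))) F))
  | 0 => exists_full_base hq
  | k + 1 => by
    obtain ⟨α, i1, i2, i3, S, hc, hS, hn⟩ := exists_full hq k
    refine ⟨α ⊕ α, inferInstance, inferInstance, inferInstance, dbl S, ?_, pre_dbl dbl_top hS.pre ?_ trivial, ?_⟩
    · rw [Fintype.card_sum, hc]; ring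
    · refine Ring.two_ne_zero fun h => ?_
      have := FiniteField.even_card_of_char_two h
      rw [Nat.odd_iff] at hq; omega
    · rw [card_dbl, hn, v_double hq k, ← pow_mul, ← pow_succ']
      congr 1; ring

/-- Reindexing the special linear group. -/
def slReindex {α β : Type} [Fintype α] [DecidableEq α] [Fintype β] [DecidableEq β] (e : α ≃ β) :
    Matrix.SpecialLinearGroup α F ≃* Matrix.SpecialLinearGroup β F where
  toFun A := ⟨Matrix.reindex e e A.1, by rw [Matrix.det_reindex_self]; exact A.2⟩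
  invFun A := ⟨Matrix.reindex e.symm e.symm A.1, by rw [Matrix.det_reindex_self]; exact A.2⟩
  left_inv A := Subtype.ext (by ext; simp)
  right_inv A := Subtype.ext (by ext; simp)
  map_mul' A B := Subtype.ext (by
    show Matrix.reindex e e (A.1 * B.1) = Matrix.reindex e e A.1 * Matrix.reindex e e B.1
    simp)

theorem exists_selfnorm_SL (hq : Odd (Fintype.card F)) {w : ℕ} (hw : 2 ≤ w) :
    ∃ T : Sylow 2 (Matrix.SpecialLinearGroup (Fin (2 ^ w)) F),
      Subgroup.normalizer ((T : Subgroup (Matrix.SpecialLinearGroup (Fin (2 ^ w)) F)) : Set (Matrix.SpecialLinearGroup (Fin (2 ^ w)) F)) =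
        (T : Subgroup (Matrix.SpecialLinearGroup (Fin (2 ^ w)) F)) := by
  haveI : Fact (Nat.Prime 2) := ⟨Nat.prime_two⟩
  have h2 : (2 : F) ≠ 0 := Ring.two_ne_zero fun h => by
    have := FiniteField.even_card_of_char_two h
    rw [Nat.odd_iff] at hq; omega
  obtain ⟨k, rfl⟩ : ∃ k, w = k + 2 := ⟨w - 2, by omega⟩
  obtain ⟨α, i1, i2, i3, S, hc, hS, hn⟩ := exists_full hq k
  have hcard : Fintype.card (α ⊕ α) = 2 ^ (k + 2) := by rw [Fintype.card_sum, hc]; ring
  let e : α ⊕ α ≃ Fin (2 ^ (k + 2)) := Fintype.equivFinOfCardEq hcard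
  let ι : Matrix.SpecialLinearGroup (α ⊕ α) F →* GL (α ⊕ α) F := Matrix.SpecialLinearGroup.toGL
  have hι : Function.Injective ι := fun A B h => Subtype.ext (congrArg Units.val h)
  have hd := pre_dbl dbl_top hS.pre h2 trivial
  let mkSL : (u : GL (α ⊕ α) F) → u.val.det = 1 → Matrix.SpecialLinearGroup (α ⊕ α) F := fun u h => ⟨u.val, h⟩
  have hmk : ∀ u h, ι (mkSL u h) = u := fun u h => Units.ext rfl
  set T₀ := (dbl S).comap ι
  have hT₀p : IsPGroup 2 T₀ := by
    refine IsPGroup.comap_of_injective ?_ ι hι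
    intro y
    obtain ⟨i, hi⟩ := hd.pre.two y.1 y.2
    exact ⟨i, Subtype.ext (by simpa using hi)⟩
  -- `T₀` is a Sylow subgroup
  have hfull : Nat.card (dbl S) = 2 ^ (Nat.card (GL (α ⊕ α) F)).factorization 2 := by
    rw [card_dbl, hn, Nat.factorization_def _ Nat.prime_two, card_GL_congr e, v_double hq k, ← pow_mul, ← pow_succ']
    congr 1; ring
  let P : Sylow 2 (GL (α ⊕ α) F) := Sylow.ofCard (dbl S) hfull
  obtain ⟨T, hT⟩ := hT₀p.exists_le_sylow
  have hTT : (T : Subgroup (Matrix.SpecialLinearGroup (α ⊕ α) F)) = T₀ := by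
    obtain ⟨P', hP'⟩ := (T.isPGroup'.map ι).exists_le_sylow
    obtain ⟨g, hg⟩ := MulAction.exists_smul_eq (GL (α ⊕ α) F) P' P
    have hdetg : ∀ y : Matrix.SpecialLinearGroup (α ⊕ α) F, ((g * ι y * g⁻¹ : GL (α ⊕ α) F)).val.det = 1 := fun y => by
      rw [Units.val_mul, Units.val_mul, det_mul_right_comm, ← Units.val_mul, mul_inv_cancel, Units.val_one, one_mul]
      exact y.2
    let f : T → T₀ := fun y => ⟨mkSL (g * ι y.1 * g⁻¹) (hdetg y.1), by
      show ι _ ∈ dbl S
      rw [hmk]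
      have h1 : g * ι y.1 * g⁻¹ ∈ ((g • P' : Sylow 2 (GL (α ⊕ α) F)) : Subgroup (GL (α ⊕ α) F)) :=
        ⟨ι y.1, hP' ⟨y.1, y.2, rfl⟩, rfl⟩
      rw [hg] at h1
      exact h1⟩
    have hf : Function.Injective f := fun y y' h => by
      have := congrArg (fun z : T₀ => ι z.1) h
      simp only [f, hmk] at this
      exact Subtype.ext (hι (mul_left_cancel (mul_right_cancel this)))
    exact (Subgroup.eq_of_le_of_card_ge hT (Nat.card_le_card_of_injective f hf)).symm
  have hnorm : Subgroup.normalizer (T₀ : Set (Matrix.SpecialLinearGroup (α ⊕ α) F)) = T₀ := by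
    refine le_antisymm (fun x hx => ?_) Subgroup.le_normalizer
    have hev : Even (Fintype.card α) := by rw [hc, pow_succ]; exact even_two.mul_left _
    obtain ⟨y, hy, c, hco, hcn, hyd, hxy⟩ := special_normalizer dbl_top hS h2 trivial hev (x := ι x) trivial x.2
      (fun t ht => by
        obtain ⟨ht1, ht2⟩ := ht
        set t' := mkSL t (mem_sdet.1 ht2) with ht'
        have hmem : t' ∈ T₀ := by
          show ι _ ∈ dbl S
          rw [hmk]; exact ht1
        have h1 : ι (x * t' * x⁻¹) ∈ dbl S := (Subgroup.mem_normalizer_iff.1 hx _).1 hmem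
        have e1 : ι (x * t' * x⁻¹) = ι x * t * (ι x)⁻¹ := by rw [map_mul, map_mul, map_inv, hmk]
        refine ⟨e1 ▸ h1, mem_sdet.2 ?_⟩
        rw [← e1]; exact (x * t' * x⁻¹).2)
    have hc1 : c = 1 := by
      refine eq_one_of_two_of_odd ⟨k + 2, ?_⟩ hco
      rw [← hcard, Fintype.card_sum]; exact hcn
    show ι x ∈ dbl S
    rw [hxy, hc1, map_one, mul_one]; exact hy
  have hs : Function.Surjective (slReindex (F := F) e).toMonoidHom := (slReindex e).surjective
  refine ⟨T.mapSurjective hs, ?_⟩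
  rw [Sylow.coe_mapSurjective, hTT, ← Subgroup.map_normalizer_eq_of_bijective _ (f := (slReindex (F := F) e).toMonoidHom) (slReindex e).bijective, hnorm]

/-- `PSL_{2^w}(q)` has a self-normalising Sylow 2-subgroup. -/
theorem exists_selfnorm_PSL (hq : Odd (Fintype.card F)) {w : ℕ} (hw : 2 ≤ w) :
    ∃ T : Sylow 2 (Matrix.ProjectiveSpecialLinearGroup (Fin (2 ^ w)) F),
      Subgroup.normalizer ((T : Subgroup (Matrix.ProjectiveSpecialLinearGroup (Fin (2 ^ w)) F)) :
        Set (Matrix.ProjectiveSpecialLinearGroup (Fin (2 ^ w)) F)) =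
        (T : Subgroup (Matrix.ProjectiveSpecialLinearGroup (Fin (2 ^ w)) F)) := by
  haveI : Fact (Nat.Prime 2) := ⟨Nat.prime_two⟩
  obtain ⟨T, hT⟩ := exists_selfnorm_SL (F := F) hq hw
  set π := QuotientGroup.mk' (Subgroup.center (Matrix.SpecialLinearGroup (Fin (2 ^ w)) F))
  have hZ : Subgroup.center (Matrix.SpecialLinearGroup (Fin (2 ^ w)) F) ≤ (T : Subgroup _) := by
    have hp : IsPGroup 2 (Subgroup.center (Matrix.SpecialLinearGroup (Fin (2 ^ w)) F)) := by
      intro z
      refine ⟨w, Subtype.ext (Subtype.ext ?_)⟩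
      obtain ⟨r, hr1, hr2⟩ := Matrix.SpecialLinearGroup.mem_center_iff.1 z.2
      rw [Subgroup.coe_pow, Matrix.SpecialLinearGroup.coe_pow, ← hr2, Subgroup.coe_one,
        Matrix.SpecialLinearGroup.coe_one, ← map_pow, show r ^ 2 ^ w = 1 by simpa using hr1, map_one]
    obtain ⟨T', hT'⟩ := hp.exists_le_sylow
    obtain ⟨g, hg⟩ := MulAction.exists_smul_eq (Matrix.SpecialLinearGroup (Fin (2 ^ w)) F) T' T
    intro z hz
    rw [← hg]
    exact ⟨z, hT' hz, by simp [Subgroup.mem_center_iff.1 hz g]⟩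
  refine ⟨T.mapSurjective (QuotientGroup.mk'_surjective _), le_antisymm (fun x hx => ?_) Subgroup.le_normalizer⟩
  obtain ⟨y, rfl⟩ := QuotientGroup.mk'_surjective _ x
  have hcm : ((T : Subgroup _).map π).comap π = T := by
    rw [Subgroup.comap_map_eq, QuotientGroup.ker_mk', sup_eq_left.2 hZ]
  refine ⟨y, ?_, rfl⟩
  show y ∈ (T : Subgroup _)
  rw [← hT, Subgroup.mem_normalizer_iff]
  intro t
  show t ∈ (T : Subgroup _) ↔ y * t * y⁻¹ ∈ (T : Subgroup _)
  rw [Sylow.coe_mapSurjective] at hx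
  rw [← hcm, Subgroup.mem_comap, Subgroup.mem_comap, map_mul, map_mul, map_inv]
  exact Subgroup.mem_normalizer_iff.1 hx (π t)

end Cfsg.Agent.Lie.TwoDouble
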