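import Cfsg.Agent.Lib.Classical.Unit

/-!
The 2-part of the order of `GU_n(q)`, `q` odd.
-/

set_option autoImplicit false
set_option linter.unusedSectionVars false

namespace Cfsg.Agent.Lie.TwoUnitCard

open Cfsg.Agent.Classical

variable {q : ℕ} (hq : Odd q) (hq1 : 1 < q)

include hq hq1

theorem v_pow_sub_odd {i : ℕ} (hi : Odd i) : padicValNat 2 (q ^ i - 1) = padicValNat 2 (q - 1) := by
  have h1 : 1 ≤ q := hq1.le
  have hgeo : q ^ i - 1 = (q - 1) * ∑ t ∈ Finset.range i, q ^ t := by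
    zify [h1, Nat.one_le_pow i q h1]
    rw [mul_comm, geom_sum_mul]
  have hs : ¬ 2 ∣ ∑ t ∈ Finset.range i, q ^ t := by
    rw [← ZMod.natCast_eq_zero_iff, Nat.cast_sum]
    have : (q : ZMod 2) = 1 := by rw [← ZMod.natCast_mod, Nat.odd_iff.1 hq, Nat.cast_one]
    simp only [Nat.cast_pow, this, one_pow, Finset.sum_const, Finset.card_range, nsmul_one]
    rw [ZMod.natCast_eq_zero_iff]
    rw [Nat.odd_iff] at hi
    omega
  rw [hgeo, padicValNat.mul (by omega) (fun h => hs (by rw [h]; exact dvd_zero 2)),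
    padicValNat.eq_zero_of_not_dvd hs, add_zero]

theorem v_pow_sub_even (j : ℕ) :
    padicValNat 2 (q ^ (2 * (j + 1)) - 1) = padicValNat 2 (q - 1) + padicValNat 2 (q + 1) + padicValNat 2 (j + 1) := by
  have h := padicValNat.pow_two_sub_one hq1 (by rw [Nat.odd_iff] at hq; omega)
    (n := 2 * (j + 1)) (by omega) (even_two_mul _)
  rw [padicValNat.mul (by norm_num) (by omega), padicValNat_self] at h
  omega

theorem v_pow_add_odd {i : ℕ} (hi : Odd i) : padicValNat 2 (q ^ i + 1) = padicValNat 2 (q + 1) := by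
  obtain ⟨j, rfl⟩ := hi
  have h := v_pow_sub_even hq hq1 (2 * j)
  have hpos : 1 < q ^ (2 * j + 1) := Nat.one_lt_pow (by omega) hq1
  have e : q ^ (2 * (2 * j + 1)) - 1 = (q ^ (2 * j + 1) - 1) * (q ^ (2 * j + 1) + 1) := by
    rw [show q ^ (2 * (2 * j + 1)) = q ^ (2 * j + 1) * q ^ (2 * j + 1) by rw [← pow_add]; ring_nf]
    obtain ⟨a, ha⟩ : ∃ a, q ^ (2 * j + 1) = a + 1 := ⟨_, (Nat.sub_add_cancel hpos.le).symm⟩
    rw [ha, Nat.add_sub_cancel, show (a + 1) * (a + 1) = a * (a + 1 + 1) + 1 by ring, Nat.add_sub_cancel]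
  rw [e, padicValNat.mul (by omega) (by omega), v_pow_sub_odd hq hq1 ⟨j, rfl⟩,
    padicValNat.eq_zero_of_not_dvd (n := 2 * j + 1) (by omega)] at h
  omega

omit hq1 in
theorem padicValNat_card_GU {F : Type*} [Field F] [Fintype F] (hF : Fintype.card F = q ^ 2) (n : ℕ) :
    padicValNat 2 (Nat.card (GU n F q)) =
      n * padicValNat 2 (q + 1) + n / 2 * padicValNat 2 (q - 1) + padicValNat 2 (n / 2).factorial := by
  have hq1 : 1 < q := two_le_q hF
  have hne : ∀ i, (if Even i then q ^ (i + 1) + 1 else q ^ (i + 1) - 1) ≠ 0 := fun i => by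
    have := Nat.one_lt_pow (n := i + 1) (by omega) hq1
    split_ifs <;> omega
  have hcard : Nat.card (GU n F q) = q ^ (n * (n - 1) / 2) *
      ∏ i ∈ Finset.range n, (if Even i then q ^ (i + 1) + 1 else q ^ (i + 1) - 1) := by
    have h := order_GU hF n
    rw [← Finset.prod_congr rfl fun i _ => cast_gu_factor hq1.le i] at h
    exact_mod_cast h
  rw [hcard, padicValNat.mul (pow_ne_zero _ (by omega)) (Finset.prod_ne_zero_iff.2 fun i _ => hne i),
    padicValNat.pow, padicValNat.eq_zero_of_not_dvd (n := q) (by rw [Nat.odd_iff] at hq; omega), mul_zero,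
    zero_add]
  clear hcard
  induction n with
  | zero => simp
  | succ m ih =>
    rw [Finset.prod_range_succ, padicValNat.mul (Finset.prod_ne_zero_iff.2 fun i _ => hne i) (hne m), ih]
    rcases Nat.even_or_odd m with hm | hm
    · rw [if_pos hm, v_pow_add_odd hq hq1 hm.add_one, show (m + 1) / 2 = m / 2 by rw [Nat.even_iff] at hm; omega]
      ring
    · rw [if_neg (Nat.not_even_iff_odd.2 hm)]
      obtain ⟨j, rfl⟩ := hm
      rw [show 2 * j + 1 + 1 = 2 * (j + 1) by ring, v_pow_sub_even hq hq1 j, show (2 * j + 1) / 2 = j by omega,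
        Nat.mul_div_cancel_left (j + 1) two_pos, Nat.factorial_succ,
        padicValNat.mul (Nat.succ_ne_zero j) (Nat.factorial_ne_zero j)]
      ring

end Cfsg.Agent.Lie.TwoUnitCard
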