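import Cfsg.Agent.Lib.Lie.TwoSylowSL
import Cfsg.Agent.Lib.Lie.TwoUnitCard
import Cfsg.Agent.Lib.Classical.UnitHeisenberg

/-!
Sylow 2-subgroups of `GU_{2^(k+1)}(q)`, `q` odd, for the doubling machine.
-/

set_option autoImplicit false
set_option linter.unusedSectionVars false

namespace Cfsg.Agent.Lie.TwoUnitBase

open Matrix Cfsg.Agent.Classical Cfsg.Agent.Lie.TwoDouble

universe u
variable {F : Type u} [Field F] [Fintype F] {q : ℕ} (hF : Fintype.card F = q ^ 2)

local notation "cj" => qFrob hF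

/-- The unitary group of the identity form. -/
def GUg (α : Type) [Fintype α] [DecidableEq α] : Subgroup (GL α F) where
  carrier := {g | (g : Matrix α α F)ᵀ * (g : Matrix α α F).map cj = 1}
  one_mem' := by simp
  mul_mem' := fun {a b} ha hb => by
    show (a.val * b.val)ᵀ * (a.val * b.val).map cj = 1
    rw [Matrix.transpose_mul, Matrix.map_mul, mul_assoc, ← mul_assoc ((a : Matrix α α F)ᵀ),
      show (a : Matrix α α F)ᵀ * (a : Matrix α α F).map cj = 1 from ha, one_mul]
    exact hb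
  inv_mem' := fun {a} ha => by
    show ((a⁻¹ : GL α F) : Matrix α α F)ᵀ * ((a⁻¹ : GL α F) : Matrix α α F).map cj = 1
    have h1 : (a : Matrix α α F) * (a⁻¹ : GL α F).val = 1 := a.mul_inv
    calc _ = ((a⁻¹ : GL α F) : Matrix α α F)ᵀ * ((a : Matrix α α F)ᵀ * (a : Matrix α α F).map cj) *
          ((a⁻¹ : GL α F) : Matrix α α F).map cj := by
            rw [show (a : Matrix α α F)ᵀ * (a : Matrix α α F).map cj = 1 from ha, mul_one]
      _ = ((a : Matrix α α F) * (a⁻¹ : GL α F).val)ᵀ * ((a : Matrix α α F) * (a⁻¹ : GL α F).val).map cj := by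
            rw [Matrix.transpose_mul, Matrix.map_mul]; simp only [mul_assoc]
      _ = 1 := by rw [h1]; simp

theorem mem_GUg {α : Type} [Fintype α] [DecidableEq α] {g : GL α F} :
    g ∈ GUg hF α ↔ (g : Matrix α α F)ᵀ * (g : Matrix α α F).map cj = 1 := Iff.rfl

theorem dbl_GUg (α : Type) [Fintype α] [DecidableEq α] : Dbl (GUg hF α) (GUg hF (α ⊕ α)) := by
  refine ⟨fun a b => ?_, ?_⟩
  · rw [mem_GUg, mem_GUg, mem_GUg, D_val, fromBlocks_transpose, fromBlocks_map, fromBlocks_multiply,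
      ← fromBlocks_one, fromBlocks_inj]
    simp
  · rw [mem_GUg]
    simp [W, fromBlocks_transpose, fromBlocks_map, fromBlocks_multiply, fromBlocks_one]

theorem scl_mem_iff {α : Type} [Fintype α] [DecidableEq α] [Nonempty α] {c : Fˣ} :
    scl α F c ∈ GUg hF α ↔ c ^ (q + 1) = 1 := by
  rw [mem_GUg, scl_val, Matrix.smul_one_eq_diagonal, Matrix.diagonal_transpose, Matrix.diagonal_map (map_zero _),
    Matrix.diagonal_mul_diagonal, Units.ext_iff, Units.val_pow_eq_pow_val, Units.val_one, pow_succ',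
    ← Matrix.diagonal_one, Matrix.diagonal_eq_diagonal_iff]
  exact ⟨fun h => h (Classical.arbitrary α), fun h _ => h⟩

theorem neg_mem (α : Type) [Fintype α] [DecidableEq α] : scl α F (-1) ∈ GUg hF α := by
  rw [mem_GUg, scl_val]
  ext i j
  simp [Matrix.mul_apply, Matrix.one_apply, neg_one_smul]

/-- `GUg` and `GU`. -/
def guEquiv {α : Type} [Fintype α] [DecidableEq α] {n : ℕ} (e : α ≃ Fin n) : GUg hF α ≃ GU n F q where
  toFun g := ⟨Units.mapEquiv (Matrix.reindexRingEquiv F e).toMulEquiv g.1, by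
    refine preserves_of_transpose_mul hF (M := Matrix.reindex e e g.1.val) ?_
    rw [Matrix.reindex_apply, Matrix.transpose_submatrix, ← Matrix.submatrix_map, Matrix.submatrix_mul_equiv,
      show (g.1.val)ᵀ * g.1.val.map cj = 1 from g.2, Matrix.submatrix_one_equiv]⟩
  invFun g := ⟨Units.mapEquiv (Matrix.reindexRingEquiv F e.symm).toMulEquiv g.1, by
    show (Matrix.reindex e.symm e.symm g.1.val)ᵀ * (Matrix.reindex e.symm e.symm g.1.val).map cj = 1
    rw [Matrix.reindex_apply, Matrix.transpose_submatrix, ← Matrix.submatrix_map, Matrix.submatrix_mul_equiv,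
      show g.1.valᵀ * g.1.val.map cj = 1 from transpose_mul_of_preserves hF g.2, Matrix.submatrix_one_equiv]⟩
  left_inv g := Subtype.ext (Units.ext (by ext; simp))
  right_inv g := Subtype.ext (Units.ext (by ext; simp))

theorem card_GUg {α : Type} [Fintype α] [DecidableEq α] {n : ℕ} (e : α ≃ Fin n) :
    Nat.card (GUg hF α) = Nat.card (GU n F q) := Nat.card_congr (guEquiv hF e)

/-- `Pre` and `Full` transport along conjugation. -/
theorem full_map {α : Type} [Fintype α] [DecidableEq α] {Γ S : Subgroup (GL α F)} (P : GL α F)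
    (h : Full Γ S) : Full (Γ.map (MulAut.conj P).toMonoidHom) (S.map (MulAut.conj P).toMonoidHom) := by
  set c := (MulAut.conj P).toMonoidHom with hc
  have hcv : ∀ x, c x = P * x * P⁻¹ := fun x => rfl
  have hscl : ∀ u : Fˣ, c (scl α F u) = scl α F u := fun u => by rw [hcv, ← scl_comm, mul_inv_cancel_right]
  have hinj : Function.Injective c := (MulAut.conj P).injective
  have hsc : ∀ a, Sc a → Sc (c a) := fun a ha => ⟨ha.choose, by
    rw [hcv, ← ha.comm, mul_inv_cancel_right]; exact ha.choose_spec⟩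
  have hmod : ∀ a b, Cmod (c a) (c b) → Cmod a b := fun a b ⟨u, hu⟩ => ⟨u, hinj (by
    rw [map_mul, hu, map_mul, map_mul, hscl])⟩
  have hdet : ∀ x, (c x).val.det = x.val.det := fun x => by
    rw [hcv, Units.val_mul, Units.val_mul, det_units_conj]
  refine ⟨⟨Subgroup.map_mono h.pre.le, ?_, ?_, ?_, ?_, ?_⟩, ?_, ?_⟩
  · rintro _ ⟨x, hx, rfl⟩
    obtain ⟨k, hk⟩ := h.pre.two x hx
    exact ⟨k, by rw [← map_pow, hk, map_one]⟩
  · rintro u ⟨y, hy, hyu⟩ h2
    have : y = scl α F u := hinj (hyu.trans (hscl u).symm)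
    exact ⟨y, this ▸ h.pre.scal u (this ▸ hy) h2, hyu⟩
  · intro a ha
    obtain ⟨a, rfl⟩ := (MulAut.conj P).surjective a
    exact hsc a (h.pre.cen a fun s hs => hinj (by rw [map_mul, map_mul]; exact ha _ ⟨s, hs, rfl⟩))
  · rintro _ ⟨x, hx, rfl⟩ hxs
    obtain ⟨s, hs, u, rfl⟩ := h.pre.nrm x hx fun s hs => by
      obtain ⟨y, hy, hye⟩ := hxs _ ⟨s, hs, rfl⟩
      rw [← map_inv, ← map_mul, ← map_mul] at hye
      exact hinj hye ▸ hy
    exact ⟨c s, ⟨s, hs, rfl⟩, u, by rw [map_mul, hscl]⟩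
  · obtain ⟨s, hs, hs2⟩ := h.pre.big
    exact ⟨c s, ⟨s, hs, rfl⟩, fun e => hs2 (hinj (by rw [map_mul, e, map_one]))⟩
  · rintro _ ⟨a, ha, rfl⟩ hA hd
    exact hsc a (h.sep a ha (fun s hs => hmod _ _ (hA _ ⟨s, hs, rfl⟩)) fun s hs h1 =>
      hinj (by rw [map_mul, map_mul]; exact hd _ ⟨s, hs, rfl⟩ (by rw [hdet]; exact h1)))
  · obtain ⟨s, hs, hd, hn⟩ := h.ns
    refine ⟨c s, ⟨s, hs, rfl⟩, by rw [hdet]; exact hd, fun hS => hn ?_⟩
    obtain ⟨r, hr⟩ := hS
    refine ⟨r, ?_⟩
    rw [show s = P⁻¹ * c s * P by rw [hcv]; group, Units.val_mul, Units.val_mul, hr]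
    rw [Matrix.mul_smul, mul_one, Matrix.smul_mul, Units.inv_mul]

section Hyperbolic

/-- The diagonal elements preserving the hyperbolic form. -/
noncomputable def td : Fˣ →* GL (Fin 2) F where
  toFun a := Matrix.GeneralLinearGroup.mkOfDetNeZero !![(a : F), 0; 0, (((a ^ q)⁻¹ : Fˣ) : F)]
    (by rw [Matrix.det_fin_two_of]; simp)
  map_one' := Units.ext (by
    ext i j; fin_cases i <;> fin_cases j <;> simp [Matrix.GeneralLinearGroup.mkOfDetNeZero])
  map_mul' a b := Units.ext (by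
    show !![((a * b : Fˣ) : F), 0; 0, ((((a * b) ^ q)⁻¹ : Fˣ) : F)] =
      !![(a : F), 0; 0, (((a ^ q)⁻¹ : Fˣ) : F)] * !![(b : F), 0; 0, (((b ^ q)⁻¹ : Fˣ) : F)]
    rw [Matrix.mul_fin_two]
    simp [mul_pow, mul_comm])

theorem td_val (a : Fˣ) : ((td (q := q) a : GL (Fin 2) F)).val = !![(a : F), 0; 0, (((a ^ q)⁻¹ : Fˣ) : F)] := rfl

/-- The swap. -/
def w2 : GL (Fin 2) F := Matrix.GeneralLinearGroup.mkOfDetNeZero !![0, 1; 1, 0] (by simp [Matrix.det_fin_two_of])

theorem w2_val : ((w2 : GL (Fin 2) F)).val = !![0, 1; 1, 0] := rfl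

theorem w2_sq : (w2 : GL (Fin 2) F) * w2 = 1 := Units.ext (by
  rw [Units.val_mul, w2_val]; ext i j; fin_cases i <;> fin_cases j <;> simp [Matrix.mul_apply, Fin.sum_univ_two])

/-- The unitary group of the hyperbolic plane. -/
def GUh : Subgroup (GL (Fin 2) F) where
  carrier := {g | g.valᵀ * (w2 : GL (Fin 2) F).val * g.val.map cj = (w2 : GL (Fin 2) F).val}
  one_mem' := by simp
  mul_mem' := fun {a b} ha hb => by
    show (a.val * b.val)ᵀ * _ * (a.val * b.val).map cj = _
    rw [Matrix.transpose_mul, Matrix.map_mul]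
    calc _ = b.valᵀ * (a.valᵀ * (w2 : GL (Fin 2) F).val * a.val.map cj) * b.val.map cj := by simp only [mul_assoc]
      _ = _ := by rw [show a.valᵀ * (w2 : GL (Fin 2) F).val * a.val.map cj = _ from ha]; exact hb
  inv_mem' := fun {a} ha => by
    show (a⁻¹).valᵀ * _ * (a⁻¹).val.map cj = _
    calc _ = (a⁻¹).valᵀ * (a.valᵀ * (w2 : GL (Fin 2) F).val * a.val.map cj) * (a⁻¹).val.map cj := by
            rw [show a.valᵀ * (w2 : GL (Fin 2) F).val * a.val.map cj = _ from ha]
      _ = (a.val * (a⁻¹).val)ᵀ * (w2 : GL (Fin 2) F).val * (a.val * (a⁻¹).val).map cj := by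
            rw [Matrix.transpose_mul, Matrix.map_mul]; simp only [mul_assoc]
      _ = _ := by rw [a.mul_inv]; simp

theorem td_mem (a : Fˣ) : td (q := q) a ∈ GUh hF := by
  show (td a).valᵀ * _ * _ = _
  have hq0 : q ≠ 0 := by have := two_le_q hF; omega
  ext i j
  fin_cases i <;> fin_cases j <;>
    simp [td_val, w2_val, Matrix.mul_apply, Fin.sum_univ_two, qFrob_apply, hq0, ← pow_mul, ← sq, ← hF, FiniteField.pow_card]

theorem w2_mem : w2 ∈ GUh hF := by
  show (w2 : GL (Fin 2) F).valᵀ * _ * _ = _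
  ext i j
  fin_cases i <;> fin_cases j <;> simp [w2_val, Matrix.mul_apply, Fin.sum_univ_two]

include hF in
theorem w2_mul_td (a : Fˣ) : w2 * td (q := q) a = td (q := q) (a ^ q)⁻¹ * w2 := Units.ext (by
  rw [Units.val_mul, Units.val_mul, w2_val, td_val, td_val, Matrix.mul_fin_two, Matrix.mul_fin_two]
  have e : (((((a ^ q)⁻¹) ^ q)⁻¹ : Fˣ) : F) = a := by
    rw [inv_pow, inv_inv, ← pow_mul, ← sq, ← hF, Units.val_pow_eq_pow_val, FiniteField.pow_card]
  simp only [e, mul_zero, mul_one, zero_mul, one_mul, add_zero, zero_add])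

theorem td_inj : Function.Injective (td (F := F) (q := q)) := fun a b e =>
  Units.ext (by simpa [td_val] using (ent' e 0 0))

/-- The semidihedral group in hyperbolic coordinates. -/
noncomputable def semiH : Subgroup (GL (Fin 2) F) where
  carrier := {x | ∃ a : Fˣ, Two a ∧ (x = td (q := q) a ∨ x = td (q := q) a * w2)}
  one_mem' := ⟨1, ⟨0, one_pow _⟩, Or.inl (map_one _).symm⟩
  mul_mem' := by
    have hm : ∀ a b : Fˣ, Two a → Two b → Two (a * b) := fun a b ⟨i, hi⟩ ⟨j, hj⟩ => ⟨i + j, by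
      rw [mul_pow, pow_add, pow_mul, hi, one_pow, one_mul, mul_comm (2 ^ i), pow_mul, hj, one_pow]⟩
    have hs : ∀ a : Fˣ, Two a → Two (a ^ q)⁻¹ := fun a ⟨i, hi⟩ => ⟨i, by
      rw [inv_pow, ← pow_mul, mul_comm q, pow_mul, hi, one_pow, inv_one]⟩
    rintro _ _ ⟨a, ha, rfl | rfl⟩ ⟨b, hb, rfl | rfl⟩
    · exact ⟨_, hm _ _ ha hb, Or.inl (map_mul _ _ _).symm⟩
    · exact ⟨_, hm _ _ ha hb, Or.inr (by rw [map_mul, mul_assoc])⟩
    · refine ⟨_, hm _ _ ha (hs _ hb), Or.inr ?_⟩
      rw [mul_assoc, w2_mul_td hF, map_mul, mul_assoc]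
    · refine ⟨_, hm _ _ ha (hs _ hb), Or.inl ?_⟩
      rw [mul_assoc, ← mul_assoc w2, w2_mul_td hF, mul_assoc, w2_sq, mul_one, map_mul]
  inv_mem' := by
    rintro _ ⟨a, ⟨i, hi⟩, rfl | rfl⟩
    · exact ⟨a⁻¹, ⟨i, by rw [inv_pow, hi, inv_one]⟩, Or.inl (map_inv _ _).symm⟩
    · refine ⟨(a⁻¹ ^ q)⁻¹, ⟨i, by rw [inv_pow a, inv_inv, ← pow_mul, mul_comm q, pow_mul, hi, one_pow]⟩,
        Or.inr ?_⟩
      rw [_root_.mul_inv_rev, inv_eq_of_mul_eq_one_right w2_sq, ← map_inv, w2_mul_td hF]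

theorem td_ne (a b : Fˣ) : td (q := q) a ≠ td (q := q) b * w2 := fun e => by
  simpa [td_val, w2_val, Matrix.mul_apply, Fin.sum_univ_two] using (ent' e 0 0)

variable (hodd : q % 4 = 1)

include hF hodd

/-- A generator of the 2-part of `Fˣ`. -/
theorem exists_gen : ∃ g : Fˣ, Two g ∧ (∀ a : Fˣ, Two a → a ∈ Subgroup.zpowers g) ∧
    Nat.card (Subgroup.zpowers g) = 2 ^ padicValNat 2 (q ^ 2 - 1) ∧
    (g ^ (q + 1)) ^ 2 ≠ 1 ∧ g ^ (q - 1) = -1 := by
  classical
  haveI : Fact (Nat.Prime 2) := ⟨Nat.prime_two⟩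
  obtain ⟨u, hu⟩ := IsCyclic.exists_ofOrder_eq_natCard (α := Fˣ)
  rw [Nat.card_units, Nat.card_eq_fintype_card, hF] at hu
  have hq5 : 5 ≤ q := by have := two_le_q hF; omega
  have hq2 : q ^ 2 - 1 ≠ 0 := by
    have : 1 < q ^ 2 := Nat.one_lt_pow two_ne_zero (by omega)
    omega
  obtain ⟨r, hr⟩ := pow_padicValNat_dvd (p := 2) (n := q ^ 2 - 1)
  set V := padicValNat 2 (q ^ 2 - 1) with hV
  have hr0 : r ≠ 0 := fun e => hq2 (by rw [hr, e, mul_zero])
  have hrodd : ¬ 2 ∣ r := fun ⟨r', e⟩ => by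
    have h1 : 2 ^ (V + 1) ∣ q ^ 2 - 1 := ⟨r', by rw [hr, e, pow_succ]; ring⟩
    rw [padicValNat_dvd_iff_le hq2] at h1
    omega
  have hg : orderOf (u ^ r) = 2 ^ V := by
    rw [orderOf_pow' _ hr0, hu, hr, Nat.gcd_mul_left_left, Nat.mul_div_cancel _ (Nat.pos_of_ne_zero hr0)]
  have hprod : q ^ 2 - 1 = (q - 1) * (q + 1) := by
    obtain ⟨j, rfl⟩ : ∃ j, q = j + 1 := ⟨q - 1, by omega⟩
    rw [Nat.add_sub_cancel, show (j + 1) ^ 2 = j * (j + 1 + 1) + 1 by ring, Nat.add_sub_cancel]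
  obtain ⟨j, hj⟩ : ∃ j, q = 4 * j + 1 := ⟨q / 4, by omega⟩
  have hVB : padicValNat 2 (q + 1) = 1 := by
    rw [hj, show 4 * j + 1 + 1 = 2 * (2 * j + 1) by omega, padicValNat.mul two_ne_zero (by omega), padicValNat_self,
      padicValNat.eq_zero_of_not_dvd (by omega)]
  have hVA : 2 ≤ padicValNat 2 (q - 1) := (padicValNat_dvd_iff_le (p := 2) (by omega)).1 ⟨j, by omega⟩
  have hVsum : V = padicValNat 2 (q - 1) + 1 := by
    rw [hV, hprod, padicValNat.mul (by omega) (by omega), hVB]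
  refine ⟨u ^ r, ⟨V, by rw [← hg, pow_orderOf_eq_one]⟩, fun a ⟨k, hk⟩ => ?_, by rw [Nat.card_zpowers, hg], ?_, ?_⟩
  · obtain ⟨i, -, hi⟩ := (Nat.dvd_prime_pow Nat.prime_two).1 (orderOf_dvd_of_pow_eq_one hk)
    have hd : orderOf a ∣ q ^ 2 - 1 := by
      rw [← hF, ← Fintype.card_units]; exact orderOf_dvd_card
    have ha : a ^ 2 ^ V = 1 := by
      rw [hi, padicValNat_dvd_iff_le hq2] at hd
      exact orderOf_dvd_iff_pow_eq_one.1 (hi ▸ Nat.pow_dvd_pow 2 hd)
    have hker : Subgroup.zpowers (u ^ r) = (powMonoidHom (2 ^ V) : Fˣ →* Fˣ).ker := by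
      refine Subgroup.eq_of_le_of_card_ge (Subgroup.zpowers_le.2 ?_) ?_
      · show (u ^ r) ^ 2 ^ V = 1
        rw [← hg, pow_orderOf_eq_one]
      · rw [IsCyclic.card_powMonoidHom_ker, Nat.card_zpowers, hg]
        exact Nat.gcd_le_right _ (by positivity)
    rw [hker]
    exact ha
  · intro e
    rw [← pow_mul] at e
    have h1 := orderOf_dvd_of_pow_eq_one e
    rw [hg, padicValNat_dvd_iff_le (by omega), padicValNat.mul (by omega) (by omega), hVB, padicValNat_self] at h1
    omega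
  · have h2 : (u ^ r) ^ (q - 1) * (u ^ r) ^ (q - 1) = 1 := by
      rw [← pow_add, ← orderOf_dvd_iff_pow_eq_one, hg, padicValNat_dvd_iff_le (by omega),
        show q - 1 + (q - 1) = 2 * (q - 1) by omega, padicValNat.mul (by omega) (by omega), padicValNat_self]
      omega
    have h1 : (u ^ r) ^ (q - 1) ≠ 1 := by
      intro e
      have h := orderOf_dvd_of_pow_eq_one e
      rw [hg, padicValNat_dvd_iff_le (by omega)] at h
      omega
    rcases mul_self_eq_one_iff.1 (show ((u ^ r) ^ (q - 1) : Fˣ).val * ((u ^ r) ^ (q - 1) : Fˣ).val = 1 by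
      rw [← Units.val_mul, h2, Units.val_one]) with h | h
    · exact absurd (Units.ext h) h1
    · exact Units.ext (by rw [h]; simp)

theorem card_semiH : Nat.card (semiH hF) = 2 * 2 ^ padicValNat 2 (q ^ 2 - 1) := by
  obtain ⟨g, ⟨k, hk⟩, hgen, hc, -, -⟩ := exists_gen hF hodd
  have htwo : ∀ a ∈ Subgroup.zpowers g, Two a := by
    rintro _ ⟨i, rfl⟩
    exact ⟨k, by rw [← zpow_natCast, ← _root_.zpow_mul, mul_comm, _root_.zpow_mul, zpow_natCast, hk, _root_.one_zpow]⟩
  let f : Bool × Subgroup.zpowers g → semiH hF := fun p =>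
    ⟨if p.1 then td (q := q) p.2.1 else td (q := q) p.2.1 * w2, by
      split
      · exact ⟨_, htwo _ p.2.2, Or.inl rfl⟩
      · exact ⟨_, htwo _ p.2.2, Or.inr rfl⟩⟩
  have hf : Function.Bijective f := by
    constructor
    · rintro ⟨e, a⟩ ⟨e', a'⟩ h
      have h' := congrArg Subtype.val h
      cases e <;> cases e' <;> simp [f] at h'
      · rw [Subtype.ext (td_inj h')]
      · exact absurd h'.symm (td_ne _ _)
      · exact absurd h' (td_ne _ _)
      · rw [Subtype.ext (td_inj h')]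
    · rintro ⟨x, a, ha, hx | hx⟩
      · exact ⟨(true, ⟨a, hgen a ha⟩), Subtype.ext hx.symm⟩
      · exact ⟨(false, ⟨a, hgen a ha⟩), Subtype.ext hx.symm⟩
  rw [← Nat.card_eq_of_bijective f hf, Nat.card_prod, Nat.card_eq_fintype_card (α := Bool), Fintype.card_bool, hc]

theorem full_semiH : Full (GUh hF) (semiH hF) := by
  obtain ⟨g, hg2, hgen, -, hgs, hgm⟩ := exists_gen hF hodd
  have h2 : (2 : F) ≠ 0 := Ring.two_ne_zero fun h => by
    have := FiniteField.even_card_of_char_two h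
    rw [hF, Nat.pow_mod] at this
    have : q % 2 = 1 := by omega
    simp [this] at *
  have hgS : td (q := q) g ∈ semiH hF := ⟨g, hg2, Or.inl rfl⟩
  have hwS : w2 ∈ semiH hF := ⟨1, ⟨0, one_pow _⟩, Or.inr (by rw [map_one, one_mul])⟩
  set g' : Fˣ := (g ^ q)⁻¹ with hg'
  have hne : (g : F) ≠ g' := fun e => hgs (by
    have e1 : g = (g ^ q)⁻¹ := Units.ext e
    have e2 : g * g ^ q = 1 := by nth_rw 1 [e1]; exact inv_mul_cancel _
    rw [pow_succ' g q, e2, one_pow])
  have hne' : (g : F) + g' ≠ 0 := fun e => hgs (by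
    have e1 : g' = -g := Units.ext (by rw [Units.val_neg]; linear_combination e)
    have : g ^ q * g' = 1 := mul_inv_cancel _
    rw [e1, mul_neg, ← pow_succ] at this
    rw [show g ^ (q + 1) = -1 from neg_eq_iff_eq_neg.1 this, neg_one_sq])
  -- commuting with the torus element forces a diagonal matrix
  have hdiag : ∀ (x : GL (Fin 2) F) (b : Fˣ), x * td (q := q) g = td (q := q) b * x →
      (x.val 0 1 = 0 ∧ x.val 1 0 = 0) ∨ (x.val 0 0 = 0 ∧ x.val 1 1 = 0) := by
    intro x b e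
    have e' := congrArg Units.val e
    rw [Units.val_mul, Units.val_mul, td_val, td_val] at e'
    have a00 := congrFun (congrFun e' 0) 0
    have a01 := congrFun (congrFun e' 0) 1
    have a10 := congrFun (congrFun e' 1) 0
    have a11 := congrFun (congrFun e' 1) 1
    simp only [Matrix.mul_apply, Fin.sum_univ_two, Matrix.of_apply, Matrix.cons_val', Matrix.cons_val_zero,
      Matrix.cons_val_one, Matrix.empty_val', Matrix.cons_val_fin_one, mul_zero, zero_mul, add_zero, zero_add]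
      at a00 a01 a10 a11
    by_cases h00 : x.val 0 0 = 0
    · have h01 : x.val 0 1 ≠ 0 := fun h0 => (Matrix.GeneralLinearGroup.det x).ne_zero (by
        rw [Matrix.GeneralLinearGroup.val_det_apply, Matrix.det_fin_two, h00, h0]; ring)
      have h10 : x.val 1 0 ≠ 0 := fun h0 => (Matrix.GeneralLinearGroup.det x).ne_zero (by
        rw [Matrix.GeneralLinearGroup.val_det_apply, Matrix.det_fin_two, h00, h0]; ring)
      refine Or.inr ⟨h00, ?_⟩
      by_contra h11
      have e1 : (g : F) = ((b ^ q)⁻¹ : Fˣ) := mul_left_cancel₀ h10 (a10.trans (mul_comm _ _))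
      have e2 : (g' : F) = ((b ^ q)⁻¹ : Fˣ) := mul_left_cancel₀ h11 (a11.trans (mul_comm _ _))
      exact hne (e1.trans e2.symm)
    · have e1 : (g : F) = b := mul_left_cancel₀ h00 (a00.trans (mul_comm _ _))
      have h01 : x.val 0 1 = 0 := by
        by_contra h0
        exact hne (e1.trans (mul_left_cancel₀ h0 (a01.trans (mul_comm _ _))).symm)
      refine Or.inl ⟨h01, ?_⟩
      by_contra h10
      have h11 : x.val 1 1 ≠ 0 := fun h0 => (Matrix.GeneralLinearGroup.det x).ne_zero (by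
        rw [Matrix.GeneralLinearGroup.val_det_apply, Matrix.det_fin_two, h0, h01]; ring)
      exact hne ((mul_left_cancel₀ h10 (a10.trans (mul_comm _ _))).trans
        (mul_left_cancel₀ h11 (a11.trans (mul_comm _ _))).symm)
  have htwo : ∀ x ∈ semiH hF, Two x := by
    rintro _ ⟨a, ⟨k, hk⟩, rfl | rfl⟩
    · exact ⟨k, by rw [← map_pow, hk, map_one]⟩
    · refine ⟨k + 1, ?_⟩
      rw [pow_succ', pow_mul, sq, mul_assoc, ← mul_assoc w2, w2_mul_td hF, mul_assoc, w2_sq, mul_one, ← map_mul,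
        ← map_pow, mul_pow, hk, inv_pow, ← pow_mul, mul_comm q, pow_mul, hk, one_pow, inv_one, mul_one, map_one]
  have hscl : ∀ c : Fˣ, c ^ (q + 1) = 1 → scl (Fin 2) F c = td (q := q) c := fun c hc => Units.ext (by
    have : (c ^ q)⁻¹ = c := inv_eq_of_mul_eq_one_right (by rw [← pow_succ, hc])
    rw [scl_val, td_val, this]
    ext i j; fin_cases i <;> fin_cases j <;> simp)
  refine ⟨⟨?_, htwo, ?_, ?_, ?_, ?_⟩, ?_, ?_⟩
  · rintro _ ⟨a, -, rfl | rfl⟩
    exacts [td_mem hF a, mul_mem (td_mem hF a) (w2_mem hF)]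
  · intro c hc h2c
    refine ⟨c, h2c, Or.inl (hscl c ?_)⟩
    have h : (scl (Fin 2) F c).valᵀ * _ * _ = _ := hc
    have := congrFun (congrFun h 0) 1
    rw [scl_val] at this
    simp [w2_val, Matrix.mul_apply, Fin.sum_univ_two, qFrob_apply] at this
    exact Units.ext (by rw [Units.val_pow_eq_pow_val, pow_succ']; exact this)
  · intro a ha
    have hw := congrArg Units.val (ha w2 hwS)
    have a01 := congrFun (congrFun hw 0) 1
    simp [w2_val, Matrix.mul_apply, Fin.sum_univ_two] at a01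
    have e := congrArg Units.val (ha _ hgS)
    rw [Units.val_mul, Units.val_mul, td_val] at e
    have b01 := congrFun (congrFun e 0) 1
    have b10 := congrFun (congrFun e 1) 0
    simp [Matrix.mul_apply, Fin.sum_univ_two] at b01 b10
    have h01 : a.val 0 1 = 0 := by
      by_contra h0
      exact hne (mul_left_cancel₀ h0 (by rw [hg']; simpa [mul_comm] using b01.symm))
    have h10 : a.val 1 0 = 0 := by
      by_contra h0
      exact hne (mul_left_cancel₀ h0 (by rw [hg']; simpa [mul_comm] using b10))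
    refine ⟨a.val 0 0, ?_⟩
    ext i j
    fin_cases i <;> fin_cases j <;> simp [h01, h10, a01]
  · intro x hx hxS
    obtain ⟨b, hb, e | e⟩ := hxS _ hgS
    swap
    · exfalso
      have h1 := congrArg (fun y : GL (Fin 2) F => y.val.trace) e
      simp only [Units.val_mul, Matrix.trace_mul_comm (x.val * _), ← mul_assoc, Units.inv_mul, one_mul] at h1
      rw [td_val, td_val, w2_val, Matrix.mul_fin_two, Matrix.trace_fin_two_of, Matrix.trace_fin_two_of] at h1
      exact hne' (by rw [hg']; simpa using h1)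
    obtain ⟨e', he', hd01, hd10⟩ : ∃ e' : GL (Fin 2) F, (e' = 1 ∨ e' = w2) ∧ (x * e').val 0 1 = 0 ∧
        (x * e').val 1 0 = 0 := by
      rcases hdiag x b (mul_inv_eq_iff_eq_mul.1 e) with ⟨h1, h2'⟩ | ⟨h1, h2'⟩
      · exact ⟨1, Or.inl rfl, by rw [mul_one]; exact h1, by rw [mul_one]; exact h2'⟩
      · refine ⟨w2, Or.inr rfl, ?_, ?_⟩ <;> simp [w2_val, Matrix.mul_apply, Fin.sum_univ_two, h1, h2']
    have he'S : e' ∈ semiH hF := by rcases he' with rfl | rfl; exacts [one_mem _, hwS]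
    have he'Γ : e' ∈ GUh hF := by rcases he' with rfl | rfl; exacts [one_mem _, w2_mem hF]
    obtain ⟨y, hy⟩ : ∃ y, y = x * e' := ⟨_, rfl⟩
    rw [← hy] at hd01 hd10
    have hyS : ∀ s ∈ semiH hF, y * s * y⁻¹ ∈ semiH hF := fun s hs => by
      have := hxS _ (mul_mem (mul_mem he'S hs) (inv_mem he'S))
      rwa [show x * (e' * s * e'⁻¹) * x⁻¹ = y * s * y⁻¹ by rw [hy]; group] at this
    have hyΓ : y.valᵀ * _ * _ = _ := (hy ▸ mul_mem hx he'Γ : y ∈ GUh hF)
    have h00 : y.val 0 0 ≠ 0 := fun h0 => (Matrix.GeneralLinearGroup.det y).ne_zero (by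
      rw [Matrix.GeneralLinearGroup.val_det_apply, Matrix.det_fin_two, h0, hd01]; ring)
    set a := Units.mk0 _ h00 with ha
    have hyt : y = td (q := q) a := by
      have h := congrFun (congrFun hyΓ 1) 0
      simp [w2_val, Matrix.mul_apply, Fin.sum_univ_two, qFrob_apply, hd01, hd10, zero_pow (by omega : q ≠ 0)] at h
      refine Units.ext ?_
      rw [td_val]
      ext i j
      fin_cases i <;> fin_cases j <;> simp [ha, hd01, hd10]
      exact eq_inv_of_mul_eq_one_left h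
    obtain ⟨a2, a1, -, -, h2a, h1a, hsplit⟩ := split a
    have hq1 : a1 ^ (q + 1) = 1 := by
      obtain ⟨d, hd, ed | ed⟩ := hyS _ hwS
      · exfalso
        rw [hyt, mul_assoc, ← map_inv, w2_mul_td hF, ← mul_assoc, ← map_mul] at ed
        exact td_ne _ _ ed.symm
      · rw [hyt, mul_assoc, ← map_inv, w2_mul_td hF, ← mul_assoc, ← map_mul, mul_left_inj] at ed
        have ed' : a ^ (q + 1) = d := by
          rw [← td_inj ed, inv_pow, inv_inv, pow_succ']
        refine eq_one_of_two_of_odd ?_ (h1a.of_dvd_nat (orderOf_pow_dvd _))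
        obtain ⟨i, hi⟩ := h2a
        obtain ⟨j, hj⟩ := hd
        refine ⟨i + j, ?_⟩
        have hA : a1 ^ (q + 1) = d * ((a2 ^ (q + 1)))⁻¹ := by rw [← ed', hsplit, mul_pow, mul_comm (a2 ^ _), mul_inv_cancel_right]
        rw [hA, mul_pow, inv_pow, ← pow_mul _ (q + 1), mul_comm (q + 1), pow_mul _ _ (q + 1), pow_add, pow_mul a2,
          hi, one_pow, one_pow, inv_one, mul_one, mul_comm (2 ^ i), pow_mul, hj, one_pow]
    refine ⟨td (q := q) a2 * e'⁻¹, mul_mem ⟨a2, h2a, Or.inl rfl⟩ (inv_mem he'S), a1, ?_⟩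
    rw [mul_assoc, ← scl_comm, ← mul_assoc, hscl a1 hq1, ← map_mul, ← hsplit, ← hyt, hy, mul_inv_cancel_right]
  · refine ⟨_, hgS, fun e => ?_⟩
    rw [← map_mul, ← map_one td] at e
    have e2 := td_inj e
    exact hgs (by rw [← pow_mul, mul_comm, pow_mul, sq, e2, one_pow])
  · intro x hx hA hdet
    obtain ⟨a, ha, rfl | rfl⟩ := hx
    · obtain ⟨c, hc⟩ := hA w2 hwS
      rw [w2_mul_td hF, ← mul_assoc, mul_left_inj] at hc
      have c00 := (ent' hc 0 0)
      have c11 := (ent' hc 1 1)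
      rw [Units.val_mul, scl_val, td_val, td_val, smul_mul_assoc, one_mul] at c00 c11
      simp [Matrix.smul_apply, inv_pow, ← pow_mul, ← sq, ← hF, FiniteField.pow_card] at c00 c11
      have hs : (a : F) = ((a ^ q)⁻¹ : Fˣ) ∨ (a : F) = -((a ^ q)⁻¹ : Fˣ) := by
        have hcc : (c : F) * c = 1 := by
          have : (c : F) * c * a = 1 * a := by rw [one_mul, mul_assoc, ← c11, ← c00]
          exact mul_right_cancel₀ a.ne_zero this
        rcases mul_self_eq_one_iff.1 hcc with h | h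
        · left; rw [c00, h, one_mul]; simp
        · right; rw [c00, h, neg_one_mul]; simp
      rcases hs with h | h
      · exact ⟨a, by rw [td_val, ← h]; ext i j; fin_cases i <;> fin_cases j <;> simp⟩
      · exfalso
        have hd : (td (q := q) g * w2).val.det = 1 := by
          rw [Units.val_mul, det_mul, td_val, w2_val, Matrix.det_fin_two_of, Matrix.det_fin_two_of]
          have e1 : (g : F) ^ (q - 1) = -1 := by
            rw [← Units.val_pow_eq_pow_val, hgm]; simp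
          have e2 : (g : F) ^ q = g ^ (q - 1) * g := by rw [← pow_succ, Nat.sub_add_cancel (by omega)]
          simp [e2, e1]
        have h3 := congrArg Units.val (hdet _ (mul_mem hgS hwS) hd)
        have e01 := congrFun (congrFun h3 0) 1
        simp [td_val, w2_val, Matrix.mul_apply, Fin.sum_univ_two] at e01
        simp at h
        have : (2 : F) * ((g : F) * (a : F)) = 0 := by linear_combination e01 + (g : F) * h
        simp [h2] at this
    · exfalso
      obtain ⟨c, hc⟩ := hA _ hgS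
      rw [mul_assoc, w2_mul_td hF, ← mul_assoc, ← mul_assoc, ← mul_assoc, mul_left_inj,
        mul_assoc (scl _ F c), ← map_mul, ← map_mul] at hc
      have c00 := (ent' hc 0 0)
      have c11 := (ent' hc 1 1)
      rw [Units.val_mul, scl_val, td_val, td_val, smul_mul_assoc, one_mul] at c00 c11
      simp [Matrix.smul_apply, mul_pow, inv_pow, ← pow_mul, ← sq, ← hF, FiniteField.pow_card] at c00 c11
      have e1 : (g' : F) = c * g := mul_left_cancel₀ a.ne_zero (by
        rw [hg', Units.val_inv_eq_inv_val, Units.val_pow_eq_pow_val]; linear_combination c00)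
      have e2 : (g : F) = c * g' := mul_right_cancel₀ (b := ((a ^ q)⁻¹ : Fˣ).val) (Units.ne_zero _) (by
        rw [hg', Units.val_inv_eq_inv_val, Units.val_inv_eq_inv_val, Units.val_pow_eq_pow_val, Units.val_pow_eq_pow_val]; linear_combination c11)
      have hcc : (c : F) * c = 1 := mul_right_cancel₀ g.ne_zero (by rw [one_mul, mul_assoc, ← e1, ← e2])
      rcases mul_self_eq_one_iff.1 hcc with h | h
      · exact hne (by rw [e2, h, one_mul])
      · exact hne' (by rw [e2, h]; ring)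
  · have hd : (td (q := q) g * w2).val.det = 1 := by
      rw [Units.val_mul, det_mul, td_val, w2_val, Matrix.det_fin_two_of, Matrix.det_fin_two_of]
      have e1 : (g : F) ^ (q - 1) = -1 := by
        rw [← Units.val_pow_eq_pow_val, hgm]; simp
      have e2 : (g : F) ^ q = g ^ (q - 1) * g := by rw [← pow_succ, Nat.sub_add_cancel (by omega)]
      simp [e2, e1]
    refine ⟨_, mul_mem hgS hwS, hd, ?_⟩
    rintro ⟨c, hc⟩
    have := congrFun (congrFun hc 0) 1
    simp [td_val, w2_val, Matrix.mul_apply, Fin.sum_univ_two] at this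

end Hyperbolic

end Cfsg.Agent.Lie.TwoUnitBase
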