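import Cfsg.Agent.Lib.Lie.TwoUnitFlag
import Cfsg.Agent.Lib.Lie.TwoBruhatPronormal
import Cfsg.Agent.Lib.Fus.PSLUnipotent
import Cfsg.Agent.Lib.Classical.ParabolicCosets

/-!
`SU_n(q)` in even characteristic, `n` even: Bruhat decomposition for an antidiagonal Gram matrix, and pronormality
of the subgroups of odd index.
-/

set_option autoImplicit false
set_option linter.unusedSectionVars false
set_option maxHeartbeats 800000

namespace Cfsg.Agent.Lie.TwoUnitEven

open Matrix Cfsg.Agent.Fus.PSLN Cfsg.Agent.Classical Cfsg.Agent.Classical.PSUAut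
attribute [local instance 10] _root_.Classical.propDecidable

variable {F : Type*} [Field F] [Fintype F] {q n : ℕ}

local notation "SLn" => Matrix.SpecialLinearGroup (Fin n) F

section Monomial

/-- Monomial with permutation `σ`. -/
def IsMono (M : SLn) (σ : Equiv.Perm (Fin n)) : Prop := ∀ i j, i ≠ σ j → ent M i j = 0

/-- Lower unitriangular. -/
def IsLow (x : SLn) : Prop := (∀ i j : Fin n, i < j → ent x i j = 0) ∧ ∀ i, ent x i i = 1

theorem ent_inv_mul (A : SLn) (i j : Fin n) : ∑ k, ent A⁻¹ i k * ent A k j = if i = j then 1 else 0 := by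
  rw [← ent_mul, inv_mul_cancel]
  simp [ent, Matrix.one_apply]

theorem mul_mono {M : SLn} {σ : Equiv.Perm (Fin n)} (h : IsMono M σ) (x : SLn) (i j : Fin n) :
    ent (x * M) i j = ent x i (σ j) * ent M (σ j) j := by
  rw [ent_mul]
  exact Finset.sum_eq_single (σ j) (fun k _ hk => by rw [h k j hk, mul_zero]) fun hh =>
    absurd (Finset.mem_univ _) hh

theorem mono_mul {M : SLn} {σ : Equiv.Perm (Fin n)} (h : IsMono M σ) (x : SLn) (i j : Fin n) :
    ent (M * x) (σ i) j = ent M (σ i) i * ent x i j := by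
  rw [ent_mul]
  exact Finset.sum_eq_single i (fun k _ hk => by rw [h (σ i) k (fun e => hk (σ.injective e).symm), zero_mul])
    fun hh => absurd (Finset.mem_univ _) hh

theorem mono_ne_zero {M : SLn} {σ : Equiv.Perm (Fin n)} (h : IsMono M σ) (j : Fin n) : ent M (σ j) j ≠ 0 := by
  intro e
  have := mul_mono h M⁻¹ j j
  rw [inv_mul_cancel, e, mul_zero] at this
  simp [ent] at this

theorem IsMono.inv {M : SLn} {σ : Equiv.Perm (Fin n)} (h : IsMono M σ) : IsMono M⁻¹ σ⁻¹ := by
  intro i k hik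
  have := mul_mono h M⁻¹ i (σ⁻¹ k)
  rw [inv_mul_cancel, show σ (σ⁻¹ k) = k from σ.apply_symm_apply k] at this
  have h0 : ent (1 : SLn) i (σ⁻¹ k) = 0 := Matrix.one_apply_ne hik
  rw [h0] at this
  refine (mul_eq_zero.1 this.symm).resolve_right ?_
  have := mono_ne_zero h (σ⁻¹ k)
  rwa [show σ (σ⁻¹ k) = k from σ.apply_symm_apply k] at this

theorem IsMono.mul {M N : SLn} {σ τ : Equiv.Perm (Fin n)} (h : IsMono M σ) (h' : IsMono N τ) :
    IsMono (M * N) (σ * τ) := by
  intro i j hij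
  rw [mul_mono h', h i (τ j) hij, zero_mul]

theorem conj_entry {M : SLn} {σ : Equiv.Perm (Fin n)} (h : IsMono M σ) (x : SLn) (i j : Fin n) :
    ent (M * x * M⁻¹) (σ i) (σ j) * ent M (σ j) j = ent M (σ i) i * ent x i j := by
  rw [← mul_mono h, inv_mul_cancel_right, mono_mul h]

theorem conj_entry_eq_zero {M : SLn} {σ : Equiv.Perm (Fin n)} (h : IsMono M σ) (x : SLn) (i j : Fin n) :
    ent (M * x * M⁻¹) (σ i) (σ j) = 0 ↔ ent x i j = 0 := by
  have e := conj_entry h x i j
  constructor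
  · intro h0
    rw [h0, zero_mul] at e
    exact (mul_eq_zero.1 e.symm).resolve_left (mono_ne_zero h i)
  · intro h0
    rw [h0, mul_zero] at e
    exact (mul_eq_zero.1 e).resolve_right (mono_ne_zero h j)

theorem conj_diag {M : SLn} {σ : Equiv.Perm (Fin n)} (h : IsMono M σ) {x : SLn} (hx : ∀ i, ent x i i = 1)
    (i : Fin n) : ent (M * x * M⁻¹) i i = 1 := by
  obtain ⟨i, rfl⟩ := σ.surjective i
  have e := conj_entry h x i i
  rw [hx, mul_one] at e
  exact mul_right_cancel₀ (mono_ne_zero h i) (e.trans (one_mul _).symm)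

theorem low_upper {x : SLn} (h1 : IsLow x) (h2 : x ∈ unip F n) : x = 1 := by
  ext i j
  show ent x i j = ent 1 i j
  rcases lt_trichotomy i j with h | h | h
  · rw [h1.1 i j h]; simp [ent, h.ne]
  · subst h; rw [h1.2 i]; simp [ent]
  · rw [h2.1 i j h]; simp [ent, h.ne']

theorem mono_unique {a b M M' : SLn} {σ σ' : Equiv.Perm (Fin n)} (hM : IsMono M σ) (hM' : IsMono M' σ')
    (ha : a ∈ unip F n) (hb : b ∈ unip F n) (e : a * M = M' * b) : M = M' := by
  have hcol : ∀ j, ent M' (σ j) (σ'⁻¹ (σ j)) * ent b (σ'⁻¹ (σ j)) j = ent M (σ j) j := by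
    intro j
    have h : ent (a * M) (σ j) j = ent (M' * b) (σ j) j := by rw [e]
    rw [mul_mono hM, ha.2, one_mul] at h
    have hk := mono_mul hM' b (σ'⁻¹ (σ j)) j
    rw [show σ' (σ'⁻¹ (σ j)) = σ j from σ'.apply_symm_apply _] at hk
    rw [h, hk]
  have hle : ∀ j, σ'⁻¹ (σ j) ≤ j := fun j => le_of_not_gt fun hlt => mono_ne_zero hM j (by
    rw [← hcol j, hb.1 _ _ hlt, mul_zero])
  have hid : ∀ (m : ℕ) (j : Fin n), (j : ℕ) = m → σ'⁻¹ (σ j) = j := by
    intro m
    induction m using Nat.strong_induction_on with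
    | _ m ih =>
    intro j hj
    rcases (hle j).eq_or_lt with h | h
    · exact h
    · have := ih _ (by rw [← hj]; exact h) (σ'⁻¹ (σ j)) rfl
      exact σ.injective (σ'⁻¹.injective this)
  have hσ : σ' = σ := Equiv.ext fun j => (Equiv.Perm.inv_eq_iff_eq.1 (hid _ j rfl)).symm
  ext i j
  show ent M i j = ent M' i j
  by_cases hij : i = σ j
  · subst hij
    have := hcol j
    rw [hid _ j rfl, hb.2, mul_one] at this
    exact this.symm
  · rw [hM i j hij, hM' i j (hσ ▸ hij)]

/-- Reversal of the order. -/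
def revHom : SLn →* SLn where
  toFun x := ⟨x.1.submatrix Fin.revPerm Fin.revPerm, by rw [Matrix.det_submatrix_equiv_self]; exact x.2⟩
  map_one' := Subtype.ext (Matrix.submatrix_one_equiv _)
  map_mul' a b := Subtype.ext (Matrix.submatrix_mul_equiv a.1 b.1 _ _ _).symm

theorem isLow_iff (x : SLn) : IsLow x ↔ revHom x ∈ unip F n :=
  ⟨fun h => ⟨fun i j hij => h.1 _ _ (Fin.rev_lt_rev.2 hij), fun i => h.2 _⟩, fun h =>
    ⟨fun i j hij => by
      have h' : ent x i.rev.rev j.rev.rev = 0 := h.1 i.rev j.rev (Fin.rev_lt_rev.2 hij)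
      rwa [Fin.rev_rev, Fin.rev_rev] at h',
      fun i => by
      have h' : ent x i.rev.rev i.rev.rev = 1 := h.2 i.rev
      rwa [Fin.rev_rev] at h'⟩⟩

theorem IsLow.mul {a b : SLn} (ha : IsLow a) (hb : IsLow b) : IsLow (a * b) := by
  rw [isLow_iff] at *
  rw [map_mul]
  exact mul_mem ha hb

theorem IsLow.inv {a : SLn} (ha : IsLow a) : IsLow a⁻¹ := by
  rw [isLow_iff] at *
  rw [map_inv]
  exact inv_mem ha

/-- Keep the entries above the diagonal at the places in `P`. -/
noncomputable def mask (x : SLn) (hx : x ∈ unip F n) (P : Fin n → Fin n → Prop) : SLn :=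
  ⟨Matrix.of fun i j => if i = j then 1 else if i < j ∧ P i j then ent x i j else 0, by
    rw [Matrix.det_of_isUpperTriangular (fun i j (h : j < i) => by
      simp [h.ne', h.not_gt])]
    simp⟩

theorem ent_mask (x : SLn) (hx : x ∈ unip F n) (P : Fin n → Fin n → Prop) (i j : Fin n) :
    ent (mask x hx P) i j = if i = j then 1 else if i < j ∧ P i j then ent x i j else 0 := rfl

theorem mask_mem (x : SLn) (hx : x ∈ unip F n) (P : Fin n → Fin n → Prop) : mask x hx P ∈ unip F n :=
  ⟨fun i j h => by rw [ent_mask, if_neg h.ne', if_neg (fun hh => lt_asymm h hh.1)],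
    fun i => by rw [ent_mask, if_pos rfl]⟩

theorem mask_zero (x : SLn) (hx : x ∈ unip F n) (P : Fin n → Fin n → Prop) {i j : Fin n} (h : i < j)
    (hP : ¬ P i j) : ent (mask x hx P) i j = 0 := by
  rw [ent_mask, if_neg h.ne, if_neg (fun hh => hP hh.2)]

/-- The factorisation of the unitriangular group along a monomial element. -/
theorem factor {M : SLn} {σ : Equiv.Perm (Fin n)} (hM : IsMono M σ) {x : SLn} (hx : x ∈ unip F n) :
    ∃ a ∈ unip F n, ∃ v ∈ unip F n, x = a * v ∧ M * a * M⁻¹ ∈ unip F n ∧ IsLow (M * v * M⁻¹) := by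
  let A := {a : SLn // a ∈ unip F n ∧ ∀ i j, i < j → σ j < σ i → ent a i j = 0}
  let B := {v : SLn // v ∈ unip F n ∧ ∀ i j, i < j → σ i < σ j → ent v i j = 0}
  have hA : ∀ a : A, M * a.1 * M⁻¹ ∈ unip F n := by
    rintro ⟨a, ha, h0⟩
    refine ⟨fun i j hij => ?_, conj_diag hM ha.2⟩
    obtain ⟨i, rfl⟩ := σ.surjective i
    obtain ⟨j, rfl⟩ := σ.surjective j
    rw [conj_entry_eq_zero hM]
    rcases lt_trichotomy i j with h | h | h
    · exact h0 i j h hij
    · exact absurd (h ▸ hij) (lt_irrefl _)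
    · exact ha.1 i j h
  have hB : ∀ v : B, IsLow (M * v.1 * M⁻¹) := by
    rintro ⟨v, hv, h0⟩
    refine ⟨fun i j hij => ?_, conj_diag hM hv.2⟩
    obtain ⟨i, rfl⟩ := σ.surjective i
    obtain ⟨j, rfl⟩ := σ.surjective j
    rw [conj_entry_eq_zero hM]
    rcases lt_trichotomy i j with h | h | h
    · exact h0 i j h hij
    · exact absurd (h ▸ hij) (lt_irrefl _)
    · exact hv.1 i j h
  let f : A × B → (unip F n : Subgroup SLn) := fun p => ⟨p.1.1 * p.2.1, mul_mem p.1.2.1 p.2.2.1⟩
  have hf : Function.Injective f := by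
    rintro ⟨a, v⟩ ⟨a', v'⟩ e
    have e' : a.1 * v.1 = a'.1 * v'.1 := congrArg Subtype.val e
    have e2 : M * a'.1⁻¹ * M⁻¹ * (M * a.1 * M⁻¹) = M * (v'.1 * v.1⁻¹) * M⁻¹ := by
      rw [show v'.1 = a'.1⁻¹ * (a.1 * v.1) by rw [e']; group]
      group
    have hU : M * (v'.1 * v.1⁻¹) * M⁻¹ ∈ unip F n := by
      rw [← e2]
      refine mul_mem ?_ (hA a)
      have := inv_mem (hA a')
      rwa [show (M * a'.1 * M⁻¹)⁻¹ = M * a'.1⁻¹ * M⁻¹ by group] at this
    have h1 : v'.1 * v.1⁻¹ = 1 := by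
      have hlow : IsLow ((M * v'.1 * M⁻¹) * (M * v.1 * M⁻¹)⁻¹) := (hB v').mul (hB v).inv
      rw [show (M * v'.1 * M⁻¹) * (M * v.1 * M⁻¹)⁻¹ = M * (v'.1 * v.1⁻¹) * M⁻¹ by group] at hlow
      exact conj_eq_one_iff.1 (low_upper hlow hU)
    have hv : v'.1 = v.1 := mul_inv_eq_one.1 h1
    rw [hv] at e'
    exact Prod.ext (Subtype.ext (mul_right_cancel e')) (Subtype.ext hv.symm)
  let g : ↥(unip F n) → A × B := fun x =>
    ((⟨mask x.1 x.2 (fun i j => σ i < σ j), mask_mem _ _ _, fun i j h h' => mask_zero _ _ _ h h'.not_gt⟩ : A),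
     (⟨mask x.1 x.2 (fun i j => σ j < σ i), mask_mem _ _ _, fun i j h h' => mask_zero _ _ _ h h'.not_gt⟩ : B))
  have hg : Function.Injective g := by
    rintro ⟨x, hx⟩ ⟨y, hy⟩ e
    refine Subtype.ext ?_
    ext i j
    show ent x i j = ent y i j
    rcases lt_trichotomy i j with h | h | h
    · rcases lt_or_gt_of_ne (fun e => h.ne (σ.injective e)) with h2 | h2
      · have := congrArg (fun z : A × B => ent z.1.1 i j) e
        simpa [g, ent_mask, h.ne, h, h2] using this
      · have := congrArg (fun z : A × B => ent z.2.1 i j) e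
        simpa [g, ent_mask, h.ne, h, h2] using this
    · subst h; rw [hx.2, hy.2]
    · rw [hx.1 i j h, hy.1 i j h]
  have hbij : Function.Surjective f := (hf.bijective_of_nat_card_le (Nat.card_le_card_of_injective g hg)).2
  obtain ⟨⟨a, v⟩, hav⟩ := hbij ⟨x, hx⟩
  exact ⟨a.1, a.2.1, v.1, v.2.1, (congrArg Subtype.val hav).symm, hA a, hB v⟩

end Monomial

section Bruhat

open Cfsg.Agent.Classical.ParCoset in
theorem bruhat (g : SLn) : ∃ a ∈ unip F n, ∃ M : SLn, ∃ σ : Equiv.Perm (Fin n), IsMono M σ ∧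
    ∃ v ∈ unip F n, g = a * M * v ∧ IsLow (M * v * M⁻¹) := by
  obtain ⟨b, hb, σ, b', hb', e⟩ := ParCoset.bruhat (Matrix.SpecialLinearGroup.toGL g)
  have hbu : (b : Matrix (Fin n) (Fin n) F).IsUpperTriangular := hb
  have hb'u : (b' : Matrix (Fin n) (Fin n) F).IsUpperTriangular := hb'
  have hd : ∀ (c : GL (Fin n) F), (c : Matrix (Fin n) (Fin n) F).IsUpperTriangular → ∀ i, c.1 i i ≠ 0 := by
    intro c hc i h0
    have := (Matrix.isUnit_iff_isUnit_det _).1 c.isUnit
    rw [Matrix.det_of_isUpperTriangular hc, Finset.prod_eq_zero (f := fun k => c.1 k k) (Finset.mem_univ i) h0] at this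
    exact not_isUnit_zero this
  let u : SLn := ⟨Matrix.of fun i j => b.1 i j / b.1 j j, by
    rw [Matrix.det_of_isUpperTriangular (fun i j (h : j < i) => by simp [hbu h])]
    exact Finset.prod_eq_one fun i _ => div_self (hd b hbu i)⟩
  let u' : SLn := ⟨Matrix.of fun i j => b'.1 i j / b'.1 i i, by
    rw [Matrix.det_of_isUpperTriangular (fun i j (h : j < i) => by simp [hb'u h])]
    exact Finset.prod_eq_one fun i _ => div_self (hd b' hb'u i)⟩
  have hu : u ∈ unip F n := ⟨fun i j h => by simp [u, ent, hbu h], fun i => by simp [u, ent, hd b hbu i]⟩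
  have hu' : u' ∈ unip F n := ⟨fun i j h => by simp [u', ent, hb'u h], fun i => by simp [u', ent, hd b' hb'u i]⟩
  have e1 : g.1 = u.1 * (Matrix.diagonal (fun i => b.1 i i) * (permGL σ : GL (Fin n) F).1 *
      Matrix.diagonal (fun i => b'.1 i i)) * u'.1 := by
    have hbd : b.1 = u.1 * Matrix.diagonal (fun i => b.1 i i) := by
      ext i j; simp [u, Matrix.mul_diagonal, div_mul_cancel₀ _ (hd b hbu j)]
    have hb'd : b'.1 = Matrix.diagonal (fun i => b'.1 i i) * u'.1 := by
      ext i j; simp [u', Matrix.diagonal_mul, mul_div_cancel₀ _ (hd b' hb'u i)]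
    have := congrArg (fun X : GL (Fin n) F => X.1) e
    simp only [Units.val_mul] at this
    rw [show g.1 = (Matrix.SpecialLinearGroup.toGL g).1 from rfl, this]
    conv_lhs => rw [hbd, hb'd]
    simp only [mul_assoc]
  have hM : IsMono (u⁻¹ * g * u'⁻¹) σ := by
    intro i j hij
    show (u⁻¹.1 * g.1 * u'⁻¹.1) i j = 0
    have h1 : u⁻¹.1 * u.1 = 1 := congrArg Subtype.val (inv_mul_cancel u)
    have h2 : u'.1 * u'⁻¹.1 = 1 := congrArg Subtype.val (mul_inv_cancel u')
    rw [e1, ← mul_assoc u⁻¹.1, ← mul_assoc u⁻¹.1, h1, one_mul, mul_assoc, h2, mul_one, Matrix.mul_diagonal,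
      Matrix.diagonal_mul, permGL_apply, if_neg hij, mul_zero, zero_mul]
  obtain ⟨a, ha, v, hv, hav, hMa, hMv⟩ := factor hM hu'
  refine ⟨u * (u⁻¹ * g * u'⁻¹ * a * (u⁻¹ * g * u'⁻¹)⁻¹), mul_mem hu hMa, _, σ, hM, v, hv, ?_, hMv⟩
  rw [show v = a⁻¹ * u' by rw [hav]; group]
  group

end Bruhat

section Fixed

variable (hF : Fintype.card F = q ^ 2)

local notation "cj" => qFrob hF

/-- The adjoint for the antidiagonal Hermitian form. -/
def star' (S : SLn) : SLn := revHom (⟨(S.1.map (qFrob hF))ᵀ, by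
  rw [Matrix.det_transpose]
  exact ((qFrob hF).map_det S.1).symm.trans (by rw [S.2, map_one])⟩)

theorem ent_star (S : SLn) (i j : Fin n) : ent (star' hF S) i j = cj (ent S j.rev i.rev) := rfl

theorem star_mul (A B : SLn) : star' hF (A * B) = star' hF B * star' hF A := by
  ext i j
  show ent (star' hF (A * B)) i j = ent (star' hF B * star' hF A) i j
  rw [ent_star, ent_mul, ent_mul, map_sum]
  exact Fintype.sum_equiv Fin.revPerm _ _ fun k => by
    simp only [Fin.revPerm_apply, ent_star, Fin.rev_rev, map_mul]; ring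

theorem star_one : star' hF (1 : SLn) = 1 := by
  have h := star_mul hF (1 : SLn) 1
  rw [one_mul] at h
  exact (mul_eq_left.1 h.symm)

theorem star_inv (A : SLn) : star' hF A⁻¹ = (star' hF A)⁻¹ := eq_inv_of_mul_eq_one_left (by
  rw [← star_mul, mul_inv_cancel, star_one])

theorem star_mem {x : SLn} (hx : x ∈ unip F n) : star' hF x ∈ unip F n :=
  ⟨fun i j h => by rw [ent_star, hx.1 _ _ (Fin.rev_lt_rev.2 h), map_zero],
    fun i => by rw [ent_star, hx.2, map_one]⟩

theorem star_low {x : SLn} (hx : IsLow x) : IsLow (star' hF x) :=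
  ⟨fun i j h => by rw [ent_star, hx.1 _ _ (Fin.rev_lt_rev.2 h), map_zero],
    fun i => by rw [ent_star, hx.2, map_one]⟩

theorem IsMono.star {M : SLn} {σ : Equiv.Perm (Fin n)} (h : IsMono M σ) :
    IsMono (star' hF M) (Fin.revPerm * σ⁻¹ * Fin.revPerm) := by
  intro i j hij
  rw [ent_star, h _ _ ?_, map_zero]
  intro e
  apply hij
  simp only [Equiv.Perm.mul_apply, Fin.revPerm_apply]
  rw [e, show σ⁻¹ (σ i.rev) = i.rev from σ.symm_apply_apply _, Fin.rev_rev]

/-- The fixed group. -/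
def fixedG : Subgroup SLn where
  carrier := {S | star' hF S * S = 1}
  one_mem' := by simp [star_one]
  mul_mem' := fun {a b} ha hb => by
    show star' hF (a * b) * (a * b) = 1
    rw [star_mul, show star' hF b * star' hF a * (a * b) = star' hF b * (star' hF a * a) * b by group,
      show star' hF a * a = 1 from ha, mul_one]
    exact hb
  inv_mem' := fun {a} ha => by
    show star' hF a⁻¹ * a⁻¹ = 1
    rw [star_inv, ← _root_.mul_inv_rev, mul_eq_one_comm.1 (show star' hF a * a = 1 from ha), inv_one]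

/-- Bruhat decomposition in the fixed group. -/
theorem bruhat_fixed {g : SLn} (hg : g ∈ fixedG hF) : ∃ a ∈ unip F n, ∃ M : SLn, ∃ σ : Equiv.Perm (Fin n),
    IsMono M σ ∧ ∃ v ∈ unip F n, g = a * M * v ∧ a ∈ fixedG hF ∧ M ∈ fixedG hF ∧ v ∈ fixedG hF := by
  obtain ⟨a, ha, M, σ, hM, v, hv, e, hlow⟩ := bruhat g
  refine ⟨a, ha, M, σ, hM, v, hv, e, ?_⟩
  set a' := (star' hF a)⁻¹
  set M' := (star' hF M)⁻¹
  set v' := (star' hF v)⁻¹
  have e' : a * M * v = a' * M' * v' := by
    rw [← e, show g = (star' hF g)⁻¹ from eq_inv_of_mul_eq_one_right hg, e, star_mul, star_mul]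
    simp only [a', M', v', _root_.mul_inv_rev, mul_assoc]
  have e'' : a'⁻¹ * a * M = M' * (v' * v⁻¹) := by
    rw [show a = a' * M' * v' * v⁻¹ * M⁻¹ by rw [← e']; group]
    group
  have ha' : a' ∈ unip F n := inv_mem (star_mem hF ha)
  have hv' : v' ∈ unip F n := inv_mem (star_mem hF hv)
  have hMM : M = M' := mono_unique hM (hM.star hF).inv (mul_mem (inv_mem ha') ha) (mul_mem hv' (inv_mem hv)) e''
  have hlow' : IsLow (M' * v' * M'⁻¹) := by
    have : IsLow (star' hF (M * v⁻¹ * M⁻¹)) := star_low hF (by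
      rw [show M * v⁻¹ * M⁻¹ = (M * v * M⁻¹)⁻¹ by group]; exact hlow.inv)
    rw [star_mul, star_mul, star_inv, star_inv] at this
    simpa [M', v', mul_assoc] using this
  have h1 : a'⁻¹ * a = 1 := by
    refine low_upper ?_ (mul_mem (inv_mem ha') ha)
    have : a'⁻¹ * a = (M' * v' * M'⁻¹) * (M * v * M⁻¹)⁻¹ := by
      rw [show a'⁻¹ * a = M' * (v' * v⁻¹) * M⁻¹ by rw [← e'']; group, hMM]
      group
    rw [this]
    exact hlow'.mul hlow.inv
  have haa : a = a' := (inv_mul_eq_one.1 h1).symm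
  have hvv : v = v' := by
    have := e'
    rw [← haa, ← hMM] at this
    exact mul_left_cancel this
  have hfx : ∀ y : SLn, y = (star' hF y)⁻¹ → y ∈ fixedG hF := fun y hy => by
    show star' hF y * y = 1
    exact mul_eq_one_iff_inv_eq.2 hy.symm
  exact ⟨hfx a haa, hfx M hMM, hfx v hvv⟩

variable [CharP F 2]

/-- A unipotent fixed element with prescribed nonzero entry. -/
theorem exists_root (hn : Even n) {i j : Fin n} (hij : i < j) :
    ∃ x, x ∈ unip F n ∧ x ∈ fixedG hF ∧ ent x i j ≠ 0 := by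
  let N : Matrix (Fin n) (Fin n) F :=
    Matrix.of fun a b => if (a = i ∧ b = j) ∨ (a = j.rev ∧ b = i.rev) then 1 else 0
  have hlt : ∀ a b, N a b ≠ 0 → a < b := by
    intro a b h
    simp only [N, Matrix.of_apply, ne_eq, ite_eq_right_iff, Classical.not_imp] at h
    rcases h.1 with ⟨rfl, rfl⟩ | ⟨rfl, rfl⟩
    exacts [hij, Fin.rev_lt_rev.2 hij]
  have hNN : N * N = 0 := by
    ext a b
    rw [Matrix.mul_apply, Matrix.zero_apply]
    refine Finset.sum_eq_zero fun k _ => ?_
    by_contra h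
    obtain ⟨h1, h2⟩ := mul_ne_zero_iff.1 h
    simp only [N, Matrix.of_apply, ne_eq, ite_eq_right_iff, Classical.not_imp] at h1 h2
    rcases h1.1 with ⟨-, rfl⟩ | ⟨-, rfl⟩ <;> rcases h2.1 with ⟨h3, -⟩ | ⟨h3, -⟩
    · exact hij.ne h3.symm
    · have hv := congrArg Fin.val h3
      rw [Fin.val_rev] at hv
      obtain ⟨c, hc⟩ := hn
      omega
    · have hv := congrArg Fin.val h3
      rw [Fin.val_rev] at hv
      obtain ⟨c, hc⟩ := hn
      omega
    · exact hij.ne (Fin.rev_injective h3)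
  have htri : ∀ a b : Fin n, b < a → (1 + N) a b = 0 := fun a b h => by
    rw [Matrix.add_apply, Matrix.one_apply_ne h.ne', zero_add]
    by_contra h'
    exact lt_asymm h (hlt a b h')
  have hdiag : ∀ a, (1 + N) a a = 1 := fun a => by
    rw [Matrix.add_apply, Matrix.one_apply_eq, add_eq_left]
    by_contra h'
    exact lt_irrefl a (hlt a a h')
  let x : SLn := ⟨1 + N, by
    rw [Matrix.det_of_isUpperTriangular (fun a b h => htri a b h)]
    exact Finset.prod_eq_one fun a _ => hdiag a⟩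
  refine ⟨x, ⟨htri, hdiag⟩, ?_, ?_⟩
  · have hsx : star' hF x = x := by
      ext a b
      show ent (star' hF x) a b = ent x a b
      rw [ent_star]
      have h01 : cj ((1 + N) b.rev a.rev) = (1 + N) a b := by
        simp only [Matrix.add_apply, Matrix.one_apply, N, Matrix.of_apply, map_add, apply_ite cj, map_one,
          map_zero]
        have e1 : (b.rev = i ∧ a.rev = j ∨ b.rev = j.rev ∧ a.rev = i.rev) ↔
            (a = i ∧ b = j ∨ a = j.rev ∧ b = i.rev) := by
          constructor <;> rintro (⟨h1, h2⟩ | ⟨h1, h2⟩)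
          · exact Or.inr ⟨by rw [← h2, Fin.rev_rev], by rw [← h1, Fin.rev_rev]⟩
          · exact Or.inl ⟨Fin.rev_injective h2, Fin.rev_injective h1⟩
          · exact Or.inr ⟨by rw [h2], by rw [h1]⟩
          · exact Or.inl ⟨by rw [h2, Fin.rev_rev], by rw [h1, Fin.rev_rev]⟩
        rw [if_congr e1 rfl rfl]
        simp only [Fin.rev_inj, eq_comm (a := b) (b := a)]
      exact h01
    show star' hF x * x = 1
    rw [hsx]
    apply Subtype.ext
    show (1 + N) * (1 + N) = 1
    rw [add_mul, one_mul, mul_add, mul_one, hNN, add_zero, add_assoc]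
    have : N + N = 0 := by
      ext a b; rw [Matrix.add_apply, Matrix.zero_apply]; exact CharTwo.add_self_eq_zero _
    rw [this, add_zero]
  · show (1 + N) i j ≠ 0
    simp [N, hij.ne]

/-- Monomial elements normalising the fixed unipotents are diagonal. -/
theorem mono_diag (hn : Even n) {M : SLn} {σ : Equiv.Perm (Fin n)} (hM : IsMono M σ)
    (h : ∀ x ∈ unip F n, x ∈ fixedG hF → M * x * M⁻¹ ∈ unip F n) : σ = 1 := by
  have hsm : StrictMono σ := fun i j hij => by
    obtain ⟨x, hx, hxf, hne⟩ := exists_root hF hn hij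
    rcases lt_trichotomy (σ i) (σ j) with h' | h' | h'
    · exact h'
    · exact absurd (σ.injective h') hij.ne
    · exact absurd ((conj_entry_eq_zero hM x i j).1 ((h x hx hxf).1 _ _ h')) hne
  refine Equiv.ext fun i => ?_
  have : (hsm.orderIsoOfSurjective _ σ.surjective) = OrderIso.refl _ := Subsingleton.elim _ _
  exact congrArg (fun e : Fin n ≃o Fin n => e i) this

end Fixed

end Cfsg.Agent.Lie.TwoUnitEven
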