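import Cfsg.Agent.Lib.Lie.TwoUnitEven

/-!
Subgroups of odd index of `SU_n(q)`, `q` even, `n` even, are pronormal.
-/

set_option autoImplicit false
set_option linter.unusedSectionVars false

namespace Cfsg.Agent.Lie.TwoUnitEven

open Matrix Cfsg.Agent.Fus.PSLN Cfsg.Agent.Classical Cfsg.Agent.Classical.PSUAut Cfsg.Agent.Transfer.PronormalSyl

universe u

variable {F : Type u} [Field F] [Fintype F] {q n : ℕ} (hF : Fintype.card F = q ^ 2)

local notation "SLn" => Matrix.SpecialLinearGroup (Fin n) F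
local notation "Mn" => Matrix (Fin n) (Fin n) F
local notation "cj" => qFrob hF

variable (F n) in
/-- The antidiagonal matrix. -/
def Wm : Mn := Matrix.of fun i j => if j = i.rev then 1 else 0

theorem Wm_mul_apply (X : Mn) (i j : Fin n) : (Wm F n * X) i j = X i.rev j := by
  simp [Wm, Matrix.mul_apply]

theorem mul_Wm_apply (X : Mn) (i j : Fin n) : (X * Wm F n) i j = X i j.rev := by
  rw [Matrix.mul_apply, Finset.sum_eq_single j.rev (fun k _ hk => by
    simp only [Wm, Matrix.of_apply]
    rw [if_neg (fun e => hk (by rw [e, Fin.rev_rev])), mul_zero]) (fun h => absurd (Finset.mem_univ _) h)]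
  simp [Wm]

theorem Wm_mul_Wm : (Wm F n) * Wm F n = 1 := by
  ext i j
  rw [Wm_mul_apply]
  simp [Wm, Matrix.one_apply, eq_comm]

theorem Wm_map : (Wm F n).map cj = Wm F n := by
  ext i j
  simp [Wm, apply_ite (qFrob hF)]

theorem star_val (S : SLn) : (star' hF S).1 = Wm F n * (S.1.map cj)ᵀ * Wm F n := by
  ext i j
  show ent (star' hF S) i j = _
  rw [ent_star]
  rw [mul_Wm_apply, Wm_mul_apply]
  rfl

theorem mem_fixed_iff (S : SLn) : S ∈ fixedG hF ↔ S.1ᵀ * Wm F n * S.1.map cj = Wm F n := by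
  have hcc : ∀ M : Mn, (M.map cj).map cj = M := fun M => by ext i j; exact qFrob_qFrob hF _
  constructor
  · intro h
    have h1 : (star' hF S).1 * S.1 = 1 := congrArg Subtype.val (show star' hF S * S = 1 from h)
    rw [star_val] at h1
    have h2 : (S.1.map cj)ᵀ * Wm F n * S.1 = Wm F n := by
      have := congrArg (fun M => Wm F n * M) h1
      simpa only [← mul_assoc, Wm_mul_Wm, one_mul, mul_one] using this
    have h3 := congrArg (fun M : Mn => M.map cj) h2
    simpa only [Matrix.map_mul, Matrix.transpose_map, hcc, Wm_map] using h3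
  · intro h
    have h2 : (S.1.map cj)ᵀ * Wm F n * S.1 = Wm F n := by
      have h3 := congrArg (fun M : Mn => M.map cj) h
      simpa only [Matrix.map_mul, Matrix.transpose_map, hcc, Wm_map] using h3
    show star' hF S * S = 1
    apply Subtype.ext
    rw [Matrix.SpecialLinearGroup.coe_mul, star_val, mul_assoc (Wm F n), mul_assoc, h2, Wm_mul_Wm]
    rfl

section Coord

variable {b : Fin n → Fin n → F} (hb : LinearIndependent F b)
  (hg : ∀ i j : Fin n, hermForm n F q (b i) (b j) = if j = i.rev then 1 else 0)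

/-- The matrix with columns `b`. -/
noncomputable def Qu : (Mn)ˣ :=
  (Matrix.linearIndependent_cols_iff_isUnit (A := (Matrix.of b)ᵀ).1 hb).unit

theorem Qu_val : (Qu hb).1 = (Matrix.of b)ᵀ := rfl

/-- Coordinates with respect to `b`. -/
noncomputable def phi : SU n F q →* SLn where
  toFun s := ⟨((Qu hb)⁻¹).1 * suVal s * (Qu hb).1, by rw [Matrix.det_units_conj']; exact s.1.2⟩
  map_one' := Subtype.ext (by simp [suVal])
  map_mul' s t := Subtype.ext (by
    show _ = ((Qu hb)⁻¹).1 * suVal s * (Qu hb).1 * (((Qu hb)⁻¹).1 * suVal t * (Qu hb).1)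
    simp [suVal_mul, mul_assoc])

theorem phi_injective : Function.Injective (phi (q := q) hb) := fun s t e => by
  have h : ((Qu hb)⁻¹).1 * suVal s * (Qu hb).1 = ((Qu hb)⁻¹).1 * suVal t * (Qu hb).1 := congrArg Subtype.val e
  rw [Units.mul_left_inj, Units.mul_right_inj] at h
  exact suVal_ext h

include hF hg in
theorem gram_eq : (Qu hb).1ᵀ * (Qu hb).1.map cj = Wm F n := by
  ext i j
  rw [Qu_val, Matrix.transpose_transpose]
  exact hg i j

include hF hg in
theorem phi_mem (s : SU n F q) : phi hb s ∈ fixedG hF := by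
  rw [mem_fixed_iff, ← gram_eq hF hb hg]
  set Q := (Qu hb).1
  set R := ((Qu hb)⁻¹).1
  have hQR : Q * R = 1 := (Qu hb).mul_inv
  have e : Q * (phi hb s).1 = suVal s * Q := by
    show Q * (R * suVal s * Q) = _
    rw [← mul_assoc, ← mul_assoc, hQR, one_mul]
  calc (phi hb s).1ᵀ * (Qᵀ * Q.map cj) * (phi hb s).1.map cj
      = (Q * (phi hb s).1)ᵀ * (Q * (phi hb s).1).map cj := by
        rw [Matrix.transpose_mul, Matrix.map_mul]; simp only [mul_assoc]
    _ = Qᵀ * ((suVal s)ᵀ * (suVal s).map cj) * Q.map cj := by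
        rw [e, Matrix.transpose_mul, Matrix.map_mul]; simp only [mul_assoc]
    _ = _ := by rw [suVal_transpose_mul hF, mul_one]

include hF hg in
theorem phi_surj {S : SLn} (hS : S ∈ fixedG hF) : ∃ s, phi (q := q) hb s = S := by
  rw [mem_fixed_iff, ← gram_eq hF hb hg] at hS
  set Q := (Qu hb).1 with hQdef
  set R := ((Qu hb)⁻¹).1 with hRdef
  have hQR : Q * R = 1 := (Qu hb).mul_inv
  have hRQ : R * Q = 1 := (Qu hb).inv_mul
  have hdet : (Q * S.1 * R).det = 1 := by rw [hQdef, hRdef, Matrix.det_units_conj]; exact S.2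
  have hM : (Q * S.1 * R)ᵀ * (Q * S.1 * R).map cj = 1 := by
    calc (Q * S.1 * R)ᵀ * (Q * S.1 * R).map cj
        = Rᵀ * (S.1ᵀ * (Qᵀ * Q.map cj) * S.1.map cj) * R.map cj := by
          rw [Matrix.transpose_mul, Matrix.transpose_mul, Matrix.map_mul, Matrix.map_mul]; simp only [mul_assoc]
      _ = (Q * R)ᵀ * (Q * R).map cj := by
          rw [hS, Matrix.transpose_mul, Matrix.map_mul]; simp only [mul_assoc]
      _ = 1 := by rw [hQR, Matrix.transpose_one, Matrix.map_one _ (map_zero _) (map_one _), mul_one]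
  refine ⟨suMk hF _ hdet hM, Subtype.ext ?_⟩
  show R * suVal (suMk hF _ hdet hM) * Q = S.1
  rw [suVal_suMk, ← mul_assoc, ← mul_assoc, hRQ, one_mul, mul_assoc, hRQ, mul_one]

/-- The diagonal elements. -/
def diagSubgroup : Subgroup SLn where
  carrier := {d | IsMono d 1}
  one_mem' := fun i j h => Matrix.one_apply_ne h
  mul_mem' := fun ha hb => by simpa using IsMono.mul ha hb
  inv_mem' := fun ha => by simpa using IsMono.inv ha

include hF hg in
theorem pronormal_of_sylow [CharP F 2] [Fact (Nat.Prime 2)] (hn : Even n) (S : Sylow 2 (SU n F q))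
    (htri : ∀ s ∈ S, phi hb s ∈ unip F n) {H : Subgroup (SU n F q)} (hSH : (S : Subgroup (SU n F q)) ≤ H) :
    Cfsg.IsPronormal H := by
  set φ := phi (q := q) hb
  have hinj : Function.Injective φ := phi_injective hb
  have hP : (S : Subgroup (SU n F q)) = (unip F n).comap φ := by
    refine (S.is_maximal' ?_ fun s hs => htri s hs).symm
    intro x
    obtain ⟨k, hk⟩ := (isPGroup_unip : IsPGroup 2 (unip F n)) ⟨φ x.1, x.2⟩
    exact ⟨k, Subtype.ext (hinj (by simpa using congrArg Subtype.val hk))⟩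
  have hSiff : ∀ s, s ∈ S ↔ φ s ∈ unip F n := fun s => SetLike.ext_iff.1 hP s
  refine TwoBruhat.pronormal_of_le (T := diagSubgroup.comap φ) ⟨?_, ?_, ?_, ?_⟩ hSH
  · intro a ha b' hb'
    apply hinj
    rw [map_mul, map_mul]
    ext i j
    show ent (φ a * φ b') i j = ent (φ b' * φ a) i j
    rw [mul_mono (σ := 1) hb', mul_mono (σ := 1) ha]
    simp only [Equiv.Perm.one_apply]
    by_cases hij : i = j
    · subst hij; ring
    · rw [ha i j hij, hb' i j hij, zero_mul, zero_mul]
  · intro t ht x hx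
    rw [hSiff, map_mul, map_mul, map_inv]
    rw [hSiff] at hx
    refine ⟨fun i j hij => (conj_entry_eq_zero (σ := 1) ht (φ x) i j).2 (hx.1 i j hij), conj_diag (σ := 1) ht hx.2⟩
  · intro g hg'
    obtain ⟨a, ha, M, σ, hM, v, hv, e, haf, hMf, hvf⟩ := bruhat_fixed hF (phi_mem hF hb hg g)
    obtain ⟨a0, rfl⟩ := phi_surj hF hb hg haf
    obtain ⟨M0, rfl⟩ := phi_surj hF hb hg hMf
    obtain ⟨v0, rfl⟩ := phi_surj hF hb hg hvf
    have hg0 : g = a0 * M0 * v0 := hinj (by rw [map_mul, map_mul]; exact e)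
    have ha0 : a0 ∈ S := (hSiff _).2 ha
    have hv0 : v0 ∈ S := (hSiff _).2 hv
    have hMn : M0 ∈ Subgroup.normalizer ((S : Subgroup (SU n F q)) : Set (SU n F q)) := by
      rw [show M0 = a0⁻¹ * g * v0⁻¹ by rw [hg0]; group]
      exact mul_mem (mul_mem (Subgroup.le_normalizer (inv_mem ha0)) hg') (Subgroup.le_normalizer (inv_mem hv0))
    have hσ : σ = 1 := mono_diag hF hn hM fun x hx hxf => by
      obtain ⟨x0, rfl⟩ := phi_surj hF hb hg hxf
      rw [← map_inv, ← map_mul, ← map_mul]
      exact (hSiff _).1 ((Subgroup.mem_normalizer_iff.1 hMn x0).1 ((hSiff _).2 hx))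
    subst hσ
    refine ⟨M0, hM, M0⁻¹ * a0 * M0 * v0, mul_mem ?_ hv0, by rw [hg0]; group⟩
    exact (Subgroup.mem_normalizer_iff''.1 hMn a0).1 ha0
  · intro g
    obtain ⟨a, ha, M, σ, hM, v, hv, e, haf, hMf, hvf⟩ := bruhat_fixed hF (phi_mem hF hb hg g)
    obtain ⟨a0, rfl⟩ := phi_surj hF hb hg haf
    obtain ⟨M0, rfl⟩ := phi_surj hF hb hg hMf
    obtain ⟨v0, rfl⟩ := phi_surj hF hb hg hvf
    refine ⟨a0, (hSiff _).2 ha, M0, v0, (hSiff _).2 hv, hinj (by rw [map_mul, map_mul]; exact e), fun t ht => ?_⟩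
    show IsMono (φ (M0⁻¹ * t * M0)) 1
    rw [map_mul, map_mul, map_inv]
    have := ((IsMono.inv hM).mul (show IsMono (φ t) 1 from ht)).mul hM
    simpa using this

end Coord

include hF in
theorem pronormal_of_odd_index [CharP F 2] (hn : Even n) {H : Subgroup (SU n F q)} (hH : Odd H.index) :
    Cfsg.IsPronormal H := by
  haveI : Fact (Nat.Prime 2) := ⟨Nat.prime_two⟩
  obtain ⟨T', -⟩ : ∃ T' : Sylow 2 H, True := ⟨default, trivial⟩
  have hi : ¬ 2 ∣ ((T' : Subgroup H).map H.subtype).index := by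
    rw [Subgroup.index_map_subtype]
    exact Nat.prime_two.not_dvd_mul T'.not_dvd_index (by rw [Nat.odd_iff] at hH; omega)
  set S : Sylow 2 (SU n F q) := (T'.isPGroup'.map H.subtype).toSylow hi
  obtain ⟨b, hAd, hb⟩ := TwoUnit.exists_basis hF S.isPGroup'
  refine pronormal_of_sylow hF hb hAd.gram hn S (fun s hs => ?_) (Subgroup.map_subtype_le _)
  set X := phi (q := q) hb s
  have hsb : ∀ j, suVal s *ᵥ b j = ∑ k, ent X k j • b k := by
    intro j
    have e : (Qu hb).1 * X.1 = suVal s * (Qu hb).1 := by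
      show (Qu hb).1 * (((Qu hb)⁻¹).1 * suVal s * (Qu hb).1) = _
      rw [← mul_assoc, ← mul_assoc, Units.mul_inv, one_mul]
    funext i
    have := congrFun (congrFun e i) j
    simp only [Qu_val, Matrix.mul_apply, Matrix.transpose_apply, Matrix.of_apply] at this
    rw [Finset.sum_apply]
    simp only [Pi.smul_apply, smul_eq_mul, Matrix.mulVec, dotProduct]
    rw [← this]
    exact Finset.sum_congr rfl fun k _ => mul_comm _ _
  have key : ∀ k j, j ≤ k → ent X k j = if k = j then 1 else 0 := by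
    intro k j hkj
    have h0 : hermForm n F q (suVal s *ᵥ b j - b j) (b k.rev) = 0 := by
      have : ∀ x ∈ TwoUnit.below b j, hermForm n F q x (b k.rev) = 0 := by
        intro x hx
        induction hx using Submodule.span_induction with
        | mem x hx =>
          obtain ⟨i, hi, rfl⟩ := hx
          rw [hAd.gram, if_neg (fun e => (lt_of_lt_of_le hi hkj).ne (Fin.rev_injective e).symm)]
        | zero => simp [hermForm]
        | add x y _ _ hx hy => rw [hermForm_add_left, hx, hy, add_zero]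
        | smul c x _ hx => rw [hermForm_smul_left, hx, mul_zero]
      exact this _ (hAd.tri s hs j)
    have hlin : hermForm n F q (suVal s *ᵥ b j - b j) (b k.rev) =
        hermForm n F q (suVal s *ᵥ b j) (b k.rev) - hermForm n F q (b j) (b k.rev) :=
      (hermB hF n (b k.rev)).map_sub _ _
    have hsum : hermForm n F q (suVal s *ᵥ b j) (b k.rev) = ent X k j := by
      rw [hsb]
      refine (map_sum (hermB hF n (b k.rev)) _ _).trans ?_
      simp only [map_smul, smul_eq_mul, hermB_apply, hAd.gram, Fin.rev_inj, mul_ite, mul_one, mul_zero,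
        Finset.sum_ite_eq, Finset.mem_univ, if_true]
    rw [h0, hsum, hAd.gram] at hlin
    simp only [Fin.rev_inj] at hlin
    exact sub_eq_zero.1 hlin.symm
  exact ⟨fun k j hjk => (key k j hjk.le).trans (if_neg hjk.ne'), fun k => (key k k le_rfl).trans (if_pos rfl)⟩

end Cfsg.Agent.Lie.TwoUnitEven
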