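import Cfsg.Agent.Lib.Fus.UnitSylow

/-!
A basis adapted to a `p`-subgroup of `SU_n(q)` in the defining characteristic, with antidiagonal Gram matrix.
-/

set_option autoImplicit false
set_option linter.unusedSectionVars false
set_option linter.style.haveILetI false

namespace Cfsg.Agent.Lie.TwoUnit

open Matrix Cfsg.Agent.Classical Cfsg.Agent.Classical.PSUAut Cfsg.Agent.Fus.UnitN

variable {F : Type*} [Field F] [Fintype F] {q n : ℕ}

local notation "V" => (Fin n → F)
local notation "SUn" => SU n F q

variable (hF : Fintype.card F = q ^ 2) {p : ℕ} [Fact p.Prime] [CharP F p]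

local notation "h" => hermForm n F q
local notation "cj" => qFrob hF

/-- The span of the earlier vectors. -/
def below {k : ℕ} (b : Fin k → V) (i : Fin k) : Submodule F V := Submodule.span F (b '' Set.Iio i)

/-- A basis of `W` adapted to `X`. -/
structure Adapted (W : Submodule F V) (X : Subgroup SUn) {k : ℕ} (b : Fin k → V) : Prop where
  mem : ∀ i, b i ∈ W
  gram : ∀ i j : Fin k, hermForm n F q (b i) (b j) = if j = i.rev then 1 else 0
  span : W ≤ Submodule.span F (Set.range b)
  tri : ∀ s ∈ X, ∀ i, suVal s *ᵥ b i - b i ∈ below b i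

include hF

theorem exists_adapted : ∀ (N : ℕ) (W : Submodule F V), Nat.card W = N → Frame q W →
    ∀ X : Subgroup SUn, X ≤ gW W → IsPGroup p X → ∃ (k : ℕ) (b : Fin k → V), Adapted W X b := by
  intro N
  induction N using Nat.strong_induction_on with
  | _ N ih =>
  intro W hN hW X hXW hX
  rcases frame_dichotomy hF W with ⟨z0, hz0m, hz0, hz0z⟩ | hline
  · obtain ⟨z, hz, hzne, hzz, hfix⟩ := exists_fixed_isotropic (p := p) hF hW hz0m hz0 hz0z hX hXW
    obtain ⟨y, hy, hzy⟩ := exists_partner hF hW hz hzne hzz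
    set W' := nextW (q := q) W z y with hW'
    set K := heisU hF z hzz ⊓ gW W ⊔ X with hK
    have hKp : IsPGroup p K := by
      refine IsPGroup.to_sup_of_normal_left' ((isPGroup_heisU hF hzz).to_le inf_le_left) hX
        fun s hs => Subgroup.mem_normalizer_iff.2 fun u => ⟨fun hu => ?_, fun hu => ?_⟩
      · exact conj_heis hF hzz (hXW hs) (hfix s hs) hu
      · have := conj_heis hF hzz (inv_mem (hXW hs)) (hfix _ (inv_mem hs)) hu
        simpa [mul_assoc] using this
    obtain ⟨k, b', hb⟩ := ih _ (hN ▸ next_card_lt hF hzy hz) W' rfl (hW.next hF hzy hz hy) (K ⊓ gW W')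
      inf_le_right (hKp.to_le inf_le_left)
    have hW'y : ∀ x ∈ W', hermForm n F q x z = 0 ∧ hermForm n F q x y = 0 := fun x hx => hx.2
    set b : Fin (k + 1 + 1) → V := Fin.cons z (Fin.snoc b' y) with hbdef
    have b0 : b 0 = z := rfl
    have bm : ∀ j : Fin k, b (Fin.succ j.castSucc) = b' j := fun j => by simp [hbdef]
    have bl : b (Fin.succ (Fin.last k)) = y := by simp [hbdef]
    have r0 : (0 : Fin (k + 1 + 1)).rev = Fin.succ (Fin.last k) := Fin.ext (by simp)
    have rm : ∀ j : Fin k, (Fin.succ j.castSucc).rev = Fin.succ j.rev.castSucc := fun j => Fin.ext (by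
      simp [Fin.val_rev]; omega)
    have rl : (Fin.succ (Fin.last k)).rev = (0 : Fin (k + 1 + 1)) := Fin.ext (by simp)
    have hcases : ∀ (P : Fin (k + 1 + 1) → Prop), P 0 → (∀ j : Fin k, P (Fin.succ j.castSucc)) →
        P (Fin.succ (Fin.last k)) → ∀ i, P i := fun P h0 hm hl i => by
      induction i using Fin.cases with
      | zero => exact h0
      | succ i => induction i using Fin.lastCases with
        | last => exact hl
        | cast i => exact hm i
    have hne1 : ∀ j : Fin k, Fin.succ j.castSucc ≠ Fin.succ (Fin.last k) := fun j e =>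
      (Fin.castSucc_lt_last j).ne (Fin.succ_injective _ e)
    have hz0' : ∀ j : Fin (k + 1), Fin.succ j ≠ (0 : Fin (k + 1 + 1)) := fun j => Fin.succ_ne_zero j
    have hbelow : ∀ j : Fin k, below b' j ≤ below b (Fin.succ j.castSucc) := fun j => by
      refine Submodule.span_le.2 ?_
      rintro _ ⟨i, hi, rfl⟩
      exact Submodule.subset_span ⟨Fin.succ i.castSucc, Fin.succ_lt_succ_iff.2 (Fin.castSucc_lt_castSucc_iff.2 hi), bm i⟩
    have hzb : ∀ i, i ≠ 0 → z ∈ below b i := fun i hi =>
      Submodule.subset_span ⟨0, Fin.pos_iff_ne_zero.2 hi, b0⟩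
    have hW'b : W' ≤ below b (Fin.succ (Fin.last k)) := hb.span.trans (Submodule.span_le.2 (by
      rintro _ ⟨i, rfl⟩
      exact Submodule.subset_span ⟨_, Fin.succ_lt_succ_iff.2 (Fin.castSucc_lt_last i), bm i⟩))
    refine ⟨k + 1 + 1, b, ⟨?_, ?_, ?_, ?_⟩⟩
    · exact hcases _ (b0 ▸ hz) (fun j => by rw [bm]; exact (hb.mem j).1) (bl ▸ hy)
    · refine hcases _ ?_ (fun i => ?_) ?_
      · refine hcases _ ?_ (fun j => ?_) ?_
        · rw [b0, r0, if_neg (hz0' _).symm, hzz]
        · rw [b0, bm, r0, if_neg (hne1 j)]; exact h_comm_zero hF (hW'y _ (hb.mem j)).1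
        · rw [b0, bl, r0, if_pos rfl, hzy.ef]
      · refine hcases _ ?_ (fun j => ?_) ?_
        · rw [b0, bm, rm, if_neg (hz0' _).symm]; exact (hW'y _ (hb.mem i)).1
        · rw [bm, bm, rm, hb.gram i j]
          simp [Fin.succ_inj]
        · rw [bl, bm, rm, if_neg (hne1 _).symm]; exact (hW'y _ (hb.mem i)).2
      · refine hcases _ ?_ (fun j => ?_) ?_
        · rw [b0, bl, rl, if_pos rfl, hzy.fe hF]
        · rw [bl, bm, rl, if_neg (hz0' _)]; exact h_comm_zero hF (hW'y _ (hb.mem j)).2
        · rw [bl, rl, if_neg (hz0' _), hzy.ff]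
    · intro x hx
      have hxd := wPart_eq (q := q) z y x
      have hw : wPart (q := q) z y x ∈ W' := by
        refine ⟨?_, wPart_mem hF hzy x⟩
        unfold wPart
        exact Submodule.sub_mem _ hx (Submodule.add_mem _ (Submodule.smul_mem _ _ hz) (Submodule.smul_mem _ _ hy))
      rw [hxd]
      refine Submodule.add_mem _ (Submodule.add_mem _ (Submodule.smul_mem _ _ (Submodule.subset_span ⟨0, b0⟩))
        (Submodule.smul_mem _ _ (Submodule.subset_span ⟨_, bl⟩))) ?_
      exact Submodule.span_mono (Set.image_subset_range _ _) (hW'b hw)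
    · intro s hs
      obtain ⟨w, c, H, hw, hrest⟩ := exists_heis_split hF hW hzy hz hy (hXW hs) (hfix s hs)
      have hE : eSU hF H ∈ heisU hF z hzz ⊓ gW W := ⟨⟨w, c, H, rfl⟩, eSU_mem_gW hF hz hw.1 H⟩
      set r := (eSU hF H)⁻¹ * s with hr
      have hrK : r ∈ K ⊓ gW W' := ⟨K.mul_mem (K.inv_mem (Subgroup.mem_sup_left hE)) (Subgroup.mem_sup_right hs), hrest⟩
      have hsr : s = eSU hF H * r := by rw [hr, mul_inv_cancel_left]
      refine hcases _ ?_ (fun j => ?_) ?_
      · rw [b0, hfix s hs, sub_self]; exact zero_mem _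
      · have hrb : suVal r *ᵥ b' j ∈ W' := gW_map hF (hW.next hF hzy hz hy) hrest (hb.mem j)
        have e : suVal s *ᵥ b' j - b' j =
            (suVal r *ᵥ b' j - b' j) - hermForm n F q (suVal r *ᵥ b' j) w • z := by
          rw [hsr, mulVec_mul, eSU_apply hF, (hW'y _ hrb).1]
          simp only [zero_smul, mul_zero, zero_sub, add_zero]
          abel
        rw [bm, e]
        exact Submodule.sub_mem _ (hbelow j (hb.tri r hrK j)) (Submodule.smul_mem _ _ (hzb _ (hz0' _)))
      · have e : suVal s *ᵥ y - y = w - hermForm n F q y w • z + (c * hermForm n F q y z) • z := by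
          rw [hsr, mulVec_mul, (gW_next_fix hF hrest).2, eSU_apply hF, hzy.fe hF, one_smul]
          abel
        rw [bl, e]
        exact Submodule.add_mem _ (Submodule.sub_mem _ (hW'b hw) (Submodule.smul_mem _ _ (hzb _ (hz0' _))))
          (Submodule.smul_mem _ _ (hzb _ (hz0' _)))
  · by_cases h0 : ∃ a ∈ W, a ≠ 0
    · obtain ⟨a, ha, ha0⟩ := h0
      obtain ⟨u, hu, huu⟩ := exists_aniso hF hW ha ha0
      have hu0 : u ≠ 0 := fun e => huu (by rw [e, h_zero_left])
      obtain ⟨s, hs⟩ := exists_norm hF (a := (hermForm n F q u u)⁻¹) (by rw [map_inv₀, cj_h_self hF])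
      refine ⟨1, fun _ => s • u, ⟨fun _ => Submodule.smul_mem _ _ hu, fun i j => ?_, fun x hx => ?_, fun g hg i => ?_⟩⟩
      · rw [if_pos (Subsingleton.elim _ _), h_smul_left, h_smul_right hF, ← mul_assoc, hs, inv_mul_cancel₀ huu]
      · obtain ⟨d, rfl⟩ := hline (s • u) (Submodule.smul_mem _ _ hu) (smul_ne_zero (fun e => by
          rw [e, zero_mul] at hs; exact huu (inv_eq_zero.1 hs.symm)) hu0) x hx
        exact Submodule.smul_mem _ _ (Submodule.subset_span ⟨0, rfl⟩)
      · rw [eq_one_of_line hF hW hline (hXW hg), suVal_one', Matrix.one_mulVec, sub_self]; exact zero_mem _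
    · push Not at h0
      exact ⟨0, Fin.elim0, ⟨fun i => i.elim0, fun i => i.elim0,
        fun x hx => by rw [h0 x hx]; exact zero_mem _, fun _ _ i => i.elim0⟩⟩

theorem Adapted.indep {W : Submodule F V} {X : Subgroup SUn} {k : ℕ} {b : Fin k → V} (hb : Adapted W X b) :
    LinearIndependent F b := by
  rw [Fintype.linearIndependent_iff]
  intro c hc i
  have hsum : ∀ (t : Finset (Fin k)) (v : V),
      hermForm n F q (∑ j ∈ t, c j • b j) v = ∑ j ∈ t, c j * hermForm n F q (b j) v := by
    intro t v
    classical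
    induction t using Finset.induction_on with
    | empty => simp [h_zero_left]
    | insert a t ha ih => rw [Finset.sum_insert ha, Finset.sum_insert ha, h_add_left, h_smul_left, ih]
  have := hsum Finset.univ (b i.rev)
  rw [hc, h_zero_left, Finset.sum_eq_single i (fun j _ hj => by
    rw [hb.gram, if_neg (fun e => hj (Fin.rev_injective e).symm), mul_zero]) (fun hh => absurd (Finset.mem_univ i) hh),
    hb.gram, if_pos rfl, mul_one] at this
  exact this.symm

/-- A full adapted basis. -/
theorem exists_basis {X : Subgroup SUn} (hX : IsPGroup p X) :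
    ∃ b : Fin n → V, Adapted ⊤ X b ∧ LinearIndependent F b := by
  obtain ⟨k, b, hb⟩ := exists_adapted hF _ (⊤ : Submodule F V) rfl frame_top X (fun s _ => gW_top hF s) hX
  have hind := hb.indep hF
  have hk : k = n := by
    have e := finrank_span_eq_card hind
    rw [eq_top_iff.2 hb.span, finrank_top, Module.finrank_pi, Fintype.card_fin, Fintype.card_fin] at e
    exact e.symm
  subst hk
  exact ⟨b, hb, hind⟩

end Cfsg.Agent.Lie.TwoUnit
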