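import Cfsg.Agent.Lib.Lie.TwoUnitBase
import Cfsg.Agent.Lib.Classical.UnitCenter

/-!
`SU_{2^w}(q)` and `PSU_{2^w}(q)`, `q` odd, `w ≥ 2`, have self-normalising Sylow 2-subgroups.
-/

set_option autoImplicit false
set_option linter.unusedSectionVars false

namespace Cfsg.Agent.Lie.TwoUnitBase

open Matrix Cfsg.Agent.Classical Cfsg.Agent.Classical.PSUAut Cfsg.Agent.Lie.TwoDouble

universe u
variable {F : Type u} [Field F] [Fintype F] {q : ℕ} (hF : Fintype.card F = q ^ 2)

local notation "cj" => qFrob hF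

include hF

theorem two_ne_zero' (hq : Odd q) : (2 : F) ≠ 0 := Ring.two_ne_zero fun h => by
  have := FiniteField.even_card_of_char_two h
  rw [hF, Nat.pow_mod, Nat.odd_iff.1 hq] at this
  simp at this

theorem exists_full_plane (hq : q % 4 = 1) :
    ∃ S : Subgroup (GL (Fin 2) F), Full (GUg hF (Fin 2)) S ∧
      Nat.card S = 2 * 2 ^ padicValNat 2 (q ^ 2 - 1) := by
  have h2 : (2 : F) ≠ 0 := two_ne_zero' hF (by rw [Nat.odd_iff]; omega)
  obtain ⟨e, he⟩ := exists_norm hF (a := (-1 : F)) (by rw [map_neg, map_one])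
  have hd : Matrix.det !![(1 : F), 1/2; e, -e/2] ≠ 0 := by
    rw [Matrix.det_fin_two_of, show (1 : F) * (-e/2) - 1/2 * e = -e by field_simp; ring, neg_ne_zero]
    rintro rfl
    simp at he
  set P := Matrix.GeneralLinearGroup.mkOfDetNeZero _ hd with hPdef
  have hPv : P.val = !![(1 : F), 1/2; e, -e/2] := rfl
  have hgram : P.valᵀ * P.val.map cj = (w2 : GL (Fin 2) F).val := by
    rw [hPv, w2_val]
    ext i j
    fin_cases i <;> fin_cases j <;>
      simp [Matrix.mul_apply, Fin.sum_univ_two, map_div₀, map_ofNat] <;> field_simp <;>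
      first
        | linear_combination he
        | linear_combination -he
        | linear_combination (2 : F) * he
        | linear_combination (-2 : F) * he
  have hmap : (GUh hF).map (MulAut.conj P).toMonoidHom = GUg hF (Fin 2) := by
    ext g
    rw [Subgroup.mem_map_equiv, MulAut.conj_symm_apply, mem_GUg]
    show (P⁻¹ * g * P).valᵀ * (w2 : GL (Fin 2) F).val * (P⁻¹ * g * P).val.map cj = _ ↔ _
    rw [← hgram]
    have key : (P⁻¹ * g * P).valᵀ * (P.valᵀ * P.val.map cj) * (P⁻¹ * g * P).val.map cj =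
        P.valᵀ * (g.valᵀ * g.val.map cj) * P.val.map cj := by
      have e1 : P.val * (P⁻¹ * g * P).val = g.val * P.val := by
        rw [← Units.val_mul, ← Units.val_mul]; congr 1; group
      calc _ = (P.val * (P⁻¹ * g * P).val)ᵀ * (P.val * (P⁻¹ * g * P).val).map cj := by
            rw [Matrix.transpose_mul, Matrix.map_mul]; simp only [mul_assoc]
        _ = _ := by rw [e1, Matrix.transpose_mul, Matrix.map_mul]; simp only [mul_assoc]
    rw [key]
    constructor
    · intro h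
      have hu1 : IsUnit P.valᵀ := (Matrix.isUnit_transpose _).2 P.isUnit
      have hu2 : IsUnit (P.val.map cj) := P.isUnit.map (RingHom.mapMatrix (qFrob hF))
      have h' : P.valᵀ * (g.valᵀ * g.val.map cj) * P.val.map cj = P.valᵀ * 1 * P.val.map cj := by rw [h, mul_one]
      exact hu1.mul_left_cancel (hu2.mul_right_cancel h')
    · intro h; rw [h, mul_one]
  refine ⟨(semiH hF).map (MulAut.conj P).toMonoidHom, hmap ▸ full_map P (full_semiH hF hq), ?_⟩
  rw [Nat.card_congr (Subgroup.equivMapOfInjective _ _ (MulAut.conj P).injective).symm.toEquiv, card_semiH hF hq]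

theorem v_double {k : ℕ} (hq : Odd q) :
    padicValNat 2 (Nat.card (GU (2 ^ (k + 2)) F q)) = 2 * padicValNat 2 (Nat.card (GU (2 ^ (k + 1)) F q)) + 1 := by
  rw [TwoUnitCard.padicValNat_card_GU hq hF, TwoUnitCard.padicValNat_card_GU hq hF,
    show 2 ^ (k + 2) / 2 = 2 ^ (k + 1) by rw [pow_succ 2 (k + 1), Nat.mul_div_cancel _ two_pos],
    show 2 ^ (k + 1) / 2 = 2 ^ k by rw [pow_succ, Nat.mul_div_cancel _ two_pos], two_pow_factorial, two_pow_factorial]
  have := Nat.one_le_two_pow (n := k)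
  rw [show 2 ^ (k + 2) = 4 * 2 ^ k by ring, show 2 ^ (k + 1) = 2 * 2 ^ k by ring]
  generalize padicValNat 2 (q + 1) = B
  generalize padicValNat 2 (q - 1) = A
  generalize 2 ^ k = j at this
  obtain ⟨j, rfl⟩ : ∃ j', j = j' + 1 := ⟨j - 1, by omega⟩
  rw [show 2 * (j + 1) - 1 = 2 * j + 1 by omega, Nat.add_sub_cancel]
  ring

theorem exists_full_baseU (hq : Odd q) :
    ∃ (α : Type) (_ : Fintype α) (_ : DecidableEq α) (_ : Nonempty α) (S : Subgroup (GL α F)),
      Fintype.card α = 2 ^ (0 + 1) ∧ Full (GUg hF α) S ∧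
      Nat.card S = 2 ^ padicValNat 2 (Nat.card (GU (2 ^ (0 + 1)) F q)) := by
  haveI : Fact (Nat.Prime 2) := ⟨Nat.prime_two⟩
  have h2 := two_ne_zero' hF hq
  have hq1 : 1 < q := two_le_q hF
  have hv : padicValNat 2 (Nat.card (GU (2 ^ (0 + 1)) F q)) =
      2 * padicValNat 2 (q + 1) + padicValNat 2 (q - 1) := by
    rw [TwoUnitCard.padicValNat_card_GU hq hF]; simp
  rcases (show q % 4 = 1 ∨ q % 4 = 3 by rw [Nat.odd_iff] at hq; omega) with h4 | h4
  · obtain ⟨S, hS, hc⟩ := exists_full_plane hF h4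
    refine ⟨Fin 2, inferInstance, inferInstance, inferInstance, S, by simp, hS, ?_⟩
    have hB : padicValNat 2 (q + 1) = 1 := by
      obtain ⟨j, hj⟩ : ∃ j, q = 4 * j + 1 := ⟨q / 4, by omega⟩
      rw [hj, show 4 * j + 1 + 1 = 2 * (2 * j + 1) by omega, padicValNat.mul two_ne_zero (by omega), padicValNat_self,
        padicValNat.eq_zero_of_not_dvd (by omega)]
    rw [hc, hv, hB, ← pow_succ', show q ^ 2 - 1 = (q - 1) * (q + 1) by
      obtain ⟨j, rfl⟩ : ∃ j, q = j + 1 := ⟨q - 1, by omega⟩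
      rw [Nat.add_sub_cancel, show (j + 1) ^ 2 = j * (j + 1 + 1) + 1 by ring, Nat.add_sub_cancel],
      padicValNat.mul (by omega) (by omega), hB]
    congr 1; ring
  · set N : Subgroup Fˣ := (powMonoidHom (2 ^ padicValNat 2 (q + 1)) : Fˣ →* Fˣ).ker with hN
    set S₁ : Subgroup (GL (Fin 1) F) := N.map (scl (Fin 1) F)
    have hB0 : q + 1 ≠ 0 := by omega
    have hdvd : q + 1 ∣ q ^ 2 - 1 := by
      obtain ⟨j, rfl⟩ : ∃ j, q = j + 1 := ⟨q - 1, by omega⟩
      exact ⟨j, by rw [show (j + 1) ^ 2 = (j + 1 + 1) * j + 1 by ring, Nat.add_sub_cancel]⟩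
    have hcardN : Nat.card N = 2 ^ padicValNat 2 (q + 1) := by
      rw [hN, IsCyclic.card_powMonoidHom_ker, Nat.card_units, Nat.card_eq_fintype_card, hF,
        Nat.gcd_eq_right (pow_padicValNat_dvd.trans hdvd)]
    have hinj : Function.Injective (scl (Fin 1) F) := fun a b e => by
      have := ent' e 0 0
      rw [scl_val, scl_val] at this
      exact Units.ext (by simpa [Matrix.smul_apply] using this)
    have hNmem : ∀ c : Fˣ, c ^ (q + 1) = 1 → Two c → c ∈ N := fun c hc ⟨k, hk⟩ => by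
      obtain ⟨i, -, hi⟩ := (Nat.dvd_prime_pow Nat.prime_two).1 (orderOf_dvd_of_pow_eq_one hk)
      have hd := orderOf_dvd_of_pow_eq_one hc
      rw [hi, padicValNat_dvd_iff_le hB0] at hd
      exact orderOf_dvd_iff_pow_eq_one.1 (hi ▸ Nat.pow_dvd_pow 2 hd)
    have hNq : ∀ c ∈ N, c ^ (q + 1) = 1 := fun c hc => by
      obtain ⟨r, hr⟩ := pow_padicValNat_dvd (p := 2) (n := q + 1)
      rw [hr, pow_mul, show c ^ 2 ^ padicValNat 2 (q + 1) = 1 from hc, one_pow]
    have hall : ∀ a : GL (Fin 1) F, Sc a := fun a => ⟨a.val 0 0, by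
      ext i j; fin_cases i; fin_cases j; simp⟩
    have hpre : Pre (GUg hF (Fin 1)) S₁ := by
      refine ⟨?_, ?_, fun c hc hc2 => ⟨c, hNmem c ((scl_mem_iff hF).1 hc) hc2, rfl⟩, fun a _ => hall a,
        fun x _ _ => ?_, ?_⟩
      · rintro _ ⟨c, hc, rfl⟩
        exact (scl_mem_iff hF).2 (hNq c hc)
      · rintro _ ⟨c, hc, rfl⟩
        exact ⟨_, by rw [← map_pow, show c ^ 2 ^ padicValNat 2 (q + 1) = 1 from hc, map_one]⟩
      · obtain ⟨c, hc⟩ := (hall x).exists_scl
        exact ⟨1, one_mem _, c, by rw [one_mul, hc]⟩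
      · obtain ⟨g, hg⟩ := IsCyclic.exists_ofOrder_eq_natCard (α := N)
        rw [hcardN] at hg
        refine ⟨scl (Fin 1) F g, ⟨g, g.2, rfl⟩, fun e => ?_⟩
        rw [← map_mul, ← map_one (scl (Fin 1) F)] at e
        have h22 : g ^ 2 = 1 := Subtype.ext (by rw [sq]; exact hinj e)
        have := orderOf_dvd_of_pow_eq_one h22
        rw [hg] at this
        have h4 : 2 ^ 2 ∣ q + 1 := by norm_num; omega
        rw [padicValNat_dvd_iff_le hB0] at h4
        have := Nat.le_of_dvd two_pos this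
        have := Nat.pow_le_pow_right two_pos h4
        omega
    refine ⟨Fin 1 ⊕ Fin 1, inferInstance, inferInstance, inferInstance, dbl S₁, by simp,
      pre_dbl (dbl_GUg hF _) hpre h2 (neg_mem hF _), ?_⟩
    have hA : padicValNat 2 (q - 1) = 1 := by
      obtain ⟨j, hj⟩ : ∃ j, q = 4 * j + 3 := ⟨q / 4, by omega⟩
      rw [hj, show 4 * j + 3 - 1 = 2 * (2 * j + 1) by omega, padicValNat.mul two_ne_zero (by omega), padicValNat_self,
        padicValNat.eq_zero_of_not_dvd (by omega)]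
    rw [card_dbl, Nat.card_congr (Subgroup.equivMapOfInjective _ _ hinj).symm.toEquiv, hcardN, hv, hA, ← pow_mul,
      ← pow_succ']
    congr 1; ring

theorem exists_fullU (hq : Odd q) : ∀ k : ℕ,
    ∃ (α : Type) (_ : Fintype α) (_ : DecidableEq α) (_ : Nonempty α) (S : Subgroup (GL α F)),
      Fintype.card α = 2 ^ (k + 1) ∧ Full (GUg hF α) S ∧
      Nat.card S = 2 ^ padicValNat 2 (Nat.card (GU (2 ^ (k + 1)) F q))
  | 0 => exists_full_baseU hF hq
  | k + 1 => by
    obtain ⟨α, i1, i2, i3, S, hc, hS, hn⟩ := exists_fullU hq k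
    refine ⟨α ⊕ α, inferInstance, inferInstance, inferInstance, dbl S, ?_,
      pre_dbl (dbl_GUg hF α) hS.pre (two_ne_zero' hF hq) (neg_mem hF α), ?_⟩
    · rw [Fintype.card_sum, hc]; ring
    · rw [card_dbl, hn, v_double hF hq, ← pow_mul, ← pow_succ']
      congr 1; ring

theorem exists_selfnorm_SU (hq : Odd q) {w : ℕ} (hw : 2 ≤ w) :
    ∃ T : Sylow 2 (SU (2 ^ w) F q),
      Subgroup.normalizer ((T : Subgroup (SU (2 ^ w) F q)) : Set (SU (2 ^ w) F q)) =
        (T : Subgroup (SU (2 ^ w) F q)) := by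
  haveI : Fact (Nat.Prime 2) := ⟨Nat.prime_two⟩
  have h2 := two_ne_zero' hF hq
  obtain ⟨k, rfl⟩ : ∃ k, w = k + 2 := ⟨w - 2, by omega⟩
  obtain ⟨α, i1, i2, i3, S, hc, hS, hn⟩ := exists_fullU hF hq k
  have hcard : Fintype.card (α ⊕ α) = 2 ^ (k + 2) := by rw [Fintype.card_sum, hc]; ring
  let e : α ⊕ α ≃ Fin (2 ^ (k + 2)) := Fintype.equivFinOfCardEq hcard
  have hd := pre_dbl (dbl_GUg hF α) hS.pre h2 (neg_mem hF α)
  let E := guEquiv hF e
  -- the inclusion of `SU` into the unitary group of the doubled space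
  let ι : SU (2 ^ (k + 2)) F q →* GL (α ⊕ α) F :=
    (Units.mapEquiv (Matrix.reindexRingEquiv F e.symm).toMulEquiv).toMonoidHom.comp
      (Matrix.SpecialLinearGroup.toGL.comp (SU (2 ^ (k + 2)) F q).subtype)
  have hιv : ∀ s, (ι s).val = Matrix.reindex e.symm e.symm (suVal s) := fun s => rfl
  have hι : Function.Injective ι := fun a b h => by
    have h' := congrArg Units.val h
    rw [hιv, hιv] at h'
    exact suVal_ext ((Matrix.reindex e.symm e.symm).injective h')
  have hιG : ∀ s, ι s ∈ GUg hF (α ⊕ α) := fun s => by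
    rw [mem_GUg, hιv, Matrix.reindex_apply, Matrix.transpose_submatrix, ← Matrix.submatrix_map,
      Matrix.submatrix_mul_equiv, suVal_transpose_mul hF, Matrix.submatrix_one_equiv]
  have hιd : ∀ s, (ι s).val.det = 1 := fun s => by rw [hιv, Matrix.det_reindex_self]; exact s.1.2
  have hιs : ∀ u : GL (α ⊕ α) F, u ∈ GUg hF (α ⊕ α) → u.val.det = 1 → ∃ s, ι s = u := fun u hu hu1 => by
    refine ⟨suMk hF (Matrix.reindex e e u.val) (by rw [Matrix.det_reindex_self]; exact hu1) ?_, Units.ext ?_⟩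
    · rw [Matrix.reindex_apply, Matrix.transpose_submatrix, ← Matrix.submatrix_map, Matrix.submatrix_mul_equiv,
        show u.valᵀ * u.val.map cj = 1 from hu, Matrix.submatrix_one_equiv]
    · rw [hιv, suVal_suMk]; ext; simp
  set T₀ := (dbl S).comap ι
  have hT₀p : IsPGroup 2 T₀ := by
    refine IsPGroup.comap_of_injective ?_ ι hι
    intro y
    obtain ⟨i, hi⟩ := hd.pre.two y.1 y.2
    exact ⟨i, Subtype.ext (by simpa using hi)⟩
  -- `T₀` is a Sylow subgroup
  let ι' : SU (2 ^ (k + 2)) F q →* GUg hF (α ⊕ α) := ι.codRestrict _ hιG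
  have hfull : Nat.card ((dbl S).subgroupOf (GUg hF (α ⊕ α))) =
      2 ^ (Nat.card (GUg hF (α ⊕ α))).factorization 2 := by
    rw [Nat.card_congr (Subgroup.subgroupOfEquivOfLe hd.pre.le).toEquiv, card_dbl, hn,
      Nat.factorization_def _ Nat.prime_two, card_GUg hF e, v_double hF hq, ← pow_mul, ← pow_succ']
    congr 1; ring
  let P : Sylow 2 (GUg hF (α ⊕ α)) := Sylow.ofCard _ hfull
  obtain ⟨T, hT⟩ := hT₀p.exists_le_sylow
  have hTT : (T : Subgroup (SU (2 ^ (k + 2)) F q)) = T₀ := by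
    obtain ⟨P', hP'⟩ := (T.isPGroup'.map ι').exists_le_sylow
    obtain ⟨g, hg⟩ := MulAction.exists_smul_eq (GUg hF (α ⊕ α)) P' P
    have hmem : ∀ y : T, ∃ s ∈ T₀, ι s = (g : GL (α ⊕ α) F) * ι y.1 * (g : GL (α ⊕ α) F)⁻¹ := fun y => by
      have h1 : g * ι' y.1 * g⁻¹ ∈ ((g • P' : Sylow 2 (GUg hF (α ⊕ α))) : Subgroup (GUg hF (α ⊕ α))) :=
        ⟨ι' y.1, hP' ⟨y.1, y.2, rfl⟩, rfl⟩
      rw [hg] at h1
      have h1' : (g : GL (α ⊕ α) F) * ι y.1 * (g : GL (α ⊕ α) F)⁻¹ ∈ dbl S := h1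
      obtain ⟨s, hs⟩ := hιs _ (g * ι' y.1 * g⁻¹).2 (by
        show ((g : GL (α ⊕ α) F) * ι y.1 * (g : GL (α ⊕ α) F)⁻¹).val.det = 1
        rw [Units.val_mul, Units.val_mul, det_mul_right_comm, ← Units.val_mul, mul_inv_cancel, Units.val_one,
          one_mul]
        exact hιd _)
      have hs' : ι s = (g : GL (α ⊕ α) F) * ι y.1 * (g : GL (α ⊕ α) F)⁻¹ := hs
      exact ⟨s, show ι s ∈ dbl S from hs' ▸ h1', hs'⟩
    choose f hf hfv using hmem
    have hinjf : Function.Injective (fun y : T => (⟨f y, hf y⟩ : T₀)) := fun y y' h => by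
      have h' : f y = f y' := congrArg Subtype.val h
      have := congrArg ι h'
      rw [hfv, hfv] at this
      exact Subtype.ext (hι (mul_left_cancel (mul_right_cancel this)))
    exact (Subgroup.eq_of_le_of_card_ge hT (Nat.card_le_card_of_injective _ hinjf)).symm
  refine ⟨T, ?_⟩
  rw [hTT]
  refine le_antisymm (fun x hx => ?_) Subgroup.le_normalizer
  have hev : Even (Fintype.card α) := by rw [hc, pow_succ]; exact even_two.mul_left _
  obtain ⟨y, hy, c, hco, hcn, -, hxy⟩ := special_normalizer (dbl_GUg hF α) hS h2 (neg_mem hF α) hev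
    (x := ι x) (hιG x) (hιd x) (fun t ⟨ht1, ht2⟩ => by
      obtain ⟨t', rfl⟩ := hιs t (hd.pre.le ht1) (mem_sdet.1 ht2)
      rw [← map_inv, ← map_mul, ← map_mul]
      exact ⟨(Subgroup.mem_normalizer_iff.1 hx t').1 ht1, mem_sdet.2 (hιd _)⟩)
  have hc1 : c = 1 := by
    refine eq_one_of_two_of_odd ⟨k + 2, ?_⟩ hco
    rw [← hcard, Fintype.card_sum]; exact hcn
  show ι x ∈ dbl S
  rw [hxy, hc1, map_one, mul_one]; exact hy

/-- `PSU_{2^w}(q)` has a self-normalising Sylow 2-subgroup. -/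
theorem exists_selfnorm_PSU (hq : Odd q) {w : ℕ} (hw : 2 ≤ w) :
    ∃ T : Sylow 2 (PSU (2 ^ w) F q),
      Subgroup.normalizer ((T : Subgroup (PSU (2 ^ w) F q)) : Set (PSU (2 ^ w) F q)) =
        (T : Subgroup (PSU (2 ^ w) F q)) := by
  haveI : Fact (Nat.Prime 2) := ⟨Nat.prime_two⟩
  obtain ⟨T, hT⟩ := exists_selfnorm_SU hF hq hw
  set π := QuotientGroup.mk' (Subgroup.center (SU (2 ^ w) F q))
  have hZ : Subgroup.center (SU (2 ^ w) F q) ≤ (T : Subgroup (SU (2 ^ w) F q)) := by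
    have hp : IsPGroup 2 (Subgroup.center (SU (2 ^ w) F q)) := by
      intro z
      obtain ⟨c, hc⟩ := suVal_scalar_of_mem_center hF z.2
      refine ⟨w, Subtype.ext (suVal_ext ?_)⟩
      have hdet := z.1.1.2
      rw [show (z.1.1 : Matrix _ _ F) = suVal z.1 from rfl, hc, Matrix.scalar_apply, Matrix.det_diagonal] at hdet
      rw [Subgroup.coe_pow, suVal_pow, hc, ← map_pow]
      show Matrix.scalar _ (c ^ 2 ^ w) = suVal ((1 : Subgroup.center (SU (2 ^ w) F q)) : SU (2 ^ w) F q)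
      rw [show c ^ 2 ^ w = 1 by simpa using hdet, map_one]
      rfl
    obtain ⟨T', hT'⟩ := hp.exists_le_sylow
    obtain ⟨g, hg⟩ := MulAction.exists_smul_eq (SU (2 ^ w) F q) T' T
    intro z hz
    rw [← hg]
    exact ⟨z, hT' hz, by simp [Subgroup.mem_center_iff.1 hz g]⟩
  refine ⟨T.mapSurjective (QuotientGroup.mk'_surjective _), le_antisymm (fun x hx => ?_) Subgroup.le_normalizer⟩
  obtain ⟨y, rfl⟩ := QuotientGroup.mk'_surjective _ x
  have hcm : ((T : Subgroup _).map π).comap π = T := by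
    rw [Subgroup.comap_map_eq, QuotientGroup.ker_mk', sup_eq_left.2 hZ]
  refine ⟨y, ?_, rfl⟩
  show y ∈ (T : Subgroup (SU (2 ^ w) F q))
  rw [← hT, Subgroup.mem_normalizer_iff]
  intro t
  show t ∈ (T : Subgroup (SU (2 ^ w) F q)) ↔ y * t * y⁻¹ ∈ (T : Subgroup (SU (2 ^ w) F q))
  rw [Sylow.coe_mapSurjective] at hx
  rw [← hcm, Subgroup.mem_comap, Subgroup.mem_comap, map_mul, map_mul, map_inv]
  exact Subgroup.mem_normalizer_iff.1 hx (π t)

end Cfsg.Agent.Lie.TwoUnitBase
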