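import Cfsg.Agent.Lib.Lie.UThreeFiveData

/-! Kernel checks of the certificates for `PSU₃(5)`, in coded arithmetic of the field with 25
elements: `a + 5 b` stands for `a + b √2`. -/

set_option autoImplicit false
set_option maxRecDepth 8000

namespace Cfsg.Agent.Lie.UThreeFive

/-- Addition. -/
def eAdd (x y : ℕ) : ℕ := (x % 5 + y % 5) % 5 + 5 * ((x / 5 + y / 5) % 5)

/-- Multiplication. -/
def eMul (x y : ℕ) : ℕ :=
  (x % 5 * (y % 5) + 2 * (x / 5 * (y / 5))) % 5 + 5 * ((x % 5 * (y / 5) + x / 5 * (y % 5)) % 5)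

/-- Negation. -/
def eNeg (x : ℕ) : ℕ := eMul 4 x

/-- Conjugation. -/
def eConj (x : ℕ) : ℕ := x % 5 + 5 * (4 * (x / 5) % 5)

/-- An entry. -/
def ent (L : List ℕ) (i j : ℕ) : ℕ := L.getD (3 * i + j) 0

/-- An entry of a product. -/
def prodEnt (A B : List ℕ) (i j : ℕ) : ℕ :=
  eAdd (eAdd (eMul (ent A i 0) (ent B 0 j)) (eMul (ent A i 1) (ent B 1 j)))
    (eMul (ent A i 2) (ent B 2 j))

/-- The product of matrices. -/
def mulL (A B : List ℕ) : List ℕ :=
  [prodEnt A B 0 0, prodEnt A B 0 1, prodEnt A B 0 2, prodEnt A B 1 0, prodEnt A B 1 1,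
    prodEnt A B 1 2, prodEnt A B 2 0, prodEnt A B 2 1, prodEnt A B 2 2]

/-- The identity. -/
def oneL : List ℕ := [1, 0, 0, 0, 1, 0, 0, 0, 1]

/-- Scalar multiples. -/
def scalL (c : ℕ) (A : List ℕ) : List ℕ :=
  [eMul c (ent A 0 0), eMul c (ent A 0 1), eMul c (ent A 0 2), eMul c (ent A 1 0),
    eMul c (ent A 1 1), eMul c (ent A 1 2), eMul c (ent A 2 0), eMul c (ent A 2 1), eMul c (ent A 2 2)]

/-- Transpose. -/
def transL (A : List ℕ) : List ℕ :=
  [ent A 0 0, ent A 1 0, ent A 2 0, ent A 0 1, ent A 1 1, ent A 2 1, ent A 0 2, ent A 1 2, ent A 2 2]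

/-- Entrywise conjugation. -/
def conjL (A : List ℕ) : List ℕ :=
  [eConj (ent A 0 0), eConj (ent A 0 1), eConj (ent A 0 2), eConj (ent A 1 0), eConj (ent A 1 1),
    eConj (ent A 1 2), eConj (ent A 2 0), eConj (ent A 2 1), eConj (ent A 2 2)]

/-- The determinant. -/
def detL (A : List ℕ) : ℕ :=
  eAdd (eAdd
    (eMul (ent A 0 0) (eAdd (eMul (ent A 1 1) (ent A 2 2)) (eNeg (eMul (ent A 1 2) (ent A 2 1)))))
    (eNeg (eMul (ent A 0 1) (eAdd (eMul (ent A 1 0) (ent A 2 2)) (eNeg (eMul (ent A 1 2) (ent A 2 0)))))))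
    (eMul (ent A 0 2) (eAdd (eMul (ent A 1 0) (ent A 2 1)) (eNeg (eMul (ent A 1 1) (ent A 2 0)))))

/-- A generator. -/
def mat (k : ℕ) : List ℕ := mats.getD k oneL

/-- The matrix of a word. -/
def evalW : List ℕ → List ℕ
  | [] => oneL
  | k :: w => mulL (mat k) (evalW w)

/-- The cube roots of unity. -/
def roots3 : List ℕ := [1, omega3, eMul omega3 omega3]

/-- Equality up to a scalar cube root of unity. -/
def projEq (A B : List ℕ) : Bool := roots3.any fun c => scalL c B == A

/-- Comparisons of the members of a list. -/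
def projNodup : List (List ℕ) → Bool
  | [] => true
  | A :: L => (L.all fun B => !projEq A B) && projNodup L

/-- A closed list of words with an injective list of values. -/
def checkTable (ws : List (List ℕ)) (tab : List (List ℕ)) (n : ℕ) : Bool :=
  Nat.beq ws.length n && (ws.getD 0 [1] == []) &&
  ((List.range n).all fun i => ((ws.getD i []).all fun k => Nat.beq k 3 || Nat.beq k 4) &&
    (List.range n).all fun j => Nat.blt ((tab.getD i []).getD j 0) n &&
      projEq (evalW (ws.getD i [] ++ ws.getD j []))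
        (evalW (ws.getD ((tab.getD i []).getD j 0) []))) &&
  projNodup (ws.map evalW)

/-- The word of a power. -/
def powW (w : List ℕ) (m : ℕ) : List ℕ := (List.replicate m w).flatten

/-- The Sylow subgroup. -/
def checkU : Bool :=
  Nat.beq uWords.length 125 && (uWords.getD 0 [1] == []) && (uWords.map evalW == uMats) &&
  ((List.range 125).all fun i => (uWords.getD i []).all fun k => Nat.blt k 2) &&
  ((List.range 2).all fun g => (List.range 125).all fun i =>
    Nat.blt ((uTab.getD g []).getD i 0) 125 &&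
      mulL (mat g) (uMats.getD i []) == uMats.getD ((uTab.getD g []).getD i 0) []) &&
  projNodup uMats &&
  ((List.range 2).all fun g =>
    mulL (mat g) (uMats.getD 1 []) == mulL (uMats.getD 1 []) (mat g)) &&
  ((List.range 5).all fun k => uWords.getD k [] == powW (uWords.getD 1 []) k) &&
  (evalW (powW (uWords.getD 1 []) 5) == oneL) &&
  (evalW ([0, 1] ++ [0, 0, 0, 0] ++ [1, 1, 1, 1]) == uMats.getD 1 []) &&
  (evalW [0, 0, 0, 0, 0] == oneL) && (evalW [1, 1, 1, 1, 1] == oneL) &&
  (evalW [2, 2, 2, 2, 2, 2, 2, 2] == oneL) &&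
  ((List.range 125).all fun i => Nat.blt (uConj.getD i 0) 125 &&
    mulL (mulL (mat 2) (uMats.getD i [])) (evalW [2, 2, 2, 2, 2, 2, 2]) ==
      uMats.getD (uConj.getD i 0) []) &&
  Nat.blt (uConj.getD 1 0) 5 &&
  ((List.range 120).all fun i => (List.range 5).all fun m =>
    !projEq (uMats.getD (uConj.getD (i + 5) 0) []) (evalW (powW (uWords.getD (i + 5) []) m))) &&
  ((List.range 120).all fun i => projEq (evalW (powW (uWords.getD (i + 5) []) 5)) oneL)

/-- A vector from its code. -/
def vecL (c : ℕ) : List ℕ := [c % 25, c / 25 % 25, c / 625]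

/-- The code of an image. -/
def appCode (A : List ℕ) (c : ℕ) : ℕ :=
  eAdd (eAdd (eMul (ent A 0 0) (c % 25)) (eMul (ent A 0 1) (c / 25 % 25))) (eMul (ent A 0 2) (c / 625)) +
  25 * eAdd (eAdd (eMul (ent A 1 0) (c % 25)) (eMul (ent A 1 1) (c / 25 % 25))) (eMul (ent A 1 2) (c / 625)) +
  625 * eAdd (eAdd (eMul (ent A 2 0) (c % 25)) (eMul (ent A 2 1) (c / 25 % 25))) (eMul (ent A 2 2) (c / 625))

/-- The bits of a list. -/
def bitsOf : List ℕ → ℕ
  | [] => 0
  | c :: L => Nat.lor (2 ^ c) (bitsOf L)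

/-- The orbit. -/
def checkOrbit : Bool :=
  Nat.beq orbitBits (bitsOf orbit) && (orbit.all fun c => Nat.blt c 15625) &&
  orbit.contains vec0 && (orbit.all fun c => Nat.testBit orbitBits (appCode (mat 3) c)) &&
  (orbit.all fun c => Nat.testBit orbitBits (appCode (mat 4) c)) &&
  (orbit.all fun c => roots3.all fun l => Nat.testBit orbitBits (appCode (scalL l oneL) c)) &&
  !Nat.testBit orbitBits (appCode (mat 5) vec0)

/-- The generators lie in the special unitary group, and the two special elements. -/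
def checkBasic : Bool :=
  Nat.beq mats.length 6 && ((List.range 6).all fun k => (mulL (transL (mat k)) (conjL (mat k)) == oneL) &&
    Nat.beq (detL (mat k)) 1) &&
  Nat.beq (eMul (eMul omega3 omega3) omega3) 1 &&
  Nat.beq (eAdd (eAdd 1 omega3) (eMul omega3 omega3)) 0 &&
  (evalW (powW word7 7) == scalL (ent (evalW (powW word7 7)) 0 0) oneL) && !projEq (evalW word7) oneL &&
  (evalW (powW word5 5) == scalL (ent (evalW (powW word5 5)) 0 0) oneL) && !projEq (evalW word5) oneL &&
  (word7.all fun k => Nat.beq k 3 || Nat.beq k 4) && (word5.all fun k => Nat.beq k 3 || Nat.beq k 4)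

theorem checkBasic_ok : checkBasic = true := by decide +kernel

theorem table8_ok : checkTable words8 tab8 8 = true := by decide +kernel

theorem table9_ok : checkTable words9 tab9 9 = true := by decide +kernel

theorem checkU_ok : checkU = true := by decide +kernel

theorem checkOrbit_ok : checkOrbit = true := by decide +kernel

end Cfsg.Agent.Lie.UThreeFive
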