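import Cfsg.Agent.Lib.Lie.UnPresHerm
import Cfsg.Agent.Lib.Lie.SpnPresBase
import Cfsg.Agent.Lib.Lie.Sl2Pair
import Cfsg.Agent.S2278
import Cfsg.Agent.S2279

/-!
`SL_{k+2}`: stabilisers of the first vector, transitivity on short independent families, signed swaps.
-/

set_option autoImplicit false
set_option linter.unusedSectionVars false

namespace Cfsg.Agent.Lie.UnPres

open Matrix
open Cfsg.Agent.Lie.SpnPres (extSL extSL_val extM extM_mulVec extM_mulVec_out incM sval_mul sval_one
  inv_mulVec mulVec_inv ext_mulVec_single exists_col)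

variable {F : Type*} [Field F] [Fintype F] {k : ℕ}

local notation "SLm" => SpecialLinearGroup (Fin (k + 2)) F
local notation "bv" a:max => (Pi.single a (1 : F) : Fin (k + 2) → F)

/-- The last coordinates. -/
def sE (k : ℕ) : Fin (k + 1) ↪ Fin (k + 2) := Fin.succEmb (k + 1)

theorem sE_apply (a : Fin (k + 1)) : sE k a = a.succ := rfl

theorem sE_ne (a : Fin (k + 1)) : sE k a ≠ 0 := Fin.succ_ne_zero a

/-- The subgroup fixing the first vector and its complement. -/
def extL : SpecialLinearGroup (Fin (k + 1)) F →* SLm := extSL (sE k)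

theorem inc_cons (r : Fin (k + 1) → F) :
    incM F (sE k) *ᵥ r = (Fin.cons 0 r : Fin (k + 2) → F) := by
  ext i
  cases i using Fin.cases with
  | zero => simp [incM, Matrix.mulVec, dotProduct, sE_apply, (Fin.succ_ne_zero _).symm]
  | succ a => simp [incM, Matrix.mulVec, dotProduct, sE_apply]

theorem cons_eq (x : F) (r : Fin (k + 1) → F) :
    (Fin.cons x r : Fin (k + 2) → F) = x • bv 0 + (Fin.cons 0 r : Fin (k + 2) → F) := by
  ext i
  cases i using Fin.cases <;> simp

theorem cons_single (a : Fin (k + 1)) (t : F) :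
    (Fin.cons 0 (Pi.single a t) : Fin (k + 2) → F) = Pi.single a.succ t := by
  ext i
  cases i using Fin.cases with
  | zero => simp [(Fin.succ_ne_zero a).symm]
  | succ b => simp [Pi.single_apply]

theorem extL_cons (N : SpecialLinearGroup (Fin (k + 1)) F) (x : F) (r : Fin (k + 1) → F) :
    (extL N).1 *ᵥ Fin.cons x r = Fin.cons x (N.1 *ᵥ r) := by
  have hl : ∀ s : Fin (k + 1) → F, extM (sE k) N.1 *ᵥ (Fin.cons 0 s : Fin (k + 2) → F) =
      Fin.cons 0 (N.1 *ᵥ s) := by
    intro s
    rw [show (Fin.cons 0 s : Fin (k + 2) → F) = ∑ a, s a • bv a.succ by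
      ext i
      cases i using Fin.cases with
      | zero => simp [(Fin.succ_ne_zero _).symm]
      | succ a => simp [Pi.single_apply], Matrix.mulVec_sum]
    simp only [Matrix.mulVec_smul, ← sE_apply, extM_mulVec, inc_cons]
    ext i
    cases i using Fin.cases with
    | zero => simp
    | succ a => simp [Matrix.mulVec, dotProduct, mul_comm]
  rw [cons_eq, Matrix.mulVec_add, Matrix.mulVec_smul, extL, extSL_val,
    extM_mulVec_out _ _ fun a => sE_ne a, hl, ← cons_eq]

theorem extL_zero (N : SpecialLinearGroup (Fin (k + 1)) F) : (extL N).1 *ᵥ bv 0 = bv 0 := by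
  rw [extL, extSL_val, extM_mulVec_out _ _ fun a => sE_ne a]

theorem extL_succ (N : SpecialLinearGroup (Fin (k + 1)) F) (a : Fin (k + 1)) :
    (extL N).1 *ᵥ bv a.succ = Fin.cons 0 (N.1 *ᵥ Pi.single a 1) := by
  rw [← cons_single, extL_cons]

/-- The elements of the first row. -/
def rowE (r : Fin (k + 1) → F) : SLm :=
  ⟨1 + vecMulVec (Pi.single 0 1) (Fin.cons 0 r), by
    rw [vecMulVec_eq Unit, det_one_add_replicateCol_mul_replicateRow]
    simp⟩

theorem rowE_cons (r : Fin (k + 1) → F) (x : F) (s : Fin (k + 1) → F) :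
    (rowE r).1 *ᵥ Fin.cons x s = Fin.cons (x + r ⬝ᵥ s) s := by
  show (1 + vecMulVec (Pi.single 0 1) (Fin.cons 0 r)) *ᵥ _ = _
  rw [Matrix.add_mulVec, Matrix.one_mulVec, vecMulVec_mulVec, op_smul_eq_smul, dotProduct,
    Fin.sum_univ_succ]
  ext i
  cases i using Fin.cases <;> simp [dotProduct]

theorem rowE_zero : (rowE (0 : Fin (k + 1) → F) : SLm) = 1 := by
  refine Subtype.ext (ext_mulVec_single fun a => ?_)
  rw [sval_one, Matrix.one_mulVec]
  conv_lhs => rw [← Fin.cons_self_tail (bv a), rowE_cons, zero_dotProduct, add_zero, Fin.cons_self_tail]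

theorem rowE_add (r s : Fin (k + 1) → F) : (rowE (r + s) : SLm) = rowE r * rowE s := by
  refine Subtype.ext (ext_mulVec_single fun a => ?_)
  rw [sval_mul, ← Matrix.mulVec_mulVec, ← Fin.cons_self_tail (bv a), rowE_cons, rowE_cons, rowE_cons,
    add_dotProduct]
  congr 1
  ring

theorem rowE_fix (r : Fin (k + 1) → F) : (rowE r).1 *ᵥ bv 0 = bv 0 := by
  conv_lhs => rw [← Fin.cons_self_tail (bv 0), rowE_cons]
  have : Fin.tail (bv 0) = 0 := by ext i; simp [Fin.tail, Fin.succ_ne_zero]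
  rw [this, dotProduct_zero, add_zero, ← this, Fin.cons_self_tail]

theorem rowE_conj (N : SpecialLinearGroup (Fin (k + 1)) F) (r : Fin (k + 1) → F) :
    (extL N)⁻¹ * rowE r * extL N = rowE (r ᵥ* N.1) := by
  rw [mul_assoc, inv_mul_eq_iff_eq_mul]
  refine Subtype.ext (ext_mulVec_single fun a => ?_)
  rw [sval_mul, sval_mul, ← Matrix.mulVec_mulVec, ← Matrix.mulVec_mulVec, ← Fin.cons_self_tail (bv a),
    extL_cons, rowE_cons, rowE_cons, extL_cons, dotProduct_mulVec]

theorem fix_comp_decomp {M : SLm} (hM : M.1 *ᵥ bv 0 = bv 0) :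
    ∃ (r : Fin (k + 1) → F) (N : SpecialLinearGroup (Fin (k + 1)) F), M = rowE r * extL N := by
  set A : Matrix (Fin (k + 1)) (Fin (k + 1)) F := Matrix.of fun a b => M.1 a.succ b.succ
  set s : Fin (k + 1) → F := fun b => M.1 0 b.succ
  have hcol : ∀ i, M.1 i 0 = if i = 0 then 1 else 0 := fun i => by
    have := congrFun hM i
    simpa [Pi.single_apply] using this
  have hdet : A.det = 1 := by
    have := M.2
    rw [Matrix.det_succ_column_zero, Fin.sum_univ_succ] at this
    simp only [hcol, Fin.val_zero, pow_zero, one_mul, if_true, Fin.succ_ne_zero, if_false, mul_zero,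
      zero_mul, Finset.sum_const_zero, add_zero, Fin.succAbove_zero] at this
    exact this
  let N : SpecialLinearGroup (Fin (k + 1)) F := ⟨A, hdet⟩
  refine ⟨s ᵥ* (N⁻¹).1, N, Subtype.ext (ext_mulVec_single fun j => ?_)⟩
  rw [sval_mul, ← Matrix.mulVec_mulVec]
  cases j using Fin.cases with
  | zero => rw [extL_zero, rowE_fix, hM]
  | succ b =>
    rw [extL_succ, rowE_cons, ← dotProduct_mulVec, inv_mulVec]
    ext i
    cases i using Fin.cases with
    | zero => simp [s]
    | succ a => simp [A, N]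

theorem exists_extL {M : SLm} (hM : M.1 *ᵥ bv 0 = bv 0) (hrow : ∀ b : Fin (k + 1), M.1 0 b.succ = 0) :
    ∃ N : SpecialLinearGroup (Fin (k + 1)) F, M = extL N := by
  obtain ⟨r, N, rfl⟩ := fix_comp_decomp hM
  have h : r ᵥ* N.1 = 0 := by
    funext b
    have := hrow b
    have e : ((rowE r * extL N : SLm).1 *ᵥ bv b.succ) 0 = 0 := by simpa using this
    rw [sval_mul, ← Matrix.mulVec_mulVec, extL_succ, rowE_cons, Fin.cons_zero, zero_add,
      dotProduct_mulVec] at e
    simpa using e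
  have hr : r = 0 := by
    have := congrArg (fun v => v ᵥ* (N⁻¹).1) h
    simpa only [Matrix.vecMul_vecMul, SpnPres.sval_mul_inv, Matrix.vecMul_one, Matrix.zero_vecMul] using this
  exact ⟨N, by rw [hr, rowE_zero, one_mul]⟩

/-- Sending the first vector to a given one and respecting the complements. -/
def Keep (g : SLm) (b : Fin (k + 2)) : Prop :=
  g.1 *ᵥ bv 0 = bv b ∧ ∀ j, j ≠ 0 → g.1 b j = 0

theorem Keep.extL {g g' : SLm} {b : Fin (k + 2)} (hg : Keep g b) (hg' : Keep g' b) :
    ∃ N, g⁻¹ * g' = extL N := by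
  refine exists_extL ?_ fun a => ?_
  · rw [sval_mul, ← Matrix.mulVec_mulVec, hg'.1, ← hg.1, inv_mulVec]
  · have h := congrArg (fun M : Matrix (Fin (k + 2)) (Fin (k + 2)) F => M b a.succ)
      (show g.1 * (g⁻¹ * g' : SLm).1 = g'.1 by rw [← sval_mul, mul_inv_cancel_left])
    simp only [Matrix.mul_apply, hg'.2 _ (Fin.succ_ne_zero a)] at h
    rw [Finset.sum_eq_single (0 : Fin (k + 2)) (fun j _ hj => by rw [hg.2 j hj, zero_mul]) (by simp)] at h
    have hb : g.1 b 0 = 1 := by simpa using congrFun hg.1 b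
    rwa [hb, one_mul] at h

/-- The signed swap. -/
def swp (a b : Fin (k + 2)) : SLm :=
  if h : a = b then 1 else Matrix.SpecialLinearGroup.transvection h 1 *
    Matrix.SpecialLinearGroup.transvection (Ne.symm h) (-1) * Matrix.SpecialLinearGroup.transvection h 1

theorem transvection_single {a b : Fin (k + 2)} (t : F) (j : Fin (k + 2)) :
    Matrix.transvection a b t *ᵥ bv j = bv j + if j = b then t • bv a else 0 := by
  rw [Matrix.transvection, Matrix.add_mulVec, Matrix.one_mulVec]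
  congr 1
  rcases eq_or_ne j b with rfl | h
  · rw [if_pos rfl]
    ext i
    simp [Matrix.single_apply, Pi.single_apply, eq_comm]
  · rw [if_neg h]
    ext i
    simp [Matrix.single_apply, h.symm]

theorem swp_single {a b : Fin (k + 2)} (h : a ≠ b) (j : Fin (k + 2)) :
    (swp a b : SLm).1 *ᵥ bv j = if j = a then -(bv b) else if j = b then bv a else bv j := by
  rw [swp, dif_neg h, sval_mul, sval_mul, ← Matrix.mulVec_mulVec, ← Matrix.mulVec_mulVec]
  show Matrix.transvection a b 1 *ᵥ (Matrix.transvection b a (-1) *ᵥ (Matrix.transvection a b 1 *ᵥ bv j)) = _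
  rcases eq_or_ne j a with rfl | ha
  · simp only [transvection_single, Matrix.mulVec_add, Matrix.mulVec_smul, h, h.symm, if_true, if_false,
      add_zero, one_smul, neg_smul, Matrix.mulVec_neg]
    abel
  rcases eq_or_ne j b with rfl | hb
  · simp only [transvection_single, Matrix.mulVec_add, Matrix.mulVec_smul, ha, h, h.symm, if_true, if_false,
      add_zero, one_smul, neg_smul, Matrix.mulVec_neg]
    abel
  · simp only [transvection_single, ha, hb, if_false, add_zero]

theorem swp_keep (b : Fin (k + 2)) : Keep (swp b 0 : SLm) b := by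
  rcases eq_or_ne b 0 with rfl | h
  · exact ⟨by rw [swp, dif_pos rfl, sval_one, Matrix.one_mulVec], fun j hj => by simp [swp, Ne.symm hj]⟩
  refine ⟨by rw [swp_single h, if_neg h.symm, if_pos rfl], fun j hj => ?_⟩
  have := congrFun (swp_single h j (F := F)) b
  rw [Matrix.mulVec_single_one, if_neg hj] at this
  simp only [Matrix.col_apply] at this
  rw [this]
  rcases eq_or_ne j b with rfl | hjb
  · simp [h]
  · simp [hjb, Ne.symm hjb]

/-- A generating pair of every special linear group. -/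
theorem exists_gen_pair (n : ℕ) (hn : 1 ≤ n) :
    ∃ a b : SpecialLinearGroup (Fin n) F, Subgroup.closure ({a, b} : Set (SpecialLinearGroup (Fin n) F)) = ⊤ := by
  rcases (show n = 1 ∨ n = 2 ∨ n = 3 ∨ 4 ≤ n by omega) with rfl | rfl | rfl | h
  · exact ⟨1, 1, Subsingleton.elim _ _⟩
  · obtain ⟨x, hx⟩ := Sl2Pair.exists_pair (F := F)
    exact ⟨x, _, hx⟩
  · obtain ⟨u, g, -, -, hab⟩ := Cfsg.Agent.S2278.result (F := F)
    exact ⟨_, _, hab⟩
  · obtain ⟨⟨u, v, -, -, hab⟩, -⟩ := Cfsg.Agent.S2279.result (F := F) n h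
    exact ⟨_, _, hab⟩

/-- Independent pairs. -/
theorem exists_pair_move {a b : Fin (k + 2) → F} (h : Ind2 F a b) :
    ∃ (g : SLm) (d : F), d ≠ 0 ∧ g.1 *ᵥ bv 0 = a ∧ g.1 *ᵥ (d • bv 1) = b ∧ (1 ≤ k → d = 1) := by
  obtain ⟨g, rfl⟩ := exists_col (n := k) 0 h.1
  set b' := (g⁻¹).1 *ᵥ b with hb'
  have hb : g.1 *ᵥ b' = b := mulVec_inv g b
  have ht : Fin.tail b' ≠ 0 := fun e => h.2 (b' 0) (by
    rw [← hb]
    conv_lhs => rw [← Fin.cons_self_tail b', e, cons_eq]
    have hz : (Fin.cons 0 0 : Fin (k + 2) → F) = 0 := by ext i; cases i using Fin.cases <;> simp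
    rw [hz, add_zero, Matrix.mulVec_smul])
  obtain ⟨N, d, hd, hN, hk⟩ : ∃ (N : SpecialLinearGroup (Fin (k + 1)) F) (d : F), d ≠ 0 ∧
      N.1 *ᵥ (d • Pi.single 0 1) = Fin.tail b' ∧ (1 ≤ k → d = 1) := by
    rcases Nat.eq_zero_or_pos k with rfl | hk
    · refine ⟨1, Fin.tail b' 0, fun e => ht (funext fun i => by rwa [Subsingleton.elim (α := Fin 1) i 0]), ?_, fun h => by omega⟩
      rw [sval_one, Matrix.one_mulVec]
      funext i
      simp [Subsingleton.elim (α := Fin 1) i 0]
    · obtain ⟨l, rfl⟩ : ∃ l, k = l + 1 := ⟨k - 1, by omega⟩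
      obtain ⟨N, hN⟩ := exists_col (n := l) 0 ht
      exact ⟨N, 1, one_ne_zero, by rwa [one_smul], fun _ => rfl⟩
  refine ⟨g * extL N * rowE (Pi.single 0 (b' 0 / d)), d, hd, ?_, ?_, hk⟩
  · rw [sval_mul, sval_mul, ← Matrix.mulVec_mulVec, rowE_fix, ← Matrix.mulVec_mulVec, extL_zero]
  · rw [show d • bv 1 = (Fin.cons 0 (d • Pi.single 0 1) : Fin (k + 2) → F) by
      rw [show (d • Pi.single 0 1 : Fin (k + 1) → F) = Pi.single 0 d by
        rw [← Pi.single_smul, smul_eq_mul, mul_one], cons_single, Fin.succ_zero_eq_one,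
        ← Pi.single_smul, smul_eq_mul, mul_one]]
    rw [sval_mul, sval_mul, ← Matrix.mulVec_mulVec, rowE_cons, ← Matrix.mulVec_mulVec, extL_cons, hN]
    simp only [zero_add, single_dotProduct, Pi.smul_apply, Pi.single_eq_same, smul_eq_mul, mul_one]
    rw [div_mul_cancel₀ _ hd, Fin.cons_self_tail, hb]

/-- Independent triples. -/
theorem exists_triple_move {a b c : Fin (k + 3) → F} (h : Ind3 F a b c) :
    ∃ (g : SpecialLinearGroup (Fin (k + 3)) F) (d : F), d ≠ 0 ∧ g.1 *ᵥ Pi.single 0 1 = a ∧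
      g.1 *ᵥ Pi.single 1 1 = b ∧ g.1 *ᵥ (d • Pi.single 2 1) = c ∧ (1 ≤ k → d = 1) := by
  obtain ⟨g, rfl⟩ := exists_col (n := k + 1) 0 h.1.1
  set b' := (g⁻¹).1 *ᵥ b
  set c' := (g⁻¹).1 *ᵥ c
  have hb : g.1 *ᵥ b' = b := mulVec_inv g b
  have hc : g.1 *ᵥ c' = c := mulVec_inv g c
  have hz : (Fin.cons 0 0 : Fin (k + 3) → F) = 0 := by ext i; cases i using Fin.cases <;> simp
  have hi : Ind2 F (Fin.tail b') (Fin.tail c') := by
    refine ⟨fun e => h.1.2 (b' 0) ?_, fun t ht => h.2 (c' 0 - t * b' 0) t ?_⟩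
    · rw [← hb]
      conv_lhs => rw [← Fin.cons_self_tail b', e, cons_eq]
      rw [hz, add_zero, Matrix.mulVec_smul]
    · rw [← hb, ← hc, ← Matrix.mulVec_smul, ← Matrix.mulVec_smul, ← Matrix.mulVec_add]
      congr 1
      ext i
      cases i using Fin.cases with
      | zero => simp
      | succ i =>
        have := congrFun ht i
        simp only [Fin.tail, Pi.smul_apply, smul_eq_mul] at this
        simp [this, (Fin.succ_ne_zero i)]
  obtain ⟨N, d, hd, hN0, hN1, hk⟩ := exists_pair_move hi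
  refine ⟨g * extL N * rowE (Fin.cons (b' 0) (Pi.single 0 (c' 0 / d))), d, hd, ?_, ?_, ?_, hk⟩
  · rw [sval_mul, sval_mul, ← Matrix.mulVec_mulVec, rowE_fix, ← Matrix.mulVec_mulVec, extL_zero]
  · rw [show (Pi.single 1 1 : Fin (k + 3) → F) = Fin.cons 0 (Pi.single 0 1) by rw [cons_single, Fin.succ_zero_eq_one],
      sval_mul, sval_mul, ← Matrix.mulVec_mulVec, rowE_cons, ← Matrix.mulVec_mulVec, extL_cons, hN0]
    simp only [zero_add, dotProduct_single, mul_one, Fin.cons_zero]
    rw [Fin.cons_self_tail, hb]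
  · rw [show d • (Pi.single 2 1 : Fin (k + 3) → F) = Fin.cons 0 (d • Pi.single 1 1) by
      rw [show (d • Pi.single 1 1 : Fin (k + 2) → F) = Pi.single 1 d by
        rw [← Pi.single_smul, smul_eq_mul, mul_one], cons_single, Fin.succ_one_eq_two,
        ← Pi.single_smul, smul_eq_mul, mul_one],
      sval_mul, sval_mul, ← Matrix.mulVec_mulVec, rowE_cons, ← Matrix.mulVec_mulVec, extL_cons, hN1]
    rw [show (d • Pi.single 1 1 : Fin (k + 2) → F) = Fin.cons 0 (Pi.single 0 d) by
      rw [← Pi.single_smul, smul_eq_mul, mul_one, cons_single, Fin.succ_zero_eq_one], dotProduct,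
      Fin.sum_univ_succ]
    simp only [Fin.cons_zero, Fin.cons_succ, mul_zero, zero_add]
    rw [show ∑ i, (Pi.single 0 (c' 0 / d) : Fin (k + 1) → F) i * (Pi.single 0 d : Fin (k + 1) → F) i = c' 0 by
      rw [Finset.sum_eq_single 0 (fun i _ hi => by simp [hi]) (by simp), Pi.single_eq_same, Pi.single_eq_same,
        div_mul_cancel₀ _ hd], Fin.cons_self_tail, hc]

end Cfsg.Agent.Lie.UnPres
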