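import Cfsg.Agent.Lib.Lie.UnPresHerm

/-!
From the symmetry of the second difference on independent pairs to a twisted bilinear symbol.
-/

set_option autoImplicit false
set_option linter.unusedSectionVars false

namespace Cfsg.Agent.Lie.UnPres

open Cfsg.Agent.Classical Cfsg.Agent.Classical.PSUAut

variable {F : Type*} [Field F] [Fintype F] {q : ℕ} (hF : Fintype.card F = q ^ 2)
variable {m : ℕ} {A : Type*} [AddCommGroup A] {T : (Fin m → F) → A}

/-- The change of the second difference under a transvection. -/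
def dlt (T : (Fin m → F) → A) (a b : Fin m → F) (k : F) : A := dif2 T a (b + k • a) - dif2 T a b

theorem dlt_add (a b : Fin m → F) (k k' : F) :
    dlt T a b (k + k') = dlt T a b k + dlt T a (b + k • a) k' := by
  simp only [dlt, add_smul, add_assoc]
  abel

theorem dlt_zero (a b : Fin m → F) : dlt T a b 0 = 0 := by simp [dlt]

theorem Ind2.add_smul_right {a b : Fin m → F} (h : Ind2 F a b) (t : F) : Ind2 F a (b + t • a) := by
  have := h.sub_right (-t)
  rwa [neg_smul, sub_neg_eq_add] at this

include hF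

variable (hT0 : T 0 = 0) (heps : ∀ e : F, e * qFrob hF e = 1 → ∀ v, T (e • v) = T v)

include hT0 in
theorem scal_all {ω : F} (P : Prim q ω)
    (hS : ∀ a b, Ind2 F a b → dif2 T (ω • a) b = dif2 T a (qFrob hF ω • b)) (k : F) (a b : Fin m → F)
    (h : Ind2 F a b) : dif2 T (k • a) b = dif2 T a (qFrob hF k • b) := by
  rcases eq_or_ne k 0 with rfl | hk
  · rw [zero_smul, map_zero, zero_smul, dif2_comm, dif2_zero hT0, dif2_zero hT0]
  obtain ⟨i, rfl⟩ := P.gen k hk
  clear hk
  induction i generalizing b with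
  | zero => simp
  | succ i ih =>
    rw [pow_succ', ← smul_smul, hS _ _ (h.smul_left (pow_ne_zero i P.ne)),
      ih _ (h.smul_right ((map_ne_zero (qFrob hF)).2 P.ne)), smul_smul, ← map_mul,
      mul_comm ω]

section Pattern

variable (hS : ∀ (k : F) (a b : Fin m → F), Ind2 F a b → dif2 T (k • a) b = dif2 T a (qFrob hF k • b))
variable {κ k₁ : F} (hκ : κ + qFrob hF κ = 0) (hκ0 : κ ≠ 0) (hk₁ : k₁ + qFrob hF k₁ = 1)
variable (hL0 : ∀ a b, Ind2 F a b → dlt T a b κ = 0) (hL1 : ∀ a b, Ind2 F a b → dlt T a b k₁ = T a)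

include hS in
theorem dlt_scale {a b : Fin m → F} (h : Ind2 F a b) {l : F} (hl : l ≠ 0) (k : F) :
    dlt T a b (l * qFrob hF l * k) = dlt T (l • a) ((qFrob hF l)⁻¹ • b) k := by
  have hl' : qFrob hF l ≠ 0 := (map_ne_zero (qFrob hF)).2 hl
  have h' := h.smul_right (inv_ne_zero hl')
  rw [dlt, dlt, hS l _ _ (by rw [smul_smul]; exact h'.add_smul_right _), hS l _ _ h', smul_add, smul_smul,
    smul_smul, smul_smul, mul_inv_cancel₀ hl', one_smul,
    show qFrob hF l * k * l = l * qFrob hF l * k by ring]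

include hT0 hS hκ hκ0 hk₁ hL0 hL1 in
theorem dlt_value {a b : Fin m → F} (h : Ind2 F a b) (k l : F) (hl : l * qFrob hF l = k + qFrob hF k) :
    dlt T a b k = T (l • a) := by
  set v := (k + qFrob hF k) * k₁ with hv
  set u := k - v with hu
  have hu0 : u + qFrob hF u = 0 := by
    simp only [hu, hv, map_sub, map_mul, map_add, qFrob_qFrob hF]
    linear_combination -(k + qFrob hF k) * hk₁
  have e1 : ∀ b, Ind2 F a b → dlt T a b u = 0 := by
    intro b hb
    rcases eq_or_ne u 0 with h0 | h0
    · rw [h0, dlt_zero]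
    have hr : qFrob hF (u / κ) = u / κ := by
      rw [map_div₀, show qFrob hF u = -u by linear_combination hu0,
        show qFrob hF κ = -κ by linear_combination hκ, neg_div_neg_eq]
    obtain ⟨c, hc⟩ := exists_norm hF hr
    have hc0 : c ≠ 0 := fun e => div_ne_zero h0 hκ0 (by rw [← hc, e, zero_mul])
    rw [show u = c * qFrob hF c * κ by rw [hc, div_mul_cancel₀ _ hκ0], dlt_scale hF hS hb hc0,
      hL0 _ _ ((hb.smul_left hc0).smul_right (inv_ne_zero ((map_ne_zero (qFrob hF)).2 hc0)))]
  rw [show k = u + v by rw [hu, sub_add_cancel], dlt_add, e1 b h, zero_add, hv, ← hl]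
  rcases eq_or_ne l 0 with rfl | hl0
  · rw [zero_mul, zero_mul, dlt_zero, zero_smul, hT0]
  · have hb' := h.add_smul_right u
    rw [dlt_scale hF hS hb' hl0,
      hL1 _ _ ((hb'.smul_left hl0).smul_right (inv_ne_zero ((map_ne_zero (qFrob hF)).2 hl0)))]

include hT0 heps hS hκ hκ0 hk₁ hL0 hL1 in
/-- The pattern for planes. -/
theorem pattern_two (a b : Fin m → F) (k : F) (h : Ind2 F a b) : dif3 T a (k • a) b = 0 := by
  have val := fun {a b : Fin m → F} (h : Ind2 F a b) => dlt_value hF hT0 hS hκ hκ0 hk₁ hL0 hL1 h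
  have real : ∀ x : F, x * qFrob hF x * k₁ + qFrob hF (x * qFrob hF x * k₁) = x * qFrob hF x := by
    intro x
    simp only [map_mul, qFrob_qFrob hF]
    linear_combination (x * qFrob hF x) * hk₁
  -- the values add as the norms
  have add : ∀ x y z : F, z * qFrob hF z = x * qFrob hF x + y * qFrob hF y →
      T (z • a) = T (x • a) + T (y • a) := by
    intro x y z hz
    rw [← val h (x * qFrob hF x * k₁ + y * qFrob hF y * k₁) z (by
        rw [hz, map_add]; linear_combination -(real x) - real y),
      dlt_add, val h _ x (real x).symm, val (h.add_smul_right _) _ y (real y).symm]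
  obtain ⟨l, hl⟩ := exists_norm hF (a := k + qFrob hF k) (by rw [map_add, qFrob_qFrob hF, add_comm])
  obtain ⟨l', hl'⟩ := exists_norm hF (a := 1 + k * qFrob hF k) (by
    rw [map_add, map_one, map_mul, qFrob_qFrob hF, mul_comm])
  have h1 := add 1 k l' (by rw [hl', map_one, mul_one])
  have h2 := add l' l (1 + k) (by rw [hl, hl', map_add, map_one]; ring)
  rw [one_smul] at h1
  have hv := val h k l hl
  rw [dlt] at hv
  rw [dif3, add_comm (k • a) b, sub_sub, add_comm (dif2 T a (k • a)), ← sub_sub, hv,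
    show dif2 T a (k • a) = T (l • a) by
      rw [dif2, show a + k • a = (1 + k) • a by rw [add_smul, one_smul], h2, h1]
      abel, sub_self]

end Pattern

section Bilinear

variable (hD : ∀ a b c, dif3 T a b c = 0)

include hD in
theorem dif2_addr (a b c : Fin m → F) : dif2 T a (b + c) = dif2 T a b + dif2 T a c := by
  have := hD a b c
  rwa [dif3, sub_sub, sub_eq_zero] at this

include hT0 hD in
theorem sesq_dif2 (hS : ∀ (k : F) (a b : Fin m → F), Ind2 F a b → dif2 T (k • a) b = dif2 T a (qFrob hF k • b))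
    (hdim : ∀ a : Fin m → F, a ≠ 0 → ∃ y, Ind2 F a y) : Sesq hF (dif2 T) := by
  refine ⟨fun u v w => by rw [dif2_comm, dif2_addr hF hD, dif2_comm w, dif2_comm w], dif2_comm, fun k v w => ?_⟩
  rcases eq_or_ne v 0 with rfl | hv
  · rw [smul_zero, dif2_comm, dif2_zero hT0, dif2_comm, dif2_zero hT0]
  by_cases h : Ind2 F v w
  · exact hS k v w h
  obtain ⟨u, hu⟩ := hdim v hv
  obtain ⟨t, ht⟩ : ∃ t : F, w = t • v := by
    by_contra hc
    exact h ⟨hv, fun t ht => hc ⟨t, ht⟩⟩
  have hwu : Ind2 F v (w + u) := by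
    rw [ht, add_comm]; exact hu.add_smul_right t
  have e1 := hS k v _ hwu
  have e2 := hS k v u hu
  rw [dif2_addr hF hD, smul_add, dif2_addr hF hD, e2, add_left_inj] at e1
  exact e1

include hT0 heps in
/-- The quadratic map is the diagonal of the symbol. -/
theorem eq_diag (S : Sesq hF (dif2 T)) {k : F} (hk : k + qFrob hF k = 1) {e : F}
    (he : e * qFrob hF e = 1) (he1 : e ≠ 1) (v : Fin m → F) : T v = dif2 T (k • v) v := by
  let f : (Fin m → F) → A := fun v => T v - dif2 T (k • v) v
  have hadd : ∀ v w, f (v + w) = f v + f w := by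
    intro v w
    have e1 : dif2 T (k • w) v = dif2 T (qFrob hF k • v) w := by rw [S.scal, S.symm]
    have e2 : dif2 T (k • v) w + dif2 T (qFrob hF k • v) w = dif2 T v w := by
      rw [← S.addl, ← add_smul, hk, one_smul]
    have e3 : T (v + w) = T v + T w + dif2 T v w := by simp only [dif2]; abel
    simp only [f, smul_add, S.addl, S.addr, e3, ← e2, e1]
    abel
  have hscal : ∀ v, f (e • v) = f v := by
    intro v
    simp only [f, heps e he]
    rw [smul_comm k e, S.scal, smul_smul, mul_comm (qFrob hF e), he, one_smul]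
  have h0 : f 0 = 0 := by simp [f, hT0, S.zero]
  have hz : ∀ v, f ((e - 1) • v) = 0 := by
    intro v
    have : f ((e - 1) • v) + f v = f v := by
      rw [← hadd, sub_smul, one_smul, sub_add_cancel, hscal]
    exact left_eq_add.1 (this.symm.trans (add_comm _ _)) 
  have := hz ((e - 1)⁻¹ • v)
  rw [smul_smul, mul_inv_cancel₀ (sub_ne_zero.2 he1), one_smul] at this
  exact sub_eq_zero.1 this

end Bilinear

end Cfsg.Agent.Lie.UnPres
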