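import Cfsg.Agent.Lib.Lie.UnPresModel
import Cfsg.Agent.Lib.Lie.UnPresSymbol
import Cfsg.Agent.Lib.Lie.UnPresSL

/-!
An orbit of a root element spans a copy of the Hermitian matrices.
-/

set_option autoImplicit false
set_option linter.unusedSectionVars false

namespace Cfsg.Agent.Lie.UnPres

open Matrix Cfsg.Agent.Classical Cfsg.Agent.Classical.PSUAut

variable {F : Type*} [Field F] [Fintype F] {q : ℕ} (hF : Fintype.card F = q ^ 2) {m ε : ℕ}
variable {G : Type*} [Group G]

include hF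

/-- The rank-one Hermitian matrix. -/
def vv (v : Fin m → F) : Matrix (Fin m) (Fin m) F := vecMulVec v fun i => qFrob hF (v i)

theorem vv_herm (v : Fin m → F) (a b : Fin m) : qFrob hF (vv hF v b a) = vv hF v a b := by
  simp only [vv, vecMulVec_apply, map_mul, qFrob_qFrob hF, mul_comm]

theorem vv_conj (A : Matrix (Fin m) (Fin m) F) (v : Fin m → F) : vv hF (A *ᵥ v) = A * vv hF v * ct hF A := by
  rw [vv, vv, mul_vecMulVec, vecMulVec_mul]
  congr 1
  funext i
  simp [Matrix.mulVec, Matrix.vecMul, dotProduct, ct_apply, mul_comm, map_sum]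

theorem hv_eq (v w : Fin m → F) : hv hF v w = vv hF (v + w) - vv hF v - vv hF w := by
  ext a b
  simp only [hv, vv, Matrix.sub_apply, Matrix.add_apply, vecMulVec_apply, Pi.add_apply, map_add]
  ring

theorem hv_herm (v w : Fin m → F) (a b : Fin m) : qFrob hF (hv hF v w b a) = hv hF v w a b := by
  rw [hv_eq, Matrix.sub_apply, Matrix.sub_apply, map_sub, map_sub, vv_herm, vv_herm, vv_herm]
  rfl

theorem hv_smul (k : F) (v : Fin m → F) : hv hF (k • v) v = (k + qFrob hF k) • vv hF v := by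
  ext a b
  simp only [hv, vv, Matrix.smul_apply, Matrix.add_apply, vecMulVec_apply, Pi.smul_apply, smul_eq_mul, map_mul]
  ring

theorem skew_ok {μ : F} (hμ : μ + qFrob hF μ = 0) {M : Matrix (Fin m) (Fin m) F}
    (hM : ∀ a b, qFrob hF (M b a) = M a b) : UOK hF (0 : Matrix (Fin m) (Fin ε) F) (μ • M) := by
  rw [UOK, Matrix.zero_mul, add_zero]
  ext a b
  simp only [Matrix.add_apply, ct_apply, Matrix.smul_apply, smul_eq_mul, Matrix.zero_apply, map_mul, hM]
  linear_combination (M a b) * hμ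

theorem uH_skew_mul {μ : F} (hμ : μ + qFrob hF μ = 0) {M N : Matrix (Fin m) (Fin m) F}
    (hM : ∀ a b, qFrob hF (M b a) = M a b) (hN : ∀ a b, qFrob hF (N b a) = N a b) :
    uH hF (0 : Matrix (Fin m) (Fin ε) F) (μ • M) * uH hF 0 (μ • N) = uH hF 0 (μ • (M + N)) := by
  rw [uH_mul hF (skew_ok hF hμ hM) (skew_ok hF hμ hN), add_zero, Matrix.zero_mul, sub_zero, smul_add]

/-- A subgroup mapped isomorphically to the Hermitian part. -/
structure ZData (π : G →* Hgrp hF m ε) (j : SpecialLinearGroup (Fin m) F →* G) (μ : F) (Z : Subgroup G) :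
    Prop where
  inj : ∀ u ∈ Z, π u = 1 → u = 1
  img : ∀ u ∈ Z, ∃ M : Matrix (Fin m) (Fin m) F, (∀ a b, qFrob hF (M b a) = M a b) ∧
    π u = uH hF 0 (μ • M)
  surj : ∀ M : Matrix (Fin m) (Fin m) F, (∀ a b, qFrob hF (M b a) = M a b) → ∃ u ∈ Z, π u = uH hF 0 (μ • M)
  norm : ∀ A, ∀ u ∈ Z, j A * u * (j A)⁻¹ ∈ Z
  comm : ∀ u ∈ Z, ∀ u' ∈ Z, Commute u u'

/-- The hypotheses on an orbit map. -/
structure Orb (π : G →* Hgrp hF m ε) (j : SpecialLinearGroup (Fin m) F →* G) (μ : F)
    (T : (Fin m → F) → G) : Prop where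
  μt : μ + qFrob hF μ = 0
  μ0 : μ ≠ 0
  t0 : T 0 = 1
  tπ : ∀ v, π (T v) = uH hF 0 (μ • vv hF v)
  tj : ∀ (A : SpecialLinearGroup (Fin m) F) v, T (A.1 *ᵥ v) = j A * T v * (j A)⁻¹
  teps : ∀ e : F, e * qFrob hF e = 1 → ∀ v, T (e • v) = T v

/-- The second difference as a word. -/
def Bw {V : Type*} [AddCommGroup V] (T : V → G) (a b : V) : G := T (a + b) * (T a)⁻¹ * (T b)⁻¹

variable {hF} {π : G →* Hgrp hF m ε} {j : SpecialLinearGroup (Fin m) F →* G} {μ : F}
variable {T : (Fin m → F) → G}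

omit hF in
theorem commute_closure {S : Set G} {x y : G} (hy : y ∈ Subgroup.closure S)
    (h : ∀ s ∈ S, Commute x s) : Commute x y := by
  induction hy using Subgroup.closure_induction with
  | mem s hs => exact h s hs
  | one => exact Commute.one_right _
  | mul a b _ _ ha hb => exact ha.mul_right hb
  | inv a _ ha => exact ha.inv_right

theorem comm_all (O : Orb hF π j μ T) (hc : ∀ v w, Ind2 F v w → Commute (T v) (T w))
    (hs : ∀ v, T v ∈ Subgroup.closure (T '' {w | Ind2 F v w})) (v w : Fin m → F) : Commute (T v) (T w) := by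
  rcases eq_or_ne v 0 with rfl | hv
  · rw [O.t0]; exact Commute.one_left _
  rcases eq_or_ne w 0 with rfl | hw
  · rw [O.t0]; exact Commute.one_right _
  by_cases h : Ind2 F v w
  · exact hc v w h
  obtain ⟨t, ht⟩ : ∃ t : F, w = t • v := by
    by_contra hne
    exact h ⟨hv, fun t ht => hne ⟨t, ht⟩⟩
  refine commute_closure (hs w) ?_
  rintro _ ⟨x, hx, rfl⟩
  refine hc v x ?_
  have ht0 : t ≠ 0 := fun e => hw (by rw [ht, e, zero_smul])
  rw [Set.mem_setOf_eq, ht] at hx
  have := hx.smul_left (inv_ne_zero ht0)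
  rwa [smul_smul, inv_mul_cancel₀ ht0, one_smul] at this

omit hF in
/-- Commuting elements generate a commutative group. -/
@[reducible] def setCG (S : Set G) (h : ∀ x ∈ S, ∀ y ∈ S, Commute x y) : CommGroup ↥(Subgroup.closure S) :=
  { (inferInstance : Group ↥(Subgroup.closure S)) with
    mul_comm := (Subgroup.closureCommGroupOfComm (k := S) (fun x hx y hy => (h x hx y hy).eq)).mul_comm }

variable (T) in
/-- The orbit generates a commutative group. -/
@[reducible] def closCG (hcomm : ∀ v w, Commute (T v) (T w)) : CommGroup ↥(Subgroup.closure (Set.range T)) :=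
  setCG (Set.range T) (by rintro _ ⟨x, rfl⟩ _ ⟨y, rfl⟩; exact hcomm x y)

/-- A commutative subgroup generated by values of a twisted symbol. -/
theorem zdata_of_sesq {S : Set G} (hS : ∀ x ∈ S, ∀ y ∈ S, Commute x y) (hμt : μ + qFrob hF μ = 0) (hμ0 : μ ≠ 0)
    (B : (Fin m → F) → (Fin m → F) → Additive ↥(Subgroup.closure S))
    (hB : letI := setCG S hS; Sesq hF B)
    (hBπ : ∀ a b, π ((B a b).toMul : G) = uH hF 0 (μ • hv hF a b))
    (hgen : ∀ x ∈ S, ∃ a b, ((B a b).toMul : G) = x)
    (hn : ∀ A, ∀ x ∈ S, j A * x * (j A)⁻¹ ∈ Subgroup.closure S) :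
    ZData hF π j μ (Subgroup.closure S) := by
  set K := Subgroup.closure S with hK
  letI : CommGroup K := setCG S hS
  obtain ⟨k, hk⟩ := exists_trace_eq hF (a := (1 : F)) (map_one _)
  let f : Matrix (Fin m) (Fin m) F →+ Additive K := hB.toHom k
  let g : Additive K → Hgrp hF m ε := fun x => π (x.toMul : G)
  have gadd : ∀ x y, g (x + y) = g x * g y := fun x y => map_mul π _ _
  have himg : ∀ x : Additive K, ∃ M : Matrix (Fin m) (Fin m) F, (∀ a b, qFrob hF (M b a) = M a b) ∧
      x = f M ∧ g x = uH hF 0 (μ • M) := by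
    rintro ⟨y, hy⟩
    show ∃ M : Matrix (Fin m) (Fin m) F, _ ∧ Additive.ofMul (⟨y, hy⟩ : K) = f M ∧ π y = _
    induction hy using Subgroup.closure_induction with
    | mem y hy =>
      obtain ⟨a, b, e⟩ := hgen y hy
      refine ⟨hv hF a b, hv_herm hF a b, ?_, by rw [← e, hBπ]⟩
      refine Eq.trans ?_ (hB.toHom_hv hk a b).symm
      exact Additive.toMul.injective (Subtype.ext e.symm)
    | one => exact ⟨0, by simp, (map_zero f).symm, by rw [map_one, smul_zero, uH_zero]⟩
    | mul a b ha hb iha ihb =>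
      obtain ⟨M, hM, eM, gM⟩ := iha
      obtain ⟨N, hN, eN, gN⟩ := ihb
      refine ⟨M + N, fun a b => by rw [Matrix.add_apply, map_add, hM, hN]; rfl, ?_, ?_⟩
      · rw [map_add, ← eM, ← eN]; rfl
      · rw [map_mul, gM, gN, uH_skew_mul hF hμt hM hN]
    | inv a ha iha =>
      obtain ⟨M, hM, eM, gM⟩ := iha
      refine ⟨-M, fun a b => by rw [Matrix.neg_apply, map_neg, hM]; rfl, ?_, ?_⟩
      · rw [map_neg, ← eM]; rfl
      · rw [map_inv, gM]
        refine inv_eq_of_mul_eq_one_right ?_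
        rw [uH_skew_mul hF hμt hM (fun a b => by rw [Matrix.neg_apply, map_neg, hM]; rfl),
          add_neg_cancel, smul_zero, uH_zero]
  refine ⟨fun u hu h1 => ?_, fun u hu => ?_, fun M hM => ?_, fun A u hu => ?_,
    fun u hu u' hu' => congrArg Subtype.val (mul_comm (⟨u, hu⟩ : K) ⟨u', hu'⟩)⟩
  · obtain ⟨M, hM, eM, gM⟩ := himg (Additive.ofMul ⟨u, hu⟩)
    have h' : uH hF (0 : Matrix (Fin m) (Fin ε) F) (μ • M) = uH hF 0 0 := by
      rw [← gM, uH_zero]; exact h1
    have hM0 : M = 0 := by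
      have := (uH_inj hF (skew_ok hF hμt hM) (UOK.zero hF) h').2
      exact (smul_eq_zero.1 this).resolve_left hμ0
    rw [hM0, map_zero] at eM
    exact congrArg (fun x : Additive K => (x.toMul : G)) eM
  · obtain ⟨M, hM, -, gM⟩ := himg (Additive.ofMul ⟨u, hu⟩)
    exact ⟨M, hM, gM⟩
  · refine ⟨((f M).toMul : G), SetLike.coe_mem _, ?_⟩
    show g (f M) = _
    rw [herm_sum hk hM]
    have hsum : ∀ (ι : Type) (s : Finset ι) (M : ι → Matrix (Fin m) (Fin m) F) (x : ι → Additive K),
        (∀ i, (∀ a b, qFrob hF (M i b a) = M i a b) ∧ g (x i) = uH hF 0 (μ • M i)) →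
        (∀ a b, qFrob hF ((∑ i ∈ s, M i) b a) = (∑ i ∈ s, M i) a b) ∧
          g (∑ i ∈ s, x i) = uH hF 0 (μ • ∑ i ∈ s, M i) := by
      intro ι s M x hx
      classical
      induction s using Finset.induction with
      | empty =>
        refine ⟨by simp, ?_⟩
        rw [Finset.sum_empty, Finset.sum_empty, smul_zero, uH_zero]
        exact map_one π
      | insert i s hi ih =>
        refine ⟨fun a b => ?_, ?_⟩
        · rw [Finset.sum_insert hi, Matrix.add_apply, map_add, (hx i).1, ih.1]; rfl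
        · rw [Finset.sum_insert hi, Finset.sum_insert hi, gadd, ih.2, (hx i).2,
            uH_skew_mul hF hμt (hx i).1 ih.1]
    rw [map_sum]
    refine (hsum _ _ _ _ fun a => ?_).2
    rw [map_sum]
    refine hsum _ _ _ _ fun b => ⟨hv_herm hF _ _, ?_⟩
    rw [hB.toHom_hv hk]
    exact hBπ _ _
  · induction hu using Subgroup.closure_induction with
    | mem u hu => exact hn A u hu
    | one => rw [mul_one, mul_inv_cancel]; exact one_mem _
    | mul a b _ _ ha hb => rw [← conj_mul]; exact mul_mem ha hb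
    | inv a _ ha => rw [← conj_inv]; exact inv_mem ha

variable (T) in
/-- The orbit as a map to the additive group it generates. -/
def addT (v : Fin m → F) : Additive ↥(Subgroup.closure (Set.range T)) :=
  Additive.ofMul ⟨T v, Subgroup.subset_closure ⟨v, rfl⟩⟩

theorem zdata_core (O : Orb hF π j μ T) {ω : F} (P : Prim q ω) (hcomm : ∀ v w, Commute (T v) (T w))
    (hS : ∀ a b, Ind2 F a b → Bw T (ω • a) b = Bw T a (qFrob hF ω • b))
    (hdim : ∀ a : Fin m → F, a ≠ 0 → ∃ y, Ind2 F a y)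
    (hD : letI := closCG T hcomm
      (∀ (k : F) (a b : Fin m → F), Ind2 F a b →
        dif2 (addT T) (k • a) b = dif2 (addT T) a (qFrob hF k • b)) →
      ∀ a b c, dif3 (addT T) a b c = 0) :
    ZData hF π j μ (Subgroup.closure (Set.range T)) := by
  set K := Subgroup.closure (Set.range T) with hK
  letI : CommGroup K := closCG T hcomm
  have hadd : ∀ x y : Additive K, ((x + y).toMul : G) = (x.toMul : G) * (y.toMul : G) := fun _ _ => rfl
  have hext : ∀ {x y : Additive K}, (x.toMul : G) = (y.toMul : G) → x = y := fun h =>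
    Additive.toMul.injective (Subtype.ext h)
  have hd2 : ∀ a b, ((dif2 (addT T) a b).toMul : G) = Bw T a b := by
    intro a b
    simp only [dif2, addT, Bw, toMul_sub, toMul_ofMul, div_eq_mul_inv, Subgroup.coe_mul, Subgroup.coe_inv]

  have hT0 : addT T 0 = 0 := hext O.t0
  have heps : ∀ e : F, e * qFrob hF e = 1 → ∀ v, addT T (e • v) = addT T v := fun e he v => hext (O.teps e he v)
  have hSω : ∀ a b, Ind2 F a b → dif2 (addT T) (ω • a) b = dif2 (addT T) a (qFrob hF ω • b) :=
    fun a b h => hext (by rw [hd2, hd2]; exact hS a b h)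
  have hSk := scal_all hF hT0 P hSω
  have hD' := hD hSk
  have S := sesq_dif2 hF hT0 hD' hSk hdim
  obtain ⟨k, hk⟩ := exists_trace_eq hF (a := (1 : F)) (map_one _)
  have hdiag := eq_diag hF hT0 heps S hk (P.eps_norm hF) (P.eps_ne_one hF)
  refine zdata_of_sesq (fun x hx y hy => ?_) O.μt O.μ0 (dif2 (addT T)) S (fun a b => ?_) ?_ ?_
  · obtain ⟨v, rfl⟩ := hx
    obtain ⟨w, rfl⟩ := hy
    exact hcomm v w
  · simp only [hd2, Bw, map_mul, map_inv, O.tπ]
    have hh : ∀ v : Fin m → F, ∀ a b, qFrob hF ((-vv hF v) b a) = (-vv hF v) a b := fun v a b => by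
      rw [Matrix.neg_apply, map_neg, vv_herm]; rfl
    have hinv : ∀ v : Fin m → F, (uH hF (0 : Matrix (Fin m) (Fin ε) F) (μ • vv hF v))⁻¹ =
        uH hF 0 (μ • -vv hF v) := fun v => inv_eq_of_mul_eq_one_right (by
      rw [uH_skew_mul hF O.μt (vv_herm hF v) (hh v), add_neg_cancel, smul_zero, uH_zero])
    rw [hinv, hinv, uH_skew_mul hF O.μt (vv_herm hF _) (hh a), uH_skew_mul hF O.μt (fun x y => by
      rw [Matrix.add_apply, map_add, vv_herm, hh]; rfl) (hh b), hv_eq]
    congr 2
    abel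
  · rintro _ ⟨v, rfl⟩
    exact ⟨k • v, v, by rw [← hdiag v]; rfl⟩
  · rintro A _ ⟨v, rfl⟩
    rw [← O.tj]
    exact Subgroup.subset_closure ⟨_, rfl⟩

/-- In dimension at least three. -/
theorem zdata_three (O : Orb hF π j μ T) {ω : F} (P : Prim q ω)
    (hc : ∀ v w, Ind2 F v w → Commute (T v) (T w))
    (hS : ∀ a b, Ind2 F a b → Bw T (ω • a) b = Bw T a (qFrob hF ω • b))
    (hD : ∀ a b c, Ind3 F a b c → T (a + b + c) * (T a * T b * T c) = T (a + b) * T (a + c) * T (b + c))
    (hdim : ∀ a : Fin m → F, a ≠ 0 → ∃ y, Ind2 F a y)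
    (hdim3 : ∀ a b : Fin m → F, Ind2 F a b → ∃ u, Ind3 F a b u) :
    ZData hF π j μ (Subgroup.closure (Set.range T)) := by
  have hspan : ∀ v, T v ∈ Subgroup.closure (T '' {w | Ind2 F v w}) := by
    intro v
    rcases eq_or_ne v 0 with rfl | hv
    · rw [O.t0]; exact one_mem _
    obtain ⟨a, ha⟩ := hdim v hv
    obtain ⟨b, hb⟩ := hdim3 v a ha
    have i3 : Ind3 F a b (v - a - b) := by
      refine ⟨⟨ha.symm.1, fun t ht => hb.2 0 t (by rw [ht, zero_smul, zero_add])⟩, fun s t hst => ?_⟩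
      rcases eq_or_ne (1 + t) 0 with h1 | h1
      · refine ha.symm.2 (s + 1) ?_
        rw [show t = -1 by linear_combination h1] at hst
        linear_combination (norm := module) hst
      · refine hb.2 (1 + t)⁻¹ (-(1 + s) * (1 + t)⁻¹) ?_
        have h' : (1 + t) • b = v + (-(1 + s)) • a := by linear_combination (norm := module) (-1 : ℤ) • hst
        rw [mul_comm, ← smul_smul, ← smul_add, ← h', smul_smul, inv_mul_cancel₀ h1, one_smul]
    have mem : ∀ x, Ind2 F v x → T x ∈ Subgroup.closure (T '' {w | Ind2 F v w}) := fun x hx =>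
      Subgroup.subset_closure ⟨x, hx, rfl⟩
    have m1 : Ind2 F v (v - a) := ⟨hv, fun t ht => ha.2 (1 - t) (by linear_combination (norm := module) (-1 : ℤ) • ht)⟩
    have m2 : Ind2 F v (v - b) := ⟨hv, fun t ht => hb.2 (1 - t) 0 (by linear_combination (norm := module) (-1 : ℤ) • ht)⟩
    have m3 : Ind2 F v (a + b) := ⟨hv, fun t ht => hb.2 t (-1) (by linear_combination (norm := module) ht)⟩
    have m4 : Ind2 F v (v - a - b) := ⟨hv, fun t ht => hb.2 (1 - t) (-1) (by linear_combination (norm := module) (-1 : ℤ) • ht)⟩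
    have m5 : Ind2 F v b := ⟨hv, fun t ht => hb.2 t 0 (by rw [ht, zero_smul, add_zero])⟩
    have e := hD a b (v - a - b) i3
    rw [show a + b + (v - a - b) = v by abel, show a + (v - a - b) = v - b by abel,
      show b + (v - a - b) = v - a by abel, ← eq_mul_inv_iff_mul_eq] at e
    rw [e]
    exact mul_mem (mul_mem (mul_mem (mem _ m3) (mem _ m2)) (mem _ m1))
      (inv_mem (mul_mem (mul_mem (mem _ ha) (mem _ m5)) (mem _ m4)))
  have hcomm := comm_all O hc hspan
  refine zdata_core O P hcomm hS hdim ?_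
  letI : CommGroup ↥(Subgroup.closure (Set.range T)) := closCG T hcomm
  intro hSk a b c
  have hext : ∀ {x y : Additive ↥(Subgroup.closure (Set.range T))},
      (x.toMul : G) = (y.toMul : G) → x = y := fun h => Additive.toMul.injective (Subtype.ext h)
  have hadd : ∀ x y : Additive ↥(Subgroup.closure (Set.range T)),
      ((x + y).toMul : G) = (x.toMul : G) * (y.toMul : G) := fun _ _ => rfl
  have hT0 : addT T 0 = 0 := hext O.t0
  have hneg : ∀ v, addT T (-v) = addT T v := fun v => hext (by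
    have := O.teps (-1) (by rw [map_neg, map_one]; ring) v
    rwa [neg_one_smul] at this)
  have hI : ∀ a b c, Ind3 F a b c → dif3 (addT T) a b c = 0 := by
    intro a b c h
    have e : addT T (a + b + c) + (addT T a + addT T b + addT T c) =
        addT T (a + b) + addT T (a + c) + addT T (b + c) := hext (by
      simp only [hadd]
      exact hD a b c h)
    rw [← sub_eq_zero] at e
    rw [← e]
    simp only [dif3, dif2, add_assoc]
    abel
  exact dif3_eq_zero hT0 (fun a b k hab => dif3_pattern hT0 hneg hI hdim3 a b k hab) hI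
    (fun a => (eq_or_ne a 0).elim (fun e => ⟨0, fun h => absurd e h⟩) fun h => (hdim a h).imp fun y hy _ => hy)
    a b c

/-- In dimension two. -/
theorem zdata_two {T : (Fin 2 → F) → G} {π : G →* Hgrp hF 2 ε} {j : SpecialLinearGroup (Fin 2) F →* G}
    (O : Orb hF π j μ T) {ω : F} (P : Prim q ω) {κ k₁ : F} (hκ : κ + qFrob hF κ = 0) (hκ0 : κ ≠ 0)
    (hk₁ : k₁ + qFrob hF k₁ = 1)
    (hc : ∀ v w, Ind2 F v w → Commute (T v) (T w))
    (hS : ∀ a b, Ind2 F a b → Bw T (ω • a) b = Bw T a (qFrob hF ω • b))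
    (hL0 : ∀ a b, Ind2 F a b → Bw T a (b + κ • a) = Bw T a b)
    (hL1 : ∀ a b, Ind2 F a b → Bw T a (b + k₁ • a) = T a * Bw T a b) :
    ZData hF π j μ (Subgroup.closure (Set.range T)) := by
  have hdim : ∀ a : Fin 2 → F, a ≠ 0 → ∃ y, Ind2 F a y := by
    intro a ha
    obtain ⟨g, rfl⟩ := SpnPres.exists_col (n := 0) 0 ha
    refine ⟨g.1 *ᵥ Pi.single 1 1, ha, fun t ht => ?_⟩
    have := congrArg (fun v => (g⁻¹).1 *ᵥ v) ht
    simp only [Matrix.mulVec_smul, SpnPres.inv_mulVec] at this
    simpa using congrFun this 1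
  have hspan : ∀ v, T v ∈ Subgroup.closure (T '' {w | Ind2 F v w}) := by
    intro v
    rcases eq_or_ne v 0 with rfl | hv
    · rw [O.t0]; exact one_mem _
    obtain ⟨b, hb⟩ := hdim v hv
    have mem : ∀ x, Ind2 F v x → T x ∈ Subgroup.closure (T '' {w | Ind2 F v w}) := fun x hx =>
      Subgroup.subset_closure ⟨x, hx, rfl⟩
    have h := hL1 v b hb
    set x := b + k₁ • v with hx
    have i1 : Ind2 F v x := hb.add_smul_right k₁
    have i2 : Ind2 F v (v + x) := by rw [add_comm, ← one_smul F v]; simpa using i1.add_smul_right 1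
    have i3 : Ind2 F v (v + b) := by rw [add_comm, ← one_smul F v]; simpa using hb.add_smul_right 1
    have c1 := (hc v x i1).inv_right.eq
    have c2 := (hc v b hb).eq
    have e : T v = T (v + x) * (T x)⁻¹ * T b * (T (v + b))⁻¹ := by
      have : T v = Bw T v x * (Bw T v b)⁻¹ := eq_mul_inv_of_mul_eq h.symm
      rw [this, Bw, Bw]
      simp only [_root_.mul_inv_rev, inv_inv]
      calc T (v + x) * (T v)⁻¹ * (T x)⁻¹ * (T b * (T v * (T (v + b))⁻¹))
          = T (v + x) * (T v)⁻¹ * (T x)⁻¹ * (T b * T v) * (T (v + b))⁻¹ := by group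
        _ = T (v + x) * (T v)⁻¹ * ((T x)⁻¹ * T v) * T b * (T (v + b))⁻¹ := by rw [← c2]; group
        _ = _ := by rw [← c1]; group
    rw [e]
    exact mul_mem (mul_mem (mul_mem (mem _ i2) (inv_mem (mem _ i1))) (mem _ hb)) (inv_mem (mem _ i3))
  have hcomm := comm_all O hc hspan
  refine zdata_core O P hcomm hS hdim ?_
  letI : CommGroup ↥(Subgroup.closure (Set.range T)) := closCG T hcomm
  intro hSk a b c
  have hext : ∀ {x y : Additive ↥(Subgroup.closure (Set.range T))},
      (x.toMul : G) = (y.toMul : G) → x = y := fun h => Additive.toMul.injective (Subtype.ext h)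
  have hadd : ∀ x y : Additive ↥(Subgroup.closure (Set.range T)),
      ((x + y).toMul : G) = (x.toMul : G) * (y.toMul : G) := fun _ _ => rfl
  have hT0 : addT T 0 = 0 := hext O.t0
  have heps : ∀ e : F, e * qFrob hF e = 1 → ∀ v, addT T (e • v) = addT T v := fun e he v => hext (O.teps e he v)
  have hd2 : ∀ a b, ((dif2 (addT T) a b).toMul : G) = Bw T a b := by
    intro a b
    have e1 : dif2 (addT T) a b + (addT T b + addT T a) = addT T (a + b) := by simp only [dif2]; abel
    have e2 := congrArg (fun x : Additive ↥(Subgroup.closure (Set.range T)) => (x.toMul : G)) e1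
    simp only [hadd] at e2
    rw [Bw, eq_mul_inv_iff_mul_eq, eq_mul_inv_iff_mul_eq, mul_assoc]
    exact e2
  have hl0 : ∀ a b, Ind2 F a b → dlt (addT T) a b κ = 0 := fun a b h =>
    sub_eq_zero.2 (hext (by rw [hd2, hd2]; exact hL0 a b h))
  have hl1 : ∀ a b, Ind2 F a b → dlt (addT T) a b k₁ = addT T a := fun a b h => by
    rw [dlt, sub_eq_iff_eq_add]
    exact hext (by rw [hadd, hd2, hd2]; exact hL1 a b h)
  refine dif3_eq_zero hT0 (pattern_two hF hT0 heps hSk hκ hκ0 hk₁ hl0 hl1) (fun a b c h => ?_) (fun a => ?_) a b c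
  · exfalso
    obtain ⟨g, d, hd, ha, hb, -⟩ := exists_pair_move (k := 0) h.1
    set c' := (g⁻¹).1 *ᵥ c with hc'
    refine h.2 (c' 0) (c' 1 / d) ?_
    have e : c' = c' 0 • Pi.single 0 1 + (c' 1 / d) • (d • Pi.single 1 1) := by
      ext i; fin_cases i <;> simp [hd]
    rw [← ha, ← hb, ← Matrix.mulVec_smul, ← Matrix.mulVec_smul, ← Matrix.mulVec_add, ← e, hc', SpnPres.mulVec_inv]
  · rcases eq_or_ne a 0 with e | e
    · exact ⟨0, fun h => absurd e h⟩
    · exact (hdim a e).imp fun y hy _ => hy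

end Cfsg.Agent.Lie.UnPres
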