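import Cfsg.Agent.Lib.Lie.UnPresWeyl

/-!
The big cell: the Weyl element's relations and a rank one torus make the projection injective.
-/

set_option autoImplicit false
set_option linter.unusedSectionVars false

namespace Cfsg.Agent.Lie.UnPres

open Matrix Cfsg.Agent.Classical Cfsg.Agent.Classical.PSUAut
open Cfsg.Agent.Lie.SpnPres (sval_mul sval_one sval_mul_inv sval_inv_mul)

variable {F : Type*} [Field F] [Fintype F] {q : ℕ} {hF : Fintype.card F = q ^ 2} {k ε : ℕ}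
variable {G : Type*} [Group G] {π : G →* Hgrp hF (k + 2) ε} {j : SpecialLinearGroup (Fin (k + 2)) F →* G}
  {U : Subgroup G} {D : UData hF π j U} {μ z : F} {hW : WOK hF μ z ε} {w : G}

local notation "SLm" => SpecialLinearGroup (Fin (k + 2)) F

/-- The rank one data. -/
structure Rank1 (E : Eng D hW w) (T : Subgroup G) : Prop where
  le : T ≤ tor D w
  wT : w ∈ Nrm T
  sq : w * w ∈ T
  ne : ∃ x ∈ X0 D, x ≠ 1
  good : ∀ x ∈ X0 D, x ≠ 1 → ∃ a ∈ X0 D, ∃ b ∈ X0 D, ∃ τ ∈ T, ∃ τ' ∈ T, w * x * w = a * τ * w * b * τ'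
  lev : ∀ τ ∈ T, ∀ A, π τ = lev hF ε A → τ ∈ j.range

variable {E : Eng D hW w} {T : Subgroup G}

theorem Rank1.wxw (R : Rank1 E T) {x b : G} (hx : x ∈ X0 D) (hb : b ∈ X0 D) :
    ∃ a ∈ X0 D, ∃ b' ∈ X0 D, ∃ p ∈ X0 D, ∃ τ ∈ T, w * x * (w * b * w⁻¹) = a * (w * b' * w⁻¹) * p * τ := by
  have hXT : ∀ {τ : G}, τ ∈ T → τ ∈ Nrm (X0 D) := fun h => E.tor_X0 (R.le h)
  by_cases h1 : x = 1
  · subst h1
    obtain ⟨x0, hx0, hne⟩ := R.ne
    obtain ⟨a, ha, b1, hb1, τ, hτ, τ', hτ', e⟩ := R.good x0 hx0 hne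
    have hτw : w⁻¹ * τ * w ∈ T := R.wT.2 _ hτ
    set τ'' := τ * (w * τ' * w⁻¹) with hτ''d
    have hτ'' : τ'' ∈ T := mul_mem hτ (R.wT.1 _ hτ')
    set b2 := w⁻¹ * τ * w * b1 * (w⁻¹ * τ * w)⁻¹ with hb2d
    have hb2 : b2 ∈ X0 D := (hXT hτw).1 _ hb1
    have hwe : w = a * (w * b2 * w⁻¹) * τ'' * x0⁻¹ := by
      have e' : w * x0 = a * τ * w * b1 * τ' * w⁻¹ := by rw [← e, mul_inv_cancel_right]
      calc w = w * x0 * x0⁻¹ := by group
        _ = _ := by rw [e', hτ''d, hb2d]; group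
    set p := τ'' * x0⁻¹ * τ''⁻¹ with hpd
    have hp : p ∈ X0 D := (hXT hτ'').1 _ (inv_mem hx0)
    have hbw : w * w * b * (w * w)⁻¹ ∈ X0 D := (hXT R.sq).1 _ hb
    refine ⟨w * w * b * (w * w)⁻¹ * a, mul_mem hbw ha, b2, hb2, p, hp, τ'', hτ'', ?_⟩
    calc w * 1 * (w * b * w⁻¹) = w * w * b * (w * w)⁻¹ * w := by group
      _ = w * w * b * (w * w)⁻¹ * (a * (w * b2 * w⁻¹) * τ'' * x0⁻¹) := by rw [← hwe]
      _ = _ := by rw [hpd]; group
  · obtain ⟨a, ha, b1, hb1, τ, hτ, τ', hτ', e⟩ := R.good x hx h1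
    have hτw : w⁻¹ * τ * w ∈ T := R.wT.2 _ hτ
    have hb2 : b1 * (τ' * b * τ'⁻¹) ∈ X0 D := mul_mem hb1 ((hXT hτ').1 _ hb)
    refine ⟨a, ha, _, (hXT hτw).1 _ hb2, 1, one_mem _, τ * (w * τ' * w⁻¹),
      mul_mem hτ (R.wT.1 _ hτ'), ?_⟩
    rw [show w * x * (w * b * w⁻¹) = w * x * w * b * w⁻¹ by group, e]
    group

/-- The Levi factor with the torus. -/
def levT (R : Rank1 E T) : Subgroup G where
  carrier := {g | ∃ A, ∃ τ ∈ T, g = j A * τ}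
  one_mem' := ⟨1, 1, one_mem _, by rw [map_one, one_mul]⟩
  mul_mem' := by
    rintro _ _ ⟨A, τ, hτ, rfl⟩ ⟨A', τ', hτ', rfl⟩
    obtain ⟨B, hB⟩ := E.range_keep (R.le hτ) A'
    exact ⟨A * B, τ * τ', mul_mem hτ hτ', by rw [map_mul, hB]; group⟩
  inv_mem' := by
    rintro _ ⟨A, τ, hτ, rfl⟩
    obtain ⟨B, hB⟩ := E.range_keep (R.le (inv_mem hτ)) A⁻¹
    exact ⟨B, τ⁻¹, inv_mem hτ, by rw [hB, map_inv]; group⟩

theorem Rank1.j_levT (R : Rank1 E T) (A : SLm) : j A ∈ levT R := ⟨A, 1, one_mem _, (mul_one _).symm⟩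

theorem Rank1.T_levT (R : Rank1 E T) {τ : G} (h : τ ∈ T) : τ ∈ levT R :=
  ⟨1, τ, h, by rw [map_one, one_mul]⟩

theorem Rank1.levT_U (R : Rank1 E T) : levT R ≤ Nrm U := by
  rintro _ ⟨A, τ, hτ, rfl⟩
  refine mul_mem ⟨D.norm A, fun u hu => ?_⟩ (E.tor_U (R.le hτ))
  simpa only [map_inv, inv_inv] using D.norm A⁻¹ u hu

theorem Rank1.levT_Um (R : Rank1 E T) : levT R ≤ Nrm (Um j U w) := by
  rintro _ ⟨A, τ, hτ, rfl⟩
  refine mul_mem ⟨?_, ?_⟩ (E.tor_Um (R.le hτ))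
  · intro v hv
    obtain ⟨u, hu, rfl⟩ := mem_Um.1 hv
    refine mem_Um.2 ⟨j (tct hF A) * u * (j (tct hF A))⁻¹, D.norm _ u hu, ?_⟩
    rw [← E.Jt_j' A]
    group
  · intro v hv
    obtain ⟨u, hu, rfl⟩ := mem_Um.1 hv
    refine mem_Um.2 ⟨j (tct hF A⁻¹) * u * (j (tct hF A⁻¹))⁻¹, D.norm _ u hu, ?_⟩
    rw [← E.Jt_j' A⁻¹, map_inv]
    group

/-- The big cell. -/
def Cset (R : Rank1 E T) : Set G :=
  {g | ∃ u ∈ U, ∃ v ∈ Um j U w, ∃ u' ∈ U, ∃ l ∈ levT R, g = u * v * u' * l}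

theorem Rank1.cell_U (R : Rank1 E T) {a g : G} (ha : a ∈ U) (hg : g ∈ Cset R) : a * g ∈ Cset R := by
  obtain ⟨u, hu, v, hv, u', hu', l, hl, rfl⟩ := hg
  exact ⟨a * u, mul_mem ha hu, v, hv, u', hu', l, hl, by group⟩

theorem Rank1.cell_L (R : Rank1 E T) {a g : G} (ha : a ∈ levT R) (hg : g ∈ Cset R) : a * g ∈ Cset R := by
  obtain ⟨u, hu, v, hv, u', hu', l, hl, rfl⟩ := hg
  exact ⟨a * u * a⁻¹, (R.levT_U ha).1 _ hu, a * v * a⁻¹, (R.levT_Um ha).1 _ hv, a * u' * a⁻¹,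
    (R.levT_U ha).1 _ hu', a * l, mul_mem ha hl, by group⟩

theorem Rank1.cell_w (R : Rank1 E T) {g : G} (hg : g ∈ Cset R) : w * g ∈ Cset R := by
  obtain ⟨u, hu, v, hv, u', hu', l, hl, rfl⟩ := hg
  obtain ⟨x, hx, u1, hu1, rfl⟩ := U_split D hu
  obtain ⟨v0, hv0, rfl⟩ := mem_Um.1 hv
  obtain ⟨xv, hxv, v1, hv1, rfl⟩ := U_split D hv0
  have hJX : ∀ {y : G}, y ∈ X0 D →
      Jt j w * y * (Jt j w)⁻¹ = w * (J1 j w * y * (J1 j w)⁻¹) * w⁻¹ := fun hy => by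
    rw [Jt]; group
  set b := J1 j w * xv * (J1 j w)⁻¹ with hbd
  have hb : b ∈ X0 D := E.J1_X0.1 _ hxv
  obtain ⟨a, ha, b', hb', p, hp, τ, hτ, ew⟩ := R.wxw hx hb
  set X' := w * b * w⁻¹ with hX'
  have hX'Q : X' ∈ Nrm (Qs D) :=
    mul_mem (mul_mem E.w_Qs (X0_Qs D hb)) (inv_mem E.w_Qs)
  set q := X'⁻¹ * u1 * X' with hqd
  have hq : q ∈ Qs D := hX'Q.2 _ (U1_Qs D hu1)
  set P := w * x * X' with hPd
  have hP : P ∈ Nrm (Qs D) := mul_mem (mul_mem E.w_Qs (X0_Qs D hx)) hX'Q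
  obtain ⟨u3, hu3, c3, -, eq'⟩ := hP.1 _ hq
  have hpτ : p * τ ∈ pre D w := mul_mem (E.X0_pre hp) (R.le hτ).1
  set g' := (Jt j w)⁻¹ * (p * τ) * Jt j w with hg'
  obtain ⟨u2, hu2, c2, -, e2⟩ := (mem_pre.1 hpτ).2.1.1 _ (U1_Qs D hv1)
  have e3 : p * τ * (Jt j w * v1 * (Jt j w)⁻¹) * (p * τ)⁻¹ =
      Jt j w * u2 * (Jt j w)⁻¹ * j (tct hF c2) := by
    rw [← E.Jt_j c2]
    calc p * τ * (Jt j w * v1 * (Jt j w)⁻¹) * (p * τ)⁻¹
        = Jt j w * (g' * v1 * g'⁻¹) * (Jt j w)⁻¹ := by rw [hg']; group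
      _ = _ := by rw [hg', e2]; group
  set K := j c3 * j (tct hF c2) with hK
  have hKL : K ∈ levT R := mul_mem (R.j_levT _) (R.j_levT _)
  have hV : w * b' * w⁻¹ * (Jt j w * u2 * (Jt j w)⁻¹) ∈ Um j U w := by
    refine mul_mem (mem_Um.2 ⟨(J1 j w)⁻¹ * b' * J1 j w, part_le (E.J1_X0.2 _ hb'), ?_⟩)
      (mem_Um.2 ⟨u2, part_le hu2, rfl⟩)
    rw [Jt]; group
  have hc3 : j c3 ∈ levT R := R.j_levT _
  refine ⟨u3 * (j c3 * a * (j c3)⁻¹), mul_mem (part_le hu3) ((R.levT_U hc3).1 _ (part_le ha)),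
    j c3 * (w * b' * w⁻¹ * (Jt j w * u2 * (Jt j w)⁻¹)) * (j c3)⁻¹, (R.levT_Um hc3).1 _ hV,
    K * (p * (τ * u' * τ⁻¹)) * K⁻¹,
    (R.levT_U hKL).1 _ (mul_mem (part_le hp) ((E.tor_U (R.le hτ)).1 _ hu')),
    K * τ * l, mul_mem (mul_mem hKL (R.T_levT hτ)) hl, ?_⟩
  calc w * (x * u1 * (Jt j w * (xv * v1) * (Jt j w)⁻¹) * u' * l)
      = w * x * u1 * (Jt j w * xv * (Jt j w)⁻¹) * (Jt j w * v1 * (Jt j w)⁻¹) * u' * l := by group
    _ = P * q * (Jt j w * v1 * (Jt j w)⁻¹) * u' * l := by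
        rw [hJX hxv, ← hbd, ← hX', hPd, hqd]; group
    _ = P * q * P⁻¹ * P * (Jt j w * v1 * (Jt j w)⁻¹) * u' * l := by group
    _ = u3 * j c3 * (a * (w * b' * w⁻¹)) *
          (p * τ * (Jt j w * v1 * (Jt j w)⁻¹) * (p * τ)⁻¹) * (p * τ) * u' * l := by
        rw [eq', show P = a * (w * b' * w⁻¹) * p * τ from ew]; group
    _ = _ := by rw [e3, hK]; group

theorem Rank1.all_cell (R : Rank1 E T) (hgen : Subgroup.closure ((Set.range j ∪ U) ∪ {w}) = ⊤) (g : G) :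
    g ∈ Cset R := by
  have key : ∀ g ∈ Subgroup.closure ((Set.range j ∪ (U : Set G)) ∪ {w}),
      (∀ c ∈ Cset R, g * c ∈ Cset R) ∧ ∀ c ∈ Cset R, g⁻¹ * c ∈ Cset R := by
    intro g hg
    induction hg using Subgroup.closure_induction with
    | mem x hx =>
      rcases hx with (⟨A, rfl⟩ | hx) | hx
      · exact ⟨fun c hc => R.cell_L (R.j_levT A) hc,
          fun c hc => R.cell_L (inv_mem (R.j_levT A)) hc⟩
      · exact ⟨fun c hc => R.cell_U hx hc, fun c hc => R.cell_U (inv_mem hx) hc⟩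
      · obtain rfl : x = w := hx
        refine ⟨fun c hc => R.cell_w hc, fun c hc => ?_⟩
        obtain ⟨d1, d2, -, -, e⟩ := E.winv
        rw [e, mul_assoc, mul_assoc]
        exact R.cell_L (R.j_levT _) (R.cell_w (R.cell_L (R.j_levT _) hc))
    | one => exact ⟨fun c hc => by rwa [one_mul], fun c hc => by rwa [inv_one, one_mul]⟩
    | mul x y _ _ hx hy =>
      exact ⟨fun c hc => by rw [mul_assoc]; exact hx.1 _ (hy.1 c hc),
        fun c hc => by rw [_root_.mul_inv_rev, mul_assoc]; exact hy.2 _ (hx.2 c hc)⟩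
    | inv x _ hx => exact ⟨hx.2, by rw [inv_inv]; exact hx.1⟩
  have h1 : (1 : G) ∈ Cset R := ⟨1, one_mem _, 1, one_mem _, 1, one_mem _, 1, one_mem _, by group⟩
  have := (key g (hgen ▸ Subgroup.mem_top g)).1 1 h1
  rwa [mul_one] at this

section Block

variable {m : ℕ}

/-- Block upper triangular. -/
def UpB (M : Matrix (Ix m ε) (Ix m ε) F) : Prop :=
  (∀ a b, M (Sum.inl (Sum.inr a)) (Sum.inl (Sum.inl b)) = 0) ∧
    ∀ a b, M (Sum.inr a) (Sum.inl (Sum.inl b)) = 0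

theorem UpB.mul {M N : Matrix (Ix m ε) (Ix m ε) F} (hM : UpB M) (hN : UpB N) : UpB (M * N) :=
  ⟨fun a b => by simp [Matrix.mul_apply, Fintype.sum_sum_type, hM.1, hN.1, hN.2],
    fun a b => by simp [Matrix.mul_apply, Fintype.sum_sum_type, hM.2, hN.1, hN.2]⟩

theorem UpB.uH {v : Matrix (Fin m) (Fin ε) F} {Z : Matrix (Fin m) (Fin m) F} (h : UOK hF v Z) :
    UpB (hval (uH hF v Z)) := by
  rw [uH_val hF h, uMat]
  exact ⟨fun a b => by simp, fun a b => by simp⟩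

theorem UpB.lev (A : SpecialLinearGroup (Fin m) F) : UpB (hval (lev hF ε A)) := by
  rw [lev_val, levM]
  exact ⟨fun a b => by simp, fun a b => by simp⟩

theorem UpB.torus [NeZero m] {g : Hgrp hF m ε} (h : TorusAt hF g) : UpB (hval g) := by
  obtain ⟨l, y, -, -, e⟩ := h
  rw [e]
  exact ⟨fun a b => by simp, fun a b => by simp⟩

end Block

theorem Rank1.Um_upper (R : Rank1 E T) {v : G} (hv : v ∈ Um j U w) (h : UpB (hval (π v))) : v = 1 := by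
  obtain ⟨u, hu, rfl⟩ := mem_Um.1 hv
  obtain ⟨v', Z, ok, e⟩ := D.img u hu
  have hh : hval (π (Jt j w)) * uMat hF v' Z = hval (π (Jt j w * u * (Jt j w)⁻¹)) * hval (π (Jt j w)) := by
    rw [← uH_val hF ok, ← e, ← hval_mul, ← hval_mul, ← map_mul, ← map_mul, inv_mul_cancel_right]
  rw [E.πJ, wMat_univ] at hh
  generalize hval (π (Jt j w * u * (Jt j w)⁻¹)) = M at h hh
  have hz : z ^ (k + 2) ≠ 0 := pow_ne_zero _ (hW.z_ne hF)
  have hZ : Z = 0 := by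
    ext a b
    have h1 := congrFun (congrFun hh (Sum.inl (Sum.inr a))) (Sum.inl (Sum.inr b))
    simp [uMat, Matrix.mul_apply, Fintype.sum_sum_type, h.1, Matrix.one_apply, hW.ne] at h1
    simpa using h1
  have hv' : v' = 0 := by
    ext b a
    have h1 := congrFun (congrFun hh (Sum.inr a)) (Sum.inl (Sum.inr b))
    simp [uMat, Matrix.mul_apply, Fintype.sum_sum_type, h.2, Matrix.one_apply, ct_apply, hz] at h1
    simpa using h1
  rw [D.inj u hu (by rw [e, hv', hZ, uH_zero]), mul_one, mul_inv_cancel]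

/-- The projection is injective. -/
theorem Rank1.injective (R : Rank1 E T) (hgen : Subgroup.closure ((Set.range j ∪ U) ∪ {w}) = ⊤) :
    Function.Injective π := by
  refine (injective_iff_map_eq_one π).2 fun g hg => ?_
  obtain ⟨u, hu, v, hv, u', hu', l, ⟨A, τ, hτ, rfl⟩, rfl⟩ := R.all_cell hgen g
  have hUp : ∀ u ∈ U, UpB (hval (π u)) := fun u hu => by
    obtain ⟨v, Z, ok, e⟩ := D.img u hu
    rw [e]; exact UpB.uH ok
  have hv1 : v = 1 := by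
    refine R.Um_upper hv ?_
    have e : π v = π u⁻¹ * (π τ⁻¹ * π (j A⁻¹) * π u'⁻¹) := by
      rw [← map_mul, ← map_mul, ← map_mul, map_inv j]
      have h' : u⁻¹ * (τ⁻¹ * (j A)⁻¹ * u'⁻¹) = u⁻¹ * (u * v * u' * (j A * τ))⁻¹ * (u * v) := by group
      rw [h', map_mul, map_mul, map_inv π (u * v * u' * (j A * τ)), hg, inv_one, mul_one, ← map_mul,
        inv_mul_cancel_left]
    rw [e, hval_mul, hval_mul, hval_mul, D.πj]
    exact (hUp _ (inv_mem hu)).mul (((UpB.torus (R.le (inv_mem hτ)).2).mul (UpB.lev _)).mul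
      (hUp _ (inv_mem hu')))
  subst hv1
  rw [mul_one] at hg ⊢
  obtain ⟨v, Z, ok, e⟩ := D.img _ (mul_mem hu hu')
  obtain ⟨l, y, -, -, et⟩ := (R.le (inv_mem hτ)).2
  have hh : uMat hF v Z * levM hF ε A = hval (π τ⁻¹) := by
    rw [← uH_val hF ok, ← e, ← lev_val, ← D.πj, ← hval_mul, ← map_mul]
    congr 1
    rw [map_inv]
    refine eq_inv_of_mul_eq_one_left ?_
    rw [← map_mul, mul_assoc (u * u'), hg]
  rw [et] at hh
  simp only [uMat, levM, fromBlocks_multiply, fromBlocks_mul_fromRows, fromCols_mul_fromBlocks,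
    Matrix.mul_zero, Matrix.zero_mul, add_zero, zero_add, Matrix.one_mul, Matrix.mul_one,
    fromBlocks_inj] at hh
  obtain ⟨⟨-, hZ, -, -⟩, -, hv, -⟩ := hh
  have hcan : ct hF (A⁻¹).1 * ct hF A.1 = 1 := by rw [← ct_mul, sval_mul_inv, ct_one]
  have hZ0 : Z = 0 := by
    have := congrArg (fun M => M * ct hF A.1) hZ
    simp only [Matrix.mul_assoc, Matrix.zero_mul, hcan, Matrix.mul_one] at this
    exact this
  have hv0 : ct hF v = 0 := by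
    have h1 : ct hF v * ct hF (A⁻¹).1 = 0 := by
      ext a b
      simpa using congrFun (congrFun hv a) (Sum.inr b)
    have := congrArg (fun M => M * ct hF A.1) h1
    simp only [Matrix.mul_assoc, Matrix.zero_mul, hcan, Matrix.mul_one] at this
    exact this
  have hv00 : v = 0 := by rw [← ct_ct hF v, hv0, ct_zero]
  have huu : u * u' = 1 := D.inj _ (mul_mem hu hu') (by rw [e, hv00, hZ0, uH_zero])
  rw [huu, one_mul] at hg ⊢
  rw [map_mul, D.πj] at hg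
  obtain ⟨B, hB⟩ := R.lev τ hτ A⁻¹ (by rw [map_inv]; exact eq_inv_of_mul_eq_one_right hg)
  rw [← hB, D.πj, ← map_mul] at hg
  rw [← hB, ← map_mul, lev_injective hF (hg.trans (map_one _).symm), map_one]

end Cfsg.Agent.Lie.UnPres
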