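import Cfsg.Agent.Lib.Lie.UnPresRel

/-!
The even model values, and injectivity from the radical and the relations of the Weyl element.
-/

set_option autoImplicit false
set_option linter.unusedSectionVars false

namespace Cfsg.Agent.Lie.UnPres

open Matrix Cfsg.Agent.Classical Cfsg.Agent.Classical.PSUAut
open Cfsg.Agent.Lie.SpnPres (sval_mul sval_one inv_mulVec mulVec_inv exists_col)

variable {F : Type*} [Field F] [Fintype F] {q : ℕ} (hF : Fintype.card F = q ^ 2) {k m ε : ℕ}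

local notation "σ" => qFrob hF

include hF

/-- The scalars of the even case. -/
structure EPar (μ ω lam : F) (eps c₀ : Fˣ) : Prop where
  μt : μ + σ μ = 0
  μ0 : μ ≠ 0
  prim : Prim q ω
  heps : (eps : F) = ω ^ (q - 1)
  hlam : lam * σ lam = -(μ * μ)⁻¹
  hc₀ : (c₀ : F) * σ c₀ = -1

theorem exists_skew : ∃ μ : F, μ ≠ 0 ∧ μ + σ μ = 0 := by
  obtain ⟨ω, P⟩ := exists_prim hF
  refine ⟨ω - σ ω, sub_ne_zero.2 (Ne.symm (P.not_real hF)), ?_⟩
  rw [map_sub, qFrob_qFrob hF]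
  ring

theorem exists_epar : ∃ (μ ω lam : F) (eps c₀ : Fˣ), EPar hF μ ω lam eps c₀ := by
  obtain ⟨μ, μ0, μt⟩ := exists_skew hF
  obtain ⟨ω, P⟩ := exists_prim hF
  have hs : σ μ = -μ := by linear_combination μt
  obtain ⟨lam, hlam⟩ := exists_norm hF (a := -(μ * μ)⁻¹) (by rw [map_neg, map_inv₀, map_mul, hs, neg_mul_neg])
  obtain ⟨c, hc⟩ := exists_norm hF (a := (-1 : F)) (by rw [map_neg, map_one])
  have hc0 : c ≠ 0 := fun h => by rw [h, zero_mul] at hc; exact one_ne_zero (neg_eq_zero.1 hc.symm)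
  exact ⟨μ, ω, lam, Units.mk0 _ (pow_ne_zero (q - 1) P.ne), Units.mk0 c hc0,
    μt, μ0, P, rfl, hlam, hc⟩

variable {μ ω lam : F} {eps c₀ : Fˣ}

theorem EPar.wok (E : EPar hF μ ω lam eps c₀) : WOK hF μ 1 0 := by
  refine ⟨E.μ0, by rw [map_one, one_mul], ?_⟩
  rw [show σ μ = -μ by linear_combination E.μt, neg_div_neg_eq, div_self E.μ0, one_mul, pow_zero]

theorem EPar.eps_norm (E : EPar hF μ ω lam eps c₀) : (eps : F) * σ (eps : F) = 1 := by
  rw [E.heps]; exact E.prim.eps_norm hF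

/-- The model of the orbit of a root element. -/
noncomputable def T₀ (ε : ℕ) (μ : F) (v : Fin m → F) : Hgrp hF m ε := uH hF 0 (μ • vv hF v)

theorem T₀_conj (hμ : μ + σ μ = 0) (A : SpecialLinearGroup (Fin m) F) (v : Fin m → F) :
    lev hF ε A * T₀ hF ε μ v * (lev hF ε A)⁻¹ = T₀ hF ε μ (A.1 *ᵥ v) := by
  rw [T₀, lev_uH hF _ (skew_ok hF hμ (vv_herm hF v)), Matrix.mul_zero, Matrix.mul_smul, Matrix.smul_mul, ← vv_conj]
  rfl

theorem T₀_fix (hμ : μ + σ μ = 0) {A : SpecialLinearGroup (Fin m) F} {v : Fin m → F} (h : A.1 *ᵥ v = v) :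
    lev hF ε A * T₀ hF ε μ v = T₀ hF ε μ v * lev hF ε A := by
  rw [← mul_inv_eq_iff_eq_mul, T₀_conj hF hμ, h]

theorem T₀_comm (hμ : μ + σ μ = 0) (v w : Fin m → F) :
    T₀ hF ε μ v * T₀ hF ε μ w = T₀ hF ε μ w * T₀ hF ε μ v := by
  rw [T₀, T₀, uH_skew_mul hF hμ (vv_herm hF v) (vv_herm hF w),
    uH_skew_mul hF hμ (vv_herm hF w) (vv_herm hF v), add_comm]

theorem hv_swap (c : F) (v w : Fin m → F) : hv hF (c • v) w = hv hF v (σ c • w) := by
  ext a b
  simp only [hv, Matrix.add_apply, vecMulVec_apply, Pi.smul_apply, smul_eq_mul, map_mul, qFrob_qFrob hF]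
  ring

theorem T₀_S (hμ : μ + σ μ = 0) (c : F) (v w : Fin m → F) :
    Bw (T₀ hF ε μ) (c • v) w = Bw (T₀ hF ε μ) v (σ c • w) := by
  rw [piT hF hμ (T := T₀ hF ε μ) (fun _ => rfl), piT hF hμ (T := T₀ hF ε μ) (fun _ => rfl), hv_swap]

theorem T₀_D (hμ : μ + σ μ = 0) (a b c : Fin m → F) :
    T₀ hF ε μ (a + b + c) * (T₀ hF ε μ a * T₀ hF ε μ b * T₀ hF ε μ c) =
      T₀ hF ε μ (a + b) * T₀ hF ε μ (a + c) * T₀ hF ε μ (b + c) := by
  have h2 : ∀ u v : Fin m → F, ∀ i l, σ ((vv hF u + vv hF v) l i) = (vv hF u + vv hF v) i l := fun u v i l => by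
    rw [Matrix.add_apply, map_add, vv_herm, vv_herm]; rfl
  have h3 : ∀ u v x : Fin m → F, ∀ i l, σ ((vv hF u + vv hF v + vv hF x) l i) = (vv hF u + vv hF v + vv hF x) i l :=
    fun u v x i l => by rw [Matrix.add_apply, map_add, h2, vv_herm]; rfl
  simp only [T₀]
  rw [uH_skew_mul hF hμ (vv_herm hF a) (vv_herm hF b), uH_skew_mul hF hμ (h2 a b) (vv_herm hF c),
    uH_skew_mul hF hμ (vv_herm hF _) (h3 a b c), uH_skew_mul hF hμ (vv_herm hF (a + b)) (vv_herm hF (a + c)),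
    uH_skew_mul hF hμ (h2 _ _) (vv_herm hF (b + c))]
  congr 2
  ext i l
  simp only [vv, Matrix.add_apply, vecMulVec_apply, Pi.add_apply, map_add]
  ring

theorem extL_keep (N : SpecialLinearGroup (Fin (k + 1)) F) :
    Keep (extL N : SpecialLinearGroup (Fin (k + 2)) F) 0 := by
  refine ⟨extL_zero N, fun j hj => ?_⟩
  by_contra h
  exact hj ((extL_blk N 0 j h).1 rfl)

theorem wH_extL {z : F} (hW : WOK hF μ z ε) (N : SpecialLinearGroup (Fin (k + 1)) F) :
    wH hF hW 0 * lev hF ε (extL N) = lev hF ε (extL N) * wH hF hW 0 :=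
  (mul_inv_eq_iff_eq_mul.1 (lev_wH hF hW (extL_keep hF N))).symm

theorem wH_T₀ (hW : WOK hF μ 1 ε) (hμ : μ + σ μ = 0) {v : Fin (k + 2) → F} (hv : v 0 = 0) :
    wH hF hW 0 * T₀ hF ε μ v * (wH hF hW 0)⁻¹ = T₀ hF ε μ v := by
  have e : ∀ (a b : Fin (k + 2)), a = 0 ∨ b = 0 → (μ • vv hF v) a b = 0 := by
    intro a b h
    rcases h with rfl | rfl <;> simp [vv, vecMulVec_apply, hv]
  rw [T₀, (wH_uH hF hW (skew_ok hF hμ (vv_herm hF v)) (by rw [Matrix.mul_zero]) ?_ ?_).2, smul_zero]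
  · ext a b
    rcases eq_or_ne a 0 with rfl | ha
    · simp [Pd, Matrix.diagonal_mul, e 0 b (Or.inl rfl)]
    · simp [Pd, Matrix.diagonal_mul, ha]
  · ext a b
    rcases eq_or_ne b 0 with rfl | hb
    · simp [Pd, Matrix.mul_diagonal, e a 0 (Or.inr rfl)]
    · simp [Pd, Matrix.mul_diagonal, hb]

theorem T₀_corner (E : EPar hF μ ω lam eps c₀) :
    T₀ hF (m := k + 2) 0 μ (Pi.single 0 lam) = uH hF 0 (corner (-μ⁻¹)) := by
  have hμ0 := E.μ0
  rw [T₀, show (Pi.single 0 lam : Fin (k + 2) → F) = lam • Pi.single 0 1 by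
    rw [← Pi.single_smul, smul_eq_mul, mul_one], vv_smul, E.hlam, vv_single_zero, corner, smul_smul,
    Matrix.smul_single, smul_eq_mul, mul_one]
  congr 2
  field_simp

section Finish

variable {hF} {G : Type*} [Group G] {π : G →* Hgrp hF (k + 2) 0}
  {j : SpecialLinearGroup (Fin (k + 2)) F →* G} {u w : G} {T : (Fin (k + 2) → F) → G}

/-- Injectivity from the radical and the relations of the Weyl element. -/
theorem even_finish (E : EPar hF μ ω lam eps c₀) (hπj : ∀ A, π (j A) = lev hF 0 A)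
    (hπw : π w = wH hF (EPar.wok hF E) 0) (hgen : j.range ⊔ Subgroup.closure {u, w} = ⊤)
    (hTu : T (Pi.single 0 1) = u) (hTπ : ∀ v, π (T v) = T₀ hF 0 μ v)
    (D : UData hF π j (Subgroup.closure (Set.range T)))
    (hext : ∀ N, Commute w (j (extL N)))
    (hT : ∀ v : Fin (k + 2) → F, v 0 = 0 → w * T v * w⁻¹ = T v)
    (hP : ∀ r : Fin (k + 1) → F, ∀ y ∈ Subgroup.closure (Set.range T),
      π y = uH hF 0 (μ • hv hF (Pi.single 0 1) (Fin.cons 0 r)) → w * y * w⁻¹ ∈ colJ j)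
    (hWW : Commute w (j (swp 1 0) * w * (j (swp 1 0))⁻¹))
    (hR1 : w = T (Pi.single 0 lam) * (w * T (Pi.single 0 lam) * w⁻¹) * T (Pi.single 0 lam))
    (hDw : w * j (dg c₀) * w = j (dg c₀)) : Function.Injective π := by
  have memU : ∀ v, T v ∈ Subgroup.closure (Set.range T) := fun v => Subgroup.subset_closure ⟨v, rfl⟩
  have shp : ∀ {pv : Fin (k + 2) → Prop} {pZ : Fin (k + 2) → Fin (k + 2) → Prop} (v : Fin (k + 2) → F),
      (∀ a b, ¬ pZ a b → v a = 0 ∨ v b = 0) →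
      Shp pv pZ (0 : Matrix (Fin (k + 2)) (Fin 0) F) (μ • vv hF v) := by
    intro pv pZ v h
    refine ⟨fun _ c => c.elim0, fun a b hab => ?_⟩
    rcases h a b hab with h | h <;> simp [vv, vecMulVec_apply, h]
  have memX : T (Pi.single 0 lam) ∈ X0 D := by
    refine part_mem (memU _) (skew_ok hF E.μt (vv_herm hF _)) (hTπ _) (shp _ fun a b h => ?_)
    rcases not_and_or.1 h with ha | hb
    exacts [Or.inl (Pi.single_eq_of_ne ha _), Or.inr (Pi.single_eq_of_ne hb _)]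
  have Eg : Eng D (EPar.wok hF E) w := by
    refine ⟨hπw, hext, fun y hy => wU_of D E.μt E.μ0 (fun v _ => ?_) (fun v hv y hyU e => ?_) hy,
      fun y hy => wY_of D E.μt E.μ0 hP hy, ⟨(dg c₀)⁻¹, dg c₀, (dg_blk c₀).inv, dg_blk c₀, ?_⟩, hWW⟩
    · obtain rfl : v = 0 := Subsingleton.elim _ _
      exact ⟨1, one_mem _, 0, UOK.zero hF, by rw [map_one, uH_zero],
        by rw [mul_one, mul_inv_cancel]; exact one_mem _⟩
    · rw [D.eq_of hyU (memU v) (e.trans (hTπ v).symm), hT v hv]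
      refine part_mem (memU v) (skew_ok hF E.μt (vv_herm hF _)) (hTπ _) (shp _ fun a b h => ?_)
      rw [not_not] at h
      exact Or.inl (by rw [h.1, hv])
    · rw [map_inv]
      have e : j (dg c₀) * w⁻¹ = w * j (dg c₀) := by
        calc j (dg c₀) * w⁻¹ = w * j (dg c₀) * w * w⁻¹ := by rw [hDw]
          _ = w * j (dg c₀) := by group
      calc w⁻¹ = (j (dg c₀))⁻¹ * (j (dg c₀) * w⁻¹) := by group
        _ = _ := by rw [e, mul_assoc]
  refine (rank1_even Eg memX ?_ hR1 hDw).injective ?_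
  · rw [hTπ, T₀_corner hF E]
  · refine eq_top_iff.2 ?_
    rw [← hgen, sup_le_iff]
    refine ⟨?_, ?_⟩
    · rintro _ ⟨A, rfl⟩
      exact Subgroup.subset_closure (Or.inl (Or.inl ⟨A, rfl⟩))
    · rw [Subgroup.closure_le]
      rintro _ (rfl | rfl)
      · exact Subgroup.subset_closure (Or.inl (Or.inr (hTu ▸ memU _)))
      · exact Subgroup.subset_closure (Or.inr rfl)

end Finish

end Cfsg.Agent.Lie.UnPres
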