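import Cfsg.Agent.Lib.Lie.UnPresSL
import Cfsg.Agent.Lib.Lie.UnPresField

/-!
Orbits of one element under an image of `SL_{k+2}`, moves of short independent families, and closure
of a set of determinants.
-/

set_option autoImplicit false
set_option linter.unusedSectionVars false

namespace Cfsg.Agent.Lie.UnPres

open Matrix
open Cfsg.Agent.Lie.SpnPres (sval_mul sval_one inv_mulVec mulVec_inv exists_col sval_mul_inv)
open Cfsg.Agent.Classical Cfsg.Agent.Classical.PSUAut

variable {F : Type*} [Field F] [Fintype F]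

section Stab

variable {k : ℕ} {G : Type*} [Group G]
variable (j : SpecialLinearGroup (Fin (k + 2)) F →* G) (u : G)

local notation "bv" a:max => (Pi.single a (1 : F) : Fin (k + 2) → F)

/-- The elements whose image commutes with `u`. -/
def cent : Subgroup (SpecialLinearGroup (Fin (k + 2)) F) := (Subgroup.centralizer {u}).comap j

theorem mem_cent {M : SpecialLinearGroup (Fin (k + 2)) F} : M ∈ cent j u ↔ Commute (j M) u := by
  rw [cent, Subgroup.mem_comap, Subgroup.mem_centralizer_singleton_iff]; rfl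

theorem ext_of_pair {a b : SpecialLinearGroup (Fin (k + 1)) F}
    (hab : Subgroup.closure ({a, b} : Set (SpecialLinearGroup (Fin (k + 1)) F)) = ⊤)
    (ha : Commute (j (extL a)) u) (hb : Commute (j (extL b)) u) (N : SpecialLinearGroup (Fin (k + 1)) F) :
    Commute (j (extL N)) u := by
  have h : (⊤ : Subgroup (SpecialLinearGroup (Fin (k + 1)) F)) ≤ (cent j u).comap extL := by
    rw [← hab, Subgroup.closure_le]
    rintro x (rfl | rfl)
    exacts [(mem_cent j u).2 ha, (mem_cent j u).2 hb]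
  exact (mem_cent j u).1 (h (Subgroup.mem_top N))

theorem ext_of_single (hk : k = 0) (N : SpecialLinearGroup (Fin (k + 1)) F) : N = 1 := by
  subst hk
  exact Subsingleton.elim (α := SpecialLinearGroup (Fin 1) F) N 1

theorem row_of_one (hk : 1 ≤ k) (hext : ∀ N, Commute (j (extL N)) u)
    (h : Commute (j (rowE (Pi.single 0 1))) u) (r : Fin (k + 1) → F) : Commute (j (rowE r)) u := by
  rcases eq_or_ne r 0 with rfl | hr
  · rw [rowE_zero, map_one]; exact Commute.one_left _
  obtain ⟨l, rfl⟩ : ∃ l, k = l + 1 := ⟨k - 1, by omega⟩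
  obtain ⟨g, hg⟩ := exists_col (F := F) (n := l) 0 hr
  let N : SpecialLinearGroup (Fin (l + 2)) F := ⟨g.1ᵀ, by rw [det_transpose, g.2]⟩
  have e : (extL N)⁻¹ * rowE (Pi.single 0 1) * extL N = rowE r := by
    rw [rowE_conj]
    congr 1
    show Pi.single 0 1 ᵥ* g.1ᵀ = r
    rw [vecMul_transpose, hg]
  rw [← e]
  exact (mem_cent j u).1 (mul_mem (mul_mem (inv_mem ((mem_cent j u).2 (hext N))) ((mem_cent j u).2 h))
    ((mem_cent j u).2 (hext N)))

theorem commute_stab (hext : ∀ N, Commute (j (extL N)) u) (hrow : ∀ r, Commute (j (rowE r)) u)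
    {M : SpecialLinearGroup (Fin (k + 2)) F} (hM : M.1 *ᵥ bv 0 = bv 0) : Commute (j M) u := by
  obtain ⟨r, N, rfl⟩ := fix_comp_decomp hM
  rw [map_mul]
  exact (hrow r).mul_left (hext N)

/-- The orbit map. -/
theorem exists_orbit (hu : ∀ M : SpecialLinearGroup (Fin (k + 2)) F, M.1 *ᵥ bv 0 = bv 0 → Commute (j M) u) :
    ∃ T : (Fin (k + 2) → F) → G, T 0 = 1 ∧ T (bv 0) = u ∧
      (∀ M : SpecialLinearGroup (Fin (k + 2)) F, T (M.1 *ᵥ bv 0) = j M * u * (j M)⁻¹) ∧
      ∀ (M : SpecialLinearGroup (Fin (k + 2)) F) v, T (M.1 *ᵥ v) = j M * T v * (j M)⁻¹ := by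
  classical
  let T : (Fin (k + 2) → F) → G := fun v => if h : v = 0 then 1 else
    j (exists_col (n := k) 0 h).choose * u * (j (exists_col (n := k) 0 h).choose)⁻¹
  have hne : ∀ M : SpecialLinearGroup (Fin (k + 2)) F, M.1 *ᵥ bv 0 ≠ 0 := by
    intro M h
    have := congrArg (fun v => (M⁻¹).1 *ᵥ v) h
    simp only [inv_mulVec, Matrix.mulVec_zero] at this
    simpa using congrFun this 0
  have hT : ∀ M : SpecialLinearGroup (Fin (k + 2)) F, T (M.1 *ᵥ bv 0) = j M * u * (j M)⁻¹ := by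
    intro M
    simp only [T, dif_neg (hne M)]
    set K := (exists_col (n := k) 0 (hne M)).choose
    have hK : K.1 *ᵥ bv 0 = M.1 *ᵥ bv 0 := (exists_col (n := k) 0 (hne M)).choose_spec
    have hc := hu (M⁻¹ * K) (by rw [sval_mul, ← Matrix.mulVec_mulVec, hK, inv_mulVec])
    have e : K = M * (M⁻¹ * K) := (mul_inv_cancel_left M K).symm
    conv_lhs => rw [e, map_mul]
    rw [_root_.mul_inv_rev, mul_assoc (j M) _ u, hc.eq]
    group
  refine ⟨T, by simp [T], ?_, hT, fun M v => ?_⟩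
  · have := hT 1
    rwa [sval_one, Matrix.one_mulVec, map_one, one_mul, inv_one, mul_one] at this
  rcases eq_or_ne v 0 with rfl | hv
  · simp [T]
  obtain ⟨K, rfl⟩ := exists_col (n := k) 0 hv
  rw [Matrix.mulVec_mulVec, ← sval_mul, hT, hT, map_mul]
  group

/-- An element normalising the image, from the generators. -/
theorem conj_of_pair (τ : SpecialLinearGroup (Fin (k + 2)) F →* SpecialLinearGroup (Fin (k + 2)) F) (h : G)
    {S : Set (SpecialLinearGroup (Fin (k + 2)) F)} (hS : Subgroup.closure S = ⊤)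
    (hh : ∀ M ∈ S, h * j M * h⁻¹ = j (τ M)) (M : SpecialLinearGroup (Fin (k + 2)) F) :
    h * j M * h⁻¹ = j (τ M) :=
  DFunLike.congr_fun (MonoidHom.eq_of_eqOn_dense hS (f := (MulAut.conj h).toMonoidHom.comp j)
    (g := j.comp τ) fun x hx => hh x hx) M

/-- Transport of an orbit map by such an element. -/
theorem orbit_map {T : (Fin (k + 2) → F) → G} (hT0 : T 0 = 1)
    (hT : ∀ (M : SpecialLinearGroup (Fin (k + 2)) F) v, T (M.1 *ᵥ v) = j M * T v * (j M)⁻¹)
    (τ : SpecialLinearGroup (Fin (k + 2)) F →* SpecialLinearGroup (Fin (k + 2)) F)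
    (L : (Fin (k + 2) → F) → Fin (k + 2) → F) (hL0 : L 0 = 0)
    (hL : ∀ (M : SpecialLinearGroup (Fin (k + 2)) F) v, L (M.1 *ᵥ v) = (τ M).1 *ᵥ L v) (h : G)
    (hj : ∀ M, h * j M * h⁻¹ = j (τ M)) (hu : h * T (bv 0) * h⁻¹ = T (L (bv 0)))
    (v : Fin (k + 2) → F) : h * T v * h⁻¹ = T (L v) := by
  rcases eq_or_ne v 0 with rfl | hv
  · rw [hT0, hL0, hT0]; group
  obtain ⟨K, rfl⟩ := exists_col (n := k) 0 hv
  rw [hL, hT, hT, ← hu, ← hj]
  group

end Stab

section Move

/-- The determinant of two vectors in the plane. -/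
def det2 (a b : Fin 2 → F) : F := a 0 * b 1 - a 1 * b 0

theorem exists_move_two {a b : Fin 2 → F} (h : Ind2 F a b) :
    det2 a b ≠ 0 ∧ ∃ g : SpecialLinearGroup (Fin 2) F, g.1 *ᵥ Pi.single 0 1 = a ∧
      g.1 *ᵥ (det2 a b • Pi.single 1 1) = b := by
  obtain ⟨g, d, hd, ha, hb, -⟩ := exists_pair_move (k := 0) h
  have hdet : g.1 0 0 * g.1 1 1 - g.1 0 1 * g.1 1 0 = 1 := by rw [← Matrix.det_fin_two]; exact g.2
  have e : det2 a b = d := by
    rw [← ha, ← hb, det2]
    simp [Matrix.mulVec_smul]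
    linear_combination d * hdet
  exact ⟨by rw [e]; exact hd, g, ha, by rw [e]; exact hb⟩

theorem ind2_single {k : ℕ} {a b : Fin (k + 2)} (h : a ≠ b) {s t : F} (hs : s ≠ 0) (ht : t ≠ 0) :
    Ind2 F (Pi.single a s : Fin (k + 2) → F) (Pi.single b t) := by
  refine ⟨fun e => hs (by simpa using congrFun e a), fun r hr => ?_⟩
  have := congrFun hr b
  simp [h.symm, ht] at this

theorem exists_fix_one {z : Fin 2 → F} (hz : z 1 ≠ 0) :
    ∃ g : SpecialLinearGroup (Fin 2) F, g.1 *ᵥ Pi.single 0 1 = Pi.single 0 1 ∧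
      g.1 *ᵥ (z 1 • Pi.single 1 1) = z := by
  refine ⟨rowE (k := 0) (Pi.single 0 (z 0 / z 1)), rowE_fix _, ?_⟩
  rw [show (z 1 • Pi.single 1 1 : Fin 2 → F) = Fin.cons 0 (Pi.single 0 (z 1)) by
    ext i; fin_cases i <;> simp, rowE_cons]
  ext i
  fin_cases i <;> simp [hz]

theorem exists_fix_two {z : Fin 3 → F} (hz : z 2 ≠ 0) :
    ∃ g : SpecialLinearGroup (Fin 3) F, g.1 *ᵥ Pi.single 0 1 = Pi.single 0 1 ∧
      g.1 *ᵥ Pi.single 1 1 = Pi.single 1 1 ∧ g.1 *ᵥ (z 2 • Pi.single 2 1) = z := by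
  refine ⟨Matrix.SpecialLinearGroup.transvection (show (0 : Fin 3) ≠ 2 by decide) (z 0 / z 2) *
    Matrix.SpecialLinearGroup.transvection (show (1 : Fin 3) ≠ 2 by decide) (z 1 / z 2), ?_, ?_, ?_⟩
  all_goals
    rw [sval_mul, ← Matrix.mulVec_mulVec]
    show Matrix.transvection (0 : Fin 3) 2 (z 0 / z 2) *ᵥ (Matrix.transvection (1 : Fin 3) 2 (z 1 / z 2) *ᵥ _) = _
    ext i
    fin_cases i <;>
      simp [Matrix.transvection, Matrix.add_mulVec, Matrix.mulVec, dotProduct, Fin.sum_univ_three,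
        Matrix.single_apply, Pi.single_apply, Matrix.one_apply, div_mul_cancel₀ _ hz, add_mul]

end Move

section Delta

variable {q : ℕ} (hF : Fintype.card F = q ^ 2)

local notation "σ" => qFrob hF

variable {S : F → Prop} (hreal : ∀ s x : F, qFrob hF s = s → s ≠ 0 → S x → S (s * x))

include hF hreal

theorem delta_of_translate {g : F} (hg : σ g ≠ g)
    (h1 : ∀ x, (S x ∨ x = 0) → (S (x + 1) ∨ x + 1 = 0))
    (hg' : ∀ x, (S x ∨ x = 0) → (S (x + g) ∨ x + g = 0)) {x : F} (hx : x ≠ 0) : S x := by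
  have hneg : ∀ y, (S y ∨ y = 0) → (S (-y) ∨ -y = 0) := by
    rintro y (hy | rfl)
    · exact Or.inl (by simpa using hreal (-1) y (by rw [map_neg, map_one]) (by simp) hy)
    · exact Or.inr neg_zero
  let K : AddSubgroup F :=
    { carrier := {d | ∀ y, (S y ∨ y = 0) → (S (y + d) ∨ y + d = 0)}
      zero_mem' := fun y hy => by rwa [add_zero]
      add_mem' := fun {a b} ha hb y hy => by rw [← add_assoc]; exact hb _ (ha y hy)
      neg_mem' := fun {a} ha y hy => by
        have := hneg _ (ha (-y) (hneg y hy))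
        rwa [neg_add, neg_neg] at this }
  have hK : ∀ s : F, σ s = s → ∀ d ∈ K, s * d ∈ K := by
    intro s hs d hd y hy
    rcases eq_or_ne s 0 with rfl | hs0
    · rwa [zero_mul, add_zero]
    have hy' : S (s⁻¹ * y) ∨ s⁻¹ * y = 0 := hy.imp (hreal _ _ (by rw [map_inv₀, hs]) (inv_ne_zero hs0))
      (fun e => by rw [e, mul_zero])
    rcases hd _ hy' with h | h
    · left
      have := hreal s _ hs hs0 h
      rwa [mul_add, mul_inv_cancel_left₀ hs0] at this
    · right
      rw [show y + s * d = s * (s⁻¹ * y + d) by rw [mul_add, mul_inv_cancel_left₀ hs0], h, mul_zero]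
  obtain ⟨a, b, ha, hb, rfl⟩ := exists_coord hF hg x
  have hm : a + b * g ∈ K := K.add_mem (by simpa using hK a ha 1 h1) (hK b hb g hg')
  rcases hm 0 (Or.inr rfl) with h | h <;> rw [zero_add] at h
  · exact h
  · exact absurd h hx

/-- Closure under the rule of three terms. -/
theorem delta_all {g : F} (hg : σ g ≠ g)
    (h3 : ∀ x y z, S x → S y → S z → x + z - y ≠ 0 → S (x + z - y))
    (s1 : S 1) (sg : S g) (s1g : S (1 + g)) {x : F} (hx : x ≠ 0) : S x := by
  refine delta_of_translate hF hreal hg ?_ ?_ hx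
  · rintro y (hy | rfl)
    · refine (eq_or_ne (y + 1) 0).elim Or.inr fun h => Or.inl ?_
      have := h3 y g (1 + g) hy sg s1g
      rw [show y + (1 + g) - g = y + 1 by ring] at this
      exact this h
    · exact Or.inl (by rwa [zero_add])
  · rintro y (hy | rfl)
    · refine (eq_or_ne (y + g) 0).elim Or.inr fun h => Or.inl ?_
      have := h3 y 1 (1 + g) hy s1 s1g
      rw [show y + (1 + g) - 1 = y + g by ring] at this
      exact this h
    · exact Or.inl (by rwa [zero_add])

/-- Closure under the rule of two terms. -/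
theorem delta_all' {a : F} (ha : σ a ≠ a)
    (h2 : ∀ x y, S x → S (a * x) → S y → x + y ≠ 0 → S (x + y))
    (s1 : S 1) (sa : S a) (saa : S (a * a)) {x : F} (hx : x ≠ 0) : S x := by
  refine delta_of_translate hF hreal ha ?_ ?_ hx
  · rintro y (hy | rfl)
    · refine (eq_or_ne (y + 1) 0).elim Or.inr fun h => Or.inl ?_
      rw [add_comm]
      exact h2 1 y s1 (by rwa [mul_one]) hy (by rwa [add_comm])
    · exact Or.inl (by rwa [zero_add])
  · rintro y (hy | rfl)
    · refine (eq_or_ne (y + a) 0).elim Or.inr fun h => Or.inl ?_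
      rw [add_comm]
      exact h2 a y sa saa hy (by rwa [add_comm])
    · exact Or.inl (by rwa [zero_add])

end Delta

end Cfsg.Agent.Lie.UnPres
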