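import Cfsg.Agent.Lib.Lie.UnPresEvenBase
import Cfsg.Agent.Lib.Lie.UnPresOrbit

/-!
The relations in even dimension, from three coordinates on.
-/

set_option autoImplicit false
set_option linter.unusedSectionVars false

namespace Cfsg.Agent.Lie.UnPres

open Matrix Cfsg.Agent.Classical Cfsg.Agent.Classical.PSUAut
open Cfsg.Agent.Lie.SpnPres (sval_mul sval_one inv_mulVec mulVec_inv exists_col)

variable {F : Type*} [Field F] [Fintype F] {q : ℕ} (hF : Fintype.card F = q ^ 2) {k : ℕ}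

local notation "σ" => qFrob hF
local notation "SLm" => SpecialLinearGroup (Fin (k + 2)) F
local notation "e₀" => (Pi.single (0 : Fin (k + 2)) (1 : F) : Fin (k + 2) → F)
local notation "e₁" => (Pi.single (1 : Fin (k + 2)) (1 : F) : Fin (k + 2) → F)
local notation "e₂" => (Pi.single (2 : Fin (k + 2)) (1 : F) : Fin (k + 2) → F)

theorem exists_ind2 (a : Fin (k + 2) → F) (ha : a ≠ 0) : ∃ y, Ind2 F a y := by
  obtain ⟨g, rfl⟩ := exists_col (n := k) 0 ha
  refine ⟨g.1 *ᵥ e₁, ha, fun t ht => ?_⟩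
  have h := congrArg (fun v => (g⁻¹).1 *ᵥ v) ht
  simp only [Matrix.mulVec_smul, inv_mulVec] at h
  simpa using congrFun h 1

theorem exists_ind3 (hk : 1 ≤ k) (a b : Fin (k + 2) → F) (hab : Ind2 F a b) : ∃ u, Ind3 F a b u := by
  obtain ⟨g, d, hd, rfl, rfl, -⟩ := exists_pair_move hab
  refine ⟨g.1 *ᵥ e₂, hab, fun s t ht => ?_⟩
  rw [← Matrix.mulVec_smul, ← Matrix.mulVec_smul, ← Matrix.mulVec_add] at ht
  have h := congrArg (fun v => (g⁻¹).1 *ᵥ v) ht
  simp only [inv_mulVec] at h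
  obtain ⟨l, rfl⟩ : ∃ l, k = l + 1 := ⟨k - 1, by omega⟩
  have h2 := congrFun h 2
  have n0 : (2 : Fin (l + 1 + 2)) ≠ 0 := by simp [Fin.ext_iff, Nat.mod_eq_of_lt (show 2 < l + 1 + 2 by omega)]
  have n1 : (2 : Fin (l + 1 + 2)) ≠ 1 := by simp [Fin.ext_iff, Nat.mod_eq_of_lt (show 2 < l + 1 + 2 by omega)]
  simp [n0, n1] at h2

/-- The relation of three vectors. -/
def DP {V Q : Type*} [AddCommGroup V] [Group Q] (T : V → Q) (a b c : V) : Q × Q :=
  (T (a + b + c) * (T a * T b * T c), T (a + b) * T (a + c) * T (b + c))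

theorem DP_map {V P Q : Type*} [AddCommGroup V] [Group P] [Group Q] (f : P →* Q) (T : V → P) (a b c : V) :
    Prod.map f f (DP T a b c) = DP (fun v => f (T v)) a b c := by simp [DP]

/-- The relations in even dimension. -/
noncomputable def relEven (μ ω lam : F) (eps c₀ : Fˣ) (a b : SpecialLinearGroup (Fin (k + 1)) F)
    {P : Type*} [Group P] (jf : SpecialLinearGroup (Fin (k + 2)) F → P) (u w : P) : List (P × P) :=
  [(jf (extL a) * u, u * jf (extL a)), (jf (extL b) * u, u * jf (extL b)),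
    (jf (rowE (Pi.single 0 1)) * u, u * jf (rowE (Pi.single 0 1))),
    (jf (dg eps) * u * (jf (dg eps))⁻¹, u),
    (u * Tw jf u e₁, Tw jf u e₁ * u),
    (Bw (Tw jf u) (ω • e₀) e₁, Bw (Tw jf u) e₀ (qFrob hF ω • e₁)),
    DP (Tw jf u) e₀ e₁ e₂,
    (w * jf (extL a), jf (extL a) * w), (w * jf (extL b), jf (extL b) * w),
    (w * Tw jf u e₁ * w⁻¹, Tw jf u e₁),
    (w * Bw (Tw jf u) e₀ e₁ * w⁻¹,
      jf (colE fun i => qFrob hF μ * μ * (Pi.single 0 1 : Fin (k + 1) → F) i)),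
    (w * (jf (swp 1 0) * w * (jf (swp 1 0))⁻¹), jf (swp 1 0) * w * (jf (swp 1 0))⁻¹ * w),
    (w, Tw jf u (Pi.single 0 lam) * (w * Tw jf u (Pi.single 0 lam) * w⁻¹) * Tw jf u (Pi.single 0 lam)),
    (w * jf (dg c₀) * w, jf (dg c₀))]

include hF

theorem relEven_map {P Q : Type*} [Group P] [Group Q] (f : P →* Q) (μ ω lam : F) (eps c₀ : Fˣ)
    (a b : SpecialLinearGroup (Fin (k + 1)) F) (jf : SLm → P) (u w : P) :
    (relEven hF μ ω lam eps c₀ a b jf u w).map (Prod.map f f) =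
      relEven hF μ ω lam eps c₀ a b (fun A => f (jf A)) (f u) (f w) := by
  simp [relEven, Tw_map, Bw_map, DP_map]

theorem relEven_length {P : Type*} [Group P] (μ ω lam : F) (eps c₀ : Fˣ)
    (a b : SpecialLinearGroup (Fin (k + 1)) F) (jf : SLm → P) (u w : P) :
    (relEven hF μ ω lam eps c₀ a b jf u w).length = 14 := rfl

variable {μ ω lam : F} {eps c₀ : Fˣ}

theorem relEven_model (E : EPar hF μ ω lam eps c₀) (a b : SpecialLinearGroup (Fin (k + 1)) F) :
    ∀ p ∈ relEven hF μ ω lam eps c₀ a b (lev hF 0) (T₀ hF 0 μ e₀) (wH hF (EPar.wok hF E) 0), p.1 = p.2 := by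
  have hμ := E.μt
  set hW := EPar.wok hF E
  have hT : Tw (lev hF 0) (T₀ hF 0 μ e₀) = T₀ hF (m := k + 2) 0 μ := funext (Tw_skew hF hμ)
  have h10 : (0 : Fin (k + 2)) ≠ 1 := by simp
  have hε : (Pi.single 0 (eps : F) : Fin (k + 2) → F) = (eps : F) • e₀ := by
    rw [← Pi.single_smul, smul_eq_mul, mul_one]
  simp only [relEven, List.forall_mem_cons, List.not_mem_nil, false_imp_iff, implies_true, and_true, DP, hT]
  refine ⟨T₀_fix hF hμ (extL_zero a), T₀_fix hF hμ (extL_zero b), T₀_fix hF hμ (rowE_fix _), ?_,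
    T₀_comm hF hμ _ _, T₀_S hF hμ _ _ _, T₀_D hF hμ _ _ _, wH_extL hF hW a, wH_extL hF hW b,
    wH_T₀ hF hW hμ (Pi.single_eq_of_ne h10 _), ?_, (W1_model hF hW).eq, ?_, wDw_model hF hW rfl c₀ E.hc₀⟩
  · rw [T₀_conj hF hμ, dg_e0 hF, hε, T₀, vv_smul, EPar.eps_norm hF E, one_smul]
    rfl
  · rw [piT hF hμ (T := T₀ hF 0 μ) (fun _ => rfl),
      show e₁ = (Fin.cons 0 (Pi.single 0 1) : Fin (k + 2) → F) by rw [cons_single, Fin.succ_zero_eq_one]]
    exact wY_model hF hW hμ _
  · rw [T₀_corner hF E]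
    exact R1_model hF hW

section Derive

variable {hF} {G : Type*} [Group G] {π : G →* Hgrp hF (k + 2) 0}
  {j : SpecialLinearGroup (Fin (k + 2)) F →* G} {u w : G}
  {a b : SpecialLinearGroup (Fin (k + 1)) F}

/-- What the relations say about the orbit. -/
structure EDat (μ ω : F) (w : G) (π : G →* Hgrp hF (k + 2) 0) (j : SpecialLinearGroup (Fin (k + 2)) F →* G)
    (T : (Fin (k + 2) → F) → G) : Prop where
  orb : Orb hF π j μ T
  comm : ∀ v v', Ind2 F v v' → Commute (T v) (T v')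
  scal : ∀ v v', Ind2 F v v' → Bw T (ω • v) v' = Bw T v (qFrob hF ω • v')

theorem relEven_orbit (E : EPar hF μ ω lam eps c₀) (hk : 1 ≤ k)
    (hab : Subgroup.closure ({a, b} : Set (SpecialLinearGroup (Fin (k + 1)) F)) = ⊤)
    (hπj : ∀ A, π (j A) = lev hF 0 A) (hπu : π u = T₀ hF 0 μ (Pi.single 0 1))
    (h : ∀ p ∈ relEven hF μ ω lam eps c₀ a b j u w, p.1 = p.2) :
    ∃ T : (Fin (k + 2) → F) → G, T e₀ = u ∧ Tw j u = T ∧ EDat μ ω w π j T := by
  simp only [relEven, List.forall_mem_cons, List.not_mem_nil, false_imp_iff, implies_true, and_true, DP] at h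
  obtain ⟨h1, h2, h3, h4, h5, h6, -⟩ := h
  have hext := ext_of_pair j u hab h1 h2
  have hfix : ∀ M : SLm, M.1 *ᵥ e₀ = e₀ → Commute (j M) u := fun M hM =>
    commute_stab j u hext (row_of_one j u hk hext h3) hM
  obtain ⟨T, hT0, hTu, hT, hTj⟩ := exists_orbit j u hfix
  have hTw : Tw j u = T := funext (Tw_eq j u hT0 hT)
  rw [hTw] at h5 h6
  have hπT : ∀ v, π (T v) = T₀ hF 0 μ v := fun v => by
    rw [← hTw, Tw_map]
    simp only [hπj, hπu]
    exact Tw_skew hF E.μt v
  have bw : ∀ (g : SLm) x y, Bw T (g.1 *ᵥ x) (g.1 *ᵥ y) = j g * Bw T x y * (j g)⁻¹ := fun g x y => by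
    rw [Bw, Bw, ← Matrix.mulVec_add, hTj, hTj, hTj]
    group
  refine ⟨T, hTu, hTw, ⟨E.μt, E.μ0, hT0, hπT, fun A v => hTj A v, ?_⟩, ?_, ?_⟩
  · intro e he v
    have he1 : ∀ v, T ((eps : F) • v) = T v := fun v => by
      rcases eq_or_ne v 0 with rfl | hv
      · rw [smul_zero]
      obtain ⟨g, rfl⟩ := exists_col (n := k) 0 hv
      have e1 : T ((eps : F) • e₀) = T e₀ := by
        rw [← Pi.single_smul, smul_eq_mul, mul_one, ← dg_e0 hF, hTj, hTu]
        exact h4
      rw [← Matrix.mulVec_smul, hTj g, hTj g, e1]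
    obtain ⟨i, rfl⟩ := E.prim.circle_gen hF he
    rw [← E.heps]
    clear he
    induction i with
    | zero => rw [pow_zero, one_smul]
    | succ i ih => rw [pow_succ', ← smul_smul, he1, ih]
  · intro v v' hvv
    obtain ⟨g, d, -, rfl, rfl, hd⟩ := exists_pair_move hvv
    rw [hd hk, one_smul, hTj, hTj, hTu]
    exact (show Commute u (T e₁) from h5).map (MulAut.conj (j g)).toMonoidHom
  · intro v v' hvv
    obtain ⟨g, d, -, rfl, rfl, hd⟩ := exists_pair_move hvv
    rw [hd hk, one_smul, ← Matrix.mulVec_smul, ← Matrix.mulVec_smul, bw, bw, h6]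

theorem relEven_weyl (E : EPar hF μ ω lam eps c₀) (hk : 1 ≤ k)
    (hab : Subgroup.closure ({a, b} : Set (SpecialLinearGroup (Fin (k + 1)) F)) = ⊤)
    (hπj : ∀ A, π (j A) = lev hF 0 A) (hπw : π w = wH hF (EPar.wok hF E) 0)
    (hgen : j.range ⊔ Subgroup.closure {u, w} = ⊤)
    (h : ∀ p ∈ relEven hF μ ω lam eps c₀ a b j u w, p.1 = p.2) {T : (Fin (k + 2) → F) → G}
    (hTu : T e₀ = u) (hTw : Tw j u = T) (O : Orb hF π j μ T)
    (Z : ZData hF π j μ (Subgroup.closure (Set.range T))) : Function.Injective π := by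
  simp only [relEven, List.forall_mem_cons, List.not_mem_nil, false_imp_iff, implies_true, and_true, DP, hTw] at h
  obtain ⟨-, -, -, -, -, -, -, h8, h9, h10, h11, h12, h13, h14⟩ := h
  set D := udata_even O.μt O.μ0 hπj Z
  have hext : ∀ N, Commute w (j (extL N)) := fun N =>
    (ext_of_pair j w hab (show Commute w (j (extL a)) from h8).symm (show Commute w (j (extL b)) from h9).symm N).symm
  obtain ⟨l, rfl⟩ : ∃ l, k = l + 1 := ⟨k - 1, by omega⟩
  refine even_finish E hπj hπw hgen hTu O.tπ D hext (fun v hv => ?_) (fun r y hy e => ?_) h12 h13 h14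
  · rcases eq_or_ne v 0 with rfl | hv0
    · rw [O.t0, mul_one, mul_inv_cancel]
    have ht : Fin.tail v ≠ 0 := fun e => hv0 (by
      funext i
      cases i using Fin.cases with
      | zero => exact hv
      | succ i => exact congrFun e i)
    obtain ⟨N, hN⟩ := exists_col (n := l) 0 ht
    have ev : v = (extL N).1 *ᵥ (Pi.single 1 1 : Fin (l + 1 + 2) → F) := by
      rw [← Fin.succ_zero_eq_one, ← cons_single, extL_cons, hN, ← hv, Fin.cons_self_tail]
    rw [ev, O.tj]
    have hc := (hext N).eq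
    calc w * (j (extL N) * T (Pi.single 1 1) * (j (extL N))⁻¹) * w⁻¹
        = w * j (extL N) * T (Pi.single 1 1) * (w * j (extL N))⁻¹ := by group
      _ = j (extL N) * (w * T (Pi.single 1 1) * w⁻¹) * (j (extL N))⁻¹ := by rw [hc]; group
      _ = _ := by rw [h10]
  · rcases eq_or_ne r 0 with rfl | hr
    · have : y = 1 := by
        refine D.inj y hy (e.trans ?_)
        have hz : (Fin.cons 0 0 : Fin (l + 1 + 2) → F) = 0 := by ext i; cases i using Fin.cases <;> simp
        rw [hz, show hv hF (Pi.single 0 1 : Fin (l + 1 + 2) → F) 0 = 0 by ext a b; simp [hv, vecMulVec_apply],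
          smul_zero, uH_zero]
      rw [this, mul_one, mul_inv_cancel]
      exact one_mem _
    obtain ⟨N, rfl⟩ := exists_col (n := l) 0 hr
    have memU : ∀ v, T v ∈ Subgroup.closure (Set.range T) := fun v => Subgroup.subset_closure ⟨v, rfl⟩
    refine pair_move D hext N (y₁ := Bw T (Pi.single 0 1) (Pi.single 1 1)) (r₁ := Pi.single 0 1)
      (mul_mem (mul_mem (memU _) (inv_mem (memU _))) (inv_mem (memU _))) O.μt ?_ ?_ hy e
    · rw [Bw_map, piT hF O.μt O.tπ, cons_single, Fin.succ_zero_eq_one]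
    · rw [h11]
      exact mem_colJ.2 ⟨_, ⟨_, rfl⟩, rfl⟩

/-- Injectivity in even dimension from four coordinates on. -/
theorem relEven_injective (E : EPar hF μ ω lam eps c₀) (hk : 2 ≤ k)
    (hab : Subgroup.closure ({a, b} : Set (SpecialLinearGroup (Fin (k + 1)) F)) = ⊤)
    (hπj : ∀ A, π (j A) = lev hF 0 A) (hπu : π u = T₀ hF 0 μ (Pi.single 0 1))
    (hπw : π w = wH hF (EPar.wok hF E) 0) (hgen : j.range ⊔ Subgroup.closure {u, w} = ⊤)
    (h : ∀ p ∈ relEven hF μ ω lam eps c₀ a b j u w, p.1 = p.2) : Function.Injective π := by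
  obtain ⟨T, hTu, hTw, O⟩ := relEven_orbit E (by omega) hab hπj hπu h
  refine relEven_weyl E (by omega) hab hπj hπw hgen h hTu hTw O.orb ?_
  simp only [relEven, List.forall_mem_cons, List.not_mem_nil, false_imp_iff, implies_true, and_true, DP, hTw] at h
  obtain ⟨-, -, -, -, -, -, h7, -⟩ := h
  obtain ⟨l, rfl⟩ : ∃ l, k = l + 2 := ⟨k - 2, by omega⟩
  refine zdata_three O.orb E.prim O.comm O.scal (fun x y z hxyz => ?_) (fun a ha => ?_) (fun a b hab => ?_)
  · obtain ⟨g, d, -, rfl, rfl, rfl, hd⟩ := exists_triple_move (k := l + 1) hxyz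
    rw [hd (by omega), one_smul]
    simp only [← Matrix.mulVec_add, O.orb.tj]
    calc _ = j g * (T (Pi.single 0 1 + Pi.single 1 1 + Pi.single 2 1) *
            (T (Pi.single 0 1) * T (Pi.single 1 1) * T (Pi.single 2 1))) * (j g)⁻¹ := by group
      _ = _ := by rw [h7]; group
  · exact exists_ind2 a ha
  · exact exists_ind3 (by omega) a b hab

end Derive

end Cfsg.Agent.Lie.UnPres
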