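import Cfsg.Agent.Lib.Lie.UnPresEvenRels

/-!
The relations in even dimension for three coordinates: two seeds and the torus spread the relation of
three vectors over all determinants.
-/

set_option autoImplicit false
set_option linter.unusedSectionVars false

namespace Cfsg.Agent.Lie.UnPres

open Matrix Cfsg.Agent.Classical Cfsg.Agent.Classical.PSUAut
open Cfsg.Agent.Lie.SpnPres (sval_mul sval_one inv_mulVec mulVec_inv exists_col sval_mul_inv sval_inv_mul)

variable {F : Type*} [Field F] [Fintype F] {q : ℕ} (hF : Fintype.card F = q ^ 2) {k m ε : ℕ}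

local notation "σ" => qFrob hF
local notation "SL3" => SpecialLinearGroup (Fin (1 + 2)) F

include hF

/-- The norm of a unit. -/
def nu (c : Fˣ) : Fˣ :=
  Units.mk0 ((c : F) * σ (c : F)) (mul_ne_zero c.ne_zero ((map_ne_zero (qFrob hF)).2 c.ne_zero))

theorem nu_val (c : Fˣ) : (nu hF c : F) = (c : F) * σ (c : F) := rfl

/-- Conjugation by a diagonal matrix of the first coordinate. -/
def tcj [NeZero m] (l : Fˣ) : SpecialLinearGroup (Fin m) F →* SpecialLinearGroup (Fin m) F where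
  toFun A := ⟨tD hF (l : F) * A.1 * tD hF (l : F)⁻¹, by
    rw [det_mul, det_mul, tD_det, tD_det, A.2, mul_one, mul_inv_cancel₀ l.ne_zero]⟩
  map_one' := Subtype.ext (by
    show tD hF (l : F) * (1 : SpecialLinearGroup (Fin m) F).1 * tD hF (l : F)⁻¹ = 1
    rw [sval_one, Matrix.mul_one, tD_mul, mul_inv_cancel₀ l.ne_zero, tD_one])
  map_mul' A B := Subtype.ext (by
    show tD hF (l : F) * (A * B).1 * tD hF (l : F)⁻¹ =
      tD hF (l : F) * A.1 * tD hF (l : F)⁻¹ * (tD hF (l : F) * B.1 * tD hF (l : F)⁻¹)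
    simp only [Matrix.mul_assoc, sval_mul]
    rw [← Matrix.mul_assoc (tD hF (l : F)⁻¹) (tD hF (l : F)), tD_mul, inv_mul_cancel₀ l.ne_zero, tD_one,
      Matrix.one_mul])

theorem tcj_val [NeZero m] (l : Fˣ) (A : SpecialLinearGroup (Fin m) F) :
    (tcj hF l A).1 = tD hF (l : F) * A.1 * tD hF (l : F)⁻¹ := rfl

theorem tcj_mulVec [NeZero m] (l : Fˣ) (A : SpecialLinearGroup (Fin m) F) (v : Fin m → F) :
    (tD hF (l : F) : Matrix (Fin m) (Fin m) F) *ᵥ (A.1 *ᵥ v) = (tcj hF l A).1 *ᵥ (tD hF (l : F) *ᵥ v) := by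
  rw [tcj_val, Matrix.mulVec_mulVec, Matrix.mulVec_mulVec, Matrix.mul_assoc _ (tD hF (l : F)⁻¹), tD_mul,
    inv_mul_cancel₀ l.ne_zero, tD_one, Matrix.mul_one]

theorem tD_single [NeZero m] (l x : F) (i : Fin m) :
    (tD hF l : Matrix (Fin m) (Fin m) F) *ᵥ Pi.single i x = Pi.single i ((if i = 0 then l else 1) * x) := by
  rw [tD, Matrix.diagonal_mulVec_single, Function.update_apply]
  rfl

/-- The torus in the model acts on the Levi factor. -/
theorem hc_model_lev {μ z : F} (hW : WOK hF μ z ε) (c : Fˣ) (A : SpecialLinearGroup (Fin (k + 2)) F) :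
    lev hF ε (dg c : SpecialLinearGroup (Fin (k + 2)) F) * wH hF hW 0 *
      (lev hF ε (dg c : SpecialLinearGroup (Fin (k + 2)) F))⁻¹ * (wH hF hW 0)⁻¹ * lev hF ε A *
      (lev hF ε (dg c : SpecialLinearGroup (Fin (k + 2)) F) * wH hF hW 0 *
        (lev hF ε (dg c : SpecialLinearGroup (Fin (k + 2)) F))⁻¹ * (wH hF hW 0)⁻¹)⁻¹ =
      lev hF ε (tcj hF (nu hF c) A) := by
  rw [mul_inv_eq_iff_eq_mul]
  refine hext ?_
  have hl : (nu hF c : F) ≠ 0 := (nu hF c).ne_zero
  have hl' : σ (nu hF c : F) ≠ 0 := (map_ne_zero (qFrob hF)).2 hl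
  have e : ((tcj hF (nu hF c) A)⁻¹).1 = tD hF (nu hF c : F) * (A⁻¹).1 * tD hF (nu hF c : F)⁻¹ := by
    rw [← map_inv, tcj_val]
  have hd := dg_torus (k := k) hF hW c
  rw [hval_mul _ (lev hF ε A), hval_mul (lev hF ε (tcj hF (nu hF c) A)), hd, lev_val, lev_val]
  simp only [levM, tcj_val, e, ct_mul, ct_tD, map_inv₀, fromBlocks_multiply, Matrix.mul_zero, Matrix.zero_mul,
    add_zero, zero_add, one_smul, Matrix.one_mul, ← nu_val hF]
  congr 1
  congr 1
  · rw [Matrix.mul_assoc _ (tD hF (nu hF c : F)⁻¹), tD_mul, inv_mul_cancel₀ hl, tD_one, Matrix.mul_one]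
  · simp only [Matrix.mul_assoc]
    rw [tD_mul, mul_inv_cancel₀ hl', tD_one, Matrix.mul_one]

/-- The torus in the model acts on root elements. -/
theorem hc_model_T₀ {μ : F} (hW : WOK hF μ 1 0) (hμ : μ + σ μ = 0) (c : Fˣ) (v : Fin (k + 2) → F) :
    lev hF 0 (dg c : SpecialLinearGroup (Fin (k + 2)) F) * wH hF hW 0 *
      (lev hF 0 (dg c : SpecialLinearGroup (Fin (k + 2)) F))⁻¹ * (wH hF hW 0)⁻¹ * T₀ hF 0 μ v *
      (lev hF 0 (dg c : SpecialLinearGroup (Fin (k + 2)) F) * wH hF hW 0 *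
        (lev hF 0 (dg c : SpecialLinearGroup (Fin (k + 2)) F))⁻¹ * (wH hF hW 0)⁻¹)⁻¹ =
      T₀ hF 0 μ (tD hF (nu hF c : F) *ᵥ v) := by
  rw [mul_inv_eq_iff_eq_mul]
  refine hext ?_
  have hl : (nu hF c : F) ≠ 0 := (nu hF c).ne_zero
  have hl' : σ (nu hF c : F) ≠ 0 := (map_ne_zero (qFrob hF)).2 hl
  have hd := dg_torus (k := k) hF hW c
  rw [hval_mul _ (T₀ hF 0 μ v), hval_mul (T₀ hF 0 μ (tD hF (nu hF c : F) *ᵥ v)), hd, T₀, T₀, uH_val hF (skew_ok hF hμ (vv_herm hF v)),
    uH_val hF (skew_ok hF hμ (vv_herm hF _))]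
  simp only [uMat, fromBlocks_multiply, ct_zero, neg_zero, fromRows_zero, fromCols_zero, Matrix.mul_zero,
    Matrix.zero_mul, add_zero, zero_add, one_smul, Matrix.one_mul, Matrix.mul_one, vv_conj, ct_tD,
    ← nu_val hF, Matrix.mul_smul, Matrix.smul_mul, smul_zero, zero_add, add_zero]
  congr 1
  congr 1
  rw [Matrix.mul_assoc _ (tD hF (σ (nu hF c : F))), tD_mul, mul_inv_cancel₀ hl', tD_one, Matrix.mul_one]

/-- The relations in even dimension for three coordinates. -/
noncomputable def relEven3 (μ ω lam : F) (eps c₀ om : Fˣ) (a b : SpecialLinearGroup (Fin (1 + 1)) F)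
    (a' b' : SpecialLinearGroup (Fin (1 + 2)) F) {P : Type*} [Group P]
    (jf : SpecialLinearGroup (Fin (1 + 2)) F → P) (u w : P) : List (P × P) :=
  relEven hF μ ω lam eps c₀ a b jf u w ++
    [DP (Tw jf u) (Pi.single 0 1) (Pi.single 1 1) (ω • Pi.single 2 1),
      DP (Tw jf u) (Pi.single 0 1) (Pi.single 1 1) ((1 + ω) • Pi.single 2 1),
      (jf (dg om) * w * (jf (dg om))⁻¹ * w⁻¹ * jf a' * (jf (dg om) * w * (jf (dg om))⁻¹ * w⁻¹)⁻¹,
        jf (tcj hF (nu hF om) a')),
      (jf (dg om) * w * (jf (dg om))⁻¹ * w⁻¹ * jf b' * (jf (dg om) * w * (jf (dg om))⁻¹ * w⁻¹)⁻¹,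
        jf (tcj hF (nu hF om) b')),
      (jf (dg om) * w * (jf (dg om))⁻¹ * w⁻¹ * u * (jf (dg om) * w * (jf (dg om))⁻¹ * w⁻¹)⁻¹,
        Tw jf u (tD hF (nu hF om : F) *ᵥ Pi.single 0 1))]

variable {μ ω lam : F} {eps c₀ om : Fˣ}

theorem relEven3_map {P Q : Type*} [Group P] [Group Q] (f : P →* Q) (a b : SpecialLinearGroup (Fin (1 + 1)) F)
    (a' b' : SL3) (jf : SL3 → P) (u w : P) :
    (relEven3 hF μ ω lam eps c₀ om a b a' b' jf u w).map (Prod.map f f) =
      relEven3 hF μ ω lam eps c₀ om a b a' b' (fun A => f (jf A)) (f u) (f w) := by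
  rw [relEven3, List.map_append, relEven_map]
  simp [relEven3, Tw_map, DP_map]

theorem relEven3_length {P : Type*} [Group P] (a b : SpecialLinearGroup (Fin (1 + 1)) F) (a' b' : SL3)
    (jf : SL3 → P) (u w : P) : (relEven3 hF μ ω lam eps c₀ om a b a' b' jf u w).length = 19 := rfl

theorem relEven3_model (E : EPar hF μ ω lam eps c₀) (a b : SpecialLinearGroup (Fin (1 + 1)) F) (a' b' : SL3) :
    ∀ p ∈ relEven3 hF μ ω lam eps c₀ om a b a' b' (lev hF 0) (T₀ hF 0 μ (Pi.single 0 1))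
      (wH hF (EPar.wok hF E) 0), p.1 = p.2 := by
  refine List.forall_mem_append.2 ⟨relEven_model hF E a b, ?_⟩
  have hμ := E.μt
  have hT : Tw (lev hF 0) (T₀ hF 0 μ (Pi.single 0 1)) = T₀ hF (m := 1 + 2) 0 μ := funext (Tw_skew hF hμ)
  simp only [List.forall_mem_cons, List.not_mem_nil, false_imp_iff, implies_true, and_true, DP, hT]
  exact ⟨T₀_D hF hμ _ _ _, T₀_D hF hμ _ _ _, hc_model_lev hF (EPar.wok hF E) om a',
    hc_model_lev hF (EPar.wok hF E) om b', hc_model_T₀ hF (EPar.wok hF E) hμ om _⟩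

omit hF in
/-- The determinant of three vectors. -/
def det3 (a b c : Fin (1 + 2) → F) : F := (Matrix.of ![a, b, c] : Matrix (Fin (1 + 2)) (Fin (1 + 2)) F).det

omit hF in
theorem det3_eq (a b c : Fin (1 + 2) → F) : det3 a b c =
    a 0 * b 1 * c 2 - a 0 * b 2 * c 1 - a 1 * b 0 * c 2 + a 1 * b 2 * c 0 + a 2 * b 0 * c 1 - a 2 * b 1 * c 0 := by
  rw [det3, Matrix.det_fin_three]
  simp

omit hF in
theorem det3_mul (g : SL3) (a b c : Fin (1 + 2) → F) : det3 (g.1 *ᵥ a) (g.1 *ᵥ b) (g.1 *ᵥ c) = det3 a b c := by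
  have e : (Matrix.of ![g.1 *ᵥ a, g.1 *ᵥ b, g.1 *ᵥ c] : Matrix (Fin (1 + 2)) (Fin (1 + 2)) F) =
      Matrix.of ![a, b, c] * g.1ᵀ := by
    ext i l
    fin_cases i <;> simp [Matrix.mul_apply, Matrix.mulVec, dotProduct, mul_comm]
  rw [det3, e, det_mul, det_transpose, g.2, mul_one]
  rfl

omit hF in
theorem ind3_of_det {a b c : Fin (1 + 2) → F} (h : det3 a b c ≠ 0) : Ind3 F a b c := by
  refine ⟨⟨fun e => h ?_, fun t e => h ?_⟩, fun s t e => h ?_⟩ <;>
    rw [det3_eq, e] <;> simp <;> ring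

section Derive

variable {hF} {G : Type*} [Group G] {π : G →* Hgrp hF (1 + 2) 0}
  {j : SpecialLinearGroup (Fin (1 + 2)) F →* G} {u w : G}
  {a b : SpecialLinearGroup (Fin (1 + 1)) F} {a' b' : SpecialLinearGroup (Fin (1 + 2)) F}

omit hF in
theorem DP_move {V : Type*} [AddCommGroup V] (T : V → G) (L : V → V) (hL : ∀ x y, L (x + y) = L x + L y) (g : G)
    (hT : ∀ v, g * T v * g⁻¹ = T (L v)) {x y z : V} (h : (DP T x y z).1 = (DP T x y z).2) :
    (DP T (L x) (L y) (L z)).1 = (DP T (L x) (L y) (L z)).2 := by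
  simp only [DP] at h ⊢
  simp only [← hL, ← hT]
  calc _ = g * (T (x + y + z) * (T x * T y * T z)) * g⁻¹ := by group
    _ = _ := by rw [h]; group

/-- Injectivity in even dimension for three coordinates. -/
theorem relEven3_injective (E : EPar hF μ ω lam eps c₀) (hom : (om : F) = ω)
    (hab : Subgroup.closure ({a, b} : Set (SpecialLinearGroup (Fin (1 + 1)) F)) = ⊤)
    (hab' : Subgroup.closure ({a', b'} : Set (SpecialLinearGroup (Fin (1 + 2)) F)) = ⊤)
    (hπj : ∀ A, π (j A) = lev hF 0 A) (hπu : π u = T₀ hF 0 μ (Pi.single 0 1))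
    (hπw : π w = wH hF (EPar.wok hF E) 0) (hgen : j.range ⊔ Subgroup.closure {u, w} = ⊤)
    (h : ∀ p ∈ relEven3 hF μ ω lam eps c₀ om a b a' b' j u w, p.1 = p.2) : Function.Injective π := by
  have hrel : ∀ p ∈ relEven hF μ ω lam eps c₀ a b j u w, p.1 = p.2 := fun p hp =>
    h p (List.mem_append_left _ hp)
  obtain ⟨T, hTu, hTw, O⟩ := relEven_orbit E le_rfl hab hπj hπu hrel
  refine relEven_weyl E le_rfl hab hπj hπw hgen hrel hTu hTw O.orb ?_
  simp only [relEven3, relEven, List.forall_mem_append, List.forall_mem_cons, List.not_mem_nil, false_imp_iff,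
    implies_true, and_true, hTw] at h
  obtain ⟨⟨-, -, -, -, -, -, h7, -⟩, hg, h1g, hHa, hHb, hHu⟩ := h
  set H := j (dg om) * w * (j (dg om))⁻¹ * w⁻¹ with hH
  set l := nu hF om with hl
  have hHj : ∀ A, H * j A * H⁻¹ = j (tcj hF l A) :=
    conj_of_pair j (tcj hF l) H hab' (by rintro x (rfl | rfl); exacts [hHa, hHb])
  have hHT : ∀ v, H * T v * H⁻¹ = T (tD hF (l : F) *ᵥ v) :=
    orbit_map j O.orb.t0 O.orb.tj (tcj hF l) (fun v => tD hF (l : F) *ᵥ v) (Matrix.mulVec_zero _)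
      (fun A v => tcj_mulVec hF l A v) H hHj (by rw [hTu]; exact hHu)
  have mv : ∀ (g : SL3) {x y z : Fin (1 + 2) → F}, (DP T x y z).1 = (DP T x y z).2 →
      (DP T (g.1 *ᵥ x) (g.1 *ᵥ y) (g.1 *ᵥ z)).1 = (DP T (g.1 *ᵥ x) (g.1 *ᵥ y) (g.1 *ᵥ z)).2 :=
    fun g {x y z} hh => DP_move T (fun v : Fin (1 + 2) → F => g.1 *ᵥ v) (Matrix.mulVec_add g.1) (j g) (fun v => (O.orb.tj g v).symm) hh
  let S : F → Prop := fun d =>
    (DP T (Pi.single 0 1) (Pi.single 1 1) (d • Pi.single 2 1)).1 = (DP T (Pi.single 0 1) (Pi.single 1 1) (d • Pi.single 2 1)).2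
  have s1 : S 1 := by show _ = _; rw [one_smul]; exact h7
  have det_std : ∀ d : F, det3 (Pi.single 0 1 : Fin (1 + 2) → F) (Pi.single 1 1) (d • Pi.single 2 1) = d := fun d => by
    rw [det3_eq]; simp [Fin.ext_iff]
  -- all triples with an admissible determinant
  have all : ∀ x y z, det3 x y z ≠ 0 → S (det3 x y z) → (DP T x y z).1 = (DP T x y z).2 := by
    intro x y z hd hS
    obtain ⟨g, d, -, rfl, rfl, rfl, -⟩ := exists_triple_move (k := 0) (ind3_of_det hd)
    rw [det3_mul, det_std] at hS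
    exact mv g hS
  have hspan : ∀ v, T v ∈ Subgroup.closure (T '' {x | Ind2 F v x}) := by
    intro v
    rcases eq_or_ne v 0 with rfl | hv
    · rw [O.orb.t0]; exact one_mem _
    obtain ⟨g, rfl⟩ := exists_col (n := 1) 0 hv
    set x := g.1 *ᵥ (Pi.single 1 1 : Fin (1 + 2) → F)
    set y := g.1 *ᵥ (Pi.single 2 1 : Fin (1 + 2) → F)
    set z := g.1 *ᵥ (Pi.single 0 1 - Pi.single 1 1 - Pi.single 2 1 : Fin (1 + 2) → F)
    have e := all x y z (by rw [det3_mul, det3_eq]; simp [Fin.ext_iff])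
      (by rw [det3_mul, det3_eq]; simpa [Fin.ext_iff] using s1)
    have mem : ∀ p : Fin (1 + 2) → F, (p 1 ≠ 0 ∨ p 2 ≠ 0) →
        T (g.1 *ᵥ p) ∈ Subgroup.closure (T '' {x | Ind2 F (g.1 *ᵥ Pi.single 0 1) x}) := by
      intro p hp
      refine Subgroup.subset_closure ⟨_, ⟨hv, fun t ht => ?_⟩, rfl⟩
      rw [← Matrix.mulVec_smul] at ht
      have h' := congrArg (fun v => (g⁻¹).1 *ᵥ v) ht
      simp only [inv_mulVec] at h'
      rcases hp with hp | hp <;> exact hp (by rw [h']; simp [Fin.ext_iff])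
    simp only [DP] at e
    rw [show x + y + z = g.1 *ᵥ Pi.single 0 1 by simp only [x, y, z, ← Matrix.mulVec_add]; congr 1; abel,
      ← eq_mul_inv_iff_mul_eq] at e
    simp only [x, y, z, ← Matrix.mulVec_add] at e
    rw [e]
    refine mul_mem (mul_mem (mul_mem (mem _ ?_) (mem _ ?_)) (mem _ ?_))
      (inv_mem (mul_mem (mul_mem (mem _ ?_) (mem _ ?_)) (mem _ ?_))) <;> simp [Fin.ext_iff]
  have hcomm := comm_all O.orb O.comm hspan
  letI : CommGroup ↥(Subgroup.closure (Set.range T)) := closCG T hcomm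
  have hext : ∀ {x y : Additive ↥(Subgroup.closure (Set.range T))},
      (x.toMul : G) = (y.toMul : G) → x = y := fun h => Additive.toMul.injective (Subtype.ext h)
  have hadd : ∀ x y : Additive ↥(Subgroup.closure (Set.range T)),
      ((x + y).toMul : G) = (x.toMul : G) * (y.toMul : G) := fun _ _ => rfl
  have dpiff : ∀ x y z, dif3 (addT T) x y z = 0 ↔ (DP T x y z).1 = (DP T x y z).2 := by
    intro x y z
    have e : dif3 (addT T) x y z = addT T (x + y + z) + (addT T x + addT T y + addT T z) -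
        (addT T (x + y) + addT T (x + z) + addT T (y + z)) := by
      simp only [dif3, dif2, add_assoc]; abel
    rw [e, sub_eq_zero]
    refine ⟨fun h => ?_, fun h => hext (by simp only [hadd]; exact h)⟩
    have h' := congrArg (fun p : Additive ↥(Subgroup.closure (Set.range T)) => (p.toMul : G)) h
    simp only [hadd] at h'
    exact h'
  -- closure of the determinants
  have hreal : ∀ s x : F, σ s = s → s ≠ 0 → S x → S (s * x) := by
    intro s x hs hs0 hx
    obtain ⟨i, rfl⟩ := E.prim.norm_gen hF hs hs0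
    clear hs hs0
    induction i with
    | zero => rwa [pow_zero, one_mul]
    | succ i ih =>
      set d := (ω * σ ω) ^ i * x
      have e := DP_move T (fun v => tD hF (l : F) *ᵥ v) (Matrix.mulVec_add _) H hHT ih
      simp only [tD_single, ← Pi.single_smul, smul_eq_mul, mul_one, if_pos, Fin.ext_iff, Fin.val_zero,
        Fin.val_one] at e
      have hl0 : (l : F) ≠ 0 := l.ne_zero
      let g : SL3 := ⟨Matrix.diagonal ![(l : F)⁻¹, 1, (l : F)], by
        rw [det_diagonal, Fin.prod_univ_three]; simp⟩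
      have e' := mv g e
      simp only [g, Matrix.diagonal_mulVec_single] at e'
      rw [pow_succ', mul_assoc]
      show S (ω * σ ω * d)
      rw [show ω * σ ω = (l : F) by rw [hl, nu_val, hom]]
      show _ = _
      simpa [← Pi.single_smul, hl0] using e'
  have rule : ∀ x y, S x → S y → x ≠ 0 → y ≠ 0 → x + y ≠ 0 → S (x + y) := by
    intro x y hx hy x0 y0 hxy
    have w0 : ω ≠ 0 := E.prim.ne
    have w1 : 1 + ω ≠ 0 := fun h => E.prim.not_real hF (by
      rw [show ω = -1 by linear_combination h, map_neg, map_one])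
    set p : Fin (1 + 2) → F := Pi.single 0 1
    set r : Fin (1 + 2) → F := Pi.single 1 1
    set c : Fin (1 + 2) → F := ![0, 0, x]
    set c' : Fin (1 + 2) → F := ![ω / x, -(1 / x), y]
    have d1 : det3 p r c = x := by rw [det3_eq]; simp [p, r, c, Fin.ext_iff]
    have d2 : det3 p r c' = y := by rw [det3_eq]; simp [p, r, c', Fin.ext_iff]
    have d3 : det3 p c c' = 1 := by rw [det3_eq]; simp [p, c, c', Fin.ext_iff, x0]
    have d4 : det3 r c c' = ω := by rw [det3_eq]; simp [r, c, c', Fin.ext_iff, x0]; field_simp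
    have d5 : det3 (p + r) c c' = 1 + ω := by
      rw [det3_eq]; simp [p, r, c, c', Fin.ext_iff, x0]; field_simp
    have d6 : det3 p r (c + c') = x + y := by rw [det3_eq]; simp [p, r, c, c', Fin.ext_iff]
    have h6 : dif3 (addT T) p r (c + c') = 0 := by
      rw [dif3_add, (dpiff _ _ _).2 (all p r c (by rwa [d1]) (by rwa [d1])),
        (dpiff _ _ _).2 (all p r c' (by rwa [d2]) (by rwa [d2])),
        (dpiff _ _ _).2 (all (p + r) c c' (by rwa [d5]) (by rw [d5]; exact h1g)),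
        (dpiff _ _ _).2 (all p c c' (by rw [d3]; exact one_ne_zero) (by rwa [d3])),
        (dpiff _ _ _).2 (all r c c' (by rwa [d4]) (by rw [d4]; exact hg))]
      abel
    obtain ⟨g, d, -, e1, e2, e3, -⟩ := exists_triple_move (k := 0) (ind3_of_det (a := p) (b := r) (c := c + c')
      (by rwa [d6]))
    have hd : d = x + y := by rw [← d6, ← e1, ← e2, ← e3, det3_mul, det_std]
    have e := mv g⁻¹ ((dpiff _ _ _).1 h6)
    rw [← e1, ← e2, ← e3, inv_mulVec, inv_mulVec, inv_mulVec, hd] at e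
    exact e
  have hS : ∀ {x : F}, x ≠ 0 → S x := fun {x} hx => by
    refine delta_of_translate hF (S := fun d => d = 0 ∨ S d) ?_ (E.prim.not_real hF) ?_ ?_ hx |>.resolve_left hx
    · intro s x hs hs0 hx
      exact hx.imp (fun e => by rw [e, mul_zero]) (hreal s x hs hs0)
    · intro y hy
      refine Or.inl ((eq_or_ne (y + 1) 0).elim Or.inl fun h => Or.inr ?_)
      rcases eq_or_ne y 0 with rfl | y0
      · rwa [zero_add]
      · exact rule y 1 ((hy.elim id Or.inl).resolve_left y0) s1 y0 one_ne_zero h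
    · intro y hy
      refine Or.inl ((eq_or_ne (y + ω) 0).elim Or.inl fun h => Or.inr ?_)
      rcases eq_or_ne y 0 with rfl | y0
      · rw [zero_add]; exact hg
      · exact rule y ω ((hy.elim id Or.inl).resolve_left y0) hg y0 E.prim.ne h
  refine zdata_three O.orb E.prim O.comm O.scal (fun x y z hxyz => ?_) exists_ind2 (exists_ind3 le_rfl)
  obtain ⟨g, d, hd, rfl, rfl, rfl, -⟩ := exists_triple_move (k := 0) hxyz
  exact mv g (hS hd)

end Derive

end Cfsg.Agent.Lie.UnPres
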