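import Cfsg.Agent.Lib.Lie.UnPresCell
import Cfsg.Agent.Lib.Lie.SU3PresFrame

/-!
`SU₃` inside the frame group: the first hyperbolic pair with the middle vector.
-/

set_option autoImplicit false
set_option linter.unusedSectionVars false

namespace Cfsg.Agent.Lie.UnPres

open Matrix Cfsg.Agent.Classical Cfsg.Agent.Classical.PSUAut Cfsg.Agent.Fus.UnitN Cfsg.Agent.Lie.SUGen
open Cfsg.Agent.Lie.SpnPres (incM extM extSL extSL_val incM_tmul extM_mulVec extM_mulVec_out
  incM_mulVec_single)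

variable {F : Type*} [Field F] [Fintype F] {q : ℕ} (hF : Fintype.card F = q ^ 2) (k : ℕ)

local notation "σ" => qFrob hF

/-- The three coordinates of the first pair and the middle. -/
def f3 : Fin 3 ↪ Ix (k + 2) 1 :=
  ⟨![Sum.inl (Sum.inl 0), Sum.inr 0, Sum.inl (Sum.inr 0)], fun a b h => by
    fin_cases a <;> fin_cases b <;> simp_all⟩

theorem f3_0 : f3 k 0 = Sum.inl (Sum.inl 0) := rfl
theorem f3_1 : f3 k 1 = Sum.inr 0 := rfl
theorem f3_2 : f3 k 2 = Sum.inl (Sum.inr 0) := rfl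

/-- The antidiagonal form. -/
def G3 (_hF : Fintype.card F = q ^ 2) : Matrix (Fin 3) (Fin 3) F := !![0, 0, 1; 0, 1, 0; 1, 0, 0]

include hF

theorem Gm_inc : Gm hF (k + 2) 1 * incM F (f3 k) = incM F (f3 k) * G3 hF := by
  ext i b
  rw [Matrix.mul_apply, Matrix.mul_apply, Fin.sum_univ_three]
  rcases i with (i | i) | i <;> fin_cases b <;>
    simp [Gm, G3, incM, f3_0, f3_1, f3_2, Fintype.sum_sum_type, Matrix.one_apply]

theorem inc_Gm : (incM F (f3 k))ᵀ * Gm hF (k + 2) 1 = G3 hF * (incM F (f3 k))ᵀ := by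
  have h := congrArg Matrix.transpose (Gm_inc hF k)
  rw [Matrix.transpose_mul, Matrix.transpose_mul,
    show (Gm hF (k + 2) 1)ᵀ = Gm hF (k + 2) 1 by simp [Gm, fromBlocks_transpose],
    show (G3 hF)ᵀ = G3 hF by ext a b; fin_cases a <;> fin_cases b <;> simp [G3]] at h
  exact h

theorem ext3_pres {A : Matrix (Fin 3) (Fin 3) F} (hA : ct hF A * G3 hF * A = G3 hF) :
    ct hF (extM (f3 k) A) * Gm hF (k + 2) 1 * extM (f3 k) A = Gm hF (k + 2) 1 := by
  set P : Matrix (Ix (k + 2) 1) (Fin 3) F := incM F (f3 k) with hP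
  have hct : ct hF P = Pᵀ := by ext a b; simp [hP, ct_apply, incM, apply_ite (qFrob hF)]
  have hctt : ct hF Pᵀ = P := by ext a b; simp [hP, ct_apply, incM, apply_ite (qFrob hF)]
  have e : ct hF (extM (f3 k) A) = 1 + P * (ct hF A - 1) * Pᵀ := by
    rw [extM, ← hP, ct_add, ct_one, ct_mul, ct_mul, hct, hctt, Matrix.mul_assoc]
    congr 3
    rw [sub_eq_add_neg, ct_add, ct_neg, ct_one, sub_eq_add_neg]
  have hPP : Pᵀ * P = 1 := incM_tmul _
  have hGP : ∀ X : Matrix (Fin 3) (Ix (k + 2) 1) F, Gm hF (k + 2) 1 * (P * X) = P * (G3 hF * X) := fun X => by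
    rw [← Matrix.mul_assoc, hP, Gm_inc, Matrix.mul_assoc]
  have hPP' : ∀ X : Matrix (Fin 3) (Ix (k + 2) 1) F, Pᵀ * (P * X) = X := fun X => by
    rw [← Matrix.mul_assoc, hPP, Matrix.one_mul]
  rw [e, extM, ← hP]
  simp only [Matrix.mul_assoc, Matrix.add_mul, Matrix.one_mul, Matrix.mul_add, Matrix.mul_one, hGP, hPP']
  rw [show Pᵀ * Gm hF (k + 2) 1 = G3 hF * Pᵀ by rw [hP, inc_Gm]]
  have key : (ct hF A - 1) * (G3 hF * Pᵀ) + (G3 hF * ((A - 1) * Pᵀ) +
      (ct hF A - 1) * (G3 hF * ((A - 1) * Pᵀ))) = 0 := by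
    have h0 : (ct hF A - 1) * G3 hF + (G3 hF * (A - 1) + (ct hF A - 1) * G3 hF * (A - 1)) = 0 := by
      simp only [Matrix.sub_mul, Matrix.mul_sub, Matrix.one_mul, Matrix.mul_one]
      linear_combination (norm := abel) hA
    have := congrArg (fun X => X * Pᵀ) h0
    simpa only [Matrix.add_mul, Matrix.mul_assoc, Matrix.zero_mul] using this
  have := congrArg (fun X => P * X) key
  simp only [Matrix.mul_add, Matrix.mul_zero] at this
  linear_combination (norm := abel) this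

variable {e n f : Fin 3 → F} (B : Frame3 q e n f)

/-- The coordinate matrix of an element of `SU₃`. -/
noncomputable def cmat (B : Frame3 q e n f) (g : SU 3 F q) : Matrix (Fin 3) (Fin 3) F :=
  (SU3Pres.Pm B)⁻¹ * suVal g * SU3Pres.Pm B

theorem cmat_mulVec (g : SU 3 F q) (v : Fin 3 → F) :
    co e n f ((cmat B g *ᵥ v) 0) ((cmat B g *ᵥ v) 1) ((cmat B g *ᵥ v) 2) =
      suVal g *ᵥ co e n f (v 0) (v 1) (v 2) := by
  rw [← SU3Pres.Pm_mulVec hF B, ← SU3Pres.Pm_mulVec hF B, cmat, Matrix.mulVec_mulVec, Matrix.mulVec_mulVec,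
    ← Matrix.mul_assoc, ← Matrix.mul_assoc, Matrix.mul_nonsing_inv _ (SU3Pres.Pm_det hF B), Matrix.one_mul]

theorem cmat_eq (g : SU 3 F q) {A : Matrix (Fin 3) (Fin 3) F}
    (h : ∀ x y z, suVal g *ᵥ co e n f x y z =
      co e n f ((A *ᵥ ![x, y, z]) 0) ((A *ᵥ ![x, y, z]) 1) ((A *ᵥ ![x, y, z]) 2)) : cmat B g = A := by
  refine Matrix.ext_iff_mulVec.2 fun v => ?_
  obtain ⟨x, y, z, rfl⟩ : ∃ x y z, v = ![x, y, z] :=
    ⟨v 0, v 1, v 2, by funext i; fin_cases i <;> rfl⟩
  have e1 := cmat_mulVec hF B g ![x, y, z]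
  rw [show (![x, y, z] : Fin 3 → F) 0 = x from rfl, show (![x, y, z] : Fin 3 → F) 1 = y from rfl,
    show (![x, y, z] : Fin 3 → F) 2 = z from rfl, h x y z] at e1
  generalize cmat B g *ᵥ ![x, y, z] = P at e1 ⊢
  generalize A *ᵥ ![x, y, z] = Q at e1 ⊢
  obtain ⟨h0, h1, h2⟩ := SU3Pres.co_inj hF B e1
  funext i
  fin_cases i
  exacts [h0, h1, h2]

theorem cmat_pres (g : SU 3 F q) : ct hF (cmat B g) * G3 hF * cmat B g = G3 hF := by
  ext a b
  have key := su_form g (co e n f ((Pi.single b 1 : Fin 3 → F) 0) ((Pi.single b 1 : Fin 3 → F) 1) ((Pi.single b 1 : Fin 3 → F) 2))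
    (co e n f ((Pi.single a 1 : Fin 3 → F) 0) ((Pi.single a 1 : Fin 3 → F) 1) ((Pi.single a 1 : Fin 3 → F) 2))
  rw [← cmat_mulVec hF B, ← cmat_mulVec hF B, B.h_co hF, B.h_co hF] at key
  fin_cases a <;> fin_cases b <;>
    simp [Matrix.mul_apply, Fin.sum_univ_three, G3, ct_apply, Pi.single_apply] at key ⊢ <;>
    linear_combination key

/-- `SU₃` on the first pair and the middle. -/
noncomputable def iota : SU 3 F q →* Hgrp hF (k + 2) 1 where
  toFun g := hmk hF (extM (f3 k) (cmat B g))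
    (by
      rw [SpnPres.extM_det, cmat,
        Matrix.det_conj' ((Matrix.isUnit_iff_isUnit_det _).2 (SU3Pres.Pm_det hF B)) (suVal g)]
      exact g.1.2)
    (ext3_pres hF k (cmat_pres hF B g))
  map_one' := hext (by
    show extM (f3 k) (cmat B (1 : SU 3 F q)) = 1
    rw [cmat, suVal_one', Matrix.mul_one, Matrix.nonsing_inv_mul _ (SU3Pres.Pm_det hF B), SpnPres.extM_one])
  map_mul' a b := hext (by
    show extM (f3 k) (cmat B (a * b)) = extM (f3 k) (cmat B a) * extM (f3 k) (cmat B b)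
    rw [← SpnPres.extM_mul]
    congr 1
    simp only [cmat, suVal_mul, Matrix.mul_assoc]
    rw [← Matrix.mul_assoc (SU3Pres.Pm B) (SU3Pres.Pm B)⁻¹, Matrix.mul_nonsing_inv _ (SU3Pres.Pm_det hF B),
      Matrix.one_mul])

theorem iota_injective : Function.Injective (iota hF k B) := by
  intro a b h
  have h' : extM (f3 k) (cmat B a) = extM (f3 k) (cmat B b) := congrArg hval h
  refine SU3Pres.ext_co hF B fun x y z => ?_
  have hc : cmat B a = cmat B b := by
    have := congrArg (fun M => (incM F (f3 k))ᵀ * (M - 1) * incM F (f3 k)) h'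
    simp only [extM, add_sub_cancel_left, Matrix.mul_assoc, incM_tmul, Matrix.mul_one] at this
    simp only [← Matrix.mul_assoc, incM_tmul, Matrix.one_mul] at this
    exact sub_left_inj.1 this
  have e1 := cmat_mulVec hF B a ![x, y, z]
  rw [hc, cmat_mulVec hF B b ![x, y, z]] at e1
  simpa using e1.symm

theorem iota_val (g : SU 3 F q) : hval (iota hF k B g) = extM (f3 k) (cmat B g) := rfl

theorem extM_apply_f3 (A : Matrix (Fin 3) (Fin 3) F) (i l : Ix (k + 2) 1) :
    extM (f3 k) A i l = (1 : Matrix (Ix (k + 2) 1) (Ix (k + 2) 1) F) i l +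
      ∑ a : Fin 3, ∑ b : Fin 3, (if i = f3 k a ∧ l = f3 k b then (A - 1) a b else 0) := by
  rw [extM, Matrix.add_apply, Matrix.mul_apply]
  congr 1
  simp only [Matrix.mul_apply, incM, Matrix.of_apply, Matrix.transpose_apply, Finset.sum_mul]
  rw [Finset.sum_comm]
  refine Finset.sum_congr rfl fun a _ => Finset.sum_congr rfl fun b _ => ?_
  by_cases h1 : i = f3 k a <;> by_cases h2 : l = f3 k b <;> simp [h1, h2]

theorem iota_Um {α b : F} (h : SU3Pres.OK hF α b) :
    UOK hF (Matrix.single (0 : Fin (k + 2)) (0 : Fin 1) (σ α)) (Matrix.single 0 0 b) ∧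
      iota hF k B (SU3Pres.Um hF B α b) =
        uH hF (Matrix.single (0 : Fin (k + 2)) (0 : Fin 1) (σ α)) (Matrix.single 0 0 b) := by
  have hok : UOK hF (Matrix.single (0 : Fin (k + 2)) (0 : Fin 1) (σ α)) (Matrix.single 0 0 b) := by
    rw [UOK]
    ext x y
    rcases eq_or_ne x 0 with rfl | hx <;> rcases eq_or_ne y 0 with rfl | hy <;>
      simp [ct_apply, Matrix.mul_apply, qFrob_qFrob hF, *, Ne.symm]
    unfold SU3Pres.OK at h
    linear_combination h
  refine ⟨hok, hext ?_⟩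
  have hA : cmat B (SU3Pres.Um hF B α b) = !![1, -σ α, b; 0, 1, α; 0, 0, 1] := cmat_eq hF B _ fun x y z => by
    rw [SU3Pres.U_act hF B h]
    simp [Matrix.mulVec, dotProduct, Fin.sum_univ_three]
    congr 1
    ring
  rw [iota_val, hA, uH_val hF hok]
  ext i l
  rw [extM_apply_f3 hF]
  rcases i with (i | i) | i <;> rcases l with (l | l) | l <;>
    rcases eq_or_ne i 0 with rfl | hi <;> rcases eq_or_ne l 0 with rfl | hl' <;>
    first
    | exact absurd (Subsingleton.elim (α := Fin 1) _ _) hi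
    | exact absurd (Subsingleton.elim (α := Fin 1) _ _) hl'
    | simp [uMat, f3_0, f3_1, f3_2, Fin.sum_univ_three, Matrix.one_apply, ct_apply, qFrob_qFrob hF, Matrix.single_apply, Ne.symm, *]

theorem iota_Wm (hW : WOK hF (1 : F) (-1) 1) : iota hF k B (SU3Pres.Wm hF B) = wH hF hW 0 := by
  have hA : cmat B (SU3Pres.Wm hF B) = !![0, 0, 1; 0, -1, 0; 1, 0, 0] := cmat_eq hF B _ fun x y z => by
    rw [SU3Pres.W_act hF B]
    simp [Matrix.mulVec, dotProduct, Fin.sum_univ_three]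
  refine hext ?_
  rw [iota_val, hA, wH_val, wMat]
  ext i l
  rw [extM_apply_f3 hF]
  rcases i with (i | i) | i <;> rcases l with (l | l) | l <;>
    rcases eq_or_ne i 0 with rfl | hi <;> rcases eq_or_ne l 0 with rfl | hl' <;>
    first
    | exact absurd (Subsingleton.elim (α := Fin 1) _ _) hi
    | exact absurd (Subsingleton.elim (α := Fin 1) _ _) hl'
    | simp [f3_0, f3_1, f3_2, Fin.sum_univ_three, Matrix.one_apply, Pd, Matrix.diagonal_apply, Matrix.single_apply, Ne.symm, *]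

theorem iota_Tm {l : F} (hl : l ≠ 0) :
    hval (iota hF k B (SU3Pres.Tm hF B l)) =
      fromBlocks (fromBlocks (tD hF l) 0 0 (tD hF (σ l)⁻¹)) 0 0 ((σ l / l) • 1) := by
  have hA : cmat B (SU3Pres.Tm hF B l) = Matrix.diagonal ![l, σ l / l, (σ l)⁻¹] := cmat_eq hF B _ fun x y z => by
    rw [SU3Pres.T_act hF B hl]
    simp [Matrix.mulVec_diagonal]
  rw [iota_val, hA]
  ext i l'
  rw [extM_apply_f3 hF]
  rcases i with (i | i) | i <;> rcases l' with (l' | l') | l' <;>
    rcases eq_or_ne i 0 with rfl | hi <;> rcases eq_or_ne l' 0 with rfl | hl' <;>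
    first
    | exact absurd (Subsingleton.elim (α := Fin 1) _ _) hi
    | exact absurd (Subsingleton.elim (α := Fin 1) _ _) hl'
    | simp [tD, f3_0, f3_1, f3_2, Fin.sum_univ_three, Matrix.one_apply, Matrix.diagonal_apply, Matrix.single_apply, Ne.symm, *]

theorem iota_TorusAt {l : F} (hl : l ≠ 0) : TorusAt hF (iota hF k B (SU3Pres.Tm hF B l)) := by
  have hl' : σ l ≠ 0 := (map_ne_zero (qFrob hF)).2 hl
  refine ⟨l, σ l / l, hl, ?_, iota_Tm hF k B hl⟩
  rw [map_div₀, qFrob_qFrob hF]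
  field_simp

theorem torus_form {g : Hgrp hF (k + 2) 1} (hg : TorusAt hF g) :
    ∃ l, l ≠ 0 ∧ g = iota hF k B (SU3Pres.Tm hF B l) := by
  obtain ⟨l, y, hl, -, e⟩ := hg
  refine ⟨l, hl, hext ?_⟩
  rw [e, iota_Tm hF k B hl]
  have hd : (hval g).det = 1 := g.1.2
  rw [e, det_fromBlocks_zero₂₁, det_fromBlocks_zero₂₁, tD_det, tD_det, det_smul, det_one, Fintype.card_fin,
    pow_one, mul_one] at hd
  have hl' : σ l ≠ 0 := (map_ne_zero (qFrob hF)).2 hl
  rw [show y = σ l / l by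
    field_simp at hd ⊢
    linear_combination hd]

end Cfsg.Agent.Lie.UnPres
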