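import Cfsg.Agent.Lib.Lie.UnPresMerge
import Cfsg.Agent.Lib.Lie.UnPresEvenTwo
import Cfsg.Agent.Lib.Lie.UnPresOddTwo
import Cfsg.Agent.Lib.Lie.UnPresOddThree
import Cfsg.Agent.Lib.Lie.SLnSix
import Cfsg.Agent.Lib.Lie.SpnPresGens

/-!
The special unitary groups on six generators with few relations.
-/

set_option autoImplicit false
set_option linter.unusedSectionVars false
set_option maxHeartbeats 1000000

namespace Cfsg.Agent.Lie.UnPres

open Matrix Cfsg.Agent.Classical Cfsg.Agent.Classical.PSUAut Cfsg.Agent.Lie.Pres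

universe u w

section Generators

variable {α β : Type} {T : Type w} [Group T] {v : α → T} {r : ℕ}

/-- Generators in the group generated by the others cost nothing to leave out. -/
theorem presOn_keep [Fintype β] (h : PresOn v r) (f : β → α) (hf : Function.Injective f)
    (hgen : ∀ a, v a ∈ Subgroup.closure (Set.range fun b => v (f b))) : PresOn (fun b => v (f b)) r := by
  classical
  have hs : ∀ a, ∃ x, FreeGroup.lift (fun b => v (f b)) x = v a := fun a => by
    have := hgen a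
    rwa [← FreeGroup.range_lift_eq_closure, MonoidHom.mem_range] at this
  choose W hW using hs
  refine (h.change (fun a => if e : ∃ b, f b = a then FreeGroup.of e.choose else W a) (fun b => FreeGroup.of (f b))
    (fun a => ?_) (fun b => by simp) 0 fun {_} => ?_).mono le_rfl
  · by_cases e : ∃ b, f b = a
    · rw [dif_pos e, FreeGroup.lift_apply_of, e.choose_spec]
    · rw [dif_neg e, hW]
  · refine le_of_eq (Finset.card_eq_zero.2 (Finset.filter_eq_empty_iff.2 fun b _ => ?_))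
    have e : ∃ b', f b' = f b := ⟨b, rfl⟩
    rw [FreeGroup.lift_apply_of, dif_pos e, hf e.choose_spec]
    simp

/-- Two generators give way to their product at no cost. -/
theorem presOn_merge [Fintype β] {a b : T} {v₀ : β → T} (h : PresOn (Sum.elim v₀ ![a, b]) r)
    (hgen : a ∈ Subgroup.closure (Set.range (Sum.elim v₀ fun _ : Fin 1 => a * b))) :
    PresOn (Sum.elim v₀ fun _ : Fin 1 => a * b) r := by
  classical
  rw [← FreeGroup.range_lift_eq_closure, MonoidHom.mem_range] at hgen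
  obtain ⟨wa, hwa⟩ := hgen
  refine (h.change (Sum.elim (fun i => FreeGroup.of (Sum.inl i)) ![wa, wa⁻¹ * FreeGroup.of (Sum.inr 0)])
    (Sum.elim (fun i => FreeGroup.of (Sum.inl i)) fun _ => FreeGroup.of (Sum.inr 0) * FreeGroup.of (Sum.inr 1))
    (fun x => ?_) (fun x => ?_) 0 fun {_} => ?_).mono le_rfl
  · rcases x with i | i
    · simp
    · fin_cases i <;> simp [hwa]
  · rcases x with i | i <;> simp
  · refine le_of_eq (Finset.card_eq_zero.2 (Finset.filter_eq_empty_iff.2 fun x _ => ?_))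
    rcases x with i | i
    · simp
    · rw [Subsingleton.elim i 0]
      simp

end Generators

section Glue

variable {α : Type} {H : Type u} [Group H] {T : Type w} [Group T] {v : α → H} {r : ℕ}

/-- An extension by two generators, from pairs of words. -/
theorem glue (h : PresOn v r) (i : H →* T) (u₀ w₀ : T) (hgen : i.range ⊔ Subgroup.closure {u₀, w₀} = ⊤)
    (s : H → FreeGroup (α ⊕ Fin 2)) (hs : ∀ A, ∃ z, s A = FreeGroup.map Sum.inl z ∧ FreeGroup.lift v z = A)
    (R : List (FreeGroup (α ⊕ Fin 2) × FreeGroup (α ⊕ Fin 2)))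
    (hR : ∀ L : FreeGroup (α ⊕ Fin 2) →* T, (∀ A, L (s A) = i A) → L (FreeGroup.of (Sum.inr 0)) = u₀ →
      L (FreeGroup.of (Sum.inr 1)) = w₀ → ∀ p ∈ R.map (Prod.map L L), p.1 = p.2)
    (hinj : ∀ (G : Type) [Group G] (f : FreeGroup (α ⊕ Fin 2) →* G) (ι : H →* G) (π : G →* T),
      (∀ A, f (s A) = ι A) → (∀ A, π (ι A) = i A) → π (f (FreeGroup.of (Sum.inr 0))) = u₀ →
      π (f (FreeGroup.of (Sum.inr 1))) = w₀ →
      ι.range ⊔ Subgroup.closure {f (FreeGroup.of (Sum.inr 0)), f (FreeGroup.of (Sum.inr 1))} = ⊤ →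
      (∀ p ∈ R.map (Prod.map f f), p.1 = p.2) → Function.Injective π) :
    PresOn (Sum.elim (i ∘ v) ![u₀, w₀]) (r + R.length) := by
  have hrange : ∀ {X : Type w} (g : Fin 2 → X), Set.range g = {g 0, g 1} := fun g => by
    ext x
    simp [Fin.exists_fin_two, eq_comm]
  refine (h.extend i ![u₀, w₀] ?_ (R.map fun p => p.1 * p.2⁻¹) ?_ ?_).mono (by rw [List.length_map])
  · rw [hrange]
    simpa using hgen
  · intro x hx
    obtain ⟨p, hp, rfl⟩ := List.mem_map.1 hx
    rw [map_mul, map_inv, mul_inv_eq_one]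
    refine hR _ (fun A => ?_) (by simp) (by simp) (Prod.map _ _ p) (List.mem_map.2 ⟨p, hp, rfl⟩)
    obtain ⟨z, hz, rfl⟩ := hs A
    rw [hz]
    exact DFunLike.congr_fun (FreeGroup.ext_hom
      ((FreeGroup.lift (Sum.elim (i ∘ v) ![u₀, w₀])).comp (FreeGroup.map Sum.inl))
      (i.comp (FreeGroup.lift v)) fun a => by simp) z
  · intro G _ f ι π htop hf hπι hπt hall
    refine hinj G f ι π (fun A => ?_) (fun A => DFunLike.congr_fun hπι A) (hπt 0) (hπt 1) ?_ fun p hp => ?_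
    · obtain ⟨z, hz, rfl⟩ := hs A
      rw [hz, hf]
    · rw [← htop]
      congr 2
      ext x
      simp [Fin.exists_fin_two, eq_comm]
    · obtain ⟨p', hp', rfl⟩ := List.mem_map.1 hp
      have := hall _ (List.mem_map.2 ⟨p', hp', rfl⟩)
      rwa [map_mul, map_inv, mul_inv_eq_one] at this

end Glue

variable {F : Type*} [Field F] [Fintype F] {q : ℕ} (hF : Fintype.card F = q ^ 2) {k : ℕ}

local notation "σ" => qFrob hF

theorem exists_section {α : Type} {H : Type*} [Group H] {v : α → H} {r : ℕ} (h : PresOn v r) :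
    ∃ s : H → FreeGroup (α ⊕ Fin 2), ∀ A, ∃ z, s A = FreeGroup.map Sum.inl z ∧ FreeGroup.lift v z = A := by
  choose z hz using h.surjective
  exact ⟨fun A => FreeGroup.map Sum.inl (z A), fun A => ⟨z A, rfl, hz A⟩⟩

theorem closure_pair_list {H : Type*} [Group H] {a b : H} (h : Subgroup.closure {g | g ∈ [a, b]} = ⊤) :
    Subgroup.closure ({a, b} : Set H) = ⊤ := by
  rw [← h]
  congr 1
  ext x
  simp

theorem range_le {α : Type} {H : Type*} [Group H] {T : Type*} [Group T] {v : α → H}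
    (hv : Function.Surjective (FreeGroup.lift v)) {f : H →* T} {K : Subgroup T} (h : ∀ a, f (v a) ∈ K) (A : H) :
    f A ∈ K := by
  obtain ⟨z, rfl⟩ := hv A
  induction z using FreeGroup.induction_on with
  | C1 => simp [one_mem]
  | of a => simpa using h a
  | inv_of a ha => rw [map_inv, map_inv]; exact inv_mem ha
  | mul x y hx hy => rw [map_mul, map_mul]; exact mul_mem hx hy

/-- A generating pair of `SL₂`. -/
theorem pair_two : ∃ a b : SpecialLinearGroup (Fin 2) F, Subgroup.closure ({a, b} : Set _) = ⊤ := by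
  obtain ⟨x, hx⟩ := Sl2Pair.exists_pair (F := F)
  exact ⟨_, _, hx⟩

include hF

/-- The radical element is left out in even dimension. -/
theorem even_drop {α : Type} [Fintype α] {μ ω lam : F} {eps c₀ : Fˣ} (E : EPar hF μ ω lam eps c₀)
    {v : α → SpecialLinearGroup (Fin (k + 2)) F} {r : ℕ} (hv : Function.Surjective (FreeGroup.lift v))
    (h : PresOn (Sum.elim (lev hF 0 ∘ v) ![T₀ hF 0 μ (Pi.single 0 1), wH hF (EPar.wok hF E) 0]) r) :
    ∃ g : α ⊕ Fin 1 → Hgrp hF (k + 2) 0, PresOn g r := by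
  refine ⟨_, presOn_keep h (Sum.map id fun _ : Fin 1 => (1 : Fin 2)) ?_ fun a => ?_⟩
  · rintro (a | a) (b | b) e <;> simp_all <;> exact Subsingleton.elim _ _
  refine (Subgroup.eq_top_iff' _).1 (top_le_iff.1 ?_) _
  rw [← even_top_one hF E, sup_le_iff, Subgroup.closure_le]
  refine ⟨?_, ?_⟩
  · rintro _ ⟨A, rfl⟩
    refine range_le hv (fun a => ?_) A
    exact Subgroup.subset_closure ⟨Sum.inl a, rfl⟩
  · rintro _ rfl
    exact Subgroup.subset_closure ⟨Sum.inr 0, rfl⟩

/-- The radical element and the Weyl element are merged in odd dimension. -/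
theorem odd_merge {α : Type} [Fintype α] {μ ω r β k₁ : F} (O : OPar hF μ ω r β k₁)
    {v : α → SpecialLinearGroup (Fin (k + 2)) F} {n : ℕ} (hv : Function.Surjective (FreeGroup.lift v))
    (h : PresOn (Sum.elim (lev hF 1 ∘ v) ![Φ₀ hF β (Pi.single 0 1), wH hF (wok_odd hF) 0]) n) :
    ∃ g : α ⊕ Fin 1 → Hgrp hF (k + 2) 1, PresOn g n := by
  refine ⟨_, presOn_merge h ?_⟩
  refine (Subgroup.eq_top_iff' _).1 (top_le_iff.1 ?_) _
  rw [← odd_top_one hF O, sup_le_iff, Subgroup.closure_le]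
  refine ⟨?_, ?_⟩
  · rintro _ ⟨A, rfl⟩
    refine range_le hv (fun a => ?_) A
    exact Subgroup.subset_closure ⟨Sum.inl a, rfl⟩
  · rintro _ rfl
    exact Subgroup.subset_closure ⟨Sum.inr 0, rfl⟩

/-- The element `ω` as a unit with its power. -/
theorem lt_pow {μ β ω : F} (hlt : ltv hF μ β = ω) :
    ltv hF μ β ^ (q + 1) = ω * σ ω := by
  rw [hlt, qFrob_apply, pow_succ']

section Family

variable {α : Type} [Fintype α]

/-- Even dimension, from four coordinates of the Levi factor on. -/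
theorem presOn_even_big (hk : 2 ≤ k) {v : α → SpecialLinearGroup (Fin (k + 2)) F} {r : ℕ} (h : PresOn v r) :
    ∃ g : α ⊕ Fin 1 → Hgrp hF (k + 2) 0, PresOn g (r + 14) := by
  obtain ⟨μ, ω, lam, eps, c₀, E⟩ := exists_epar hF
  obtain ⟨l, rfl⟩ : ∃ l, k = l + 1 := ⟨k - 1, by omega⟩
  obtain ⟨a, b, hab⟩ := SpnPres.pair_gens (F := F) l (by omega)
  have hab := closure_pair_list hab
  obtain ⟨s, hs⟩ := exists_section h
  have h' := glue h (lev hF 0) _ _ (even_top hF E) s hs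
    (relEven hF μ ω lam eps c₀ a b s (FreeGroup.of (Sum.inr 0)) (FreeGroup.of (Sum.inr 1))) ?_ ?_
  · exact even_drop hF E h.surjective (h'.mono (by rw [relEven_length]))
  · intro L h1 h2 h3
    rw [relEven_map]
    simp only [h1, h2, h3]
    exact relEven_model hF E a b
  · intro G _ f ι π h1 h2 h3 h4 h5 h6
    rw [relEven_map] at h6
    simp only [h1] at h6
    exact relEven_injective E hk hab h2 h3 h4 h5 h6

/-- Odd dimension, from four coordinates of the Levi factor on. -/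
theorem presOn_odd_big (hk : 2 ≤ k) {v : α → SpecialLinearGroup (Fin (k + 2)) F} {r : ℕ} (h : PresOn v r) :
    ∃ g : α ⊕ Fin 1 → Hgrp hF (k + 2) 1, PresOn g (r + 15) := by
  obtain ⟨μ, ω, r', β, k₁, O, -⟩ := exists_opar hF
  obtain ⟨i₁, i₂, c₁, c₂, c₃, T⟩ := exists_tpar O
  obtain ⟨l, rfl⟩ : ∃ l, k = l + 1 := ⟨k - 1, by omega⟩
  obtain ⟨a, b, hab⟩ := SpnPres.pair_gens (F := F) l (by omega)
  have hab := closure_pair_list hab
  obtain ⟨s, hs⟩ := exists_section h
  have h' := glue h (lev hF 1) _ _ (odd_top hF O) s hs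
    (relOdd hF μ ω β k₁ i₁ i₂ c₁ c₂ c₃ a b s (FreeGroup.of (Sum.inr 0)) (FreeGroup.of (Sum.inr 1))) ?_ ?_
  · exact odd_merge hF O h.surjective (h'.mono (by rw [relOdd_length]))
  · intro L h1 h2 h3
    rw [relOdd_map]
    simp only [h1, h2, h3]
    exact relOdd_model hF O T a b
  · intro G _ f ι π h1 h2 h3 h4 h5 h6
    rw [relOdd_map] at h6
    simp only [h1] at h6
    exact relOdd_injective O hk hab h2 h3 h4 h5 h6

/-- Dimension six. -/
theorem presOn_even_three {v : α → SpecialLinearGroup (Fin (1 + 2)) F} {r : ℕ} (h : PresOn v r) :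
    ∃ g : α ⊕ Fin 2 → Hgrp hF (1 + 2) 0, PresOn g (r + 19) := by
  obtain ⟨μ, ω, lam, eps, c₀, E⟩ := exists_epar hF
  obtain ⟨a, b, hab⟩ := pair_two (F := F)
  obtain ⟨a', b', hab'⟩ := SpnPres.pair_gens (F := F) 1 le_rfl
  have hab' := closure_pair_list hab'
  obtain ⟨s, hs⟩ := exists_section h
  have h' := glue h (lev hF 0) _ _ (even_top hF E) s hs
    (relEven3 hF μ ω lam eps c₀ (Units.mk0 ω E.prim.ne) a b a' b' s (FreeGroup.of (Sum.inr 0))
      (FreeGroup.of (Sum.inr 1))) ?_ ?_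
  · exact ⟨_, h'.mono (by rw [relEven3_length])⟩
  · intro L h1 h2 h3
    rw [relEven3_map]
    simp only [h1, h2, h3]
    exact relEven3_model hF E a b a' b'
  · intro G _ f ι π h1 h2 h3 h4 h5 h6
    rw [relEven3_map] at h6
    simp only [h1] at h6
    exact relEven3_injective E (Units.val_mk0 E.prim.ne) hab hab' h2 h3 h4 h5 h6

/-- Dimension seven. -/
theorem presOn_odd_three {v : α → SpecialLinearGroup (Fin (1 + 2)) F} {r : ℕ} (h : PresOn v r) :
    ∃ g : α ⊕ Fin 2 → Hgrp hF (1 + 2) 1, PresOn g (r + 20) := by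
  obtain ⟨μ, ω, r', β, k₁, O, -⟩ := exists_opar hF
  obtain ⟨i₁, i₂, c₁, c₂, c₃, T⟩ := exists_tpar O
  obtain ⟨a, b, hab⟩ := pair_two (F := F)
  obtain ⟨a', b', hab'⟩ := SpnPres.pair_gens (F := F) 1 le_rfl
  have hab' := closure_pair_list hab'
  obtain ⟨s, hs⟩ := exists_section h
  have h' := glue h (lev hF 1) _ _ (odd_top hF O) s hs
    (relOdd3 hF μ ω β k₁ i₁ i₂ c₁ c₂ c₃ (Units.mk0 ω O.prim.ne) a b a' b' s (FreeGroup.of (Sum.inr 0))
      (FreeGroup.of (Sum.inr 1))) ?_ ?_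
  · exact ⟨_, h'.mono (by rw [relOdd3_length])⟩
  · intro L h1 h2 h3
    rw [relOdd3_map]
    simp only [h1, h2, h3]
    exact relOdd3_model hF O T a b a' b'
  · intro G _ f ι π h1 h2 h3 h4 h5 h6
    rw [relOdd3_map] at h6
    simp only [h1] at h6
    exact relOdd3_injective O (Units.val_mk0 O.prim.ne) hab hab' h2 h3 h4 h5 h6

/-- Dimension four. -/
theorem presOn_even_two {v : α → SpecialLinearGroup (Fin (0 + 2)) F} {r : ℕ} (h : PresOn v r) :
    ∃ g : α ⊕ Fin 2 → Hgrp hF (0 + 2) 0, PresOn g (r + 25) := by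
  obtain ⟨μ, ω, lam, eps, c₀, E⟩ := exists_epar hF
  obtain ⟨k₁, hk₁⟩ := exists_trace_eq hF (a := (1 : F)) (map_one _)
  obtain ⟨a, b, hab⟩ := pair_two (F := F)
  obtain ⟨s, hs⟩ := exists_section h
  have h' := glue h (lev hF 0) _ _ (even_top hF E) s hs
    (relEven2 hF μ ω lam k₁ eps c₀ (Units.mk0 ω E.prim.ne) a b s (FreeGroup.of (Sum.inr 0))
      (FreeGroup.of (Sum.inr 1))) ?_ ?_
  · exact ⟨_, h'.mono (by rw [relEven2_length])⟩
  · intro L h1 h2 h3
    rw [relEven2_map]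
    simp only [h1, h2, h3]
    exact relEven2_model hF E hk₁ a b
  · intro G _ f ι π h1 h2 h3 h4 h5 h6
    rw [relEven2_map] at h6
    simp only [h1] at h6
    exact relEven2_injective E hk₁ (Units.val_mk0 E.prim.ne) hab h2 h3 h4 h5 h6

/-- Dimension five. -/
theorem presOn_odd_two {v : α → SpecialLinearGroup (Fin (0 + 2)) F} {r : ℕ} (h : PresOn v r) :
    ∃ g : α ⊕ Fin 2 → Hgrp hF (0 + 2) 1, PresOn g (r + 20) := by
  obtain ⟨μ, ω, r', β, k₁, O, hlt⟩ := exists_opar hF
  obtain ⟨i₁, i₂, c₁, c₂, c₃, T⟩ := exists_tpar O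
  have hom : (Units.mk0 ω O.prim.ne : F) = ω := Units.val_mk0 O.prim.ne
  have T' : TPar hF μ β i₁ i₂ c₁ c₂ (Units.mk0 ω O.prim.ne) :=
    ⟨T.h₁, T.h₂, by rw [hom]; exact lt_pow hF hlt⟩
  obtain ⟨a, b, hab⟩ := pair_two (F := F)
  obtain ⟨s, hs⟩ := exists_section h
  have h' := glue h (lev hF 1) _ _ (odd_top hF O) s hs
    (relOdd2 hF μ ω β k₁ i₁ i₂ c₁ c₂ (Units.mk0 ω O.prim.ne) a b s (FreeGroup.of (Sum.inr 0))
      (FreeGroup.of (Sum.inr 1))) ?_ ?_
  · exact ⟨_, h'.mono (by rw [relOdd2_length])⟩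
  · intro L h1 h2 h3
    rw [relOdd2_map]
    simp only [h1, h2, h3]
    exact relOdd2_model hF O hlt hom T' a b
  · intro G _ f ι π h1 h2 h3 h4 h5 h6
    rw [relOdd2_map] at h6
    simp only [h1] at h6
    exact relOdd2_injective O hom hab h2 h3 h4 h5 h6

end Family


omit hF

/-- `SL₂` on three generators. -/
theorem presOn_SL_two : ∃ v : Fin 3 → SpecialLinearGroup (Fin (0 + 2)) F, PresOn v 8 := by
  obtain ⟨ω₀, R, -, ⟨hR, hbij⟩, hc, -⟩ := Sl2Pres.exists_presentations_aux (F := F)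
  exact ⟨![Sl2Pres.slU (1 : F), Sl2Pres.slW, Sl2Pres.slH ω₀], R, hc, MulEquiv.ofBijective _ hbij,
    fun x => PresentedGroup.toGroup.of hR⟩

/-- `SL_m` on five generators, from four coordinates on. -/
theorem presOn_SL_five (hk : 2 ≤ k) :
    ∃ v : Fin 5 → SpecialLinearGroup (Fin (k + 2)) F, PresOn v 24 := by
  rcases (show k = 2 ∨ k = 3 ∨ k = 4 ∨ 5 ≤ k by omega) with rfl | rfl | rfl | h5
  · obtain ⟨v, hv⟩ := SLnSix.presOn_four (F := F)
    exact ⟨v, hv.mono (by norm_num)⟩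
  · obtain ⟨v, hv⟩ := SLnSix.presOn_five (F := F)
    exact ⟨v, hv.mono (by norm_num)⟩
  · obtain ⟨v, hv⟩ := SLnSix.presOn_six (F := F)
    exact ⟨v, hv.mono (by norm_num)⟩
  obtain ⟨j, hj⟩ : ∃ j, k + 2 = 3 + j := ⟨k - 1, by omega⟩
  rw [hj]
  obtain ⟨v, hv, -⟩ := AltGlue.good_alternating (n := 3 + j) (by omega)
  obtain ⟨u, h3, hu⟩ := SLnSix.presOn_three_pC (F := F)
  have h := SLnSeven.presOn_shift (F := F) (k := j) (by omega) h3 hv
  have hk' := presOn_keep h (Sum.map ![(0 : Fin 3), 2] id)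
    (Sum.map_injective.2 ⟨by decide, Function.injective_id⟩) fun a => ?_
  · obtain ⟨w, hw⟩ := SLnSeven.to_fin hk'
    exact ⟨w, hw⟩
  · have hall : ∀ b, SLnPres.permSL (F := F) (k := j) b ∈
        Subgroup.closure (Set.range fun x => Sum.elim (SLnPres.emb3 ∘ u) (SLnPres.permSL ∘ v)
          (Sum.map ![(0 : Fin 3), 2] id x)) := fun b => by
      refine range_le hv.surjective (fun c => ?_) b
      exact Subgroup.subset_closure ⟨Sum.inr c, rfl⟩
    rcases a with a | a
    · fin_cases a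
      · exact Subgroup.subset_closure ⟨Sum.inl 0, rfl⟩
      · show SLnPres.emb3 (u 1) ∈ _
        rw [hu, ← SLnSeven.permSL_gamma (SLnSeven.gam j) rfl]
        exact hall _
      · exact Subgroup.subset_closure ⟨Sum.inl 1, rfl⟩
    · exact hall _

include hF

/-- The frame group in four and five dimensions. -/
theorem presOn_hgrp_two (ε : ℕ) (hε : ε ≤ 1) : ∃ g : Fin 6 → Hgrp hF (0 + 2) ε, PresOn g 35 := by
  obtain ⟨v, hv⟩ := presOn_SL_two (F := F)
  rcases (show ε = 0 ∨ ε = 1 by omega) with rfl | rfl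
  · obtain ⟨g, hg⟩ := presOn_even_two hF hv
    obtain ⟨g', hg'⟩ := SLnSeven.to_fin hg
    obtain ⟨g'', hg''⟩ := SLnSeven.to_fin (SLnSeven.presOn_pad hg')
    exact ⟨g'', hg''.mono (by norm_num)⟩
  · obtain ⟨g, hg⟩ := presOn_odd_two hF hv
    obtain ⟨g', hg'⟩ := SLnSeven.to_fin hg
    obtain ⟨g'', hg''⟩ := SLnSeven.to_fin (SLnSeven.presOn_pad hg')
    exact ⟨g'', hg''.mono (by norm_num)⟩

/-- The frame groups on six generators. -/
theorem presOn_hgrp (k ε : ℕ) (hε : ε ≤ 1) : ∃ g : Fin 6 → Hgrp hF (k + 2) ε, PresOn g 39 := by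
  rcases (show k = 0 ∨ k = 1 ∨ 2 ≤ k by omega) with rfl | rfl | hk
  · obtain ⟨g, hg⟩ := presOn_hgrp_two hF ε hε
    exact ⟨g, hg.mono (by norm_num)⟩
  · obtain ⟨v, hv⟩ := SLnSix.presOn_three (F := F)
    rcases (show ε = 0 ∨ ε = 1 by omega) with rfl | rfl
    · obtain ⟨g, hg⟩ := presOn_even_three hF hv
      obtain ⟨g', hg'⟩ := SLnSeven.to_fin hg
      obtain ⟨g'', hg''⟩ := SLnSeven.to_fin (SLnSeven.presOn_pad hg')
      exact ⟨g'', hg''.mono (by norm_num)⟩
    · obtain ⟨g, hg⟩ := presOn_odd_three hF hv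
      obtain ⟨g', hg'⟩ := SLnSeven.to_fin hg
      obtain ⟨g'', hg''⟩ := SLnSeven.to_fin (SLnSeven.presOn_pad hg')
      exact ⟨g'', hg''.mono (by norm_num)⟩
  · obtain ⟨v, hv⟩ := presOn_SL_five (F := F) hk
    rcases (show ε = 0 ∨ ε = 1 by omega) with rfl | rfl
    · obtain ⟨g, hg⟩ := presOn_even_big hF hk hv
      obtain ⟨g', hg'⟩ := SLnSeven.to_fin hg
      exact ⟨g', hg'.mono (by norm_num)⟩
    · obtain ⟨g, hg⟩ := presOn_odd_big hF hk hv
      obtain ⟨g', hg'⟩ := SLnSeven.to_fin hg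
      exact ⟨g', hg'⟩

/-- `SU_n` from dimension four on. -/
theorem presOn_SU (n : ℕ) (hn : 4 ≤ n) :
    ∃ g : Fin 6 → SU n F q, PresOn g 39 ∧ ((n = 4 ∨ n = 5) → PresOn g 35) := by
  obtain ⟨k, hk⟩ : ∃ k, n / 2 = k + 2 := ⟨n / 2 - 2, by omega⟩
  obtain ⟨P, Q, e, -⟩ := exists_iso_of hF n (k + 2) (n % 2) hk rfl
  rcases Nat.eq_zero_or_pos k with rfl | hk0
  · obtain ⟨g, hg⟩ := presOn_hgrp_two hF (n % 2) (by omega)
    exact ⟨_, (hg.congr e).mono (by norm_num), fun _ => hg.congr e⟩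
  · obtain ⟨g, hg⟩ := presOn_hgrp hF k (n % 2) (by omega)
    exact ⟨_, hg.congr e, fun h => by omega⟩

/-- The central quotient costs one relation. -/
theorem presOn_PSU {n : ℕ} {α : Type} {v : α → SU n F q} {r : ℕ} (h : PresOn v r) :
    ∃ w : α → Cfsg.PSU n F q, PresOn w (r + 1) := by
  obtain ⟨z, hz⟩ : ∃ z : Subgroup.center (SU n F q), ∀ x, x ∈ Subgroup.zpowers z := by
    rcases Nat.eq_zero_or_pos n with rfl | hn
    · exact ⟨1, fun x => by rw [Subtype.ext (suVal_ext (Subsingleton.elim (suVal x.1) (suVal (1 : SU 0 F q))))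
        (a1 := x) (a2 := 1)]; exact one_mem _⟩
    haveI : NeZero n := ⟨by omega⟩
    let Φ : Subgroup.center (SU n F q) →* F :=
      { toFun := fun x => suVal x.1 0 0
        map_one' := by simp [suVal]
        map_mul' := fun x y => by
          obtain ⟨c, hc⟩ := suVal_scalar_of_mem_center hF x.2
          show suVal (x.1 * y.1) 0 0 = _
          rw [suVal_mul, hc]
          simp [Matrix.scalar_apply] }
    haveI : IsCyclic (Subgroup.center (SU n F q)) := isCyclic_of_subgroup_isDomain Φ fun x y hxy => by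
      obtain ⟨c, hc⟩ := suVal_scalar_of_mem_center hF x.2
      obtain ⟨d, hd⟩ := suVal_scalar_of_mem_center hF y.2
      refine Subtype.ext (suVal_ext ?_)
      have : suVal x.1 0 0 = suVal y.1 0 0 := hxy
      rw [hc, hd] at this ⊢
      simp [Matrix.scalar_apply] at this
      rw [this]
    exact IsCyclic.exists_generator
  exact ⟨_, SLnSeven.quot_cyclic h (QuotientGroup.mk' (Subgroup.center (SU n F q)))
    (QuotientGroup.mk'_surjective _) z.1 ((QuotientGroup.eq_one_iff _).2 z.2) fun x hx => by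
      obtain ⟨k, hk⟩ := Subgroup.mem_zpowers_iff.1 (hz ⟨x, (QuotientGroup.eq_one_iff x).1 hx⟩)
      exact Subgroup.mem_zpowers_iff.2 ⟨k, by rw [← SubgroupClass.coe_zpow, hk]⟩⟩

end Cfsg.Agent.Lie.UnPres
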