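import Cfsg.Agent.Lib.Lie.UnPresField

/-!
Hermitian matrices as the universal target of a symmetric sesquilinear symbol, and quadratic
maps with vanishing third difference.
-/

set_option autoImplicit false
set_option linter.unusedSectionVars false

namespace Cfsg.Agent.Lie.UnPres

open Matrix Cfsg.Agent.Classical Cfsg.Agent.Classical.PSUAut

/-- The second difference. -/
def dif2 {V A : Type*} [AddCommGroup V] [AddCommGroup A] (T : V → A) (a b : V) : A :=
  T (a + b) - T a - T b

/-- The third difference. -/
def dif3 {V A : Type*} [AddCommGroup V] [AddCommGroup A] (T : V → A) (a b c : V) : A :=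
  dif2 T a (b + c) - dif2 T a b - dif2 T a c

/-- Two independent vectors. -/
def Ind2 (F : Type*) [Field F] {V : Type*} [AddCommGroup V] [Module F V] (a b : V) : Prop :=
  a ≠ 0 ∧ ∀ t : F, b ≠ t • a

/-- Three independent vectors. -/
def Ind3 (F : Type*) [Field F] {V : Type*} [AddCommGroup V] [Module F V] (a b c : V) : Prop :=
  Ind2 F a b ∧ ∀ s t : F, c ≠ s • a + t • b

section Diff

variable {F : Type*} [Field F] {V : Type*} [AddCommGroup V] [Module F V]

theorem Ind2.symm {a b : V} (h : Ind2 F a b) : Ind2 F b a := by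
  refine ⟨fun hb => h.2 0 (by simp [hb]), fun t ht => ?_⟩
  rcases eq_or_ne t 0 with rfl | ht0
  · exact h.1 (by simpa using ht)
  · exact h.2 t⁻¹ (by rw [ht, smul_smul, inv_mul_cancel₀ ht0, one_smul])

theorem Ind2.smul_right {a b : V} (h : Ind2 F a b) {k : F} (hk : k ≠ 0) : Ind2 F a (k • b) := by
  refine ⟨h.1, fun t ht => h.2 (k⁻¹ * t) ?_⟩
  rw [← smul_smul, ← ht, smul_smul, inv_mul_cancel₀ hk, one_smul]

theorem Ind2.smul_left {a b : V} (h : Ind2 F a b) {k : F} (hk : k ≠ 0) : Ind2 F (k • a) b :=
  (h.symm.smul_right hk).symm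

theorem Ind2.sub_right {a b : V} (h : Ind2 F a b) (t : F) : Ind2 F a (b - t • a) := by
  refine ⟨h.1, fun s hs => h.2 (s + t) ?_⟩
  rw [add_smul, ← hs, sub_add_cancel]

theorem Ind3.rot {a b c : V} (h : Ind3 F a b c) : Ind3 F b c a := by
  refine ⟨⟨h.1.symm.1, fun t ht => h.2 0 t (by simp [ht])⟩, fun s t hs => ?_⟩
  rcases eq_or_ne t 0 with rfl | ht
  · exact h.1.symm.2 s (by simpa using hs)
  · refine h.2 t⁻¹ (-(t⁻¹ * s)) ?_
    rw [hs, smul_add, smul_smul, smul_smul, inv_mul_cancel₀ ht, one_smul, neg_smul]
    abel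

variable {A : Type*} [AddCommGroup A] {T : V → A}

theorem dif2_comm (a b : V) : dif2 T a b = dif2 T b a := by
  simp only [dif2, add_comm a b]; abel

theorem dif3_swap (a b c : V) : dif3 T a b c = dif3 T b a c := by
  simp only [dif3, dif2, add_left_comm a b c, add_comm a b]
  abel

theorem dif3_swap' (a b c : V) : dif3 T a b c = dif3 T a c b := by
  simp only [dif3, dif2, add_comm b c]
  abel

theorem dif3_add (a b c c' : V) : dif3 T a b (c + c') = dif3 T a b c + dif3 T a b c' +
    dif3 T (a + b) c c' - dif3 T a c c' - dif3 T b c c' := by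
  simp only [dif3, dif2, add_assoc]
  abel

variable (h0 : T 0 = 0) (hneg : ∀ v, T (-v) = T v)

include h0 in
theorem dif2_zero (a : V) : dif2 T a 0 = 0 := by simp [dif2, h0]

include h0 hneg in
theorem dif3_sum (a b : V) : dif3 T a b (-(a + b)) = 0 := by
  have h1 : b + -(a + b) = -a := by abel
  have h2 : a + -(a + b) = -b := by abel
  have h3 : a + -a = 0 := by abel
  simp only [dif3, dif2, h1, h2, h3, h0, hneg]
  abel

include h0 in
/-- In dimension at least two, the pattern `(a, k a, b)` controls all third differences. -/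
theorem dif3_eq_zero (hP : ∀ (a b : V) (k : F), Ind2 F a b → dif3 T a (k • a) b = 0)
    (hI : ∀ a b c : V, Ind3 F a b c → dif3 T a b c = 0) (hdim : ∀ a : V, ∃ y, a ≠ 0 → Ind2 F a y)
    (a b c : V) : dif3 T a b c = 0 := by
  have lin : ∀ x y : V, Ind2 F x y → ∀ α β : F,
      dif2 T x (α • x + β • y) = dif2 T x (α • x) + dif2 T x (β • y) := by
    intro x y h α β
    rcases eq_or_ne β 0 with rfl | hβ
    · simp [dif2_zero h0]
    have := hP x (β • y) α (h.smul_right hβ)
    rwa [dif3, sub_sub, sub_eq_zero] at this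
  have addβ : ∀ x y : V, Ind2 F x y → ∀ β β' : F,
      dif2 T x ((β + β') • y) = dif2 T x (β • y) + dif2 T x (β' • y) := by
    intro x y h β β'
    rcases eq_or_ne β 0 with rfl | hβ
    · simp [dif2_zero h0]
    have := hP (β • y) x (β' / β) (h.symm.smul_left hβ)
    rw [smul_smul, div_mul_cancel₀ _ hβ, dif3_swap', dif3_swap, dif3, sub_sub, sub_eq_zero, ← add_smul] at this
    exact this
  have line : ∀ x y : V, Ind2 F x y → ∀ α α' : F, dif3 T x (α • x) (α' • x) = 0 := by
    intro x y h α α'
    have hl : ∀ l : F, dif3 T (l • x) y (α' • x - y) = 0 := by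
      intro l
      rw [dif3_swap, dif3, show l • x + (α' • x - y) = (-1 : F) • y + (l + α') • x by
          rw [add_smul, neg_one_smul]; abel,
        show α' • x - y = (-1 : F) • y + α' • x by rw [neg_one_smul]; abel,
        lin y x h.symm, lin y x h.symm, addβ y x h.symm]
      abel
    have e : α' • x = y + (α' • x - y) := by abel
    have h1 := hP x y α h
    have h2 := hP x (α' • x - y) α ⟨h.1, fun t ht => h.2 (α' - t) (by rw [sub_smul, ← ht]; abel)⟩
    rw [e, dif3_add, h1, h2, show x + α • x = (1 + α) • x by rw [add_smul, one_smul], hl, hl,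
      show dif3 T x y (α' • x - y) = dif3 T ((1 : F) • x) y (α' • x - y) by rw [one_smul], hl]
    abel
  have plane : ∀ x y : V, Ind2 F x y → ∀ α β α' β' : F,
      dif3 T x (α • x + β • y) (α' • x + β' • y) = 0 := by
    intro x y h α β α' β'
    have h3 := line x y h α α'
    rw [dif3, ← add_smul, sub_sub, sub_eq_zero] at h3
    rw [dif3, show α • x + β • y + (α' • x + β' • y) = (α + α') • x + (β + β') • y by
      rw [add_smul, add_smul]; abel, lin x y h, lin x y h, lin x y h, addβ x y h, h3]
    abel
  rcases eq_or_ne a 0 with rfl | ha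
  · simp [dif3, dif2, h0]
  by_cases hi : Ind3 F a b c
  · exact hI a b c hi
  by_cases hb : ∃ t : F, b = t • a
  · obtain ⟨t, rfl⟩ := hb
    by_cases hc : ∃ t : F, c = t • a
    · obtain ⟨t', rfl⟩ := hc
      obtain ⟨y, hy⟩ := hdim a
      exact line a y (hy ha) t t'
    · have := plane a c ⟨ha, fun s hs => hc ⟨s, hs⟩⟩ t 0 0 1
      simpa using this
  · have hab : Ind2 F a b := ⟨ha, fun s hs => hb ⟨s, hs⟩⟩
    have : ∃ s t : F, c = s • a + t • b := by
      by_contra hc
      exact hi ⟨hab, fun s t hs => hc ⟨s, t, hs⟩⟩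
    obtain ⟨s, t, rfl⟩ := this
    have := plane a b hab 0 1 s t
    simpa using this

include h0 hneg in
/-- In dimension at least three the pattern follows from the independent triples. -/
theorem dif3_pattern (hI : ∀ a b c : V, Ind3 F a b c → dif3 T a b c = 0)
    (hdim : ∀ a b : V, Ind2 F a b → ∃ u, Ind3 F a b u) (a b : V) (k : F) (hab : Ind2 F a b) :
    dif3 T a (k • a) b = 0 := by
  obtain ⟨u, hu⟩ := hdim a b hab
  rcases eq_or_ne k 0 with rfl | hk
  · simp [dif3, dif2_zero h0]
  rcases eq_or_ne k (-1) with rfl | hk1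
  · rw [neg_one_smul, dif3_swap', show -a = u + (-a - u) by abel, dif3_add]
    have e1 := hI a b u hu
    have e2 : dif3 T a b (-a - u) = 0 := hI _ _ _ ⟨hab, fun s t hs => hu.2 (-1 - s) (-t) (by
      rw [sub_smul, neg_one_smul, neg_smul]
      linear_combination (norm := abel) (-1 : ℤ) • hs)⟩
    have e3 : dif3 T (a + b) u (-a - u) = 0 := hI _ _ _ ⟨⟨fun h => hab.2 (-1) (by
        rw [neg_one_smul]; exact eq_neg_of_add_eq_zero_right h), fun t ht => hu.2 t t (by rw [ht, smul_add])⟩,
      fun s t hs => by
        rcases eq_or_ne s 0 with rfl | hs0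
        · rw [zero_smul, zero_add] at hs
          rcases eq_or_ne (1 + t) 0 with h1 | h1
          · rw [show t = -1 by linear_combination h1, neg_one_smul] at hs
            exact hab.1 (by linear_combination (norm := abel) (-1 : ℤ) • hs)
          · refine hu.2 (-(1 + t)⁻¹) 0 ?_
            have h' : (1 + t) • u = -a := by
              rw [add_smul, one_smul, ← hs]; abel
            rw [zero_smul, add_zero, neg_smul, ← smul_neg, ← h', smul_smul, inv_mul_cancel₀ h1, one_smul]
        · rcases eq_or_ne (t + 1) 0 with ht | ht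
          · refine hab.2 (-(1 + s) / s) ?_
            rw [show t = -1 by linear_combination ht, neg_one_smul] at hs
            have h' : s • b = (-(1 + s)) • a := by
              rw [neg_smul, add_smul, one_smul]
              linear_combination (norm := module) (-1 : ℤ) • hs
            rw [div_eq_inv_mul, ← smul_smul, ← h', smul_smul, inv_mul_cancel₀ hs0, one_smul]
          · refine hu.2 (-(1 + s) / (t + 1)) (-s / (t + 1)) ?_
            have h' : (t + 1) • u = (-(1 + s)) • a + (-s) • b := by
              rw [neg_smul, neg_smul, add_smul, add_smul, one_smul, one_smul]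
              linear_combination (norm := module) (-1 : ℤ) • hs
            rw [div_eq_inv_mul, div_eq_inv_mul, ← smul_smul, ← smul_smul, ← smul_add, ← h', smul_smul,
              inv_mul_cancel₀ ht, one_smul]⟩
    have e4 : dif3 T a u (-a - u) = 0 := by
      rw [show -a - u = -(a + u) by abel]; exact dif3_sum h0 hneg a u
    have e5 : dif3 T b u (-a - u) = 0 := hI _ _ _ ⟨hu.rot.1, fun s t hs => by
      rcases eq_or_ne (1 + t) 0 with h1 | h1
      · have hb' : s • b = -a := by
          rw [show t = -1 by linear_combination h1, neg_one_smul] at hs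
          linear_combination (norm := abel) (-1 : ℤ) • hs
        rcases eq_or_ne s 0 with rfl | hs0
        · exact hab.1 (by simpa using hb'.symm)
        · exact hab.2 (-s⁻¹) (by rw [neg_smul, ← smul_neg, ← hb', smul_smul, inv_mul_cancel₀ hs0, one_smul])
      · refine hu.2 (-(1 + t)⁻¹) (-(s / (1 + t))) ?_
        have h' : (1 + t) • u = -a + (-s) • b := by
          rw [add_smul, one_smul, neg_smul]
          linear_combination (norm := abel) (-1 : ℤ) • hs
        rw [div_eq_inv_mul, ← mul_neg, ← smul_smul, neg_smul, ← smul_neg, ← smul_add, ← h', smul_smul,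
          inv_mul_cancel₀ h1, one_smul]⟩
    rw [e1, e2, e3, e4, e5]
    abel
  -- the generic multiple
  have h1k : 1 + k ≠ 0 := fun h => hk1 (by linear_combination h)
  have key : ∀ l : F, l ≠ 0 → dif2 T b (l • a + u) = dif2 T b (l • a) + dif2 T b u := by
    intro l hl
    have : dif3 T b (l • a) u = 0 := hI _ _ _ ⟨hab.symm.smul_right hl, fun s t hs =>
      hu.2 (t * l) s (by rw [hs, smul_smul]; abel)⟩
    rwa [dif3, sub_sub, sub_eq_zero] at this
  have e1 : dif3 T b a (k • a + u) = 0 := hI _ _ _ ⟨hab.symm, fun s t hs =>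
    hu.2 (t - k) s (by rw [sub_smul]; linear_combination (norm := abel) (1 : ℤ) • hs)⟩
  rw [dif3, show a + (k • a + u) = (1 + k) • a + u by rw [add_smul, one_smul]; abel, key _ h1k, key k hk] at e1
  rw [dif3_swap', dif3_swap, dif3, show a + k • a = (1 + k) • a by rw [add_smul, one_smul], ← e1]
  abel

end Diff

section Herm

variable {F : Type*} [Field F] [Fintype F] {q : ℕ} (hF : Fintype.card F = q ^ 2) {m : ℕ}
variable {A : Type*} [AddCommGroup A]

local notation "σ" => qFrob hF

/-- The Hermitian matrix of a pair. -/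
def hv (v w : Fin m → F) : Matrix (Fin m) (Fin m) F :=
  vecMulVec v (fun i => σ (w i)) + vecMulVec w (fun i => σ (v i))

/-- A symmetric symbol with the twisted linearity. -/
structure Sesq (B : (Fin m → F) → (Fin m → F) → A) : Prop where
  addl : ∀ u v w, B (u + v) w = B u w + B v w
  symm : ∀ v w, B v w = B w v
  scal : ∀ (k : F) v w, B (k • v) w = B v (σ k • w)

variable {hF} {B : (Fin m → F) → (Fin m → F) → A} (S : Sesq hF B)

include S

theorem Sesq.addr (u v w : Fin m → F) : B u (v + w) = B u v + B u w := by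
  rw [S.symm, S.addl, S.symm v, S.symm w]

theorem Sesq.zero (w : Fin m → F) : B 0 w = 0 := by
  have := S.addl 0 0 w
  rw [add_zero] at this
  exact left_eq_add.1 this

theorem Sesq.zero' (w : Fin m → F) : B w 0 = 0 := by rw [S.symm, S.zero]

/-- The symbol as a homomorphism in the first variable. -/
def Sesq.homl (w : Fin m → F) : (Fin m → F) →+ A := AddMonoidHom.mk' (fun v => B v w) fun u v => S.addl u v w

/-- The symbol as a homomorphism in the second variable. -/
def Sesq.homr (v : Fin m → F) : (Fin m → F) →+ A := AddMonoidHom.mk' (fun w => B v w) fun u w => S.addr v u w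

/-- The map on matrices. -/
def Sesq.toHom (k : F) : Matrix (Fin m) (Fin m) F →+ A :=
  AddMonoidHom.mk' (fun M => ∑ a, ∑ b, B (Pi.single a (k * M a b)) (Pi.single b 1)) fun M N => by
    simp only [Matrix.add_apply, mul_add, Pi.single_add, S.addl, Finset.sum_add_distrib]

theorem Sesq.toHom_apply (k : F) (M : Matrix (Fin m) (Fin m) F) :
    S.toHom k M = ∑ a, ∑ b, B (Pi.single a (k * M a b)) (Pi.single b 1) := rfl

theorem Sesq.toHom_rank (k : F) (v w : Fin m → F) :
    S.toHom k (vecMulVec v fun i => σ (w i)) = B (k • v) w := by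
  rw [S.toHom_apply]
  calc ∑ a, ∑ b, B (Pi.single a (k * (v a * σ (w b)))) (Pi.single b 1)
      = ∑ a, ∑ b, B (Pi.single a (k * v a)) (Pi.single b (w b)) := by
        refine Finset.sum_congr rfl fun a _ => Finset.sum_congr rfl fun b _ => ?_
        rw [show Pi.single a (k * (v a * σ (w b))) = σ (w b) • (Pi.single a (k * v a) : Fin m → F) by
          rw [← Pi.single_smul, smul_eq_mul]; congr 1; ring,
          S.scal, qFrob_qFrob hF, ← Pi.single_smul, smul_eq_mul, mul_one]
    _ = B (∑ a, Pi.single a (k * v a)) (∑ b, Pi.single b (w b)) := by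
        show _ = S.homl _ _
        rw [map_sum]
        refine Finset.sum_congr rfl fun a _ => ?_
        show _ = S.homr _ _
        rw [map_sum]
        rfl
    _ = B (k • v) w := by
        exact congrArg₂ B (Finset.univ_sum_single (k • v)) (Finset.univ_sum_single w)

theorem Sesq.toHom_hv {k : F} (hk : k + σ k = 1) (v w : Fin m → F) : S.toHom k (hv hF v w) = B v w := by
  rw [hv, map_add, S.toHom_rank, S.toHom_rank, S.scal k w, S.symm w, ← S.addl]
  conv_rhs => rw [← one_smul F v, ← hk, add_smul]

omit S

include hF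

/-- Hermitian matrices are sums of those of pairs. -/
theorem herm_sum {k : F} (hk : k + σ k = 1) {M : Matrix (Fin m) (Fin m) F} (hM : ∀ a b, σ (M b a) = M a b) :
    M = ∑ a, ∑ b, hv hF (Pi.single a (k * M a b)) (Pi.single b 1) := by
  ext i j
  have hσ : ∀ (c : Fin m) (x : F) (y : Fin m), σ ((Pi.single c x : Fin m → F) y) =
      (Pi.single c (σ x) : Fin m → F) y := fun c x y => Pi.apply_single (fun _ => σ) (fun _ => map_zero _) c x y
  simp only [Matrix.sum_apply, hv, Matrix.add_apply, vecMulVec_apply, hσ, map_one]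
  rw [Finset.sum_congr rfl fun a _ => Finset.sum_add_distrib, Finset.sum_add_distrib]
  simp only [Pi.single_apply, mul_ite, ite_mul, mul_zero, zero_mul, mul_one, one_mul, map_mul, hM]
  rw [Finset.sum_comm (s := Finset.univ) (t := Finset.univ) (f := fun a b => if j = a then if i = b then σ k * M b a else 0 else 0)]
  simp only [Finset.sum_ite_eq, Finset.mem_univ, if_true]
  rw [← add_mul, hk, one_mul]

end Herm

end Cfsg.Agent.Lie.UnPres
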