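import Cfsg.Agent.Lib.Lie.UnPresModel
import Cfsg.Agent.Lib.Lie.UnPresSL

/-!
Images in the frame group: how the Weyl elements and the torus act on the Levi factor and on the
unipotent radical.
-/

set_option autoImplicit false
set_option linter.unusedSectionVars false

namespace Cfsg.Agent.Lie.UnPres

open Matrix Cfsg.Agent.Classical Cfsg.Agent.Classical.PSUAut
open Cfsg.Agent.Lie.SpnPres (sval_mul sval_one sval_mul_inv sval_inv_mul)

variable {F : Type*} [Field F] [Fintype F] {q : ℕ} (hF : Fintype.card F = q ^ 2) {m ε : ℕ}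

local notation "σ" => qFrob hF

include hF

section Weyl

variable {μ z : F} (hW : WOK hF μ z ε)

theorem Pd_sq (S : Finset (Fin m)) : Pd hF S * Pd hF S = Pd hF S := by rw [Pd_mul, Finset.inter_self]

theorem Pd_single_eq (b : Fin m) : Pd hF {b} = Matrix.single b b 1 := by
  ext i j
  rcases eq_or_ne i j with rfl | h
  · rcases eq_or_ne i b with rfl | h' <;> simp [Pd, Matrix.single_apply, *]
    exact fun e => h' e.symm
  · simp only [Pd, Matrix.diagonal_apply_ne _ h, Matrix.single_apply]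
    rw [if_neg]
    rintro ⟨rfl, rfl⟩
    exact h rfl

include hW in
theorem WOK.z_ne : z ≠ 0 := left_ne_zero_of_mul (hW.norm ▸ one_ne_zero)

include hW in
theorem WOK.inv_z : σ z⁻¹ = z := by
  rw [map_inv₀]
  exact inv_eq_of_mul_eq_one_left hW.norm

omit hF in
theorem sval_inv_of {A : SpecialLinearGroup (Fin m) F} {R : Matrix (Fin m) (Fin m) F} (hA : A.1 = 1 + R)
    (hR : R * R = 0) : (A⁻¹).1 = 1 - R := by
  calc (A⁻¹).1 = (A⁻¹).1 * (A.1 * (1 - R)) := by
        rw [hA, Matrix.add_mul, Matrix.one_mul, Matrix.mul_sub, Matrix.mul_one, hR, sub_zero, sub_add_cancel,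
          Matrix.mul_one]
    _ = _ := by rw [← Matrix.mul_assoc, sval_inv_mul, Matrix.one_mul]

variable {b : Fin m} {R : Matrix (Fin m) (Fin m) F}

theorem sq_zero_of (h1 : R * Pd hF {b} = R) (h2 : Pd hF {b} * R = 0) : R * R = 0 := by
  rw [← h1, Matrix.mul_assoc, ← Matrix.mul_assoc (Pd hF {b}), h2, Matrix.zero_mul, Matrix.mul_zero]

theorem ct_of (h1 : R * Pd hF {b} = R) (h2 : Pd hF {b} * R = 0) :
    Pd hF {b} * ct hF R = ct hF R ∧ ct hF R * Pd hF {b} = 0 := by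
  constructor
  · have := congrArg (ct hF) h1
    rwa [ct_mul, ct_Pd] at this
  · have := congrArg (ct hF) h2
    rwa [ct_mul, ct_Pd, ct_zero] at this

theorem pairZ_ok (s : F) (hs : s ≠ 0) (R : Matrix (Fin m) (Fin m) F) :
    UOK hF (0 : Matrix (Fin m) (Fin ε) F) (s⁻¹ • R - (σ s)⁻¹ • ct hF R) := by
  rw [UOK, Matrix.zero_mul, add_zero, sub_eq_add_neg, ct_add, ct_neg, ct_smul, ct_smul, ct_ct, map_inv₀,
    map_inv₀, qFrob_qFrob hF]
  abel

/-- A transvection into a coordinate goes to the radical. -/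
theorem wH_lev (A : SpecialLinearGroup (Fin m) F) (hA : A.1 = 1 + R) (h1 : R * Pd hF {b} = R)
    (h2 : Pd hF {b} * R = 0) :
    wH hF hW b * lev hF ε A * (wH hF hW b)⁻¹ = uH hF 0 (μ⁻¹ • R - (σ μ)⁻¹ • ct hF R) := by
  obtain ⟨h3, h4⟩ := ct_of hF h1 h2
  have hi := sval_inv_of hA (sq_zero_of hF h1 h2)
  rw [mul_inv_eq_iff_eq_mul]
  refine hext ?_
  rw [hval_mul, hval_mul, wH_val, lev_val, uH_val hF (pairZ_ok hF μ hW.ne R)]
  simp only [wMat, levM, uMat, hA, hi, sub_eq_add_neg, ct_add, ct_neg, ct_one, ct_zero, fromBlocks_multiply,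
    fromRows_zero, fromCols_zero, neg_zero, Matrix.mul_zero, Matrix.zero_mul, Matrix.mul_one, Matrix.one_mul,
    add_zero, zero_add, Matrix.add_mul, Matrix.mul_add, Matrix.neg_mul, Matrix.mul_neg, Matrix.smul_mul,
    Matrix.mul_smul, smul_smul, h1, h2, h3, h4, inv_mul_cancel₀ hW.ne, mul_inv_cancel₀ hW.ne, one_smul,
    smul_zero, neg_neg, smul_add, smul_neg]
  congr 1
  congr 1 <;> abel

/-- The radical at a coordinate goes back to the transvections. -/
theorem wH_pair (A : SpecialLinearGroup (Fin m) F) (hA : A.1 = 1 + R) (h1 : R * Pd hF {b} = R)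
    (h2 : Pd hF {b} * R = 0) :
    wH hF hW b * uH hF 0 ((σ μ)⁻¹ • R - μ⁻¹ • ct hF R) * (wH hF hW b)⁻¹ = lev hF ε A := by
  obtain ⟨h3, h4⟩ := ct_of hF h1 h2
  have hi := sval_inv_of hA (sq_zero_of hF h1 h2)
  have hμ' : σ μ ≠ 0 := (map_ne_zero (qFrob hF)).2 hW.ne
  have hok := pairZ_ok (ε := ε) hF (σ μ) hμ' R
  rw [qFrob_qFrob hF] at hok
  rw [mul_inv_eq_iff_eq_mul]
  refine hext ?_
  rw [hval_mul, hval_mul, wH_val, lev_val, uH_val hF hok]
  simp only [wMat, levM, uMat, hA, hi, sub_eq_add_neg, ct_add, ct_neg, ct_one, ct_zero, fromBlocks_multiply,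
    fromRows_zero, fromCols_zero, neg_zero, Matrix.mul_zero, Matrix.zero_mul, Matrix.mul_one, Matrix.one_mul,
    add_zero, zero_add, Matrix.add_mul, Matrix.mul_add, Matrix.neg_mul, Matrix.mul_neg, Matrix.smul_mul,
    Matrix.mul_smul, smul_smul, h1, h2, h3, h4, inv_mul_cancel₀ hW.ne, mul_inv_cancel₀ hW.ne,
    inv_mul_cancel₀ hμ', mul_inv_cancel₀ hμ', one_smul, smul_zero, neg_neg, smul_add, smul_neg]
  congr 1
  congr 1 <;> abel

/-- Away from its coordinate a Weyl element scales the middle. -/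
theorem wH_uH {v : Matrix (Fin m) (Fin ε) F} {Z : Matrix (Fin m) (Fin m) F} (hok : UOK hF v Z)
    (hv : Pd hF {b} * v = 0) (hZ : Pd hF {b} * Z = 0) (hZ' : Z * Pd hF {b} = 0) :
    UOK hF (z⁻¹ • v) Z ∧ wH hF hW b * uH hF v Z * (wH hF hW b)⁻¹ = uH hF (z⁻¹ • v) Z := by
  have hok' : UOK hF (z⁻¹ • v) Z := by
    rw [UOK, ct_smul, Matrix.smul_mul, Matrix.mul_smul, smul_smul, hW.inv_z, inv_mul_cancel₀ (hW.z_ne hF), one_smul]
    exact hok
  refine ⟨hok', ?_⟩
  have hv' : ct hF v * Pd hF {b} = 0 := by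
    have := congrArg (ct hF) hv
    rwa [ct_mul, ct_Pd, ct_zero] at this
  rw [mul_inv_eq_iff_eq_mul]
  refine hext ?_
  rw [hval_mul, hval_mul, wH_val, uH_val hF hok, uH_val hF hok']
  simp only [wMat, uMat, Finset.card_singleton, pow_one, fromBlocks_multiply, fromBlocks_mul_fromRows,
    fromCols_mul_fromBlocks, fromRows_mul, mul_fromCols, Matrix.mul_zero, Matrix.zero_mul, Matrix.mul_one,
    Matrix.one_mul, add_zero, zero_add, Matrix.mul_neg, Matrix.neg_mul, Matrix.smul_mul, Matrix.mul_smul,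
    ct_smul, hW.inv_z, sub_eq_add_neg, Matrix.add_mul, Matrix.mul_add, hv, hv', hZ, hZ', neg_zero, smul_zero,
    smul_neg, smul_smul, mul_inv_cancel₀ (hW.z_ne hF), inv_mul_cancel₀ (hW.z_ne hF), one_smul, fromRows_zero,
    fromCols_zero]
  congr 1
  · congr 1 <;> abel
  · ext (i | i) j <;> simp [mul_inv_cancel_left₀ (hW.z_ne hF), inv_mul_cancel_left₀ (hW.z_ne hF)]
  · ext i (j | j) <;> simp [mul_inv_cancel_left₀ (hW.z_ne hF), inv_mul_cancel_left₀ (hW.z_ne hF)]

/-- Conjugating a Weyl element to another coordinate. -/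
theorem lev_wH {k : ℕ} {g : SpecialLinearGroup (Fin (k + 2)) F} {b : Fin (k + 2)} (hg : Keep g b) :
    lev hF ε g * wH hF hW 0 * (lev hF ε g)⁻¹ = wH hF hW b := by
  have e1 : g.1 * Pd hF {0} = Matrix.single b 0 1 := by
    rw [Pd_single_eq]
    ext i j
    have := congrFun hg.1 i
    rcases eq_or_ne j 0 with rfl | hj
    · rw [Matrix.mul_single_apply_same, mul_one]
      simpa [Matrix.single_apply, Pi.single_apply, eq_comm] using this
    · rw [Matrix.mul_single_apply_of_ne (hbj := hj), Matrix.single_apply, if_neg fun e => hj e.2.symm]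
  have e2 : Pd hF {b} * g.1 = Matrix.single b 0 1 := by
    rw [Pd_single_eq]
    ext i j
    rcases eq_or_ne i b with rfl | hi
    · rw [Matrix.single_mul_apply_same, one_mul, Matrix.single_apply]
      rcases eq_or_ne j 0 with rfl | hj
      · simpa using congrFun hg.1 i
      · rw [hg.2 j hj, if_neg fun e => hj e.2.symm]
    · rw [Matrix.single_mul_apply_of_ne (h := hi), Matrix.single_apply, if_neg fun e => hi e.1.symm]
  have e3 : Pd hF {0} * (g⁻¹).1 = Matrix.single 0 b 1 := by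
    have h : Matrix.single (0 : Fin (k + 2)) b (1 : F) * g.1 = Pd hF {0} := by
      rw [show Matrix.single (0 : Fin (k + 2)) b (1 : F) = Matrix.single 0 b 1 * Pd hF {b} by
        rw [Pd_single_eq, Matrix.single_mul_single_same, one_mul], Matrix.mul_assoc, e2,
        Matrix.single_mul_single_same, one_mul, Pd_single_eq]
    rw [← h, Matrix.mul_assoc, sval_mul_inv, Matrix.mul_one]
  have e4 : (g⁻¹).1 * Pd hF {b} = Matrix.single 0 b 1 := by
    have h : g.1 * Matrix.single (0 : Fin (k + 2)) b (1 : F) = Pd hF {b} := by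
      rw [show Matrix.single (0 : Fin (k + 2)) b (1 : F) = Pd hF {0} * Matrix.single 0 b 1 by
        rw [Pd_single_eq, Matrix.single_mul_single_same, one_mul], ← Matrix.mul_assoc, e1,
        Matrix.single_mul_single_same, one_mul, Pd_single_eq]
    rw [← h, ← Matrix.mul_assoc, sval_inv_mul, Matrix.one_mul]
  have hs : ct hF (Matrix.single (0 : Fin (k + 2)) b (1 : F)) = Matrix.single b 0 1 := by
    ext i j
    simp [ct_apply, Matrix.single_apply, apply_ite (qFrob hF), and_comm]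
  have e3' : ct hF (g⁻¹).1 * Pd hF {0} = Matrix.single b 0 1 := by
    have := congrArg (ct hF) e3
    rwa [ct_mul, ct_Pd, hs] at this
  have e4' : Pd hF {b} * ct hF (g⁻¹).1 = Matrix.single b 0 1 := by
    have := congrArg (ct hF) e4
    rwa [ct_mul, ct_Pd, hs] at this
  rw [mul_inv_eq_iff_eq_mul]
  refine hext ?_
  rw [hval_mul, hval_mul, wH_val, wH_val, lev_val]
  simp only [wMat, levM, Finset.card_singleton, pow_one, fromBlocks_multiply, Matrix.mul_zero, Matrix.zero_mul,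
    Matrix.mul_one, Matrix.one_mul, add_zero, zero_add, Matrix.smul_mul, Matrix.mul_smul, Matrix.mul_sub,
    Matrix.sub_mul, e1, e2, e3', e4', smul_zero, sub_zero, zero_sub, sub_self, zero_add, add_zero]

theorem wMat_univ : wMat hF μ z ε (Finset.univ : Finset (Fin m)) =
    fromBlocks (fromBlocks 0 ((σ μ)⁻¹ • 1) (μ • 1) 0) 0 0 (z ^ m • 1) := by
  have h : Pd hF (Finset.univ : Finset (Fin m)) = 1 := by simp [Pd]
  rw [wMat, h, sub_self, Finset.card_univ, Fintype.card_fin]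

/-- The contragredient twisted by the field automorphism. -/
def tct : SpecialLinearGroup (Fin m) F →* SpecialLinearGroup (Fin m) F where
  toFun A := ⟨ct hF (A⁻¹).1, by rw [det_ct, (A⁻¹).2, map_one]⟩
  map_one' := Subtype.ext (by simp [ct_one])
  map_mul' A B := Subtype.ext (by
    show ct hF ((A * B)⁻¹).1 = ct hF (A⁻¹).1 * ct hF (B⁻¹).1
    rw [_root_.mul_inv_rev, sval_mul, ct_mul])

theorem tct_val (A : SpecialLinearGroup (Fin m) F) : (tct hF A).1 = ct hF (A⁻¹).1 := rfl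

theorem tct_inv_val (A : SpecialLinearGroup (Fin m) F) : ((tct hF A)⁻¹).1 = ct hF A.1 := by
  rw [← map_inv, tct_val, inv_inv]

theorem tct_tct (A : SpecialLinearGroup (Fin m) F) : tct hF (tct hF A) = A :=
  Subtype.ext (by rw [tct_val, tct_inv_val, ct_ct])

/-- All Weyl elements together turn the Levi factor over. -/
theorem wAll_lev {J : Hgrp hF m ε} (hJ : hval J = wMat hF μ z ε Finset.univ)
    (A : SpecialLinearGroup (Fin m) F) : J * lev hF ε A * J⁻¹ = lev hF ε (tct hF A) := by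
  rw [mul_inv_eq_iff_eq_mul]
  refine hext ?_
  rw [hval_mul, hval_mul, hJ, lev_val, lev_val, wMat_univ]
  simp only [levM, tct_val, tct_inv_val, ct_ct, fromBlocks_multiply, Matrix.mul_zero, Matrix.zero_mul,
    Matrix.mul_one, Matrix.one_mul, add_zero, zero_add, Matrix.smul_mul, Matrix.mul_smul, smul_zero]

end Weyl

section Torus

variable [NeZero m]

/-- The diagonal matrix of a torus element on the first coordinate. -/
def tD (_hF : Fintype.card F = q ^ 2) (l : F) : Matrix (Fin m) (Fin m) F :=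
  Matrix.diagonal (Function.update 1 0 l)

/-- A torus element of the first coordinate. -/
def TorusAt (g : Hgrp hF m ε) : Prop :=
  ∃ l y : F, l ≠ 0 ∧ y * σ y = 1 ∧ hval g = fromBlocks (fromBlocks (tD hF l) 0 0 (tD hF (σ l)⁻¹)) 0 0 (y • 1)

theorem tD_mul (l l' : F) : (tD hF l : Matrix (Fin m) (Fin m) F) * tD hF l' = tD hF (l * l') := by
  rw [tD, tD, tD, Matrix.diagonal_mul_diagonal]
  congr 1
  funext i
  rcases eq_or_ne i 0 with rfl | h <;> simp [*]

theorem tD_one : (tD hF 1 : Matrix (Fin m) (Fin m) F) = 1 := by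
  rw [tD, ← Matrix.diagonal_one]
  congr 1
  funext i
  rcases eq_or_ne i 0 with rfl | h <;> simp [*]

theorem tD_det (l : F) : (tD hF l : Matrix (Fin m) (Fin m) F).det = l := det_updateDiag hF 0 l

theorem ct_tD (l : F) : ct hF (tD hF l : Matrix (Fin m) (Fin m) F) = tD hF (σ l) := by
  ext i j
  rcases eq_or_ne i j with rfl | h
  · rcases eq_or_ne i 0 with rfl | h' <;> simp [ct_apply, tD, *]
  · simp [ct_apply, tD, h, h.symm]

theorem TorusAt.one : TorusAt hF (1 : Hgrp hF m ε) :=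
  ⟨1, 1, one_ne_zero, by rw [map_one, one_mul], by
    rw [map_one, inv_one, tD_one, one_smul, fromBlocks_one, fromBlocks_one, hval_one]⟩

theorem TorusAt.mul {g h : Hgrp hF m ε} (hg : TorusAt hF g) (hh : TorusAt hF h) : TorusAt hF (g * h) := by
  obtain ⟨l, y, hl, hy, eg⟩ := hg
  obtain ⟨l', y', hl', hy', eh⟩ := hh
  refine ⟨l * l', y * y', mul_ne_zero hl hl', by rw [map_mul]; linear_combination y' * σ y' * hy + hy', ?_⟩
  rw [hval_mul, eg, eh]
  simp only [fromBlocks_multiply, Matrix.mul_zero, Matrix.zero_mul, add_zero, zero_add, tD_mul,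
    Matrix.smul_mul, Matrix.one_mul, smul_smul, map_mul, mul_inv]

theorem TorusAt.inv {g : Hgrp hF m ε} (hg : TorusAt hF g) : TorusAt hF g⁻¹ := by
  obtain ⟨l, y, hl, hy, eg⟩ := hg
  have hy0 : y ≠ 0 := left_ne_zero_of_mul (hy ▸ one_ne_zero)
  refine ⟨l⁻¹, y⁻¹, inv_ne_zero hl, by rw [map_inv₀, ← mul_inv, hy, inv_one], ?_⟩
  have e : hval g * fromBlocks (fromBlocks (tD hF l⁻¹) 0 0 (tD hF (σ l⁻¹)⁻¹)) 0 0 (y⁻¹ • 1) = 1 := by
    rw [eg]
    simp only [fromBlocks_multiply, Matrix.mul_zero, Matrix.zero_mul, add_zero, zero_add, tD_mul,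
      Matrix.smul_mul, Matrix.one_mul, smul_smul, map_inv₀, mul_inv_cancel₀ hl, mul_inv_cancel₀ hy0,
      ← mul_inv, mul_inv_cancel₀ ((map_ne_zero (qFrob hF)).2 hl), inv_one, tD_one, one_smul, fromBlocks_one]
  calc hval g⁻¹ = hval g⁻¹ * (hval g * fromBlocks (fromBlocks (tD hF l⁻¹) 0 0 (tD hF (σ l⁻¹)⁻¹)) 0 0 (y⁻¹ • 1)) := by
        rw [e, Matrix.mul_one]
    _ = _ := by rw [← Matrix.mul_assoc, ← hval_mul, inv_mul_cancel, hval_one, Matrix.one_mul]

theorem TorusAt.lev_conj {g : Hgrp hF m ε} (hg : TorusAt hF g) (A : SpecialLinearGroup (Fin m) F) :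
    ∃ A', g * lev hF ε A * g⁻¹ = lev hF ε A' := by
  obtain ⟨l, y, hl, hy, eg⟩ := hg
  have hl' : σ l ≠ 0 := (map_ne_zero (qFrob hF)).2 hl
  refine ⟨⟨tD hF l * A.1 * tD hF l⁻¹, by rw [det_mul, det_mul, tD_det, tD_det, A.2, mul_one, mul_inv_cancel₀ hl]⟩, ?_⟩
  set A' : SpecialLinearGroup (Fin m) F := ⟨tD hF l * A.1 * tD hF l⁻¹, _⟩
  have hA' : (A'⁻¹).1 = tD hF l * (A⁻¹).1 * tD hF l⁻¹ := by
    have e : A'.1 * (tD hF l * (A⁻¹).1 * tD hF l⁻¹) = 1 := by
      show tD hF l * A.1 * tD hF l⁻¹ * (tD hF l * (A⁻¹).1 * tD hF l⁻¹) = 1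
      simp only [Matrix.mul_assoc]
      rw [← Matrix.mul_assoc (tD hF l⁻¹) (tD hF l), tD_mul, inv_mul_cancel₀ hl, tD_one, Matrix.one_mul,
        ← Matrix.mul_assoc A.1, sval_mul_inv, Matrix.one_mul, tD_mul, mul_inv_cancel₀ hl, tD_one]
    calc (A'⁻¹).1 = (A'⁻¹).1 * (A'.1 * (tD hF l * (A⁻¹).1 * tD hF l⁻¹)) := by rw [e, Matrix.mul_one]
      _ = _ := by rw [← Matrix.mul_assoc, sval_inv_mul, Matrix.one_mul]
  rw [mul_inv_eq_iff_eq_mul]
  refine hext ?_
  rw [hval_mul, hval_mul, lev_val, lev_val, eg]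
  simp only [levM, hA', ct_mul, ct_tD, map_inv₀, fromBlocks_multiply, Matrix.mul_zero, Matrix.zero_mul,
    add_zero, zero_add, Matrix.mul_one, Matrix.one_mul]
  congr 1
  congr 1
  · show (tD hF l : Matrix (Fin m) (Fin m) F) * A.1 = tD hF l * A.1 * tD hF l⁻¹ * tD hF l
    rw [Matrix.mul_assoc _ (tD hF l⁻¹), tD_mul, inv_mul_cancel₀ hl, tD_one, Matrix.mul_one]
  · simp only [Matrix.mul_assoc]
    rw [tD_mul, mul_inv_cancel₀ hl', tD_one, Matrix.mul_one]

theorem TorusAt.uH_conj {g : Hgrp hF m ε} (hg : TorusAt hF g) :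
    ∃ l y : F, l ≠ 0 ∧ ∀ (v : Matrix (Fin m) (Fin ε) F) (Z : Matrix (Fin m) (Fin m) F), UOK hF v Z → UOK hF (y⁻¹ • ((tD hF l : Matrix (Fin m) (Fin m) F) * v)) ((tD hF l : Matrix (Fin m) (Fin m) F) * Z * tD hF (σ l)) ∧
      g * uH hF v Z * g⁻¹ = uH hF (y⁻¹ • ((tD hF l : Matrix (Fin m) (Fin m) F) * v)) ((tD hF l : Matrix (Fin m) (Fin m) F) * Z * tD hF (σ l)) := by
  obtain ⟨l, y, hl, hy, eg⟩ := hg
  have hy0 : y ≠ 0 := left_ne_zero_of_mul (hy ▸ one_ne_zero)
  have hl' : σ l ≠ 0 := (map_ne_zero (qFrob hF)).2 hl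
  have hyi : σ y⁻¹ = y := by rw [map_inv₀]; exact inv_eq_of_mul_eq_one_left hy
  refine ⟨l, y, hl, fun v Z hok => ?_⟩
  have hok' : UOK hF (y⁻¹ • ((tD hF l : Matrix (Fin m) (Fin m) F) * v)) ((tD hF l : Matrix (Fin m) (Fin m) F) * Z * tD hF (σ l)) := by
    have := hok.act hF (tD hF l)
    rw [ct_tD] at this
    rw [UOK, ct_smul, Matrix.smul_mul, Matrix.mul_smul, smul_smul, hyi, inv_mul_cancel₀ hy0, one_smul]
    exact this
  refine ⟨hok', ?_⟩
  rw [mul_inv_eq_iff_eq_mul]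
  refine hext ?_
  rw [hval_mul, hval_mul, uH_val hF hok, uH_val hF hok', eg]
  simp only [uMat, fromBlocks_multiply, fromBlocks_mul_fromRows, fromCols_mul_fromBlocks, fromRows_mul,
    mul_fromCols, Matrix.mul_zero, Matrix.zero_mul, add_zero, zero_add, Matrix.mul_one, Matrix.one_mul,
    Matrix.mul_neg, Matrix.neg_mul, Matrix.smul_mul, Matrix.mul_smul, ct_smul, ct_mul, ct_tD, smul_smul,
    smul_neg, neg_zero, smul_zero, hyi, mul_inv_cancel₀ hy0, inv_mul_cancel₀ hy0, one_smul]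
  congr 1
  · congr 1
    rw [Matrix.mul_assoc _ (tD hF (σ l)), tD_mul, mul_inv_cancel₀ hl', tD_one, Matrix.mul_one]
  · ext (i | i) j <;> simp [mul_inv_cancel_left₀ hy0]
  · have e : ct hF v * (tD hF (σ l) : Matrix (Fin m) (Fin m) F) * (tD hF (σ l)⁻¹ : Matrix (Fin m) (Fin m) F) = ct hF v := by
      rw [Matrix.mul_assoc, tD_mul, mul_inv_cancel₀ hl', tD_one, Matrix.mul_one]
    rw [e]
    ext i (j | j) <;> simp

theorem TorusAt.turn {μ z : F} (hW : WOK hF μ z ε) {J : Hgrp hF m ε}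
    (hJ : hval J = wMat hF μ z ε Finset.univ) {g : Hgrp hF m ε} (hg : TorusAt hF g) :
    TorusAt hF (J⁻¹ * g * J) := by
  obtain ⟨l, y, hl, hy, eg⟩ := hg
  have hl' : σ l ≠ 0 := (map_ne_zero (qFrob hF)).2 hl
  refine ⟨(σ l)⁻¹, y, inv_ne_zero hl', hy, ?_⟩
  have e : hval g * hval J = hval J *
      fromBlocks (fromBlocks (tD hF (σ l)⁻¹) 0 0 (tD hF (σ (σ l)⁻¹)⁻¹)) 0 0 (y • 1) := by
    rw [eg, hJ, wMat_univ, map_inv₀, qFrob_qFrob hF, inv_inv]
    simp only [fromBlocks_multiply, Matrix.mul_zero, Matrix.zero_mul, add_zero, zero_add, Matrix.mul_one,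
      Matrix.one_mul, Matrix.smul_mul, Matrix.mul_smul, smul_smul, mul_comm y, smul_zero]
  rw [hval_mul, hval_mul, Matrix.mul_assoc, e, ← Matrix.mul_assoc, ← hval_mul, inv_mul_cancel, hval_one,
    Matrix.one_mul]

end Torus

end Cfsg.Agent.Lie.UnPres
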