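import Cfsg.Agent.Lib.Lie.UnPresTop
import Cfsg.Agent.Lib.Lie.UnPresEvenThree
import Cfsg.Agent.Lib.Lie.UnPresEvenTwo

/-!
One element beside the Levi factor generates the frame group.
-/

set_option autoImplicit false
set_option linter.unusedSectionVars false

namespace Cfsg.Agent.Lie.UnPres

open Matrix Cfsg.Agent.Classical Cfsg.Agent.Classical.PSUAut
open Cfsg.Agent.Lie.SpnPres (sval_mul sval_one exists_col inv_mulVec)
open scoped commutatorElement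

variable {F : Type*} [Field F] [Fintype F] {q : ℕ} (hF : Fintype.card F = q ^ 2) {k m : ℕ}

local notation "σ" => qFrob hF
local notation "e₀" => (Pi.single (0 : Fin (k + 2)) (1 : F) : Fin (k + 2) → F)

include hF

/-- In even dimension the Levi factor and the Weyl element generate. -/
theorem even_top_one {μ ω lam : F} {eps c₀ : Fˣ} (E : EPar hF μ ω lam eps c₀) :
    (lev hF 0 : SpecialLinearGroup (Fin (k + 2)) F →* Hgrp hF (k + 2) 0).range ⊔
      Subgroup.closure {wH hF (EPar.wok hF E) 0} = ⊤ := by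
  set hW := EPar.wok hF E
  set K := (lev hF 0 : SpecialLinearGroup (Fin (k + 2)) F →* Hgrp hF (k + 2) 0).range ⊔
    Subgroup.closure {wH hF hW 0} with hK
  have hlev : ∀ A, lev hF 0 A ∈ K := fun A => Subgroup.mem_sup_left ⟨A, rfl⟩
  have hw : wH hF hW (0 : Fin (k + 2)) ∈ K := Subgroup.mem_sup_right (Subgroup.subset_closure rfl)
  have hμ := E.μt
  obtain ⟨k₁, hk₁⟩ := exists_trace_eq hF (a := (1 : F)) (map_one _)
  -- a pair value
  have hB : uH hF (0 : Matrix (Fin (k + 2)) (Fin 0) F) (μ • hv hF e₀ (Pi.single 1 1)) ∈ K := by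
    have h := wY_model (k := k) hF hW hμ (Pi.single 0 1)
    rw [mul_inv_eq_iff_eq_mul, ← eq_inv_mul_iff_mul_eq, cons_single, Fin.succ_zero_eq_one] at h
    rw [h]
    exact mul_mem (inv_mem hw) (mul_mem (hlev _) hw)
  have hpair : ∀ g : SpecialLinearGroup (Fin (k + 2)) F, ∀ y, g.1 *ᵥ Pi.single 1 1 = y →
      uH hF (0 : Matrix (Fin (k + 2)) (Fin 0) F) (μ • hv hF (g.1 *ᵥ e₀) y) ∈ K := by
    rintro g _ rfl
    have e : hv hF (g.1 *ᵥ e₀) (g.1 *ᵥ Pi.single 1 1) = g.1 * hv hF e₀ (Pi.single 1 1) * ct hF g.1 := by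
      simp only [hv_eq hF, ← Matrix.mulVec_add, vv_conj hF, Matrix.mul_sub, Matrix.sub_mul]
    have e' := lev_uH hF g (skew_ok hF (ε := 0) hμ (hv_herm hF e₀ (Pi.single 1 1)))
    rw [Matrix.mul_zero, Matrix.mul_smul, Matrix.smul_mul, ← e] at e'
    rw [← e']
    exact mul_mem (mul_mem (hlev g) hB) (inv_mem (hlev g))
  have hu : T₀ hF 0 μ e₀ ∈ K := by
    obtain ⟨g, hg0, hg1⟩ : ∃ g : SpecialLinearGroup (Fin (k + 2)) F,
        g.1 *ᵥ e₀ = e₀ ∧ g.1 *ᵥ Pi.single 1 1 = Pi.single 1 1 + k₁ • e₀ := by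
      refine ⟨rowE (Pi.single 0 k₁), rowE_fix _, ?_⟩
      rw [← Fin.succ_zero_eq_one, ← cons_single, rowE_cons, single_dotProduct, Pi.single_eq_same, mul_one]
      ext i
      cases i using Fin.cases <;> simp
    have h := hpair g _ hg1
    rw [hg0] at h
    have e : T₀ hF 0 μ e₀ = uH hF 0 (μ • hv hF e₀ (Pi.single 1 1 + k₁ • e₀)) *
        (uH hF (0 : Matrix (Fin (k + 2)) (Fin 0) F) (μ • hv hF e₀ (Pi.single 1 1)))⁻¹ := by
      rw [eq_mul_inv_iff_mul_eq, T₀, uH_skew_mul hF hμ (vv_herm hF _) (hv_herm hF _ _), vv_add_smul hF, hk₁,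
        one_smul, add_comm (vv hF e₀)]
    rw [e]
    exact mul_mem h (inv_mem hB)
  refine eq_top_iff.2 ((even_top hF E).ge.trans (sup_le le_sup_left ((Subgroup.closure_le _).2 ?_)))
  rintro x (rfl | rfl)
  exacts [hu, hw]

/-- The commutator of two elements of the radical. -/
theorem uH_comm_cv {v w : Fin m → F} {Z Z' : Matrix (Fin m) (Fin m) F} (hv : UOK hF (cv v) Z)
    (hw : UOK hF (cv w) Z') : ⁅uH hF (cv v) Z, uH hF (cv w) Z'⁆ = uH hF 0 (cz hF v w) := by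
  rw [commutatorElement_def, mul_inv_eq_iff_eq_mul, mul_inv_eq_iff_eq_mul,
    mul_assoc, uH_mul hF hw hv, uH_mul hF hv hw, uH_mul hF (cz_ok hF v w) (hw.mul hF hv), cv_ct, cv_ct, zero_add,
    Matrix.zero_mul, sub_zero, add_comm (cv w)]
  congr 1
  simp only [cz]
  abel

/-- The elements of the radical with a given vector. -/
def VP (g : Hgrp hF m 1) (v : Fin m → F) : Prop := ∃ Z, UOK hF (cv v) Z ∧ g = uH hF (cv v) Z

theorem VP.mul {g h : Hgrp hF m 1} {v w : Fin m → F} (hg : VP hF g v) (hh : VP hF h w) :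
    VP hF (g * h) (v + w) := by
  obtain ⟨Z, hZ, rfl⟩ := hg
  obtain ⟨Z', hZ', rfl⟩ := hh
  have := hZ.mul hF hZ'
  rw [← cv_add] at this
  exact ⟨_, this, by rw [uH_mul hF hZ hZ', cv_add]⟩

theorem VP.inv {g : Hgrp hF m 1} {v : Fin m → F} (hg : VP hF g v) : VP hF g⁻¹ (-v) := by
  obtain ⟨Z, hZ, rfl⟩ := hg
  have hn : cv (-v) = -cv v := rfl
  have hok : UOK hF (cv (-v)) (-Z - cv v * ct hF (cv v)) := by
    unfold UOK at *
    rw [hn, ct_neg, Matrix.neg_mul, Matrix.mul_neg, neg_neg, sub_eq_add_neg, ct_add, ct_neg, ct_neg, ct_mul, ct_ct]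
    linear_combination (norm := abel) -hZ
  refine ⟨_, hok, inv_eq_of_mul_eq_one_right ?_⟩
  rw [uH_mul hF hZ hok, hn, add_neg_cancel, ct_neg, Matrix.mul_neg,
    show Z + (-Z - cv v * ct hF (cv v)) - -(cv v * ct hF (cv v)) = 0 by abel, uH_zero]

theorem VP.phi {β : F} (hβ : β + σ β = -1) (v : Fin m → F) : VP hF (Φ₀ hF β v) v := ⟨_, cv_ok hF hβ v, rfl⟩

/-- In odd dimension the Levi factor and one element generate. -/
theorem odd_top_one {μ ω r β k₁ : F} (O : OPar hF μ ω r β k₁) :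
    (lev hF 1 : SpecialLinearGroup (Fin (k + 2)) F →* Hgrp hF (k + 2) 1).range ⊔
      Subgroup.closure {Φ₀ hF β e₀ * wH hF (wok_odd hF) 0} = ⊤ := by
  classical
  have hβ := O.hβt
  set K := (lev hF 1 : SpecialLinearGroup (Fin (k + 2)) F →* Hgrp hF (k + 2) 1).range ⊔
    Subgroup.closure {Φ₀ hF β e₀ * wH hF (wok_odd hF) 0} with hK
  have hlev : ∀ A, lev hF 1 A ∈ K := fun A => Subgroup.mem_sup_left ⟨A, rfl⟩
  have hx : Φ₀ hF β e₀ * wH hF (wok_odd hF) 0 ∈ K := Subgroup.mem_sup_right (Subgroup.subset_closure rfl)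
  set c : Fˣ := Units.mk0 ω O.prim.ne with hc
  set ν : Fˣ := nu hF c with hν
  set d : Hgrp hF (k + 2) 1 := lev hF 1 (dg c : SpecialLinearGroup (Fin (k + 2)) F) with hd
  set H : Hgrp hF (k + 2) 1 := d * wH hF (wok_odd hF) 0 * d⁻¹ * (wH hF (wok_odd hF) 0)⁻¹ with hH
  set a : Fin (k + 2) → F := (c : F) • e₀ with ha
  set b : Fin (k + 2) → F := (ν : F) • e₀ with hb
  have hsm : ∀ x : F, (Pi.single 0 x : Fin (k + 2) → F) = x • e₀ := fun x => by
    rw [← Pi.single_smul, smul_eq_mul, mul_one]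
  set P := Φ₀ hF β a * (Φ₀ hF β b)⁻¹ with hP
  -- the torus element times a radical element
  have hy : P * H ∈ K := by
    have e : d * (Φ₀ hF β e₀ * wH hF (wok_odd hF) 0) * d⁻¹ * (Φ₀ hF β e₀ * wH hF (wok_odd hF) 0)⁻¹ = P * H := by
      have e1 : d * Φ₀ hF β e₀ * d⁻¹ = Φ₀ hF β a := by rw [hd, Φ₀_conj hF hβ, dg_e0 hF, hsm]
      have e2 : H * Φ₀ hF β e₀ * H⁻¹ = Φ₀ hF β b := by
        rw [hH, hd, hc, hc_model_Φ₀ hF hβ, tD_single, if_pos rfl, mul_one, hsm]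
      calc _ = d * Φ₀ hF β e₀ * d⁻¹ * H * (Φ₀ hF β e₀)⁻¹ := by rw [hH]; group
        _ = P * H := by rw [e1, hP, ← e2]; group
    rw [← e]
    exact mul_mem (mul_mem (mul_mem (hlev _) hx) (inv_mem (hlev _))) (inv_mem hx)
  set A : SpecialLinearGroup (Fin (k + 2)) F := swp 1 0 with hA
  set B : SpecialLinearGroup (Fin (k + 2)) F := tcj hF ν A with hB
  have hz : Φ₀ hF β (B.1 *ᵥ a) * (Φ₀ hF β (B.1 *ᵥ b))⁻¹ * P⁻¹ ∈ K := by
    have hHl : H * lev hF 1 A * H⁻¹ = lev hF 1 B := by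
      rw [hH, hd, hB, hν]
      exact hc_model_lev hF (wok_odd hF) c A
    have e : lev hF 1 (B * A⁻¹) * (lev hF 1 A * (P * H) * (lev hF 1 A)⁻¹ * (P * H)⁻¹) =
        lev hF 1 B * P * (lev hF 1 B)⁻¹ * P⁻¹ := by
      rw [map_mul, map_inv, ← hHl]
      group
    have e' : lev hF 1 B * P * (lev hF 1 B)⁻¹ = Φ₀ hF β (B.1 *ᵥ a) * (Φ₀ hF β (B.1 *ᵥ b))⁻¹ := by
      rw [hP, ← Φ₀_conj hF hβ B a, ← Φ₀_conj hF hβ B b]
      group
    rw [← e', ← e]
    exact mul_mem (hlev _) (mul_mem (mul_mem (mul_mem (hlev _) hy) (inv_mem (hlev _))) (inv_mem hy))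
  set v := B.1 *ᵥ a + -(B.1 *ᵥ b) + -(a + -b) with hv
  obtain ⟨Z, hZ, ez⟩ : VP hF (Φ₀ hF β (B.1 *ᵥ a) * (Φ₀ hF β (B.1 *ᵥ b))⁻¹ * P⁻¹) v :=
    VP.mul hF (VP.mul hF (VP.phi hF hβ _) (VP.inv hF (VP.phi hF hβ _)))
      (VP.inv hF (VP.mul hF (VP.phi hF hβ _) (VP.inv hF (VP.phi hF hβ _))))
  rw [ez] at hz
  have hv0 : v ≠ 0 := by
    intro h
    have h0 := congrFun h 0
    have hB0 : ∀ x : F, (B.1 *ᵥ (x • e₀)) 0 = 0 := by
      intro x
      have h1 : (ν : F) • (B.1 *ᵥ e₀) = tD hF (ν : F) *ᵥ (A.1 *ᵥ e₀) := by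
        rw [hB, tcj_mulVec, tD_single, if_pos rfl, mul_one, hsm (ν : F), Matrix.mulVec_smul]
      rw [hA, swp_single (by simp), if_neg (by simp), if_pos rfl, tD_single, if_neg (by simp), one_mul] at h1
      have h2 := congrFun h1 0
      rw [Pi.smul_apply, Pi.single_eq_of_ne (by simp), smul_eq_mul] at h2
      rw [Matrix.mulVec_smul, Pi.smul_apply, (mul_eq_zero.1 h2).resolve_left ν.ne_zero, smul_zero]
    simp only [hv, ha, hb, Pi.add_apply, Pi.neg_apply, hB0, Pi.smul_apply, Pi.single_eq_same, smul_eq_mul,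
      mul_one, Pi.zero_apply] at h0
    have e1 : (c : F) * 1 = (c : F) * σ (c : F) := by
      rw [mul_one, ← nu_val hF, ← hν]
      linear_combination -h0
    have e2 : σ ω = 1 := (mul_left_cancel₀ c.ne_zero e1).symm
    have e3 : ω = 1 := by rw [← qFrob_qFrob hF ω, e2, map_one]
    have h1 : (q ^ 2 - 1) ∣ 1 := O.prim.ord 1 (by rw [pow_one, e3])
    have h2 := Nat.le_of_dvd one_pos h1
    have h3 : 2 ^ 2 ≤ q ^ 2 := Nat.pow_le_pow_left (two_le_q hF) 2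
    omega
  have hall : ∀ y : Fin (k + 2) → F, y ≠ 0 → ∃ Z, UOK hF (cv y) Z ∧ uH hF (cv y) Z ∈ K := by
    intro y hy0
    obtain ⟨g₁, hg₁⟩ := exists_col (n := k) 0 hv0
    obtain ⟨g₂, hg₂⟩ := exists_col (n := k) 0 hy0
    have hm : (g₂ * g₁⁻¹).1 *ᵥ v = y := by rw [← hg₁, sval_mul, ← Matrix.mulVec_mulVec, inv_mulVec, hg₂]
    have := mul_mem (mul_mem (hlev (g₂ * g₁⁻¹)) hz) (inv_mem (hlev (g₂ * g₁⁻¹)))
    rw [lev_uH hF _ hZ, cv_mul, hm] at this
    refine ⟨_, ?_, this⟩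
    have hh := hZ.act hF (g₂ * g₁⁻¹).1
    rwa [cv_mul, hm] at hh
  have he₀ : e₀ ≠ 0 := fun h => by simpa using congrFun h 0
  have hk0 : k₁ ≠ 0 := fun e => by
    have := O.hk₁
    rw [e, map_zero, add_zero] at this
    exact zero_ne_one this
  have hT : T₀ hF 1 μ e₀ ∈ K := by
    obtain ⟨Z₁, hZ₁, h₁⟩ := hall _ (smul_ne_zero hk0 he₀)
    obtain ⟨Z₂, hZ₂, h₂⟩ := hall _ (smul_ne_zero O.μ0 he₀)
    rw [T₀, ← cz_diag hF O.hk₁ O.μt, ← uH_comm_cv hF hZ₁ hZ₂, commutatorElement_def]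
    exact mul_mem (mul_mem (mul_mem h₁ h₂) (inv_mem h₁)) (inv_mem h₂)
  have hu : Φ₀ hF β e₀ ∈ K := by
    obtain ⟨Z₁, hZ₁, h₁⟩ := hall _ he₀
    have hsk : UOK hF (0 : Matrix (Fin (k + 2)) (Fin 1) F) (Z₁ - β • vv hF e₀) := by
      have h1 := cv_ok hF hβ e₀
      unfold UOK at *
      rw [Matrix.zero_mul, add_zero, sub_eq_add_neg, ct_add, ct_neg]
      linear_combination (norm := abel) hZ₁ - h1
    have e : uH hF (cv e₀) Z₁ = Φ₀ hF β e₀ * uH hF 0 (Z₁ - β • vv hF e₀) := by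
      rw [Φ₀, uH_mul hF (cv_ok hF hβ _) hsk, ct_zero, Matrix.mul_zero, sub_zero, add_zero, add_sub_cancel]
    rw [e] at h₁
    exact (Subgroup.mul_mem_cancel_right K (uH_mem_of_skew hF hlev O.μt O.μ0 hT hsk)).1 h₁
  refine eq_top_iff.2 ((odd_top hF O).ge.trans (sup_le le_sup_left ((Subgroup.closure_le _).2 ?_)))
  rintro x (rfl | rfl)
  exacts [hu, (Subgroup.mul_mem_cancel_left K hu).1 hx]

end Cfsg.Agent.Lie.UnPres
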