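import Cfsg.Agent.Lib.Lie.UnPresHerm
import Cfsg.Agent.Lib.Lie.SpnPresBase
import Cfsg.Agent.Lib.Classical.SteinbergUnit

/-!
`SU_{2m+ε}(q)` in a hyperbolic frame: the Levi factor `SL_m`, the unipotent radical, the Weyl elements.
-/

set_option autoImplicit false
set_option linter.unusedSectionVars false

namespace Cfsg.Agent.Lie.UnPres

open Matrix Cfsg.Agent.Classical Cfsg.Agent.Classical.PSUAut

/-- The index set of the frame. -/
abbrev Ix (m ε : ℕ) : Type := (Fin m ⊕ Fin m) ⊕ Fin ε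

variable {F : Type*} [Field F] [Fintype F] {q : ℕ} (hF : Fintype.card F = q ^ 2)
variable {α β γ δ : Type*} {m ε : ℕ}

local notation "σ" => qFrob hF

include hF

/-- The conjugate transpose. -/
def ct (M : Matrix α β F) : Matrix β α F := (M.map (qFrob hF))ᵀ

theorem ct_apply (M : Matrix α β F) (i : β) (j : α) : ct hF M i j = σ (M j i) := rfl

theorem ct_mul [Fintype β] (M : Matrix α β F) (N : Matrix β γ F) :
    ct hF (M * N) = ct hF N * ct hF M := by rw [ct, ct, ct, Matrix.map_mul, Matrix.transpose_mul]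

theorem ct_ct (M : Matrix α β F) : ct hF (ct hF M) = M := by
  ext i j; simp [ct_apply, qFrob_qFrob hF]

theorem ct_zero : ct hF (0 : Matrix α β F) = 0 := by ext i j; simp [ct_apply]

theorem ct_one [DecidableEq α] : ct hF (1 : Matrix α α F) = 1 := by
  ext i j; simp [ct_apply, Matrix.one_apply, eq_comm, apply_ite (qFrob hF)]

theorem ct_add (M N : Matrix α β F) : ct hF (M + N) = ct hF M + ct hF N := by
  ext i j; simp [ct_apply]

theorem ct_neg (M : Matrix α β F) : ct hF (-M) = -ct hF M := by ext i j; simp [ct_apply]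

theorem ct_smul (c : F) (M : Matrix α β F) : ct hF (c • M) = σ c • ct hF M := by
  ext i j; simp [ct_apply]

theorem ct_fromBlocks (A : Matrix α γ F) (B : Matrix α δ F) (C : Matrix β γ F) (D : Matrix β δ F) :
    ct hF (fromBlocks A B C D) = fromBlocks (ct hF A) (ct hF C) (ct hF B) (ct hF D) := by
  rw [ct, fromBlocks_map, fromBlocks_transpose]; rfl

theorem ct_fromRows (A : Matrix α γ F) (B : Matrix β γ F) :
    ct hF (fromRows A B) = fromCols (ct hF A) (ct hF B) := by
  rw [ct, fromRows_map, transpose_fromRows]; rfl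

theorem ct_fromCols (A : Matrix γ α F) (B : Matrix γ β F) :
    ct hF (fromCols A B) = fromRows (ct hF A) (ct hF B) := by
  rw [ct, fromCols_map, transpose_fromCols]; rfl

theorem det_ct [Fintype α] [DecidableEq α] (M : Matrix α α F) : (ct hF M).det = σ M.det := by
  rw [ct, det_transpose]; exact ((qFrob hF).map_det M).symm

/-- The Gram matrix. -/
def Gm (_hF : Fintype.card F = q ^ 2) (m ε : ℕ) : Matrix (Ix m ε) (Ix m ε) F :=
  fromBlocks (fromBlocks 0 1 1 0) 0 0 1

theorem Gm_sq : Gm hF m ε * Gm hF m ε = 1 := by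
  simp [Gm, fromBlocks_multiply]

theorem ct_Gm : ct hF (Gm hF m ε) = Gm hF m ε := by
  simp [Gm, ct_fromBlocks, ct_zero, ct_one]

/-- The special unitary group of the frame. -/
def Hgrp (m ε : ℕ) : Subgroup (SpecialLinearGroup (Ix m ε) F) where
  carrier := {M | ct hF M.1 * Gm hF m ε * M.1 = Gm hF m ε}
  one_mem' := by simp [ct_one]
  mul_mem' {a b} ha hb := by
    show ct hF (a.1 * b.1) * Gm hF m ε * (a.1 * b.1) = _
    calc ct hF (a.1 * b.1) * Gm hF m ε * (a.1 * b.1)
        = ct hF b.1 * (ct hF a.1 * Gm hF m ε * a.1) * b.1 := by rw [ct_mul]; simp only [Matrix.mul_assoc]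
      _ = _ := by rw [show ct hF a.1 * Gm hF m ε * a.1 = _ from ha]; exact hb
  inv_mem' {a} ha := by
    show ct hF (a⁻¹).1 * Gm hF m ε * (a⁻¹).1 = _
    calc ct hF (a⁻¹).1 * Gm hF m ε * (a⁻¹).1
        = ct hF (a⁻¹).1 * (ct hF a.1 * Gm hF m ε * a.1) * (a⁻¹).1 := by
          rw [show ct hF a.1 * Gm hF m ε * a.1 = _ from ha]
      _ = ct hF (a.1 * (a⁻¹).1) * Gm hF m ε * (a.1 * (a⁻¹).1) := by rw [ct_mul]; simp only [Matrix.mul_assoc]
      _ = _ := by rw [SpnPres.sval_mul_inv, ct_one, Matrix.one_mul, Matrix.mul_one]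

variable {hF}

omit hF in
/-- The matrix of an element. -/
def hval {hF : Fintype.card F = q ^ 2} (g : Hgrp hF m ε) : Matrix (Ix m ε) (Ix m ε) F := g.1.1

theorem hval_mul (g h : Hgrp hF m ε) : hval (g * h) = hval g * hval h := rfl

theorem hval_one : hval (1 : Hgrp hF m ε) = 1 := rfl

theorem hext {g h : Hgrp hF m ε} (e : hval g = hval h) : g = h := Subtype.ext (Subtype.ext e)

variable (hF)

/-- An element from its matrix. -/
def hmk (M : Matrix (Ix m ε) (Ix m ε) F) (hd : M.det = 1) (hM : ct hF M * Gm hF m ε * M = Gm hF m ε) :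
    Hgrp hF m ε := ⟨⟨M, hd⟩, hM⟩

/-! The Levi factor. -/

/-- The matrix of a Levi element. -/
def levM (ε : ℕ) (A : SpecialLinearGroup (Fin m) F) : Matrix (Ix m ε) (Ix m ε) F :=
  fromBlocks (fromBlocks A.1 0 0 (ct hF (A⁻¹).1)) 0 0 1

theorem levM_det (A : SpecialLinearGroup (Fin m) F) : (levM hF ε A).det = 1 := by
  rw [levM, det_fromBlocks_zero₂₁, det_fromBlocks_zero₂₁, det_one, det_ct, (A⁻¹).2, A.2, map_one]
  simp

theorem levM_pres (A : SpecialLinearGroup (Fin m) F) :
    ct hF (levM hF ε A) * Gm hF m ε * levM hF ε A = Gm hF m ε := by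
  simp only [levM, Gm, ct_fromBlocks, ct_zero, ct_one, ct_ct, fromBlocks_multiply, Matrix.mul_zero,
    Matrix.zero_mul, Matrix.mul_one, Matrix.one_mul, zero_add, add_zero, SpnPres.sval_inv_mul, ← ct_mul]

/-- The Levi factor. -/
def lev (ε : ℕ) : SpecialLinearGroup (Fin m) F →* Hgrp hF m ε where
  toFun A := hmk hF (levM hF ε A) (levM_det hF A) (levM_pres hF A)
  map_one' := hext (by
    show levM hF ε 1 = 1
    simp [levM, ct_one])
  map_mul' A B := hext (by
    show levM hF ε (A * B) = levM hF ε A * levM hF ε B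
    simp only [levM, fromBlocks_multiply, Matrix.mul_zero, Matrix.zero_mul, Matrix.mul_one, zero_add,
      add_zero, ← ct_mul, _root_.mul_inv_rev, SpnPres.sval_mul])

theorem lev_val (A : SpecialLinearGroup (Fin m) F) : hval (lev hF ε A) = levM hF ε A := rfl

theorem lev_injective : Function.Injective (lev hF ε : SpecialLinearGroup (Fin m) F →* Hgrp hF m ε) := by
  intro A B h
  have h' := congrArg hval h
  simp only [lev_val, levM, fromBlocks_inj] at h'
  exact Subtype.ext h'.1.1

/-! The unipotent radical. -/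

/-- The condition on the parameters. -/
def UOK (v : Matrix (Fin m) (Fin ε) F) (Z : Matrix (Fin m) (Fin m) F) : Prop :=
  Z + ct hF Z + v * ct hF v = 0

/-- The matrix of a unipotent element. -/
def uMat (v : Matrix (Fin m) (Fin ε) F) (Z : Matrix (Fin m) (Fin m) F) : Matrix (Ix m ε) (Ix m ε) F :=
  fromBlocks (fromBlocks 1 Z 0 1) (fromRows (-v) 0) (fromCols 0 (ct hF v)) 1

theorem uMat_det (v : Matrix (Fin m) (Fin ε) F) (Z : Matrix (Fin m) (Fin m) F) :
    (uMat hF v Z).det = 1 := by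
  rw [uMat, det_fromBlocks_one₂₂, fromRows_mul_fromCols, sub_eq_add_neg, fromBlocks_neg, fromBlocks_add]
  simp [det_fromBlocks_zero₂₁]

theorem uMat_pres {v : Matrix (Fin m) (Fin ε) F} {Z : Matrix (Fin m) (Fin m) F} (h : UOK hF v Z) :
    ct hF (uMat hF v Z) * Gm hF m ε * uMat hF v Z = Gm hF m ε := by
  simp [uMat, Gm, ct_fromBlocks, ct_fromRows, ct_fromCols, ct_zero, ct_one, ct_neg, ct_ct,
    fromBlocks_multiply, fromBlocks_mul_fromRows, fromCols_mul_fromBlocks, fromRows_mul_fromCols,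
    fromCols_mul_fromRows, fromRows_mul, mul_fromCols, fromBlocks_add]
  refine ⟨?_, ?_, ?_⟩
  · ext (i | i) (j | j) <;> simp
    have := congrFun (congrFun h i) j
    simpa [add_comm, add_left_comm, add_assoc] using this
  · ext (i | i) j <;> simp
  · ext i (j | j) <;> simp

open scoped _root_.Classical in
/-- The unipotent element. -/
noncomputable def uH (v : Matrix (Fin m) (Fin ε) F) (Z : Matrix (Fin m) (Fin m) F) : Hgrp hF m ε :=
  if h : UOK hF v Z then hmk hF (uMat hF v Z) (uMat_det hF v Z) (uMat_pres hF h) else 1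

theorem uH_val {v : Matrix (Fin m) (Fin ε) F} {Z : Matrix (Fin m) (Fin m) F} (h : UOK hF v Z) :
    hval (uH hF v Z) = uMat hF v Z := by rw [uH, dif_pos h]; rfl

theorem UOK.zero : UOK hF (0 : Matrix (Fin m) (Fin ε) F) (0 : Matrix (Fin m) (Fin m) F) := by
  simp [UOK, ct_zero]

theorem UOK.mul {v v' : Matrix (Fin m) (Fin ε) F} {Z Z' : Matrix (Fin m) (Fin m) F} (h : UOK hF v Z)
    (h' : UOK hF v' Z') : UOK hF (v + v') (Z + Z' - v * ct hF v') := by
  unfold UOK at *
  rw [sub_eq_add_neg, ct_add, ct_add, ct_neg, ct_mul, ct_ct, ct_add, Matrix.mul_add, Matrix.add_mul,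
    Matrix.add_mul]
  linear_combination (norm := abel) h + h'

theorem UOK.inv {v : Matrix (Fin m) (Fin ε) F} {Z : Matrix (Fin m) (Fin m) F} (h : UOK hF v Z) :
    UOK hF (-v) (ct hF Z) := by
  unfold UOK at *
  rw [ct_ct, ct_neg, Matrix.neg_mul, Matrix.mul_neg, neg_neg]
  linear_combination (norm := abel) h

theorem uH_mul {v v' : Matrix (Fin m) (Fin ε) F} {Z Z' : Matrix (Fin m) (Fin m) F} (h : UOK hF v Z)
    (h' : UOK hF v' Z') : uH hF v Z * uH hF v' Z' = uH hF (v + v') (Z + Z' - v * ct hF v') := by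
  refine hext ?_
  rw [hval_mul, uH_val hF h, uH_val hF h', uH_val hF (h.mul hF h')]
  simp only [uMat, fromBlocks_multiply, fromRows_mul_fromCols, fromBlocks_mul_fromRows,
    fromCols_mul_fromBlocks, fromCols_mul_fromRows, fromBlocks_add, Matrix.mul_zero, Matrix.zero_mul,
    Matrix.mul_one, Matrix.one_mul, add_zero, zero_add, Matrix.neg_mul, Matrix.zero_mul]
  congr 1
  · congr 1; abel
  · ext i j; rcases i with i | i <;> simp [ct_add, add_comm]
  · ext i j; rcases j with j | j <;> simp [ct_add, add_comm]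

theorem uH_zero : uH hF (0 : Matrix (Fin m) (Fin ε) F) 0 = 1 := by
  refine hext ?_
  rw [uH_val hF (UOK.zero hF), hval_one, uMat, ct_zero, neg_zero, fromRows_zero, fromCols_zero,
    fromBlocks_one, fromBlocks_one]

theorem uH_inv {v : Matrix (Fin m) (Fin ε) F} {Z : Matrix (Fin m) (Fin m) F} (h : UOK hF v Z) :
    (uH hF v Z)⁻¹ = uH hF (-v) (ct hF Z) := by
  refine inv_eq_of_mul_eq_one_right ?_
  rw [uH_mul hF h (h.inv hF), add_neg_cancel, ct_neg, Matrix.mul_neg, sub_neg_eq_add,
    show Z + ct hF Z + v * ct hF v = 0 from h, uH_zero]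

theorem uH_inj {v v' : Matrix (Fin m) (Fin ε) F} {Z Z' : Matrix (Fin m) (Fin m) F} (h : UOK hF v Z)
    (h' : UOK hF v' Z') (e : uH hF v Z = uH hF v' Z') : v = v' ∧ Z = Z' := by
  have e' := congrArg hval e
  rw [uH_val hF h, uH_val hF h', uMat, uMat, fromBlocks_inj] at e'
  obtain ⟨e1, e2, -, -⟩ := e'
  rw [fromBlocks_inj] at e1
  exact ⟨neg_inj.1 (fromRows_inj e2).1, e1.2.1⟩

theorem UOK.act {v : Matrix (Fin m) (Fin ε) F} {Z : Matrix (Fin m) (Fin m) F} (h : UOK hF v Z)
    (A : Matrix (Fin m) (Fin m) F) : UOK hF (A * v) (A * Z * ct hF A) := by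
  unfold UOK at *
  calc A * Z * ct hF A + ct hF (A * Z * ct hF A) + A * v * ct hF (A * v)
      = A * (Z + ct hF Z + v * ct hF v) * ct hF A := by
        rw [ct_mul, ct_mul, ct_mul, ct_ct]
        simp only [Matrix.mul_add, Matrix.add_mul, Matrix.mul_assoc]
    _ = 0 := by rw [h, Matrix.mul_zero, Matrix.zero_mul]

theorem lev_uH (A : SpecialLinearGroup (Fin m) F) {v : Matrix (Fin m) (Fin ε) F}
    {Z : Matrix (Fin m) (Fin m) F} (h : UOK hF v Z) :
    lev hF ε A * uH hF v Z * (lev hF ε A)⁻¹ = uH hF (A.1 * v) (A.1 * Z * ct hF A.1) := by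
  rw [mul_inv_eq_iff_eq_mul]
  refine hext ?_
  have h1 : ct hF A.1 * ct hF (A⁻¹).1 = 1 := by rw [← ct_mul, SpnPres.sval_inv_mul, ct_one]
  rw [hval_mul, hval_mul, uH_val hF h, uH_val hF (h.act hF A.1), lev_val]
  simp only [uMat, levM, fromBlocks_multiply, fromBlocks_mul_fromRows, fromCols_mul_fromBlocks,
    fromRows_mul, mul_fromCols, Matrix.mul_zero, Matrix.zero_mul, Matrix.mul_one, Matrix.one_mul, add_zero,
    zero_add, Matrix.mul_neg]
  congr 1
  · congr 1; rw [Matrix.mul_assoc, h1, Matrix.mul_one]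
  · rw [neg_zero]
  · rw [ct_mul, Matrix.mul_assoc, h1, Matrix.mul_one]

/-! The Weyl elements. -/

/-- The projection on a set of coordinates. -/
def Pd (_hF : Fintype.card F = q ^ 2) (S : Finset (Fin m)) : Matrix (Fin m) (Fin m) F :=
  Matrix.diagonal fun i => if i ∈ S then 1 else 0

/-- The matrix of a product of Weyl elements. -/
def wMat (μ z : F) (ε : ℕ) (S : Finset (Fin m)) : Matrix (Ix m ε) (Ix m ε) F :=
  fromBlocks (fromBlocks (1 - Pd hF S) ((σ μ)⁻¹ • Pd hF S) (μ • Pd hF S) (1 - Pd hF S)) 0 0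
    (z ^ S.card • 1)

/-- The conditions on the parameters of a Weyl element. -/
structure WOK (μ z : F) (ε : ℕ) : Prop where
  ne : μ ≠ 0
  norm : z * σ z = 1
  det : -μ / σ μ * z ^ ε = 1

theorem Pd_mul (S T : Finset (Fin m)) : Pd hF S * Pd hF T = Pd hF (S ∩ T) := by
  rw [Pd, Pd, Pd, Matrix.diagonal_mul_diagonal]
  congr 1
  funext i
  simp only [Finset.mem_inter]
  split_ifs <;> simp_all

theorem ct_Pd (S : Finset (Fin m)) : ct hF (Pd hF S) = Pd hF S := by
  ext i j
  rcases eq_or_ne i j with rfl | h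
  · simp [ct_apply, Pd, apply_ite (qFrob hF)]
  · simp [ct_apply, Pd, h, h.symm]

theorem wMat_pres {μ z : F} (hW : WOK hF μ z ε) (S : Finset (Fin m)) :
    ct hF (wMat hF μ z ε S) * Gm hF m ε * wMat hF μ z ε S = Gm hF m ε := by
  have hμ' : σ μ ≠ 0 := (map_ne_zero (qFrob hF)).2 hW.ne
  have hz : σ (z ^ S.card) * z ^ S.card = 1 := by rw [map_pow, ← mul_pow, mul_comm, hW.norm, one_pow]
  simp only [wMat, Gm, ct_fromBlocks, sub_eq_add_neg, ct_add, ct_neg, ct_one, ct_smul, ct_Pd, ct_zero,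
    map_inv₀, qFrob_qFrob hF, fromBlocks_multiply, Matrix.mul_zero, Matrix.zero_mul, Matrix.mul_one,
    Matrix.one_mul, zero_add, add_zero, Matrix.smul_mul, Matrix.mul_smul, smul_smul, Matrix.add_mul,
    Matrix.mul_add, Matrix.neg_mul, Matrix.mul_neg, neg_neg, Pd_mul, Finset.inter_self, hz, one_smul,
    smul_add, smul_neg, inv_mul_cancel₀ hW.ne, inv_mul_cancel₀ hμ', mul_inv_cancel₀ hW.ne,
    mul_inv_cancel₀ hμ']
  congr 1
  · congr 1 <;> abel
  all_goals simp [← mul_pow, hW.norm]

theorem wMat_mul {μ z : F} (S : Finset (Fin m)) {a : Fin m} (ha : a ∉ S) :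
    wMat hF μ z ε S * wMat hF μ z ε {a} = wMat hF μ z ε (insert a S) := by
  have e1 : Pd hF S * Pd hF {a} = 0 := by
    rw [Pd_mul, Finset.inter_singleton_of_notMem ha]; simp [Pd]
  have e2 : Pd hF (insert a S) = Pd hF S + Pd hF {a} := by
    rw [Pd, Pd, Pd, Matrix.diagonal_add]
    congr 1
    funext i
    rcases eq_or_ne i a with rfl | h <;> simp [*]
  simp only [wMat, fromBlocks_multiply, Matrix.mul_zero, Matrix.zero_mul, zero_add, add_zero,
    Matrix.smul_mul, Matrix.mul_smul, Matrix.one_mul, smul_smul, Finset.card_insert_of_notMem ha,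
    Finset.card_singleton, pow_one, Matrix.sub_mul, Matrix.mul_sub, Matrix.mul_one, smul_sub, e1, e2,
    smul_zero, sub_zero, smul_add]
  congr 1
  · congr 1 <;> abel
  · rw [← pow_succ']

theorem det_updateDiag (a : Fin m) (p : F) : (Matrix.diagonal (Function.update 1 a p)).det = p := by
  rw [det_diagonal, Finset.prod_update_of_mem (Finset.mem_univ _)]
  simp

theorem wMat_det {μ z : F} (hW : WOK hF μ z ε) (a : Fin m) : (wMat hF μ z ε {a}).det = 1 := by
  have hμ' : σ μ ≠ 0 := (map_ne_zero (qFrob hF)).2 hW.ne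
  set P := Pd hF ({a} : Finset (Fin m)) with hP
  have hPP : P * P = P := by rw [hP, Pd_mul, Finset.inter_self]
  have hD : Matrix.diagonal (Function.update 1 a (-μ / σ μ)) = 1 - P + (-μ / σ μ) • P := by
    ext i j
    rcases eq_or_ne i j with rfl | h
    · rcases eq_or_ne i a with rfl | h' <;> simp [hP, Pd, *]
    · simp [hP, Pd, h]
  have hprod : fromBlocks (1 : Matrix (Fin m) (Fin m) F) ((σ μ)⁻¹ • P) 0 1 *
      fromBlocks 1 0 (-σ μ • P) 1 * fromBlocks 1 ((σ μ)⁻¹ • P) 0 1 *
      fromBlocks (Matrix.diagonal (Function.update 1 a (-μ / σ μ))) 0 0 1 =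
      fromBlocks (1 - P) ((σ μ)⁻¹ • P) (μ • P) (1 - P) := by
    rw [hD]
    simp only [fromBlocks_multiply, Matrix.mul_one, Matrix.one_mul, Matrix.mul_zero, Matrix.zero_mul,
      zero_add, add_zero, Matrix.smul_mul, Matrix.mul_smul, smul_smul, Matrix.add_mul, Matrix.mul_add,
      Matrix.sub_mul, Matrix.mul_sub, hPP, smul_add, smul_sub, neg_smul, neg_mul, mul_neg,
      inv_mul_cancel₀ hμ', mul_inv_cancel₀ hμ', one_smul, smul_neg, neg_neg, Matrix.neg_mul,
      show σ μ * (-μ / σ μ) = -μ by field_simp]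
    congr 1 <;> (match_scalars <;> field_simp <;> ring)
  have hd := congrArg Matrix.det hprod
  simp only [det_mul, det_fromBlocks_zero₂₁, det_fromBlocks_zero₁₂, det_one, det_updateDiag, one_mul,
    mul_one] at hd
  rw [wMat, det_fromBlocks_zero₂₁, ← hd, det_smul, det_one, Finset.card_singleton, pow_one, mul_one,
    Fintype.card_fin, det_updateDiag hF]
  exact hW.det

variable {μ z : F} (hW : WOK hF μ z ε)

/-- The Weyl element of a coordinate. -/
def wH (a : Fin m) : Hgrp hF m ε :=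
  hmk hF (wMat hF μ z ε {a}) (wMat_det hF hW a) (wMat_pres hF hW _)

theorem wH_val (a : Fin m) : hval (wH hF hW a) = wMat hF μ z ε {a} := rfl

theorem wH_prod : ∀ l : List (Fin m), l.Nodup →
    hval (l.map (wH hF hW)).prod = wMat hF μ z ε l.toFinset := by
  intro l
  induction l using List.reverseRecOn with
  | nil => intro _; simp [hval_one, wMat, Pd]
  | append_singleton l a ih =>
    intro hl
    obtain ⟨h1, -, h3⟩ := List.nodup_append.1 hl
    have ha : a ∉ l.toFinset := by
      rw [List.mem_toFinset]; exact fun h => h3 a h a (List.mem_singleton_self a) rfl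
    rw [List.map_append, List.prod_append, hval_mul, ih h1, List.map_singleton, List.prod_singleton,
      wH_val, wMat_mul hF _ ha]
    congr 1
    ext i
    simp

omit hW

/-! The comparison with the standard special unitary group. -/

theorem exists_basisMatrix (n : ℕ) :
    ∃ (P : Matrix (Fin n) (Ix (n / 2) (n % 2)) F) (Q : Matrix (Ix (n / 2) (n % 2)) (Fin n) F),
      ct hF P * P = Gm hF (n / 2) (n % 2) ∧ Q * P = 1 ∧ P * Q = 1 := by
  classical
  obtain ⟨d⟩ := StUnit.exists_pairData hF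
  let D := StUnit.frame n d
  let mid : Fin (n % 2) → Fin n → F := fun c => Pi.single ⟨n - 1, by have := c.2; omega⟩ 1
  let col : Ix (n / 2) (n % 2) → Fin n → F := Sum.elim (Sum.elim D.e D.f) mid
  let P : Matrix (Fin n) (Ix (n / 2) (n % 2)) F := Matrix.of fun i a => col a i
  have hBapp : ∀ u v : Fin n → F, D.B u v = hermForm n F q u v := fun u v => rfl
  have hmid0 : ∀ (c : Fin (n % 2)) (i : Fin (n / 2)) (x : F),
      hermForm n F q (mid c) (StUnit.pairVec x i) = 0 := by
    intro c i x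
    have := c.2; have := i.2
    rw [StUnit.h_pairVec hF]
    simp only [mid]
    rw [Pi.single_eq_of_ne (by simp [StUnit.i0, Fin.ext_iff]; omega),
      Pi.single_eq_of_ne (by simp [StUnit.i1, Fin.ext_iff]; omega)]
    ring
  have hme : ∀ (c : Fin (n % 2)) i, hermForm n F q (mid c) (D.e i) = 0 := fun c i => hmid0 c i _
  have hmf : ∀ (c : Fin (n % 2)) i, hermForm n F q (mid c) (D.f i) = 0 := fun c i => by
    show hermForm n F q (mid c) (d.s • StUnit.pairVec d.d i) = 0
    rw [h_smul_right hF, hmid0 c i, mul_zero]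
  have hmm : ∀ c c' : Fin (n % 2), hermForm n F q (mid c) (mid c') = 1 := fun c c' => by
    rw [show mid c' = mid c from rfl, hermForm_single_right hF]
    simp [mid]
  have key : ∀ a b, hermForm n F q (col a) (col b) = Gm hF (n / 2) (n % 2) a b := by
    rintro ((a | a) | a) ((b | b) | b) <;>
      simp only [col, Sum.elim_inl, Sum.elim_inr, Gm, fromBlocks_apply₁₁, fromBlocks_apply₁₂,
        fromBlocks_apply₂₁, fromBlocks_apply₂₂, Matrix.zero_apply, Matrix.one_apply]
    · exact (hBapp _ _).symm.trans (D.ee a b)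
    · exact (hBapp _ _).symm.trans (D.ef a b)
    · exact h_comm_zero hF (hme b a)
    · rw [← hBapp, D.swap, D.ef]
      rcases eq_or_ne a b with rfl | h
      · simp [D, StUnit.frame]
      · simp [h, h.symm]
    · exact (hBapp _ _).symm.trans (D.ff a b)
    · exact h_comm_zero hF (hmf b a)
    · exact hme a b
    · exact hmf a b
    · rw [hmm a b, if_pos (Fin.ext (by have := a.2; have := b.2; omega))]
  have hgram : ct hF P * P = Gm hF (n / 2) (n % 2) := by
    ext a b
    have hsym : (Gm hF (n / 2) (n % 2))ᵀ = Gm hF (n / 2) (n % 2) := by simp [Gm, fromBlocks_transpose]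
    rw [← congrFun (congrFun hsym a) b, Matrix.transpose_apply, ← key, hermForm, Matrix.mul_apply]
    refine Finset.sum_congr rfl fun i _ => ?_
    rw [ct_apply, ← qFrob_apply hF]
    exact mul_comm _ _
  have hcard : Fintype.card (Ix (n / 2) (n % 2)) = Fintype.card (Fin n) := by
    simp [Fintype.card_sum]; omega
  have hQP : Gm hF (n / 2) (n % 2) * ct hF P * P = 1 := by rw [Matrix.mul_assoc, hgram, Gm_sq]
  exact ⟨P, _, hgram, hQP, (Matrix.mul_eq_one_comm_of_equiv (Fintype.equivOfCardEq hcard)).1 hQP⟩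

theorem exists_iso_val (n : ℕ) :
    ∃ (P : Matrix (Fin n) (Ix (n / 2) (n % 2)) F) (Q : Matrix (Ix (n / 2) (n % 2)) (Fin n) F)
      (e : Hgrp hF (n / 2) (n % 2) ≃* SU n F q),
      ct hF P * P = Gm hF (n / 2) (n % 2) ∧ Q * P = 1 ∧ P * Q = 1 ∧ ∀ M, suVal (e M) = P * hval M * Q := by
  obtain ⟨P, Q, hP, hQP, hPQ⟩ := exists_basisMatrix hF n
  have e1 : ct hF Q * ct hF P = 1 := by rw [← ct_mul, hPQ, ct_one]
  have hfwd : ∀ M : Hgrp hF (n / 2) (n % 2), (P * hval M * Q)ᵀ * (P * hval M * Q).map σ = 1 := by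
    intro M
    have h : ct hF (P * hval M * Q) * (P * hval M * Q) = 1 := by
      have hM : ct hF (hval M) * Gm hF (n / 2) (n % 2) * hval M = Gm hF (n / 2) (n % 2) := M.2
      calc ct hF (P * hval M * Q) * (P * hval M * Q)
          = ct hF Q * (ct hF (hval M) * (ct hF P * P) * hval M) * Q := by
            simp only [ct_mul, Matrix.mul_assoc]
        _ = ct hF Q * ct hF P * (P * Q) := by rw [hP, hM, ← hP]; simp only [Matrix.mul_assoc]
        _ = 1 := by rw [e1, hPQ, Matrix.one_mul]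
    have h' := congrArg (fun A => A.map σ) h
    rw [Matrix.map_mul, show (ct hF (P * hval M * Q)).map σ = (P * hval M * Q)ᵀ by
      ext i j; simp [ct_apply, qFrob_qFrob hF], Matrix.map_one _ (map_zero _) (map_one _)] at h'
    exact h'
  have hdet : ∀ M : Matrix (Ix (n / 2) (n % 2)) (Ix (n / 2) (n % 2)) F, (P * M * Q).det = M.det :=
    fun M => by
      rw [Matrix.mul_assoc]
      exact (Matrix.det_comm' hPQ hQP).trans (by rw [Matrix.mul_assoc, hQP, Matrix.mul_one])
  have hbwd : ∀ s : SU n F q, ct hF (Q * suVal s * P) * Gm hF (n / 2) (n % 2) * (Q * suVal s * P) =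
      Gm hF (n / 2) (n % 2) := by
    intro s
    have h : ct hF (suVal s) * suVal s = 1 := by
      have := congrArg (fun A => A.map σ) (suVal_transpose_mul hF s)
      rw [Matrix.map_mul, show (suVal s)ᵀ.map σ = ct hF (suVal s) from rfl,
        show ((suVal s).map σ).map σ = suVal s by ext i j; simp [qFrob_qFrob hF],
        Matrix.map_one _ (map_zero _) (map_one _)] at this
      exact this
    calc ct hF (Q * suVal s * P) * Gm hF (n / 2) (n % 2) * (Q * suVal s * P)
        = ct hF P * (ct hF (suVal s) * (ct hF Q * ct hF P * (P * Q)) * suVal s) * P := by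
          rw [← hP]; simp only [ct_mul, Matrix.mul_assoc]
      _ = _ := by rw [e1, hPQ, Matrix.mul_one, Matrix.mul_one, h, Matrix.mul_one, hP]
  refine ⟨P, Q, {
    toFun := fun M => suMk hF (P * hval M * Q) ((hdet _).trans M.1.2) (hfwd M)
    invFun := fun s => hmk hF (Q * suVal s * P) (by
      rw [← hdet]
      show (P * (Q * suVal s * P) * Q).det = 1
      rw [← Matrix.mul_assoc, ← Matrix.mul_assoc, hPQ, Matrix.one_mul, Matrix.mul_assoc, hPQ, Matrix.mul_one]
      exact s.1.2) (hbwd s)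
    left_inv := fun M => hext (by
      show Q * (P * hval M * Q) * P = hval M
      rw [← Matrix.mul_assoc, ← Matrix.mul_assoc, hQP, Matrix.one_mul, Matrix.mul_assoc, hQP, Matrix.mul_one])
    right_inv := fun s => suVal_ext (by
      show P * (Q * suVal s * P) * Q = suVal s
      rw [← Matrix.mul_assoc, ← Matrix.mul_assoc, hPQ, Matrix.one_mul, Matrix.mul_assoc, hPQ, Matrix.mul_one])
    map_mul' := fun M N => suVal_ext (by
      show P * (hval M * hval N) * Q = (P * hval M * Q) * (P * hval N * Q)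
      simp only [Matrix.mul_assoc]
      rw [← Matrix.mul_assoc Q P, hQP, Matrix.one_mul]) }, hP, hQP, hPQ, fun M => rfl⟩

theorem exists_iso (n : ℕ) : Nonempty (Hgrp hF (n / 2) (n % 2) ≃* SU n F q) := by
  obtain ⟨_, _, e, -⟩ := exists_iso_val hF n
  exact ⟨e⟩

end Cfsg.Agent.Lie.UnPres
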