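import Cfsg.Agent.Lib.Lie.UnPresRankEven
import Cfsg.Agent.Lib.Lie.UnPresFrame
import Cfsg.Agent.Lib.Lie.SU3PresRankOne

/-!
Rank one in odd dimension: one torus element and two relations give the whole rank one group.
-/

set_option autoImplicit false
set_option linter.unusedSectionVars false

namespace Cfsg.Agent.Lie.UnPres

open Matrix Cfsg.Agent.Classical Cfsg.Agent.Classical.PSUAut Cfsg.Agent.Fus.UnitN Cfsg.Agent.Lie.SUGen
open Cfsg.Agent.Lie.SU3Pres (OK Wm Tm Good Cells)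

variable {F : Type*} [Field F] [Fintype F] {q : ℕ} {hF : Fintype.card F = q ^ 2} {k ε : ℕ}

local notation "σ" => qFrob hF

section General

variable {G : Type*} [Group G] {π : G →* Hgrp hF (k + 2) ε} {j : SpecialLinearGroup (Fin (k + 2)) F →* G}
  {U : Subgroup G} {D : UData hF π j U} {μ z : F} {hW : WOK hF μ z ε} {w : G}

/-- The torus commutes with the diagonal of the Levi factor. -/
theorem Eng.tor_dg (E : Eng D hW w) {g : G} (hg : g ∈ tor D w) (d : Fˣ) : Commute g (j (dg d)) := by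
  obtain ⟨B, hB⟩ := E.range_keep hg (dg d)
  obtain ⟨l, y, -, -, eg⟩ := hg.2
  have hp := congrArg π hB
  rw [D.πj, map_mul, map_mul, map_inv, D.πj] at hp
  have hB' : B = dg d := by
    refine lev_injective hF (ε := ε) (hp.trans ?_)
    rw [mul_inv_eq_iff_eq_mul]
    refine hext ?_
    have hcd : ∀ e : Fˣ, ∀ l : F, (tD hF l : Matrix (Fin (k + 2)) (Fin (k + 2)) F) * (dg e : SpecialLinearGroup (Fin (k + 2)) F).1 =
        (dg e : SpecialLinearGroup (Fin (k + 2)) F).1 * tD hF l := fun e l => by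
      rw [dg_val, tD, Matrix.diagonal_mul_diagonal, Matrix.diagonal_mul_diagonal]
      simp only [mul_comm]
    have hcd' : ∀ e : Fˣ, ∀ l : F, (tD hF l : Matrix (Fin (k + 2)) (Fin (k + 2)) F) *
        ct hF (dg e : SpecialLinearGroup (Fin (k + 2)) F).1 =
        ct hF (dg e : SpecialLinearGroup (Fin (k + 2)) F).1 * tD hF l := fun e l => by
      have := congrArg (ct hF) (hcd e (σ l))
      rw [ct_mul, ct_mul, ct_tD, qFrob_qFrob hF] at this
      exact this.symm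
    rw [hval_mul, hval_mul, eg, lev_val, levM,
      show (dg d : SpecialLinearGroup (Fin (k + 2)) F)⁻¹ = dg d⁻¹ from
        (map_inv (dg : Fˣ →* SpecialLinearGroup (Fin (k + 2)) F) d).symm]
    simp only [fromBlocks_multiply, Matrix.mul_zero, Matrix.zero_mul, add_zero, zero_add, hcd, hcd',
      Matrix.smul_mul, Matrix.mul_smul, Matrix.one_mul, smul_zero]
  rw [hB'] at hB
  exact (eq_mul_inv_iff_mul_eq.1 hB).symm

end General

variable {G : Type*} [Group G] {π : G →* Hgrp hF (k + 2) 1} {j : SpecialLinearGroup (Fin (k + 2)) F →* G}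
  {U : Subgroup G} {D : UData hF π j U} {hW : WOK hF (1 : F) (-1) 1} {w : G}
  {e n f : Fin 3 → F} {B : Frame3 q e n f}

/-- The torus generated by an element and the diagonal torus. -/
def TT (E : Eng D hW w) (t : G) : Subgroup G :=
  Subgroup.closure ({t} ∪ (E.hHom.range : Set G))

/-- The relations of the torus. -/
structure TData (E : Eng D hW w) (B : Frame3 q e n f) (t : G) (lt : F) : Prop where
  mem : t ∈ tor D w
  ne : lt ≠ 0
  img : π t = iota hF k B (Tm hF B lt)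
  w2 : w * w = 1
  wtw : w * t * w ∈ TT E t
  tq : t ^ (q + 1) ∈ E.hHom.range
  ord : ∀ i : ℕ, qFrob hF (lt ^ i) = lt ^ i → q + 1 ∣ i
  cls : ∀ l : F, l ≠ 0 → ∃ i : ℕ, qFrob hF (l / lt ^ i) = l / lt ^ i

variable {E : Eng D hW w} {t : G} {lt : F}

theorem Eng.hc_iota (E : Eng D hW w) (B : Frame3 q e n f) (c : Fˣ) :
    π (hc j w c) = iota hF k B (Tm hF B ((c : F) * σ c)) := by
  have hl : (c : F) * σ c ≠ 0 := mul_ne_zero c.ne_zero ((map_ne_zero (qFrob hF)).2 c.ne_zero)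
  refine hext ?_
  rw [E.hc_val, iota_Tm hF k B hl]
  congr 2
  rw [map_mul, qFrob_qFrob hF, mul_comm (σ (c : F))]
  exact (div_self hl).symm

theorem TData.w_inv (T : TData E B t lt) : w⁻¹ = w := inv_eq_of_mul_eq_one_right T.w2

theorem TData.TT_tor (T : TData E B t lt) : TT E t ≤ tor D w := by
  rw [TT, Subgroup.closure_le]
  rintro g (rfl | ⟨c, rfl⟩)
  exacts [T.mem, E.hc_tor c]

theorem TData.t_TT (T : TData E B t lt) : t ∈ TT E t := Subgroup.subset_closure (Or.inl rfl)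

theorem TData.h_TT (T : TData E B t lt) (c : Fˣ) : hc j w c ∈ TT E t :=
  Subgroup.subset_closure (Or.inr ⟨c, rfl⟩)

theorem TData.h_w (T : TData E B t lt) (c : Fˣ) : w * hc j w c * w = (hc j w c)⁻¹ := by
  rw [hc, T.w_inv]
  simp only [_root_.mul_inv_rev, inv_inv, T.w_inv, mul_assoc, T.w2, mul_one]

theorem TData.t_h (T : TData E B t lt) (c : Fˣ) : Commute t (hc j w c) := by
  set d := j (dg c) with hd
  set τ := w * t * w * t⁻¹ with hτ
  have hτT : τ ∈ TT E t := mul_mem T.wtw (inv_mem T.t_TT)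
  have hτd : d⁻¹ * τ = τ * d⁻¹ := ((E.tor_dg (T.TT_tor hτT) c).symm.inv_left).eq
  have htd : t * d = d * t := (E.tor_dg T.mem c).eq
  have hwt : t * w * t⁻¹ = w * τ := by
    rw [hτ, show w * (w * t * w * t⁻¹) = w * w * (t * w * t⁻¹) by group, T.w2, one_mul]
  have hsq : w * τ * (w * τ) = 1 := by
    rw [← hwt, show t * w * t⁻¹ * (t * w * t⁻¹) = t * (w * w) * t⁻¹ by group, T.w2, mul_one, mul_inv_cancel]
  refine show t * hc j w c = hc j w c * t from ?_
  rw [← mul_inv_eq_iff_eq_mul]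
  have h : hc j w c = d * w * d⁻¹ * w := by rw [hc, ← hd, T.w_inv]
  have hd' : t * d⁻¹ = d⁻¹ * t := ((E.tor_dg T.mem c).inv_right).eq
  calc t * hc j w c * t⁻¹ = (t * d) * w * d⁻¹ * w * t⁻¹ := by rw [h]; group
    _ = d * (t * w * t⁻¹) * (t * d⁻¹) * w * t⁻¹ := by rw [htd]; group
    _ = d * (w * τ) * (d⁻¹ * t) * w * t⁻¹ := by rw [hwt, hd']
    _ = d * w * (τ * d⁻¹) * (t * w * t⁻¹) := by group
    _ = d * w * d⁻¹ * w * (w⁻¹ * τ * (w * τ)) := by rw [← hτd, hwt]; group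
    _ = hc j w c := by
      rw [h, T.w_inv, show w * τ * (w * τ) = 1 from hsq, mul_one]

theorem TData.form (T : TData E B t lt) {g : G} (hg : g ∈ TT E t) :
    ∃ (i : ℕ) (c : Fˣ), g = t ^ i * hc j w c := by
  induction hg using Subgroup.closure_induction with
  | mem x hx =>
    rcases hx with rfl | ⟨c, rfl⟩
    · exact ⟨1, 1, by rw [pow_one, ← E.hHom_apply, map_one, mul_one]⟩
    · exact ⟨0, c, by rw [pow_zero, one_mul, E.hHom_apply]⟩
  | one => exact ⟨0, 1, by rw [pow_zero, one_mul, ← E.hHom_apply, map_one]⟩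
  | mul x y _ _ hx hy =>
    obtain ⟨i, c, rfl⟩ := hx
    obtain ⟨i', c', rfl⟩ := hy
    refine ⟨i + i', c * c', ?_⟩
    rw [pow_add, ← E.hHom_apply (c * c'), map_mul, E.hHom_apply, E.hHom_apply,
      show t ^ i * hc j w c * (t ^ i' * hc j w c') = t ^ i * (hc j w c * t ^ i') * hc j w c' by group,
      ← ((T.t_h c).pow_left i').eq]
    group
  | inv x _ hx =>
    obtain ⟨i, c, rfl⟩ := hx
    obtain ⟨d, hd⟩ := T.tq
    refine ⟨q * i, (d ^ i * c)⁻¹, ?_⟩
    rw [show hc j w (d ^ i * c)⁻¹ = (E.hHom (d ^ i * c))⁻¹ from map_inv E.hHom _, map_mul, map_pow, hd,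
      E.hHom_apply, ← pow_mul, show (q + 1) * i = q * i + i by ring, pow_add]
    have hb : Commute (t ^ (q * i)) ((hc j w c)⁻¹ * (t ^ i)⁻¹) :=
      (((T.t_h c).inv_right).pow_left _).mul_right (Commute.pow_pow_self t (q * i) i).inv_right
    calc (t ^ i * hc j w c)⁻¹ = (hc j w c)⁻¹ * (t ^ i)⁻¹ * t ^ (q * i) * (t ^ (q * i))⁻¹ := by group
      _ = t ^ (q * i) * ((hc j w c)⁻¹ * (t ^ i)⁻¹) * (t ^ (q * i))⁻¹ := by rw [hb.eq]
      _ = _ := by group

theorem TData.π_form (T : TData E B t lt) (i : ℕ) (c : Fˣ) :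
    π (t ^ i * hc j w c) = iota hF k B (Tm hF B (lt ^ i * ((c : F) * σ c))) := by
  rw [map_mul, map_pow, T.img, E.hc_iota B, ← map_pow, ← map_mul, SU3Pres.T_pow hF B T.ne,
    SU3Pres.T_mul hF B (pow_ne_zero i T.ne)
      (mul_ne_zero c.ne_zero ((map_ne_zero (qFrob hF)).2 c.ne_zero))]

theorem TData.surj (T : TData E B t lt) {l : F} (hl : l ≠ 0) :
    ∃ τ ∈ TT E t, π τ = iota hF k B (Tm hF B l) := by
  obtain ⟨i, hi⟩ := T.cls l hl
  obtain ⟨c, hc0⟩ := exists_norm hF hi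
  have hl0 : l / lt ^ i ≠ 0 := div_ne_zero hl (pow_ne_zero _ T.ne)
  have hc' : c ≠ 0 := fun h => hl0 (by rw [← hc0, h, zero_mul])
  refine ⟨t ^ i * hc j w (Units.mk0 c hc'), mul_mem (pow_mem T.t_TT i) (T.h_TT _), ?_⟩
  rw [T.π_form, Units.val_mk0, hc0, mul_div_cancel₀ _ (pow_ne_zero _ T.ne)]

theorem TData.w_TT (T : TData E B t lt) : w ∈ Nrm (TT E t) := by
  have key : ∀ g ∈ TT E t, w * g * w ∈ TT E t := by
    intro g hg
    induction hg using Subgroup.closure_induction with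
    | mem x hx =>
      rcases hx with rfl | ⟨c, rfl⟩
      · exact T.wtw
      · rw [E.hHom_apply, T.h_w]; exact inv_mem (T.h_TT c)
    | one => rw [mul_one, T.w2]; exact one_mem _
    | mul x y _ _ hx hy =>
      rw [show w * (x * y) * w = w * x * (w * w) * y * w by rw [T.w2]; group,
        show w * x * (w * w) * y * w = w * x * w * (w * y * w) by group]
      exact mul_mem hx hy
    | inv x _ hx =>
      have := inv_mem hx
      simpa only [_root_.mul_inv_rev, T.w_inv, mul_assoc] using this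
  exact ⟨fun g hg => by rw [T.w_inv]; exact key g hg, fun g hg => by rw [T.w_inv]; exact key g hg⟩

theorem corner_form {x : G} (hx : x ∈ X0 D) (B : Frame3 q e n f) :
    ∃ α b : F, OK hF α b ∧ π x = iota hF k B (SU3Pres.Um hF B α b) := by
  obtain ⟨-, v, Z, ok, ex, hv, hZ⟩ := hx
  have hok : OK hF (σ (v 0 0)) (Z 0 0) := by
    have h := congrFun (congrFun ok 0) 0
    simp only [Matrix.add_apply, ct_apply, Matrix.mul_apply, Fin.sum_univ_one, Matrix.zero_apply] at h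
    unfold SU3Pres.OK
    rw [qFrob_qFrob hF]
    linear_combination h
  refine ⟨σ (v 0 0), Z 0 0, hok, ?_⟩
  rw [ex, (iota_Um hF k B hok).2, qFrob_qFrob hF]
  congr 1
  · ext a c
    obtain rfl : c = 0 := Subsingleton.elim _ _
    rcases eq_or_ne a 0 with rfl | ha
    · simp
    · simp [hv a 0 ha, ha.symm]
  · ext a b
    by_cases h : a = 0 ∧ b = 0
    · obtain ⟨rfl, rfl⟩ := h; simp
    · rw [hZ a b h, Matrix.single_apply, if_neg fun h' => h ⟨h'.1.symm, h'.2.symm⟩]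

theorem corner_surj (D : UData hF π j U) (B : Frame3 q e n f) {α b : F} (h : OK hF α b) :
    ∃ x ∈ X0 D, π x = iota hF k B (SU3Pres.Um hF B α b) := by
  rw [(iota_Um hF k B h).2]
  refine part_surj (iota_Um hF k B h).1 ⟨fun a c ha => ?_, fun a b' hab => ?_⟩
  · simp [Ne.symm ha]
  · rw [Matrix.single_apply, if_neg fun h' => hab ⟨h'.1.symm, h'.2.symm⟩]

/-- The diagonal fixes the centre of the first root group on the circle. -/
theorem dg_fix (B : Frame3 q e n f) {x : G} (hx : x ∈ X0 D) {b : F} (hb : b + σ b = 0)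
    (hp : π x = iota hF k B (SU3Pres.Um hF B 0 b)) {c : Fˣ} (hc1 : (c : F) * σ c = 1) :
    j (dg c) * x * (j (dg c))⁻¹ = x := by
  obtain ⟨hok, e1⟩ := iota_Um hF k B (SU3Pres.OK.skew hF hb)
  refine D.eq_of (D.norm _ _ hx.1) hx.1 ?_
  rw [map_mul, map_mul, map_inv, D.πj, hp, e1, lev_uH hF _ hok]
  congr 1
  · simp
  · rw [dg_val]
    ext a l
    rw [Matrix.mul_apply, Finset.sum_eq_single l (fun i _ hi => by
      rw [ct_apply, Matrix.diagonal_apply_ne _ (Ne.symm hi), map_zero, mul_zero]) (by simp), ct_apply,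
      Matrix.diagonal_apply_eq, Matrix.diagonal_mul]
    by_cases h : (0 : Fin (k + 2)) = a ∧ (0 : Fin (k + 2)) = l
    · obtain ⟨rfl, rfl⟩ := h
      simp [dgv]
      linear_combination b * hc1
    · simp [Matrix.single_apply, h]

/-- The relation of the centre. -/
structure CentreRel (E : Eng D hW w) (B : Frame3 q e n f) (t : G) (c₀ : F) : Prop where
  skew : c₀ + qFrob hF c₀ = 0
  ne : c₀ ≠ 0
  rel : ∃ x ∈ X0 D, ∃ y ∈ X0 D, ∃ y' ∈ X0 D, ∃ b b' : F, b + qFrob hF b = 0 ∧ b' + qFrob hF b' = 0 ∧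
    π x = iota hF k B (SU3Pres.Um hF B 0 c₀) ∧ π y = iota hF k B (SU3Pres.Um hF B 0 b) ∧
    π y' = iota hF k B (SU3Pres.Um hF B 0 b') ∧ ∃ τ ∈ TT E t, w * x * w = y * τ * w * y'

variable {c₀ : F}

theorem TData.h_ker (T : TData E B t lt) (C : CentreRel E B t c₀) {c : Fˣ} (hc1 : (c : F) * σ c = 1) :
    hc j w c = 1 := by
  obtain ⟨x, hx, y, hy, y', hy', b, b', hb, hb', ex, ey, ey', τ, hτ, e0⟩ := C.rel
  set h := hc j w c with hh
  have hπ : π h = 1 := by rw [hh, E.hc_iota B, hc1, SU3Pres.T_one hF B, map_one]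
  have hx' : h * x = x * h := by
    refine mul_inv_eq_iff_eq_mul.1 (D.eq_of ((E.tor_X0 (E.hc_tor c)).1 _ hx).1 hx.1 ?_)
    rw [map_mul, map_mul, map_inv, hπ]
    group
  have hD : j (dg c) * w * (j (dg c))⁻¹ = h * w := by rw [hh, hc]; group
  have hlhs : h * w * x * (h * w) = w * x * w := by
    have e1 : w * h = h⁻¹ * w := by
      rw [hh, ← T.h_w c]
      simp only [mul_assoc, T.w2, mul_one]
    calc h * w * x * (h * w) = h * w * (x * h) * w := by group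
      _ = h * (w * h) * x * w := by rw [← hx']; group
      _ = w * x * w := by rw [e1]; group
  have key : w * x * w = y * τ * (h * w) * y' := by
    rw [← hlhs, ← hD]
    calc j (dg c) * w * (j (dg c))⁻¹ * x * (j (dg c) * w * (j (dg c))⁻¹)
        = j (dg c) * (w * ((j (dg c))⁻¹ * x * j (dg c)) * w) * (j (dg c))⁻¹ := by group
      _ = j (dg c) * (y * τ * w * y') * (j (dg c))⁻¹ := by
          have hfix := dg_fix B hx C.skew ex hc1
          rw [← e0, show (j (dg c))⁻¹ * x * j (dg c) = x by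
            conv_lhs => rw [← hfix]
            group]
      _ = j (dg c) * y * (j (dg c))⁻¹ * (j (dg c) * τ * (j (dg c))⁻¹) * (j (dg c) * w * (j (dg c))⁻¹) *
            (j (dg c) * y' * (j (dg c))⁻¹) := by group
      _ = _ := by
          rw [dg_fix B hy hb ey hc1, dg_fix B hy' hb' ey' hc1, ← (E.tor_dg (T.TT_tor hτ) c).eq,
            mul_inv_cancel_right]
  rw [e0, mul_left_inj, mul_right_inj] at key
  exact mul_eq_right.1 key.symm

theorem TData.TT_inj (T : TData E B t lt) (C : CentreRel E B t c₀) {g : G} (hg : g ∈ TT E t)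
    (h1 : π g = 1) : g = 1 := by
  obtain ⟨i, c, rfl⟩ := T.form hg
  have hN : (c : F) * σ c ≠ 0 := mul_ne_zero c.ne_zero ((map_ne_zero (qFrob hF)).2 c.ne_zero)
  rw [T.π_form, ← map_one (iota hF k B)] at h1
  have h2 := iota_injective hF k B h1
  have h3 := SU3Pres.T_act hF B (mul_ne_zero (pow_ne_zero i T.ne) hN) 1 0 0
  rw [h2, suVal_one', Matrix.one_mulVec] at h3
  have h4 : lt ^ i * ((c : F) * σ c) = 1 := by
    simpa using ((SU3Pres.co_inj hF B h3).1).symm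
  obtain ⟨d, hd⟩ := T.ord i (by
    rw [show lt ^ i = ((c : F) * σ c)⁻¹ from eq_inv_of_mul_eq_one_left h4, map_inv₀, map_mul, qFrob_qFrob hF,
      mul_comm (σ (c : F))])
  obtain ⟨a, ha⟩ := T.tq
  have e1 : t ^ i * hc j w c = hc j w (a ^ d * c) := by
    rw [← E.hHom_apply (a ^ d * c), map_mul, map_pow, ha, E.hHom_apply, hd, pow_mul]
  rw [e1]
  refine T.h_ker C ?_
  have h5 := congrArg π e1
  rw [T.π_form, E.hc_iota B] at h5
  have hN' : ((a ^ d * c : Fˣ) : F) * σ ((a ^ d * c : Fˣ) : F) ≠ 0 :=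
    mul_ne_zero (Units.ne_zero _) ((map_ne_zero (qFrob hF)).2 (Units.ne_zero _))
  have h6 := SU3Pres.T_act hF B (mul_ne_zero (pow_ne_zero i T.ne) hN) 1 0 0
  rw [iota_injective hF k B h5, SU3Pres.T_act hF B hN'] at h6
  have h7 := (SU3Pres.co_inj hF B h6).1
  rwa [h4, mul_one, mul_one] at h7

/-- The Borel part of the rank one group. -/
def Sx (T : TData E B t lt) : Subgroup G where
  carrier := {g | ∃ x ∈ X0 D, ∃ τ ∈ TT E t, g = x * τ}
  one_mem' := ⟨1, one_mem _, 1, one_mem _, (one_mul 1).symm⟩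
  mul_mem' := by
    rintro _ _ ⟨x, hx, τ, hτ, rfl⟩ ⟨x', hx', τ', hτ', rfl⟩
    exact ⟨x * (τ * x' * τ⁻¹), mul_mem hx ((E.tor_X0 (T.TT_tor hτ)).1 _ hx'), τ * τ', mul_mem hτ hτ',
      by group⟩
  inv_mem' := by
    rintro _ ⟨x, hx, τ, hτ, rfl⟩
    exact ⟨τ⁻¹ * x⁻¹ * τ, (E.tor_X0 (T.TT_tor hτ)).2 _ (inv_mem hx), τ⁻¹, inv_mem hτ, by group⟩

theorem TData.Sx_torus (T : TData E B t lt) (C : CentreRel E B t c₀) {g τ : G} (hg : g ∈ Sx T)
    (hτ : τ ∈ TT E t) (he : π g = π τ) : g = τ := by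
  obtain ⟨x, hx, τ', hτ', rfl⟩ := hg
  obtain ⟨α, b, ok, ex⟩ := corner_form hx B
  obtain ⟨i, c, ei⟩ := T.form (mul_mem hτ (inv_mem hτ'))
  have hN : (c : F) * σ c ≠ 0 := mul_ne_zero c.ne_zero ((map_ne_zero (qFrob hF)).2 c.ne_zero)
  have h1 : π x = π (τ * τ'⁻¹) := by rw [map_mul, map_inv, ← he, map_mul, mul_inv_cancel_right]
  rw [ex, ei, T.π_form] at h1
  have h2 := SU3Pres.U_act hF B ok 0 0 1
  rw [iota_injective hF k B h1, SU3Pres.T_act hF B (mul_ne_zero (pow_ne_zero i T.ne) hN)] at h2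
  obtain ⟨k0, k1, -⟩ := SU3Pres.co_inj hF B h2
  simp only [mul_zero, mul_one, map_zero, zero_sub, neg_zero, zero_add, sub_zero] at k0 k1
  have hx1 : x = 1 := by
    refine D.inj x hx.1 ?_
    rw [ex, ← k0, ← k1, SU3Pres.U_zero hF B, map_one]
  rw [hx1, one_mul] at he ⊢
  exact mul_inv_eq_one.1 (T.TT_inj C (mul_mem hτ' (inv_mem hτ))
    (by rw [map_mul, map_inv, he, mul_inv_cancel]))

omit [Fintype F] in
theorem units_of_prim {ω : F} (P : Prim q ω) :
    ∀ x : Fˣ, ∃ i : ℕ, x = Units.mk0 ω P.ne ^ i := fun x => by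
  obtain ⟨i, hi⟩ := P.gen x x.ne_zero
  exact ⟨i, Units.ext (by simpa using hi)⟩

/-- Rank one in odd dimension from the two relations. -/
theorem rank1_odd (T : TData E B t lt) (C : CentreRel E B t c₀) {ω r β : F} (P : Prim q ω)
    (hr : r * σ r = 1) (hr1 : r ≠ 1) (hcirc : ∀ g : F, g * σ g = 1 → ∃ i : ℕ, g = r ^ i)
    (hβ : β = r / (1 - r)) (hβt : β + σ β = -1)
    (hm : ∃ m : F, m ≠ 0 ∧ β / ω = SU3Pres.th hF m)
    (hRβ : ∃ x ∈ X0 D, π x = iota hF k B (SU3Pres.Um hF B 1 β) ∧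
      ∃ y ∈ X0 D, ∃ y' ∈ X0 D, ∃ τ ∈ TT E t, w * x * w = y * τ * w * y') :
    Rank1 E (TT E t) := by
  obtain ⟨x₀, hx₀, y₀, hy₀, y₀', hy₀', b, b', -, -, ex₀, -, -, τ₀, hτ₀, e₀⟩ := C.rel
  have hx0ne : x₀ ≠ 1 := fun h => by
    have h0 := ex₀.symm
    rw [h, map_one, ← map_one (iota hF k B)] at h0
    exact C.ne (SU3Pres.U_eq_one hF B (SU3Pres.OK.skew hF C.skew) (iota_injective hF k B h0)).2
  set G₃ := Subgroup.closure ((Sx T : Set G) ∪ {w}) with hG₃
  have hle : ∀ g : G₃, π g.1 ∈ (iota hF k B).range := by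
    intro g
    refine (Subgroup.closure_le (K := (iota hF k B).range.comap π)).2 ?_ g.2
    rintro _ (⟨x, hx, τ, hτ, rfl⟩ | rfl)
    · obtain ⟨α, b, -, ex⟩ := corner_form hx B
      obtain ⟨i, c, rfl⟩ := T.form hτ
      rw [SetLike.mem_coe, Subgroup.mem_comap, map_mul, ex, T.π_form]
      exact mul_mem ⟨_, rfl⟩ ⟨_, rfl⟩
    · rw [SetLike.mem_coe, Subgroup.mem_comap, E.πw, ← iota_Wm hF k B hW]
      exact ⟨_, rfl⟩
  let π₃ : G₃ →* SU 3 F q :=
    (MonoidHom.ofInjective (iota_injective hF k B)).symm.toMonoidHom.comp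
      ((π.comp G₃.subtype).codRestrict _ hle)
  have hπ₃ : ∀ g : G₃, iota hF k B (π₃ g) = π g.1 := fun g =>
    MonoidHom.apply_ofInjective_symm (iota_injective hF k B) ⟨π g.1, hle g⟩
  have hπ₃' : ∀ (g : G₃) (s : SU 3 F q), π g.1 = iota hF k B s → π₃ g = s := fun g s h =>
    iota_injective hF k B ((hπ₃ g).trans h)
  have hSw : Sx T ≤ G₃ := fun g hg => Subgroup.subset_closure (Or.inl hg)
  have hXS : ∀ {x : G}, x ∈ X0 D → x ∈ Sx T := fun hx => ⟨_, hx, 1, one_mem _, (mul_one _).symm⟩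
  have hTS : ∀ {τ : G}, τ ∈ TT E t → τ ∈ Sx T := fun hτ => ⟨1, one_mem _, _, hτ, (one_mul _).symm⟩
  set w₃ : G₃ := ⟨w, Subgroup.subset_closure (Or.inr rfl)⟩ with hw₃
  set S₃ : Subgroup G₃ := (Sx T).subgroupOf G₃ with hS₃
  have hCells : Cells hF B π₃ S₃ w₃ ω := by
    refine ⟨fun x hx h1 => ?_, fun x hx => ?_, fun a b hab => ?_, fun l hl => ?_, hπ₃' _ _ ?_,
      Subtype.ext T.w2, fun l hl x hx h1 => ?_, ?_, P.ne⟩
    · refine Subtype.ext (T.Sx_torus C hx (one_mem _) ?_)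
      rw [← hπ₃, h1, map_one, Subgroup.coe_one, map_one]
    · obtain ⟨y, hy, τ, hτ, e'⟩ := (hx : (x : G) ∈ Sx T)
      obtain ⟨a, b, hab, ey⟩ := corner_form hy B
      obtain ⟨i, c, rfl⟩ := T.form hτ
      have hl : lt ^ i * ((c : F) * σ c) ≠ 0 := mul_ne_zero (pow_ne_zero i T.ne)
        (mul_ne_zero c.ne_zero ((map_ne_zero (qFrob hF)).2 c.ne_zero))
      obtain ⟨i', hi'⟩ := P.gen _ hl
      refine ⟨a, b, i', hab, hπ₃' _ _ ?_⟩
      rw [show (x : G) = y * (t ^ i * hc j w c) from e', map_mul, ey, T.π_form, hi', map_mul]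
    · obtain ⟨x, hx, ex⟩ := corner_surj D B hab
      exact ⟨⟨x, hSw (hXS hx)⟩, hXS hx, hπ₃' _ _ ex⟩
    · obtain ⟨τ, hτ, eτ⟩ := T.surj hl
      exact ⟨⟨τ, hSw (hTS hτ)⟩, hTS hτ, hπ₃' _ _ eτ⟩
    · rw [hw₃, E.πw, iota_Wm hF k B hW]
    · obtain ⟨τ, hτ, eτ⟩ := T.surj hl
      have hx' : (x : G) = τ := T.Sx_torus C hx hτ (by rw [← hπ₃, h1, eτ])
      refine hTS ?_
      show w * (x : G) * w ∈ TT E t
      rw [hx']
      simpa only [T.w_inv] using T.w_TT.1 _ hτ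
    · have hset : (S₃ : Set G₃) ∪ {w₃} = (Subtype.val : G₃ → G) ⁻¹' ((Sx T : Set G) ∪ {w}) := by
        ext g
        simp [hS₃, hw₃, Subgroup.mem_subgroupOf, Subtype.ext_iff, or_comm]
      rw [hset]
      exact Subgroup.closure_closure_coe_preimage
  have hgood : ∀ {a b : F}, OK hF a b → ∀ x ∈ X0 D, π x = iota hF k B (SU3Pres.Um hF B a b) →
      (∃ y ∈ X0 D, ∃ y' ∈ X0 D, ∃ τ ∈ TT E t, w * x * w = y * τ * w * y') →
      Good hF B π₃ S₃ w₃ a b := by
    rintro a b hab x hx ex ⟨y, hy, y', hy', τ, hτ, he⟩ g hg eg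
    obtain rfl : g = ⟨x, hSw (hXS hx)⟩ := hCells.eq_of hg (hXS hx) (by rw [eg, hπ₃' _ _ ex])
    exact ⟨⟨y * τ, hSw (mul_mem (hXS hy) (hTS hτ))⟩, mul_mem (hXS hy) (hTS hτ), ⟨y', hSw (hXS hy')⟩,
      hXS hy', Subtype.ext he⟩
  obtain ⟨xβ, hxβ, exβ, hRβ⟩ := hRβ
  have hokβ : OK hF 1 β := by unfold SU3Pres.OK; rw [map_one, mul_one]; linear_combination hβt
  have hall := hCells.good_all (ω := Units.mk0 ω P.ne) (units_of_prim P) hr hr1 hcirc hβ hβt
    (by simpa using hm) C.skew C.ne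
    (hgood (SU3Pres.OK.skew hF C.skew) x₀ hx₀ ex₀ ⟨y₀, hy₀, y₀', hy₀', τ₀, hτ₀, e₀⟩)
    (hgood hokβ xβ hxβ exβ hRβ)
  refine ⟨T.TT_tor, T.w_TT, by rw [T.w2]; exact one_mem _, ⟨x₀, hx₀, hx0ne⟩, fun x hx hne => ?_, ?_⟩
  · obtain ⟨a, b, hab, ex⟩ := corner_form hx B
    have hne' : ¬(a = 0 ∧ b = 0) := fun h => hne (D.inj x hx.1
      (by rw [ex, h.1, h.2, SU3Pres.U_zero hF B, map_one]))
    obtain ⟨b₁, h1, b₂, h2, he⟩ := hall a b hab hne' ⟨x, hSw (hXS hx)⟩ (hXS hx) (hπ₃' _ _ ex)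
    obtain ⟨y, hy, τ, hτ, e1⟩ := (h1 : (b₁ : G) ∈ Sx T)
    obtain ⟨y', hy', τ', hτ', e2⟩ := (h2 : (b₂ : G) ∈ Sx T)
    refine ⟨y, hy, y', hy', τ, hτ, τ', hτ', ?_⟩
    have he' : w * x * w = (b₁ : G) * w * (b₂ : G) := congrArg Subtype.val he
    rw [he', show (b₁ : G) = y * τ from e1, show (b₂ : G) = y' * τ' from e2]
    group
  · intro τ hτ A hA
    obtain ⟨i, c, rfl⟩ := T.form hτ
    refine ⟨1, ?_⟩
    have hl : lt ^ i * ((c : F) * σ c) ≠ 0 := mul_ne_zero (pow_ne_zero i T.ne)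
      (mul_ne_zero c.ne_zero ((map_ne_zero (qFrob hF)).2 c.ne_zero))
    have hA' := hA
    rw [T.π_form] at hA
    have h := congrArg hval hA
    rw [iota_Tm hF k B hl, lev_val, levM, fromBlocks_inj, fromBlocks_inj] at h
    have h1 : lt ^ i * ((c : F) * σ c) = 1 := by rw [← tD_det (m := k + 2) hF (lt ^ i * _), h.1.1, A.2]
    rw [map_one, T.TT_inj C (mul_mem (pow_mem T.t_TT i) (T.h_TT c)) ?_]
    rw [T.π_form, h1, SU3Pres.T_one hF B, map_one]

end Cfsg.Agent.Lie.UnPres
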