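import Cfsg.Agent.Lib.Lie.UnPresEvenThree
import Cfsg.Agent.Lib.Lie.UnPresRankOdd

/-!
The odd model values, the scalars, and the words of the rank one group.
-/

set_option autoImplicit false
set_option linter.unusedSectionVars false

namespace Cfsg.Agent.Lie.UnPres

open Matrix Cfsg.Agent.Classical Cfsg.Agent.Classical.PSUAut Cfsg.Agent.Fus.UnitN Cfsg.Agent.Lie.SUGen
open Cfsg.Agent.Lie.SpnPres (sval_mul sval_one inv_mulVec mulVec_inv exists_col)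
open scoped commutatorElement

variable {F : Type*} [Field F] [Fintype F] {q : ℕ} (hF : Fintype.card F = q ^ 2) {k m ε : ℕ}

local notation "σ" => qFrob hF

include hF

/-- The multiplier of the torus word. -/
def ltv (μ β : F) : F := (σ β)⁻¹ * (σ μ)⁻¹

/-- The scalars of the odd case. -/
structure OPar (μ ω r β k₁ : F) : Prop where
  μt : μ + σ μ = 0
  μ0 : μ ≠ 0
  prim : Prim q ω
  hr : r * σ r = 1
  hr1 : r ≠ 1
  hcirc : ∀ g : F, g * σ g = 1 → ∃ i : ℕ, g = r ^ i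
  hβ : β = r / (1 - r)
  hβt : β + σ β = -1
  hm : ∃ m : F, m ≠ 0 ∧ β / ω = SU3Pres.th hF m
  hk₁ : k₁ + σ k₁ = 1
  lt_real : σ (ltv hF μ β / ω) = ltv hF μ β / ω

/-- The scalars exist, with the generator as the multiplier of the torus word. -/
theorem exists_opar : ∃ μ ω r β k₁ : F, OPar hF μ ω r β k₁ ∧ ltv hF μ β = ω := by
  obtain ⟨ω, P⟩ := exists_prim hF
  obtain ⟨k₁, hk₁⟩ := exists_trace_eq hF (a := (1 : F)) (map_one _)
  have hω' : σ ω ≠ 0 := (map_ne_zero (qFrob hF)).2 P.ne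
  have hne : σ ω - ω ≠ 0 := sub_ne_zero.2 (P.not_real hF)
  have hr : ω / σ ω * σ (ω / σ ω) = 1 := by
    rw [map_div₀, qFrob_qFrob hF]
    have := P.ne
    field_simp
  have hr1 : ω / σ ω ≠ 1 := fun h => P.not_real hF ((div_eq_one_iff_eq hω').1 h).symm
  have hβ : ω / σ ω / (1 - ω / σ ω) = ω / (σ ω - ω) := by field_simp
  have hs : σ (ω / (σ ω - ω) / ω) = -(ω / (σ ω - ω) / ω) := by
    have hne' : ω - σ ω ≠ 0 := sub_ne_zero.2 (Ne.symm (P.not_real hF))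
    have := P.ne
    rw [map_div₀, map_div₀, map_sub, qFrob_qFrob hF]
    field_simp
    ring
  have hne' : ω - σ ω ≠ 0 := sub_ne_zero.2 (Ne.symm (P.not_real hF))
  have hω := P.ne
  have hμ : (σ ω * (ω / (σ ω - ω)))⁻¹ + σ (σ ω * (ω / (σ ω - ω)))⁻¹ = 0 := by
    simp only [map_inv₀, map_mul, map_div₀, map_sub, qFrob_qFrob hF]
    field_simp
    ring
  have hμ0 : (σ ω * (ω / (σ ω - ω)))⁻¹ ≠ 0 := inv_ne_zero (mul_ne_zero hω' (div_ne_zero hω hne))
  have hlt : ltv hF (σ ω * (ω / (σ ω - ω)))⁻¹ (ω / σ ω / (1 - ω / σ ω)) = ω := by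
    rw [hβ, ltv]
    simp only [map_inv₀, map_mul, map_div₀, map_sub, qFrob_qFrob hF, inv_inv]
    field_simp
  refine ⟨(σ ω * (ω / (σ ω - ω)))⁻¹, ω, ω / σ ω, ω / σ ω / (1 - ω / σ ω), k₁, ⟨hμ, hμ0, P, hr, hr1, fun g hg => ?_,
    rfl, ?_, ?_, hk₁, ?_⟩, hlt⟩
  · obtain ⟨i, rfl⟩ := P.circle_gen hF hg
    refine ⟨q * i, ?_⟩
    rw [pow_mul]
    congr 1
    rw [div_pow, qFrob_apply, ← pow_mul]
    have h2 := two_le_q hF
    have e : ω ^ (q * q) = ω := by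
      rw [show q * q = q ^ 2 - 1 + 1 by rw [Nat.sub_add_cancel (Nat.one_le_pow _ _ (by omega))]; ring,
        pow_succ, P.pow_N hF, one_mul]
    rw [e, eq_div_iff P.ne, ← pow_succ, Nat.sub_add_cancel (by omega : 1 ≤ q)]
  · rw [hβ, map_div₀, map_sub, qFrob_qFrob hF]
    have hne' : ω - σ ω ≠ 0 := sub_ne_zero.2 (Ne.symm (P.not_real hF))
    field_simp
    ring
  · rw [hβ]
    refine SU3Pres.th_of_sq hF (r := (ω / (σ ω - ω) / ω) ^ 2) (l := 1) ?_ one_ne_zero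
      (by rw [SU3Pres.th_one hF, one_mul]) (div_ne_zero (div_ne_zero P.ne hne) P.ne)
    rw [map_pow, hs, neg_sq]
  · rw [hlt, div_self hω, map_one]

variable {μ ω r β k₁ : F}

theorem OPar.β_ne (O : OPar hF μ ω r β k₁) : β ≠ 0 := fun h => by
  have := O.hβt
  rw [h, map_zero, add_zero] at this
  exact one_ne_zero (neg_eq_zero.1 this.symm)

theorem OPar.β_not_real (O : OPar hF μ ω r β k₁) : σ β ≠ β := fun h => by
  have hr0 : r ≠ 0 := left_ne_zero_of_mul (O.hr ▸ one_ne_zero)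
  have h1r : 1 - r ≠ 0 := sub_ne_zero.2 (Ne.symm O.hr1)
  have h2 := O.hβt
  rw [h, O.hβ] at h2
  field_simp at h2
  have hm1 : r = -1 := by linear_combination h2
  obtain ⟨i, hi⟩ := O.hcirc (ω ^ (q - 1)) (O.prim.eps_norm hF)
  have e2 : ω ^ (2 * (q - 1)) = 1 := by
    rw [mul_comm, pow_mul, hi, hm1, ← pow_mul, mul_comm, pow_mul, neg_one_sq, one_pow]
  have h3 := two_le_q hF
  have := Nat.le_of_dvd (by omega) (O.prim.ord _ e2)
  nlinarith [Nat.sub_add_cancel (show 1 ≤ q by omega),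
    Nat.sub_add_cancel (show 1 ≤ q ^ 2 from Nat.one_le_pow _ _ (by omega))]

theorem OPar.lt_ne (O : OPar hF μ ω r β k₁) : ltv hF μ β ≠ 0 :=
  mul_ne_zero (inv_ne_zero ((map_ne_zero (qFrob hF)).2 (OPar.β_ne hF O))) (inv_ne_zero ((map_ne_zero (qFrob hF)).2 O.μ0))

theorem OPar.lt_ord (O : OPar hF μ ω r β k₁) (i : ℕ) (h : σ (ltv hF μ β ^ i) = ltv hF μ β ^ i) : q + 1 ∣ i := by
  have hl := O.lt_real
  set ρ := ltv hF μ β / ω with hρ
  have hρ0 : ρ ≠ 0 := div_ne_zero (OPar.lt_ne hF O) O.prim.ne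
  rw [show ltv hF μ β = ρ * ω by rw [hρ, div_mul_cancel₀ _ O.prim.ne], map_pow, map_mul, hl, mul_pow, mul_pow,
    mul_right_inj' (pow_ne_zero i hρ0), qFrob_apply, ← pow_mul] at h
  have h2 := two_le_q hF
  have h1 : ω ^ ((q - 1) * i) = 1 := by
    refine mul_right_cancel₀ (pow_ne_zero i O.prim.ne) ?_
    rw [← pow_add, one_mul, show (q - 1) * i + i = q * i by
      rw [← Nat.succ_mul, Nat.succ_eq_add_one, Nat.sub_add_cancel (by omega : 1 ≤ q)], h]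
  have := O.prim.ord _ h1
  rw [show q ^ 2 - 1 = (q - 1) * (q + 1) by rw [mul_comm, ← Nat.sq_sub_sq, one_pow]] at this
  exact Nat.dvd_of_mul_dvd_mul_left (by omega) this

theorem OPar.lt_cls (O : OPar hF μ ω r β k₁) (l : F) (hl : l ≠ 0) :
    ∃ i : ℕ, σ (l / ltv hF μ β ^ i) = l / ltv hF μ β ^ i := by
  obtain ⟨i, rfl⟩ := O.prim.gen l hl
  refine ⟨i, ?_⟩
  have e : ω ^ i / ltv hF μ β ^ i = ((ltv hF μ β / ω) ^ i)⁻¹ := by rw [div_pow, inv_div]
  rw [e, map_inv₀, map_pow, O.lt_real]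

/-- Every scalar is a power of the multiplier times a norm. -/
theorem OPar.exists_form (O : OPar hF μ ω r β k₁) (l : F) (hl : l ≠ 0) :
    ∃ (i : ℕ) (c : Fˣ), l = ltv hF μ β ^ i * ((c : F) * σ (c : F)) := by
  obtain ⟨i, hi⟩ := OPar.lt_cls hF O l hl
  obtain ⟨c, hc⟩ := exists_norm hF hi
  have hne : l / ltv hF μ β ^ i ≠ 0 := div_ne_zero hl (pow_ne_zero _ (OPar.lt_ne hF O))
  have hc0 : c ≠ 0 := fun h => hne (by rw [← hc, h, zero_mul])
  exact ⟨i, Units.mk0 c hc0, by rw [Units.val_mk0, hc, mul_div_cancel₀ _ (pow_ne_zero _ (OPar.lt_ne hF O))]⟩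

theorem wok_odd : WOK hF (1 : F) (-1) 1 :=
  ⟨one_ne_zero, by rw [map_neg, map_one]; ring, by rw [map_one, div_one, pow_one]; ring⟩

/-- The model of the orbit of a Heisenberg element. -/
noncomputable def Φ₀ (β : F) (v : Fin m → F) : Hgrp hF m 1 := uH hF (cv v) (β • vv hF v)

theorem Φ₀_conj (hβ : β + σ β = -1) (A : SpecialLinearGroup (Fin m) F) (v : Fin m → F) :
    lev hF 1 A * Φ₀ hF β v * (lev hF 1 A)⁻¹ = Φ₀ hF β (A.1 *ᵥ v) := by
  rw [Φ₀, lev_uH hF _ (cv_ok hF hβ v), cv_mul, Matrix.mul_smul, Matrix.smul_mul, ← vv_conj]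
  rfl

theorem Φ₀_fix (hβ : β + σ β = -1) {A : SpecialLinearGroup (Fin m) F} {v : Fin m → F} (h : A.1 *ᵥ v = v) :
    lev hF 1 A * Φ₀ hF β v = Φ₀ hF β v * lev hF 1 A := by
  rw [← mul_inv_eq_iff_eq_mul, Φ₀_conj hF hβ, h]

/-- The central value of a pair. -/
def cz (v w : Fin m → F) : Matrix (Fin m) (Fin m) F :=
  vecMulVec w (fun i => σ (v i)) - vecMulVec v fun i => σ (w i)

theorem cz_ok (v w : Fin m → F) : UOK hF (0 : Matrix (Fin m) (Fin 1) F) (cz hF v w) := by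
  rw [UOK, Matrix.zero_mul, add_zero]
  ext a b
  simp only [cz, Matrix.add_apply, Matrix.sub_apply, ct_apply, vecMulVec_apply, map_sub, map_mul,
    qFrob_qFrob hF, Matrix.zero_apply]
  ring

theorem Φ₀_comm (hβ : β + σ β = -1) (v w : Fin m → F) : ⁅Φ₀ hF β v, Φ₀ hF β w⁆ = uH hF 0 (cz hF v w) := by
  have hv := cv_ok hF hβ v
  have hw := cv_ok hF hβ w
  rw [Φ₀, Φ₀, commutatorElement_def, mul_inv_eq_iff_eq_mul, mul_inv_eq_iff_eq_mul,
    mul_assoc, uH_mul hF hw hv, uH_mul hF hv hw, uH_mul hF (cz_ok hF v w) (hw.mul hF hv), cv_ct, cv_ct, zero_add,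
    Matrix.zero_mul, sub_zero, add_comm (cv w)]
  congr 1
  simp only [cz]
  abel

theorem Φ₀_R (hβ : β + σ β = -1) (v w : Fin m → F) :
    Φ₀ hF β v * Φ₀ hF β w = Φ₀ hF β (v + w) * ⁅Φ₀ hF β ((-σ β) • v), Φ₀ hF β w⁆ := by
  rw [Φ₀_comm hF hβ, Φ₀, Φ₀, Φ₀, uH_mul hF (cv_ok hF hβ v) (cv_ok hF hβ w),
    uH_mul hF (cv_ok hF hβ (v + w)) (cz_ok hF _ _), ct_zero, Matrix.mul_zero, sub_zero, add_zero, cv_add, cv_ct]
  congr 1
  ext a b
  simp only [cz, vv, Matrix.sub_apply, Matrix.add_apply, Matrix.smul_apply, vecMulVec_apply, Pi.add_apply,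
    Pi.smul_apply, smul_eq_mul, map_add, map_mul, map_neg, qFrob_qFrob hF]
  linear_combination (-(v a) * σ (w b)) * hβ

theorem Φ₀_B (hβ : β + σ β = -1) (u v w : Fin m → F) :
    ⁅Φ₀ hF β u, Φ₀ hF β v⁆ * Φ₀ hF β w = Φ₀ hF β w * ⁅Φ₀ hF β u, Φ₀ hF β v⁆ := by
  rw [Φ₀_comm hF hβ, Φ₀, uH_mul hF (cz_ok hF u v) (cv_ok hF hβ w), uH_mul hF (cv_ok hF hβ w) (cz_ok hF u v),
    ct_zero, Matrix.mul_zero, Matrix.zero_mul, zero_add, add_zero, add_comm (cz hF u v)]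

theorem Φ₀_S (hβ : β + σ β = -1) (c : F) (v w : Fin m → F) :
    ⁅Φ₀ hF β (c • v), Φ₀ hF β w⁆ = ⁅Φ₀ hF β v, Φ₀ hF β (σ c • w)⁆ := by
  rw [Φ₀_comm hF hβ, Φ₀_comm hF hβ]
  congr 1
  ext a b
  simp only [cz, Matrix.sub_apply, vecMulVec_apply, Pi.smul_apply, smul_eq_mul, map_mul, qFrob_qFrob hF]
  ring

theorem cz_hv (hμ : μ + σ μ = 0) (v w : Fin m → F) : cz hF v (μ • w) = μ • hv hF v w := by
  ext a b
  simp only [cz, hv, Matrix.sub_apply, Matrix.add_apply, Matrix.smul_apply, vecMulVec_apply, Pi.smul_apply,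
    smul_eq_mul, map_mul, show σ μ = -μ by linear_combination hμ]
  ring

theorem cz_diag {c k : F} (hk : k + σ k = 1) (hc : c + σ c = 0) (v : Fin m → F) :
    cz hF (k • v) (c • v) = c • vv hF v := by
  ext a b
  simp only [cz, vv, Matrix.sub_apply, Matrix.smul_apply, vecMulVec_apply, Pi.smul_apply,
    smul_eq_mul, map_mul, show σ c = -c by linear_combination hc]
  linear_combination (c * v a * σ (v b)) * hk

theorem wH_Φ₀ (hβ : β + σ β = -1) {v : Fin (k + 2) → F} (hv : v 0 = 0) :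
    wH hF (wok_odd hF) 0 * Φ₀ hF β v * (wH hF (wok_odd hF) 0)⁻¹ = Φ₀ hF β (-v) := by
  have e : ∀ (a b : Fin (k + 2)), a = 0 ∨ b = 0 → (β • vv hF v) a b = 0 := by
    intro a b h
    rcases h with rfl | rfl <;> simp [vv, vecMulVec_apply, hv]
  rw [Φ₀, (wH_uH hF (wok_odd hF) (cv_ok hF hβ v) ?_ ?_ ?_).2, Φ₀, inv_neg, inv_one, neg_one_smul]
  · congr 1
    ext a b
    simp [vv, vecMulVec_apply]
  · ext a b
    rcases eq_or_ne a 0 with rfl | ha
    · simp [Pd, Matrix.diagonal_mul, cv, hv]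
    · simp [Pd, Matrix.diagonal_mul, ha]
  · ext a b
    rcases eq_or_ne a 0 with rfl | ha
    · simp [Pd, Matrix.diagonal_mul, e 0 b (Or.inl rfl)]
    · simp [Pd, Matrix.diagonal_mul, ha]
  · ext a b
    rcases eq_or_ne b 0 with rfl | hb
    · simp [Pd, Matrix.mul_diagonal, e a 0 (Or.inr rfl)]
    · simp [Pd, Matrix.mul_diagonal, hb]

theorem hc_model_Φ₀ (hβ : β + σ β = -1) (c : Fˣ) (v : Fin (k + 2) → F) :
    lev hF 1 (dg c : SpecialLinearGroup (Fin (k + 2)) F) * wH hF (wok_odd hF) 0 *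
      (lev hF 1 (dg c : SpecialLinearGroup (Fin (k + 2)) F))⁻¹ * (wH hF (wok_odd hF) 0)⁻¹ * Φ₀ hF β v *
      (lev hF 1 (dg c : SpecialLinearGroup (Fin (k + 2)) F) * wH hF (wok_odd hF) 0 *
        (lev hF 1 (dg c : SpecialLinearGroup (Fin (k + 2)) F))⁻¹ * (wH hF (wok_odd hF) 0)⁻¹)⁻¹ =
      Φ₀ hF β (tD hF (nu hF c : F) *ᵥ v) := by
  rw [mul_inv_eq_iff_eq_mul]
  refine hext ?_
  have hl : (nu hF c : F) ≠ 0 := (nu hF c).ne_zero
  have hl' : σ (nu hF c : F) ≠ 0 := (map_ne_zero (qFrob hF)).2 hl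
  have hd := dg_torus (k := k) hF (wok_odd hF) c
  rw [hval_mul _ (Φ₀ hF β v), hval_mul (Φ₀ hF β (tD hF (nu hF c : F) *ᵥ v)), hd, Φ₀, Φ₀,
    uH_val hF (cv_ok hF hβ v), uH_val hF (cv_ok hF hβ _)]
  simp only [uMat, fromBlocks_multiply, fromBlocks_mul_fromRows, fromCols_mul_fromBlocks, fromRows_mul,
    mul_fromCols, Matrix.mul_zero, Matrix.zero_mul, add_zero, zero_add, one_smul, Matrix.one_mul, Matrix.mul_one,
    Matrix.mul_neg, vv_conj, ct_tD, ← nu_val hF, Matrix.mul_smul, Matrix.smul_mul, ← cv_mul, ct_mul, neg_zero, smul_zero]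
  congr 1
  · congr 1
    rw [Matrix.mul_assoc _ (tD hF (σ (nu hF c : F))), tD_mul, mul_inv_cancel₀ hl', tD_one, Matrix.mul_one]
  · rw [Matrix.mul_assoc, tD_mul, mul_inv_cancel₀ hl', tD_one, Matrix.mul_one]

section Frame

variable {e n f : Fin 3 → F}

theorem iota_Φ₀ (B : Frame3 q e n f) (hβ : β + σ β = -1) (γ : F) :
    Φ₀ hF β (Pi.single 0 γ : Fin (k + 2) → F) = iota hF k B (SU3Pres.Um hF B (σ γ) (β * (γ * σ γ))) := by
  have hok : SU3Pres.OK hF (σ γ) (β * (γ * σ γ)) := by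
    unfold SU3Pres.OK
    simp only [map_mul, qFrob_qFrob hF]
    linear_combination (γ * σ γ) * hβ
  rw [(iota_Um hF k B hok).2, qFrob_qFrob hF, Φ₀]
  congr 1
  · ext a c
    obtain rfl : c = 0 := Subsingleton.elim _ _
    rcases eq_or_ne a 0 with rfl | ha
    · simp [cv]
    · simp [cv, ha, ha.symm]
  · rw [show (Pi.single 0 γ : Fin (k + 2) → F) = γ • Pi.single 0 1 by rw [← Pi.single_smul, smul_eq_mul, mul_one],
      vv_smul, vv_single_zero, smul_smul, Matrix.smul_single, smul_eq_mul, mul_one]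

end Frame

/-- A corner element as a word. -/
noncomputable def xw (β k₁ : F) {P : Type*} [Group P] (jf : SpecialLinearGroup (Fin (k + 2)) F → P) (u : P)
    (γ b : F) : P :=
  Tw jf u (Pi.single 0 γ) *
    ⁅Tw jf u (Pi.single 0 k₁), Tw jf u (Pi.single 0 (b - β * (γ * σ γ)))⁆

/-- The torus element of a corner element as a word. -/
noncomputable def tw (β k₁ : F) {P : Type*} [Group P] (jf : SpecialLinearGroup (Fin (k + 2)) F → P) (u w : P)
    (α b : F) : P :=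
  (xw hF β k₁ jf u (σ (-α / b)) b⁻¹)⁻¹ * (w * xw hF β k₁ jf u (σ α) b * w) *
    (xw hF β k₁ jf u (σ (-α / σ b)) b⁻¹)⁻¹ * w⁻¹

theorem xw_map {P Q : Type*} [Group P] [Group Q] (f : P →* Q)
    (jf : SpecialLinearGroup (Fin (k + 2)) F → P) (u : P) (γ b : F) :
    f (xw hF β k₁ jf u γ b) = xw hF β k₁ (fun A => f (jf A)) (f u) γ b := by
  simp [xw, Tw_map, map_commutatorElement]

theorem tw_map {P Q : Type*} [Group P] [Group Q] (f : P →* Q)
    (jf : SpecialLinearGroup (Fin (k + 2)) F → P) (u w : P) (α b : F) :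
    f (tw hF β k₁ jf u w α b) = tw hF β k₁ (fun A => f (jf A)) (f u) (f w) α b := by
  simp [tw, xw_map]

section Model

variable {e n f : Fin 3 → F}

theorem xw_model (B : Frame3 q e n f) (hβ : β + σ β = -1) (hk₁ : k₁ + σ k₁ = 1) {α b : F}
    (hok : SU3Pres.OK hF α b) :
    xw hF β k₁ (lev hF 1) (Φ₀ hF β (Pi.single (0 : Fin (k + 2)) 1)) (σ α) b =
      iota hF k B (SU3Pres.Um hF B α b) := by
  have hT : Tw (lev hF 1) (Φ₀ hF β (Pi.single (0 : Fin (k + 2)) 1)) = Φ₀ hF β := funext (Tw_heis hF hβ)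
  have hok' : SU3Pres.OK hF α (β * (σ α * σ (σ α))) := by
    unfold SU3Pres.OK
    simp only [map_mul, qFrob_qFrob hF]
    linear_combination (α * σ α) * hβ
  have hc : b - β * (σ α * σ (σ α)) + σ (b - β * (σ α * σ (σ α))) = 0 := by
    unfold SU3Pres.OK at hok hok'
    rw [map_sub]
    linear_combination hok - hok'
  have hs : ∀ x : F, (Pi.single 0 x : Fin (k + 2) → F) = x • Pi.single 0 1 := fun x => by
    rw [← Pi.single_smul, smul_eq_mul, mul_one]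
  rw [xw, hT, iota_Φ₀ hF B hβ, Φ₀_comm hF hβ, hs k₁, hs (b - _), cz_diag hF hk₁ hc, vv_single_zero,
    Matrix.smul_single, smul_eq_mul, mul_one, qFrob_qFrob hF]
  simp only [qFrob_qFrob hF] at hok' hc
  have h0 := iota_Um hF k B (SU3Pres.OK.skew hF hc)
  rw [map_zero, Matrix.single_zero] at h0
  rw [← h0.2, ← map_mul, SU3Pres.U_mul hF B hok' (SU3Pres.OK.skew hF hc)]
  congr 2
  · rw [add_zero]
  · ring

theorem tw_model (B : Frame3 q e n f) (hβ : β + σ β = -1) (hk₁ : k₁ + σ k₁ = 1) {α b : F}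
    (hok : SU3Pres.OK hF α b) (hb : b ≠ 0) :
    tw hF β k₁ (lev hF 1) (Φ₀ hF β (Pi.single (0 : Fin (k + 2)) 1)) (wH hF (wok_odd hF) 0) α b =
      iota hF k B (SU3Pres.Tm hF B (σ b)⁻¹) := by
  have hb' : σ b ≠ 0 := (map_ne_zero (qFrob hF)).2 hb
  have h2 : SU3Pres.OK hF (-α / σ b) b⁻¹ := by
    unfold SU3Pres.OK at *
    simp only [map_neg, map_div₀, map_inv₀, qFrob_qFrob hF]
    field_simp
    linear_combination hok
  have h1 : SU3Pres.OK hF (-α / b) b⁻¹ := by have := hok.first hF hb; rwa [one_div] at this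
  rw [tw, xw_model hF B hβ hk₁ h1, xw_model hF B hβ hk₁ hok, xw_model hF B hβ hk₁ h2,
    ← iota_Wm hF k B (wok_odd hF), ← map_mul, ← map_mul, SU3Pres.rank_one hF B hok hb, one_div, one_div,
    ← map_inv (iota hF k B), ← map_inv (iota hF k B), ← map_inv (iota hF k B), ← map_mul, ← map_mul, ← map_mul]
  congr 1
  group

end Model

end Cfsg.Agent.Lie.UnPres
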