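import Cfsg.Agent.Lib.Lie.UnPresOddFinish
import Cfsg.Agent.Lib.Lie.UnPresEvenRels
import Cfsg.Agent.Lib.Lie.UnPresOrbit

/-!
The relations in odd dimension, from three coordinates on.
-/

set_option autoImplicit false
set_option linter.unusedSectionVars false

namespace Cfsg.Agent.Lie.UnPres

open Matrix Cfsg.Agent.Classical Cfsg.Agent.Classical.PSUAut
open Cfsg.Agent.Lie.SpnPres (sval_mul sval_one inv_mulVec mulVec_inv exists_col)
open scoped commutatorElement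

variable {F : Type*} [Field F] [Fintype F] {q : ℕ} (hF : Fintype.card F = q ^ 2) {k : ℕ}

local notation "σ" => qFrob hF
local notation "SLm" => SpecialLinearGroup (Fin (k + 2)) F
local notation "e₀" => (Pi.single (0 : Fin (k + 2)) (1 : F) : Fin (k + 2) → F)
local notation "e₁" => (Pi.single (1 : Fin (k + 2)) (1 : F) : Fin (k + 2) → F)
local notation "e₂" => (Pi.single (2 : Fin (k + 2)) (1 : F) : Fin (k + 2) → F)

/-- A commutator commuting with a third vector. -/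
def BP {V Q : Type*} [Group Q] (T : V → Q) (a b c : V) : Q × Q := (⁅T a, T b⁆ * T c, T c * ⁅T a, T b⁆)

theorem BP_map {V P Q : Type*} [Group P] [Group Q] (f : P →* Q) (T : V → P) (a b c : V) :
    Prod.map f f (BP T a b c) = BP (fun v => f (T v)) a b c := by simp [BP, map_commutatorElement]

/-- The relations in odd dimension. -/
noncomputable def relOdd (μ ω β k₁ : F) (i₁ i₂ : ℕ) (c₁ c₂ c₃ : Fˣ)
    (a b : SpecialLinearGroup (Fin (k + 1)) F) {P : Type*} [Group P]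
    (jf : SpecialLinearGroup (Fin (k + 2)) F → P) (u w : P) : List (P × P) :=
  [(jf (extL a) * u, u * jf (extL a)), (jf (extL b) * u, u * jf (extL b)),
    (jf (rowE (Pi.single 0 1)) * u, u * jf (rowE (Pi.single 0 1))),
    (Tw jf u e₀ * Tw jf u e₁, Tw jf u (e₀ + e₁) * ⁅Tw jf u ((-qFrob hF β) • e₀), Tw jf u e₁⁆),
    BP (Tw jf u) e₀ e₁ e₂,
    (⁅Tw jf u (ω • e₀), Tw jf u e₁⁆, ⁅Tw jf u e₀, Tw jf u (qFrob hF ω • e₁)⁆),
    (w * jf (extL a), jf (extL a) * w), (w * jf (extL b), jf (extL b) * w),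
    (w * Tw jf u e₁ * w⁻¹, Tw jf u (-e₁)),
    (w * ⁅Tw jf u e₀, Tw jf u (μ • e₁)⁆ * w⁻¹,
      jf (colE fun i => μ * (Pi.single 0 1 : Fin (k + 1) → F) i)),
    (w * (jf (swp 1 0) * w * (jf (swp 1 0))⁻¹), jf (swp 1 0) * w * (jf (swp 1 0))⁻¹ * w)] ++
  relTorus hF μ β k₁ i₁ i₂ c₁ c₂ c₃ jf u w

include hF

variable {μ ω r β k₁ : F} {i₁ i₂ : ℕ} {c₁ c₂ c₃ : Fˣ}

theorem relOdd_map {P Q : Type*} [Group P] [Group Q] (f : P →* Q)
    (a b : SpecialLinearGroup (Fin (k + 1)) F) (jf : SLm → P) (u w : P) :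
    (relOdd hF μ ω β k₁ i₁ i₂ c₁ c₂ c₃ a b jf u w).map (Prod.map f f) =
      relOdd hF μ ω β k₁ i₁ i₂ c₁ c₂ c₃ a b (fun A => f (jf A)) (f u) (f w) := by
  rw [relOdd, List.map_append, relTorus_map]
  simp [relOdd, Tw_map, BP_map, map_commutatorElement]

theorem relOdd_length {P : Type*} [Group P] (a b : SpecialLinearGroup (Fin (k + 1)) F) (jf : SLm → P) (u w : P) :
    (relOdd hF μ ω β k₁ i₁ i₂ c₁ c₂ c₃ a b jf u w).length = 15 := rfl

theorem relOdd_model (O : OPar hF μ ω r β k₁) (T : TPar hF μ β i₁ i₂ c₁ c₂ c₃)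
    (a b : SpecialLinearGroup (Fin (k + 1)) F) :
    ∀ p ∈ relOdd hF μ ω β k₁ i₁ i₂ c₁ c₂ c₃ a b (lev hF 1) (Φ₀ hF β e₀) (wH hF (wok_odd hF) 0), p.1 = p.2 := by
  refine List.forall_mem_append.2 ⟨?_, relTorus_model O T⟩
  have hβ := O.hβt
  have hT : Tw (lev hF 1) (Φ₀ hF β e₀) = Φ₀ hF (m := k + 2) β := funext (Tw_heis hF hβ)
  have h10 : (0 : Fin (k + 2)) ≠ 1 := by simp
  simp only [List.forall_mem_cons, List.not_mem_nil, false_imp_iff, implies_true, and_true, BP, hT]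
  refine ⟨Φ₀_fix hF hβ (extL_zero a), Φ₀_fix hF hβ (extL_zero b), Φ₀_fix hF hβ (rowE_fix _),
    Φ₀_R hF hβ _ _, Φ₀_B hF hβ _ _ _, Φ₀_S hF hβ _ _ _, wH_extL hF (wok_odd hF) a, wH_extL hF (wok_odd hF) b,
    wH_Φ₀ hF hβ (Pi.single_eq_of_ne h10 _), ?_, (W1_model hF (wok_odd hF)).eq⟩
  rw [Φ₀_comm hF hβ, cz_hv hF O.μt,
    show e₁ = (Fin.cons 0 (Pi.single 0 1) : Fin (k + 2) → F) by rw [cons_single, Fin.succ_zero_eq_one]]
  have := wY_model (k := k) hF (wok_odd hF) O.μt (Pi.single 0 1)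
  simp only [map_one, one_mul] at this
  exact this

section Derive

variable {hF} {G : Type*} [Group G] {π : G →* Hgrp hF (k + 2) 1}
  {j : SpecialLinearGroup (Fin (k + 2)) F →* G} {u w : G}
  {a b : SpecialLinearGroup (Fin (k + 1)) F}

/-- What the relations say about the orbit. -/
structure ODat (ω β : F) (π : G →* Hgrp hF (k + 2) 1) (j : SpecialLinearGroup (Fin (k + 2)) F →* G)
    (Φ : (Fin (k + 2) → F) → G) : Prop where
  orb : HOrb π j β Φ
  add : ∀ v v', Ind2 F v v' → Φ v * Φ v' = Φ (v + v') * ⁅Φ ((-qFrob hF β) • v), Φ v'⁆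
  scal : ∀ v v', Ind2 F v v' → ⁅Φ (ω • v), Φ v'⁆ = ⁅Φ v, Φ (qFrob hF ω • v')⁆

theorem relOdd_orbit (O : OPar hF μ ω r β k₁) (hk : 1 ≤ k)
    (hab : Subgroup.closure ({a, b} : Set (SpecialLinearGroup (Fin (k + 1)) F)) = ⊤)
    (hπj : ∀ A, π (j A) = lev hF 1 A) (hπu : π u = Φ₀ hF β (Pi.single 0 1))
    (h : ∀ p ∈ relOdd hF μ ω β k₁ i₁ i₂ c₁ c₂ c₃ a b j u w, p.1 = p.2) :
    ∃ Φ : (Fin (k + 2) → F) → G, Φ e₀ = u ∧ Tw j u = Φ ∧ ODat ω β π j Φ := by
  simp only [relOdd, List.forall_mem_append, List.forall_mem_cons, List.not_mem_nil, false_imp_iff, implies_true,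
    and_true, BP] at h
  obtain ⟨⟨h1, h2, h3, h4, -, h6, -⟩, -⟩ := h
  have hext := ext_of_pair j u hab h1 h2
  have hfix : ∀ M : SLm, M.1 *ᵥ e₀ = e₀ → Commute (j M) u := fun M hM =>
    commute_stab j u hext (row_of_one j u hk hext h3) hM
  obtain ⟨Φ, hT0, hTu, hT, hTj⟩ := exists_orbit j u hfix
  have hTw : Tw j u = Φ := funext (Tw_eq j u hT0 hT)
  rw [hTw] at h4 h6
  have hπT : ∀ v, π (Φ v) = Φ₀ hF β v := fun v => by
    rw [← hTw, Tw_map]
    simp only [hπj, hπu]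
    exact Tw_heis hF O.hβt v
  refine ⟨Φ, hTu, hTw, ⟨O.hβt, hT0, hπT, fun A v => hTj A v⟩, ?_, ?_⟩
  · intro v v' hvv
    obtain ⟨g, d, -, rfl, rfl, hd⟩ := exists_pair_move hvv
    rw [hd hk, one_smul, ← Matrix.mulVec_smul, ← Matrix.mulVec_add, hTj, hTj, hTj, hTj]
    calc _ = j g * (Φ e₀ * Φ e₁) * (j g)⁻¹ := by group
      _ = _ := by rw [h4]; simp only [commutatorElement_def]; group
  · intro v v' hvv
    obtain ⟨g, d, -, rfl, rfl, hd⟩ := exists_pair_move hvv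
    rw [hd hk, one_smul, ← Matrix.mulVec_smul, ← Matrix.mulVec_smul, hTj, hTj, hTj g (qFrob hF ω • e₁), hTj g e₀]
    calc _ = j g * ⁅Φ (ω • e₀), Φ e₁⁆ * (j g)⁻¹ := by simp only [commutatorElement_def]; group
      _ = _ := by rw [h6]; simp only [commutatorElement_def]; group

omit hF in
theorem BP_move {V : Type*} (T : V → G) (L : V → V) (g : G) (hT : ∀ v, g * T v * g⁻¹ = T (L v)) {x y z : V}
    (h : Commute ⁅T x, T y⁆ (T z)) : Commute ⁅T (L x), T (L y)⁆ (T (L z)) := by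
  rw [← hT, ← hT, ← hT]
  have := h.map (MulAut.conj g).toMonoidHom
  rwa [map_commutatorElement] at this

theorem relOdd_weyl (O : OPar hF μ ω r β k₁) (hk : 1 ≤ k)
    (hab : Subgroup.closure ({a, b} : Set (SpecialLinearGroup (Fin (k + 1)) F)) = ⊤)
    (hπj : ∀ A, π (j A) = lev hF 1 A) (hπu : π u = Φ₀ hF β (Pi.single 0 1))
    (hπw : π w = wH hF (wok_odd hF) 0) (hgen : j.range ⊔ Subgroup.closure {u, w} = ⊤)
    (h : ∀ p ∈ relOdd hF μ ω β k₁ i₁ i₂ c₁ c₂ c₃ a b j u w, p.1 = p.2) {Φ : (Fin (k + 2) → F) → G}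
    (hΦu : Φ e₀ = u) (hTw : Tw j u = Φ) (A : ODat ω β π j Φ)
    (hB : ∀ x y z, Ind3 F x y z → Commute ⁅Φ x, Φ y⁆ (Φ z))
    (hdim : ∀ a : Fin (k + 2) → F, a ≠ 0 → ∃ y, Ind2 F a y)
    (hdim3 : ∀ a b : Fin (k + 2) → F, Ind2 F a b → ∃ u, Ind3 F a b u) : Function.Injective π := by
  obtain ⟨U, D, hΦU⟩ := udata_heis hπj A.orb O.prim O.μt O.μ0 hdim hdim3 A.add hB A.scal
  simp only [relOdd, List.forall_mem_append, List.forall_mem_cons, List.not_mem_nil, false_imp_iff, implies_true,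
    and_true, BP, hTw] at h
  obtain ⟨⟨-, -, -, -, -, -, h7, h8, h9, h10, h11⟩, htor⟩ := h
  have hext : ∀ N, Commute w (j (extL N)) := fun N =>
    (ext_of_pair j w hab (show Commute w (j (extL a)) from h7).symm (show Commute w (j (extL b)) from h8).symm N).symm
  obtain ⟨l, rfl⟩ : ∃ l, k = l + 1 := ⟨k - 1, by omega⟩
  refine odd_finish O hπj hπu hπw hgen hTw hΦu D hΦU A.orb.tπ hext (fun v hv => ?_) (fun rr y hy e => ?_) h11 htor
  · rcases eq_or_ne v 0 with rfl | hv0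
    · rw [neg_zero, A.orb.t0, mul_one, mul_inv_cancel]
    have ht : Fin.tail v ≠ 0 := fun e => hv0 (by
      funext i
      cases i using Fin.cases with
      | zero => exact hv
      | succ i => exact congrFun e i)
    obtain ⟨N, hN⟩ := exists_col (n := l) 0 ht
    have ev : v = (extL N).1 *ᵥ (Pi.single 1 1 : Fin (l + 1 + 2) → F) := by
      rw [← Fin.succ_zero_eq_one, ← cons_single, extL_cons, hN, ← hv, Fin.cons_self_tail]
    rw [ev, ← Matrix.mulVec_neg, A.orb.tj, A.orb.tj]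
    have hc := (hext N).eq
    calc w * (j (extL N) * Φ (Pi.single 1 1) * (j (extL N))⁻¹) * w⁻¹
        = w * j (extL N) * Φ (Pi.single 1 1) * (w * j (extL N))⁻¹ := by group
      _ = j (extL N) * (w * Φ (Pi.single 1 1) * w⁻¹) * (j (extL N))⁻¹ := by rw [hc]; group
      _ = _ := by rw [h9]
  · rcases eq_or_ne rr 0 with rfl | hr
    · have : y = 1 := by
        refine D.inj y hy (e.trans ?_)
        have hz : (Fin.cons 0 0 : Fin (l + 1 + 2) → F) = 0 := by ext i; cases i using Fin.cases <;> simp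
        rw [hz, show hv hF (Pi.single 0 1 : Fin (l + 1 + 2) → F) 0 = 0 by ext a b; simp [hv, vecMulVec_apply],
          smul_zero, uH_zero]
      rw [this, mul_one, mul_inv_cancel]
      exact one_mem _
    obtain ⟨N, rfl⟩ := exists_col (n := l) 0 hr
    refine pair_move D hext N (y₁ := ⁅Φ (Pi.single 0 1), Φ (μ • Pi.single 1 1)⁆) (r₁ := Pi.single 0 1)
      ?_ O.μt ?_ ?_ hy e
    · rw [commutatorElement_def]
      exact mul_mem (mul_mem (mul_mem (hΦU _) (hΦU _)) (inv_mem (hΦU _))) (inv_mem (hΦU _))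
    · rw [comm_pi A.orb, cons_single, Fin.succ_zero_eq_one]
      exact congrArg (uH hF 0) (cz_hv hF O.μt _ _)
    · rw [h10]
      exact mem_colJ.2 ⟨_, ⟨_, rfl⟩, rfl⟩

/-- Injectivity in odd dimension from four coordinates on. -/
theorem relOdd_injective (O : OPar hF μ ω r β k₁) (hk : 2 ≤ k)
    (hab : Subgroup.closure ({a, b} : Set (SpecialLinearGroup (Fin (k + 1)) F)) = ⊤)
    (hπj : ∀ A, π (j A) = lev hF 1 A) (hπu : π u = Φ₀ hF β (Pi.single 0 1))
    (hπw : π w = wH hF (wok_odd hF) 0) (hgen : j.range ⊔ Subgroup.closure {u, w} = ⊤)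
    (h : ∀ p ∈ relOdd hF μ ω β k₁ i₁ i₂ c₁ c₂ c₃ a b j u w, p.1 = p.2) : Function.Injective π := by
  obtain ⟨Φ, hΦu, hTw, A⟩ := relOdd_orbit O (by omega) hab hπj hπu h
  refine relOdd_weyl O (by omega) hab hπj hπu hπw hgen h hΦu hTw A (fun x y z hxyz => ?_) exists_ind2
    (exists_ind3 (by omega))
  simp only [relOdd, List.forall_mem_append, List.forall_mem_cons, List.not_mem_nil, false_imp_iff, implies_true,
    and_true, BP, hTw] at h
  obtain ⟨⟨-, -, -, -, h5, -⟩, -⟩ := h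
  obtain ⟨l, rfl⟩ : ∃ l, k = l + 2 := ⟨k - 2, by omega⟩
  obtain ⟨g, d, -, rfl, rfl, rfl, hd⟩ := exists_triple_move (k := l + 1) hxyz
  rw [hd (by omega), one_smul]
  exact BP_move Φ _ (j g) (fun v => (A.orb.tj g v).symm) h5

end Derive

end Cfsg.Agent.Lie.UnPres
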