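import Cfsg.Agent.Lib.Lie.UnPresAb

/-!
The unipotent radical inside a group over the frame group.
-/

set_option autoImplicit false
set_option linter.unusedSectionVars false

namespace Cfsg.Agent.Lie.UnPres

open Matrix Cfsg.Agent.Classical Cfsg.Agent.Classical.PSUAut
open scoped commutatorElement

variable {F : Type*} [Field F] [Fintype F] {q : ℕ} (hF : Fintype.card F = q ^ 2) {m ε : ℕ}
variable {G : Type*} [Group G]

include hF

/-- A subgroup mapped isomorphically onto the unipotent radical. -/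
structure UData (π : G →* Hgrp hF m ε) (j : SpecialLinearGroup (Fin m) F →* G) (U : Subgroup G) : Prop where
  πj : ∀ A, π (j A) = lev hF ε A
  inj : ∀ u ∈ U, π u = 1 → u = 1
  img : ∀ u ∈ U, ∃ v Z, UOK hF v Z ∧ π u = uH hF v Z
  surj : ∀ v Z, UOK hF v Z → ∃ u ∈ U, π u = uH hF v Z
  norm : ∀ A, ∀ u ∈ U, j A * u * (j A)⁻¹ ∈ U

theorem skew_form {μ : F} (hμt : μ + qFrob hF μ = 0) (hμ0 : μ ≠ 0) {Z : Matrix (Fin m) (Fin m) F}
    (hZ : UOK hF (0 : Matrix (Fin m) (Fin ε) F) Z) :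
    ∃ M : Matrix (Fin m) (Fin m) F, (∀ a b, qFrob hF (M b a) = M a b) ∧ Z = μ • M := by
  refine ⟨μ⁻¹ • Z, fun a b => ?_, by rw [smul_smul, mul_inv_cancel₀ hμ0, one_smul]⟩
  have h := congrFun (congrFun hZ a) b
  simp only [Matrix.add_apply, Matrix.zero_mul, Matrix.zero_apply, add_zero, ct_apply] at h
  simp only [Matrix.smul_apply, smul_eq_mul, map_mul, map_inv₀]
  rw [show qFrob hF μ = -μ by linear_combination hμt, show qFrob hF (Z b a) = -Z a b by linear_combination h,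
    inv_neg, neg_mul_neg]

/-- The column of a vector. -/
def cv (v : Fin m → F) : Matrix (Fin m) (Fin 1) F := Matrix.of fun i _ => v i

omit hF in
theorem cv_add (v w : Fin m → F) : cv (v + w) = cv v + cv w := rfl

omit hF in
theorem cv_mul (A : Matrix (Fin m) (Fin m) F) (v : Fin m → F) : A * cv v = cv (A *ᵥ v) := by
  ext i a; simp [cv, Matrix.mul_apply, Matrix.mulVec, dotProduct]

theorem cv_ct (v w : Fin m → F) : cv v * ct hF (cv w) = vecMulVec v fun i => qFrob hF (w i) := by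
  ext a b; simp [cv, Matrix.mul_apply, ct_apply, vecMulVec_apply]

omit hF in
theorem cv_surj (v : Matrix (Fin m) (Fin 1) F) : v = cv fun i => v i 0 := by
  ext i a
  rw [Subsingleton.elim a 0]
  rfl

theorem cv_ok {c₀ : F} (hc : c₀ + qFrob hF c₀ = -1) (v : Fin m → F) : UOK hF (cv v) (c₀ • vv hF v) := by
  rw [UOK, cv_ct]
  ext a b
  simp only [Matrix.add_apply, Matrix.smul_apply, smul_eq_mul, ct_apply, map_mul, vv_herm, Matrix.zero_apply]
  show c₀ * vv hF v a b + qFrob hF c₀ * vv hF v a b + vv hF v a b = 0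
  linear_combination (vv hF v a b) * hc

variable {hF} {π : G →* Hgrp hF m ε} {j : SpecialLinearGroup (Fin m) F →* G}

/-- The even case. -/
theorem udata_even {π : G →* Hgrp hF m 0} {μ : F} {Z : Subgroup G} (hμt : μ + qFrob hF μ = 0) (hμ0 : μ ≠ 0)
    (hj : ∀ A, π (j A) = lev hF 0 A) (D : ZData hF π j μ Z) : UData hF π j Z := by
  refine ⟨hj, D.inj, fun u hu => ?_, fun v Z' h => ?_, D.norm⟩
  · obtain ⟨M, hM, e⟩ := D.img u hu
    exact ⟨0, μ • M, skew_ok hF hμt hM, e⟩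
  · obtain rfl : v = 0 := Subsingleton.elim _ _
    obtain ⟨M, hM, rfl⟩ := skew_form hF hμt hμ0 h
    exact D.surj M hM

/-- The hypotheses on the orbit of a Heisenberg element. -/
structure HOrb (π : G →* Hgrp hF m 1) (j : SpecialLinearGroup (Fin m) F →* G) (c₀ : F)
    (Φ : (Fin m → F) → G) : Prop where
  tr : c₀ + qFrob hF c₀ = -1
  t0 : Φ 0 = 1
  tπ : ∀ v, π (Φ v) = uH hF (cv v) (c₀ • vv hF v)
  tj : ∀ (A : SpecialLinearGroup (Fin m) F) v, Φ (A.1 *ᵥ v) = j A * Φ v * (j A)⁻¹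

variable {πo : G →* Hgrp hF m 1} {c₀ μ : F} {Φ : (Fin m → F) → G} {Z : Subgroup G}

theorem comm_pi (O : HOrb πo j c₀ Φ) (v w : Fin m → F) :
    πo ⁅Φ v, Φ w⁆ = uH hF 0 (vecMulVec w (fun i => qFrob hF (v i)) - vecMulVec v fun i => qFrob hF (w i)) := by
  have hv := cv_ok hF O.tr v
  have hw := cv_ok hF O.tr w
  have hz : UOK hF (0 : Matrix (Fin m) (Fin 1) F)
      (vecMulVec w (fun i => qFrob hF (v i)) - vecMulVec v fun i => qFrob hF (w i)) := by
    rw [UOK, Matrix.zero_mul, add_zero]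
    ext a b
    simp only [Matrix.add_apply, Matrix.sub_apply, ct_apply, vecMulVec_apply, map_sub, map_mul,
      qFrob_qFrob hF, Matrix.zero_apply]
    ring
  rw [map_commutatorElement, O.tπ, O.tπ, commutatorElement_def, mul_inv_eq_iff_eq_mul, mul_inv_eq_iff_eq_mul,
    mul_assoc, uH_mul hF hw hv, uH_mul hF hv hw, uH_mul hF hz (hw.mul hF hv), cv_ct, cv_ct, zero_add,
    Matrix.zero_mul, sub_zero, add_comm (cv w)]
  congr 1
  abel

omit hF in
/-- Additivity modulo the centre everywhere from independent pairs. -/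
theorem add_of_indep (h0 : Φ 0 = 1) (hcen : ∀ z ∈ Z, ∀ v, Commute z (Φ v))
    (hcomm : ∀ z ∈ Z, ∀ z' ∈ Z, Commute z z') (hdim : ∀ a : Fin m → F, a ≠ 0 → ∃ y, Ind2 F a y)
    (hind : ∀ v w, Ind2 F v w → ∃ h ∈ Z, Φ v * Φ w = Φ (v + w) * h) (v w : Fin m → F) :
    ∃ h ∈ Z, Φ v * Φ w = Φ (v + w) * h := by
  rcases eq_or_ne v 0 with rfl | hv
  · exact ⟨1, one_mem _, by rw [h0, zero_add, one_mul, mul_one]⟩
  rcases eq_or_ne w 0 with rfl | hw
  · exact ⟨1, one_mem _, by rw [h0, add_zero]⟩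
  by_cases hi : Ind2 F v w
  · exact hind v w hi
  obtain ⟨t, ht⟩ : ∃ t : F, w = t • v := by
    by_contra hne
    exact hi ⟨hv, fun t ht => hne ⟨t, ht⟩⟩
  obtain ⟨p, hp⟩ := hdim v hv
  rcases eq_or_ne (v + w) 0 with h0' | hne
  · obtain ⟨h1, m1, e1⟩ := hind (p + v) w ⟨fun e => hp.2 (-1) (by
        rw [neg_one_smul]; exact eq_neg_of_add_eq_zero_left e), fun s hs => by
      rcases eq_or_ne s 0 with rfl | hs0
      · exact hw (by rw [hs, zero_smul])
      · refine hp.2 (s⁻¹ * t - 1) ?_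
        have h' : s • p = (t - s) • v := by rw [sub_smul, ← ht, hs, smul_add]; abel
        rw [show s⁻¹ * t - 1 = s⁻¹ * (t - s) by rw [mul_sub, inv_mul_cancel₀ hs0], ← smul_smul, ← h',
          smul_smul, inv_mul_cancel₀ hs0, one_smul]⟩
    obtain ⟨h2, m2, e2⟩ := hind p v hp.symm
    rw [show p + v + w = p by rw [add_assoc, h0', add_zero]] at e1
    refine ⟨h1 * h2, mul_mem m1 m2, ?_⟩
    rw [h0', h0, one_mul]
    have e3 : Φ (p + v) = Φ p * Φ v * h2⁻¹ := eq_mul_inv_of_mul_eq e2.symm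
    rw [e3] at e1
    have hc := ((hcen h2 m2 w).inv_left).eq
    have e4 : Φ p * (Φ v * Φ w) * h2⁻¹ = Φ p * h1 := by
      rw [← e1]; simp only [mul_assoc]; rw [hc]
    rw [mul_assoc (Φ p)] at e4
    exact mul_inv_eq_iff_eq_mul.1 (mul_left_cancel e4)
  have i1 : Ind2 F v (w - p) := ⟨hv, fun s hs => hp.2 (t - s) (by rw [sub_smul, ← ht, ← hs, sub_sub_cancel])⟩
  have i2 : Ind2 F (w - p) p := by
    refine ⟨fun e => hp.2 t (by rw [← ht]; exact (sub_eq_zero.1 e).symm), fun s hs => ?_⟩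
    rcases eq_or_ne (1 + s) 0 with h1 | h1
    · exact hw (by rw [show s = -1 by linear_combination h1] at hs
                   linear_combination (norm := module) hs)
    · refine hp.2 ((1 + s)⁻¹ * (s * t)) ?_
      have h' : (1 + s) • p = (s * t) • v := by
        rw [← smul_smul, ← ht]; linear_combination (norm := module) hs
      rw [← smul_smul, ← h', smul_smul, inv_mul_cancel₀ h1, one_smul]
  have i3 : Ind2 F (v + (w - p)) p := by
    refine ⟨fun e => hp.2 (1 + t) (by rw [add_smul, one_smul, ← ht]; linear_combination (norm := module) (-1 : ℤ) • e), fun s hs => ?_⟩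
    rcases eq_or_ne (1 + s) 0 with h1 | h1
    · refine hne ?_
      rw [show s = -1 by linear_combination h1] at hs
      linear_combination (norm := module) hs
    · refine hp.2 ((1 + s)⁻¹ * (s * (1 + t))) ?_
      have h' : (1 + s) • p = (s * (1 + t)) • v := by
        rw [← smul_smul, add_smul 1 t v, one_smul, ← ht]; linear_combination (norm := module) hs
      rw [← smul_smul, ← h', smul_smul, inv_mul_cancel₀ h1, one_smul]
  obtain ⟨h1, m1, e1⟩ := hind _ _ i2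
  obtain ⟨h2, m2, e2⟩ := hind _ _ i1
  obtain ⟨h3, m3, e3⟩ := hind _ _ i3
  rw [sub_add_cancel] at e1
  rw [show v + (w - p) + p = v + w by abel] at e3
  refine ⟨h3 * (h2 * h1⁻¹), mul_mem m3 (mul_mem m2 (inv_mem m1)), ?_⟩
  rw [show Φ w = Φ (w - p) * Φ p * h1⁻¹ from eq_mul_inv_of_mul_eq e1.symm]
  calc Φ v * (Φ (w - p) * Φ p * h1⁻¹) = Φ v * Φ (w - p) * Φ p * h1⁻¹ := by simp only [mul_assoc]
    _ = Φ (v + (w - p)) * (h2 * Φ p) * h1⁻¹ := by rw [e2]; simp only [mul_assoc]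
    _ = Φ (v + (w - p)) * Φ p * (h2 * h1⁻¹) := by rw [(hcen h2 m2 p).eq]; simp only [mul_assoc]
    _ = _ := by rw [e3]; simp only [mul_assoc]

/-- The Heisenberg case, from a centre and additivity modulo it. -/
theorem udata_odd (hj : ∀ A, πo (j A) = lev hF 1 A) (O : HOrb πo j c₀ Φ) (hμt : μ + qFrob hF μ = 0)
    (hμ0 : μ ≠ 0) (D : ZData hF πo j μ Z) (hcen : ∀ z ∈ Z, ∀ v, Commute z (Φ v))
    (hadd : ∀ v w, ∃ h ∈ Z, Φ v * Φ w = Φ (v + w) * h) :
    ∃ U, UData hF πo j U ∧ (∀ v, Φ v ∈ U) ∧ Z ≤ U := by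
  let U : Subgroup G :=
    { carrier := {u | ∃ v, ∃ h ∈ Z, u = Φ v * h}
      one_mem' := ⟨0, 1, one_mem _, by rw [O.t0, mul_one]⟩
      mul_mem' := by
        rintro _ _ ⟨v, h, mh, rfl⟩ ⟨w, h', mh', rfl⟩
        obtain ⟨z, mz, e⟩ := hadd v w
        refine ⟨v + w, z * (h * h'), mul_mem mz (mul_mem mh mh'), ?_⟩
        calc Φ v * h * (Φ w * h') = Φ v * (h * Φ w) * h' := by simp only [mul_assoc]
          _ = Φ v * Φ w * (h * h') := by rw [(hcen h mh w).eq]; simp only [mul_assoc]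
          _ = _ := by rw [e, mul_assoc]
      inv_mem' := by
        rintro _ ⟨v, h, mh, rfl⟩
        obtain ⟨z, mz, e⟩ := hadd v (-v)
        rw [add_neg_cancel, O.t0, one_mul] at e
        refine ⟨-v, z⁻¹ * h⁻¹, mul_mem (inv_mem mz) (inv_mem mh), inv_eq_of_mul_eq_one_right ?_⟩
        calc Φ v * h * (Φ (-v) * (z⁻¹ * h⁻¹)) = Φ v * (h * Φ (-v)) * (z⁻¹ * h⁻¹) := by simp only [mul_assoc]
          _ = Φ v * Φ (-v) * (h * (z⁻¹ * h⁻¹)) := by rw [(hcen h mh (-v)).eq]; simp only [mul_assoc]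
          _ = 1 := by rw [e, ← mul_assoc h, (D.comm h mh _ (inv_mem mz)).eq]; group }
  have hval : ∀ v (M : Matrix (Fin m) (Fin m) F) h, (∀ a b, qFrob hF (M b a) = M a b) →
      πo h = uH hF 0 (μ • M) → πo (Φ v * h) = uH hF (cv v) (c₀ • vv hF v + μ • M) := by
    intro v M h hM e
    rw [map_mul, O.tπ, e, uH_mul hF (cv_ok hF O.tr v) (skew_ok hF hμt hM), add_zero, ct_zero, Matrix.mul_zero,
      sub_zero]
  refine ⟨U, ⟨hj, ?_, ?_, ?_, ?_⟩, fun v => ⟨v, 1, one_mem _, (mul_one _).symm⟩,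
    fun h mh => ⟨0, h, mh, by rw [O.t0, one_mul]⟩⟩
  · rintro _ ⟨v, h, mh, rfl⟩ h1
    obtain ⟨M, hM, e⟩ := D.img h mh
    rw [hval v M h hM e, ← uH_zero hF] at h1
    have hok := (cv_ok hF O.tr v).mul hF (skew_ok (ε := 1) hF hμt hM)
    rw [add_zero, ct_zero, Matrix.mul_zero, sub_zero] at hok
    obtain ⟨hv0, -⟩ := uH_inj hF hok (UOK.zero hF) h1
    have hv : v = 0 := funext fun i => congrFun (congrFun hv0 i) 0
    rw [hv, O.t0, one_mul]
    refine D.inj h mh ?_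
    rw [hv] at h1
    rw [e, ← uH_zero hF]
    rw [show vv hF (0 : Fin m → F) = 0 by ext a b; simp [vv, vecMulVec_apply],
      show cv (0 : Fin m → F) = 0 from rfl, smul_zero, zero_add] at h1
    exact h1
  · rintro _ ⟨v, h, mh, rfl⟩
    obtain ⟨M, hM, e⟩ := D.img h mh
    have hok := (cv_ok hF O.tr v).mul hF (skew_ok (ε := 1) hF hμt hM)
    rw [add_zero, ct_zero, Matrix.mul_zero, sub_zero] at hok
    exact ⟨_, _, hok, hval v M h hM e⟩
  · intro v Z' hok
    obtain ⟨v, rfl⟩ : ∃ w, v = cv w := ⟨_, cv_surj v⟩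
    have hsk : UOK hF (0 : Matrix (Fin m) (Fin 1) F) (Z' - c₀ • vv hF v) := by
      have h1 := cv_ok hF O.tr v
      unfold UOK at *
      rw [Matrix.zero_mul, add_zero, sub_eq_add_neg, ct_add, ct_neg]
      linear_combination (norm := abel) hok - h1
    obtain ⟨M, hM, eM⟩ := skew_form hF hμt hμ0 hsk
    obtain ⟨h, mh, e⟩ := D.surj M hM
    exact ⟨Φ v * h, ⟨v, h, mh, rfl⟩, by rw [hval v M h hM e, ← eM, add_sub_cancel]⟩
  · rintro A _ ⟨v, h, mh, rfl⟩
    exact ⟨A.1 *ᵥ v, j A * h * (j A)⁻¹, D.norm A h mh, by rw [← conj_mul, O.tj]⟩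

/-- The centre in dimension at least three. -/
theorem udata_heis (hj : ∀ A, πo (j A) = lev hF 1 A) (O : HOrb πo j c₀ Φ) {ω : F} (P : Prim q ω)
    (hμt : μ + qFrob hF μ = 0) (hμ0 : μ ≠ 0) (hdim : ∀ a : Fin m → F, a ≠ 0 → ∃ y, Ind2 F a y)
    (hdim3 : ∀ a b : Fin m → F, Ind2 F a b → ∃ u, Ind3 F a b u)
    (hR : ∀ v w, Ind2 F v w → Φ v * Φ w = Φ (v + w) * ⁅Φ ((-qFrob hF c₀) • v), Φ w⁆)
    (hB : ∀ v w z, Ind3 F v w z → Commute ⁅Φ v, Φ w⁆ (Φ z))
    (hS : ∀ v w, Ind2 F v w → ⁅Φ (ω • v), Φ w⁆ = ⁅Φ v, Φ (qFrob hF ω • w)⁆) :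
    ∃ U, UData hF πo j U ∧ ∀ v, Φ v ∈ U := by
  set a := -qFrob hF c₀ with hadef
  have ha : a ≠ 0 := fun e => by
    have := O.tr
    rw [neg_eq_zero, map_eq_zero] at e
    rw [e, map_zero, add_zero] at this
    exact one_ne_zero (neg_eq_zero.1 this.symm)
  have cC : ∀ x y z : G, Commute x y → Commute x z → Commute x ⁅y, z⁆ := fun x y z h1 h2 => by
    rw [commutatorElement_def]
    exact ((h1.mul_right h2).mul_right h1.inv_right).mul_right h2.inv_right
  -- commutators of independent pairs are central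
  have cen1 : ∀ v w, Ind2 F v w → ∀ z, Commute ⁅Φ v, Φ w⁆ (Φ z) := by
    intro v w hvw z
    by_cases h3 : Ind3 F v w z
    · exact hB v w z h3
    rcases eq_or_ne z 0 with rfl | hz
    · rw [O.t0]; exact Commute.one_right _
    obtain ⟨s, t, hst⟩ : ∃ s t : F, z = s • v + t • w := by
      by_contra hne
      exact h3 ⟨hvw, fun s t e => hne ⟨s, t, e⟩⟩
    obtain ⟨p, hp⟩ := hdim3 v w hvw
    have j1 : Ind3 F v w (z - p) := ⟨hvw, fun s' t' e => hp.2 (s - s') (t - t') (by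
      rw [hst] at e; linear_combination (norm := module) (-1 : ℤ) • e)⟩
    have j2 : Ind3 F v w (a • (z - p)) := ⟨hvw, fun s' t' e => j1.2 (a⁻¹ * s') (a⁻¹ * t') (by
      rw [← smul_smul, ← smul_smul, ← smul_add, ← e, smul_smul, inv_mul_cancel₀ ha, one_smul])⟩
    have j3 : Ind2 F (z - p) p := ⟨fun e => j1.2 0 0 (by rw [e, zero_smul, zero_smul, add_zero]),
      fun r hr => by
        rcases eq_or_ne (1 + r) 0 with h1 | h1
        · refine hz ?_
          rw [show r = -1 by linear_combination h1] at hr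
          linear_combination (norm := module) hr
        · refine hp.2 ((1 + r)⁻¹ * (r * s)) ((1 + r)⁻¹ * (r * t)) ?_
          have h' : (1 + r) • p = (r * s) • v + (r * t) • w := by
            rw [hst] at hr; linear_combination (norm := module) hr
          rw [mul_smul (1 + r)⁻¹, mul_smul (1 + r)⁻¹, ← smul_add, ← h', smul_smul, inv_mul_cancel₀ h1, one_smul]⟩
    have e := hR _ _ j3
    rw [sub_add_cancel] at e
    rw [eq_mul_inv_of_mul_eq e.symm]
    exact ((hB _ _ _ j1).mul_right (hB _ _ _ hp)).mul_right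
      (cC _ _ _ (hB _ _ _ j2) (hB _ _ _ hp)).inv_right
  have hcen : ∀ v w z, Commute ⁅Φ v, Φ w⁆ (Φ z) := by
    intro v w z
    rcases eq_or_ne v 0 with rfl | hv
    · rw [O.t0, commutatorElement_one_left]; exact Commute.one_left _
    rcases eq_or_ne w 0 with rfl | hw
    · rw [O.t0, commutatorElement_one_right]; exact Commute.one_left _
    by_cases hi : Ind2 F v w
    · exact cen1 v w hi z
    obtain ⟨t, ht⟩ : ∃ t : F, w = t • v := by
      by_contra hne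
      exact hi ⟨hv, fun t ht => hne ⟨t, ht⟩⟩
    obtain ⟨p, hp⟩ := hdim v hv
    have i1 : Ind2 F v (w - p) := ⟨hv, fun s hs => hp.2 (t - s) (by rw [sub_smul, ← ht, ← hs, sub_sub_cancel])⟩
    have i2 : Ind2 F (w - p) p := by
      refine ⟨fun e => hp.2 t (by rw [← ht]; exact (sub_eq_zero.1 e).symm), fun s hs => ?_⟩
      rcases eq_or_ne (1 + s) 0 with h1 | h1
      · exact hw (by rw [show s = -1 by linear_combination h1] at hs
                     linear_combination (norm := module) hs)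
      · refine hp.2 ((1 + s)⁻¹ * (s * t)) ?_
        have h' : (1 + s) • p = (s * t) • v := by
          rw [← smul_smul, ← ht]; linear_combination (norm := module) hs
        rw [← smul_smul, ← h', smul_smul, inv_mul_cancel₀ h1, one_smul]
    have i3 : Ind2 F (a • (w - p)) p := i2.smul_left ha
    have e := hR _ _ i2
    rw [sub_add_cancel] at e
    rw [eq_mul_inv_of_mul_eq e.symm, commutatorElement_def]
    set c := ⁅Φ (a • (w - p)), Φ p⁆ with hc
    have k1 := cen1 _ _ i1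
    have k2 := cen1 _ _ hp
    have k3 := cen1 _ _ i3
    have e' : Φ v * (Φ (w - p) * Φ p * c⁻¹) * (Φ v)⁻¹ * (Φ (w - p) * Φ p * c⁻¹)⁻¹ =
        ⁅Φ v, Φ (w - p)⁆ * ⁅Φ v, Φ p⁆ := by
      have h1 : c⁻¹ * (Φ v)⁻¹ = (Φ v)⁻¹ * c⁻¹ := ((k3 v).inv_left.inv_right).eq
      have h2 := (k2 (w - p)).eq
      calc Φ v * (Φ (w - p) * Φ p * c⁻¹) * (Φ v)⁻¹ * (Φ (w - p) * Φ p * c⁻¹)⁻¹
          = Φ v * Φ (w - p) * Φ p * (c⁻¹ * (Φ v)⁻¹) * c * (Φ p)⁻¹ * (Φ (w - p))⁻¹ := by group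
        _ = Φ v * Φ (w - p) * (Φ v)⁻¹ * (⁅Φ v, Φ p⁆ * (Φ (w - p))⁻¹) := by
            rw [h1, commutatorElement_def]; group
        _ = _ := by rw [((k2 (w - p)).inv_right).eq, commutatorElement_def (Φ v) (Φ (w - p))]; group
    rw [e']
    exact (k1 z).mul_left (k2 z)
  -- the centre
  set S : Set G := Set.range fun x : (Fin m → F) × (Fin m → F) => ⁅Φ x.1, Φ x.2⁆ with hSdef
  have hSc : ∀ x ∈ S, ∀ y ∈ S, Commute x y := by
    rintro _ ⟨x, rfl⟩ _ ⟨y, rfl⟩
    exact cC _ _ _ (hcen _ _ _) (hcen _ _ _)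
  set K := Subgroup.closure S with hKdef
  letI : CommGroup K := setCG S hSc
  have hKcen : ∀ z ∈ K, ∀ v, Commute z (Φ v) := fun z hz v => (commute_closure hz (by
    rintro _ ⟨x, rfl⟩; exact (hcen _ _ _).symm)).symm
  have memK : ∀ v w, ⁅Φ v, Φ w⁆ ∈ K := fun v w => Subgroup.subset_closure ⟨(v, w), rfl⟩
  have hind : ∀ v w, Ind2 F v w → ∃ h ∈ K, Φ v * Φ w = Φ (v + w) * h := fun v w h =>
    ⟨_, memK _ _, hR v w h⟩
  have hadd := add_of_indep O.t0 hKcen (fun z hz z' hz' => congrArg Subtype.val (mul_comm (⟨z, hz⟩ : K) ⟨z', hz'⟩))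
    hdim hind
  let C : (Fin m → F) → (Fin m → F) → Additive K := fun v w => Additive.ofMul ⟨⁅Φ v, Φ w⁆, memK v w⟩
  have hext : ∀ {x y : Additive K}, (x.toMul : G) = (y.toMul : G) → x = y := fun h =>
    Additive.toMul.injective (Subtype.ext h)
  have Caddl : ∀ u v w, C (u + v) w = C u w + C v w := by
    intro u v w
    obtain ⟨h, mh, e⟩ := hadd u v
    refine hext ?_
    show ⁅Φ (u + v), Φ w⁆ = ⁅Φ u, Φ w⁆ * ⁅Φ v, Φ w⁆
    rw [eq_mul_inv_of_mul_eq e.symm]
    have h1 := (hKcen h mh w).eq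
    have h2 := (hcen v w u).eq
    have h3 : Commute ⁅Φ v, Φ w⁆ ⁅Φ u, Φ w⁆ := cC _ _ _ (hcen _ _ _) (hcen _ _ _)
    calc ⁅Φ u * Φ v * h⁻¹, Φ w⁆ = Φ u * Φ v * h⁻¹ * (Φ w * h) * (Φ v)⁻¹ * (Φ u)⁻¹ * (Φ w)⁻¹ := by
          rw [commutatorElement_def]; group
      _ = Φ u * ⁅Φ v, Φ w⁆ * Φ w * (Φ u)⁻¹ * (Φ w)⁻¹ := by rw [← h1, commutatorElement_def]; group
      _ = ⁅Φ v, Φ w⁆ * ⁅Φ u, Φ w⁆ := by rw [← h2, commutatorElement_def (Φ u)]; group
      _ = _ := h3.eq
  have Calt : ∀ v w, C w v = -C v w := fun v w => hext (by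
    show ⁅Φ w, Φ v⁆ = ⁅Φ v, Φ w⁆⁻¹
    rw [commutatorElement_inv])
  have Caddr : ∀ u v w, C u (v + w) = C u v + C u w := fun u v w => by
    rw [Calt, Caddl, neg_add, ← Calt, ← Calt]
  have Cω : ∀ v w, C (ω • v) w = C v (qFrob hF ω • w) := by
    intro v w
    rcases eq_or_ne v 0 with rfl | hv
    · rw [smul_zero]; exact hext (by show ⁅Φ 0, Φ w⁆ = ⁅Φ 0, Φ _⁆; simp [O.t0])
    by_cases hi : Ind2 F v w
    · exact hext (hS v w hi)
    obtain ⟨t, ht⟩ : ∃ t : F, w = t • v := by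
      by_contra hne
      exact hi ⟨hv, fun t ht => hne ⟨t, ht⟩⟩
    obtain ⟨p, hp⟩ := hdim v hv
    have i1 : Ind2 F v (w - p) := ⟨hv, fun s hs => hp.2 (t - s) (by rw [sub_smul, ← ht, ← hs, sub_sub_cancel])⟩
    have e1 : C (ω • v) (w - p) = C v (qFrob hF ω • (w - p)) := hext (hS v _ i1)
    have e2 : C (ω • v) p = C v (qFrob hF ω • p) := hext (hS v _ hp)
    rw [show w = (w - p) + p by abel, Caddr, e1, e2, ← Caddr, ← smul_add]
  have Ck : ∀ (k : F) v w, C (k • v) w = C v (qFrob hF k • w) := by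
    intro k v w
    rcases eq_or_ne k 0 with rfl | hk
    · rw [zero_smul, map_zero, zero_smul]
      exact hext (by show ⁅Φ 0, Φ w⁆ = ⁅Φ v, Φ 0⁆; simp [O.t0])
    obtain ⟨i, rfl⟩ := P.gen k hk
    clear hk
    induction i generalizing w with
    | zero => simp
    | succ i ih => rw [pow_succ', ← smul_smul, Cω, ih, smul_smul, ← map_mul, mul_comm ω]
  have D : ZData hF πo j μ K := by
    have hB' : Sesq hF (fun v w => C v (μ • w)) := by
      refine ⟨fun u v w => Caddl u v _, fun v w => ?_, fun k v w => ?_⟩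
      · show C v (μ • w) = C w (μ • v)
        rw [Calt (μ • v) w, Ck μ v w, show qFrob hF μ = -μ by linear_combination hμt]
        have h0 : C v ((-μ) • w) + C v (μ • w) = 0 := by
          rw [← Caddr, ← add_smul, neg_add_cancel, zero_smul]
          exact hext (by show ⁅Φ v, Φ 0⁆ = 1; simp [O.t0])
        exact (eq_neg_of_add_eq_zero_right h0)
      · show C (k • v) (μ • w) = C v (μ • qFrob hF k • w)
        rw [Ck, smul_comm]
    refine zdata_of_sesq hSc hμt hμ0 (fun v w => C v (μ • w)) hB' (fun v w => ?_) ?_ ?_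
    · show πo ⁅Φ v, Φ (μ • w)⁆ = _
      rw [comm_pi O]
      congr 1
      ext a b
      simp only [Matrix.sub_apply, vecMulVec_apply, Pi.smul_apply, smul_eq_mul, map_mul, Matrix.smul_apply, hv,
        Matrix.add_apply]
      rw [show qFrob hF μ = -μ by linear_combination hμt]
      ring
    · rintro _ ⟨⟨v, w⟩, rfl⟩
      refine ⟨v, μ⁻¹ • w, ?_⟩
      show ⁅Φ v, Φ (μ • μ⁻¹ • w)⁆ = _
      rw [smul_smul, mul_inv_cancel₀ hμ0, one_smul]
    · rintro A _ ⟨⟨v, w⟩, rfl⟩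
      refine Subgroup.subset_closure ⟨(A.1 *ᵥ v, A.1 *ᵥ w), ?_⟩
      show ⁅Φ (A.1 *ᵥ v), Φ (A.1 *ᵥ w)⁆ = j A * ⁅Φ v, Φ w⁆ * (j A)⁻¹
      rw [O.tj, O.tj, commutatorElement_def, commutatorElement_def]
      group
  obtain ⟨U, hU, hΦ, -⟩ := udata_odd hj O hμt hμ0 D hKcen hadd
  exact ⟨U, hU, hΦ⟩

end Cfsg.Agent.Lie.UnPres
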