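import Cfsg.Agent.Lib.Lie.UnPresImage
import Cfsg.Agent.Lib.Lie.UnPresU

/-!
The pieces of the unipotent radical cut out by coordinates, and the subgroups of `SL_{k+2}` attached to
the first coordinate.
-/

set_option autoImplicit false
set_option linter.unusedSectionVars false

namespace Cfsg.Agent.Lie.UnPres

open Matrix Cfsg.Agent.Classical Cfsg.Agent.Classical.PSUAut
open Cfsg.Agent.Lie.SpnPres (sval_mul sval_one sval_mul_inv sval_inv_mul inv_mulVec mulVec_inv)

variable {F : Type*} [Field F] [Fintype F] {q : ℕ} {hF : Fintype.card F = q ^ 2} {m ε : ℕ}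
variable {G : Type*} [Group G] {π : G →* Hgrp hF m ε} {j : SpecialLinearGroup (Fin m) F →* G} {U : Subgroup G}

/-- The shape of parameters. -/
def Shp (pv : Fin m → Prop) (pZ : Fin m → Fin m → Prop) (v : Matrix (Fin m) (Fin ε) F)
    (Z : Matrix (Fin m) (Fin m) F) : Prop :=
  (∀ a c, ¬ pv a → v a c = 0) ∧ ∀ a b, ¬ pZ a b → Z a b = 0

/-- The conditions on a shape. -/
structure ShpOK (pv : Fin m → Prop) (pZ : Fin m → Fin m → Prop) : Prop where
  sq : ∀ a b, pv a → pv b → pZ a b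
  symm : ∀ a b, pZ a b → pZ b a

theorem UData.eq_of (D : UData hF π j U) {u u' : G} (hu : u ∈ U) (hu' : u' ∈ U) (h : π u = π u') : u = u' :=
  mul_inv_eq_one.1 (D.inj _ (mul_mem hu (inv_mem hu')) (by rw [map_mul, map_inv, h, mul_inv_cancel]))

/-- The elements of `U` with parameters of a given shape. -/
def part (D : UData hF π j U) {pv : Fin m → Prop} {pZ : Fin m → Fin m → Prop} (h : ShpOK pv pZ) :
    Subgroup G where
  carrier := {u | u ∈ U ∧ ∃ v Z, UOK hF v Z ∧ π u = uH hF v Z ∧ Shp pv pZ v Z}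
  one_mem' := ⟨one_mem U, 0, 0, UOK.zero hF, by rw [map_one, uH_zero], fun _ _ _ => rfl, fun _ _ _ => rfl⟩
  mul_mem' := by
    rintro u u' ⟨hu, v, Z, ok, e, hv, hZ⟩ ⟨hu', v', Z', ok', e', hv', hZ'⟩
    refine ⟨mul_mem hu hu', v + v', Z + Z' - v * ct hF v', ok.mul hF ok', by rw [map_mul, e, e', uH_mul hF ok ok'],
      fun a c ha => by rw [Matrix.add_apply, hv a c ha, hv' a c ha, add_zero], fun a b hab => ?_⟩
    rw [Matrix.sub_apply, Matrix.add_apply, hZ a b hab, hZ' a b hab, add_zero, zero_sub, neg_eq_zero,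
      Matrix.mul_apply]
    refine Finset.sum_eq_zero fun c _ => ?_
    by_cases ha : pv a
    · rw [ct_apply, hv' b c fun hb => hab (h.sq a b ha hb), map_zero, mul_zero]
    · rw [hv a c ha, zero_mul]
  inv_mem' := by
    rintro u ⟨hu, v, Z, ok, e, hv, hZ⟩
    refine ⟨inv_mem hu, -v, ct hF Z, ok.inv hF, by rw [map_inv, e, uH_inv hF ok],
      fun a c ha => by rw [Matrix.neg_apply, hv a c ha, neg_zero], fun a b hab => ?_⟩
    rw [ct_apply, hZ b a fun hb => hab (h.symm b a hb), map_zero]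

variable {D : UData hF π j U} {pv : Fin m → Prop} {pZ : Fin m → Fin m → Prop} {h : ShpOK pv pZ}

theorem part_le : part D h ≤ U := fun _ hu => hu.1

theorem part_mem {u : G} (hu : u ∈ U) {v : Matrix (Fin m) (Fin ε) F} {Z : Matrix (Fin m) (Fin m) F}
    (ok : UOK hF v Z) (e : π u = uH hF v Z) (hs : Shp pv pZ v Z) : u ∈ part D h :=
  ⟨hu, v, Z, ok, e, hs⟩

theorem part_surj {v : Matrix (Fin m) (Fin ε) F} {Z : Matrix (Fin m) (Fin m) F}
    (ok : UOK hF v Z) (hs : Shp pv pZ v Z) : ∃ u ∈ part D h, π u = uH hF v Z := by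
  obtain ⟨u, hu, e⟩ := D.surj v Z ok
  exact ⟨u, ⟨hu, v, Z, ok, e, hs⟩, e⟩

/-- Conjugation by the Levi factor moves shapes along the nonzero entries. -/
theorem part_conj {pv' : Fin m → Prop} {pZ' : Fin m → Fin m → Prop} {h' : ShpOK pv' pZ'}
    (A : SpecialLinearGroup (Fin m) F) (h1 : ∀ a i, A.1 a i ≠ 0 → pv i → pv' a)
    (h2 : ∀ a b i l, A.1 a i ≠ 0 → A.1 b l ≠ 0 → pZ i l → pZ' a b) {u : G} (hu : u ∈ part D h) :
    j A * u * (j A)⁻¹ ∈ part D h' := by
  obtain ⟨hu, v, Z, ok, e, hv, hZ⟩ := hu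
  refine ⟨D.norm A u hu, A.1 * v, A.1 * Z * ct hF A.1, ok.act hF A.1, ?_, fun a c ha => ?_, fun a b hab => ?_⟩
  · rw [map_mul, map_mul, map_inv, D.πj, e, lev_uH hF A ok]
  · rw [Matrix.mul_apply]
    refine Finset.sum_eq_zero fun i _ => ?_
    by_cases hA : A.1 a i = 0
    · rw [hA, zero_mul]
    · rw [hv i c fun hi => ha (h1 a i hA hi), mul_zero]
  · rw [Matrix.mul_apply]
    refine Finset.sum_eq_zero fun l _ => ?_
    by_cases hB : A.1 b l = 0
    · rw [ct_apply, hB, map_zero, mul_zero]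
    rw [Matrix.mul_apply]
    rw [Finset.sum_eq_zero fun i _ => ?_, zero_mul]
    by_cases hA : A.1 a i = 0
    · rw [hA, zero_mul]
    · rw [hZ i l fun hi => hab (h2 a b i l hA hB hi), mul_zero]

variable (m) in
/-- Everything but the corner. -/
theorem shp_one [NeZero m] : ShpOK (fun a : Fin m => a ≠ 0) (fun a b => ¬(a = 0 ∧ b = 0)) :=
  ⟨fun _ _ ha _ h => ha h.1, fun _ _ h h' => h ⟨h'.2, h'.1⟩⟩

variable (m) in
/-- The corner. -/
theorem shp_corner [NeZero m] : ShpOK (fun a : Fin m => a = 0) (fun a b => a = 0 ∧ b = 0) :=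
  ⟨fun _ _ ha hb => ⟨ha, hb⟩, fun _ _ h => ⟨h.2, h.1⟩⟩

variable (m) in
/-- Away from the first coordinate. -/
theorem shp_tail [NeZero m] : ShpOK (fun a : Fin m => a ≠ 0) (fun a b => a ≠ 0 ∧ b ≠ 0) :=
  ⟨fun _ _ ha hb => ⟨ha, hb⟩, fun _ _ h => ⟨h.2, h.1⟩⟩

variable (m) in
/-- The pairs with the first coordinate. -/
theorem shp_pair [NeZero m] :
    ShpOK (fun _ : Fin m => False) (fun a b => (a = 0 ∧ b ≠ 0) ∨ (a ≠ 0 ∧ b = 0)) :=
  ⟨fun _ _ ha _ => ha.elim, fun _ _ h => h.elim (fun h => Or.inr ⟨h.2, h.1⟩) fun h => Or.inl ⟨h.2, h.1⟩⟩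

variable [NeZero m] (D : UData hF π j U)

/-- Parameters vanishing at the corner. -/
def U1 : Subgroup G := part D (shp_one m)

/-- The root group of the corner. -/
def X0 : Subgroup G := part D (shp_corner m)

/-- Parameters away from the first coordinate. -/
def Ut : Subgroup G := part D (shp_tail m)

/-- Pairs with the first coordinate. -/
def Yp : Subgroup G := part D (shp_pair m)

theorem Ut_le : Ut D ≤ U1 D := by
  rintro u ⟨hu, v, Z, ok, e, hv, hZ⟩
  exact ⟨hu, v, Z, ok, e, hv, fun a b hab => hZ a b fun h => hab fun h' => h.1 h'.1⟩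

theorem Yp_le : Yp D ≤ U1 D := by
  rintro u ⟨hu, v, Z, ok, e, hv, hZ⟩
  refine ⟨hu, v, Z, ok, e, fun a c _ => hv a c not_false, fun a b hab => hZ a b ?_⟩
  rw [not_not] at hab
  rintro (h | h)
  exacts [h.2 hab.2, h.1 hab.1]

theorem U1_split {u : G} (hu : u ∈ U1 D) : ∃ y ∈ Yp D, ∃ t ∈ Ut D, u = y * t := by
  classical
  obtain ⟨hu, v, Z, ok, e, hv, hZ⟩ := hu
  let Z' : Matrix (Fin m) (Fin m) F :=
    Matrix.of fun a b => if (a = 0 ∧ b ≠ 0) ∨ (a ≠ 0 ∧ b = 0) then Z a b else 0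
  have hok : UOK hF (0 : Matrix (Fin m) (Fin ε) F) Z' := by
    rw [UOK, Matrix.zero_mul, add_zero]
    ext a b
    simp only [Matrix.add_apply, ct_apply, Z', Matrix.of_apply, Matrix.zero_apply]
    by_cases h : (a = 0 ∧ b ≠ 0) ∨ (a ≠ 0 ∧ b = 0)
    · rw [if_pos h, if_pos (h.elim (fun h => Or.inr ⟨h.2, h.1⟩) fun h => Or.inl ⟨h.2, h.1⟩)]
      have hx := congrFun (congrFun ok a) b
      have hvv : (v * ct hF v) a b = 0 := by
        rw [Matrix.mul_apply]
        refine Finset.sum_eq_zero fun c _ => ?_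
        rcases h with h | h
        · rw [hv a c fun h' => h' h.1, zero_mul]
        · rw [ct_apply, hv b c fun h' => h' h.2, map_zero, mul_zero]
      simpa only [Matrix.add_apply, ct_apply, Matrix.zero_apply, hvv, add_zero] using hx
    · rw [if_neg h, if_neg fun h' => h (h'.elim (fun h => Or.inr ⟨h.2, h.1⟩) fun h => Or.inl ⟨h.2, h.1⟩),
        map_zero, add_zero]
  obtain ⟨y, hy, ey⟩ := part_surj (D := D) (h := shp_pair m) hok
    ⟨fun _ _ _ => rfl, fun a b hab => by simp only [Z', Matrix.of_apply]; rw [if_neg hab]⟩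
  refine ⟨y, hy, y⁻¹ * u, ?_, by group⟩
  refine part_mem (mul_mem (inv_mem hy.1) hu) ((hok.inv hF).mul hF ok)
    (by rw [map_mul, map_inv, ey, e, uH_inv hF hok, uH_mul hF (hok.inv hF) ok])
    ⟨fun a c ha => by rw [Matrix.add_apply, Matrix.neg_apply, Matrix.zero_apply, neg_zero, zero_add, hv a c ha],
      fun a b hab => ?_⟩
  rw [neg_zero, Matrix.zero_mul, sub_zero, Matrix.add_apply, ct_apply]
  have h0 : Z' b a + ct hF Z' b a = 0 := by
    have := congrFun (congrFun hok b) a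
    simpa only [Matrix.zero_mul, Matrix.add_apply, Matrix.zero_apply, add_zero] using this
  rw [ct_apply] at h0
  have hσ : qFrob hF (Z' b a) = -Z' a b := by
    have := congrArg (qFrob hF) h0
    rw [map_add, qFrob_qFrob hF, map_zero] at this
    linear_combination this
  rw [hσ]
  simp only [Z', Matrix.of_apply]
  by_cases h : (a = 0 ∧ b ≠ 0) ∨ (a ≠ 0 ∧ b = 0)
  · rw [if_pos h, neg_add_cancel]
  · rw [if_neg h, neg_zero, zero_add]
    refine hZ a b ?_
    rw [not_not]
    rw [not_and_or, not_not, not_not] at hab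
    rcases hab with ha | hb
    · exact ⟨ha, by by_contra hb; exact h (Or.inl ⟨ha, hb⟩)⟩
    · exact ⟨by by_contra ha; exact h (Or.inr ⟨ha, hb⟩), hb⟩

theorem U_split {u : G} (hu : u ∈ U) : ∃ x ∈ X0 D, ∃ u₁ ∈ U1 D, u = x * u₁ := by
  classical
  obtain ⟨v, Z, ok, e⟩ := D.img u hu
  let v' : Matrix (Fin m) (Fin ε) F := Matrix.of fun a c => if a = 0 then v a c else 0
  let Z' : Matrix (Fin m) (Fin m) F := Matrix.of fun a b => if a = 0 ∧ b = 0 then Z a b else 0
  have hok : UOK hF v' Z' := by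
    rw [UOK]
    ext a b
    have hx := congrFun (congrFun ok a) b
    simp only [Matrix.add_apply, ct_apply, Matrix.mul_apply, Matrix.zero_apply] at hx
    simp only [Matrix.add_apply, ct_apply, Z', v', Matrix.of_apply, Matrix.mul_apply, Matrix.zero_apply]
    by_cases h : a = 0 ∧ b = 0
    · simp only [h.1, h.2, and_self, if_true] at hx ⊢
      exact hx
    · rw [if_neg h, if_neg fun h' => h ⟨h'.2, h'.1⟩, map_zero, add_zero, zero_add]
      refine Finset.sum_eq_zero fun c _ => ?_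
      rcases not_and_or.1 h with ha | hb
      · rw [if_neg ha, zero_mul]
      · rw [if_neg hb, map_zero, mul_zero]
  obtain ⟨x, hx, ex⟩ := part_surj (D := D) (h := shp_corner m) hok
    ⟨fun a c ha => if_neg ha, fun a b hab => if_neg hab⟩
  refine ⟨x, hx, x⁻¹ * u, ?_, by group⟩
  refine part_mem (mul_mem (inv_mem hx.1) hu) ((hok.inv hF).mul hF ok)
    (by rw [map_mul, map_inv, ex, e, uH_inv hF hok, uH_mul hF (hok.inv hF) ok])
    ⟨fun a c ha => ?_, fun a b hab => ?_⟩
  · rw [not_not] at ha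
    simp only [v', Matrix.add_apply, Matrix.neg_apply, Matrix.of_apply]
    rw [if_pos ha, neg_add_cancel]
  · rw [not_not] at hab
    obtain ⟨rfl, rfl⟩ := hab
    have hx := congrFun (congrFun ok 0) 0
    simp only [Matrix.add_apply, ct_apply, Matrix.mul_apply, Matrix.zero_apply] at hx
    simp only [Matrix.sub_apply, Matrix.add_apply, ct_apply, Z', v', Matrix.of_apply, Matrix.mul_apply,
      Matrix.neg_apply, and_self, if_true, neg_mul, Finset.sum_neg_distrib, sub_neg_eq_add]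
    linear_combination hx

section Levi

variable {k : ℕ}

local notation "SLm" => SpecialLinearGroup (Fin (k + 2)) F

/-- Preserving the first coordinate and its complement. -/
def Blk (d : SLm) : Prop := ∀ a i, d.1 a i ≠ 0 → (a = 0 ↔ i = 0)

theorem extL_blk (N : SpecialLinearGroup (Fin (k + 1)) F) : Blk (extL N : SLm) := by
  intro a i h
  constructor
  · rintro rfl
    by_contra hi
    obtain ⟨b, rfl⟩ := Fin.exists_succ_eq.2 hi
    refine h ?_
    have := congrFun (extL_succ N b) 0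
    simpa using this
  · rintro rfl
    by_contra ha
    refine h ?_
    have := congrFun (extL_zero N) a
    simpa [Pi.single_apply, ha] using this

theorem Blk.inv {d : SLm} (hd : Blk d) : Blk d⁻¹ := by
  have h1 : ∀ i, i ≠ 0 → d.1 0 i = 0 := fun i hi => by
    by_contra h; exact hi ((hd 0 i h).1 rfl)
  have h2 : ∀ a, a ≠ 0 → d.1 a 0 = 0 := fun a ha => by
    by_contra h; exact ha ((hd a 0 h).2 rfl)
  have h00 : d.1 0 0 ≠ 0 := fun h => by
    have hz : d.1 *ᵥ Pi.single 0 1 = 0 := by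
      ext a
      rcases eq_or_ne a 0 with rfl | ha
      · simpa using h
      · simpa using h2 a ha
    have := inv_mulVec d (Pi.single 0 1)
    rw [hz, Matrix.mulVec_zero] at this
    simpa using congrFun this.symm 0
  have key := sval_mul_inv d
  have key' := sval_inv_mul d
  intro a i h
  constructor
  · rintro rfl
    by_contra hi
    refine h ?_
    have e := congrFun (congrFun key 0) i
    rw [Matrix.mul_apply, Finset.sum_eq_single (0 : Fin (k + 2)) (fun l _ hl => by rw [h1 l hl, zero_mul]) (by simp),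
      Matrix.one_apply_ne (Ne.symm hi)] at e
    exact (mul_eq_zero.1 e).resolve_left h00
  · rintro rfl
    by_contra ha
    refine h ?_
    have e := congrFun (congrFun key' a) 0
    rw [Matrix.mul_apply, Finset.sum_eq_single (0 : Fin (k + 2)) (fun l _ hl => by rw [h2 l hl, mul_zero]) (by simp),
      Matrix.one_apply_ne ha] at e
    exact (mul_eq_zero.1 e).resolve_right h00

theorem Blk.extL_conj {d : SLm} (hd : Blk d) (N : SpecialLinearGroup (Fin (k + 1)) F) :
    ∃ N', d * extL N * d⁻¹ = extL N' := by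
  have h2 : ∀ (e : SLm), Blk e → e.1 *ᵥ Pi.single 0 1 = e.1 0 0 • Pi.single 0 1 := by
    intro e he
    ext a
    rcases eq_or_ne a 0 with rfl | ha
    · simp
    · have : e.1 a 0 = 0 := by by_contra h; exact ha ((he a 0 h).2 rfl)
      simpa [ha] using this
  refine exists_extL ?_ fun b => ?_
  · rw [sval_mul, sval_mul, ← Matrix.mulVec_mulVec, h2 _ hd.inv, ← Matrix.mulVec_mulVec, Matrix.mulVec_smul,
      extL_zero, Matrix.mulVec_smul, h2 d hd, smul_smul]
    have := inv_mulVec d⁻¹ (Pi.single 0 1)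
    rw [inv_inv, h2 _ hd.inv, Matrix.mulVec_smul, h2 d hd, smul_smul] at this
    exact this
  · have z1 : ∀ (e : SLm), Blk e → ∀ i, i ≠ 0 → e.1 0 i = 0 := fun e he i hi => by
      by_contra h; exact hi ((he 0 i h).1 rfl)
    rw [sval_mul, sval_mul, Matrix.mul_apply]
    refine Finset.sum_eq_zero fun i _ => ?_
    rcases eq_or_ne i 0 with rfl | hi
    · rw [z1 _ hd.inv _ (Fin.succ_ne_zero b), mul_zero]
    · rw [Matrix.mul_apply, Finset.sum_eq_single (0 : Fin (k + 2)) (fun l _ hl => by rw [z1 d hd l hl, zero_mul])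
        (by simp), z1 _ (extL_blk N) i hi, mul_zero, zero_mul]

/-- The elements of the first column. -/
def colE (r : Fin (k + 1) → F) : SLm := ⟨(rowE r).1ᵀ, by rw [det_transpose, (rowE r).2]⟩

theorem colE_val (r : Fin (k + 1) → F) :
    (colE r : SLm).1 = 1 + vecMulVec (Fin.cons 0 r) (Pi.single 0 1) := by
  show (1 + vecMulVec (Pi.single 0 1) (Fin.cons 0 r))ᵀ = _
  rw [transpose_add, transpose_one, transpose_vecMulVec]

theorem colE_add (r s : Fin (k + 1) → F) : (colE (r + s) : SLm) = colE r * colE s := by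
  refine Subtype.ext ?_
  show (rowE (r + s) : SLm).1ᵀ = (rowE r : SLm).1ᵀ * (rowE s : SLm).1ᵀ
  rw [← transpose_mul, ← sval_mul, ← rowE_add, add_comm s r]

theorem colE_zero : (colE 0 : SLm) = 1 := Subtype.ext (by
  show (rowE 0 : SLm).1ᵀ = 1
  rw [rowE_zero, sval_one, transpose_one])

/-- The subgroup of the first column. -/
def colS : Subgroup SLm where
  carrier := Set.range colE
  one_mem' := ⟨0, colE_zero⟩
  mul_mem' := by rintro _ _ ⟨r, rfl⟩ ⟨s, rfl⟩; exact ⟨r + s, colE_add r s⟩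
  inv_mem' := by
    rintro _ ⟨r, rfl⟩
    exact ⟨-r, (inv_eq_of_mul_eq_one_right (by rw [← colE_add, add_neg_cancel, colE_zero])).symm⟩

theorem mem_colS {A : SLm} : A ∈ colS ↔ ∀ a i, (a = 0 ∨ i ≠ 0) → A.1 a i = (1 : Matrix _ _ F) a i := by
  constructor
  · rintro ⟨r, rfl⟩ a i h
    rw [colE_val, Matrix.add_apply, vecMulVec_apply]
    rcases h with rfl | h
    · simp
    · simp [h]
  · intro h
    refine ⟨fun b => A.1 b.succ 0, Subtype.ext ?_⟩
    rw [colE_val]
    ext a i
    rw [Matrix.add_apply, vecMulVec_apply]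
    rcases eq_or_ne i 0 with rfl | hi
    · cases a using Fin.cases with
      | zero => simp [h 0 0 (Or.inl rfl)]
      | succ b => simp
    · simp [h a i (Or.inr hi), hi]

theorem Blk.col_conj {d : SLm} (hd : Blk d) {c : SLm} (hc : c ∈ colS) : d * c * d⁻¹ ∈ colS := by
  rw [mem_colS] at hc ⊢
  intro a i h
  set R := c.1 - 1 with hR
  have hRz : ∀ x y, (x = 0 ∨ y ≠ 0) → R x y = 0 := fun x y hxy => by rw [hR, Matrix.sub_apply, hc x y hxy, sub_self]
  rw [sval_mul, sval_mul, show c.1 = 1 + R by rw [hR]; abel, Matrix.mul_add, Matrix.mul_one, Matrix.add_mul,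
    sval_mul_inv, Matrix.add_apply, add_eq_left, Matrix.mul_apply]
  refine Finset.sum_eq_zero fun l _ => ?_
  by_cases hl : (d⁻¹).1 l i = 0
  · rw [hl, mul_zero]
  rw [Matrix.mul_apply, Finset.sum_eq_zero fun x _ => ?_, zero_mul]
  by_cases hx : d.1 a x = 0
  · rw [hx, zero_mul]
  rw [hRz x l ?_, mul_zero]
  rcases h with rfl | h
  · exact Or.inl ((hd 0 x hx).1 rfl)
  · exact Or.inr fun e => h ((hd.inv l i hl).1 e)

theorem Keep.inv_row {g : SLm} {b : Fin (k + 2)} (hg : Keep g b) (i : Fin (k + 2)) (hi : (g⁻¹).1 0 i ≠ 0) :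
    i = b := by
  by_contra h
  refine hi ?_
  have e := congrFun (congrFun (sval_mul_inv g) b) i
  rw [Matrix.mul_apply, Finset.sum_eq_single (0 : Fin (k + 2)) (fun l _ hl => by rw [hg.2 l hl, zero_mul]) (by simp),
    Matrix.one_apply_ne (Ne.symm h), show g.1 b 0 = 1 by simpa using congrFun hg.1 b, one_mul] at e
  exact e

theorem Keep.inv_col {g : SLm} {b : Fin (k + 2)} (hg : Keep g b) (a : Fin (k + 2)) (ha : (g⁻¹).1 a b ≠ 0) :
    a = 0 := by
  by_contra h
  refine ha ?_
  have e := congrFun (congrArg (fun v => (g⁻¹).1 *ᵥ v) hg.1) a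
  simp only [inv_mulVec] at e
  simpa [h] using e.symm

end Levi

end Cfsg.Agent.Lie.UnPres
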