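import Cfsg.Agent.Lib.Lie.UnPresCell
import Cfsg.Agent.Lib.Lie.UnPresField

/-!
The torus made from the Weyl element and the diagonal of the Levi factor; rank one in even dimension.
-/

set_option autoImplicit false
set_option linter.unusedSectionVars false

namespace Cfsg.Agent.Lie.UnPres

open Matrix Cfsg.Agent.Classical Cfsg.Agent.Classical.PSUAut
open Cfsg.Agent.Lie.SpnPres (sval_mul sval_one sval_mul_inv sval_inv_mul)

variable {F : Type*} [Field F] [Fintype F] {q : ℕ} {hF : Fintype.card F = q ^ 2} {k ε : ℕ}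
variable {G : Type*} [Group G] {π : G →* Hgrp hF (k + 2) ε} {j : SpecialLinearGroup (Fin (k + 2)) F →* G}
  {U : Subgroup G} {D : UData hF π j U} {μ z : F} {hW : WOK hF μ z ε} {w : G}

local notation "σ" => qFrob hF
local notation "SLm" => SpecialLinearGroup (Fin (k + 2)) F

/-- The diagonal entries `c, c⁻¹` in the first two coordinates. -/
def dgv (c : F) : Fin (k + 2) → F := fun i => if i = 0 then c else if i = 1 then c⁻¹ else 1

/-- The diagonal of the Levi factor in the first two coordinates. -/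
def dg : Fˣ →* SLm where
  toFun c := ⟨Matrix.diagonal (dgv (k := k) (c : F)), by
    rw [det_diagonal, Fin.prod_univ_succ, Fin.prod_univ_succ]
    simp [dgv, Fin.succ_ne_zero, Fin.ext_iff]⟩
  map_one' := Subtype.ext (by
    show Matrix.diagonal (dgv (k := k) ((1 : Fˣ) : F)) = 1
    rw [← Matrix.diagonal_one]
    congr 1
    funext i
    simp [dgv])
  map_mul' a b := Subtype.ext (by
    show Matrix.diagonal (dgv (k := k) ((a * b : Fˣ) : F)) =
      Matrix.diagonal (dgv (k := k) (a : F)) * Matrix.diagonal (dgv (k := k) (b : F))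
    rw [Matrix.diagonal_mul_diagonal]
    congr 1
    funext i
    simp only [dgv, Units.val_mul]
    split_ifs <;> simp [mul_comm])

theorem dg_val (c : Fˣ) : (dg c : SLm).1 = Matrix.diagonal (dgv (k := k) (c : F)) := rfl

theorem dg_blk (c : Fˣ) : Blk (dg c : SLm) := fun a i h => by
  rcases eq_or_ne a i with rfl | hai
  · exact Iff.rfl
  · exact absurd (by rw [dg_val, Matrix.diagonal_apply_ne _ hai]) h

variable (hF) in
theorem dg_torus {μ z : F} (hW : WOK hF μ z ε) (c : Fˣ) :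
    hval (lev hF ε (dg c : SLm) * wH hF hW 0 * (lev hF ε (dg c : SLm))⁻¹ * (wH hF hW 0)⁻¹) =
      fromBlocks (fromBlocks (tD hF ((c : F) * σ c)) 0 0 (tD hF (σ ((c : F) * σ c))⁻¹)) 0 0 ((1 : F) • 1) := by
  set T : Matrix (Ix (k + 2) ε) (Ix (k + 2) ε) F :=
    fromBlocks (fromBlocks (tD hF ((c : F) * σ c)) 0 0 (tD hF (σ ((c : F) * σ c))⁻¹)) 0 0 ((1 : F) • 1) with hT
  have hc : (c : F) ≠ 0 := c.ne_zero
  have hc' : σ (c : F) ≠ 0 := (map_ne_zero (qFrob hF)).2 hc
  have key : hval (lev hF ε (dg c : SLm)) * hval (wH hF hW 0) =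
      T * (hval (wH hF hW 0) * hval (lev hF ε (dg c : SLm))) := by
    rw [lev_val, wH_val, hT, wMat, levM, ← map_inv, dg_val, dg_val]
    have hd : ∀ f : Fin (k + 2) → F, ct hF (Matrix.diagonal f) = Matrix.diagonal fun i => σ (f i) := fun f => by
      ext a b
      rcases eq_or_ne a b with rfl | h
      · simp [ct_apply]
      · simp [ct_apply, h, h.symm]
    simp only [hd, Pd, tD, Units.val_inv_eq_inv_val, fromBlocks_multiply, Matrix.mul_zero, Matrix.zero_mul,
      add_zero, zero_add, Matrix.smul_mul, Matrix.mul_smul, one_smul, Matrix.one_mul, Matrix.mul_one,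
      Matrix.diagonal_mul_diagonal, ← Matrix.diagonal_smul, ← Matrix.diagonal_one, Matrix.diagonal_sub]
    congr 1
    congr 1 <;> (congr 1; funext i; rcases eq_or_ne i 0 with rfl | h0 <;> [skip; rcases eq_or_ne i 1 with rfl | h1]) <;>
      simp [dgv, qFrob_qFrob hF, *] <;> field_simp
    congr 1
    funext i
    simp
  calc hval (lev hF ε (dg c : SLm) * wH hF hW 0 * (lev hF ε (dg c : SLm))⁻¹ * (wH hF hW 0)⁻¹)
      = hval (lev hF ε (dg c : SLm)) * hval (wH hF hW 0) *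
          (hval (lev hF ε (dg c : SLm))⁻¹ * hval (wH hF hW 0)⁻¹) := by
        simp only [hval_mul, Matrix.mul_assoc]
    _ = T * hval (wH hF hW 0 * lev hF ε (dg c : SLm) *
          ((lev hF ε (dg c : SLm))⁻¹ * (wH hF hW 0)⁻¹)) := by
        simp only [key, hval_mul, Matrix.mul_assoc]
    _ = T := by
        rw [show wH hF hW 0 * lev hF ε (dg c : SLm) * ((lev hF ε (dg c : SLm))⁻¹ * (wH hF hW 0)⁻¹) = 1 by group,
          hval_one, Matrix.mul_one]

/-- The torus element of a scalar. -/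
def hc (j : SLm →* G) (w : G) (c : Fˣ) : G := j (dg c) * w * (j (dg c))⁻¹ * w⁻¹

theorem Eng.hc_val (E : Eng D hW w) (c : Fˣ) :
    hval (π (hc j w c)) =
      fromBlocks (fromBlocks (tD hF ((c : F) * σ c)) 0 0 (tD hF (σ ((c : F) * σ c))⁻¹)) 0 0 ((1 : F) • 1) := by
  rw [hc, map_mul, map_mul, map_mul, map_inv, map_inv, D.πj, E.πw, dg_torus hF hW c]

theorem Eng.hc_tor (E : Eng D hW w) (c : Fˣ) : hc j w c ∈ tor D w := by
  refine ⟨mul_mem (mul_mem (mul_mem (E.blk_pre (dg_blk c)) E.w_pre) (inv_mem (E.blk_pre (dg_blk c))))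
    (inv_mem E.w_pre), ?_⟩
  refine ⟨(c : F) * σ c, 1, mul_ne_zero c.ne_zero ((map_ne_zero (qFrob hF)).2 c.ne_zero),
    by rw [map_one, one_mul], E.hc_val c⟩

theorem Eng.hc_comm (E : Eng D hW w) (c d : Fˣ) : Commute (hc j w c) (j (dg d)) := by
  obtain ⟨B, hB⟩ := E.range_keep (E.hc_tor c) (dg d)
  have hp := congrArg π hB
  rw [D.πj, map_mul, map_mul, map_inv, D.πj] at hp
  have hB' : B = dg d := by
    refine lev_injective hF (ε := ε) (hp.trans ?_)
    rw [mul_inv_eq_iff_eq_mul]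
    refine hext ?_
    have hcd : ∀ e : Fˣ, ∀ l : F, (tD hF l : Matrix (Fin (k + 2)) (Fin (k + 2)) F) * (dg e : SLm).1 =
        (dg e : SLm).1 * tD hF l := fun e l => by
      rw [dg_val, tD, Matrix.diagonal_mul_diagonal, Matrix.diagonal_mul_diagonal]
      simp only [mul_comm]
    have hcd' : ∀ e : Fˣ, ∀ l : F, (tD hF l : Matrix (Fin (k + 2)) (Fin (k + 2)) F) * ct hF (dg e : SLm).1 =
        ct hF (dg e : SLm).1 * tD hF l := fun e l => by
      have := congrArg (ct hF) (hcd e (σ l))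
      rw [ct_mul, ct_mul, ct_tD, qFrob_qFrob hF] at this
      exact this.symm
    rw [hval_mul, hval_mul, E.hc_val, lev_val, levM,
      show (dg d : SLm)⁻¹ = dg d⁻¹ from (map_inv (dg : Fˣ →* SLm) d).symm]
    simp only [fromBlocks_multiply, Matrix.mul_zero, Matrix.zero_mul, add_zero, zero_add, hcd, hcd', one_smul,
      Matrix.one_mul]
  rw [hB'] at hB
  exact (eq_mul_inv_iff_mul_eq.1 hB).symm

/-- The torus elements form a homomorphism. -/
def Eng.hHom (E : Eng D hW w) : Fˣ →* G where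
  toFun := hc j w
  map_one' := by simp [hc]
  map_mul' c d := by
    have h := (E.hc_comm c d).eq
    calc hc j w (c * d) = j (dg d) * hc j w c * w * (j (dg d))⁻¹ * w⁻¹ := by
          rw [hc, hc, mul_comm c d, map_mul, map_mul, _root_.mul_inv_rev]; group
      _ = hc j w c * hc j w d := by
          rw [← h, hc, hc]; group

theorem Eng.hHom_apply (E : Eng D hW w) (c : Fˣ) : E.hHom c = hc j w c := rfl

theorem Eng.hc_inv (E : Eng D hW w) {c₀ : Fˣ} (h : w * j (dg c₀) * w = j (dg c₀)) :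
    w * w = (hc j w c₀)⁻¹ := by
  have e : w * j (dg c₀) = j (dg c₀) * w⁻¹ := eq_mul_inv_of_mul_eq h
  calc w * w = w * (w * j (dg c₀)) * (j (dg c₀))⁻¹ := by simp [mul_assoc]
    _ = _ := by rw [e, hc]; simp [mul_assoc]

theorem Eng.hc_w (E : Eng D hW w) {c₀ : Fˣ} (h : w * j (dg c₀) * w = j (dg c₀)) (c : Fˣ) :
    w * hc j w c * w⁻¹ = (hc j w c)⁻¹ := by
  have hcomm : Commute (w * w) (j (dg c)) := by
    rw [E.hc_inv h]; exact (E.hc_comm c₀ c).inv_left
  calc w * hc j w c * w⁻¹ = w * j (dg c) * w * ((j (dg c))⁻¹ * (w * w)⁻¹) := by rw [hc]; group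
    _ = w * j (dg c) * w * ((w * w)⁻¹ * (j (dg c))⁻¹) := by rw [(hcomm.inv_inv).eq]
    _ = (hc j w c)⁻¹ := by rw [hc]; group

theorem Eng.Um_conj (E : Eng D hW w) {x : G} (hx : x ∈ X0 D) : w * x * w⁻¹ ∈ Um j U w :=
  mem_Um.2 ⟨(J1 j w)⁻¹ * x * J1 j w, part_le (E.J1_X0.2 _ hx), by rw [Jt]; group⟩

theorem Eng.Um_eq (E : Eng D hW w) {a b : G} (ha : a ∈ Um j U w) (hb : b ∈ Um j U w) (h : π a = π b) :
    a = b := by
  obtain ⟨u, hu, rfl⟩ := mem_Um.1 ha
  obtain ⟨v, hv, rfl⟩ := mem_Um.1 hb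
  rw [map_mul, map_mul, map_mul π (Jt j w * v), map_mul] at h
  rw [D.eq_of hu hv (mul_left_cancel (mul_right_cancel h))]

section Even

variable {πe : G →* Hgrp hF (k + 2) 0} {De : UData hF πe j U} {hWe : WOK hF μ z 0}

theorem wok_skew {μ z : F} (hW : WOK hF μ z 0) : σ μ = -μ := by
  have h := hW.det
  rw [pow_zero, mul_one, div_eq_one_iff_eq ((map_ne_zero (qFrob hF)).2 hW.ne)] at h
  exact h.symm

/-- The corner with a given entry, in even dimension. -/
def corner (s : F) : Matrix (Fin (k + 2)) (Fin (k + 2)) F := Matrix.single 0 0 s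

theorem corner_ok {s : F} (h : s + σ s = 0) :
    UOK hF (0 : Matrix (Fin (k + 2)) (Fin 0) F) (corner (k := k) s) := by
  rw [UOK, Matrix.zero_mul, add_zero]
  ext a b
  simp only [corner, Matrix.add_apply, ct_apply, Matrix.single_apply, apply_ite (qFrob hF), map_zero,
    Matrix.zero_apply, and_comm (a := (0 : Fin (k + 2)) = b)]
  split_ifs <;> simp [h]

theorem corner_of {x : G} (hx : x ∈ X0 De) :
    ∃ s : F, s + σ s = 0 ∧ πe x = uH hF 0 (corner (k := k) s) := by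
  obtain ⟨-, v, Z, ok, e, -, hZ⟩ := hx
  obtain rfl : v = 0 := Subsingleton.elim _ _
  refine ⟨Z 0 0, ?_, ?_⟩
  · simpa [UOK, Matrix.add_apply, ct_apply] using congrFun (congrFun ok 0) 0
  · rw [e]
    congr 1
    ext a b
    by_cases h : a = 0 ∧ b = 0
    · obtain ⟨rfl, rfl⟩ := h; simp [corner]
    · rw [hZ a b h, corner, Matrix.single_apply, if_neg fun h' => h ⟨h'.1.symm, h'.2.symm⟩]

theorem dg_corner {x : G} (hx : x ∈ X0 De) (c : Fˣ) {s : F} (hs : s + σ s = 0)
    (e : πe x = uH hF 0 (corner (k := k) s)) :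
    j (dg c) * x * (j (dg c))⁻¹ ∈ X0 De ∧
      πe (j (dg c) * x * (j (dg c))⁻¹) = uH hF 0 (corner (k := k) ((c : F) * σ c * s)) := by
  refine ⟨part_conj (h := shp_corner (k + 2)) _
    (fun a i h hi => ((dg_blk c) a i h).2 hi)
    (fun a b i l ha hb h => ⟨((dg_blk c) a i ha).2 h.1, ((dg_blk c) b l hb).2 h.2⟩) hx, ?_⟩
  rw [map_mul, map_mul, map_inv, De.πj, e, lev_uH hF _ (corner_ok hs), Matrix.mul_zero]
  congr 1
  ext a b
  rw [dg_val, Matrix.mul_apply, Finset.sum_eq_single b (fun l _ hl => by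
    rw [ct_apply, Matrix.diagonal_apply_ne _ (Ne.symm hl), map_zero, mul_zero]) (by simp), ct_apply,
    Matrix.diagonal_apply_eq, Matrix.diagonal_mul]
  by_cases h : (0 : Fin (k + 2)) = a ∧ (0 : Fin (k + 2)) = b
  · obtain ⟨rfl, rfl⟩ := h; simp [corner, dgv]; ring
  · simp [corner, Matrix.single_apply, h]

/-- Rank one in even dimension from the short relation. -/
theorem rank1_even (E : Eng De hWe w) {x0 : G} {c₀ : Fˣ} (hx0 : x0 ∈ X0 De)
    (hπ : πe x0 = uH hF 0 (corner (k := k) (-μ⁻¹))) (hR1 : w = x0 * (w * x0 * w⁻¹) * x0)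
    (hDw : w * j (dg c₀) * w = j (dg c₀)) : Rank1 E E.hHom.range := by
  have hμ : σ μ = -μ := wok_skew hWe
  have hs0 : -μ⁻¹ + σ (-μ⁻¹) = 0 := by rw [map_neg, map_inv₀, hμ, inv_neg]; ring
  have hconj : ∀ c : Fˣ, hc j w c * w =
      j (dg c) * x0 * (j (dg c))⁻¹ * (hc j w c * w * (j (dg c) * x0 * (j (dg c))⁻¹) * (hc j w c * w)⁻¹) *
        (j (dg c) * x0 * (j (dg c))⁻¹) := fun c => by
    calc hc j w c * w = j (dg c) * w * (j (dg c))⁻¹ := by rw [hc]; group
      _ = j (dg c) * (x0 * (w * x0 * w⁻¹) * x0) * (j (dg c))⁻¹ := by rw [← hR1]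
      _ = _ := by rw [hc]; group
  have hker : ∀ c : Fˣ, (c : F) * σ c = 1 → hc j w c = 1 := by
    intro c hc1
    obtain ⟨hD, eD⟩ := dg_corner hx0 c hs0 hπ
    rw [hc1, one_mul, ← hπ] at eD
    have e1 := De.eq_of hD.1 hx0.1 eD
    have hπH : πe (hc j w c) = 1 := hext (by
      rw [E.hc_val, hc1, map_one, inv_one, tD_one, one_smul, fromBlocks_one, fromBlocks_one, hval_one])
    have e2 : hc j w c * (w * x0 * w⁻¹) * (hc j w c)⁻¹ = w * x0 * w⁻¹ := by
      refine E.Um_eq ((E.tor_Um (E.hc_tor c)).1 _ (E.Um_conj hx0)) (E.Um_conj hx0) ?_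
      rw [map_mul, map_mul, map_inv, hπH]
      group
    have := hconj c
    rw [e1, show hc j w c * w * x0 * (hc j w c * w)⁻¹ = hc j w c * (w * x0 * w⁻¹) * (hc j w c)⁻¹ by group,
      e2, ← hR1] at this
    exact mul_eq_right.1 this
  refine ⟨?_, ?_, ⟨c₀⁻¹, by rw [map_inv, E.hHom_apply, E.hc_inv hDw]⟩, ⟨x0, hx0, fun e => ?_⟩, ?_, ?_⟩
  · rintro _ ⟨c, rfl⟩
    exact E.hc_tor c
  · constructor
    · rintro _ ⟨c, rfl⟩
      exact ⟨c⁻¹, by rw [map_inv]; exact (E.hc_w hDw c).symm⟩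
    · rintro _ ⟨c, rfl⟩
      refine ⟨c⁻¹, ?_⟩
      have := E.hc_w hDw c
      rw [map_inv, E.hHom_apply, ← this]
      have h2 : Commute (w * w) (hc j w c) := by
        rw [E.hc_inv hDw]
        have h3 : Commute (E.hHom c₀⁻¹) (E.hHom c) := (Commute.all _ _).map E.hHom
        rwa [map_inv] at h3
      calc w * hc j w c * w⁻¹ = w⁻¹ * (w * w * hc j w c) * w⁻¹ := by group
        _ = w⁻¹ * hc j w c * w := by rw [h2.eq]; group
  · rw [e, map_one, ← uH_zero hF] at hπ
    have h := congrFun (congrFun (uH_inj hF (UOK.zero hF) (corner_ok hs0) hπ).2 0) 0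
    simp [corner, hWe.ne] at h
  · intro x hx hne
    obtain ⟨s, hs, e⟩ := corner_of hx
    have hs0' : s ≠ 0 := fun h => hne (De.inj x hx.1 (by rw [e, h, corner, Matrix.single_zero, uH_zero]))
    have hreal : σ (-(s * μ)) = -(s * μ) := by
      rw [map_neg, map_mul, hμ, show σ s = -s by linear_combination hs]; ring
    obtain ⟨c, hc⟩ := exists_norm hF hreal
    have hc0 : c ≠ 0 := fun h => (neg_ne_zero.2 (mul_ne_zero hs0' hWe.ne)) (by rw [← hc, h, zero_mul])
    set u := Units.mk0 c hc0 with hu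
    obtain ⟨hD, eD⟩ := dg_corner hx0 u hs0 hπ
    have ex : x = j (dg u) * x0 * (j (dg u))⁻¹ := by
      refine De.eq_of hx.1 hD.1 ?_
      rw [e, eD, hu, Units.val_mk0, hc]
      congr 2
      have := hWe.ne
      field_simp
    set H := UnPres.hc j w u with hH
    have hh := hconj u
    rw [← ex, ← hH] at hh
    have hHt : H ∈ E.hHom.range := ⟨u, rfl⟩
    have hwH : w⁻¹ * H * w ∈ E.hHom.range := ⟨u⁻¹, by
      rw [map_inv, E.hHom_apply, ← hH]
      have := E.hc_w hDw u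
      rw [← hH] at this
      have h2 : Commute (w * w) H := by
        rw [E.hc_inv hDw]
        have h3 : Commute (E.hHom c₀⁻¹) (E.hHom u) := (Commute.all _ _).map E.hHom
        rwa [map_inv] at h3
      calc H⁻¹ = w⁻¹ * (w * w * H) * w⁻¹ := by rw [← this]; group
        _ = w⁻¹ * H * w := by rw [h2.eq]; group⟩
    have hwH' : w * H * w⁻¹ ∈ E.hHom.range := by rw [hH, E.hc_w hDw u]; exact inv_mem hHt
    have hww : w * w ∈ E.hHom.range := ⟨c₀⁻¹, by rw [map_inv, E.hHom_apply, E.hc_inv hDw]⟩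
    refine ⟨H⁻¹ * x⁻¹ * H, (E.tor_X0 (E.hc_tor u)).2 _ (inv_mem hx), x⁻¹, inv_mem hx, 1, one_mem _,
      H * (w * H * w⁻¹) * (w * w) * (w⁻¹ * H * w)⁻¹,
      mul_mem (mul_mem (mul_mem hHt hwH') hww) (inv_mem hwH), ?_⟩
    have hh' : H * w * x * (H * w)⁻¹ = x⁻¹ * (H * w) * x⁻¹ := by
      calc H * w * x * (H * w)⁻¹ = x⁻¹ * (x * (H * w * x * (H * w)⁻¹) * x) * x⁻¹ := by group
        _ = _ := by rw [← hh]
    calc w * x * w = H⁻¹ * (H * w * x * (H * w)⁻¹) * (H * w * (H * w)) * (w⁻¹ * H * w)⁻¹ := by group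
      _ = _ := by rw [hh']; group
  · rintro _ ⟨c, rfl⟩ A hA
    refine ⟨1, ?_⟩
    have h := congrArg hval hA
    rw [E.hHom_apply, E.hc_val, lev_val, levM, fromBlocks_inj, fromBlocks_inj] at h
    have h1 : (c : F) * σ c = 1 := by rw [← tD_det (m := k + 2) hF ((c : F) * σ c), h.1.1, A.2]
    rw [map_one, E.hHom_apply, hker c h1]

end Even

end Cfsg.Agent.Lie.UnPres
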