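import Cfsg.Agent.Lib.Lie.UnPresRankEven

/-!
Shared material for the relation lists: orbit values as words, images in the model, and the passage from
single relations to the hypotheses of the engine.
-/

set_option autoImplicit false
set_option linter.unusedSectionVars false

namespace Cfsg.Agent.Lie.UnPres

open Matrix Cfsg.Agent.Classical Cfsg.Agent.Classical.PSUAut
open Cfsg.Agent.Lie.SpnPres (sval_mul sval_one inv_mulVec mulVec_inv exists_col)

variable {F : Type*} [Field F] [Fintype F] {q : ℕ} (hF : Fintype.card F = q ^ 2) {k m ε : ℕ}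

local notation "σ" => qFrob hF

section Words

variable {P Q : Type*} [Group P] [Group Q]

open scoped _root_.Classical in
/-- An element moving the first vector to a given one. -/
noncomputable def mv (v : Fin (k + 2) → F) : SpecialLinearGroup (Fin (k + 2)) F :=
  if h : v = 0 then 1 else (exists_col (n := k) 0 h).choose

theorem mv_apply {v : Fin (k + 2) → F} (h : v ≠ 0) :
    (mv v).1 *ᵥ Pi.single 0 1 = v := by
  rw [mv, dif_neg h]
  exact (exists_col (n := k) 0 h).choose_spec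

open scoped _root_.Classical in
/-- The value of the orbit map at a vector, as a word. -/
noncomputable def Tw (jf : SpecialLinearGroup (Fin (k + 2)) F → P) (u : P) (v : Fin (k + 2) → F) : P :=
  if v = 0 then 1 else jf (mv v) * u * (jf (mv v))⁻¹

theorem Tw_map (f : P →* Q) (jf : SpecialLinearGroup (Fin (k + 2)) F → P) (u : P) (v : Fin (k + 2) → F) :
    f (Tw jf u v) = Tw (fun A => f (jf A)) (f u) v := by
  unfold Tw
  split_ifs <;> simp

theorem Tw_eq (j : SpecialLinearGroup (Fin (k + 2)) F →* P) (u : P) {T : (Fin (k + 2) → F) → P} (h0 : T 0 = 1)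
    (hT : ∀ M : SpecialLinearGroup (Fin (k + 2)) F, T (M.1 *ᵥ Pi.single 0 1) = j M * u * (j M)⁻¹)
    (v : Fin (k + 2) → F) : Tw j u v = T v := by
  rcases eq_or_ne v 0 with rfl | hv
  · rw [Tw, if_pos rfl, h0]
  · rw [Tw, if_neg hv]
    exact (hT _).symm.trans (by rw [mv_apply hv])

theorem Bw_map {V : Type*} [AddCommGroup V] (f : P →* Q) (T : V → P) (a b : V) :
    f (Bw T a b) = Bw (fun v => f (T v)) a b := by simp [Bw]

end Words

include hF

section Model

variable {μ : F}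

theorem piT {T : (Fin m → F) → Hgrp hF m ε} (hμ : μ + σ μ = 0)
    (hT : ∀ v, T v = uH hF 0 (μ • vv hF v)) (a b : Fin m → F) :
    Bw T a b = uH hF 0 (μ • hv hF a b) := by
  have hh : ∀ v : Fin m → F, ∀ a b, qFrob hF ((-vv hF v) b a) = (-vv hF v) a b := fun v a b => by
    rw [Matrix.neg_apply, map_neg, vv_herm]; rfl
  have hinv : ∀ v : Fin m → F, (uH hF (0 : Matrix (Fin m) (Fin ε) F) (μ • vv hF v))⁻¹ =
      uH hF 0 (μ • -vv hF v) := fun v => inv_eq_of_mul_eq_one_right (by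
    rw [uH_skew_mul hF hμ (vv_herm hF v) (hh v), add_neg_cancel, smul_zero, uH_zero])
  rw [Bw, hT, hT, hT, hinv, hinv, uH_skew_mul hF hμ (vv_herm hF _) (hh a), uH_skew_mul hF hμ
    (fun x y => by rw [Matrix.add_apply, map_add, vv_herm, hh]; rfl) (hh b), hv_eq]
  congr 2
  abel

theorem Tw_model (v₀ : Matrix (Fin (k + 2)) (Fin ε) F) (Z₀ : Matrix (Fin (k + 2)) (Fin (k + 2)) F)
    (ok : UOK hF v₀ Z₀) {v : Fin (k + 2) → F} (hv : v ≠ 0) :
    Tw (lev hF ε) (uH hF v₀ Z₀) v = uH hF ((mv v).1 * v₀) ((mv v).1 * Z₀ * ct hF (mv v).1) := by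
  rw [Tw, if_neg hv, lev_uH hF _ ok]

theorem vv_zero : vv hF (0 : Fin m → F) = 0 := by ext a b; simp [vv, vecMulVec_apply]

theorem vv_single_zero : vv hF (Pi.single 0 1 : Fin (k + 2) → F) = Matrix.single 0 0 1 := by
  ext a b
  rcases eq_or_ne a 0 with rfl | ha <;> rcases eq_or_ne b 0 with rfl | hb <;>
    simp [vv, vecMulVec_apply, Matrix.single_apply, *, Ne.symm]

theorem vv_smul (c : F) (v : Fin m → F) : vv hF (c • v) = (c * σ c) • vv hF v := by
  ext a b
  simp only [vv, vecMulVec_apply, Matrix.smul_apply, Pi.smul_apply, smul_eq_mul, map_mul]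
  ring

/-- The orbit of a root element in the model. -/
theorem Tw_skew (hμ : μ + σ μ = 0) (v : Fin (k + 2) → F) :
    Tw (lev hF ε) (uH hF 0 (μ • vv hF (Pi.single 0 1))) v =
      uH hF (0 : Matrix (Fin (k + 2)) (Fin ε) F) (μ • vv hF v) := by
  rcases eq_or_ne v 0 with rfl | hv
  · rw [Tw, if_pos rfl, vv_zero, smul_zero, uH_zero]
  · rw [Tw_model hF _ _ (skew_ok hF hμ (vv_herm hF _)) hv, Matrix.mul_zero]
    congr 1
    rw [Matrix.mul_smul, Matrix.smul_mul, ← vv_conj, mv_apply hv]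

/-- The orbit of a Heisenberg element in the model. -/
theorem Tw_heis {c₀ : F} (hc : c₀ + σ c₀ = -1) (v : Fin (k + 2) → F) :
    Tw (lev hF 1) (uH hF (cv (Pi.single 0 1)) (c₀ • vv hF (Pi.single 0 1))) v =
      uH hF (cv v) (c₀ • vv hF v) := by
  rcases eq_or_ne v 0 with rfl | hv
  · rw [Tw, if_pos rfl, vv_zero, smul_zero, show cv (0 : Fin (k + 2) → F) = 0 from rfl, uH_zero]
  · rw [Tw_model hF _ _ (cv_ok hF hc _) hv, cv_mul, mv_apply hv]
    congr 1
    rw [Matrix.mul_smul, Matrix.smul_mul, ← vv_conj, mv_apply hv]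

/-- Hermitian matrices supported on given coordinates are spanned by rank one ones. -/
theorem herm_span (pv : Fin m → Prop) [DecidablePred pv] (A : AddSubgroup (Matrix (Fin m) (Fin m) F))
    (hA : ∀ v : Fin m → F, (∀ a, ¬ pv a → v a = 0) → vv hF v ∈ A) {M : Matrix (Fin m) (Fin m) F}
    (hM : ∀ a b, σ (M b a) = M a b) (hs : ∀ a b, ¬ (pv a ∧ pv b) → M a b = 0) : M ∈ A := by
  obtain ⟨k', hk⟩ := exists_trace_eq hF (a := (1 : F)) (map_one _)
  rw [herm_sum hk hM]
  refine sum_mem fun a _ => sum_mem fun b _ => ?_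
  by_cases h : pv a ∧ pv b
  · have hsup : ∀ (c : Fin m) (x : F), pv c → ∀ i, ¬ pv i → (Pi.single c x : Fin m → F) i = 0 :=
      fun c x hc i hi => Pi.single_eq_of_ne (fun e => hi (by rw [e]; exact hc)) _
    rw [hv_eq]
    refine sub_mem (sub_mem (hA _ fun i hi => ?_) (hA _ (hsup a _ h.1))) (hA _ (hsup b _ h.2))
    rw [Pi.add_apply, hsup a _ h.1 i hi, hsup b _ h.2 i hi, add_zero]
  · have e : hv hF (Pi.single a (k' * M a b) : Fin m → F) (Pi.single b 1) = 0 := by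
      rw [hs a b h, mul_zero, Pi.single_zero]
      ext i l
      simp [hv, vecMulVec_apply]
    rw [e]
    exact zero_mem A

theorem dg_e0 (c : Fˣ) : (dg c : SpecialLinearGroup (Fin (k + 2)) F).1 *ᵥ Pi.single 0 1 = Pi.single 0 (c : F) := by
  rw [dg_val, Matrix.diagonal_mulVec_single, mul_one]
  rfl

theorem dg_e1 (c : Fˣ) : (dg c : SpecialLinearGroup (Fin (k + 2)) F).1 *ᵥ Pi.single 1 1 = Pi.single 1 (c : F)⁻¹ := by
  rw [dg_val, Matrix.diagonal_mulVec_single, mul_one]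
  simp [dgv]

theorem wH_sq {z : F} (hW : WOK hF μ z 0) (h : z = 1) (c₀ : Fˣ) (hc : (c₀ : F) * σ c₀ = -1) :
    lev hF 0 (dg c₀ : SpecialLinearGroup (Fin (k + 2)) F) * wH hF hW 0 *
      (lev hF 0 (dg c₀ : SpecialLinearGroup (Fin (k + 2)) F))⁻¹ * (wH hF hW 0)⁻¹ *
      (wH hF hW 0 * wH hF hW 0) = 1 := by
  subst h
  have hμ := wok_skew hW
  have hμ0 := hW.ne
  refine hext ?_
  rw [hval_mul, dg_torus hF hW c₀, hc, hval_mul, wH_val, hval_one, wMat, Pd]
  simp only [hμ, map_neg, map_one, tD, Finset.card_singleton, pow_one, one_smul, fromBlocks_multiply,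
    Matrix.mul_zero, Matrix.zero_mul, add_zero, zero_add, Matrix.mul_one, Matrix.one_mul,
    ← Matrix.diagonal_smul, ← Matrix.diagonal_one, Matrix.diagonal_sub, Matrix.diagonal_mul_diagonal,
    Matrix.diagonal_add, Matrix.diagonal_zero, inv_neg, inv_one]
  ext ((a|a)|a) ((b|b)|b) <;>
    first
    | exact a.elim0
    | exact b.elim0
    | (simp only [fromBlocks_apply₁₁, fromBlocks_apply₁₂, fromBlocks_apply₂₁, fromBlocks_apply₂₂,
        Matrix.diagonal_apply, Sum.inl.injEq, Sum.inr.injEq, reduceCtorEq, if_false, Matrix.zero_apply]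
       rcases eq_or_ne a b with rfl | hab
       · rcases eq_or_ne a 0 with rfl | ha <;> simp [*]
       · simp [*])

theorem wDw_model {z : F} (hW : WOK hF μ z 0) (h : z = 1) (c₀ : Fˣ) (hc : (c₀ : F) * σ c₀ = -1) :
    wH hF hW 0 * lev hF 0 (dg c₀ : SpecialLinearGroup (Fin (k + 2)) F) * wH hF hW 0 =
      lev hF 0 (dg c₀ : SpecialLinearGroup (Fin (k + 2)) F) := by
  have e := wH_sq (k := k) hF hW h c₀ hc
  set D := lev hF 0 (dg c₀ : SpecialLinearGroup (Fin (k + 2)) F)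
  set w := (wH hF hW 0 : Hgrp hF (k + 2) 0)
  have e1 : D * w * D⁻¹ * w = 1 := by rw [← e]; group
  calc w * D * w = w * D * w * D⁻¹ * w * (w⁻¹ * D) := by group
    _ = w * (D * w * D⁻¹ * w) * (w⁻¹ * D) := by group
    _ = D := by rw [e1]; group

theorem R1_model {z : F} (hW : WOK hF μ z 0) :
    (wH hF hW 0 : Hgrp hF (k + 2) 0) = uH hF 0 (corner (-μ⁻¹)) *
      (wH hF hW 0 * uH hF 0 (corner (-μ⁻¹)) * (wH hF hW 0)⁻¹) * uH hF 0 (corner (-μ⁻¹)) := by
  have hμ := wok_skew hW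
  have hμ0 := hW.ne
  have hok := corner_ok (q := q) (hF := hF) (k := k) (s := -μ⁻¹) (by rw [map_neg, map_inv₀, hμ, inv_neg]; ring)
  set w := (wH hF hW 0 : Hgrp hF (k + 2) 0) with hw
  set x := (uH hF 0 (corner (-μ⁻¹)) : Hgrp hF (k + 2) 0) with hx
  have key : x⁻¹ * w * x⁻¹ * w = w * x := by
    have hsP : (corner (-μ⁻¹) : Matrix (Fin (k + 2)) (Fin (k + 2)) F) = (-μ⁻¹) • Pd hF {0} := by
      rw [corner, Pd_single_eq, Matrix.smul_single, smul_eq_mul, mul_one]
    refine hext ?_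
    rw [hx, uH_inv hF hok, hval_mul, hval_mul, hval_mul, hval_mul, uH_val hF (hok.inv hF), uH_val hF hok, hw,
      wH_val, wMat, uMat, uMat, hsP, ct_smul, ct_Pd, map_neg, map_inv₀, hμ]
    simp only [fromBlocks_multiply, fromBlocks_mul_fromRows, fromCols_mul_fromBlocks, fromRows_mul_fromCols,
      fromCols_mul_fromRows, ct_zero, neg_zero, fromRows_zero, fromCols_zero, Matrix.mul_zero, Matrix.zero_mul,
      Matrix.mul_one, Matrix.one_mul, add_zero, zero_add, Matrix.mul_sub, Matrix.sub_mul, Matrix.mul_add,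
      Matrix.add_mul, Matrix.smul_mul, Matrix.mul_smul, smul_smul, Pd_sq, smul_sub, smul_add, smul_zero, sub_self,
      inv_neg, neg_neg, neg_mul, mul_neg, inv_mul_cancel₀ hμ0, mul_inv_cancel₀ hμ0, one_smul, neg_smul]
    congr 1
    · congr 1 <;> (match_scalars <;> simp [hμ0])
    · simp only [eq_iff_true_of_subsingleton]
  calc w = x * (x⁻¹ * w * x⁻¹ * w) * w⁻¹ * x := by group
    _ = _ := by rw [key]; group

theorem W1_model {z : F} (hW : WOK hF μ z ε) :
    Commute (wH hF hW 0 : Hgrp hF (k + 2) ε)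
      (lev hF ε (swp 1 0) * wH hF hW 0 * (lev hF ε (swp 1 0))⁻¹) := by
  rw [lev_wH hF hW (swp_keep 1)]
  refine hext ?_
  have h1 : (1 : Fin (k + 2)) ∉ ({0} : Finset (Fin (k + 2))) := by simp
  have h0 : (0 : Fin (k + 2)) ∉ ({1} : Finset (Fin (k + 2))) := by simp
  rw [hval_mul, hval_mul, wH_val, wH_val, wMat_mul hF _ h1, wMat_mul hF _ h0, Finset.pair_comm]

/-- The image of a pair under the Weyl element. -/
theorem wY_model {z : F} (hW : WOK hF μ z ε) {μ' : F} (hμ' : μ' + σ μ' = 0)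
    (r : Fin (k + 1) → F) :
    (wH hF hW 0 : Hgrp hF (k + 2) ε) * uH hF 0 (μ' • hv hF (Pi.single 0 1) (Fin.cons 0 r)) * (wH hF hW 0)⁻¹ =
      lev hF ε (colE fun b => σ μ * μ' * r b) := by
  set R : Matrix (Fin (k + 2)) (Fin (k + 2)) F :=
    vecMulVec (Fin.cons 0 fun b => σ μ * μ' * r b) (Pi.single 0 1) with hR
  have h1 : R * Pd hF {0} = R := by
    ext a i
    rcases eq_or_ne i 0 with rfl | hi <;> simp [R, Pd, Matrix.mul_diagonal, vecMulVec_apply, *]
  have h2 : Pd hF {0} * R = 0 := by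
    ext a i
    rcases eq_or_ne a 0 with rfl | ha <;> simp [R, Pd, Matrix.diagonal_mul, vecMulVec_apply, *]
  have e : μ' • hv hF (Pi.single 0 1 : Fin (k + 2) → F) (Fin.cons 0 r) = (σ μ)⁻¹ • R - μ⁻¹ • ct hF R := by
    have hμ0 := hW.ne
    have hμσ : σ μ ≠ 0 := (map_ne_zero (qFrob hF)).2 hμ0
    have hs' : σ μ' = -μ' := by linear_combination hμ'
    ext a i
    simp only [R, hv, Matrix.sub_apply, Matrix.smul_apply, Matrix.add_apply, vecMulVec_apply, ct_apply,
      smul_eq_mul, map_mul, qFrob_qFrob hF]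
    cases a using Fin.cases <;> cases i using Fin.cases <;>
      simp [Pi.single_apply, Fin.succ_ne_zero, qFrob_qFrob hF, hs'] <;> field_simp
  rw [e]
  exact wH_pair hF hW (colE fun b => σ μ * μ' * r b) (colE_val _) h1 h2

end Model

section Engine

variable {hF} {G : Type*} [Group G] {π : G →* Hgrp hF (k + 2) ε}
  {j : SpecialLinearGroup (Fin (k + 2)) F →* G} {U : Subgroup G} {μ : F} {w : G}
variable (D : UData hF π j U)

theorem wU_of (hμ : μ + σ μ = 0) (hμ0 : μ ≠ 0)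
    (hlin : ∀ v : Matrix (Fin (k + 2)) (Fin ε) F, (∀ c, v 0 c = 0) → ∃ u ∈ Ut D, ∃ Z, UOK hF v Z ∧
      π u = uH hF v Z ∧ w * u * w⁻¹ ∈ U1 D)
    (hT : ∀ v : Fin (k + 2) → F, v 0 = 0 → ∀ u ∈ U, π u = uH hF 0 (μ • vv hF v) → w * u * w⁻¹ ∈ U1 D)
    {u : G} (hu : u ∈ Ut D) : w * u * w⁻¹ ∈ U1 D := by
  classical
  let A : AddSubgroup (Matrix (Fin (k + 2)) (Fin (k + 2)) F) :=
    { carrier := {M | (∀ a b, σ (M b a) = M a b) ∧ ∀ u ∈ U, π u = uH hF 0 (μ • M) → w * u * w⁻¹ ∈ U1 D}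
      zero_mem' := ⟨fun a b => by simp, fun u hu e => by
        rw [smul_zero, uH_zero] at e
        rw [D.inj u hu e, mul_one, mul_inv_cancel]
        exact one_mem _⟩
      add_mem' := by
        rintro M N ⟨hM, hM'⟩ ⟨hN, hN'⟩
        refine ⟨fun a b => by rw [Matrix.add_apply, map_add, hM, hN]; rfl, fun u hu e => ?_⟩
        obtain ⟨x, hx, ex⟩ := D.surj _ _ (skew_ok (ε := ε) hF hμ hM)
        have h2 : w * (x⁻¹ * u) * w⁻¹ ∈ U1 D := by
          refine hN' _ (mul_mem (inv_mem hx) hu) ?_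
          rw [map_mul, map_inv, ex, e, inv_mul_eq_iff_eq_mul, uH_skew_mul hF hμ hM hN]
        rw [show w * u * w⁻¹ = w * x * w⁻¹ * (w * (x⁻¹ * u) * w⁻¹) by group]
        exact mul_mem (hM' x hx ex) h2
      neg_mem' := by
        rintro M ⟨hM, hM'⟩
        refine ⟨fun a b => by rw [Matrix.neg_apply, map_neg, hM]; rfl, fun u hu e => ?_⟩
        have h1 := hM' u⁻¹ (inv_mem hu) (by
          rw [map_inv, e]
          refine inv_eq_of_mul_eq_one_right ?_
          rw [uH_skew_mul hF hμ (fun a b => by rw [Matrix.neg_apply, map_neg, hM]; rfl) hM, neg_add_cancel,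
            smul_zero, uH_zero])
        have := inv_mem h1
        simpa [mul_assoc] using this }
  obtain ⟨huU, v, Z, ok, e, hv, hZ⟩ := hu
  obtain ⟨y, hy, Z', ok', ey, hy'⟩ := hlin v fun c => hv 0 c (fun h => h rfl)
  have hr : ∀ {g : G}, g ∈ Ut D → π g = uH hF v Z' → ∀ a b, ¬(a ≠ 0 ∧ b ≠ 0) → Z' a b = 0 := by
    rintro g ⟨-, v1, Z1, ok1, e1, -, hZ1⟩ eg a b hab
    rw [← (uH_inj hF ok1 ok' (e1.symm.trans eg)).2]
    exact hZ1 a b hab
  have hZ'0 := hr hy ey
  have hpi : π (y⁻¹ * u) = uH hF 0 (ct hF Z' + Z - -v * ct hF v) := by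
    rw [map_mul, map_inv, ey, e, uH_inv hF ok', uH_mul hF (ok'.inv hF) ok, neg_add_cancel]
  have hok0 := (ok'.inv hF).mul hF ok
  rw [neg_add_cancel] at hok0
  obtain ⟨M, hM, eM⟩ := skew_form hF hμ hμ0 hok0
  have hmem : M ∈ A := by
    refine herm_span hF (fun a => a ≠ 0) A (fun v hv0 => ⟨vv_herm hF v, hT v (hv0 0 (fun h => h rfl))⟩) hM
      fun a b hab => ?_
    have h1 := congrFun (congrFun eM a) b
    have hvv : (-v * ct hF v) a b = 0 := by
      rw [Matrix.mul_apply]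
      refine Finset.sum_eq_zero fun c _ => ?_
      rcases not_and_or.1 hab with ha | hb
      · rw [Matrix.neg_apply, hv a c ha, neg_zero, zero_mul]
      · rw [ct_apply, hv b c hb, map_zero, mul_zero]
    rw [Matrix.sub_apply, Matrix.add_apply, ct_apply, hvv, hZ'0 b a (fun h => hab ⟨h.2, h.1⟩), map_zero,
      zero_add, hZ a b hab, sub_zero, Matrix.smul_apply, smul_eq_mul] at h1
    exact (mul_eq_zero.1 h1.symm).resolve_left hμ0
  have h2 := hmem.2 _ (mul_mem (inv_mem hy.1) huU) (hpi.trans (by rw [eM]))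
  rw [show w * u * w⁻¹ = w * y * w⁻¹ * (w * (y⁻¹ * u) * w⁻¹) by group]
  exact mul_mem hy' h2

theorem wY_of (hμ : μ + σ μ = 0) (hμ0 : μ ≠ 0)
    (hP : ∀ r : Fin (k + 1) → F, ∀ y ∈ U, π y = uH hF 0 (μ • hv hF (Pi.single 0 1) (Fin.cons 0 r)) →
      w * y * w⁻¹ ∈ colJ j)
    {y : G} (hy : y ∈ Yp D) : w * y * w⁻¹ ∈ colJ j := by
  obtain ⟨hyU, v, Z, ok, e, hv0, hZ⟩ := hy
  obtain rfl : v = 0 := Matrix.ext fun a c => hv0 a c not_false
  obtain ⟨M, hM, rfl⟩ := skew_form hF hμ hμ0 ok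
  refine hP (fun b => M b.succ 0) y hyU (e.trans ?_)
  congr 2
  ext a b
  have hZ' : ∀ a b : Fin (k + 2), ¬((a = 0 ∧ b ≠ 0) ∨ (a ≠ 0 ∧ b = 0)) → M a b = 0 := fun a b h => by
    have := hZ a b h
    rw [Matrix.smul_apply, smul_eq_mul] at this
    exact (mul_eq_zero.1 this).resolve_left hμ0
  simp only [hv, Matrix.add_apply, vecMulVec_apply]
  cases a using Fin.cases <;> cases b using Fin.cases <;>
    simp [Pi.single_apply, Fin.succ_ne_zero, hM, hZ']

include D in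
theorem pair_move (hext : ∀ N, Commute w (j (extL N))) {r₁ : Fin (k + 1) → F} (N : SpecialLinearGroup (Fin (k + 1)) F)
    {y₁ : G} (hy₁ : y₁ ∈ U) (hμ : μ + σ μ = 0)
    (e₁ : π y₁ = uH hF 0 (μ • hv hF (Pi.single 0 1) (Fin.cons 0 r₁))) (h₁ : w * y₁ * w⁻¹ ∈ colJ j)
    {y : G} (hy : y ∈ U) (e : π y = uH hF 0 (μ • hv hF (Pi.single 0 1) (Fin.cons 0 (N.1 *ᵥ r₁)))) :
    w * y * w⁻¹ ∈ colJ j := by
  have ey : y = j (extL N) * y₁ * (j (extL N))⁻¹ := by
    refine D.eq_of hy (D.norm _ _ hy₁) ?_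
    rw [map_mul, map_mul, map_inv, D.πj, e₁, e,
      lev_uH hF _ (skew_ok hF hμ (hv_herm hF _ _)), Matrix.mul_zero]
    congr 1
    rw [Matrix.mul_smul, Matrix.smul_mul]
    congr 1
    rw [hv_eq, hv_eq, Matrix.mul_sub, Matrix.mul_sub, Matrix.sub_mul, Matrix.sub_mul, ← vv_conj, ← vv_conj,
      ← vv_conj, Matrix.mulVec_add, extL_zero, extL_cons]
  obtain ⟨c, hc, ec⟩ := mem_colJ.1 h₁
  refine mem_colJ.2 ⟨extL N * c * (extL N)⁻¹, (extL_blk N).col_conj hc, ?_⟩
  rw [ey, map_mul, map_mul, map_inv, ← ec]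
  have h := (hext N).eq
  calc w * (j (extL N) * y₁ * (j (extL N))⁻¹) * w⁻¹
      = w * j (extL N) * y₁ * (w * j (extL N))⁻¹ := by group
    _ = _ := by rw [h]; group

end Engine

end Cfsg.Agent.Lie.UnPres
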