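import Cfsg.Agent.Lib.Lie.UnPresParts
import Cfsg.Agent.Lib.Classical.SLGroup

/-!
The consequences of the relations of the Weyl element: the other Weyl elements, the product of all of them
turning the Levi factor over, and the torus of the first coordinate normalising everything.
-/

set_option autoImplicit false
set_option linter.unusedSectionVars false

namespace Cfsg.Agent.Lie.UnPres

open Matrix Cfsg.Agent.Classical Cfsg.Agent.Classical.PSUAut
open Cfsg.Agent.Lie.SpnPres (sval_mul sval_one sval_mul_inv sval_inv_mul inv_mulVec mulVec_inv)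

variable {F : Type*} [Field F] [Fintype F] {q : ℕ} {hF : Fintype.card F = q ^ 2} {k ε : ℕ}

local notation "SLm" => SpecialLinearGroup (Fin (k + 2)) F
local notation "bv" a:max => (Pi.single a (1 : F) : Fin (k + 2) → F)

/-- The elements normalising a subgroup. -/
def Nrm {G : Type*} [Group G] (S : Subgroup G) : Subgroup G where
  carrier := {g | (∀ s ∈ S, g * s * g⁻¹ ∈ S) ∧ ∀ s ∈ S, g⁻¹ * s * g ∈ S}
  one_mem' := ⟨fun s hs => by simpa using hs, fun s hs => by simpa using hs⟩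
  mul_mem' := by
    rintro a b ⟨ha, ha'⟩ ⟨hb, hb'⟩
    refine ⟨fun s hs => ?_, fun s hs => ?_⟩
    · have := ha _ (hb s hs)
      simpa only [_root_.mul_inv_rev, mul_assoc] using this
    · have := hb' _ (ha' s hs)
      simpa only [_root_.mul_inv_rev, mul_assoc] using this
  inv_mem' := by
    rintro a ⟨ha, ha'⟩
    exact ⟨fun s hs => by simpa only [inv_inv] using ha' s hs, fun s hs => by simpa only [inv_inv] using ha s hs⟩

theorem Nrm.conj {G : Type*} [Group G] {S : Subgroup G} {g s : G} (h : g ∈ Nrm S) (hs : s ∈ S) :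
    g * s * g⁻¹ ∈ S := h.1 s hs

theorem Nrm.conj' {G : Type*} [Group G] {S : Subgroup G} {g s : G} (h : g ∈ Nrm S) (hs : s ∈ S) :
    g⁻¹ * s * g ∈ S := h.2 s hs

/-- Conjugation into a finite subgroup is onto it. -/
theorem conj_onto {G : Type*} [Group G] {S : Subgroup G} [Finite S] {g : G}
    (h : ∀ s ∈ S, g * s * g⁻¹ ∈ S) : g ∈ Nrm S := by
  refine ⟨h, fun s hs => ?_⟩
  have hf : Function.Injective fun x : S => (⟨g * x * g⁻¹, h x x.2⟩ : S) := fun a b e =>
    Subtype.ext (conj_injective (Subtype.ext_iff.1 e))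
  obtain ⟨x, hx⟩ := Finite.surjective_of_injective hf ⟨s, hs⟩
  have e : g * x * g⁻¹ = s := congrArg Subtype.val hx
  rw [← e]
  simpa [mul_assoc] using x.2

/-- Preserving a coordinate and its complement, composed. -/
theorem Keep.comp {g h : SLm} {b c : Fin (k + 2)} (hh : Keep h c) (hg : g.1 *ᵥ bv c = bv b)
    (hr : ∀ i, i ≠ c → g.1 b i = 0) : Keep (g * h) b := by
  refine ⟨by rw [sval_mul, ← Matrix.mulVec_mulVec, hh.1, hg], fun j hj => ?_⟩
  rw [sval_mul, Matrix.mul_apply]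
  refine Finset.sum_eq_zero fun i _ => ?_
  rcases eq_or_ne i c with rfl | hi
  · rw [hh.2 j hj, mul_zero]
  · rw [hr i hi, zero_mul]

theorem extL_transvection {a b : Fin (k + 1)} (h : a ≠ b) (t : F) :
    (extL (Matrix.SpecialLinearGroup.transvection h t) : SLm) =
      Matrix.SpecialLinearGroup.transvection (fun e => h (Fin.succ_injective _ e) : a.succ ≠ b.succ) t := by
  refine Subtype.ext (SpnPres.ext_mulVec_single fun i => ?_)
  show _ = Matrix.transvection a.succ b.succ t *ᵥ bv i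
  cases i using Fin.cases with
  | zero => rw [extL_zero, transvection_single, if_neg (Fin.succ_ne_zero b).symm, add_zero]
  | succ c =>
    rw [extL_succ, transvection_single]
    show (Fin.cons 0 (Matrix.transvection a b t *ᵥ Pi.single c 1) : Fin (k + 2) → F) = _
    rw [Matrix.transvection, Matrix.add_mulVec, Matrix.one_mulVec]
    rcases eq_or_ne c b with rfl | hc
    · rw [if_pos rfl]
      ext i
      cases i using Fin.cases <;>
        simp [Pi.single_apply, Matrix.single_apply, Fin.succ_ne_zero, (Fin.succ_ne_zero _).symm, eq_comm]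
    · rw [if_neg fun e => hc (Fin.succ_injective _ e)]
      ext i
      cases i using Fin.cases <;>
        simp [hc.symm, Pi.single_apply, Matrix.single_apply, Fin.succ_ne_zero, (Fin.succ_ne_zero _).symm]

theorem transvection_fix {a b c : Fin (k + 2)} (h : a ≠ b) (t : F) (hca : c ≠ a) (hcb : c ≠ b) :
    (Matrix.SpecialLinearGroup.transvection h t : SLm).1 *ᵥ bv c = bv c ∧
      ∀ i, i ≠ c → (Matrix.SpecialLinearGroup.transvection h t : SLm).1 c i = 0 := by
  refine ⟨?_, fun i hi => ?_⟩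
  · show Matrix.transvection a b t *ᵥ bv c = bv c
    rw [transvection_single, if_neg hcb, add_zero]
  · show Matrix.transvection a b t c i = 0
    simp [Matrix.transvection, Matrix.single_apply, hi.symm, hca.symm]

variable {G : Type*} [Group G] {π : G →* Hgrp hF (k + 2) ε} {j : SpecialLinearGroup (Fin (k + 2)) F →* G}
  {U : Subgroup G}

theorem X0_finite (D : UData hF π j U) : Finite (X0 D) := by
  have : Finite (Hgrp hF (k + 2) ε) := inferInstance
  refine Finite.of_injective (fun x : X0 D => π x.1) fun a b h => ?_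
  exact Subtype.ext (D.eq_of a.2.1 b.2.1 h)

theorem lev_eq_uH {v : Matrix (Fin (k + 2)) (Fin ε) F} {Z : Matrix (Fin (k + 2)) (Fin (k + 2)) F}
    (h : UOK hF v Z) {A : SLm} (e : uH hF v Z = lev hF ε A) : A = 1 ∧ uH hF v Z = 1 := by
  have e' := congrArg hval e
  rw [uH_val hF h, lev_val, uMat, levM, fromBlocks_inj, fromBlocks_inj] at e'
  have hA : A = 1 := Subtype.ext e'.1.1.symm
  exact ⟨hA, by rw [e, hA, map_one]⟩

variable (D : UData hF π j U)

/-- The image of the first column. -/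
def colJ (j : SLm →* G) : Subgroup G := (colS : Subgroup SLm).map j

theorem mem_colJ {g : G} : g ∈ colJ j ↔ ∃ c ∈ (colS : Subgroup SLm), g = j c :=
  ⟨fun ⟨c, hc, e⟩ => ⟨c, hc, e.symm⟩, fun ⟨c, hc, e⟩ => ⟨c, hc, e.symm⟩⟩

theorem U1_conj {A : SLm} (hA : ∀ i, A.1 0 i ≠ 0 → i = 0) {u : G} (hu : u ∈ U1 D) :
    j A * u * (j A)⁻¹ ∈ U1 D := by
  refine part_conj A (fun a i h hi ha => hi ?_) (fun a b i l ha hb h hab => h ?_) hu
  · subst ha; exact hA i h
  · obtain ⟨rfl, rfl⟩ := hab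
    exact ⟨hA i ha, hA l hb⟩

theorem col_row_zero {c : SLm} (hc : c ∈ colS) (i : Fin (k + 2)) (h : c.1 0 i ≠ 0) : i = 0 := by
  by_contra hi
  exact h (by rw [mem_colS.1 hc 0 i (Or.inl rfl), Matrix.one_apply_ne (Ne.symm hi)])

theorem blk_row_zero {d : SLm} (hd : Blk d) (i : Fin (k + 2)) (h : d.1 0 i ≠ 0) : i = 0 := (hd 0 i h).1 rfl

/-- The group of the first column with the radical off the corner. -/
def Qs : Subgroup G where
  carrier := {g | ∃ u ∈ U1 D, ∃ c ∈ (colS : Subgroup SLm), g = u * j c}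
  one_mem' := ⟨1, one_mem _, 1, one_mem _, by rw [map_one, one_mul]⟩
  mul_mem' := by
    rintro _ _ ⟨u, hu, c, hc, rfl⟩ ⟨u', hu', c', hc', rfl⟩
    exact ⟨u * (j c * u' * (j c)⁻¹), mul_mem hu (U1_conj D (col_row_zero hc) hu'), c * c', mul_mem hc hc',
      by rw [map_mul]; group⟩
  inv_mem' := by
    rintro _ ⟨u, hu, c, hc, rfl⟩
    exact ⟨j c⁻¹ * u⁻¹ * (j c⁻¹)⁻¹, U1_conj D (col_row_zero (inv_mem hc)) (inv_mem hu), c⁻¹, inv_mem hc,
      by rw [map_inv]; group⟩

theorem U1_Qs {u : G} (hu : u ∈ U1 D) : u ∈ Qs D := ⟨u, hu, 1, one_mem _, by rw [map_one, mul_one]⟩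

theorem col_Qs {c : SLm} (hc : c ∈ colS) : j c ∈ Qs D := ⟨1, one_mem _, c, hc, (one_mul _).symm⟩

theorem blk_part {pv : Fin (k + 2) → Prop} {pZ : Fin (k + 2) → Fin (k + 2) → Prop} {h : ShpOK pv pZ}
    (h1 : ∀ a i, (a = 0 ↔ i = 0) → pv i → pv a)
    (h2 : ∀ a b i l, (a = 0 ↔ i = 0) → (b = 0 ↔ l = 0) → pZ i l → pZ a b)
    {d : SLm} (hd : Blk d) {u : G} (hu : u ∈ part D h) : j d * u * (j d)⁻¹ ∈ part D h :=
  part_conj d (fun a i ha => h1 a i (hd a i ha)) (fun a b i l ha hb => h2 a b i l (hd a i ha) (hd b l hb)) hu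

theorem blk_Yp {d : SLm} (hd : Blk d) {u : G} (hu : u ∈ Yp D) : j d * u * (j d)⁻¹ ∈ Yp D := by
  refine blk_part D (fun _ _ _ h => h) (fun a b i l hai hbl h => ?_) hd hu
  rcases h with h | h
  · exact Or.inl ⟨hai.2 h.1, fun e => h.2 (hbl.1 e)⟩
  · exact Or.inr ⟨fun e => h.1 (hai.1 e), hbl.2 h.2⟩

theorem blk_Qs {d : SLm} (hd : Blk d) : j d ∈ Nrm (Qs D) := by
  have key : ∀ {e : SLm}, Blk e → ∀ s ∈ Qs D, j e * s * (j e)⁻¹ ∈ Qs D := by
    rintro e he _ ⟨u, hu, c, hc, rfl⟩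
    exact ⟨j e * u * (j e)⁻¹, U1_conj D (blk_row_zero he) hu, e * c * e⁻¹, he.col_conj hc,
      by rw [map_mul, map_mul, map_inv]; group⟩
  exact ⟨key hd, fun s hs => by simpa only [map_inv, inv_inv] using key hd.inv s hs⟩

theorem X0_Qs {x : G} (hx : x ∈ X0 D) : x ∈ Nrm (Qs D) := by
  classical
  have key : ∀ {x : G}, x ∈ X0 D → ∀ s ∈ Qs D, x * s * x⁻¹ ∈ Qs D := by
    rintro x ⟨hxU, v, Z, ok, e, hv, hZ⟩ _ ⟨u, hu, c, hc, rfl⟩
    have h00 : Z 0 0 + qFrob hF (Z 0 0) + (v * ct hF v) 0 0 = 0 := by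
      simpa only [Matrix.add_apply, ct_apply, Matrix.zero_apply] using congrFun (congrFun ok 0) 0
    have h1 : x * u * x⁻¹ ∈ U1 D := by
      obtain ⟨huU, v', Z', ok', e', hv', hZ'⟩ := hu
      refine part_mem (mul_mem (mul_mem hxU huU) (inv_mem hxU)) ((ok.mul hF ok').mul hF (ok.inv hF))
        (by rw [map_mul, map_mul, map_inv, e, e', uH_inv hF ok, uH_mul hF ok ok',
          uH_mul hF (ok.mul hF ok') (ok.inv hF)]) ⟨fun a i ha => ?_, fun a b hab => ?_⟩
      · simp only [Matrix.add_apply, Matrix.neg_apply, hv' a i ha]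
        ring
      · rw [not_not] at hab
        obtain ⟨rfl, rfl⟩ := hab
        have z1 : (v' * ct hF v) 0 0 = 0 := by
          rw [Matrix.mul_apply]
          exact Finset.sum_eq_zero fun i _ => by rw [hv' 0 i (not_not.2 rfl), zero_mul]
        have z2 : (v * ct hF v') 0 0 = 0 := by
          rw [Matrix.mul_apply]
          exact Finset.sum_eq_zero fun i _ => by rw [ct_apply, hv' 0 i (not_not.2 rfl), map_zero, mul_zero]
        simp only [ct_neg, Matrix.mul_neg, Matrix.neg_apply, neg_neg, Matrix.add_mul, sub_neg_eq_add, Matrix.add_apply,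
          Matrix.sub_apply, ct_apply, z1, z2, hZ' 0 0 (not_not.2 ⟨rfl, rfl⟩), add_zero, sub_zero]
        linear_combination h00
    have h2 : x * (j c * x⁻¹ * (j c)⁻¹) ∈ U1 D := by
      have row : ∀ i, c.1 0 i = (1 : Matrix (Fin (k + 2)) (Fin (k + 2)) F) 0 i := fun i =>
        mem_colS.1 hc 0 i (Or.inl rfl)
      have okA := (ok.inv hF).act hF c.1
      refine part_mem (mul_mem hxU (D.norm c _ (inv_mem hxU))) (ok.mul hF okA)
        (by rw [map_mul, map_mul, map_mul, map_inv, map_inv, D.πj, e, uH_inv hF ok,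
          lev_uH hF c (ok.inv hF), uH_mul hF ok okA]) ⟨fun a i ha => ?_, fun a b hab => ?_⟩
      · rw [not_not] at ha
        subst ha
        simp [Matrix.mul_apply, row, Matrix.one_apply]
      · rw [not_not] at hab
        obtain ⟨rfl, rfl⟩ := hab
        have z1 : (c.1 * ct hF Z * ct hF c.1) 0 0 = qFrob hF (Z 0 0) := by
          simp [Matrix.mul_apply, ct_apply, row, Matrix.one_apply, apply_ite (qFrob hF)]
        have z2 : (v * ct hF (c.1 * -v)) 0 0 = -(v * ct hF v) 0 0 := by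
          simp [Matrix.mul_apply, ct_apply, row, Matrix.one_apply, apply_ite (qFrob hF)]
        rw [Matrix.sub_apply, Matrix.add_apply, z1, z2]
        linear_combination h00
    exact ⟨x * u * x⁻¹ * (x * (j c * x⁻¹ * (j c)⁻¹)), mul_mem h1 h2, c, hc, by group⟩
  exact ⟨key hx, fun s hs => by simpa only [inv_inv] using key (inv_mem hx) s hs⟩

theorem X0_extL {x : G} (hx : x ∈ X0 D) (N : SpecialLinearGroup (Fin (k + 1)) F) :
    Commute x (j (extL N)) := by
  classical
  obtain ⟨hxU, v, Z, ok, e, hv, hZ⟩ := hx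
  refine Commute.symm (show j (extL N) * x = x * j (extL N) from ?_)
  rw [← mul_inv_eq_iff_eq_mul]
  refine D.eq_of (D.norm _ _ hxU) hxU ?_
  rw [map_mul, map_mul, map_inv, D.πj, e, lev_uH hF _ ok]
  have col : ∀ a, (extL N : SLm).1 a 0 = if a = 0 then 1 else 0 := fun a => by
    have := congrFun (extL_zero N) a
    simpa [Pi.single_apply] using this
  congr 1
  · ext a i
    rw [Matrix.mul_apply, Finset.sum_eq_single (0 : Fin (k + 2)) (fun l _ hl => by rw [hv l i hl, mul_zero])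
      (by simp), col a]
    rcases eq_or_ne a 0 with rfl | ha
    · rw [if_pos rfl, one_mul]
    · rw [if_neg ha, zero_mul, hv a i ha]
  · ext a b
    rw [Matrix.mul_apply, Finset.sum_eq_single (0 : Fin (k + 2)) (fun l _ hl => by
      rw [Matrix.mul_apply, Finset.sum_eq_zero fun i _ => by rw [hZ i l fun h => hl h.2, mul_zero], zero_mul])
      (by simp), Matrix.mul_apply, Finset.sum_eq_single (0 : Fin (k + 2))
      (fun i _ hi => by rw [hZ i 0 fun h => hi h.1, mul_zero]) (by simp), ct_apply, col a, col b]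
    rcases eq_or_ne a 0 with rfl | ha
    · rcases eq_or_ne b 0 with rfl | hb
      · simp
      · rw [if_neg hb, map_zero, mul_zero, hZ 0 b fun h => hb h.2]
    · rw [if_neg ha, zero_mul, zero_mul, hZ a b fun h => ha h.1]

theorem extL_Nrm {g : G} (h : ∀ N, Commute g (j (extL N))) : g ∈ Nrm (extL.range.map j) := by
  constructor
  · rintro _ ⟨_, ⟨N, rfl⟩, rfl⟩
    rw [(h N).eq, mul_inv_cancel_right]
    exact ⟨_, ⟨N, rfl⟩, rfl⟩
  · rintro _ ⟨_, ⟨N, rfl⟩, rfl⟩
    rw [mul_assoc, ← (h N).eq, inv_mul_cancel_left]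
    exact ⟨_, ⟨N, rfl⟩, rfl⟩

variable {μ z : F}

/-- The relations of the Weyl element. -/
structure Eng (hW : WOK hF μ z ε) (w : G) : Prop where
  πw : π w = wH hF hW 0
  wext : ∀ N, Commute w (j (extL N))
  wU : ∀ u ∈ Ut D, w * u * w⁻¹ ∈ U1 D
  wY : ∀ y ∈ Yp D, w * y * w⁻¹ ∈ colJ j
  winv : ∃ d1 d2, Blk d1 ∧ Blk d2 ∧ w⁻¹ = j d1 * w * j d2
  wW : Commute w (j (swp 1 0) * w * (j (swp 1 0))⁻¹)

/-- The Weyl element of a coordinate. -/
def Wc (j : SLm →* G) (w : G) (b : Fin (k + 2)) : G := j (swp b 0) * w * (j (swp b 0))⁻¹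

/-- The product of the later Weyl elements. -/
def J1 (j : SLm →* G) (w : G) : G := ((List.finRange (k + 1)).map fun i => Wc j w i.succ).prod

/-- The product of all Weyl elements. -/
def Jt (j : SLm →* G) (w : G) : G := w * J1 j w

variable {D} {hW : WOK hF μ z ε} {w : G}

theorem Wc_zero : Wc j w (0 : Fin (k + 2)) = w := by simp [Wc, swp]

theorem Eng.W_eq (E : Eng D hW w) {g : SLm} {b : Fin (k + 2)} (hg : Keep g b) :
    Wc j w b = j g * w * (j g)⁻¹ := by
  obtain ⟨N, hN⟩ := (swp_keep b).extL hg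
  have hg' : g = swp b 0 * extL N := by rw [← hN, mul_inv_cancel_left]
  rw [hg', map_mul, Wc, _root_.mul_inv_rev]
  rw [show j (swp b 0) * j (extL N) * w * ((j (extL N))⁻¹ * (j (swp b 0))⁻¹) =
    j (swp b 0) * (j (extL N) * w * (j (extL N))⁻¹) * (j (swp b 0))⁻¹ by group, ← (E.wext N).eq,
    mul_inv_cancel_right]

theorem Eng.W_comm (E : Eng D hW w) {M : SLm} {c : Fin (k + 2)} (h1 : M.1 *ᵥ bv c = bv c)
    (h2 : ∀ i, i ≠ c → M.1 c i = 0) : Commute (Wc j w c) (j M) := by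
  have h := E.W_eq (Keep.comp (swp_keep c) h1 h2)
  rw [map_mul, _root_.mul_inv_rev] at h
  refine Commute.symm (show j M * Wc j w c = Wc j w c * j M from ?_)
  conv_rhs => rw [h]
  rw [Wc]
  group

theorem Eng.πW (E : Eng D hW w) (b : Fin (k + 2)) : π (Wc j w b) = wH hF hW b := by
  rw [Wc, map_mul, map_mul, map_inv, D.πj, E.πw, lev_wH hF hW (swp_keep b)]

theorem Eng.W_w (E : Eng D hW w) : ∀ b : Fin (k + 2), b ≠ 0 → Commute w (Wc j w b) := by
  intro b hb
  obtain ⟨b', rfl⟩ := Fin.exists_succ_eq.2 hb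
  obtain ⟨N, hN1, hN2⟩ : ∃ N : SpecialLinearGroup (Fin (k + 1)) F, N.1 *ᵥ Pi.single 0 1 = Pi.single b' 1 ∧
      ∀ i, i ≠ 0 → N.1 b' i = 0 := by
    rcases k with _ | l
    · obtain rfl : b' = 0 := Subsingleton.elim (α := Fin 1) _ _
      exact ⟨1, by rw [sval_one, Matrix.one_mulVec], fun i hi => absurd (Subsingleton.elim (α := Fin 1) i 0) hi⟩
    · exact ⟨swp b' 0, swp_keep b'⟩
  have he : (extL N : SLm).1 *ᵥ bv 1 = bv b'.succ := by
    rw [← Fin.succ_zero_eq_one, extL_succ, hN1, cons_single]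
  have hr : ∀ i, i ≠ 1 → (extL N : SLm).1 b'.succ i = 0 := fun i hi => by
    cases i using Fin.cases with
    | zero => simpa [Fin.succ_ne_zero] using congrFun (extL_zero N) b'.succ
    | succ c =>
      have h := congrFun (extL_succ N c) b'.succ
      simp only [Matrix.mulVec_single_one, Matrix.col_apply, Fin.cons_succ] at h
      rw [h]
      exact hN2 c fun e => hi (by rw [e, Fin.succ_zero_eq_one])
  rw [E.W_eq (Keep.comp (swp_keep 1) he hr), map_mul, _root_.mul_inv_rev,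
    show j (extL N) * j (swp 1 0) * w * ((j (swp 1 0))⁻¹ * (j (extL N))⁻¹) =
      j (extL N) * (j (swp 1 0) * w * (j (swp 1 0))⁻¹) * (j (extL N))⁻¹ by group]
  exact ((E.wext N).mul_right E.wW).mul_right (E.wext N).inv_right

theorem Eng.W_pair (E : Eng D hW w) {a b : Fin (k + 2)} (h : a ≠ b) : Commute (Wc j w a) (Wc j w b) := by
  have key : ∀ a b : Fin (k + 2), a < b → Commute (Wc j w a) (Wc j w b) := by
    intro a b hab
    have hb : b ≠ 0 := ne_of_gt (lt_of_le_of_lt (Fin.zero_le a) hab)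
    rcases eq_or_ne a 0 with rfl | ha
    · rw [Wc_zero]
      exact E.W_w b hb
    have hba : b ≠ a := (ne_of_lt hab).symm
    have h1 : (swp a 0 : SLm).1 *ᵥ bv b = bv b := by rw [swp_single ha, if_neg hba, if_neg hb]
    have h2 : ∀ i, i ≠ b → (swp a 0 : SLm).1 b i = 0 := fun i hi => by
      have := congrFun (swp_single ha i (F := F)) b
      simp only [Matrix.mulVec_single_one, Matrix.col_apply] at this
      rw [this]
      split_ifs with e1 e2
      · simp [hb]
      · simp [hba]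
      · simp [hi.symm]
    have hc := E.W_comm h1 h2
    have := (E.W_w b hb).map (MulAut.conj (j (swp a 0))).toMonoidHom
    have e : j (swp a 0) * Wc j w b * (j (swp a 0))⁻¹ = Wc j w b := by
      rw [← hc.eq, mul_inv_cancel_right]
    simp only [MulEquiv.coe_toMonoidHom, MulAut.conj_apply, e] at this
    exact this
  rcases lt_or_gt_of_ne h with h | h
  exacts [key a b h, (key b a h).symm]

theorem Eng.J1_w (E : Eng D hW w) : Commute w (J1 j w) := by
  refine Commute.list_prod_right _ _ fun x hx => ?_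
  obtain ⟨i, -, rfl⟩ := List.mem_map.1 hx
  exact E.W_w _ (Fin.succ_ne_zero i)

theorem Eng.Jt_w (E : Eng D hW w) : Commute w (Jt j w) := (Commute.refl w).mul_right E.J1_w

theorem Jt_eq : Jt j w = ((List.finRange (k + 2)).map (Wc j w)).prod := by
  rw [List.finRange_succ, List.map_cons, List.prod_cons, Wc_zero, List.map_map]
  rfl

theorem Eng.πJ (E : Eng D hW w) : hval (π (Jt j w)) = wMat hF μ z ε Finset.univ := by
  rw [Jt_eq, map_list_prod, List.map_map,
    show (π ∘ Wc j w) = wH hF hW from funext E.πW, wH_prod hF hW _ (List.nodup_finRange _),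
    List.toFinset_finRange]

theorem Eng.col_up (E : Eng D hW w) {c : SLm} (hc : c ∈ colS) : ∃ y ∈ Yp D, w * y * w⁻¹ = j c := by
  obtain ⟨r, rfl⟩ := hc
  set R : Matrix (Fin (k + 2)) (Fin (k + 2)) F := vecMulVec (Fin.cons 0 r) (Pi.single 0 1) with hR
  have hRz : ∀ a i, (a = 0 ∨ i ≠ 0) → R a i = 0 := fun a i h => by
    rw [hR, vecMulVec_apply]
    rcases h with rfl | h <;> simp [*]
  have h1 : R * Pd hF {0} = R := by
    ext a i
    rcases eq_or_ne i 0 with rfl | hi <;> simp [Pd, Matrix.mul_diagonal, vecMulVec_apply, *]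
  have h2 : Pd hF {0} * R = 0 := by
    ext a i
    rcases eq_or_ne a 0 with rfl | ha <;> simp [Pd, Matrix.diagonal_mul, vecMulVec_apply, *]
  have hok : UOK hF (0 : Matrix (Fin (k + 2)) (Fin ε) F) ((qFrob hF μ)⁻¹ • R - μ⁻¹ • ct hF R) := by
    have := pairZ_ok (ε := ε) hF (qFrob hF μ) ((map_ne_zero (qFrob hF)).2 hW.ne) R
    rwa [qFrob_qFrob hF] at this
  obtain ⟨y, hy, ey⟩ := part_surj (D := D) (h := shp_pair (k + 2)) hok
    ⟨fun _ _ _ => rfl, fun a b hab => by
      rw [Matrix.sub_apply, Matrix.smul_apply, Matrix.smul_apply, ct_apply, hRz a b ?_, hRz b a ?_, map_zero,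
        smul_zero, smul_zero, sub_zero]
      · by_contra hh
        rw [not_or, not_not] at hh
        exact hab (Or.inl ⟨hh.2, hh.1⟩)
      · by_contra hh
        rw [not_or, not_not] at hh
        exact hab (Or.inr ⟨hh.1, hh.2⟩)⟩
  refine ⟨y, hy, ?_⟩
  obtain ⟨c', -, e⟩ := mem_colJ.1 (E.wY y hy)
  rw [e]
  congr 1
  refine lev_injective hF (ε := ε) ?_
  rw [← D.πj, ← e, map_mul, map_mul, map_inv, E.πw, ey, wH_pair hF hW (colE r) (colE_val r) h1 h2]

theorem Eng.col_w (E : Eng D hW w) {c : SLm} (hc : c ∈ colS) : w * j c * w⁻¹ ∈ U1 D := by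
  obtain ⟨d1, d2, hd1, hd2, e⟩ := E.winv
  have hc' : d1⁻¹ * c * d1 ∈ colS := by simpa using hd1.inv.col_conj hc
  obtain ⟨y, hy, hy'⟩ := E.col_up hc'
  have hw : w = (j d2)⁻¹ * w⁻¹ * (j d1)⁻¹ := by
    have := congrArg (fun g => g⁻¹) e
    simpa [mul_assoc] using this
  have hy2 : w⁻¹ * j (d1⁻¹ * c * d1) * w = y := by rw [← hy']; group
  have hval' : w * j c * w⁻¹ = j d2⁻¹ * y * (j d2⁻¹)⁻¹ := by
    rw [← hy2, map_inv, map_mul, map_mul, map_inv]
    conv_lhs => rw [hw]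
    group
  rw [hval']
  exact Yp_le D (blk_Yp D hd2.inv hy)

theorem Eng.w_Qs (E : Eng D hW w) : w ∈ Nrm (Qs D) := by
  have key : ∀ s ∈ Qs D, w * s * w⁻¹ ∈ Qs D := by
    rintro _ ⟨u, hu, c, hc, rfl⟩
    obtain ⟨y, hy, t, ht, rfl⟩ := U1_split D hu
    obtain ⟨c', hc', e⟩ := mem_colJ.1 (E.wY y hy)
    rw [show w * (y * t * j c) * w⁻¹ = w * y * w⁻¹ * ((w * t * w⁻¹) * (w * j c * w⁻¹)) by group, e]
    exact mul_mem (col_Qs D hc') (mul_mem (U1_Qs D (E.wU t ht)) (U1_Qs D (E.col_w hc)))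
  obtain ⟨d1, d2, hd1, hd2, e⟩ := E.winv
  refine ⟨key, fun s hs => ?_⟩
  have h2 := (blk_Qs D hd2).1 _ hs
  have := (blk_Qs D hd1).1 _ (key _ h2)
  conv in w⁻¹ * s * w => rw [show w⁻¹ * s * w = w⁻¹ * s * (w⁻¹)⁻¹ by rw [inv_inv], e]
  convert this using 1
  group

theorem Eng.Jt_tv (E : Eng D hW w) {a b : Fin (k + 2)} (hab : a ≠ b) (t : F) :
    Jt j w * j (Matrix.SpecialLinearGroup.transvection hab t) * (Jt j w)⁻¹ =
      j (tct hF (Matrix.SpecialLinearGroup.transvection hab t)) := by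
  classical
  set A : SLm := Matrix.SpecialLinearGroup.transvection hab t with hA
  set R := (((List.finRange (k + 2)).erase a).erase b) with hR
  have hb' : b ∈ (List.finRange (k + 2)).erase a :=
    (List.mem_erase_of_ne hab.symm).2 (List.mem_finRange b)
  have hperm : (List.finRange (k + 2)).Perm (R ++ [a, b]) :=
    ((List.perm_cons_erase (List.mem_finRange a)).trans
      ((List.perm_cons_erase hb').cons a)).trans (List.perm_append_comm (l₁ := [a, b]))
  have hJ : Jt j w = (R.map (Wc j w)).prod * (Wc j w a * Wc j w b) := by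
    rw [Jt_eq, List.Perm.prod_eq' (hperm.map (Wc j w))
      (List.pairwise_map.2 ((List.nodup_finRange _).imp fun h => E.W_pair h))]
    simp
  -- the inner conjugation
  obtain ⟨c, hc, ec⟩ : ∃ c ∈ colS, A * swp b 0 = swp b 0 * c := by
    refine ⟨(swp b 0)⁻¹ * A * swp b 0, mem_colS.2 fun i l h => ?_, by group⟩
    rw [sval_mul, sval_mul, hA]
    show (((swp b 0 : SLm)⁻¹).1 * Matrix.transvection a b t * (swp b 0 : SLm).1) i l = _
    rw [Matrix.transvection, Matrix.mul_add, Matrix.mul_one, Matrix.add_mul, sval_inv_mul, Matrix.add_apply,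
      add_eq_left, Matrix.mul_apply, Finset.sum_eq_single b (fun x _ hx => by
        rw [Matrix.mul_single_apply_of_ne (hbj := hx), zero_mul]) (by simp), Matrix.mul_single_apply_same]
    rcases h with rfl | h
    · rw [show (swp b 0 : SLm)⁻¹.1 0 a = 0 by
        by_contra h'; exact hab ((swp_keep b).inv_row a h'), zero_mul, zero_mul]
    · rw [(swp_keep b).2 l h, mul_zero]
  have hu : Wc j w b * j A * (Wc j w b)⁻¹ =
      j (swp b 0) * (w * j c * w⁻¹) * (j (swp b 0))⁻¹ := by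
    have e' : j A = j (swp b 0) * j c * (j (swp b 0))⁻¹ := by
      rw [← map_mul, ← ec, map_mul, mul_inv_cancel_right]
    rw [e', Wc]
    group
  set u := Wc j w b * j A * (Wc j w b)⁻¹ with hu'
  have huU : u ∈ U := by
    rw [hu]
    exact D.norm _ _ (part_le (E.col_w hc))
  have hsingle : A.1 = 1 + Matrix.single a b t := rfl
  have eu : π u = uH hF 0 (μ⁻¹ • Matrix.single a b t - (qFrob hF μ)⁻¹ • ct hF (Matrix.single a b t)) := by
    rw [hu', map_mul, map_mul, map_inv, E.πW, D.πj, wH_lev hF hW A hsingle]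
    · ext i l
      rcases eq_or_ne l b with rfl | hl <;> simp [Pd, Matrix.mul_diagonal, Matrix.single_apply, *]
      intro _ h
      exact absurd h.symm hl
    · ext i l
      rcases eq_or_ne i b with rfl | hi <;> simp [Pd, Matrix.diagonal_mul, Matrix.single_apply, *]
  have huY : j (swp a 0)⁻¹ * u * (j (swp a 0)⁻¹)⁻¹ ∈ Yp D := by
    have hsh : ShpOK (fun _ : Fin (k + 2) => False) (fun x y => (x = a ∧ y = b) ∨ (x = b ∧ y = a)) :=
      ⟨fun _ _ h _ => h.elim, fun _ _ h => h.elim (fun h => Or.inr ⟨h.2, h.1⟩) fun h => Or.inl ⟨h.2, h.1⟩⟩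
    refine part_conj (h := hsh) _ (fun _ _ _ h => h) (fun x y i l hx hy h => ?_)
      (part_mem huU (pairZ_ok hF μ hW.ne _) eu ⟨fun _ _ _ => rfl, fun x y hxy => ?_⟩)
    · rcases h with ⟨rfl, rfl⟩ | ⟨rfl, rfl⟩
      · refine Or.inl ⟨(swp_keep i).inv_col x hx, fun e => hab ?_⟩
        subst e
        exact ((swp_keep i).inv_row l hy).symm
      · refine Or.inr ⟨fun e => hab ?_, (swp_keep l).inv_col y hy⟩
        subst e
        exact ((swp_keep l).inv_row i hx).symm
    · rw [Matrix.sub_apply, Matrix.smul_apply, Matrix.smul_apply, ct_apply, Matrix.single_apply,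
        Matrix.single_apply, if_neg fun h => hxy (Or.inl ⟨h.1.symm, h.2.symm⟩),
        if_neg fun h => hxy (Or.inr ⟨h.2.symm, h.1.symm⟩), map_zero, smul_zero, smul_zero, sub_zero]
  obtain ⟨c', -, ec'⟩ := mem_colJ.1 (E.wY _ huY)
  set M : SLm := swp a 0 * c' * (swp a 0)⁻¹ with hM
  have hinner : Wc j w a * Wc j w b * j A * (Wc j w a * Wc j w b)⁻¹ = j M := by
    rw [hM, map_mul, map_mul, ← ec', map_inv, hu', Wc]
    group
  have hconj : Jt j w * j A * (Jt j w)⁻¹ =
      (R.map (Wc j w)).prod * j M * ((R.map (Wc j w)).prod)⁻¹ := by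
    rw [hJ, ← hinner]
    group
  have hR' : Commute (R.map (Wc j w)).prod (j (tct hF A)) := by
    refine Commute.list_prod_left _ _ fun g hg => ?_
    obtain ⟨x, hx, rfl⟩ := List.mem_map.1 hg
    have h1 := ((List.nodup_finRange (k + 2)).erase a).mem_erase_iff.1 hx
    have h2 := (List.nodup_finRange (k + 2)).mem_erase_iff.1 h1.2
    have e : (tct hF A).1 = 1 + Matrix.single b a (-qFrob hF t) := by
      rw [tct_val, sval_inv_of hsingle (by simp [hab.symm]), sub_eq_add_neg, ct_add, ct_one, ct_neg]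
      congr 1
      ext i l
      simp [ct_apply, Matrix.single_apply, apply_ite (qFrob hF), and_comm]
      split_ifs <;> simp
    refine E.W_comm ?_ fun i hi => ?_
    · rw [e]
      exact (transvection_fix hab.symm (-qFrob hF t) h1.1 h2.1).1
    · rw [e]
      exact (transvection_fix hab.symm (-qFrob hF t) h1.1 h2.1).2 i hi
  have hMA : M = tct hF A := by
    refine lev_injective hF (ε := ε) (mul_left_cancel (a := π (R.map (Wc j w)).prod) ?_)
    have h2 := congrArg π hR'.eq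
    rw [map_mul, map_mul, D.πj] at h2
    rw [h2, ← wAll_lev hF E.πJ A, ← D.πj M, ← D.πj A, ← map_inv, ← map_mul, ← map_mul, ← map_mul, ← map_mul,
      hconj]
    group
  rw [hconj, hMA, hR'.eq, mul_inv_cancel_right]

theorem Eng.Jt_j (E : Eng D hW w) (A : SLm) : Jt j w * j A * (Jt j w)⁻¹ = j (tct hF A) := by
  refine DFunLike.congr_fun (MonoidHom.eq_of_eqOn_dense Cfsg.Agent.Classical.SL_closure_transvections
    (f := (MulAut.conj (Jt j w)).toMonoidHom.comp j) (g := j.comp (tct hF)) ?_) A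
  rintro _ ⟨⟨a, b, hab, t⟩, rfl⟩
  exact E.Jt_tv hab t

theorem Eng.Jt_j' (E : Eng D hW w) (A : SLm) : (Jt j w)⁻¹ * j A * Jt j w = j (tct hF A) := by
  have := E.Jt_j (tct hF A)
  rw [tct_tct] at this
  rw [← this]
  group

theorem Eng.W_X0 (E : Eng D hW w) {a : Fin (k + 2)} (ha : a ≠ 0) : Wc j w a ∈ Nrm (X0 D) := by
  have := X0_finite D
  refine conj_onto fun x hx => ?_
  obtain ⟨hxU, v, Z, ok, e, hv, hZ⟩ := id hx
  have hin : ∀ i, (((swp a 0 : SLm)⁻¹).1 0 i ≠ 0 → i = a) := (swp_keep a).inv_row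
  have ht : j (swp a 0)⁻¹ * x * (j (swp a 0)⁻¹)⁻¹ ∈ Ut D := by
    refine part_conj (h := shp_corner (k + 2)) (h' := shp_tail (k + 2)) (swp a 0)⁻¹ (fun p i h hi hp => ha ?_)
      (fun p q i l hp hq h => ⟨?_, ?_⟩) hx
    · subst hp; subst hi; exact (hin _ h).symm
    · intro e'; subst e'; exact ha ((hin _ hp).symm.trans h.1)
    · intro e'; subst e'; exact ha ((hin _ hq).symm.trans h.2)
  have hU : Wc j w a * x * (Wc j w a)⁻¹ ∈ U := by
    have := D.norm (swp a 0) _ (part_le (E.wU _ ht))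
    rw [map_inv] at this
    convert this using 1
    rw [Wc]
    group
  have hva : Pd hF {a} * v = 0 := by
    ext p i
    rcases eq_or_ne p a with rfl | hp <;> simp [Pd, Matrix.diagonal_mul, *]
  have hZa : Pd hF {a} * Z = 0 := by
    ext p i
    rcases eq_or_ne p a with rfl | hp <;> simp [Pd, Matrix.diagonal_mul, *]
  have hZa' : Z * Pd hF {a} = 0 := by
    ext p i
    rcases eq_or_ne i a with rfl | hp <;> simp [Pd, Matrix.mul_diagonal, *]
  obtain ⟨ok', e'⟩ := wH_uH hF hW (b := a) ok hva hZa hZa'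
  refine part_mem hU ok' (by rw [map_mul, map_mul, map_inv, E.πW, e, e']) ⟨fun p i hp => ?_, hZ⟩
  rw [Matrix.smul_apply, hv p i hp, smul_zero]

theorem Eng.J1_X0 (E : Eng D hW w) : J1 j w ∈ Nrm (X0 D) := by
  refine list_prod_mem fun g hg => ?_
  obtain ⟨i, -, rfl⟩ := List.mem_map.1 hg
  exact E.W_X0 (Fin.succ_ne_zero i)

/-- The part normalising the pieces around the first coordinate. -/
def pre (D : UData hF π j U) (w : G) : Subgroup G :=
  Nrm (Qs D) ⊓ (Nrm (Qs D)).comap (MulAut.conj (Jt j w)⁻¹).toMonoidHom ⊓ Nrm (extL.range.map j)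

theorem mem_pre {g : G} : g ∈ pre D w ↔ g ∈ Nrm (Qs D) ∧ (Jt j w)⁻¹ * g * Jt j w ∈ Nrm (Qs D) ∧
    g ∈ Nrm (extL.range.map j) := by
  simp [pre, and_assoc]

theorem Eng.w_pre (E : Eng D hW w) : w ∈ pre D w := by
  refine mem_pre.2 ⟨E.w_Qs, ?_, extL_Nrm E.wext⟩
  rw [mul_assoc, E.Jt_w.eq, inv_mul_cancel_left]
  exact E.w_Qs

theorem Blk.tct {d : SLm} (hd : Blk d) : Blk (UnPres.tct hF d) := fun a i h =>
  (hd.inv i a fun e => h (by rw [tct_val, ct_apply, e, map_zero])).symm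

theorem Eng.blk_pre (E : Eng D hW w) {d : SLm} (hd : Blk d) : j d ∈ pre D w := by
  refine mem_pre.2 ⟨blk_Qs D hd, ?_, ?_⟩
  · rw [E.Jt_j']
    exact blk_Qs D hd.tct
  · constructor
    · rintro _ ⟨_, ⟨N, rfl⟩, rfl⟩
      obtain ⟨N', e⟩ := hd.extL_conj N
      exact ⟨extL N', ⟨N', rfl⟩, by rw [← e, map_mul, map_mul, map_inv]⟩
    · rintro _ ⟨_, ⟨N, rfl⟩, rfl⟩
      obtain ⟨N', e⟩ := hd.inv.extL_conj N
      exact ⟨extL N', ⟨N', rfl⟩, by rw [← e, inv_inv, map_mul, map_mul, map_inv]⟩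

theorem Eng.X0_pre (E : Eng D hW w) {x : G} (hx : x ∈ X0 D) : x ∈ pre D w := by
  refine mem_pre.2 ⟨X0_Qs D hx, ?_, extL_Nrm (X0_extL D hx)⟩
  have e : (Jt j w)⁻¹ * x * Jt j w = w⁻¹ * ((J1 j w)⁻¹ * x * J1 j w) * w := by
    have h := E.J1_w.eq
    rw [Jt]
    conv_lhs => rw [h, _root_.mul_inv_rev]
    group
  rw [e]
  exact mul_mem (mul_mem (inv_mem E.w_Qs) (X0_Qs D (E.J1_X0.2 _ hx))) E.w_Qs

/-- The torus of the first coordinate. -/
def tor (D : UData hF π j U) (w : G) : Subgroup G where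
  carrier := {g | g ∈ pre D w ∧ TorusAt hF (π g)}
  one_mem' := ⟨one_mem _, by rw [map_one]; exact TorusAt.one hF⟩
  mul_mem' ha hb := ⟨mul_mem ha.1 hb.1, by rw [map_mul]; exact TorusAt.mul hF ha.2 hb.2⟩
  inv_mem' ha := ⟨inv_mem ha.1, by rw [map_inv]; exact TorusAt.inv hF ha.2⟩

theorem col_keep {g : G} (hg : g ∈ Nrm (Qs D)) (ht : TorusAt hF (π g)) {c : SLm} (hc : c ∈ colS) :
    g * j c * g⁻¹ ∈ colJ j := by
  obtain ⟨u, hu, c', hc', e⟩ := hg.1 _ (col_Qs D hc)
  obtain ⟨A, hA⟩ := ht.lev_conj hF c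
  obtain ⟨huU, v, Z, ok, eu, -⟩ := hu
  have h := congrArg π e
  rw [map_mul, map_mul, map_mul, map_inv, D.πj, D.πj, eu, hA] at h
  obtain ⟨-, h1⟩ := lev_eq_uH ok (A := A * c'⁻¹) (by rw [map_mul, map_inv, h, mul_inv_cancel_right])
  rw [e, D.inj u huU (eu.trans h1), one_mul]
  exact mem_colJ.2 ⟨c', hc', rfl⟩

theorem U1_keep {g : G} (hg : g ∈ Nrm (Qs D)) (ht : TorusAt hF (π g)) {u : G} (hu : u ∈ U1 D) :
    g * u * g⁻¹ ∈ U1 D := by
  obtain ⟨u', hu', c', hc', e⟩ := hg.1 _ (U1_Qs D hu)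
  obtain ⟨huU, v, Z, ok, eu, -⟩ := hu
  obtain ⟨l, y, -, hl⟩ := ht.uH_conj hF
  obtain ⟨ok2, e2⟩ := hl v Z ok
  obtain ⟨hu'U, v', Z', ok', eu', hs'⟩ := hu'
  have h := congrArg π e
  rw [map_mul, map_mul, map_mul, map_inv, D.πj, eu, e2, eu'] at h
  obtain ⟨h1, -⟩ := lev_eq_uH ((ok'.inv hF).mul hF ok2) (A := c')
    (by rw [← uH_mul hF (ok'.inv hF) ok2, h, ← uH_inv hF ok', inv_mul_cancel_left])
  rw [e, h1, map_one, mul_one]
  exact ⟨hu'U, v', Z', ok', eu', hs'⟩

theorem Eng.range_keep (E : Eng D hW w) {g : G} (hg : g ∈ tor D w) (A : SLm) :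
    g * j A * g⁻¹ ∈ j.range := by
  classical
  obtain ⟨hp, ht⟩ := hg
  obtain ⟨h1, h2, h3⟩ := mem_pre.1 hp
  suffices H : (⊤ : Subgroup SLm) ≤ j.range.comap ((MulAut.conj g).toMonoidHom.comp j) from
    H (Subgroup.mem_top A)
  rw [← Cfsg.Agent.Classical.SL_closure_transvections, Subgroup.closure_le]
  rintro _ ⟨⟨a, b, hab, t⟩, rfl⟩
  show g * j (Matrix.SpecialLinearGroup.transvection hab t) * g⁻¹ ∈ j.range
  cases b using Fin.cases with
  | zero =>
    have hc : (Matrix.SpecialLinearGroup.transvection hab t : SLm) ∈ colS := mem_colS.2 fun i l h => by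
      show Matrix.transvection a 0 t i l = _
      rcases h with rfl | h <;> simp [Matrix.transvection, Matrix.single_apply, *]
      intro _ e
      exact absurd e.symm h
    obtain ⟨c', -, e⟩ := mem_colJ.1 (col_keep h1 ht hc)
    exact ⟨c', e.symm⟩
  | succ b =>
    cases a using Fin.cases with
    | zero =>
      have hc : tct hF (Matrix.SpecialLinearGroup.transvection hab t : SLm) ∈ colS := by
        have e : (tct hF (Matrix.SpecialLinearGroup.transvection hab t : SLm)).1 =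
            1 + Matrix.single b.succ 0 (-qFrob hF t) := by
          rw [tct_val, sval_inv_of (R := Matrix.single 0 b.succ t) rfl (by simp [hab.symm]), sub_eq_add_neg,
            ct_add, ct_one, ct_neg]
          congr 1
          ext i l
          simp [ct_apply, Matrix.single_apply, apply_ite (qFrob hF), and_comm]
          split_ifs <;> simp
        refine mem_colS.2 fun i l h => ?_
        rw [e, Matrix.add_apply, add_eq_left, Matrix.single_apply, if_neg]
        rintro ⟨rfl, rfl⟩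
        exact h.elim (Fin.succ_ne_zero b) fun h => h rfl
      have ht' : TorusAt hF (π ((Jt j w)⁻¹ * g * Jt j w)) := by
        rw [map_mul, map_mul, map_inv]
        exact ht.turn hF hW E.πJ
      obtain ⟨c', -, e⟩ := mem_colJ.1 (col_keep h2 ht' hc)
      refine ⟨tct hF c', ?_⟩
      rw [← E.Jt_j, ← e, ← E.Jt_j']
      group
    | succ a =>
      have hab' : a ≠ b := fun e => hab (congrArg Fin.succ e)
      have e : (Matrix.SpecialLinearGroup.transvection hab t : SLm) =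
          extL (Matrix.SpecialLinearGroup.transvection hab' t) := (extL_transvection hab' t).symm
      obtain ⟨A', ⟨N, hN⟩, e'⟩ := h3.1 _ (Subgroup.mem_map_of_mem j (MonoidHom.mem_range.2 ⟨_, e.symm⟩))
      exact ⟨A', e'⟩

theorem U_keep {g : G} (hQ : g ∈ Nrm (Qs D)) (ht : TorusAt hF (π g)) (hr : ∀ A, g * j A * g⁻¹ ∈ j.range)
    {u : G} (hu : u ∈ U) : g * u * g⁻¹ ∈ U := by
  obtain ⟨x, hx, u1, hu1, rfl⟩ := U_split D hu
  have h1 : g * u1 * g⁻¹ ∈ U := part_le (U1_keep hQ ht hu1)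
  have h10 : (1 : Fin (k + 2)) ≠ 0 := one_ne_zero
  have hs : j (swp 1 0) * x * (j (swp 1 0))⁻¹ ∈ U1 D := by
    have hz : (swp (1 : Fin (k + 2)) 0 : SLm).1 0 0 = 0 := by
      have := congrFun (swp_keep (1 : Fin (k + 2)) (F := F)).1 0
      simpa [h10.symm] using this
    refine part_conj (h := shp_corner (k + 2)) _ (fun a i h hi ha => ?_) (fun a b i l ha hb h hab => ?_) hx
    · subst ha; subst hi; exact h hz
    · obtain ⟨rfl, rfl⟩ := hab; obtain ⟨rfl, rfl⟩ := h; exact ha hz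
  have hs' := part_le (U1_keep hQ ht hs)
  obtain ⟨B, hB⟩ := hr (swp 1 0)
  have hx' : g * x * g⁻¹ ∈ U := by
    have := D.norm B⁻¹ _ hs'
    rw [map_inv, inv_inv, hB] at this
    convert this using 1
    group
  rw [show g * (x * u1) * g⁻¹ = g * x * g⁻¹ * (g * u1 * g⁻¹) by group]
  exact mul_mem hx' h1

theorem X0_keep {g : G} (hQ : g ∈ Nrm (Qs D)) (ht : TorusAt hF (π g)) (hr : ∀ A, g * j A * g⁻¹ ∈ j.range)
    {x : G} (hx : x ∈ X0 D) : g * x * g⁻¹ ∈ X0 D := by
  obtain ⟨hxU, v, Z, ok, e, hv, hZ⟩ := hx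
  obtain ⟨l, y, -, hl⟩ := ht.uH_conj hF
  obtain ⟨ok2, e2⟩ := hl v Z ok
  refine part_mem (U_keep hQ ht hr hxU) ok2 (by rw [map_mul, map_mul, map_inv, e, e2])
    ⟨fun a i ha => ?_, fun a b hab => ?_⟩
  · simp [tD, Matrix.diagonal_mul, hv a i ha]
  · simp [tD, Matrix.diagonal_mul, Matrix.mul_diagonal, hZ a b hab]

/-- The opposite radical. -/
def Um (j : SLm →* G) (U : Subgroup G) (w : G) : Subgroup G :=
  U.map (MulAut.conj (Jt j w)).toMonoidHom

theorem mem_Um {g : G} : g ∈ Um j U w ↔ ∃ u ∈ U, g = Jt j w * u * (Jt j w)⁻¹ :=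
  ⟨fun ⟨u, hu, e⟩ => ⟨u, hu, e.symm⟩, fun ⟨u, hu, e⟩ => ⟨u, hu, e.symm⟩⟩

theorem Eng.tor_range (E : Eng D hW w) : tor D w ≤ Nrm j.range := fun g hg => by
  refine ⟨?_, ?_⟩
  · rintro _ ⟨A, rfl⟩; exact E.range_keep hg A
  · rintro _ ⟨A, rfl⟩; simpa only [inv_inv] using E.range_keep (inv_mem hg) A

theorem Eng.tor_U (E : Eng D hW w) : tor D w ≤ Nrm U := by
  have key : ∀ {g : G}, g ∈ tor D w → ∀ u ∈ U, g * u * g⁻¹ ∈ U := fun hg u hu =>
    U_keep (mem_pre.1 hg.1).1 hg.2 (E.range_keep hg) hu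
  exact fun g hg => ⟨key hg, fun u hu => by simpa only [inv_inv] using key (inv_mem hg) u hu⟩

theorem Eng.tor_X0 (E : Eng D hW w) : tor D w ≤ Nrm (X0 D) := by
  have key : ∀ {g : G}, g ∈ tor D w → ∀ x ∈ X0 D, g * x * g⁻¹ ∈ X0 D := fun hg x hx =>
    X0_keep (mem_pre.1 hg.1).1 hg.2 (E.range_keep hg) hx
  exact fun g hg => ⟨key hg, fun u hu => by simpa only [inv_inv] using key (inv_mem hg) u hu⟩

theorem Eng.tor_Um (E : Eng D hW w) : tor D w ≤ Nrm (Um j U w) := by
  have key : ∀ {g : G}, g ∈ tor D w → ∀ v ∈ Um j U w, g * v * g⁻¹ ∈ Um j U w := by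
    intro g hg v hv
    obtain ⟨u, hu, rfl⟩ := mem_Um.1 hv
    refine mem_Um.2 ⟨(Jt j w)⁻¹ * g * Jt j w * u * ((Jt j w)⁻¹ * g * Jt j w)⁻¹, ?_, by group⟩
    refine U_keep (mem_pre.1 hg.1).2.1 ?_ (fun A => ?_) hu
    · rw [map_mul, map_mul, map_inv]; exact hg.2.turn hF hW E.πJ
    · obtain ⟨B, hB⟩ := E.range_keep hg (tct hF A)
      refine ⟨tct hF B, ?_⟩
      rw [← E.Jt_j', hB, ← E.Jt_j]
      group
  exact fun g hg => ⟨key hg, fun u hu => by simpa only [inv_inv] using key (inv_mem hg) u hu⟩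

end Cfsg.Agent.Lie.UnPres
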