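import Cfsg.Agent.Lib.Lie.UnitRegPlane

/-! Three conjugates of a regular unipotent element generate `SU_n(q)`, `n` odd, `q ≥ 3`. -/

set_option autoImplicit false
set_option linter.unusedSectionVars false
set_option linter.style.haveILetI false
set_option linter.unusedVariables false

namespace Cfsg.Agent.Lie.SUGen

open Matrix Module Cfsg.Agent.Classical Cfsg.Agent.Classical.PSUAut Cfsg.Agent.Fus.UnitN

variable {F : Type*} [Field F] [Fintype F] {q n : ℕ}

local notation "V" => (Fin n → F)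
local notation "SUn" => SU n F q
local notation "h" => hermForm n F q

variable {u : SU n F q} {f : Fin n → F} (hF : Fintype.card F = q ^ 2)

local notation "cj" => qFrob hF

include hF

theorem char_two_q (h2 : (2 : F) = 0) : Even q := by
  haveI : CharP F 2 := CharTwo.of_one_ne_zero_of_two_eq_zero one_ne_zero h2
  obtain ⟨k, hp, hk⟩ := FiniteField.card F 2
  rw [even_iff_two_dvd]
  exact Nat.prime_two.dvd_of_dvd_pow (n := 2) (by rw [← hF, hk]; exact dvd_pow_self 2 k.ne_zero)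

theorem odd_q (h2 : (2 : F) ≠ 0) : Odd q := by
  obtain ⟨p, hchar⟩ := CharP.exists F
  obtain ⟨k, hp, hk⟩ := FiniteField.card F p
  rw [← Nat.not_even_iff_odd, even_iff_two_dvd]
  intro hd
  have h3 : 2 ∣ p ^ (k : ℕ) := by rw [← hk, hF]; exact dvd_pow hd two_ne_zero
  have hp2 : 2 = p := (Nat.prime_dvd_prime_iff_eq Nat.prime_two hp).1 (Nat.prime_two.dvd_of_dvd_pow h3)
  subst hp2
  exact h2 (by exact_mod_cast CharP.cast_eq_zero F 2)

theorem exists_real_sqrt (h2 : (2 : F) = 0) {a : F} (ha : cj a = a) :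
    ∃ b : F, cj b = b ∧ b * b = a := by
  obtain ⟨k, hk⟩ := char_two_q hF h2
  refine ⟨a ^ k, by rw [map_pow, ha], ?_⟩
  rw [← pow_add, ← hk, cj_pow hF, ha]

/-- A skew element whose square generates the fixed elements. -/
theorem exists_skew_root (h2 : (2 : F) ≠ 0) {p : ℕ} [Fact p.Prime] [CharP F p] (hq : 3 ≤ q) :
    ∃ s : F, s ≠ 0 ∧ s + cj s = 0 ∧
      (∀ r : F, r ≠ 0 → cj r = r → ∃ j : ℕ, (s * s) ^ j = r) ∧
      (p = 3 → (s * s) * (s * s) ≠ -1) := by
  obtain ⟨g, hg0, hord, hμr, hgen⟩ := exists_real_prim hF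
  obtain ⟨m, hm⟩ := odd_q hF h2
  set s := g ^ (m + 1) with hs
  have hss : s * s = g ^ (q + 1) := by rw [hs, ← pow_add]; congr 1; omega
  refine ⟨s, pow_ne_zero _ hg0, ?_, fun r hr hrr => by rw [hss]; exact hgen r hr hrr, fun hp3 he => ?_⟩
  · -- `s ^ (q - 1) = -1`
    set z := g ^ ((m + 1) * (2 * m)) with hz
    have hzz : z * z = 1 := by
      have h1 : g ^ (Fintype.card F - 1) = 1 := FiniteField.pow_card_sub_one_eq_one g hg0
      rw [hz, ← pow_add, ← h1]
      congr 1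
      rw [hF, hm]
      have : (2 * m + 1) ^ 2 = ((m + 1) * (2 * m) + (m + 1) * (2 * m)) + 1 := by ring
      omega
    have hz1 : z ≠ 1 := fun e => by
      have h3 := Nat.le_of_dvd (Nat.mul_pos (by omega) (by omega)) (hord _ e)
      rw [hm, show 2 * m + 1 - 1 = 2 * m by omega] at h3
      have h4 : 0 < m := by omega
      nlinarith
    have hcs : cj s = z * s := by
      rw [← cj_pow hF, hs, hz, ← pow_mul, ← pow_add]
      congr 1
      rw [hm]; ring
    rw [hcs, (mul_self_eq_one_iff.1 hzz).resolve_left hz1]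
    ring
  · rw [hss] at he
    have h4 : g ^ ((q + 1) * 4) = 1 := by
      rw [pow_mul, show (g ^ (q + 1)) ^ 4 =
        (g ^ (q + 1) * g ^ (q + 1)) * (g ^ (q + 1) * g ^ (q + 1)) by ring, he]
      ring
    have h5 := Nat.le_of_dvd (by omega) (hord _ h4)
    have hq5 : q ≤ 5 := by
      have h6 : (q + 1) * (q - 1) ≤ (q + 1) * 4 := by rw [mul_comm]; exact h5
      have := Nat.le_of_mul_le_mul_left h6 (by omega)
      omega
    subst hp3
    obtain ⟨k, hp, hk⟩ := FiniteField.card F 3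
    have hdvd : 3 ∣ q := hp.dvd_of_dvd_pow (n := 2) (by rw [← hF, hk]; exact dvd_pow_self 3 k.ne_zero)
    have hq3 : q = 3 := by omega
    subst hq3
    have h8 : g ^ (Fintype.card F - 1) = 1 := FiniteField.pow_card_sub_one_eq_one g hg0
    rw [hF] at h8
    norm_num at h8 he
    have : g ^ 8 = -1 := by rw [show 8 = 4 + 4 from rfl, pow_add]; exact he
    rw [h8] at this
    exact h2 (by linear_combination this)

theorem trace_one (x : V) :
    EE u 1 x + cj (EE u 1 x) + h (nu u *ᵥ x) (nu u *ᵥ x) = 0 := by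
  rw [EE, pow_one, cj_h hF]
  linear_combination nu_trace (u := u) hF x

/-- Odd characteristic, from a vector with suitable norms. -/
theorem RegData.odd_finish (hu : RegData u f) (hq : 3 ≤ q) (h2 : (2 : F) ≠ 0) {x : V}
    (hx : h (fl u f 1) x ≠ 0) (ht : h (nu u *ᵥ x) (nu u *ᵥ x) ≠ 0)
    (hD : h (nu u ^ 2 *ᵥ x) (nu u ^ 2 *ᵥ x) - 4 * h (nu u *ᵥ x) (nu u *ᵥ x) ≠ 0) :
    ThreeGen u := by
  obtain ⟨p, hchar⟩ := CharP.exists F
  haveI : Fact p.Prime := ⟨CharP.char_is_prime F p⟩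
  set t := h (nu u *ᵥ x) (nu u *ᵥ x) with htd
  set N := h (nu u ^ 2 *ᵥ x) (nu u ^ 2 *ᵥ x) with hNd
  have htr : cj t = t := cj_h_self hF _
  have hc2' : cj (2 : F) = 2 := map_ofNat _ 2
  obtain ⟨x₁, hx1E, hx1p, hx1j⟩ := hu.exists_shift_one hF x hx (s := -t / 2 - EE u 1 x) (by
    rw [map_sub, map_div₀, map_neg, htr, hc2']
    linear_combination -trace_one hF x - t * inv_mul_cancel₀ h2)
  obtain ⟨x₂, hx2i, hx2p, hx2j⟩ := hu.exists_isotropic_adjust hF x₁ (hx1p ▸ hx)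
  have hE1 : EE u 1 x₂ = -t / 2 := by rw [hx2j 1 one_pos, hx1E]; ring
  have hE2 : EE u 2 x₂ = EE u 2 x := by rw [hx2j 2 two_pos, hx1j 2 one_lt_two]
  have hcr : cj (-t / 2) = -t / 2 := by rw [map_div₀, map_neg, htr, hc2']
  have hc : h (suVal u *ᵥ x₂) x₂ = -t / 2 := by rw [u_form_one hF, hx2i, hE1, zero_add]
  have hc2 : h (suVal u *ᵥ (suVal u *ᵥ x₂)) x₂ = -t + EE u 2 x := by
    rw [u_form_two hF, hx2i, hE1, hE2]; field_simp; ring
  have hc0 : (-t / 2 : F) ≠ 0 := div_ne_zero (neg_ne_zero.2 ht) h2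
  obtain ⟨s, hs0, hss, hsgen, hsex⟩ := exists_skew_root hF h2 (p := p) hq
  set a := s / (-t / 2) with ha
  have ha' : a + cj a = 0 := cj_div_skew hF hss hcr
  obtain ⟨h₀, hh₀⟩ := hu.exists_one hF ha'
  refine hu.finish hF hq hx2i (by rw [hx2p, hx1p]; exact hx) (hc ▸ hc0) ?_ h₀
    fun g K hg hK hK1 hK2 => ?_
  · rw [hc, hc2, hcr, map_add, map_neg, htr]
    have h3 := hu.norm_two hF x
    rw [← htd, ← hNd] at h3
    refine fun e => mul_ne_zero (mul_ne_zero hc0 hc0) hD ?_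
    linear_combination e - (-t / 2) * (-t / 2) * h3
  · have h1 : TvMem K x₂ a := hg ▸ tvMem_transport hF (hh₀ _ hK1 hK2)
    have hac : a * (-t / 2) = s := div_mul_cancel₀ _ hc0
    refine full_odd hF h2 (p := p) ha' (div_ne_zero hs0 hc0) hx2i ?_ ?_ ?_ ?_ ?_ h1 (h1.conj hF hK)
    · rw [su_pres, hx2i]
    · rw [hc]; exact hc0
    · rw [hc, hcr]
    · rw [hc, hac]; exact hsgen
    · rw [hc, hac]; exact hsex

theorem RegData.odd_case (hu : RegData u f) (hn : Odd n) (hq : 3 ≤ q) (h2 : (2 : F) ≠ 0) :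
    ThreeGen u := by
  have hn3 := hu.three
  have hpair := hu.pairing_ne hF
  obtain ⟨m, hm⟩ := hn
  rcases (show n = 3 ∨ 4 ≤ n by omega) with h3 | h3
  · have ht : h (nu u *ᵥ f) (nu u *ᵥ f) ≠ 0 := by
      have h1 := hu.mid_ne hF (k := 2) (by omega)
      rwa [fl, show n - 2 = 1 by omega, pow_one] at h1
    have hN : h (nu u ^ 2 *ᵥ f) (nu u ^ 2 *ᵥ f) = 0 := by
      refine form_nu_vanish hF 1 _ 2 ?_ one_le_two f
      rw [nu_pow_pow]
      exact hu.pow_eq_zero (by omega) f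
    refine hu.odd_finish hF hq h2 hpair ht ?_
    rw [hN, zero_sub, show (4 : F) = 2 * 2 by norm_num]
    exact neg_ne_zero.2 (mul_ne_zero (mul_ne_zero h2 h2) ht)
  · set N := h (nu u ^ 2 *ᵥ f) (nu u ^ 2 *ᵥ f) with hNd
    obtain ⟨t, htr, ht0, htN⟩ : ∃ t : F, cj t = t ∧ t ≠ 0 ∧ N - 4 * t ≠ 0 := by
      by_cases h1 : N - 4 * 1 = 0
      · refine ⟨-1, by rw [map_neg, map_one], neg_ne_zero.2 one_ne_zero, fun e => ?_⟩
        have : (2 * 2 * 2 : F) = 0 := by linear_combination e - h1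
        exact mul_ne_zero (mul_ne_zero h2 h2) h2 this
      · exact ⟨1, map_one _, one_ne_zero, h1⟩
    set t₀ := h (nu u *ᵥ f) (nu u *ᵥ f) with ht₀
    obtain ⟨x, hx1, hx2, hxp, -⟩ := hu.exists_shift_two hF h3 f hpair (r := t - t₀)
      (by rw [map_sub, htr, cj_h_self hF])
    rw [← ht₀, add_sub_cancel] at hx1
    have hN : h (nu u ^ 2 *ᵥ x) (nu u ^ 2 *ᵥ x) = N := by
      rw [hNd, ← hu.norm_two hF x, ← hu.norm_two hF f, hx1, hx2, ← ht₀, map_sub, map_sub, htr,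
        show cj t₀ = t₀ from cj_h_self hF _]
      ring
    exact hu.odd_finish hF hq h2 (hxp ▸ hpair) (hx1 ▸ ht0) (by rw [hN, hx1]; exact htN)

theorem exists_mu (h2 : (2 : F) = 0) (hq : 3 ≤ q) :
    ∃ μ m : F, cj μ = μ ∧ μ ≠ 0 ∧ μ + 1 ≠ 0 ∧ cj m = m ∧ m ≠ 0 ∧ m * m = μ ∧
      ∀ r : F, r ≠ 0 → cj r = r → ∃ j : ℕ, (μ * μ) ^ j = r := by
  obtain ⟨g, hg0, hord, hμr, hgen⟩ := exists_real_prim hF
  set μ := g ^ (q + 1) with hμ
  have hμ0 : μ ≠ 0 := pow_ne_zero _ hg0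
  obtain ⟨m, hmr, hmm⟩ := exists_real_sqrt hF h2 hμr
  refine ⟨μ, m, hμr, hμ0, fun e => ?_, hmr, fun e => hμ0 (by rw [← hmm, e, mul_zero]), hmm,
    fun r hr hrr => ?_⟩
  · have h1 : μ = 1 := by linear_combination e - h2
    have := Nat.le_of_dvd (by omega) (hord _ h1)
    have h6 : (q + 1) * (q - 1) ≤ (q + 1) * 1 := by rw [mul_comm, mul_one]; exact this
    have := Nat.le_of_mul_le_mul_left h6 (by omega)
    omega
  · obtain ⟨b, hbr, hbb⟩ := exists_real_sqrt hF h2 hrr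
    obtain ⟨j, hj⟩ := hgen b (fun e => hr (by rw [← hbb, e, mul_zero])) hbr
    exact ⟨j, by rw [mul_pow, hj, hbb]⟩

theorem RegData.even_case_large (hu : RegData u f) {m : ℕ} (hm : n = 2 * m + 5) (hq : 3 ≤ q)
    (h2 : (2 : F) = 0) : ThreeGen u := by
  obtain ⟨μ, sμ, hμr, hμ0, hμ1, hsr, hs0, hss, hgen⟩ := exists_mu hF h2 hq
  set ρ := μ / (μ + 1) with hρ
  obtain ⟨a, h₀, ha0, ha, hh₀⟩ := hu.exists_two hF hm h2 (ρ := ρ) (div_ne_zero hμ0 hμ1)
    (by rw [hρ, map_div₀, map_add, map_one, hμr])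
  have hneg : ∀ y : F, -y = y := fun y => by linear_combination (-y) * h2
  have har : cj a = a := (show cj a = -a by linear_combination ha).trans (hneg a)
  set c := (μ + 1) / (a * sμ) with hc
  have hcr : cj c = c := by rw [hc, map_div₀, map_add, map_one, map_mul, hμr, har, hsr]
  have hc0 : c ≠ 0 := div_ne_zero hμ1 (mul_ne_zero ha0 hs0)
  obtain ⟨x₀, hp₀, hN⟩ := hu.exists_norm_two_ne hF (by omega)
  obtain ⟨x₁, hx11, hx12, hp₁, -⟩ := hu.exists_shift_two hF (by omega) x₀ hp₀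
    (r := -h (nu u *ᵥ x₀) (nu u *ᵥ x₀)) (by rw [map_neg, cj_h_self hF])
  rw [add_neg_cancel] at hx11
  have hE1r : cj (EE u 1 x₁) = EE u 1 x₁ := by
    have h1 := trace_one hF (u := u) x₁
    rw [hx11, add_zero] at h1
    exact (show cj (EE u 1 x₁) = -EE u 1 x₁ by linear_combination h1).trans (hneg _)
  obtain ⟨x₂, hx21, hp₂, hx2j⟩ := hu.exists_shift_one hF x₁ (hp₁ ▸ hp₀) (s := c - EE u 1 x₁) (by
    rw [map_sub, hcr, hE1r]; linear_combination (c - EE u 1 x₁) * h2)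
  obtain ⟨x, hxi, hp, hxj⟩ := hu.exists_isotropic_adjust hF x₂ (by rw [hp₂, hp₁]; exact hp₀)
  have hE1 : EE u 1 x = c := by rw [hxj 1 one_pos, hx21, add_sub_cancel]
  have hcx : h (suVal u *ᵥ x) x = c := by rw [u_form_one hF, hxi, hE1, zero_add]
  have hc2 : h (suVal u *ᵥ (suVal u *ᵥ x)) x = EE u 2 x₁ := by
    rw [u_form_two hF, hxi, hxj 2 two_pos, hx2j 2 one_lt_two, h2]; ring
  refine hu.finish hF hq hxi (by rw [hp, hp₂, hp₁]; exact hp₀) (hcx ▸ hc0) ?_ h₀
    fun g K hg hK hK1 hK2 => ?_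
  · rw [hcx, hc2, hcr]
    intro e
    have e' : c * c * (EE u 2 x₁ + cj (EE u 2 x₁)) = 0 := by linear_combination e
    have h3 := hu.norm_two hF x₁
    rw [hx11, mul_zero, add_zero] at h3
    rw [h3] at e'
    have h4 : h (nu u ^ 2 *ᵥ x₁) (nu u ^ 2 *ᵥ x₁) = h (nu u ^ 2 *ᵥ x₀) (nu u ^ 2 *ᵥ x₀) := by
      rw [← hu.norm_two hF x₁, ← hu.norm_two hF x₀, hx11, hx12, sub_neg_eq_add, map_add,
        cj_h_self hF]
      ring
    rw [h4] at e'
    exact mul_ne_zero (mul_ne_zero hc0 hc0) hN e'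
  · obtain ⟨t1, t2⟩ := hh₀ _ hK1 hK2
    have h1 : TvMem K x a := hg ▸ tvMem_transport hF t1
    refine full_even hF h2 hμr hμ0 hμ1 hgen ha ha0 hxi ?_ ?_ ?_ h1
      (hg ▸ tvMem_transport hF t2) (h1.conj hF hK)
    · rw [su_pres, hxi]
    · rw [hcx]; exact hc0
    · rw [hcx, hcr, hc, ← hss]; field_simp

theorem RegData.sq_tv (hu : RegData u f) (hn : n = 3) (h2 : (2 : F) = 0) :
    ∃ a : F, a ≠ 0 ∧ a + cj a = 0 ∧
      ∀ K : Subgroup (SU n F q), u ∈ K → TvMem K (fl u f 1) a := by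
  have hp : h f (fl u f 1) ≠ 0 := fun e => hu.pairing_ne hF (h_comm_zero hF e)
  have happ : ∀ y : V, suVal (u * u) *ᵥ y = y + nu u ^ 2 *ᵥ y := by
    intro y
    rw [mulVec_mul, u_apply y, Matrix.mulVec_add, u_apply, u_apply, pow_two, ← Matrix.mulVec_mulVec]
    have hz : nu u *ᵥ y + nu u *ᵥ y = 0 := by rw [← two_smul F, h2, zero_smul]
    rw [← add_assoc, add_assoc y, hz, add_zero]
  have hcoef : ∀ y : V, nu u ^ 2 *ᵥ y = (h y (fl u f 1) / h f (fl u f 1)) • fl u f 1 := by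
    intro y
    have hy : y ∈ Submodule.span F (Set.range fun i : ℕ => suVal u ^ i *ᵥ f) := by
      rw [hu.orbit_span hF (hu.pairing_ne hF)]; exact Submodule.mem_top
    induction hy using Submodule.span_induction with
    | mem y hy =>
      obtain ⟨i, rfl⟩ := hy
      induction i with
      | zero =>
        simp only [pow_zero, Matrix.one_mulVec, div_self hp, one_smul]
        rw [fl, show n - 1 = 2 by omega]
      | succ i ih =>
        show nu u ^ 2 *ᵥ (suVal u ^ (i + 1) *ᵥ f) =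
          (h (suVal u ^ (i + 1) *ᵥ f) (fl u f 1) / h f (fl u f 1)) • fl u f 1
        have hpow : suVal u ^ (i + 1) *ᵥ f = suVal u *ᵥ (suVal u ^ i *ᵥ f) := by
          rw [pow_succ', Matrix.mulVec_mulVec]
        have e1 : h (suVal u *ᵥ (suVal u ^ i *ᵥ f)) (fl u f 1) = h (suVal u ^ i *ᵥ f) (fl u f 1) := by
          conv_lhs => rw [← hu.e1_fixed, su_pres]
        have e2 : nu u ^ 2 *ᵥ (nu u *ᵥ (suVal u ^ i *ᵥ f)) = 0 := by
          rw [Matrix.mulVec_mulVec, ← pow_succ]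
          exact hu.pow_eq_zero (by omega) _
        rw [hpow, e1, ← ih, u_apply, Matrix.mulVec_add, e2, add_zero]
    | zero => simp [h_zero_left]
    | add a b _ _ iha ihb => rw [Matrix.mulVec_add, iha, ihb, h_add_left, add_div, _root_.add_smul]
    | smul c a _ ih => rw [Matrix.mulVec_smul, ih, h_smul_left, smul_smul, mul_div_assoc]
  refine ⟨1 / h f (fl u f 1), one_div_ne_zero hp, ?_, fun K hK => ⟨u * u, mul_mem hK hK, fun y => by
    rw [happ, hcoef]; congr 2; ring⟩⟩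
  have h1 := su_pres (u * u) f f
  rw [happ, hcoef, div_self hp, one_smul, h_add_left, h_add_right hF, h_add_right hF,
    hu.fl_orth hF (by omega : 1 + 1 ≤ n), add_zero, add_assoc, add_eq_left, ← cj_h hF f (fl u f 1)] at h1
  rw [map_div₀, map_one]
  have hne : cj (h f (fl u f 1)) ≠ 0 := (map_ne_zero (qFrob hF)).2 hp
  field_simp
  linear_combination h1

theorem RegData.even_case_three (hu : RegData u f) (hn : n = 3) (hq : 3 ≤ q) (h2 : (2 : F) = 0) :
    ThreeGen u := by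
  obtain ⟨μ, sμ, hμr, hμ0, hμ1, hsr, hs0, hss, hgen⟩ := exists_mu hF h2 hq
  set ρ := μ / (μ + 1) with hρ
  obtain ⟨a, ha0, ha, hsq⟩ := hu.sq_tv hF hn h2
  have hρa : ρ * a + cj (ρ * a) = 0 := by
    rw [hρ, map_mul, map_div₀, map_add, map_one, hμr]
    linear_combination (μ / (μ + 1)) * ha
  obtain ⟨h₀, hh₀⟩ := hu.exists_one hF hρa
  have hneg : ∀ y : F, -y = y := fun y => by linear_combination (-y) * h2
  have har : cj a = a := (show cj a = -a by linear_combination ha).trans (hneg a)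
  obtain ⟨x, hxi, hp, hxj⟩ := hu.exists_isotropic_adjust hF f (hu.pairing_ne hF)
  set t := h (nu u *ᵥ x) (nu u *ᵥ x) with htd
  have ht : t ≠ 0 := by
    have hN : t = h (nu u *ᵥ f) (nu u *ᵥ f) := by
      have e1 := trace_one hF (u := u) x
      have e2 := trace_one hF (u := u) f
      rw [hxj 1 one_pos] at e1
      linear_combination e1 - e2
    have h1 := hu.mid_ne hF (k := 2) (by omega)
    rw [fl, show n - 2 = 1 by omega, pow_one] at h1
    rwa [hN]
  set c := h (suVal u *ᵥ x) x with hc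
  have hctr : c + cj c = t := by
    rw [hc, u_form_one hF, hxi, zero_add]
    linear_combination trace_one hF (u := u) x - t * h2
  have hc0 : c ≠ 0 := fun e => ht (by rw [← hctr, e, map_zero, add_zero])
  have hc2 : h (suVal u *ᵥ (suVal u *ᵥ x)) x = t := by
    rw [u_form_two hF, hxi, h2, zero_mul, zero_add, zero_add, EE]
    have h1 := su_pres u (nu u *ᵥ x) x
    rw [u_apply, u_apply, h_add_left, h_add_right hF, h_add_right hF] at h1
    have h3 : h (nu u *ᵥ (nu u *ᵥ x)) (nu u *ᵥ x) = 0 := by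
      have h0 : nu u ^ 1 *ᵥ (nu u *ᵥ (nu u *ᵥ x)) = 0 := by
        rw [pow_one, Matrix.mulVec_mulVec, Matrix.mulVec_mulVec, ← pow_two, ← pow_succ]
        exact hu.pow_eq_zero (by omega) x
      have h4 := form_nu_vanish (u := u) hF 1 (nu u *ᵥ (nu u *ᵥ x)) 1 h0 le_rfl x
      rwa [pow_one] at h4
    rw [pow_two, ← Matrix.mulVec_mulVec]
    linear_combination h1 - h3 - t * h2
  obtain ⟨r, hrr, hr⟩ := exists_real_sqrt hF h2 (cj_mul_conj hF c)
  have hr0 : r ≠ 0 := fun e => mul_ne_zero hc0 ((map_ne_zero (qFrob hF)).2 hc0)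
    (by rw [← hr, e, mul_zero])
  set N := (μ + 1) / (a * sμ * r) with hN
  have hN0 : N ≠ 0 := div_ne_zero hμ1 (mul_ne_zero (mul_ne_zero ha0 hs0) hr0)
  obtain ⟨l, hl⟩ := exists_norm hF (a := N)
    (by rw [hN, map_div₀, map_add, map_one, map_mul, map_mul, hμr, har, hsr, hrr])
  have hl0 : l ≠ 0 := fun e => hN0 (by rw [← hl, e, zero_mul])
  set y := l • x with hy
  have hyi : h y y = 0 := by rw [hy, h_smul_left, h_smul_right hF, hxi, mul_zero, mul_zero]
  have hcy : h (suVal u *ᵥ y) y = N * c := by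
    rw [hy, Matrix.mulVec_smul, h_smul_left, h_smul_right hF, ← mul_assoc, hl, hc]
  have hc2y : h (suVal u *ᵥ (suVal u *ᵥ y)) y = N * t := by
    rw [hy, Matrix.mulVec_smul, Matrix.mulVec_smul, h_smul_left, h_smul_right hF, ← mul_assoc, hl,
      hc2]
  have hNr : cj N = N := by rw [← hl, cj_mul_conj hF]
  have htr : cj t = t := cj_h_self hF _
  refine hu.finish hF hq hyi ?_ (hcy ▸ mul_ne_zero hN0 hc0) ?_ h₀ fun g K hg hK hK1 hK2 => ?_
  · rw [hy, h_smul_right hF, hp]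
    exact mul_ne_zero ((map_ne_zero (qFrob hF)).2 hl0) (hu.pairing_ne hF)
  · rw [hcy, hc2y, map_mul, map_mul, hNr, htr]
    intro e
    refine mul_ne_zero (mul_ne_zero (mul_ne_zero hN0 hN0) hN0) (mul_ne_zero (mul_ne_zero ht ht) ht) ?_
    linear_combination e - N ^ 3 * t * (c + cj c + t) * hctr + N ^ 3 * t * c * cj c * h2
  · have h1 : TvMem K y a := hg ▸ tvMem_transport hF (hsq _ hK1)
    refine full_even hF h2 hμr hμ0 hμ1 hgen ha ha0 hyi ?_ ?_ ?_ h1
      (hg ▸ tvMem_transport hF (hh₀ _ hK1 hK2)) (h1.conj hF hK)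
    · rw [su_pres, hyi]
    · rw [hcy]; exact mul_ne_zero hN0 hc0
    · rw [hcy, map_mul, hNr, show N * c * (N * cj c) = N * N * (c * cj c) by ring, ← hr, hN, ← hss]
      field_simp

/-- The case `q ≥ 3`. -/
theorem RegData.big_case (hu : RegData u f) (hn : Odd n) (hq : 3 ≤ q) : ThreeGen u := by
  have hn3 := hu.three
  by_cases h2 : (2 : F) = 0
  · obtain ⟨m, hm⟩ := hn
    rcases (show n = 3 ∨ 5 ≤ n by omega) with h3 | h3
    · exact hu.even_case_three hF h3 hq h2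
    · exact hu.even_case_large hF (m := m - 2) (by omega) hq h2
  · exact hu.odd_case hF hn hq h2

end Cfsg.Agent.Lie.SUGen
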