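import Cfsg.Agent.Lib.Lie.UnitRegUnip
import Cfsg.Agent.Lib.Classical.DicksonGeneration

/-! Transvection groups in a hyperbolic plane of the Hermitian space, and the generation of `SU_n(q)`
by three conjugates of a regular unipotent element for `q ≥ 3`. -/

set_option autoImplicit false
set_option linter.unusedSectionVars false
set_option linter.style.haveILetI false
set_option linter.unusedVariables false

namespace Cfsg.Agent.Lie.SUGen

open Matrix Module Cfsg.Agent.Classical Cfsg.Agent.Classical.PSUAut Cfsg.Agent.Fus.UnitN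

variable {F : Type*} [Field F] [Fintype F] {q n : ℕ}

local notation "V" => (Fin n → F)
local notation "SUn" => SU n F q
local notation "h" => hermForm n F q

variable (hF : Fintype.card F = q ^ 2)

local notation "cj" => qFrob hF

include hF

/-- The fixed field of the involution. -/
def realF : Subfield F :=
  { carrier := {r | qFrob hF r = r}
    mul_mem' := fun {a b} ha hb => by
      simp only [Set.mem_ofPred_eq] at ha hb ⊢; rw [map_mul, ha, hb]
    one_mem' := map_one _
    add_mem' := fun {a b} ha hb => by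
      simp only [Set.mem_ofPred_eq] at ha hb ⊢; rw [map_add, ha, hb]
    zero_mem' := map_zero _
    neg_mem' := fun {a} ha => by simp only [Set.mem_ofPred_eq] at ha ⊢; rw [map_neg, ha]
    inv_mem' := fun a ha => by simp only [Set.mem_ofPred_eq] at ha ⊢; rw [map_inv₀, ha] }

theorem mem_realF {r : F} : r ∈ realF hF ↔ cj r = r := Iff.rfl

theorem exists_prim :
    ∃ g : F, g ≠ 0 ∧ (∀ k : ℕ, g ^ k = 1 → (q - 1) * (q + 1) ∣ k) ∧
      ∀ y : F, y ≠ 0 → ∃ j : ℕ, g ^ j = y := by
  obtain ⟨g, hg⟩ := IsCyclic.exists_generator (α := Fˣ)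
  refine ⟨g, g.ne_zero, fun k hk => ?_, fun y hy => ?_⟩
  · rw [← Units.val_pow_eq_pow_val, Units.val_eq_one] at hk
    have h2 := orderOf_dvd_of_pow_eq_one hk
    rw [orderOf_eq_card_of_forall_mem_zpowers hg, Nat.card_units, Nat.card_eq_fintype_card, hF] at h2
    rwa [show (q - 1) * (q + 1) = q ^ 2 - 1 by
      rw [mul_comm, ← Nat.sq_sub_sq, one_pow]]
  · obtain ⟨j, hj⟩ := mem_powers_iff_mem_zpowers.2 (hg (Units.mk0 y hy))
    exact ⟨j, by
      simp only at hj
      rw [← Units.val_pow_eq_pow_val, hj, Units.val_mk0]⟩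

/-- A generator of the non-zero fixed elements. -/
theorem exists_real_prim :
    ∃ g : F, g ≠ 0 ∧ (∀ k : ℕ, g ^ k = 1 → (q - 1) * (q + 1) ∣ k) ∧
      cj (g ^ (q + 1)) = g ^ (q + 1) ∧
      ∀ r : F, r ≠ 0 → cj r = r → ∃ j : ℕ, (g ^ (q + 1)) ^ j = r := by
  obtain ⟨g, hg0, hord, hgen⟩ := exists_prim hF
  have hq := two_le_q hF
  refine ⟨g, hg0, hord, ?_, fun r hr hrr => ?_⟩
  · rw [pow_succ g q, cj_pow hF g, map_mul, cj_cj hF, mul_comm]
  · obtain ⟨j, rfl⟩ := hgen r hr
    rw [← cj_pow hF, ← pow_mul] at hrr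
    have h1 : g ^ (j * (q - 1)) = 1 := by
      have : g ^ (j * (q - 1)) * g ^ j = 1 * g ^ j := by
        rw [one_mul, ← pow_add, show j * (q - 1) + j = j * q by
          rw [← Nat.mul_succ, show (q - 1).succ = q by omega], hrr]
      exact mul_right_cancel₀ (pow_ne_zero _ hg0) this
    obtain ⟨t, ht⟩ := hord _ h1
    refine ⟨t, ?_⟩
    rw [← pow_mul]
    congr 1
    have : (q - 1) * j = (q - 1) * ((q + 1) * t) := by rw [mul_comm, ht, mul_assoc]
    exact (Nat.eq_of_mul_eq_mul_left (by omega) this).symm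

variable {K : Subgroup (SU n F q)} {x v : Fin n → F}

/-- Even characteristic: two parameters at one centre and one at the other. -/
theorem full_even (h2 : (2 : F) = 0) {a μ : F} (hμ : cj μ = μ) (hμ0 : μ ≠ 0) (hμ1 : μ + 1 ≠ 0)
    (hgen : ∀ r : F, r ≠ 0 → cj r = r → ∃ j : ℕ, (μ * μ) ^ j = r)
    (ha : a + cj a = 0) (ha0 : a ≠ 0) (hxx : h x x = 0) (hvv : h v v = 0) (hc0 : h v x ≠ 0)
    (hrel : a * a * (h v x * cj (h v x)) * μ = (μ + 1) * (μ + 1))
    (h1 : TvMem K x a) (h1' : TvMem K x (μ / (μ + 1) * a)) (hva : TvMem K v a) : Full K x := by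
  set c := h v x with hc
  set ρ := μ / (μ + 1) with hρ
  have hρμ : ρ * (μ + 1) = μ := div_mul_cancel₀ _ hμ1
  set w := v + (ρ * a * c) • x with hw
  obtain ⟨s, hs, hsx⟩ := h1'
  have hsv : suVal s *ᵥ v = w := hsx v
  have hTw : TvMem K w a := hsv ▸ hva.conj hF hs
  have hww : h w w = 0 := by rw [← hsv, su_pres, hvv]
  obtain ⟨A₁, hA₁, hA₁x⟩ := h1
  obtain ⟨A₂, hA₂, hA₂x⟩ := hva
  have hxv : h x v = cj c := (cj_h hF v x).symm
  have hA : suVal (A₁ * A₂) *ᵥ w = μ • w := by
    have e2 : suVal A₂ *ᵥ w = μ • v + (ρ * a * c) • x := by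
      rw [hA₂x, hw, h_add_left, h_smul_left, hvv, hxv, zero_add]
      have : 1 + a * (ρ * a * c * cj c) = μ := by
        apply mul_right_cancel₀ (mul_ne_zero hμ0 hμ1)
        linear_combination (μ + 1) * ρ * hrel + (μ + 1) * (μ + 1) * hρμ + μ * (μ + 1) * h2
      match_scalars
      · linear_combination this
      · ring
    rw [mulVec_mul, e2, hA₁x, h_add_left, h_smul_left, h_smul_left, hxx, ← hc, mul_zero, add_zero,
      hw]
    match_scalars
    · ring
    · linear_combination a * c * (-hρμ) + a * c * ρ * h2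
  have hpow : ∀ j : ℕ, TvMem K w ((μ * μ) ^ j * a) := by
    intro j
    induction j with
    | zero => rw [pow_zero, one_mul]; exact hTw
    | succ j ih =>
      have h3 := ih.conj hF (mul_mem hA₁ hA₂)
      rw [hA] at h3
      have h4 := h3.of_smul hF
      rwa [hμ, ← mul_assoc, ← pow_succ'] at h4
  have hfw : Full K w := by
    intro c' hc'
    rw [skew_iff hF] at hc'
    rcases eq_or_ne c' 0 with rfl | h0
    · exact tvMem_zero hF w
    obtain ⟨j, hj⟩ := hgen (c' / a) (div_ne_zero h0 ha0) (by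
      rw [map_div₀, show cj c' = -c' by linear_combination hc',
        show cj a = -a by linear_combination ha, neg_div_neg_eq])
    have := hpow j
    rwa [hj, div_mul_cancel₀ _ ha0] at this
  set w' := w + (a * h w x) • x with hw'
  have hfw' : Full K w' := hfw.move hF ⟨A₁, hA₁, hA₁x⟩
  have hwx : h w x = c := by rw [hw, h_add_left, h_smul_left, hxx, mul_zero, add_zero]
  have hww' : h w' w' = 0 := by
    rw [hw', ← hA₁x, su_pres, hww]
  have hac : a * c ≠ 0 := mul_ne_zero ha0 hc0
  have hne : h w' w ≠ 0 := by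
    rw [hw', h_add_left, h_smul_left, hww, zero_add, hwx, ← cj_h hF w x, hwx]
    exact mul_ne_zero hac ((map_ne_zero (qFrob hF)).2 hc0)
  have hx : (a * c)⁻¹ • w' + (-(a * c)⁻¹) • w = x := by
    rw [hw', hwx, smul_add, smul_smul, inv_mul_cancel₀ hac]; module
  rw [← hx]
  exact hfw'.comb hF hfw hww' hww hne (by rw [hx, hxx])

/-- Odd characteristic: Dickson's theorem. -/
theorem full_odd {p : ℕ} [Fact p.Prime] [CharP F p] (h2 : (2 : F) ≠ 0) {a : F} (ha : a + cj a = 0)
    (ha0 : a ≠ 0) (hxx : h x x = 0) (hvv : h v v = 0) (hc0 : h v x ≠ 0)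
    (hcr : cj (h v x) = h v x)
    (hgen : ∀ r : F, r ≠ 0 → cj r = r →
      ∃ j : ℕ, (a * h v x * (a * h v x)) ^ j = r)
    (hex : p = 3 → (a * h v x * (a * h v x)) * (a * h v x * (a * h v x)) ≠ -1)
    (h1 : TvMem K x a) (hva : TvMem K v a) : Full K x := by
  classical
  set c := h v x with hc
  have hca : cj a = -a := by linear_combination ha
  set lam := a * c * (a * c) with hlam
  have hlam_r : cj lam = lam := by rw [hlam, map_mul, map_mul, hca, hcr]; ring
  set L : realF hF := ⟨lam, hlam_r⟩ with hL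
  letI : Fintype (realF hF) := Fintype.ofFinite _
  haveI : CharP (realF hF) p := RingHom.charP (realF hF).subtype Subtype.val_injective p
  have h2' : (2 : realF hF) ≠ 0 := fun e => h2 (by
    rw [← map_ofNat (realF hF).subtype 2, e, map_zero])
  have hL0 : L ≠ 0 := fun e => mul_ne_zero (mul_ne_zero ha0 hc0) (mul_ne_zero ha0 hc0)
    (congrArg Subtype.val e)
  have hLgen : Subfield.closure ({L} : Set (realF hF)) = ⊤ := by
    rw [eq_top_iff]
    rintro ⟨r, hr⟩ -
    rcases eq_or_ne r 0 with rfl | h0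
    · exact Subfield.zero_mem _
    obtain ⟨j, hj⟩ := hgen r h0 hr
    have : (⟨r, hr⟩ : realF hF) = L ^ j := Subtype.ext (by simp [hL, hj])
    rw [this]
    exact pow_mem (Subfield.subset_closure (Set.mem_singleton L)) j
  set S := Subgroup.closure ({Cfsg.Agent.Grp.SL2.low (1 : realF hF), Cfsg.Agent.Grp.SL2.up L} :
    Set (Matrix.SpecialLinearGroup (Fin 2) (realF hF))) with hS
  have hS_top : S = ⊤ := by
    have hmap : S.map Cfsg.Agent.PSL2Spec.proj = ⊤ := by
      rcases Cfsg.Agent.Dickson.Gen.classify (p := p) h2' hL0 hLgen with htop | ⟨hp3, hi, -⟩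
      · exact htop
      · exact absurd (by simpa [hL] using congrArg Subtype.val hi) (hex hp3)
    have hneg : -1 ∈ S := Cfsg.Agent.Dickson.Gen.neg_one_mem h2' (by
      rw [hmap, Subgroup.card_top]
      exact Cfsg.Agent.Dickson.Gen.even_card_psl h2')
    rw [eq_top_iff]
    intro z _
    obtain ⟨z', hz', he⟩ := (hmap.ge (Subgroup.mem_top (Cfsg.Agent.PSL2Spec.proj z)) :
      Cfsg.Agent.PSL2Spec.proj z ∈ S.map Cfsg.Agent.PSL2Spec.proj)
    rcases Cfsg.Agent.Dickson.proj_eq_iff.1 he with e | e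
    · exact e ▸ hz'
    · rw [e, ← neg_one_mul]; exact mul_mem hneg hz'
  set f := (a * c) • v with hf
  have hxv : h x v = c := by rw [← cj_h hF v x, ← hc, hcr]
  let Act : Matrix.SpecialLinearGroup (Fin 2) (realF hF) → Prop := fun M => ∃ g ∈ K,
    suVal g *ᵥ x = (M.1 0 0 : F) • x + (M.1 1 0 : F) • f ∧
    suVal g *ᵥ f = (M.1 0 1 : F) • x + (M.1 1 1 : F) • f ∧
    ∀ z : V, h z x = 0 → h z v = 0 → suVal g *ᵥ z = z
  have hlow : Act (Cfsg.Agent.Grp.SL2.low 1) := by
    obtain ⟨g, hg, hgx⟩ := hva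
    refine ⟨g, hg, ?_, ?_, fun z _ hz => by rw [hgx, hz, mul_zero, zero_smul, add_zero]⟩
    · rw [hgx, hxv]
      simp [Cfsg.Agent.Grp.SL2.low, hf]
    · rw [hgx, hf, h_smul_left, hvv]
      simp [Cfsg.Agent.Grp.SL2.low]
  have hup : Act (Cfsg.Agent.Grp.SL2.up L) := by
    obtain ⟨g, hg, hgx⟩ := h1
    refine ⟨g, hg, ?_, ?_, fun z hz _ => by rw [hgx, hz, mul_zero, zero_smul, add_zero]⟩
    · rw [hgx, hxx]
      simp [Cfsg.Agent.Grp.SL2.up]
    · rw [hgx, hf, h_smul_left, ← hc, add_comm]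
      simp [Cfsg.Agent.Grp.SL2.up, hL]
      rw [show a * (a * c * c) = lam by rw [hlam]; ring]
  have hall : ∀ M ∈ S, Act M := by
    intro M hM
    induction hM using Subgroup.closure_induction with
    | mem M hM => rcases hM with rfl | rfl; exacts [hlow, hup]
    | one =>
      exact ⟨1, one_mem K, by simp [suVal_one'], by simp [suVal_one'],
        fun z _ _ => by rw [suVal_one', Matrix.one_mulVec]⟩
    | mul M N _ _ ihM ihN =>
      obtain ⟨g, hg, g1, g2, g3⟩ := ihM
      obtain ⟨k, hk, k1, k2, k3⟩ := ihN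
      refine ⟨g * k, mul_mem hg hk, ?_, ?_,
        fun z hz hz' => by rw [mulVec_mul, k3 z hz hz', g3 z hz hz']⟩
      · rw [mulVec_mul, k1, Matrix.mulVec_add, Matrix.mulVec_smul, Matrix.mulVec_smul, g1, g2,
          Matrix.SpecialLinearGroup.coe_mul]
        simp only [Matrix.mul_apply, Fin.sum_univ_two, Subfield.coe_add, Subfield.coe_mul]
        module
      · rw [mulVec_mul, k2, Matrix.mulVec_add, Matrix.mulVec_smul, Matrix.mulVec_smul, g1, g2,
          Matrix.SpecialLinearGroup.coe_mul]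
        simp only [Matrix.mul_apply, Fin.sum_univ_two, Subfield.coe_add, Subfield.coe_mul]
        module
    | inv M _ ihM =>
      obtain ⟨g, hg, g1, g2, g3⟩ := ihM
      have hdet : (M.1 0 0 : F) * (M.1 1 1 : F) - (M.1 0 1 : F) * (M.1 1 0 : F) = 1 := by
        have := congrArg Subtype.val M.2
        rwa [Matrix.det_fin_two] at this
      have hinv : ∀ y z : V, suVal g *ᵥ y = z → suVal g⁻¹ *ᵥ z = y := fun y z e => by
        rw [← e, (inv_apply g y).1]
      refine ⟨g⁻¹, inv_mem hg, ?_, ?_, fun z hz hz' => hinv z z (g3 z hz hz')⟩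
      · apply hinv
        rw [Matrix.SpecialLinearGroup.coe_inv, Matrix.adjugate_fin_two, Matrix.mulVec_add,
          Matrix.mulVec_smul, Matrix.mulVec_smul, g1, g2]
        simp
        match_scalars <;>
          first | linear_combination hdet | linear_combination (a * c) * hdet | ring
      · apply hinv
        rw [Matrix.SpecialLinearGroup.coe_inv, Matrix.adjugate_fin_two, Matrix.mulVec_add,
          Matrix.mulVec_smul, Matrix.mulVec_smul, g1, g2]
        simp
        match_scalars <;>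
          first | linear_combination hdet | linear_combination (a * c) * hdet | ring
  intro d hd
  rw [skew_iff hF] at hd
  have hr : cj (d * a * c * c) = d * a * c * c := by
    rw [map_mul, map_mul, map_mul, hca, hcr, show cj d = -d by linear_combination hd]
    ring
  obtain ⟨g, hg, g1, g2, g3⟩ := hall (Cfsg.Agent.Grp.SL2.up ⟨_, hr⟩) (hS_top ▸ Subgroup.mem_top _)
  simp [Cfsg.Agent.Grp.SL2.up] at g1 g2
  refine ⟨g, hg, fun z => ?_⟩
  have hac : a * c ≠ 0 := mul_ne_zero ha0 hc0
  have hgv : suVal g *ᵥ v = v + (d * c) • x := by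
    have e : v = (a * c)⁻¹ • f := by rw [hf, smul_smul, inv_mul_cancel₀ hac, one_smul]
    rw [e, Matrix.mulVec_smul, g2, smul_add, smul_smul, add_comm]
    congr 2
    field_simp
  have hz0 : suVal g *ᵥ (z - (h z v / c) • x - (h z x / c) • v) =
      z - (h z v / c) • x - (h z x / c) • v := g3 _
    (by rw [h_sub_left, h_sub_left, h_smul_left, h_smul_left, hxx, ← hc, div_mul_cancel₀ _ hc0]; ring)
    (by rw [h_sub_left, h_sub_left, h_smul_left, h_smul_left, hvv, hxv, div_mul_cancel₀ _ hc0]; ring)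
  rw [Matrix.mulVec_sub, Matrix.mulVec_sub, Matrix.mulVec_smul, Matrix.mulVec_smul, g1, hgv] at hz0
  rw [sub_sub, sub_eq_iff_eq_add] at hz0
  rw [hz0]
  match_scalars <;> field_simp <;> ring

/-- The conclusion. -/
def ThreeGen (u : SU n F q) : Prop :=
  ∃ g k : SU n F q, Subgroup.closure ({u, g * u * g⁻¹, k * u * k⁻¹} : Set (SU n F q)) = ⊤

variable {u : SU n F q} {f : Fin n → F}

theorem tvMem_transport {g : SUn} {a : F} {e : V}
    (hT : TvMem (K.comap (MulAut.conj g).toMonoidHom) e a) : TvMem K (suVal g *ᵥ e) a := by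
  obtain ⟨s, hs, hsx⟩ := hT
  refine ⟨g * s * g⁻¹, hs, fun z => ?_⟩
  rw [mulVec_mul, mulVec_mul, hsx, Matrix.mulVec_add, Matrix.mulVec_smul, (inv_apply g z).2]
  congr 3
  rw [← su_pres g, (inv_apply g z).2]

/-- Reduction to fullness at one centre. -/
theorem RegData.finish (hu : RegData u f) (hq : 3 ≤ q) (hxx : h x x = 0)
    (hx1 : h (fl u f 1) x ≠ 0) (hb : h (suVal u *ᵥ x) x ≠ 0)
    (hD : h (suVal u *ᵥ x) x * h (suVal u *ᵥ x) x * cj (h (suVal u *ᵥ (suVal u *ᵥ x)) x) +
      cj (h (suVal u *ᵥ x) x) * cj (h (suVal u *ᵥ x) x) * h (suVal u *ᵥ (suVal u *ᵥ x)) x ≠ 0)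
    (h₀ : SU n F q)
    (hfull : ∀ (g : SU n F q) (K : Subgroup (SU n F q)), suVal g *ᵥ fl u f 1 = x → u ∈ K →
      (u ∈ K.comap (MulAut.conj g).toMonoidHom) →
      (h₀ * u * h₀⁻¹ ∈ K.comap (MulAut.conj g).toMonoidHom) → Full K x) : ThreeGen u := by
  have hn := hu.three
  have hx0 : x ≠ 0 := fun e => hx1 (by rw [e, h_zero_right hF])
  obtain ⟨g, hg⟩ := su_transitive hF hn hu.e1_ne (hu.fl_orth hF (by omega)) hx0 hxx
  refine ⟨g, g * h₀, ?_⟩
  set K := Subgroup.closure ({u, g * u * g⁻¹, g * h₀ * u * (g * h₀)⁻¹} : Set SUn)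
  have hu' : u ∈ K := Subgroup.subset_closure (by simp)
  have hfx : Full K x := by
    refine hfull g K hg hu' (Subgroup.subset_closure (by simp)) ?_
    show g * (h₀ * u * h₀⁻¹) * g⁻¹ ∈ K
    rw [show g * (h₀ * u * h₀⁻¹) * g⁻¹ = g * h₀ * u * (g * h₀)⁻¹ by group]
    exact Subgroup.subset_closure (by simp)
  set v := suVal u *ᵥ x with hv
  set w := suVal u *ᵥ v with hw
  have hvv : h v v = 0 := by rw [hv, su_pres, hxx]
  have hww : h w w = 0 := by rw [hw, su_pres, hvv]
  have hfv : Full K v := hfx.conj hF hu'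
  have hfw : Full K w := hfv.conj hF hu'
  have hxv : h x v ≠ 0 := fun e => hb (h_comm_zero hF e)
  have hP := pfull_plane hF hfx hfv hxx hvv hxv
  have hFr := frame_plane hF hxx hvv hxv
  have hd2 := finrank_plane hF hxx hvv hxv
  obtain ⟨a, ha, r, hwe, hr⟩ := frame_split hF hFr w
  have hrr : h r r ≠ 0 := by
    intro hrr
    obtain ⟨α, β, hab⟩ := Submodule.mem_span_pair.1 ha
    have haa : h a a = 0 := by
      have h1 := hww
      rwa [hwe, h_add_left, h_add_right hF, h_add_right hF, hr a ha, h_comm_zero hF (hr a ha), hrr,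
        add_zero, add_zero, add_zero] at h1
    have hwx : h w x = β * h v x := by
      rw [hwe, h_add_left, hr x (Submodule.subset_span (by simp)), ← hab, h_add_left, h_smul_left,
        h_smul_left, hxx, mul_zero, zero_add, add_zero]
    have hwv : h w v = α * h x v := by
      rw [hwe, h_add_left, hr v (Submodule.subset_span (by simp)), ← hab, h_add_left, h_smul_left,
        h_smul_left, hvv, mul_zero, add_zero, add_zero]
    have hxv' : h v x = α * h x v := by
      rw [← hwv]; exact (su_pres u v x).symm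
    apply hD
    rw [hwx, map_mul, cj_h hF]
    rw [← hab] at haa
    simp only [h_add_left, h_add_right hF, h_smul_left, h_smul_right hF, hxx, hvv] at haa
    have hcv : h x v = cj α * h v x := by
      rw [← cj_h hF v x]
      conv_lhs => rw [hxv', map_mul, cj_h hF]
    linear_combination (h x v * h v x) * haa + (h v x * h x v * cj β) * hxv' +
      (h v x * h x v * β) * hcv
  have hP' := pfull_extend hF hP hFr (Or.inr (Or.inr hq)) hd2 ha hr (hwe ▸ hfw) (hwe ▸ hww) hrr
  have hd3 := finrank_sup hF hr hrr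
  refine eq_top_of_full hF hn (by omega) (x := fun i => suVal u ^ i *ᵥ x) (fun i => ?_) (fun i => ?_)
    (fun i => ?_) (hu.orbit_span hF hx1) hP' (frame_sup hF hFr hr hrr) (by omega) (Or.inr hq) ?_
  · induction i with
    | zero => simpa using hfx
    | succ i ih =>
      show Full K (suVal u ^ (i + 1) *ᵥ x)
      rw [pow_succ', ← Matrix.mulVec_mulVec]
      exact ih.conj hF hu'
  · rw [← suVal_pow, su_pres, hxx]
  · show h (suVal u ^ (i + 1) *ᵥ x) (suVal u ^ i *ᵥ x) ≠ 0
    rw [pow_succ, ← Matrix.mulVec_mulVec, ← suVal_pow, su_pres]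
    exact hb
  · exact Submodule.mem_sup_left (Submodule.subset_span (by simp))

end Cfsg.Agent.Lie.SUGen
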