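import Cfsg.Agent.Lib.Lie.UnitRegPlane

/-! Three conjugates of a regular unipotent element generate `SU_n(2)`, `n ≥ 5` odd: the isotropic
points of a nondegenerate four-space are reached from five centres (a check over `F₄`). -/

set_option autoImplicit false
set_option linter.unusedSectionVars false
set_option linter.style.haveILetI false
set_option linter.unusedVariables false

namespace Cfsg.Agent.Lie.SUGen

open Matrix Module Cfsg.Agent.Classical Cfsg.Agent.Classical.PSUAut Cfsg.Agent.Fus.UnitN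

namespace FourModel

/-- Coordinate vectors over the field with four elements `0, 1, ω, ω + 1`. -/
abbrev Vec : Type := Fin 4 × Fin 4 × Fin 4 × Fin 4

def add4 (a b : Fin 4) : Fin 4 :=
  ![![0, 1, 2, 3], ![1, 0, 3, 2], ![2, 3, 0, 1], ![3, 2, 1, 0]] a b

def mul4 (a b : Fin 4) : Fin 4 :=
  ![![0, 0, 0, 0], ![0, 1, 2, 3], ![0, 2, 3, 1], ![0, 3, 1, 2]] a b

def conj4 (a : Fin 4) : Fin 4 := ![0, 1, 3, 2] a

def get4 (v : Vec) : Fin 4 → Fin 4 := ![v.1, v.2.1, v.2.2.1, v.2.2.2]

def vadd (v w : Vec) : Vec :=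
  (add4 v.1 w.1, add4 v.2.1 w.2.1, add4 v.2.2.1 w.2.2.1, add4 v.2.2.2 w.2.2.2)

def vsmul (a : Fin 4) (v : Vec) : Vec :=
  (mul4 a v.1, mul4 a v.2.1, mul4 a v.2.2.1, mul4 a v.2.2.2)

def sum4 (t : Fin 4 → Fin 4) : Fin 4 := add4 (add4 (add4 (t 0) (t 1)) (t 2)) (t 3)

def form4 (G : Fin 4 → Fin 4 → Fin 4) (v w : Vec) : Fin 4 :=
  sum4 fun i => mul4 (get4 v i) (sum4 fun j => mul4 (conj4 (get4 w j)) (G i j))

def step4 (G : Fin 4 → Fin 4 → Fin 4) (v w : Vec) : Vec := vadd v (vsmul (form4 G v w) w)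

/-- The Gram matrix of the first four orbit vectors, `h(x₁, x₀) = ω`, `h(x₂, x₀) = ω + 1`. -/
def gram4 (c : Fin 4) : Fin 4 → Fin 4 → Fin 4 :=
  ![![0, 3, 2, conj4 c], ![2, 0, 3, 2], ![3, 2, 0, 3], ![c, 3, 2, 0]]

def ginv4 (c : Fin 4) : Fin 4 → Fin 4 → Fin 4 :=
  ![![![0, 0, 0, 0], ![0, 0, 0, 0], ![0, 0, 0, 0], ![0, 0, 0, 0]],
    ![![0, 3, 2, 1], ![2, 0, 3, 2], ![3, 2, 0, 3], ![1, 3, 2, 0]],
    ![![0, 2, 1, 3], ![3, 1, 0, 1], ![1, 0, 1, 2], ![2, 1, 3, 0]],
    ![![0, 1, 3, 2], ![1, 1, 0, 3], ![2, 0, 1, 1], ![3, 2, 1, 0]]] c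

def fifth (c : Fin 4) : Vec :=
  ![(0, 0, 0, 0), (0, 2, 1, 2), (0, 1, 1, 2), (0, 1, 2, 2)] c

def kappa (c : Fin 4) : Fin 4 := ![0, 3, 3, 2] c

def steps (c : Fin 4) : List (ℕ × ℕ) :=
  if c = 1 then
    [(1, 0), (2, 0), (2, 1), (3, 0), (3, 1), (3, 2), (4, 0), (4, 1), (4, 2), (5, 4), (6, 4), (8, 4),
      (9, 4), (10, 4), (11, 1), (11, 2), (11, 5), (11, 6), (11, 9), (11, 10), (12, 6), (12, 8),
      (12, 10), (13, 5), (13, 8), (14, 8), (14, 9), (14, 10), (15, 8), (15, 9), (15, 10), (19, 10),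
      (19, 18), (20, 9), (21, 10), (21, 18), (22, 17), (25, 10), (25, 18), (25, 24)]
  else
    [(1, 0), (2, 0), (2, 1), (3, 0), (3, 1), (3, 2), (4, 0), (4, 1), (4, 3), (5, 3), (5, 4), (6, 3),
      (6, 4), (7, 4), (8, 1), (8, 2), (8, 5), (8, 6), (9, 6), (10, 4), (10, 5), (11, 1), (11, 5),
      (11, 7), (11, 9), (11, 10), (12, 6), (12, 8), (12, 10), (13, 6), (15, 6), (15, 7), (16, 4),
      (16, 12), (16, 15), (17, 8), (17, 9), (21, 17), (21, 18), (22, 15)]

def zero4 : Vec := (0, 0, 0, 0)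

def start (c : Fin 4) : List Vec :=
  [(1, 0, 0, 0), (0, 1, 0, 0), (0, 0, 1, 0), (0, 0, 0, 1), fifth c]

/-- The 45 isotropic points, in the order in which they are reached. -/
def points (c : Fin 4) : List Vec :=
  if c = 1 then [
    (1, 0, 0, 0), (0, 1, 0, 0), (0, 0, 1, 0), (0, 0, 0, 1), (0, 2, 1, 2), (2, 1, 0, 0),
    (3, 0, 1, 0), (0, 2, 1, 0), (1, 0, 0, 1), (0, 3, 0, 1), (0, 0, 2, 1), (2, 2, 1, 2),
    (0, 1, 1, 2), (0, 2, 3, 2), (2, 0, 3, 1), (3, 2, 0, 2), (1, 1, 3, 0), (0, 1, 1, 3),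
    (0, 2, 3, 3), (2, 0, 1, 2), (2, 2, 0, 2), (3, 1, 1, 2), (3, 2, 3, 2), (2, 1, 1, 3),
    (2, 2, 3, 3), (3, 1, 0, 2), (2, 1, 1, 0), (0, 1, 3, 3), (3, 0, 3, 2), (2, 2, 3, 0),
    (1, 0, 3, 2), (2, 3, 3, 0), (2, 0, 2, 2), (2, 2, 0, 3), (3, 1, 0, 3), (3, 2, 3, 0),
    (2, 0, 3, 3), (2, 1, 3, 0), (2, 1, 0, 3), (3, 1, 3, 3), (3, 2, 0, 3), (3, 0, 1, 3),
    (3, 1, 3, 0), (3, 2, 1, 3), (0, 2, 1, 3)]
  else if c = 2 then [
    (1, 0, 0, 0), (0, 1, 0, 0), (0, 0, 1, 0), (0, 0, 0, 1), (0, 1, 1, 2), (2, 1, 0, 0),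
    (3, 0, 1, 0), (0, 2, 1, 0), (2, 0, 0, 1), (0, 3, 0, 1), (0, 0, 2, 1), (2, 1, 1, 2),
    (0, 2, 1, 2), (0, 1, 1, 3), (2, 1, 0, 3), (2, 2, 3, 1), (3, 0, 1, 1), (3, 2, 3, 3),
    (0, 1, 2, 1), (2, 2, 0, 1), (2, 0, 1, 1), (3, 3, 0, 1), (3, 0, 2, 1), (3, 3, 1, 1),
    (0, 1, 3, 3), (3, 2, 2, 1), (2, 3, 1, 2), (3, 2, 1, 2), (2, 2, 3, 2), (2, 3, 1, 1),
    (2, 1, 2, 0), (2, 2, 2, 2), (3, 2, 1, 0), (0, 2, 3, 3), (1, 1, 3, 3), (1, 2, 2, 1),
    (2, 1, 1, 1), (3, 3, 2, 0), (3, 3, 3, 2), (1, 2, 2, 0), (2, 2, 3, 0), (3, 1, 3, 2),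
    (0, 1, 3, 2), (3, 2, 2, 0), (1, 2, 1, 0)]
  else [
    (1, 0, 0, 0), (0, 1, 0, 0), (0, 0, 1, 0), (0, 0, 0, 1), (0, 1, 2, 2), (2, 1, 0, 0),
    (3, 0, 1, 0), (0, 2, 1, 0), (3, 0, 0, 1), (0, 3, 0, 1), (0, 0, 2, 1), (2, 1, 2, 2),
    (0, 3, 2, 2), (0, 1, 2, 1), (2, 1, 0, 1), (2, 3, 3, 3), (3, 0, 1, 2), (3, 2, 2, 3),
    (0, 3, 3, 2), (3, 1, 0, 1), (3, 0, 3, 1), (2, 3, 0, 1), (2, 0, 2, 1), (2, 3, 3, 1),
    (0, 2, 1, 2), (2, 1, 2, 1), (2, 2, 2, 2), (1, 3, 2, 2), (2, 3, 3, 2), (2, 2, 2, 3),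
    (2, 1, 1, 0), (2, 3, 1, 2), (1, 3, 2, 0), (0, 3, 3, 1), (3, 1, 3, 1), (3, 3, 1, 3),
    (2, 1, 2, 3), (3, 1, 3, 0), (3, 1, 2, 1), (2, 2, 3, 0), (1, 2, 2, 0), (3, 3, 2, 1),
    (0, 2, 1, 3), (2, 1, 2, 0), (1, 1, 3, 0)]

theorem points_spec : ∀ c : Fin 4, c ≠ 0 → (points c).take 5 = start c ∧
    (points c).length = 5 + (steps c).length ∧
    ∀ k : Fin 40, ((steps c).getD k.1 (0, 0)).1 < 5 + k.1 ∧ ((steps c).getD k.1 (0, 0)).2 < 5 + k.1 ∧
      (points c).getD (5 + k.1) zero4 =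
        step4 (gram4 c) ((points c).getD ((steps c).getD k.1 (0, 0)).1 zero4)
          ((points c).getD ((steps c).getD k.1 (0, 0)).2 zero4) := by
  decide +kernel

def covered (c : Fin 4) (v : Vec) : Bool :=
  decide (v = zero4) || decide (vsmul 1 v ∈ points c) || decide (vsmul 2 v ∈ points c) ||
    decide (vsmul 3 v ∈ points c)

theorem covered_all : ∀ c : Fin 4, c ≠ 0 → ∀ v : Vec, form4 (gram4 c) v v = 0 →
    covered c v = true := by
  decide +kernel

theorem points_cover {c : Fin 4} (hc : c ≠ 0) {v : Vec} (hv : form4 (gram4 c) v v = 0) :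
    v = zero4 ∨ vsmul 1 v ∈ points c ∨ vsmul 2 v ∈ points c ∨ vsmul 3 v ∈ points c := by
  simpa [covered, or_assoc] using covered_all c hc v hv

theorem ginv_mul : ∀ c : Fin 4, c ≠ 0 → ∀ r k : Fin 4,
    (sum4 fun i => mul4 (ginv4 c r i) (gram4 c i k)) = if r = k then 1 else 0 := by
  decide +kernel

theorem gram_mul : ∀ c : Fin 4, c ≠ 0 → ∀ r k : Fin 4,
    (sum4 fun i => mul4 (gram4 c r i) (ginv4 c i k)) = if r = k then 1 else 0 := by
  decide +kernel

theorem fifth_facts : ∀ c : Fin 4, c ≠ 0 →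
    form4 (gram4 c) (fifth c) (fifth c) = 0 ∧ form4 (gram4 c) (fifth c) (1, 0, 0, 0) = 2 ∧
      form4 (gram4 c) (fifth c) (0, 1, 0, 0) = kappa c ∧ add4 (kappa c) (conj4 (kappa c)) = 1 := by
  decide +kernel

end FourModel

open FourModel

variable {F : Type*} [Field F] [Fintype F] {q n : ℕ}

local notation "V" => (Fin n → F)
local notation "SUn" => SU n F q
local notation "h" => hermForm n F q

/-- The identification of the model field. -/
def phi (ω : F) : Fin 4 → F := ![0, 1, ω, ω + 1]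

/-- The identification of the model space. -/
def vphi (ω : F) (X : Fin 4 → Fin n → F) (v : Vec) : Fin n → F :=
  phi ω v.1 • X 0 + phi ω v.2.1 • X 1 + phi ω v.2.2.1 • X 2 + phi ω v.2.2.2 • X 3

variable (hF : Fintype.card F = q ^ 2)

local notation "cj" => qFrob hF

include hF

/-- The standing data for a generator of the field with four elements. -/
structure IsOmega (ω : F) : Prop where
  two : (2 : F) = 0
  quad : ω * ω + ω + 1 = 0
  conj : qFrob hF ω = ω + 1

theorem trace_one' {u : SU n F q} (x : V) :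
    EE u 1 x + cj (EE u 1 x) + h (nu u *ᵥ x) (nu u *ᵥ x) = 0 := by
  rw [EE, pow_one, cj_h hF]
  linear_combination nu_trace (u := u) hF x

variable {hF} {ω : F} {X : Fin 4 → Fin n → F} {c : Fin 4}

theorem phi_add (W : IsOmega hF ω) (a b : Fin 4) : phi ω (add4 a b) = phi ω a + phi ω b := by
  have h2 := W.two
  fin_cases a <;> fin_cases b <;>
    simp [phi, add4] <;> first
    | ring1
    | linear_combination h2
    | linear_combination ω * h2
    | linear_combination -ω * h2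
    | linear_combination -h2
    | linear_combination (1 + ω) * h2
    | linear_combination -(1 + ω) * h2

theorem phi_mul (W : IsOmega hF ω) (a b : Fin 4) : phi ω (mul4 a b) = phi ω a * phi ω b := by
  have h2 := W.two
  have hq := W.quad
  fin_cases a <;> fin_cases b <;>
    simp [phi, mul4] <;> first
    | linear_combination -hq + (ω + 1) * h2
    | linear_combination hq - (ω + 1) * h2
    | linear_combination hq - h2
    | linear_combination hq - ω * h2
    | linear_combination -hq + h2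
    | linear_combination -hq + ω * h2
    | linear_combination -hq

theorem phi_conj (W : IsOmega hF ω) (a : Fin 4) : phi ω (conj4 a) = cj (phi ω a) := by
  have h2 := W.two
  fin_cases a <;> simp [phi, conj4, W.conj] <;> first
    | linear_combination -h2

theorem phi_surj (W : IsOmega hF ω) (hq : q = 2) (y : F) : ∃ a, phi ω a = y := by
  have hinj : Function.Injective (phi ω) := by
    intro a b hab
    by_contra hne
    have h0 : phi ω (add4 a b) = 0 := by
      rw [phi_add W, hab, ← two_mul, W.two, zero_mul]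
    have h1 : ∀ a b : Fin 4, a ≠ b → add4 a b ≠ 0 := by decide
    have h3 : ∀ d : Fin 4, d ≠ 0 → phi ω d ≠ 0 := by
      intro d hd e
      fin_cases d
      · exact hd rfl
      · simp [phi] at e
      · simp [phi] at e
        exact one_ne_zero (α := F) (by linear_combination W.quad - (ω + 1) * e)
      · simp [phi] at e
        exact one_ne_zero (α := F) (by linear_combination W.quad - ω * e)
    exact h3 _ (h1 a b hne) h0
  exact ((Fintype.bijective_iff_injective_and_card _).2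
    ⟨hinj, by rw [Fintype.card_fin, hF, hq]; norm_num⟩).2 y

theorem vphi_add (W : IsOmega hF ω) (v w : Vec) :
    vphi ω X (vadd v w) = vphi ω X v + vphi ω X w := by
  simp only [vphi, vadd, phi_add W, _root_.add_smul]; abel

theorem vphi_smul (W : IsOmega hF ω) (a : Fin 4) (v : Vec) :
    vphi ω X (vsmul a v) = phi ω a • vphi ω X v := by
  simp only [vphi, vsmul, phi_mul W, smul_add, smul_smul]

theorem vphi_form (W : IsOmega hF ω) {G : Fin 4 → Fin 4 → Fin 4}
    (hG : ∀ i j, h (X i) (X j) = phi ω (G i j)) (v w : Vec) :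
    h (vphi ω X v) (vphi ω X w) = phi ω (form4 G v w) := by
  simp only [vphi, form4, sum4, get4, phi_add W, phi_mul W, phi_conj W, h_add_left, h_add_right hF,
    h_smul_left, h_smul_right hF, hG, Matrix.cons_val_zero, Matrix.cons_val_one, Matrix.cons_val]
  ring

theorem pfull_four (W : IsOmega hF ω) (hq : q = 2) (hc : c ≠ 0) {K : Subgroup (SU n F q)}
    (hG : ∀ i j, h (X i) (X j) = phi ω (gram4 c i j)) (hX : ∀ i, Full K (X i))
    (hd : Full K (vphi ω X (fifth c))) : PFull K (Submodule.span F (Set.range X)) := by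
  obtain ⟨htake, hlen, hstep⟩ := points_spec c hc
  have hstart : ∀ v ∈ start c, Full K (vphi ω X v) := by
    intro v hv
    simp only [start, List.mem_cons, List.not_mem_nil, or_false] at hv
    rcases hv with rfl | rfl | rfl | rfl | rfl
    · simpa [vphi, phi] using hX 0
    · simpa [vphi, phi] using hX 1
    · simpa [vphi, phi] using hX 2
    · simpa [vphi, phi] using hX 3
    · exact hd
  have hlen40 : (steps c).length = 40 := by unfold steps; split <;> rfl
  have hidx : ∀ i, Full K (vphi ω X ((points c).getD i zero4)) := by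
    intro i
    induction i using Nat.strong_induction_on with
    | _ i ih =>
      rcases lt_or_ge i (points c).length with hi | hi
      · rcases lt_or_ge i 5 with h5 | h5
        · rw [List.getD_eq_getElem _ _ hi]
          refine hstart _ ?_
          rw [← htake]
          exact List.mem_take_iff_getElem.2 ⟨i, by omega, rfl⟩
        · obtain ⟨h1, h2, h3⟩ := hstep ⟨i - 5, by omega⟩
          simp only [show 5 + (i - 5) = i by omega] at h1 h2 h3
          rw [h3, step4, vphi_add W, vphi_smul W, ← vphi_form W hG, ← one_mul (h _ _)]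
          refine (ih _ h1).move hF (ih _ h2 1 ?_)
          rw [hq, one_pow, ← two_mul, mul_one]
          exact W.two
      · rw [List.getD_eq_default _ _ hi]
        simp [zero4, vphi, phi, full_zero hF]
  have hpts : ∀ v ∈ points c, Full K (vphi ω X v) := by
    intro v hv
    obtain ⟨i, hi, rfl⟩ := List.mem_iff_getElem.1 hv
    rw [← List.getD_eq_getElem _ zero4 hi]
    exact hidx i
  intro y hy hyy
  obtain ⟨co, hco⟩ := (Submodule.mem_span_range_iff_exists_fun F).1 hy
  choose a ha using fun i => phi_surj W hq (co i)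
  have hyv : y = vphi ω X (a 0, a 1, a 2, a 3) := by
    rw [← hco, Fin.sum_univ_four, vphi, ha, ha, ha, ha]
  set v : Vec := (a 0, a 1, a 2, a 3)
  have hform : form4 (gram4 c) v v = 0 := by
    obtain ⟨d, hd'⟩ : ∃ d, d = form4 (gram4 c) v v := ⟨_, rfl⟩
    rw [hyv, vphi_form W hG, ← hd'] at hyy
    rw [← hd']
    fin_cases d
    · rfl
    · simp [phi] at hyy
    · simp [phi] at hyy
      exact absurd (show (1 : F) = 0 by linear_combination W.quad - (ω + 1) * hyy) one_ne_zero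
    · simp [phi] at hyy
      exact absurd (show (1 : F) = 0 by linear_combination W.quad - ω * hyy) one_ne_zero
  rw [hyv]
  have back : ∀ s t : Fin 4, mul4 t s = 1 → vsmul s v ∈ points c → Full K (vphi ω X v) := by
    intro s t hst hm
    have h1 := (hpts _ hm).smul hF (phi ω t)
    rwa [vphi_smul W, smul_smul, ← phi_mul W, hst, show phi ω 1 = 1 from rfl, one_smul] at h1
  rcases points_cover hc hform with e | e | e | e
  · rw [e]; simp [zero4, vphi, phi, full_zero hF]
  · exact back 1 1 rfl e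
  · exact back 2 3 rfl e
  · exact back 3 2 rfl e

theorem four_frame (W : IsOmega hF ω) (hc : c ≠ 0)
    (hG : ∀ i j, h (X i) (X j) = phi ω (gram4 c i j)) :
    Frame q (Submodule.span F (Set.range X)) ∧ 4 ≤ finrank F (Submodule.span F (Set.range X)) := by
  have hsum : ∀ r k : Fin 4, ∑ i, phi ω (ginv4 c r i) * phi ω (gram4 c i k) =
      if r = k then 1 else 0 := by
    intro r k
    have e := congrArg (phi ω) (ginv_mul c hc r k)
    simp only [sum4, phi_add W, phi_mul W] at e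
    rw [Fin.sum_univ_four, e]
    split_ifs <;> rfl
  have hsum' : ∀ r k : Fin 4, ∑ i, phi ω (gram4 c r i) * phi ω (ginv4 c i k) =
      if r = k then 1 else 0 := by
    intro r k
    have e := congrArg (phi ω) (gram_mul c hc r k)
    simp only [sum4, phi_add W, phi_mul W] at e
    rw [Fin.sum_univ_four, e]
    split_ifs <;> rfl
  let L : V → (V →ₗ[F] F) := fun y =>
    { toFun := fun x => h x y
      map_add' := fun s t => h_add_left s t y
      map_smul' := fun c s => by rw [h_smul_left, RingHom.id_apply, smul_eq_mul] }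
  have hL : ∀ (co : Fin 4 → F) (k : Fin 4),
      h (∑ i, co i • X i) (X k) = ∑ i, co i * phi ω (gram4 c i k) := by
    intro co k
    show L (X k) (∑ i, co i • X i) = _
    rw [map_sum]
    exact Finset.sum_congr rfl fun i _ => by
      rw [map_smul, smul_eq_mul]; exact congrArg (co i * ·) (hG i k)
  refine ⟨fun z => ?_, ?_⟩
  · refine ⟨∑ i, (∑ r, h z (X r) * phi ω (ginv4 c r i)) • X i,
      Submodule.sum_mem _ fun i _ => Submodule.smul_mem _ _ (Submodule.subset_span ⟨i, rfl⟩),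
      fun y hy => ?_⟩
    induction hy using Submodule.span_induction with
    | mem y hy =>
      obtain ⟨k, rfl⟩ := hy
      rw [hL]
      simp only [Finset.sum_mul]
      rw [Finset.sum_comm]
      simp only [mul_assoc, ← Finset.mul_sum, hsum, mul_ite, mul_one, mul_zero]
      simp
    | zero => rw [h_zero_right hF, h_zero_right hF]
    | add a b _ _ iha ihb => rw [h_add_right hF, h_add_right hF, iha, ihb]
    | smul s a _ ih => rw [h_smul_right hF, h_smul_right hF, ih]
  · have hli : LinearIndependent F X := by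
      rw [Fintype.linearIndependent_iff]
      intro co hco k
      have h0 : ∀ j, ∑ i, co i * phi ω (gram4 c i j) = 0 := fun j => by
        rw [← hL, hco, h_zero_left]
      have h1 : ∑ j, (∑ i, co i * phi ω (gram4 c i j)) * phi ω (ginv4 c j k) = 0 := by simp [h0]
      simp only [Finset.sum_mul] at h1
      rw [Finset.sum_comm] at h1
      simp only [mul_assoc, ← Finset.mul_sum, hsum', mul_ite, mul_one, mul_zero] at h1
      simpa using h1
    rw [finrank_span_eq_card hli, Fintype.card_fin]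

/-- An anisotropic vector orthogonal to a proper nondegenerate subspace. -/
theorem exists_aniso_perp {U : Submodule F V} (hU : Frame q U) (hne : U ≠ ⊤) :
    ∃ z : V, (∀ y ∈ U, h z y = 0) ∧ h z z ≠ 0 := by
  obtain ⟨x, -, hx⟩ := SetLike.exists_of_lt (lt_top_iff_ne_top.2 hne)
  obtain ⟨a, ha, r, rfl, hr⟩ := frame_split hF hU x
  have hr0 : r ≠ 0 := fun e => hx (by rw [e, add_zero]; exact ha)
  obtain ⟨y, hy⟩ := exists_h_eq hF hr0 1
  obtain ⟨b, hb, s, rfl, hs⟩ := frame_split hF hU y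
  rw [h_add_right hF, hr b hb, zero_add] at hy
  obtain ⟨i, hi⟩ := exists_nonreal hF
  by_contra hcon
  push Not at hcon
  have f1 := hcon r hr
  have f2 := hcon s hs
  have f3 := hcon (r + (1 : F) • s) fun z hz => by
    rw [h_add_left, h_smul_left, hr z hz, hs z hz, mul_zero, add_zero]
  have f4 := hcon (r + i • s) fun z hz => by
    rw [h_add_left, h_smul_left, hr z hz, hs z hz, mul_zero, add_zero]
  rw [norm_line hF, f1, f2, ← cj_h hF r s, hy, map_one] at f3 f4
  exact hi (by linear_combination f4 - i * f3)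

/-- An element of `SU` matching two triples with equal Gram matrices. -/
theorem exists_su_triple (hn : 4 ≤ n) {A B : Fin 3 → V}
    (hAB : ∀ i j, h (A i) (A j) = h (B i) (B j)) (hA : LinearIndependent F A)
    (hB : LinearIndependent F B) (hFA : Frame q (Submodule.span F (Set.range A))) :
    ∃ g : SUn, ∀ i, suVal g *ᵥ A i = B i := by
  set Xs := Submodule.span F (Set.range A) with hXs
  set bs := Basis.span hA with hbs
  let ψ : Xs →ₗ[F] V := bs.constr F B
  have hψ : ∀ x : Xs, ψ x = ∑ i, bs.repr x i • B i := fun x => bs.constr_apply_fintype F B x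
  have hxA : ∀ x : Xs, (x : V) = ∑ i, bs.repr x i • A i := by
    intro x
    conv_lhs => rw [← bs.sum_repr x, Submodule.coe_sum]
    exact Finset.sum_congr rfl fun i _ => by rw [Submodule.coe_smul, hbs, Basis.span_apply]
  have hinj : Function.Injective ψ := by
    refine (injective_iff_map_eq_zero _).2 fun x hx => bs.repr.injective ?_
    rw [hψ] at hx
    ext i
    simpa using Fintype.linearIndependent_iff.1 hB _ hx i
  obtain ⟨g, hg, hgx⟩ := witt_hermitian (hermB hF n) (qFrob_ne_id hF) (qFrob_qFrob hF)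
    (hermB_isSymm hF n) (hermB_nondegenerate hF n) Xs ψ hinj (fun x y => by
      rw [hψ, hψ, hxA x, hxA y]
      simp only [map_sum, LinearMap.sum_apply, LinearMap.map_smulₛₗ, LinearMap.smul_apply,
        hermB_apply, hAB, RingHom.id_apply])
  have hu : IsUnit (LinearMap.toMatrix' (g : V →ₗ[F] V)).det := by
    rw [← Matrix.isUnit_iff_isUnit_det]
    refine Matrix.mulVec_injective_iff_isUnit.1 fun a b hab => g.injective ?_
    simpa [LinearMap.toMatrix'_mulVec] using hab
  set G := Matrix.GeneralLinearGroup.mk'' _ hu with hGdef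
  have hGU : G ∈ GU n F q := fun x y => by
    show h (LinearMap.toMatrix' (g : V →ₗ[F] V) *ᵥ x) (LinearMap.toMatrix' (g : V →ₗ[F] V) *ᵥ y) =
      h x y
    rw [LinearMap.toMatrix'_mulVec, LinearMap.toMatrix'_mulVec]
    exact hg y x
  have hne : Xs ≠ ⊤ := fun e => by
    have h1 := finrank_span_eq_card hA
    rw [← hXs, e, finrank_top, Module.finrank_pi, Fintype.card_fin, Fintype.card_fin] at h1
    omega
  obtain ⟨z, hz, hzz⟩ := exists_aniso_perp (hF := hF) hFA hne
  set δ := (G : Matrix (Fin n) (Fin n) F).det with hδd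
  have hδ := det_norm_one hF hGU
  obtain ⟨G', hG', hdet, hG'v⟩ := exists_reflection hF hzz (a := δ⁻¹)
    (by rw [map_inv₀, ← mul_inv, hδ, inv_one])
  have hδ0 : δ ≠ 0 := fun h0 => by
    rw [← hδd, h0, zero_mul] at hδ; exact zero_ne_one hδ
  refine ⟨⟨⟨(G : Matrix (Fin n) (Fin n) F) * (G' : Matrix (Fin n) (Fin n) F),
      by rw [Matrix.det_mul, hdet]; exact mul_inv_cancel₀ hδ0⟩, fun x y => ?_⟩, fun i => ?_⟩
  · show h (((G : Matrix (Fin n) (Fin n) F) * (G' : Matrix (Fin n) (Fin n) F)) *ᵥ x)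
      (((G : Matrix (Fin n) (Fin n) F) * (G' : Matrix (Fin n) (Fin n) F)) *ᵥ y) = h x y
    rw [← Matrix.mulVec_mulVec, ← Matrix.mulVec_mulVec]
    exact (hGU _ _).trans (hG' x y)
  · show ((G : Matrix (Fin n) (Fin n) F) * (G' : Matrix (Fin n) (Fin n) F)) *ᵥ A i = B i
    have hzA : h (A i) z = 0 := h_comm_zero hF (hz _ (Submodule.subset_span ⟨i, rfl⟩))
    rw [← Matrix.mulVec_mulVec, hG'v, hzA, mul_zero, zero_div, zero_smul, add_zero]
    show LinearMap.toMatrix' (g : V →ₗ[F] V) *ᵥ A i = B i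
    rw [LinearMap.toMatrix'_mulVec]
    refine (hgx ⟨A i, Submodule.subset_span ⟨i, rfl⟩⟩).trans ?_
    rw [show (⟨A i, Submodule.subset_span ⟨i, rfl⟩⟩ : Xs) = bs i from
      Subtype.ext (by rw [hbs, Basis.span_apply])]
    exact bs.constr_basis F B i

/-- Three isotropic vectors with Gram values `ω, ω, κ`. -/
theorem triple_facts {a b d : V} {w κ : F} (hw : w ≠ 0) (hκ : κ + cj κ ≠ 0)
    (ha : h a a = 0) (hb : h b b = 0) (hd : h d d = 0)
    (hba : h b a = w) (hda : h d a = w) (hdb : h d b = κ) :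
    LinearIndependent F ![a, b, d] ∧ Frame q (Submodule.span F (Set.range ![a, b, d])) := by
  have hab : h a b = cj w := by rw [← cj_h hF b a, hba]
  have had : h a d = cj w := by rw [← cj_h hF d a, hda]
  have hbd : h b d = cj κ := by rw [← cj_h hF d b, hdb]
  have hw' : cj w ≠ 0 := (map_ne_zero (qFrob hF)).2 hw
  refine ⟨?_, ?_⟩
  · rw [Fintype.linearIndependent_iff]
    intro co hco
    simp only [Fin.sum_univ_three, Matrix.cons_val_zero, Matrix.cons_val_one, Matrix.cons_val] at hco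
    have e1 := congrArg (fun y => h y a) hco
    have e2 := congrArg (fun y => h y b) hco
    have e3 := congrArg (fun y => h y d) hco
    simp only [h_add_left, h_smul_left, h_zero_left, ha, hb, hd, hba, hda, hdb, hab, had, hbd,
      mul_zero, add_zero, zero_add] at e1 e2 e3
    have h12 : co 1 = -co 2 := mul_right_cancel₀ hw (by linear_combination e1)
    have h2 : co 2 = 0 := by
      have : co 2 * (κ + cj κ) = 0 := by linear_combination e2 - e3 + cj κ * h12
      exact (mul_eq_zero.1 this).resolve_right hκ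
    have h1 : co 1 = 0 := by rw [h12, h2, neg_zero]
    have h0 : co 0 = 0 := by
      rw [h2, zero_mul, add_zero] at e2
      exact (mul_eq_zero.1 e2).resolve_right hw'
    intro i
    fin_cases i
    exacts [h0, h1, h2]
  · have hab0 : h a b ≠ 0 := hab ▸ hw'
    set p := (h d b / h a b) • a + (h d a / h b a) • b with hp
    set r := d - p with hr
    have hp1 : h p a = h d a := by
      rw [hp, h_add_left, h_smul_left, h_smul_left, ha, mul_zero, zero_add, hba,
        div_mul_cancel₀ _ hw]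
    have hp2 : h p b = h d b := by
      rw [hp, h_add_left, h_smul_left, h_smul_left, hb, mul_zero, add_zero, div_mul_cancel₀ _ hab0]
    have hrU : ∀ y ∈ Submodule.span F {a, b}, h r y = 0 := by
      intro y hy
      obtain ⟨s, t, rfl⟩ := Submodule.mem_span_pair.1 hy
      rw [hr, h_sub_left, h_add_right hF, h_add_right hF, h_smul_right hF, h_smul_right hF,
        h_smul_right hF, h_smul_right hF, hp1, hp2]
      ring
    have hpU : p ∈ Submodule.span F ({a, b} : Set V) :=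
      add_mem (Submodule.smul_mem _ _ (Submodule.subset_span (by simp)))
        (Submodule.smul_mem _ _ (Submodule.subset_span (by simp)))
    have hrr : h r r ≠ 0 := by
      have e1 : h r r = h r d := by
        conv_lhs => rw [hr, h_sub_right hF, ← hr, hrU p hpU, sub_zero]
      have e2 : h p d = κ + cj κ := by
        rw [hp, h_add_left, h_smul_left, h_smul_left, hda, hdb, hba, hab, had, hbd]
        field_simp
      rw [e1, hr, h_sub_left, hd, e2, zero_sub]
      exact neg_ne_zero.2 hκ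
    have hFr := frame_sup hF (frame_plane hF ha hb hab0) hrU hrr
    have heq : Submodule.span F (Set.range ![a, b, d]) = Submodule.span F {a, b} ⊔ F ∙ r := by
      refine le_antisymm (Submodule.span_le.2 ?_) (sup_le (Submodule.span_mono ?_) ?_)
      · rintro _ ⟨i, rfl⟩
        fin_cases i
        · exact Submodule.mem_sup_left (Submodule.subset_span (by simp))
        · exact Submodule.mem_sup_left (Submodule.subset_span (by simp))
        · show d ∈ _
          rw [show d = p + r by rw [hr]; abel]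
          exact Submodule.add_mem_sup hpU (Submodule.mem_span_singleton_self r)
      · intro y hy
        rcases hy with rfl | rfl
        exacts [⟨0, rfl⟩, ⟨1, rfl⟩]
      · rw [Submodule.span_singleton_le_iff_mem, hr]
        refine sub_mem (Submodule.subset_span ⟨2, rfl⟩) (Submodule.span_mono ?_ hpU)
        intro y hy
        rcases hy with rfl | rfl
        exacts [⟨0, rfl⟩, ⟨1, rfl⟩]
    rw [heq]
    exact hFr

variable {u : SU n F q} {f : Fin n → F}

/-- The case `q = 2`. -/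
theorem RegData.two_case (hu : RegData u f) (hq : q = 2) (hn : 5 ≤ n) :
    ThreeGen u := by
  have hn3 := hu.three
  have h2 : (2 : F) = 0 := by
    obtain ⟨p, hchar⟩ := CharP.exists F
    obtain ⟨k, hp, hk⟩ := FiniteField.card F p
    have h2p : p = 2 := by
      have : p ∣ q ^ 2 := by rw [← hF, hk]; exact dvd_pow_self p k.ne_zero
      rw [hq] at this
      exact (Nat.prime_dvd_prime_iff_eq hp Nat.prime_two).1 (hp.dvd_of_dvd_pow this)
    subst h2p
    exact_mod_cast CharP.cast_eq_zero F 2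
  have hneg : ∀ y : F, -y = y := fun y => by linear_combination (-y) * h2
  have hreal : ∀ r : F, cj r = r → r = 0 ∨ r = 1 := by
    intro r hr
    rw [← cj_pow hF, hq] at hr
    have : r * (r - 1) = 0 := by linear_combination hr
    rcases mul_eq_zero.1 this with h0 | h0
    · exact Or.inl h0
    · exact Or.inr (sub_eq_zero.1 h0)
  obtain ⟨x₀, hp₀, hN⟩ := hu.exists_norm_two_ne hF hn
  have hN1 : h (nu u ^ 2 *ᵥ x₀) (nu u ^ 2 *ᵥ x₀) = 1 :=
    (hreal _ (cj_h_self hF _)).resolve_left hN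
  -- adjust the third value
  obtain ⟨x₁, hp₁, hE3, hN1'⟩ : ∃ x₁ : V, h (fl u f 1) x₁ ≠ 0 ∧ EE u 3 x₁ ≠ 1 ∧
      h (nu u ^ 2 *ᵥ x₁) (nu u ^ 2 *ᵥ x₁) = 1 := by
    by_cases he : EE u 3 x₀ = 1
    swap
    · exact ⟨x₀, hp₀, he, hN1⟩
    obtain ⟨z, hz⟩ := exists_trace_eq hF (a := (1 : F)) (map_one _)
    refine ⟨x₀ + (z / h (fl u f 1) x₀) • fl u f (3 + 1),
      by rw [hu.pairing_adjust hF (by omega)]; exact hp₀, ?_, ?_⟩
    · rw [hu.EE_adjust hF (by omega), div_mul_cancel₀ _ hp₀, he]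
      intro e
      exact one_ne_zero (α := F) (by linear_combination e - hz + cj z * h2)
    · have e0 : nu u ^ 2 *ᵥ fl u f (3 + 1) = fl u f 2 := by
        rw [fl, fl, nu_pow_pow, show 2 + (n - (3 + 1)) = n - 2 by omega]
      rw [Matrix.mulVec_add, Matrix.mulVec_smul, e0, norm_line hF, hN1,
        hu.fl_orth hF (by omega : 2 + 2 ≤ n), hu.fl_vanish hF (le_refl 2) x₀,
        h_comm_zero hF (hu.fl_vanish hF (le_refl 2) x₀)]
      ring
  obtain ⟨x₂, hx21, hx22, hp₂, hx2j⟩ := hu.exists_shift_two hF (by omega) x₁ hp₁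
    (r := 1 - h (nu u *ᵥ x₁) (nu u *ᵥ x₁)) (by rw [map_sub, map_one, cj_h_self hF])
  rw [add_sub_cancel] at hx21
  have htr2 : EE u 2 x₂ + cj (EE u 2 x₂) = 1 := by
    rw [hx22, map_sub, map_sub, map_one, cj_h_self hF, ← hN1', ← hu.norm_two hF x₁]
    linear_combination (-EE u 2 x₁ - cj (EE u 2 x₁) - 2 * h (nu u *ᵥ x₁) (nu u *ᵥ x₁)) * h2
  have htr1 : EE u 1 x₂ + cj (EE u 1 x₂) = 1 := by
    have h1 := trace_one' (u := u) hF x₂
    rw [hx21] at h1
    linear_combination h1 - h2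
  obtain ⟨x₃, hx31, hp₃, hx3j⟩ := hu.exists_shift_one hF x₂ (hp₂ ▸ hp₁)
    (s := cj (EE u 2 x₂) - EE u 1 x₂) (by
      rw [map_sub, cj_cj hF]; linear_combination htr2 - htr1)
  obtain ⟨x, hxi, hp, hxj⟩ := hu.exists_isotropic_adjust hF x₃ (by rw [hp₃, hp₂]; exact hp₁)
  set ω := cj (EE u 2 x₂) with hω
  have hωtr : ω + cj ω = 1 := by rw [hω, cj_cj hF, add_comm]; exact htr2
  have W : IsOmega hF ω := by
    have hcw : cj ω = ω + 1 := by linear_combination hωtr - ω * h2
    refine ⟨h2, ?_, hcw⟩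
    have h1 := hcw
    rw [← cj_pow hF, hq] at h1
    linear_combination h1 + (ω + 1) * h2
  have hw0 : ω ≠ 0 := fun e => one_ne_zero (α := F) (by rw [← hωtr, e, map_zero, add_zero])
  have hE1 : EE u 1 x = ω := by rw [hxj 1 one_pos, hx31, add_sub_cancel]
  have hE2 : EE u 2 x = cj ω := by rw [hxj 2 two_pos, hx3j 2 one_lt_two, hω, cj_cj hF]
  have hc1 : h (suVal u *ᵥ x) x = ω := by rw [u_form_one hF, hxi, hE1, zero_add]
  have hc2 : h (suVal u *ᵥ (suVal u *ᵥ x)) x = cj ω := by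
    rw [u_form_two hF, hxi, hE2, h2]; ring
  have hc3 : h (suVal u *ᵥ (suVal u *ᵥ (suVal u *ᵥ x))) x ≠ 0 := by
    rw [u_form_three hF, hxi, hE1, hE2, hxj 3 (by omega), hx3j 3 (by omega), hx2j 3 (by omega)]
    intro e
    exact hE3 (by linear_combination e - 3 * hωtr - 2 * h2)
  obtain ⟨c, hc⟩ := phi_surj W hq (h (suVal u *ᵥ (suVal u *ᵥ (suVal u *ᵥ x))) x)
  have hc0 : c ≠ 0 := fun e => hc3 (by rw [← hc, e]; rfl)
  -- the orbit vectors
  set x1 := suVal u *ᵥ x with hx1def
  set x2 := suVal u *ᵥ x1 with hx2def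
  set x3 := suVal u *ᵥ x2 with hx3def
  have hx11 : h x1 x1 = 0 := by rw [hx1def, su_pres, hxi]
  have hx22' : h x2 x2 = 0 := by rw [hx2def, su_pres, hx11]
  have hx33 : h x3 x3 = 0 := by rw [hx3def, su_pres, hx22']
  have g21 : h x2 x1 = ω := by rw [← hc1]; exact su_pres u x1 x
  have g32 : h x3 x2 = ω := by rw [← g21]; exact su_pres u x2 x1
  have g31 : h x3 x1 = cj ω := by rw [← hc2]; exact su_pres u x2 x
  set X : Fin 4 → V := ![x, x1, x2, x3] with hX
  have hG : ∀ i j, h (X i) (X j) = phi ω (gram4 c i j) := by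
    have e3 : phi ω 3 = cj ω := by rw [W.conj]; rfl
    have e2 : phi ω 2 = ω := rfl
    have e0 : phi ω 0 = 0 := rfl
    intro i j
    fin_cases i <;> fin_cases j <;>
      simp [hX, gram4, phi_conj W, e0, e2, e3, hc, hxi, hx11, hx22', hx33, hc1, hc2, g21, g32, g31]
    all_goals
      first
      | rw [← cj_h hF, hc1]
      | rw [← cj_h hF, g21]
      | rw [← cj_h hF, g32]
      | rw [← cj_h hF, hc2, cj_cj hF]
      | rw [← cj_h hF, g31, cj_cj hF]
      | rw [← cj_h hF]
  obtain ⟨hd, hd0, hd1, hκ⟩ := fifth_facts c hc0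
  set d := vphi ω X (fifth c) with hddef
  have hX0 : vphi ω X (1, 0, 0, 0) = x := by simp [vphi, phi, hX]
  have hX1 : vphi ω X (0, 1, 0, 0) = x1 := by simp [vphi, phi, hX]
  set κ := phi ω (kappa c) with hκd
  have hdd : h d d = 0 := by rw [hddef, vphi_form W hG, hd]; rfl
  have hdx : h d x = ω := by rw [hddef, ← hX0, vphi_form W hG, hd0]; rfl
  have hdx1 : h d x1 = κ := by rw [hddef, ← hX1, vphi_form W hG, hd1]
  have hκtr : κ + cj κ = 1 := by rw [hκd, ← phi_conj W, ← phi_add W, hκ]; rfl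
  -- the vector y
  have hb1 : h (fl u f 1) f ≠ 0 := hu.pairing_ne hF
  obtain ⟨y₀, hy₀⟩ : ∃ y₀ : V, h (fl u f 1) y₀ = cj ω := by
    refine ⟨cj (cj ω / h (fl u f 1) f) • f, ?_⟩
    rw [h_smul_right hF, cj_cj hF, div_mul_cancel₀ _ hb1]
  have hw' : cj ω ≠ 0 := (map_ne_zero (qFrob hF)).2 hw0
  obtain ⟨y₁, hy11, -, hpy₁, -⟩ := hu.exists_shift_two hF (by omega) y₀ (hy₀ ▸ hw')
    (r := 1 - h (nu u *ᵥ y₀) (nu u *ᵥ y₀)) (by rw [map_sub, map_one, cj_h_self hF])
  rw [add_sub_cancel] at hy11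
  obtain ⟨y₂, hy21, hpy₂, -⟩ := hu.exists_shift_one hF y₁ (by rw [hpy₁, hy₀]; exact hw')
    (s := κ - EE u 1 y₁) (by
      have h1 := trace_one' (u := u) hF y₁
      rw [hy11] at h1
      rw [map_sub]
      linear_combination hκtr - h1 + h2)
  obtain ⟨y, hyi, hpy, hyj⟩ := hu.exists_isotropic_adjust hF y₂ (by rw [hpy₂, hpy₁, hy₀]; exact hw')
  have hye : h y (fl u f 1) = ω := by
    rw [← cj_h hF, hpy, hpy₂, hpy₁, hy₀, cj_cj hF]
  have huye : h (suVal u *ᵥ y) (fl u f 1) = ω := by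
    conv_lhs => rw [← hu.e1_fixed]
    rw [su_pres, hye]
  have huyy : h (suVal u *ᵥ y) y = κ := by
    rw [u_form_one hF, hyi, hyj 1 one_pos, hy21]; ring
  have huu : h (suVal u *ᵥ y) (suVal u *ᵥ y) = 0 := by rw [su_pres, hyi]
  have hee : h (fl u f 1) (fl u f 1) = 0 := hu.fl_orth hF (by omega)
  obtain ⟨hliA, hFA⟩ := triple_facts (hF := hF) hw0 (hκtr ▸ one_ne_zero) hee hyi huu hye huye huyy
  obtain ⟨hliB, -⟩ := triple_facts (hF := hF) hw0 (hκtr ▸ one_ne_zero) hxi hx11 hdd hc1 hdx hdx1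
  obtain ⟨g, hg⟩ := exists_su_triple (hF := hF) (by omega) (A := ![fl u f 1, y, suVal u *ᵥ y])
    (B := ![x, x1, d]) (fun i j => by
      fin_cases i <;> fin_cases j <;>
        simp [hee, hyi, huu, hye, huye, huyy, hxi, hx11, hdd, hc1, hdx, hdx1]
      all_goals
        first
        | (rw [← cj_h hF, hye, ← cj_h hF x1 x, hc1])
        | (rw [← cj_h hF, huye, ← cj_h hF d x, hdx])
        | (rw [← cj_h hF, huyy, ← cj_h hF d x1, hdx1]))
    hliA hliB hFA
  have hg0 : suVal g *ᵥ fl u f 1 = x := hg 0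
  have hg1 : suVal g *ᵥ y = x1 := hg 1
  have hg2 : suVal g *ᵥ (suVal u *ᵥ y) = d := hg 2
  obtain ⟨h₀, hh₀⟩ := hu.exists_one hF (a := (1 : F)) (by rw [map_one]; linear_combination h2)
  refine ⟨g, g * h₀, ?_⟩
  set K := Subgroup.closure ({u, g * u * g⁻¹, g * h₀ * u * (g * h₀)⁻¹} : Set SUn)
  have hu' : u ∈ K := Subgroup.subset_closure (by simp)
  have hM : g * u * g⁻¹ ∈ K := Subgroup.subset_closure (by simp)
  have hT : TvMem K x 1 := hg0 ▸ tvMem_transport hF (hh₀ _ hM (by
    show g * (h₀ * u * h₀⁻¹) * g⁻¹ ∈ K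
    rw [show g * (h₀ * u * h₀⁻¹) * g⁻¹ = g * h₀ * u * (g * h₀)⁻¹ by group]
    exact Subgroup.subset_closure (by simp)))
  have hfx : Full K x := by
    intro s hs
    rw [skew_iff hF] at hs
    rcases hreal s (by linear_combination hs - s * h2) with rfl | rfl
    · exact tvMem_zero hF x
    · exact hT
  have hf1 : Full K x1 := hfx.conj hF hu'
  have hf2 : Full K x2 := hf1.conj hF hu'
  have hf3 : Full K x3 := hf2.conj hF hu'
  have hfd : Full K d := by
    have h1 := hf1.conj hF hM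
    rwa [mulVec_mul, mulVec_mul, ← hg1, (inv_apply g y).1, hg2] at h1
  have hP := pfull_four W hq hc0 hG (fun i => by
    fin_cases i
    exacts [hfx, hf1, hf2, hf3]) hfd
  obtain ⟨hFr, hd4⟩ := four_frame W hc0 hG
  have hx1p : h (fl u f 1) x ≠ 0 := by rw [hp, hp₃, hp₂]; exact hp₁
  refine eq_top_of_full hF hn3 (by omega) (x := fun i => suVal u ^ i *ᵥ x) (fun i => ?_) (fun i => ?_)
    (fun i => ?_) (hu.orbit_span hF hx1p) hP hFr (by omega) (Or.inl hd4) ?_
  · induction i with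
    | zero => simpa using hfx
    | succ i ih =>
      show Full K (suVal u ^ (i + 1) *ᵥ x)
      rw [pow_succ', ← Matrix.mulVec_mulVec]
      exact ih.conj hF hu'
  · rw [← suVal_pow, su_pres, hxi]
  · show h (suVal u ^ (i + 1) *ᵥ x) (suVal u ^ i *ᵥ x) ≠ 0
    rw [pow_succ, ← Matrix.mulVec_mulVec, ← suVal_pow, su_pres, ← hx1def, hc1]
    exact hw0
  · exact Submodule.subset_span ⟨0, by simp [hX]⟩

end Cfsg.Agent.Lie.SUGen
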