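import Cfsg.Agent.Lib.Lie.UnitTvGen
import Cfsg.Agent.Lib.Classical.UnitRegUnipClasses

/-! Regular unipotent elements of `SU_n(q)`: the flag, the adjustable values `h(νⁱ x, x)`, and
transvections in the group of `u` and one conjugate. -/

set_option autoImplicit false
set_option linter.unusedSectionVars false
set_option linter.style.haveILetI false
set_option linter.unusedVariables false

namespace Cfsg.Agent.Lie.SUGen

open Matrix Module Cfsg.Agent.Classical Cfsg.Agent.Classical.PSUAut Cfsg.Agent.Fus.UnitN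

variable {F : Type*} [Field F] [Fintype F] {q n : ℕ}

local notation "V" => (Fin n → F)
local notation "SUn" => SU n F q
local notation "h" => hermForm n F q

/-- `u - 1`. -/
def nu (u : SU n F q) : Matrix (Fin n) (Fin n) F := suVal u - 1

/-- A regular unipotent element with a cyclic vector. -/
structure RegData (u : SU n F q) (f : Fin n → F) : Prop where
  top : nu u ^ n = 0
  cyc : nu u ^ (n - 1) *ᵥ f ≠ 0
  three : 3 ≤ n

/-- The flag vectors `(u - 1)^{n - i} f`. -/
def fl (u : SU n F q) (f : Fin n → F) (i : ℕ) : Fin n → F := nu u ^ (n - i) *ᵥ f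

/-- `h((u-1)ⁱ x, x)`. -/
def EE (u : SU n F q) (i : ℕ) (x : Fin n → F) : F := hermForm n F q (nu u ^ i *ᵥ x) x

variable {u : SU n F q} {f : Fin n → F}

theorem u_apply (a : V) : suVal u *ᵥ a = a + nu u *ᵥ a := by
  rw [nu, Matrix.sub_mulVec, Matrix.one_mulVec, add_sub_cancel]

theorem pow_nu_succ (k : ℕ) (a : V) : nu u ^ (k + 1) *ᵥ a = nu u *ᵥ (nu u ^ k *ᵥ a) := by
  rw [pow_succ', Matrix.mulVec_mulVec]

theorem nu_pow_pow (i j : ℕ) (a : V) : nu u ^ i *ᵥ (nu u ^ j *ᵥ a) = nu u ^ (i + j) *ᵥ a := by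
  rw [Matrix.mulVec_mulVec, ← pow_add]

theorem nu_commute : Commute (nu u) (suVal u⁻¹) := by
  have h1 : suVal u * suVal u⁻¹ = suVal u⁻¹ * suVal u := by
    rw [← suVal_mul, ← suVal_mul, mul_inv_cancel, inv_mul_cancel]
  exact Commute.sub_left h1 (Commute.one_left _)

theorem RegData.pow_eq_zero (hu : RegData u f) {k : ℕ} (hk : n ≤ k) (a : V) :
    nu u ^ k *ᵥ a = 0 := by
  obtain ⟨c, rfl⟩ := Nat.exists_eq_add_of_le hk
  rw [pow_add, hu.top, zero_mul, Matrix.zero_mulVec]

theorem RegData.fl_nu (hu : RegData u f) (i : ℕ) (hi : i + 1 ≤ n) :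
    nu u *ᵥ fl u f (i + 1) = fl u f i := by
  rw [fl, fl, ← pow_nu_succ, show n - (i + 1) + 1 = n - i by omega]

theorem RegData.fl_zero (hu : RegData u f) : fl u f 0 = 0 := hu.pow_eq_zero (by omega) f

theorem RegData.nu_pow_fl (hu : RegData u f) (i j : ℕ) (hij : j ≤ i) :
    nu u ^ i *ᵥ fl u f j = 0 := by
  rw [fl, nu_pow_pow]
  exact hu.pow_eq_zero (by omega) f

theorem RegData.e1_fixed (hu : RegData u f) : suVal u *ᵥ fl u f 1 = fl u f 1 := by
  have h1 := hu.nu_pow_fl 1 1 le_rfl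
  rw [pow_one] at h1
  rw [u_apply, h1, add_zero]

theorem RegData.e1_ne (hu : RegData u f) : fl u f 1 ≠ 0 := hu.cyc

variable (hF : Fintype.card F = q ^ 2)

local notation "cj" => qFrob hF

include hF

theorem form_nu_right (a b : V) :
    h a (nu u *ᵥ b) = -h (suVal u⁻¹ *ᵥ (nu u *ᵥ a)) b := by
  have h1 : h (suVal u⁻¹ *ᵥ a) b = h a (suVal u *ᵥ b) := by
    rw [← su_pres u, (inv_apply u a).2]
  have h2 : suVal u⁻¹ *ᵥ (nu u *ᵥ a) = a - suVal u⁻¹ *ᵥ a := by
    rw [nu, Matrix.sub_mulVec, Matrix.one_mulVec, Matrix.mulVec_sub, (inv_apply u a).1]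
  rw [h2, h_sub_left, h1, u_apply b, h_add_right hF]
  ring

theorem form_nu_vanish (k : ℕ) : ∀ (a : V) (j : ℕ), nu u ^ k *ᵥ a = 0 → k ≤ j → ∀ b : V,
    h a (nu u ^ j *ᵥ b) = 0 := by
  induction k with
  | zero => intro a j ha _ b; rw [pow_zero, Matrix.one_mulVec] at ha; rw [ha, h_zero_left]
  | succ k ih =>
    intro a j ha hj b
    obtain ⟨j, rfl⟩ : ∃ j', j = j' + 1 := ⟨j - 1, by omega⟩
    rw [pow_nu_succ, form_nu_right hF, ih _ j ?_ (by omega) b, neg_zero]
    have h0 : nu u ^ k *ᵥ (nu u *ᵥ a) = 0 := by rw [Matrix.mulVec_mulVec, ← pow_succ, ha]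
    rw [Matrix.mulVec_mulVec, (nu_commute.pow_left k).eq, ← Matrix.mulVec_mulVec, h0,
      Matrix.mulVec_zero]

theorem RegData.fl_vanish (hu : RegData u f) {k j : ℕ} (hkj : k ≤ j) (b : V) :
    h (fl u f k) (nu u ^ j *ᵥ b) = 0 :=
  form_nu_vanish hF k _ j (hu.nu_pow_fl k k le_rfl) hkj b

theorem RegData.fl_orth (hu : RegData u f) {i j : ℕ} (hij : i + j ≤ n) :
    h (fl u f i) (fl u f j) = 0 := hu.fl_vanish hF (by omega : i ≤ n - j) f

theorem RegData.fl_shift (hu : RegData u f) (j : ℕ) : j + 1 ≤ n → ∀ y : V,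
    h (fl u f (j + 1)) (nu u ^ j *ᵥ y) = (-1) ^ j * h (fl u f 1) y := by
  induction j with
  | zero => intro _ y; simp
  | succ j ih =>
    intro hj y
    have e1 : suVal u⁻¹ *ᵥ fl u f (j + 1) = fl u f (j + 1) - suVal u⁻¹ *ᵥ fl u f j := by
      have h1 := (inv_apply u (fl u f (j + 1))).1
      rw [u_apply (u := u), hu.fl_nu j (by omega), Matrix.mulVec_add] at h1
      exact eq_sub_of_add_eq h1
    have h0 : h (suVal u⁻¹ *ᵥ fl u f j) (nu u ^ j *ᵥ y) = 0 := by
      refine form_nu_vanish hF j _ j ?_ le_rfl y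
      rw [Matrix.mulVec_mulVec, (nu_commute.pow_left j).eq, ← Matrix.mulVec_mulVec,
        hu.nu_pow_fl j j le_rfl, Matrix.mulVec_zero]
    rw [pow_nu_succ, form_nu_right hF, hu.fl_nu (j + 1) (by omega), e1, h_sub_left, h0, sub_zero,
      ih (by omega) y]
    ring

theorem nu_trace (a : V) :
    h (nu u *ᵥ a) a + h a (nu u *ᵥ a) + h (nu u *ᵥ a) (nu u *ᵥ a) = 0 := by
  have h1 := su_pres u a a
  rw [u_apply, h_add_left, h_add_right hF, h_add_right hF] at h1
  linear_combination h1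

theorem RegData.pairing_ne (hu : RegData u f) : h (fl u f 1) f ≠ 0 := by
  intro h0
  refine hu.e1_ne (eq_zero_of_h hF fun v => ?_)
  have hli : LinearIndependent F fun i : Fin n => nu u ^ (i : ℕ) *ᵥ f := by
    rw [Fintype.linearIndependent_iff]
    intro c hc
    suffices H : ∀ k : ℕ, ∀ i : Fin n, (i : ℕ) < k → c i = 0 from fun i => H _ i i.2
    intro k
    induction k with
    | zero => intro i hi; omega
    | succ k ih =>
      intro i hi
      rcases Nat.lt_succ_iff_lt_or_eq.1 hi with hk | hk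
      · exact ih i hk
      have h1 := congrArg (nu u ^ (n - 1 - k) *ᵥ ·) hc
      simp only [Matrix.mulVec_sum, Matrix.mulVec_smul, Matrix.mulVec_zero, nu_pow_pow] at h1
      rw [Finset.sum_eq_single i (fun j _ hj => ?_) (by simp), hk,
        show n - 1 - k + k = n - 1 by omega] at h1
      · exact (smul_eq_zero.1 h1).resolve_right hu.cyc
      rcases Nat.lt_trichotomy (j : ℕ) k with h' | h' | h'
      · rw [ih j h', zero_smul]
      · exact absurd (Fin.ext (h'.trans hk.symm)) hj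
      · rw [hu.pow_eq_zero (by omega), smul_zero]
  haveI : Nonempty (Fin n) := ⟨⟨0, by have := hu.three; omega⟩⟩
  have hv : v ∈ Submodule.span F (Set.range fun i : Fin n => nu u ^ (i : ℕ) *ᵥ f) := by
    rw [hli.span_eq_top_of_card_eq_finrank (by simp)]; exact Submodule.mem_top
  induction hv using Submodule.span_induction with
  | mem v hv =>
    obtain ⟨i, rfl⟩ := hv
    rcases Nat.eq_zero_or_pos (i : ℕ) with hi | hi
    · simpa [hi] using h0
    · exact hu.fl_vanish hF hi f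
  | zero => exact h_zero_right hF _
  | add a b _ _ iha ihb => rw [h_add_right hF, iha, ihb, add_zero]
  | smul c a _ ih => rw [h_smul_right hF, ih, mul_zero]

theorem RegData.mid_ne (hu : RegData u f) {k : ℕ} (hk : k + k = n + 1) :
    h (fl u f k) (fl u f k) ≠ 0 := by
  have h1 := hu.fl_shift hF (k - 1) (by omega) f
  rw [show k - 1 + 1 = k by omega, show nu u ^ (k - 1) *ᵥ f = fl u f k by
    rw [fl, show n - k = k - 1 by omega]] at h1
  rw [h1]
  exact mul_ne_zero (pow_ne_zero _ (by norm_num)) (hu.pairing_ne hF)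

theorem RegData.orbit_span (hu : RegData u f) {x : V} (hx : h (fl u f 1) x ≠ 0) :
    Submodule.span F (Set.range fun i : ℕ => suVal u ^ i *ᵥ x) = ⊤ := by
  have hx' : nu u ^ (n - 1) *ᵥ x ≠ 0 := by
    intro h0
    exact hx (h_comm_zero hF (form_nu_vanish hF (n - 1) x (n - 1) h0 le_rfl f))
  set U := Submodule.span F (Set.range fun i : ℕ => suVal u ^ i *ᵥ x)
  have hN : ∀ a ∈ U, suVal u *ᵥ a ∈ U := by
    intro a ha
    induction ha using Submodule.span_induction with
    | mem a ha =>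
      obtain ⟨i, rfl⟩ := ha
      refine Submodule.subset_span ⟨i + 1, ?_⟩
      simp [pow_succ', Matrix.mulVec_mulVec]
    | zero => simp
    | add a b _ _ iha ihb => rw [Matrix.mulVec_add]; exact add_mem iha ihb
    | smul c a _ ih => rw [Matrix.mulVec_smul]; exact U.smul_mem c ih
  have hli : LinearIndependent F fun i : Fin n => nu u ^ (i : ℕ) *ᵥ x := by
    rw [Fintype.linearIndependent_iff]
    intro c hc
    suffices H : ∀ k : ℕ, ∀ i : Fin n, (i : ℕ) < k → c i = 0 from fun i => H _ i i.2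
    intro k
    induction k with
    | zero => intro i hi; omega
    | succ k ih =>
      intro i hi
      rcases Nat.lt_succ_iff_lt_or_eq.1 hi with hk | hk
      · exact ih i hk
      have h1 := congrArg (nu u ^ (n - 1 - k) *ᵥ ·) hc
      simp only [Matrix.mulVec_sum, Matrix.mulVec_smul, Matrix.mulVec_zero, nu_pow_pow] at h1
      rw [Finset.sum_eq_single i (fun j _ hj => ?_) (by simp), hk,
        show n - 1 - k + k = n - 1 by omega] at h1
      · exact (smul_eq_zero.1 h1).resolve_right hx'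
      rcases Nat.lt_trichotomy (j : ℕ) k with h' | h' | h'
      · rw [ih j h', zero_smul]
      · exact absurd (Fin.ext (h'.trans hk.symm)) hj
      · rw [hu.pow_eq_zero (by omega), smul_zero]
  haveI : Nonempty (Fin n) := ⟨⟨0, by have := hu.three; omega⟩⟩
  rw [eq_top_iff, ← hli.span_eq_top_of_card_eq_finrank (by simp), Submodule.span_le]
  rintro _ ⟨i, rfl⟩
  show nu u ^ (i : ℕ) *ᵥ x ∈ U
  generalize (i : ℕ) = k
  induction k with
  | zero => exact Submodule.subset_span ⟨0, by simp⟩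
  | succ k ih =>
    rw [pow_nu_succ, nu, Matrix.sub_mulVec, Matrix.one_mulVec]
    exact sub_mem (hN _ ih) ih

theorem RegData.pairing_adjust (hu : RegData u f) {i : ℕ} (hi : i + 1 < n) (x : V) (t : F) :
    h (fl u f 1) (x + t • fl u f (i + 1)) = h (fl u f 1) x := by
  rw [h_add_right hF, h_smul_right hF, hu.fl_orth hF (by omega), mul_zero, add_zero]

theorem RegData.EE_adjust (hu : RegData u f) {i : ℕ} (hi : i + 1 < n) (x : V) (t : F) :
    EE u i (x + t • fl u f (i + 1)) = EE u i x + t * h (fl u f 1) x +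
      (-1) ^ i * cj (t * h (fl u f 1) x) := by
  have e1 : nu u ^ i *ᵥ fl u f (i + 1) = fl u f 1 := by
    rw [fl, fl, nu_pow_pow, show i + (n - (i + 1)) = n - 1 by omega]
  have e2 : h (nu u ^ i *ᵥ x) (fl u f (i + 1)) = (-1) ^ i * cj (h (fl u f 1) x) := by
    rw [← cj_h hF, hu.fl_shift hF i (by omega), map_mul, map_pow, map_neg, map_one]
  rw [EE, EE, Matrix.mulVec_add, Matrix.mulVec_smul, e1, h_add_left, h_add_right hF,
    h_smul_right hF, e2, h_smul_left, h_add_right hF, h_smul_right hF,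
    hu.fl_orth hF (by omega : 1 + (i + 1) ≤ n), map_mul]
  ring

theorem RegData.EE_stable (hu : RegData u f) {i j : ℕ} (hij : i < j) (x : V) (t : F) :
    EE u j (x + t • fl u f (i + 1)) = EE u j x := by
  rw [EE, EE, Matrix.mulVec_add, Matrix.mulVec_smul, hu.nu_pow_fl j (i + 1) hij, smul_zero,
    add_zero, h_add_right hF, h_smul_right hF,
    h_comm_zero hF (hu.fl_vanish hF (hij : i + 1 ≤ j) x), mul_zero, add_zero]

theorem RegData.norm_two (hu : RegData u f) (x : V) :
    EE u 2 x + cj (EE u 2 x) + 2 * h (nu u *ᵥ x) (nu u *ᵥ x) =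
      h (nu u ^ 2 *ᵥ x) (nu u ^ 2 *ᵥ x) := by
  have hz := nu_trace (u := u) hF x
  have hz' := nu_trace (u := u) hF (nu u *ᵥ x)
  have e : h (nu u *ᵥ (nu u *ᵥ x)) x + h (nu u *ᵥ x) (nu u *ᵥ x) +
      h (nu u *ᵥ (nu u *ᵥ x)) (nu u *ᵥ x) = 0 := by
    have h1 := su_pres u (nu u *ᵥ x) x
    rw [u_apply, u_apply, h_add_left, h_add_right hF, h_add_right hF] at h1
    linear_combination h1
  have e' := congrArg cj e
  rw [map_add, map_add, map_zero, cj_h hF, cj_h hF, cj_h hF] at e'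
  have p2 : nu u ^ 2 *ᵥ x = nu u *ᵥ (nu u *ᵥ x) := by rw [pow_two, Matrix.mulVec_mulVec]
  rw [EE, p2, cj_h hF]
  linear_combination e + e' - hz'

theorem u_form_one (x : V) : h (suVal u *ᵥ x) x = h x x + EE u 1 x := by
  rw [u_apply, h_add_left, EE, pow_one]

theorem u_form_two (x : V) :
    h (suVal u *ᵥ (suVal u *ᵥ x)) x = h x x + 2 * EE u 1 x + EE u 2 x := by
  rw [u_apply x, Matrix.mulVec_add, u_apply, u_apply, h_add_left, h_add_left, h_add_left, EE, EE,
    pow_one, pow_two, Matrix.mulVec_mulVec]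
  ring

theorem u_form_three (x : V) :
    h (suVal u *ᵥ (suVal u *ᵥ (suVal u *ᵥ x))) x =
      h x x + 3 * EE u 1 x + 3 * EE u 2 x + EE u 3 x := by
  simp only [u_apply, Matrix.mulVec_add, h_add_left, EE, pow_succ', pow_zero, mul_one,
    ← Matrix.mulVec_mulVec]
  ring

/-- Make `h x x = 0` without changing the higher values. -/
theorem RegData.exists_isotropic_adjust (hu : RegData u f) (x : V) (hx : h (fl u f 1) x ≠ 0) :
    ∃ x' : V, h x' x' = 0 ∧ h (fl u f 1) x' = h (fl u f 1) x ∧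
      ∀ j, 0 < j → EE u j x' = EE u j x := by
  have hn := hu.three
  obtain ⟨z, hz⟩ := exists_trace_eq hF (a := -h x x) (by rw [map_neg, cj_h_self hF])
  refine ⟨x + (z / h (fl u f 1) x) • fl u f (0 + 1), ?_, hu.pairing_adjust hF (by omega) x _,
    fun j hj => hu.EE_stable hF hj x _⟩
  have h1 := hu.EE_adjust hF (i := 0) (by omega) x (z / h (fl u f 1) x)
  rw [div_mul_cancel₀ _ hx, EE, EE, pow_zero, Matrix.one_mulVec, Matrix.one_mulVec, pow_zero,
    one_mul] at h1
  rw [h1]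
  linear_combination hz

/-- Change `E₁` by a skew element. -/
theorem RegData.exists_shift_one (hu : RegData u f) (x : V) (hx : h (fl u f 1) x ≠ 0) {s : F}
    (hs : s + cj s = 0) :
    ∃ x' : V, EE u 1 x' = EE u 1 x + s ∧ h (fl u f 1) x' = h (fl u f 1) x ∧
      ∀ j, 1 < j → EE u j x' = EE u j x := by
  have hn := hu.three
  obtain ⟨z, hz⟩ : ∃ z : F, z - cj z = s := by
    obtain ⟨τ, hτ0, hτ⟩ := exists_trace_zero hF
    obtain ⟨w, hw⟩ := exists_trace_eq hF (a := s / τ) (by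
      rw [map_div₀, show cj s = -s by linear_combination hs,
        show cj τ = -τ by linear_combination hτ, neg_div_neg_eq])
    exact ⟨τ * w, by
      rw [map_mul, show cj τ = -τ by linear_combination hτ, neg_mul, sub_neg_eq_add, ← mul_add, hw,
        mul_div_cancel₀ _ hτ0]⟩
  refine ⟨x + (z / h (fl u f 1) x) • fl u f (1 + 1), ?_, hu.pairing_adjust hF (by omega) x _,
    fun j hj => hu.EE_stable hF hj x _⟩
  rw [hu.EE_adjust hF (by omega), div_mul_cancel₀ _ hx, pow_one]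
  linear_combination hz

/-- Change `N(νx)` by a real element; `E₂ + N(νx)` is kept. -/
theorem RegData.exists_shift_two (hu : RegData u f) (hn : 4 ≤ n) (x : V)
    (hx : h (fl u f 1) x ≠ 0) {r : F} (hr : cj r = r) :
    ∃ x' : V, h (nu u *ᵥ x') (nu u *ᵥ x') = h (nu u *ᵥ x) (nu u *ᵥ x) + r ∧
      EE u 2 x' = EE u 2 x - r ∧ h (fl u f 1) x' = h (fl u f 1) x ∧
      ∀ j, 2 < j → EE u j x' = EE u j x := by
  obtain ⟨z, hz⟩ := exists_trace_eq hF (a := -r) (by rw [map_neg, hr])
  refine ⟨x + (z / h (fl u f 1) x) • fl u f (2 + 1), ?_, ?_, hu.pairing_adjust hF (by omega) x _,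
    fun j hj => hu.EE_stable hF hj x _⟩
  · set t := z / h (fl u f 1) x with ht
    have e1 : h (fl u f 2) (nu u *ᵥ x) = -h (fl u f 1) x := by
      have h1 := hu.fl_shift hF 1 (by omega) x
      rw [pow_one, pow_one] at h1
      linear_combination h1
    rw [Matrix.mulVec_add, Matrix.mulVec_smul, hu.fl_nu 2 (by omega), norm_line hF,
      hu.fl_orth hF (by omega : 2 + 2 ≤ n), ← cj_h hF (fl u f 2) (nu u *ᵥ x), e1, map_neg,
      mul_zero, add_zero, mul_neg, mul_neg, ← map_mul, ht, div_mul_cancel₀ _ hx]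
    linear_combination -hz
  · rw [hu.EE_adjust hF (by omega), div_mul_cancel₀ _ hx]
    linear_combination hz

/-- A starting vector with `N(ν² x) ≠ 0` prescribed up to being one of those. -/
theorem RegData.exists_norm_two_ne (hu : RegData u f) (hn : 5 ≤ n) :
    ∃ x : V, h (fl u f 1) x ≠ 0 ∧ h (nu u ^ 2 *ᵥ x) (nu u ^ 2 *ᵥ x) ≠ 0 := by
  rcases hn.eq_or_lt with h5 | h5
  · refine ⟨f, hu.pairing_ne hF, ?_⟩
    have h1 := hu.mid_ne hF (k := 3) (by omega)
    rwa [fl, show n - 3 = 2 by omega] at h1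
  · by_cases h0 : h (nu u ^ 2 *ᵥ f) (nu u ^ 2 *ᵥ f) = 0
    swap
    · exact ⟨f, hu.pairing_ne hF, h0⟩
    obtain ⟨z, hz⟩ := exists_trace_eq hF (a := (1 : F)) (map_one _)
    refine ⟨f + (z / h (fl u f 1) f) • fl u f (4 + 1), ?_, ?_⟩
    · rw [hu.pairing_adjust hF (by omega)]; exact hu.pairing_ne hF
    have e0 : nu u ^ 2 *ᵥ fl u f (4 + 1) = fl u f 3 := by
      rw [fl, fl, nu_pow_pow, show 2 + (n - (4 + 1)) = n - 3 by omega]
    have e1 : h (fl u f 3) (nu u ^ 2 *ᵥ f) = h (fl u f 1) f := by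
      have h1 := hu.fl_shift hF 2 (by omega) f
      rwa [neg_one_sq, one_mul] at h1
    rw [Matrix.mulVec_add, Matrix.mulVec_smul, e0, norm_line hF, h0, e1,
      hu.fl_orth hF (by omega : 3 + 3 ≤ n), ← cj_h hF (fl u f 3) (nu u ^ 2 *ᵥ f), e1, zero_add,
      mul_zero, add_zero, ← map_mul, div_mul_cancel₀ _ (hu.pairing_ne hF), add_comm, hz]
    exact one_ne_zero

/-! ### Transvections in the group of `u` and one conjugate -/

theorem conj_eSU (g : SUn) {e w : V} {c : F} (H : EOK (q := q) e w c) :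
    g * eSU hF H * g⁻¹ = eSU hF (H.map (q := q) (su_pres g)) := by
  rw [mul_inv_eq_iff_eq_mul]
  exact suVal_ext (by rw [suVal_mul, suVal_mul, suVal_eSU, suVal_eSU, mul_eMat (su_pres g)])

/-- The commutator of `u` with an element of the Heisenberg group of the fixed point. -/
theorem RegData.eok_step (hu : RegData u f) {w : V} {c : F} (H : EOK (q := q) (fl u f 1) w c) :
    ∃ H' : EOK (q := q) (fl u f 1) (nu u *ᵥ w) (h w (nu u *ᵥ w)),
      u * eSU hF H * u⁻¹ * (eSU hF H)⁻¹ = eSU hF H' := by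
  have he : h (fl u f 1) (fl u f 1) = 0 := hu.fl_orth hF (by have := hu.three; omega)
  have hwe : h (nu u *ᵥ w) (fl u f 1) = 0 := by
    refine h_comm_zero hF ?_
    have := hu.fl_vanish hF (le_refl 1) w
    rwa [pow_one] at this
  have H' : EOK (q := q) (fl u f 1) (nu u *ᵥ w) (h w (nu u *ᵥ w)) := by
    refine ⟨he, hwe, ?_⟩
    rw [cj_pow hF, cj_h hF]
    linear_combination nu_trace (u := u) hF w
  refine ⟨H', ?_⟩
  rw [mul_inv_eq_iff_eq_mul, conj_eSU hF, eSU_mul hF H' H]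
  refine suVal_ext ?_
  rw [suVal_eSU, suVal_eSU, hu.e1_fixed, u_apply, add_comm w, add_sub_cancel_left]

theorem RegData.tvMem_of_eok (hu : RegData u f) {K : Subgroup (SU n F q)} (hK : u ∈ K) {β c : F}
    (H : EOK (q := q) (fl u f 1) (β • fl u f 2) c)
    (hH : u * eSU hF H * u⁻¹ * (eSU hF H)⁻¹ ∈ K) : TvMem K (fl u f 1) (β - cj β) := by
  have hn := hu.three
  obtain ⟨H', he⟩ := hu.eok_step hF H
  rw [he] at hH
  refine ⟨_, hH, fun x => ?_⟩
  have e1 : nu u *ᵥ (β • fl u f 2) = β • fl u f 1 := by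
    rw [Matrix.mulVec_smul, hu.fl_nu 1 (by omega)]
  rw [suVal_eSU, eMat_mulVec, e1, h_smul_left, h_smul_right hF, h_smul_right hF,
    hu.fl_orth hF (by omega : 2 + 1 ≤ n), mul_zero, mul_zero, zero_mul, smul_smul]
  module

/-- Repeated commutators with `u`. -/
theorem RegData.eok_chain (hu : RegData u f) {K : Subgroup (SU n F q)} (hK : u ∈ K) (k : ℕ) :
    ∀ (w : V) (c : F) (H : EOK (q := q) (fl u f 1) w c), eSU hF H ∈ K →
      ∃ (w' : V) (c' : F) (H' : EOK (q := q) (fl u f 1) w' c'),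
        w' = nu u ^ k *ᵥ w ∧ eSU hF H' ∈ K := by
  induction k with
  | zero => exact fun w c H hH => ⟨w, c, H, by rw [pow_zero, Matrix.one_mulVec], hH⟩
  | succ k ih =>
    intro w c H hH
    obtain ⟨w', c', H', hw', hH'⟩ := ih w c H hH
    obtain ⟨H'', he⟩ := hu.eok_step hF H'
    refine ⟨_, _, H'', by rw [hw', ← pow_nu_succ], ?_⟩
    rw [← he]
    exact mul_mem (mul_mem (mul_mem hK hH') (inv_mem hK)) (inv_mem hH')

/-- The group of `u` and the conjugate by `h₀`. -/
theorem comm_mem {H₀ : SU n F q} {K : Subgroup (SU n F q)} (hK : u ∈ K)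
    (hK' : H₀ * u * H₀⁻¹ ∈ K) : u * H₀ * u⁻¹ * H₀⁻¹ ∈ K := by
  rw [show u * H₀ * u⁻¹ * H₀⁻¹ = u * (H₀ * u * H₀⁻¹)⁻¹ by group]
  exact mul_mem hK (inv_mem hK')

theorem RegData.exists_one (hu : RegData u f) {a : F} (ha : a + cj a = 0) :
    ∃ h₀ : SU n F q, ∀ K : Subgroup (SU n F q), u ∈ K → h₀ * u * h₀⁻¹ ∈ K →
      TvMem K (fl u f 1) a := by
  have hn := hu.three
  obtain ⟨β, hβ⟩ : ∃ β : F, β - cj β = a := by
    obtain ⟨τ, hτ0, hτ⟩ := exists_trace_zero hF
    obtain ⟨w, hw⟩ := exists_trace_eq hF (a := a / τ) (by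
      rw [map_div₀, show cj a = -a by linear_combination ha,
        show cj τ = -τ by linear_combination hτ, neg_div_neg_eq])
    exact ⟨τ * w, by
      rw [map_mul, show cj τ = -τ by linear_combination hτ, neg_mul, sub_neg_eq_add, ← mul_add, hw,
        mul_div_cancel₀ _ hτ0]⟩
  obtain ⟨c, H⟩ := EOK.exists_c hF (e := fl u f 1) (w := β • fl u f 2)
    (hu.fl_orth hF (by omega)) (by rw [h_smul_left, hu.fl_orth hF (by omega), mul_zero])
  exact ⟨eSU hF H, fun K hK hK' => hβ ▸ hu.tvMem_of_eok hF hK H (comm_mem hF hK hK')⟩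

/-- In characteristic two a second parameter of prescribed ratio. -/
theorem RegData.exists_two (hu : RegData u f) {m : ℕ} (hm : n = 2 * m + 5) (h2 : (2 : F) = 0)
    {ρ : F} (hρ : ρ ≠ 0) (hρr : cj ρ = ρ) :
    ∃ (a : F) (h₀ : SU n F q), a ≠ 0 ∧ a + cj a = 0 ∧
      ∀ K : Subgroup (SU n F q), u ∈ K → h₀ * u * h₀⁻¹ ∈ K →
        TvMem K (fl u f 1) a ∧ TvMem K (fl u f 1) (ρ * a) := by
  set κ := h (fl u f (m + 3)) (fl u f (m + 3)) with hκd
  have hκ : κ ≠ 0 := hu.mid_ne hF (by omega)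
  have hκr : cj κ = κ := cj_h_self hF _
  obtain ⟨b, hb⟩ := exists_trace_eq hF (a := (1 : F)) (map_one _)
  have hb0 : b ≠ 0 := fun e => one_ne_zero (α := F) (by rw [← hb, e, map_zero, add_zero])
  have hbn : b * cj b ≠ 0 := mul_ne_zero hb0 ((map_ne_zero (qFrob hF)).2 hb0)
  set r := ρ / (b * cj b * κ) with hr
  have hrr : cj r = r := by
    rw [hr, map_div₀, map_mul, map_mul, hρr, hκr, cj_cj hF]; ring
  have hr0 : r ≠ 0 := div_ne_zero hρ (mul_ne_zero hbn hκ)
  set β := r * b with hβ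
  have hneg : ∀ y : F, -y = y := fun y => by linear_combination (-y) * h2
  obtain ⟨c, H⟩ := EOK.exists_c hF (e := fl u f 1) (w := β • fl u f (m + 4))
    (hu.fl_orth hF (by omega)) (by rw [h_smul_left, hu.fl_orth hF (by omega), mul_zero])
  refine ⟨r, eSU hF H, hr0, by rw [hrr]; linear_combination r * h2, fun K hK hK' => ?_⟩
  obtain ⟨H', he⟩ := hu.eok_step hF H
  have hX : eSU hF H' ∈ K := he ▸ comm_mem hF hK hK'
  have ew : nu u *ᵥ (β • fl u f (m + 4)) = β • fl u f (m + 3) := by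
    rw [Matrix.mulVec_smul, hu.fl_nu (m + 3) (by omega)]
  constructor
  · -- down the flag to the second vector
    obtain ⟨w', c', H'', hw', hH''⟩ := hu.eok_chain hF hK (m + 1) _ _ H' hX
    have ew' : nu u ^ (m + 1) *ᵥ (nu u *ᵥ (β • fl u f (m + 4))) = β • fl u f 2 := by
      rw [ew, Matrix.mulVec_smul, fl, fl, nu_pow_pow, show m + 1 + (n - (m + 3)) = n - 2 by omega]
    rw [ew'] at hw'
    subst hw'
    have h3 := hu.tvMem_of_eok hF hK H'' (by
      exact mul_mem (mul_mem (mul_mem hK hH'') (inv_mem hK)) (inv_mem hH''))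
    rwa [hβ, map_mul, hrr, sub_eq_add_neg, hneg, ← mul_add, hb, mul_one] at h3
  · -- the square
    refine ⟨_, mul_mem hX hX, fun x => ?_⟩
    have hww : ∀ y : V, y + y = 0 := fun y => by
      rw [← two_smul F y, h2, zero_smul]
    rw [eSU_mul hF, suVal_eSU, eMat_mulVec, hww, h_zero_right hF, zero_smul, smul_zero, sub_zero,
      zero_add, ew]
    simp only [h_smul_left, h_smul_right hF, ← hκd]
    congr 2
    have hrρ : r * (b * cj b * κ) = ρ := div_mul_cancel₀ _ (mul_ne_zero hbn hκ)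
    rw [hβ, map_mul, hrr]
    congr 1
    linear_combination (r * b * (r * cj b * h (fl u f (m + 4)) (fl u f (m + 3)))) * h2
      - r * hrρ - (ρ * r) * h2

end Cfsg.Agent.Lie.SUGen
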