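import Cfsg.Agent.Lib.Lie.RepDegSUGen
import Cfsg.Agent.Lib.Classical.MaxHermitian

/-! Subgroups of `SU_n(q)` containing the transvection groups at a connected spanning set of centres. -/

set_option autoImplicit false
set_option linter.unusedSectionVars false
set_option linter.style.haveILetI false

namespace Cfsg.Agent.Lie.SUGen

open Matrix Module Cfsg.Agent.Classical Cfsg.Agent.Classical.PSUAut Cfsg.Agent.Fus.UnitN

variable {F : Type*} [Field F] [Fintype F] {q n : ℕ}

local notation "V" => (Fin n → F)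
local notation "SUn" => SU n F q
local notation "h" => hermForm n F q

/-- The transvection with centre `v` and parameter `c` lies in `K`. -/
def TvMem (K : Subgroup (SU n F q)) (v : Fin n → F) (c : F) : Prop :=
  ∃ s ∈ K, ∀ x : Fin n → F, suVal s *ᵥ x = x + (c * hermForm n F q x v) • v

/-- All transvections with centre `v` lie in `K`. -/
def Full (K : Subgroup (SU n F q)) (v : Fin n → F) : Prop := ∀ c : F, c + c ^ q = 0 → TvMem K v c

/-- All isotropic vectors of `U` are full. -/
def PFull (K : Subgroup (SU n F q)) (U : Submodule F (Fin n → F)) : Prop :=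
  ∀ v ∈ U, hermForm n F q v v = 0 → Full K v

/-- `b` is the image of `a` under an element of `K` fixing the orthogonal complement of `U`. -/
def Reach (K : Subgroup (SU n F q)) (U : Submodule F (Fin n → F)) (a b : Fin n → F) : Prop :=
  ∃ g ∈ K, suVal g *ᵥ a = b ∧
    ∀ z : Fin n → F, (∀ y ∈ U, hermForm n F q z y = 0) → suVal g *ᵥ z = z

variable {K : Subgroup (SU n F q)} {U : Submodule F (Fin n → F)} {v w d : Fin n → F}

theorem Reach.refl (a : V) : Reach K U a a :=
  ⟨1, one_mem K, by rw [suVal_one', Matrix.one_mulVec],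
    fun z _ => by rw [suVal_one', Matrix.one_mulVec]⟩

theorem Reach.trans {a b c : V} (h1 : Reach K U a b) (h2 : Reach K U b c) : Reach K U a c := by
  obtain ⟨g, hg, hga, hgz⟩ := h1
  obtain ⟨g', hg', hgb, hgz'⟩ := h2
  exact ⟨g' * g, mul_mem hg' hg, by rw [mulVec_mul, hga, hgb],
    fun z hz => by rw [mulVec_mul, hgz z hz, hgz' z hz]⟩

theorem su_pres (g : SUn) (x y : V) : h (suVal g *ᵥ x) (suVal g *ᵥ y) = h x y := g.2 x y

variable (hF : Fintype.card F = q ^ 2)

local notation "cj" => qFrob hF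

include hF

theorem skew_iff (c : F) : c + c ^ q = 0 ↔ c + cj c = 0 := by rw [cj_pow hF]

theorem tvMem_zero (v : V) : TvMem K v 0 := ⟨1, one_mem K, fun x => by simp [suVal_one']⟩

theorem TvMem.add {c c' : F} (h1 : TvMem K v c) (h2 : TvMem K v c') (hv : h v v = 0) :
    TvMem K v (c + c') := by
  obtain ⟨s, hs, hsx⟩ := h1
  obtain ⟨t, ht, htx⟩ := h2
  refine ⟨s * t, mul_mem hs ht, fun x => ?_⟩
  rw [mulVec_mul, htx, hsx, h_add_left, h_smul_left, hv, mul_zero, add_zero]
  module

theorem TvMem.conj {c : F} (h1 : TvMem K v c) {g : SUn} (hg : g ∈ K) :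
    TvMem K (suVal g *ᵥ v) c := by
  obtain ⟨s, hs, hsx⟩ := h1
  refine ⟨g * s * g⁻¹, mul_mem (mul_mem hg hs) (inv_mem hg), fun x => ?_⟩
  rw [mulVec_mul, mulVec_mul, hsx, Matrix.mulVec_add, Matrix.mulVec_smul, (inv_apply g x).2]
  congr 3
  rw [← su_pres g, (inv_apply g x).2]

theorem tvMem_smul {a c : F} (h1 : TvMem K v (a * cj a * c)) : TvMem K (a • v) c := by
  obtain ⟨s, hs, hsx⟩ := h1
  refine ⟨s, hs, fun x => ?_⟩
  rw [hsx, h_smul_right hF, smul_smul]
  congr 2
  ring

theorem TvMem.of_smul {a c : F} (h1 : TvMem K (a • v) c) : TvMem K v (a * cj a * c) := by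
  obtain ⟨s, hs, hsx⟩ := h1
  refine ⟨s, hs, fun x => ?_⟩
  rw [hsx, h_smul_right hF, smul_smul]
  congr 2
  ring

theorem full_zero : Full K (0 : V) := fun c _ =>
  ⟨1, one_mem K, fun x => by simp [suVal_one']⟩

theorem Full.smul (h1 : Full K v) (a : F) : Full K (a • v) := fun c hc => by
  refine tvMem_smul hF (h1 _ ?_)
  rw [skew_iff hF] at hc ⊢
  rw [map_mul, map_mul, cj_cj hF]
  linear_combination a * cj a * hc

theorem Full.conj (h1 : Full K v) {g : SUn} (hg : g ∈ K) : Full K (suVal g *ᵥ v) :=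
  fun c hc => (h1 c hc).conj hF hg

theorem Full.move {c : F} (h1 : Full K v) (h2 : TvMem K d c) : Full K (v + (c * h v d) • d) := by
  obtain ⟨s, hs, hsx⟩ := h2
  rw [← hsx]
  exact h1.conj hF hs

theorem reach_step {c : F} (hd : d ∈ U) (h2 : TvMem K d c) (a : V) :
    Reach K U a (a + (c * h a d) • d) := by
  obtain ⟨s, hs, hsx⟩ := h2
  exact ⟨s, hs, hsx a, fun z hz => by rw [hsx, hz d hd, mul_zero, zero_smul, add_zero]⟩

theorem norm_line (x y : V) (t : F) :
    h (x + t • y) (x + t • y) = h x x + cj t * h x y + t * h y x + t * cj t * h y y := by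
  simp only [h_add_left, h_add_right hF, h_smul_left, h_smul_right hF]
  ring

theorem cj_div_skew {a b : F} (ha : a + cj a = 0) (hb : cj b = b) : a / b + cj (a / b) = 0 := by
  rw [map_div₀, hb, ← add_div, ha, zero_div]

theorem cj_mul_conj (a : F) : cj (a * cj a) = a * cj a := by rw [map_mul, cj_cj hF, mul_comm]

/-- An isotropic vector of the plane of two full centres is full. -/
theorem Full.comb (hv : Full K v) (hw : Full K w) (hvv : h v v = 0) (hww : h w w = 0)
    (hvw : h v w ≠ 0) {α β : F} (hy : h (α • v + β • w) (α • v + β • w) = 0) :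
    Full K (α • v + β • w) := by
  rcases eq_or_ne α 0 with rfl | hα
  · rw [zero_smul, zero_add]; exact hw.smul hF β
  set γ := β / α with hγ
  have e : α • v + β • w = α • (v + γ • w) := by
    rw [smul_add, smul_smul, hγ, mul_div_cancel₀ _ hα]
  rw [e] at hy ⊢
  refine Full.smul hF ?_ α
  rw [h_smul_left, h_smul_right hF] at hy
  have hy' : h (v + γ • w) (v + γ • w) = 0 :=
    ((mul_eq_zero.1 hy).resolve_left hα |> mul_eq_zero.1).resolve_left
      ((map_ne_zero (qFrob hF)).2 hα)
  rw [h_add_left, h_add_right hF, h_add_right hF, hvv, h_smul_left, h_smul_left, h_smul_right hF,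
    h_smul_right hF, hww, ← cj_h hF v w] at hy'
  have hne : h v w * cj (h v w) ≠ 0 := mul_ne_zero hvw ((map_ne_zero (qFrob hF)).2 hvw)
  have hc : γ * cj (h v w) / (h v w * cj (h v w)) +
      (γ * cj (h v w) / (h v w * cj (h v w))) ^ q = 0 := by
    rw [skew_iff hF]
    refine cj_div_skew hF ?_ (cj_mul_conj hF _)
    rw [map_mul, cj_cj hF]
    linear_combination hy'
  have h1 := hv.move hF (hw _ hc)
  rwa [show γ * cj (h v w) / (h v w * cj (h v w)) * h v w = γ by
    rw [div_mul_eq_mul_div, mul_assoc, mul_comm (cj (h v w)) (h v w), mul_div_assoc, div_self hne,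
      mul_one]] at h1

theorem pfull_plane (hv : Full K v) (hw : Full K w) (hvv : h v v = 0) (hww : h w w = 0)
    (hvw : h v w ≠ 0) : PFull K (Submodule.span F {v, w}) := by
  intro y hy hyy
  obtain ⟨α, β, rfl⟩ := Submodule.mem_span_pair.1 hy
  exact hv.comb hF hw hvv hww hvw hyy

theorem frame_plane (hvv : h v v = 0) (hww : h w w = 0) (hvw : h v w ≠ 0) :
    Frame q (Submodule.span F {v, w}) := by
  intro x
  have hwv : h w v ≠ 0 := fun e => hvw (h_comm_zero hF e)
  refine ⟨(h x w / h v w) • v + (h x v / h w v) • w, add_mem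
    (Submodule.smul_mem _ _ (Submodule.subset_span (by simp)))
    (Submodule.smul_mem _ _ (Submodule.subset_span (by simp))), fun y hy => ?_⟩
  obtain ⟨α, β, rfl⟩ := Submodule.mem_span_pair.1 hy
  simp only [h_add_left, h_add_right hF, h_smul_left, h_smul_right hF, hvv, hww, mul_zero, add_zero,
    zero_add]
  field_simp

theorem finrank_plane (hvv : h v v = 0) (hww : h w w = 0) (hvw : h v w ≠ 0) :
    2 ≤ finrank F (Submodule.span F {v, w}) := by
  have hli : LinearIndependent F ![v, w] := by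
    rw [LinearIndependent.pair_iff]
    intro s t hst
    have h1 := congrArg (fun y => h y w) hst
    have h2 := congrArg (fun y => h v y) hst
    simp only [h_add_left, h_smul_left, hww, mul_zero, add_zero, h_zero_left] at h1
    simp only [h_add_right hF, h_smul_right hF, hvv, mul_zero, zero_add, h_zero_right hF] at h2
    exact ⟨(mul_eq_zero.1 h1).resolve_right hvw,
      (map_eq_zero (qFrob hF)).1 ((mul_eq_zero.1 h2).resolve_right hvw)⟩
  have h1 := finrank_span_eq_card hli
  rw [Matrix.range_cons, Matrix.range_cons, Matrix.range_empty, Set.union_empty,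
    Set.singleton_union] at h1
  rw [h1]; simp

theorem frame_nd (hU : Frame q U) {a : V} (ha : a ∈ U) (h0 : ∀ y ∈ U, h y a = 0) : a = 0 :=
  eq_zero_of_h hF fun y => h_comm_zero hF (by
    obtain ⟨y', hy', he⟩ := hU y
    rw [he a ha]; exact h0 y' hy')

theorem frame_split (hU : Frame q U) (x : V) :
    ∃ a ∈ U, ∃ r : V, x = a + r ∧ ∀ y ∈ U, h r y = 0 := by
  obtain ⟨a, ha, he⟩ := hU x
  exact ⟨a, ha, x - a, by abel, fun y hy => by rw [h_sub_left, he y hy, sub_self]⟩

theorem frame_sup (hU : Frame q U) {r : V} (hr : ∀ y ∈ U, h r y = 0) (hrr : h r r ≠ 0) :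
    Frame q (U ⊔ F ∙ r) := by
  intro x
  obtain ⟨a, ha, he⟩ := hU x
  refine ⟨a + (h x r / h r r) • r, Submodule.add_mem_sup ha
    (Submodule.smul_mem _ _ (Submodule.mem_span_singleton_self r)), fun y hy => ?_⟩
  obtain ⟨b, hb, z, hz, rfl⟩ := Submodule.mem_sup.1 hy
  obtain ⟨μ, rfl⟩ := Submodule.mem_span_singleton.1 hz
  rw [h_add_right hF, h_add_right hF, h_add_left, h_add_left, h_smul_left, h_smul_left, he b hb,
    h_smul_right hF, h_smul_right hF, h_smul_right hF, hr b hb, h_comm_zero hF (hr a ha)]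
  field_simp
  ring

theorem finrank_sup {r : V} (hr : ∀ y ∈ U, h r y = 0) (hrr : h r r ≠ 0) :
    finrank F U + 1 ≤ finrank F (U ⊔ F ∙ r : Submodule F V) :=
  Submodule.finrank_lt_finrank_of_lt (lt_of_le_of_ne le_sup_left fun e =>
    hrr (hr r (e ▸ Submodule.mem_sup_right (Submodule.mem_span_singleton_self r))))

theorem exists_nonreal : ∃ i : F, cj i ≠ i := by
  by_contra hc
  push Not at hc
  exact qFrob_ne_id hF (RingHom.ext fun x => hc x)

theorem skew_div {α α' β : F} (hβ : β ≠ 0)
    (htr : α * cj β + cj α * β = α' * cj β + cj α' * β) :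
    (α' - α) / β + ((α' - α) / β) ^ q = 0 := by
  rw [skew_iff hF, show (α' - α) / β = (α' - α) * cj β / (β * cj β) by
    rw [← div_mul_div_comm, div_self ((map_ne_zero (qFrob hF)).2 hβ), mul_one]]
  refine cj_div_skew hF ?_ (cj_mul_conj hF _)
  rw [map_mul, map_sub, cj_cj hF]
  linear_combination -htr

/-- Transitivity on vectors of given non-zero norm in a hyperbolic plane. -/
theorem reach_plane (hP : PFull K U) {e f : V} (P : IsPair (q := q) e f) (he : e ∈ U) (hf : f ∈ U)
    {α β α' β' ν : F} (hν : ν ≠ 0) (h1 : α * cj β + cj α * β = ν)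
    (h2 : α' * cj β' + cj α' * β' = ν) : Reach K U (α • e + β • f) (α' • e + β' • f) := by
  have stepA : ∀ (a a' b : F), a * cj b + cj a * b = ν → a' * cj b + cj a' * b = ν →
      Reach K U (a • e + b • f) (a' • e + b • f) := by
    intro a a' b ha ha'
    have hb : b ≠ 0 := fun e0 => hν (by rw [← ha, e0, map_zero, mul_zero, mul_zero, add_zero])
    have hr := reach_step hF he (hP e he P.ee ((a' - a) / b)
      (skew_div hF hb (ha.trans ha'.symm))) (a • e + b • f)
    rwa [h_add_left, h_smul_left, h_smul_left, P.ee, P.fe hF, mul_zero, zero_add, mul_one,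
      div_mul_cancel₀ _ hb, show a • e + b • f + (a' - a) • e = a' • e + b • f by module] at hr
  have stepB : ∀ (b b' a : F), a * cj b + cj a * b = ν → a * cj b' + cj a * b' = ν →
      Reach K U (a • e + b • f) (a • e + b' • f) := by
    intro b b' a hb hb'
    have ha : a ≠ 0 := fun e0 => hν (by rw [← hb, e0, map_zero, zero_mul, zero_mul, add_zero])
    have hr := reach_step hF hf (hP f hf P.ff ((b' - b) / a)
      (skew_div hF ha (by linear_combination hb - hb'))) (a • e + b • f)
    rwa [h_add_left, h_smul_left, h_smul_left, P.ff, P.ef, mul_zero, add_zero, mul_one,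
      div_mul_cancel₀ _ ha, show a • e + b • f + (b' - b) • f = a • e + b' • f by module] at hr
  have indep : ∀ (a b a' b' : F), a * cj b + cj a * b = ν → a' * cj b' + cj a' * b' = ν →
      cj b * b' - cj b' * b ≠ 0 → Reach K U (a • e + b • f) (a' • e + b' • f) := by
    intro a b a' b' ha ha' hD
    have hνr : cj ν = ν := by rw [← ha, map_add, map_mul, map_mul, cj_cj hF, cj_cj hF]; ring
    set D := cj b * b' - cj b' * b with hDd
    have hcD : cj D = -D := by rw [hDd, map_sub, map_mul, map_mul, cj_cj hF, cj_cj hF]; ring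
    set a₀ := ν * (b' - b) / D with ha₀
    have hca₀ : cj a₀ = -(ν * (cj b' - cj b) / D) := by
      rw [ha₀, map_div₀, map_mul, map_sub, hνr, hcD, div_neg]
    have k1 : a₀ * cj b + cj a₀ * b = ν := by
      rw [hca₀, ha₀]; field_simp; rw [hDd]; ring
    have k2 : a₀ * cj b' + cj a₀ * b' = ν := by
      rw [hca₀, ha₀]; field_simp; rw [hDd]; ring
    exact ((stepA a a₀ b ha k1).trans (stepB b b' a₀ k1 k2)).trans (stepA a₀ a' b' k2 ha')
  by_cases hD : cj β * β' - cj β' * β = 0
  · obtain ⟨i, hi⟩ := exists_nonreal hF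
    have hβ : β ≠ 0 := fun e0 => hν (by rw [← h1, e0, map_zero, mul_zero, mul_zero, add_zero])
    have hβ' : β' ≠ 0 := fun e0 => hν (by rw [← h2, e0, map_zero, mul_zero, mul_zero, add_zero])
    have hβn := mul_ne_zero hβ ((map_ne_zero (qFrob hF)).2 hβ)
    have hi' : i - cj i ≠ 0 := sub_ne_zero.2 (Ne.symm hi)
    set b'' := β * i with hb''
    have hb''0 : b'' ≠ 0 := mul_ne_zero hβ fun e0 => hi' (by rw [e0, map_zero, sub_zero])
    obtain ⟨z, hz⟩ := exists_trace_eq hF (a := ν) (by
      rw [← h1, map_add, map_mul, map_mul, cj_cj hF, cj_cj hF]; ring)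
    have k1 : z / cj b'' * cj b'' + cj (z / cj b'') * b'' = ν := by
      rw [map_div₀, cj_cj hF, div_mul_cancel₀ _ ((map_ne_zero (qFrob hF)).2 hb''0),
        div_mul_cancel₀ _ hb''0, hz]
    refine (indep α β _ b'' h1 k1 ?_).trans (indep _ b'' α' β' k1 h2 ?_)
    · rw [hb'', map_mul]
      rw [show cj β * (β * i) - cj β * cj i * β = (β * cj β) * (i - cj i) by ring]
      exact mul_ne_zero hβn hi'
    · rw [hb'', map_mul]
      intro h0
      have h3 : β' * cj β' * (β * cj β) * (i - cj i) = 0 := by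
        linear_combination (β * cj β') * hD * i - cj β' * β * h0
      exact mul_ne_zero (mul_ne_zero (mul_ne_zero hβ' ((map_ne_zero (qFrob hF)).2 hβ')) hβn) hi' h3
  · exact indep α β α' β' h1 h2 hD

/-- Two vectors of equal norm spanning a nondegenerate plane. -/
theorem reach_pair (hP : PFull K U) {a b : V} (ha : a ∈ U) (hb : b ∈ U) (hν : h a a ≠ 0)
    (hab : h b b = h a a) (hk : h a b * cj (h a b) ≠ h a a * h a a) : Reach K U a b := by
  set ν := h a a with hνd
  set k := h a b with hkd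
  have hνr : cj ν = ν := cj_h_self hF a
  have hba : h b a = cj k := by rw [hkd, cj_h hF]
  obtain ⟨s, hs⟩ := exists_norm hF (a := k * cj k - ν * ν) (by
    rw [map_sub, map_mul, map_mul, cj_cj hF, hνr]; ring)
  obtain ⟨γ, hsγ⟩ : ∃ γ, s = k + γ * ν :=
    ⟨(s - k) / ν, by rw [div_mul_cancel₀ _ hν]; ring⟩
  set e := a + γ • b with he
  have hee : h e e = 0 := by
    rw [hsγ, map_add, map_mul, hνr] at hs
    rw [he, h_add_left, h_add_right hF, h_add_right hF, h_smul_left, h_smul_left, h_smul_right hF,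
      h_smul_right hF, hab, ← hνd, ← hkd, hba]
    apply mul_left_cancel₀ hν
    linear_combination hs
  have heU : e ∈ U := add_mem ha (U.smul_mem _ hb)
  obtain ⟨x, hxU, hxspan, hxe⟩ : ∃ x ∈ U, x ∈ Submodule.span F {a, b} ∧ h x e ≠ 0 := by
    by_contra hcon
    push Not at hcon
    have e1 := hcon a ha (Submodule.subset_span (by simp))
    have e2 := hcon b hb (Submodule.subset_span (by simp))
    rw [he, h_add_right hF, h_smul_right hF, ← hνd, ← hkd] at e1
    rw [he, h_add_right hF, h_smul_right hF, hba, hab] at e2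
    apply hk
    linear_combination k * e2 - ν * e1
  obtain ⟨z, hz⟩ := exists_trace_eq hF (a := -h ((h x e)⁻¹ • x) ((h x e)⁻¹ • x))
    (by rw [map_neg, cj_h_self hF])
  set f := (h x e)⁻¹ • x + z • e with hf
  have hxe1 : h ((h x e)⁻¹ • x) e = 1 := by rw [h_smul_left, inv_mul_cancel₀ hxe]
  have hfe : h f e = 1 := by rw [hf, h_add_left, hxe1, h_smul_left, hee, mul_zero, add_zero]
  have P : IsPair (q := q) e f := by
    refine ⟨hee, ?_, by rw [← cj_h hF f e, hfe, map_one]⟩
    rw [hf, norm_line hF, hee, hxe1, ← cj_h hF ((h x e)⁻¹ • x) e, hxe1, map_one]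
    linear_combination hz
  have hfU : f ∈ U := add_mem (U.smul_mem _ hxU) (U.smul_mem _ heU)
  -- coordinates in the pair
  have hspan : ∀ y ∈ Submodule.span F {a, b}, y = h y f • e + h y e • f := by
    have hef : LinearIndependent F ![e, f] := by
      rw [LinearIndependent.pair_iff]
      intro s t hst
      have h1 := congrArg (fun y => h y e) hst
      have h2 := congrArg (fun y => h y f) hst
      simp only [h_add_left, h_smul_left, P.ee, P.fe hF, P.ef, P.ff, h_zero_left, mul_zero,
        mul_one, zero_add, add_zero] at h1 h2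
      exact ⟨h2, h1⟩
    have hemem : e ∈ Submodule.span F {a, b} := add_mem (Submodule.subset_span (by simp))
      (Submodule.smul_mem _ _ (Submodule.subset_span (by simp)))
    have hle : Submodule.span F (Set.range ![e, f]) ≤ Submodule.span F {a, b} := by
      rw [Submodule.span_le]
      rintro _ ⟨i, rfl⟩
      fin_cases i
      · exact hemem
      · exact add_mem (Submodule.smul_mem _ _ hxspan) (Submodule.smul_mem _ _ hemem)
    have heq : Submodule.span F (Set.range ![e, f]) = Submodule.span F {a, b} := by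
      refine Submodule.eq_of_le_of_finrank_le hle ?_
      rw [finrank_span_eq_card hef, Fintype.card_fin]
      classical
      exact (finrank_span_le_card ({a, b} : Set V)).trans (by simpa using Finset.card_le_two)
    intro y hy
    rw [← heq, Matrix.range_cons, Matrix.range_cons, Matrix.range_empty, Set.union_empty,
      Set.singleton_union] at hy
    obtain ⟨s, t, rfl⟩ := Submodule.mem_span_pair.1 hy
    simp only [h_add_left, h_smul_left, P.ee, P.fe hF, P.ef, P.ff, mul_zero, mul_one, zero_add,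
      add_zero]
  have hea := hspan a (Submodule.subset_span (by simp))
  have heb := hspan b (Submodule.subset_span (by simp))
  have hnorm : ∀ (s t : F), h (s • e + t • f) (s • e + t • f) = s * cj t + cj s * t := fun s t => by
    simp only [h_add_left, h_add_right hF, h_smul_left, h_smul_right hF, P.ee, P.fe hF, P.ef, P.ff]
    ring
  rw [hea, heb]
  refine reach_plane hF hP P heU hfU hν ?_ ?_
  · rw [← hnorm, ← hea]
  · rw [← hnorm, ← heb, hab]

theorem exists_norm_val (hq : 3 ≤ q) :
    ∃ y : F, y ≠ 0 ∧ y * cj y ≠ 1 := by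
  obtain ⟨g, hg⟩ := IsCyclic.exists_generator (α := Fˣ)
  refine ⟨g, g.ne_zero, fun e => ?_⟩
  rw [← cj_pow hF, ← pow_succ', ← Units.val_pow_eq_pow_val, Units.val_eq_one] at e
  have h2 := orderOf_dvd_of_pow_eq_one e
  rw [orderOf_eq_card_of_forall_mem_zpowers hg, Nat.card_units, Nat.card_eq_fintype_card, hF] at h2
  have h3 := Nat.le_of_dvd (by omega) h2
  have h4 : 3 * q ≤ q ^ 2 := by rw [sq]; exact Nat.mul_le_mul_right q hq
  omega

/-- Transitivity on the vectors of given non-zero norm. -/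
theorem reach_sphere (hP : PFull K U) (hU : Frame q U)
    (hdim : finrank F U ≤ 2 ∨ 4 ≤ finrank F U ∨ 3 ≤ q) (hdim2 : 2 ≤ finrank F U)
    {a b : V} (ha : a ∈ U) (hb : b ∈ U) (hν : h a a ≠ 0) (hab : h b b = h a a) : Reach K U a b := by
  by_cases hk : h a b * cj (h a b) = h a a * h a a
  swap
  · exact reach_pair hF hP ha hb hν hab hk
  suffices hm : ∃ m ∈ U, h m m = h a a ∧ h a m * cj (h a m) ≠ h a a * h a a ∧
      h m b * cj (h m b) ≠ h a a * h a a by
    obtain ⟨m, hm, hmm, h1, h2⟩ := hm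
    exact (reach_pair hF hP ha hm hν hmm h1).trans
      (reach_pair hF hP hm hb (hmm ▸ hν) (hab.trans hmm.symm) (by rwa [hmm]))
  set ν := h a a with hνd
  set ζ := h b a / ν with hζ
  set w := b - ζ • a with hw
  have hwU : w ∈ U := sub_mem hb (U.smul_mem _ ha)
  have hwa : h w a = 0 := by rw [hw, h_sub_left, h_smul_left, ← hνd, hζ, div_mul_cancel₀ _ hν, sub_self]
  have hww : h w w = 0 := by
    have : h w w = h b b - h a b * cj (h a b) / ν := by
      conv_lhs => rw [hw, h_sub_right hF, h_smul_right hF, ← hw, hwa, mul_zero, sub_zero, hw,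
        h_sub_left, h_smul_left, hζ, ← cj_h hF a b]
      ring
    rw [this, hk, hab, mul_div_assoc, div_self hν, mul_one, sub_self]
  have hdec : ∀ x : V, h x b = cj ζ * h x a + h x w := fun x => by
    rw [← h_smul_right hF, ← h_add_right hF, hw, add_sub_cancel]
  have hνr : cj ν = ν := cj_h_self hF a
  have finish : ∀ z ∈ U, h z a = 0 → h z z ≠ 0 → h z w = 0 → ∃ m ∈ U, h m m = ν ∧
      h a m * cj (h a m) ≠ ν * ν ∧ h m b * cj (h m b) ≠ ν * ν := by
    intro z hz hza hzz hzw
    obtain ⟨s, hs⟩ := exists_norm hF (a := ν / h z z) (by rw [map_div₀, hνr, cj_h_self hF])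
    refine ⟨s • z, U.smul_mem _ hz, ?_, ?_, ?_⟩
    · rw [h_smul_left, h_smul_right hF, ← mul_assoc, hs, div_mul_cancel₀ _ hzz]
    · rw [h_smul_right hF, h_comm_zero hF hza, mul_zero, zero_mul]
      exact (mul_ne_zero hν hν).symm
    · rw [h_smul_left, hdec, hza, hzw, mul_zero, add_zero, mul_zero, zero_mul]
      exact (mul_ne_zero hν hν).symm
  -- the orthogonal complement of `a` in `U` is nondegenerate
  have hX : ∀ z ∈ U, h z a = 0 → (∀ x ∈ U, h x a = 0 → h x z = 0) → z = 0 := by
    intro z hz hza H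
    refine frame_nd hF hU hz fun y hy => ?_
    have := H (y - (h y a / ν) • a) (sub_mem hy (U.smul_mem _ ha))
      (by rw [h_sub_left, h_smul_left, ← hνd, div_mul_cancel₀ _ hν, sub_self])
    rwa [h_sub_left, h_smul_left, h_comm_zero hF hza, mul_zero, sub_zero] at this
  let L : V → (V →ₗ[F] F) := fun y =>
    { toFun := fun x => h x y
      map_add' := fun s t => h_add_left s t y
      map_smul' := fun c s => by rw [h_smul_left, RingHom.id_apply, smul_eq_mul] }
  have polar : ∀ T : Submodule F V, (∀ t ∈ T, h t t = 0) → ∀ s ∈ T, ∀ t ∈ T, h s t = 0 := by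
    intro T hT s hs t ht
    obtain ⟨i, hi⟩ := exists_nonreal hF
    have e1 := hT _ (add_mem hs ht)
    have e2 := hT _ (add_mem hs (T.smul_mem i ht))
    simp only [h_add_left, h_add_right hF, h_smul_left, h_smul_right hF, hT s hs, hT t ht] at e1 e2
    have : (cj i - i) * h s t = 0 := by linear_combination e2 - i * e1
    exact (mul_eq_zero.1 this).resolve_left (sub_ne_zero.2 hi)
  by_cases hw0 : w = 0
  · set T := U ⊓ LinearMap.ker (L a) with hT
    by_cases hall : ∀ t ∈ T, h t t = 0
    · exfalso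
      have hbot : T = ⊥ := by
        rw [Submodule.eq_bot_iff]
        exact fun t ht => hX t ht.1 ht.2 fun x hx hxa => polar T hall x ⟨hx, hxa⟩ t ht
      have := Cfsg.Agent.Classical.MaxTv.finrank_le_inf_ker_add_one U (L a)
      rw [← hT, hbot, finrank_bot] at this
      omega
    · push Not at hall
      obtain ⟨z, ⟨hz, hza⟩, hzz⟩ := hall
      exact finish z hz hza hzz (by rw [hw0, h_zero_right hF])
  · obtain ⟨p₀, hp₀, hpa₀, hpw₀⟩ : ∃ p ∈ U, h p a = 0 ∧ h p w ≠ 0 := by
      by_contra hcon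
      push Not at hcon
      exact hw0 (hX w hwU hwa hcon)
    set T := U ⊓ LinearMap.ker (L a) with hT
    have hwT : w ∈ T := ⟨hwU, hwa⟩
    have hpT : p₀ ∈ T := ⟨hp₀, hpa₀⟩
    have hT2 : 2 ≤ finrank F T := by
      have hli : LinearIndependent F ![w, p₀] := by
        rw [LinearIndependent.pair_iff]
        intro s t hst
        have h1 := congrArg (fun y => h y w) hst
        simp only [h_add_left, h_smul_left, hww, mul_zero, zero_add, h_zero_left] at h1
        have ht := (mul_eq_zero.1 h1).resolve_right hpw₀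
        rw [ht, zero_smul, add_zero] at hst
        exact ⟨(smul_eq_zero.1 hst).resolve_right hw0, ht⟩
      have h1 := finrank_span_eq_card hli
      rw [Fintype.card_fin] at h1
      refine h1.symm.le.trans (Submodule.finrank_mono (Submodule.span_le.2 ?_))
      rintro _ ⟨i, rfl⟩
      fin_cases i
      · exact hwT
      · exact hpT
    have hTU : finrank F T < finrank F U :=
      Submodule.finrank_lt_finrank_of_lt (lt_of_le_of_ne inf_le_left fun e => hν (e.ge ha).2)
    rcases hdim with hd | hd | hd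
    · omega
    · set T2 := T ⊓ LinearMap.ker (L w) with hT2d
      by_cases hall : ∀ t ∈ T2, h t t = 0
      · exfalso
        have h1 := Cfsg.Agent.Classical.MaxTv.finrank_le_inf_ker_add_one U (L a)
        have h2 := Cfsg.Agent.Classical.MaxTv.finrank_le_inf_ker_add_one T (L w)
        rw [← hT] at h1
        rw [← hT2d] at h2
        have hle : T2 ≤ F ∙ w := by
          intro z hz
          rw [Submodule.mem_span_singleton]
          refine ⟨h z p₀ / h w p₀, (sub_eq_zero.1 ?_).symm⟩
          have hwp : h w p₀ ≠ 0 := fun e => hpw₀ (h_comm_zero hF e)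
          refine hX _ (sub_mem hz.1.1 (U.smul_mem _ hwU)) (by
            rw [h_sub_left, h_smul_left, hwa, mul_zero, sub_zero]; exact hz.1.2) fun x hx hxa => ?_
          have hxT : x - (h x w / h p₀ w) • p₀ ∈ T2 := ⟨⟨sub_mem hx (U.smul_mem _ hp₀), by
              show h (x - (h x w / h p₀ w) • p₀) a = 0
              rw [h_sub_left, h_smul_left, hxa, hpa₀, mul_zero, sub_zero]⟩, by
              show h (x - (h x w / h p₀ w) • p₀) w = 0
              rw [h_sub_left, h_smul_left, div_mul_cancel₀ _ hpw₀, sub_self]⟩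
          have e1 := polar T2 hall _ hxT z hz
          rw [h_sub_left, h_smul_left] at e1
          rw [h_sub_right hF, h_smul_right hF, map_div₀, cj_h hF, cj_h hF, sub_eq_zero]
          rw [sub_eq_zero] at e1
          rw [e1]
          field_simp
        have := Submodule.finrank_mono hle
        rw [finrank_span_singleton hw0] at this
        omega
      · push Not at hall
        obtain ⟨z, ⟨⟨hz, hza⟩, hzw⟩, hzz⟩ := hall
        exact finish z hz hza hzz hzw
    · obtain ⟨y, hy0, hy1⟩ := exists_norm_val hF hd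
      set t := ν * y with ht
      have ht0 : t ≠ 0 := mul_ne_zero hν hy0
      have htn : t * cj t ≠ ν * ν := by
        rw [ht, map_mul, hνr, show ν * y * (ν * cj y) = ν * ν * (y * cj y) by ring]
        exact fun e => hy1 ((mul_eq_left₀ (mul_ne_zero hν hν)).1 e)
      set p := (t / h p₀ w) • p₀ with hp
      have hpw : h p w = t := by rw [hp, h_smul_left, div_mul_cancel₀ _ hpw₀]
      obtain ⟨z, hz⟩ := exists_trace_eq hF (a := ν - h p p) (by rw [map_sub, hνr, cj_h_self hF])
      refine ⟨p + (cj (z / t)) • w, add_mem (U.smul_mem _ hp₀) (U.smul_mem _ hwU), ?_, ?_, ?_⟩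
      · rw [norm_line hF, hww, ← cj_h hF p w, hpw, cj_cj hF, div_mul_cancel₀ _ ht0, map_div₀,
          div_mul_cancel₀ _ ((map_ne_zero (qFrob hF)).2 ht0)]
        linear_combination hz
      · rw [h_add_right hF, h_smul_right hF (cj (z / t)), h_comm_zero hF hwa, hp, h_smul_right hF,
          h_comm_zero hF hpa₀, mul_zero, mul_zero, add_zero, zero_mul]
        exact (mul_ne_zero hν hν).symm
      · rw [hdec, h_add_left, h_add_left, h_smul_left _ w, h_smul_left _ w, hwa, hww, hpw, hp,
          h_smul_left, hpa₀]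
        simpa using htn

/-- Enlarging by a centre whose residue is anisotropic. -/
theorem pfull_extend (hP : PFull K U) (hU : Frame q U)
    (hdim : finrank F U ≤ 2 ∨ 4 ≤ finrank F U ∨ 3 ≤ q) (hdim2 : 2 ≤ finrank F U)
    {a r : V} (ha : a ∈ U) (hr : ∀ y ∈ U, h r y = 0) (hw : Full K (a + r))
    (hww : h (a + r) (a + r) = 0) (hrr : h r r ≠ 0) : PFull K (U ⊔ F ∙ r) := by
  intro y hy hyy
  obtain ⟨b, hb, z, hz, rfl⟩ := Submodule.mem_sup.1 hy
  obtain ⟨l, rfl⟩ := Submodule.mem_span_singleton.1 hz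
  rcases eq_or_ne l 0 with rfl | hl
  · rw [zero_smul, add_zero] at hyy ⊢; exact hP b hb hyy
  have hrb := hr b hb
  have hra := hr a ha
  set b' := l⁻¹ • b with hb'
  have hrb' : h r b' = 0 := by rw [hb', h_smul_right hF, hrb, mul_zero]
  have e : b + l • r = l • (b' + r) := by rw [smul_add, hb', smul_smul, mul_inv_cancel₀ hl, one_smul]
  rw [e, h_smul_left, h_smul_right hF, h_add_left, h_add_right hF, h_add_right hF, hrb',
    h_comm_zero hF hrb'] at hyy
  rw [h_add_left, h_add_right hF, h_add_right hF, hra, h_comm_zero hF hra] at hww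
  have hyy' := ((mul_eq_zero.1 hyy).resolve_left hl |> mul_eq_zero.1).resolve_left
    ((map_ne_zero (qFrob hF)).2 hl)
  obtain ⟨g, hg, hga, hgz⟩ := reach_sphere hF hP hU hdim hdim2 ha (U.smul_mem _ hb : b' ∈ U)
    (fun e0 => hrr (by linear_combination hww - e0)) (by linear_combination hyy' - hww)
  rw [e]
  refine Full.smul hF ?_ l
  have := hw.conj hF hg
  rwa [Matrix.mulVec_add, hga, hgz r hr] at this

/-- Some full centre outside `U` has an anisotropic residue. -/
theorem exists_aniso_residue (hP : PFull K U) (hU : Frame q U) (hdim : 3 ≤ finrank F U)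
    (hsp : ∀ y : V, y ≠ 0 → ∃ s, Full K s ∧ h s s = 0 ∧ h y s ≠ 0)
    {a₁ r₁ : V} (ha₁ : a₁ ∈ U) (hr₁ : ∀ y ∈ U, h r₁ y = 0) (hw₁ : Full K (a₁ + r₁))
    (hww₁ : h (a₁ + r₁) (a₁ + r₁) = 0) (ha0 : a₁ ≠ 0) (hr0 : r₁ ≠ 0) :
    ∃ a r : V, a ∈ U ∧ (∀ y ∈ U, h r y = 0) ∧ Full K (a + r) ∧ h (a + r) (a + r) = 0 ∧
      h r r ≠ 0 := by
  by_contra hcon
  have hcon : ∀ a r : V, a ∈ U → (∀ y ∈ U, h r y = 0) → Full K (a + r) →
      h (a + r) (a + r) = 0 → h r r = 0 :=
    fun a r h1 h2 h3 h4 => by
      by_contra h5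
      exact hcon ⟨a, r, h1, h2, h3, h4, h5⟩
  obtain ⟨τ, hτ0, hτ⟩ := exists_trace_zero hF
  have hiso : ∀ a r : V, a ∈ U → (∀ y ∈ U, h r y = 0) → Full K (a + r) → h (a + r) (a + r) = 0 →
      h a a = 0 := by
    intro a r ha hr hw hww
    have h1 := hcon a r ha hr hw hww
    rwa [h_add_left, h_add_right hF, h_add_right hF, hr a ha, h_comm_zero hF (hr a ha), h1,
      add_zero, add_zero, add_zero] at hww
  have haa₁ := hiso a₁ r₁ ha₁ hr₁ hw₁ hww₁
  have hrr₁ := hcon a₁ r₁ ha₁ hr₁ hw₁ hww₁
  obtain ⟨s, hs, hss, hrs⟩ := hsp r₁ hr0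
  obtain ⟨a₂, ha₂, r₂, rfl, hr₂⟩ := frame_split hF hU s
  rw [h_add_right hF, hr₁ a₂ ha₂, zero_add] at hrs
  -- the key relation
  have key : ∀ a r : V, a ∈ U → (∀ y ∈ U, h r y = 0) → Full K (a + r) → h (a + r) (a + r) = 0 →
      h a a₁ * h r₁ r = cj (h a a₁ * h r₁ r) := by
    intro a r ha hr hw hww
    have h2 := hw.move hF (hw₁ τ ((skew_iff hF τ).2 hτ))
    set γ := τ * h (a + r) (a₁ + r₁) with hγ
    rw [show a + r + γ • (a₁ + r₁) = (a + γ • a₁) + (r + γ • r₁) by module] at h2
    have h3 : h (a + γ • a₁ + (r + γ • r₁)) (a + γ • a₁ + (r + γ • r₁)) = 0 := by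
      rw [show a + γ • a₁ + (r + γ • r₁) = a + r + γ • (a₁ + r₁) by module, norm_line hF, hww,
        hww₁, hγ, map_mul, cj_h hF]
      linear_combination h (a + r) (a₁ + r₁) * h (a₁ + r₁) (a + r) * hτ
    have h4 := hcon _ _ (add_mem ha (U.smul_mem _ ha₁)) (fun y hy => by
      rw [h_add_left, h_smul_left, hr y hy, hr₁ y hy, mul_zero, add_zero]) h2 h3
    rw [h_add_left, h_add_right hF, h_add_right hF, h_smul_left, h_smul_left, h_smul_right hF,
      h_smul_right hF, hcon a r ha hr hw hww, hrr₁, hγ, map_mul, cj_h hF,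
      h_add_left, h_add_right hF, h_add_right hF, h_add_left, h_add_right hF, h_add_right hF,
      hr a₁ ha₁, h_comm_zero hF (hr₁ a ha), hr₁ a ha, h_comm_zero hF (hr a₁ ha₁)] at h4
    have e : cj (h a a₁ * h r₁ r) = h a₁ a * h r r₁ := by rw [map_mul, cj_h hF, cj_h hF]
    rw [e]
    refine mul_left_cancel₀ hτ0 ?_
    linear_combination h4 - (h a₁ a * h r r₁ + h r₁ r * h r r₁) * hτ
  -- a non-zero component in `U`
  obtain ⟨a₀, r₀, ha₀, hr₀, hw₀, hww₀, ha₀0, hrs₀⟩ : ∃ a r : V, a ∈ U ∧ (∀ y ∈ U, h r y = 0) ∧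
      Full K (a + r) ∧ h (a + r) (a + r) = 0 ∧ a ≠ 0 ∧ h r₁ r ≠ 0 := by
    rcases eq_or_ne a₂ 0 with h0 | h0
    · have h2 := hs.move hF (hw₁ τ ((skew_iff hF τ).2 hτ))
      set γ := τ * h (a₂ + r₂) (a₁ + r₁) with hγ
      rw [show a₂ + r₂ + γ • (a₁ + r₁) = (a₂ + γ • a₁) + (r₂ + γ • r₁) by module] at h2
      refine ⟨_, _, add_mem ha₂ (U.smul_mem _ ha₁), fun y hy => by
        rw [h_add_left, h_smul_left, hr₂ y hy, hr₁ y hy, mul_zero, add_zero], h2, ?_, ?_, ?_⟩
      · rw [show a₂ + γ • a₁ + (r₂ + γ • r₁) = a₂ + r₂ + γ • (a₁ + r₁) by module, norm_line hF, hss,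
          hww₁, hγ, map_mul, cj_h hF]
        linear_combination h (a₂ + r₂) (a₁ + r₁) * h (a₁ + r₁) (a₂ + r₂) * hτ
      · rw [h0, zero_add]
        refine smul_ne_zero (mul_ne_zero hτ0 ?_) ha0
        rw [h0, zero_add, h_add_right hF, hr₂ a₁ ha₁, zero_add]
        exact fun e => hrs (h_comm_zero hF e)
      · rw [h_add_right hF, h_smul_right hF, hrr₁, mul_zero, add_zero]
        exact hrs
    · exact ⟨a₂, r₂, ha₂, hr₂, hs, hss, h0, hrs⟩
  -- moving the component
  have move : ∀ a r : V, a ∈ U → (∀ y ∈ U, h r y = 0) → Full K (a + r) → h (a + r) (a + r) = 0 →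
      ∀ d ∈ U, h d d = 0 → (a + (τ * h a d) • d) ∈ U ∧
        Full K (a + (τ * h a d) • d + r) ∧
        h (a + (τ * h a d) • d + r) (a + (τ * h a d) • d + r) = 0 := by
    intro a r ha hr hw hww d hd hdd
    have h1 := hw.move hF (hP d hd hdd τ ((skew_iff hF τ).2 hτ))
    have e : h (a + r) d = h a d := by rw [h_add_left, hr d hd, add_zero]
    rw [e, add_right_comm] at h1
    refine ⟨add_mem ha (U.smul_mem _ hd), h1, ?_⟩
    rw [add_right_comm, norm_line hF, hww, hdd, e, ← cj_h hF (a + r) d, e, map_mul]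
    linear_combination (h a d * cj (h a d)) * hτ
  have haa₀ := hiso a₀ r₀ ha₀ hr₀ hw₀ hww₀
  obtain ⟨i, hi⟩ := exists_nonreal hF
  -- make the component non-orthogonal to `a₁`
  obtain ⟨a, ha, hw, hww, hκ⟩ : ∃ a ∈ U, Full K (a + r₀) ∧ h (a + r₀) (a + r₀) = 0 ∧ h a a₁ ≠ 0 := by
    by_cases h0 : h a₀ a₁ = 0
    swap
    · exact ⟨a₀, ha₀, hw₀, hww₀, h0⟩
    have hpartner : ∀ x ∈ U, x ≠ 0 → h x x = 0 → ∃ e ∈ U, h e e = 0 ∧ h x e ≠ 0 := by
      intro x hx hx0 hxx
      obtain ⟨y, hy, hyx⟩ : ∃ y ∈ U, h y x ≠ 0 := by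
        by_contra hc
        push Not at hc
        exact hx0 (frame_nd hF hU hx hc)
      set y' := (h y x)⁻¹ • y with hy'
      have h1 : h y' x = 1 := by rw [hy', h_smul_left, inv_mul_cancel₀ hyx]
      obtain ⟨z, hz⟩ := exists_trace_eq hF (a := -h y' y') (by rw [map_neg, cj_h_self hF])
      refine ⟨y' + z • x, add_mem (U.smul_mem _ hy) (U.smul_mem _ hx), ?_, ?_⟩
      · rw [norm_line hF, hxx, h1, ← cj_h hF y' x, h1, map_one]
        linear_combination hz
      · rw [h_add_right hF, h_smul_right hF z, hxx, mul_zero, add_zero, ← cj_h hF y' x, h1, map_one]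
        exact one_ne_zero
    obtain ⟨d, hd, hdd, hd0, hd1⟩ : ∃ d ∈ U, h d d = 0 ∧ h a₀ d ≠ 0 ∧ h a₁ d ≠ 0 := by
      obtain ⟨e, he, hee, hea⟩ := hpartner a₀ ha₀ ha₀0 haa₀
      obtain ⟨e', he', hee', hea'⟩ := hpartner a₁ ha₁ ha0 haa₁
      by_cases hA : h a₁ e = 0
      swap
      · exact ⟨e, he, hee, hea, hA⟩
      by_cases hB : h a₀ e' = 0
      swap
      · exact ⟨e', he', hee', hB, hea'⟩
      obtain ⟨β, hβ0, hβ⟩ : ∃ β : F, β ≠ 0 ∧ cj β * h e e' + β * h e' e = 0 := by
        rcases eq_or_ne (h e' e) 0 with h1 | h1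
        · exact ⟨1, one_ne_zero, by rw [h1, h_comm_zero hF h1]; ring⟩
        · refine ⟨τ / h e' e, div_ne_zero hτ0 h1, ?_⟩
          rw [map_div₀, cj_h hF, div_mul_cancel₀ _ h1,
            div_mul_cancel₀ _ (fun e0 => h1 (h_comm_zero hF e0))]
          linear_combination hτ
      refine ⟨e + β • e', add_mem he (U.smul_mem _ he'), ?_, ?_, ?_⟩
      · rw [h_add_left, h_add_right hF, h_add_right hF, h_smul_left, h_smul_left, h_smul_right hF,
          h_smul_right hF, hee, hee']
        linear_combination hβ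
      · rw [h_add_right hF, h_smul_right hF, hB, mul_zero, add_zero]; exact hea
      · rw [h_add_right hF, h_smul_right hF, hA, zero_add]
        exact mul_ne_zero ((map_ne_zero (qFrob hF)).2 hβ0) hea'
    obtain ⟨hm, h1, h2⟩ := move a₀ r₀ ha₀ hr₀ hw₀ hww₀ d hd hdd
    refine ⟨_, hm, h1, h2, ?_⟩
    rw [h_add_left, h_smul_left, h0, zero_add]
    exact mul_ne_zero (mul_ne_zero hτ0 hd0) fun e => hd1 (h_comm_zero hF e)
  -- an anisotropic vector orthogonal to both components
  have haa := hiso a r₀ ha hr₀ hw hww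
  have hk' : h a₁ a ≠ 0 := fun e => hκ (h_comm_zero hF e)
  -- projection away from `a` and `a₁`
  have hproj : ∀ x ∈ U, ∃ y ∈ U, x - y ∈ Submodule.span F {a, a₁} ∧ h y a = 0 ∧ h y a₁ = 0 := by
    intro x hx
    refine ⟨x - (h x a₁ / h a a₁) • a - (h x a / h a₁ a) • a₁,
      sub_mem (sub_mem hx (U.smul_mem _ ha)) (U.smul_mem _ ha₁), ?_, ?_, ?_⟩
    · rw [show x - (x - (h x a₁ / h a a₁) • a - (h x a / h a₁ a) • a₁) =
        (h x a₁ / h a a₁) • a + (h x a / h a₁ a) • a₁ by abel]
      exact add_mem (Submodule.smul_mem _ _ (Submodule.subset_span (by simp)))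
        (Submodule.smul_mem _ _ (Submodule.subset_span (by simp)))
    · rw [h_sub_left, h_sub_left, h_smul_left, h_smul_left, haa, div_mul_cancel₀ _ hk']; ring
    · rw [h_sub_left, h_sub_left, h_smul_left, h_smul_left, haa₁, div_mul_cancel₀ _ hκ]; ring
  obtain ⟨z, hz, hza, hza₁, hzz⟩ : ∃ z ∈ U, h z a = 0 ∧ h z a₁ = 0 ∧ h z z ≠ 0 := by
    by_contra hc
    push Not at hc
    have hle : U ≤ Submodule.span F {a, a₁} := fun x hx => by
      obtain ⟨y, hy, hxy, hya, hya₁⟩ := hproj x hx
      have hy0 : y = 0 := by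
        refine frame_nd hF hU hy fun y' hy' => ?_
        obtain ⟨t, ht, hyt, hta, hta₁⟩ := hproj y' hy'
        obtain ⟨α, β, hαβ⟩ := Submodule.mem_span_pair.1 hyt
        have e : y' = t + (α • a + β • a₁) := by rw [hαβ]; abel
        rw [e, h_add_left, h_add_left, h_smul_left, h_smul_left, h_comm_zero hF hya,
          h_comm_zero hF hya₁, mul_zero, mul_zero, add_zero, add_zero]
        have f0 := hc y hy hya hya₁
        have f1 := hc t ht hta hta₁
        have f2 := hc (t + y) (add_mem ht hy) (by rw [h_add_left, hta, hya, add_zero])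
          (by rw [h_add_left, hta₁, hya₁, add_zero])
        have f3 := hc (t + i • y) (add_mem ht (U.smul_mem _ hy))
          (by rw [h_add_left, h_smul_left, hta, hya, mul_zero, add_zero])
          (by rw [h_add_left, h_smul_left, hta₁, hya₁, mul_zero, add_zero])
        simp only [h_add_left, h_add_right hF, h_smul_left, h_smul_right hF, f0, f1] at f2 f3
        have : (cj i - i) * h t y = 0 := by linear_combination f3 - i * f2
        exact (mul_eq_zero.1 this).resolve_left (sub_ne_zero.2 hi)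
      rwa [hy0, sub_zero] at hxy
    classical
    have h1 := Submodule.finrank_mono hle
    have h2 : finrank F (Submodule.span F ({a, a₁} : Set V)) ≤ 2 :=
      (finrank_span_le_card ({a, a₁} : Set V)).trans (by simpa using Finset.card_le_two)
    omega
  -- the contradiction
  obtain ⟨π, hπ⟩ := exists_trace_eq hF (a := -h z z) (by rw [map_neg, cj_h_self hF])
  set d := (π / h a a₁) • a + a₁ + z with hd
  have hdU : d ∈ U := add_mem (add_mem (U.smul_mem _ ha) ha₁) hz
  have hdd : h d d = 0 := by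
    have e1 : h a₁ a = cj (h a a₁) := (cj_h hF a a₁).symm
    simp only [hd, h_add_left, h_add_right hF, h_smul_left, h_smul_right hF, haa, haa₁, hza, hza₁,
      h_comm_zero hF hza, h_comm_zero hF hza₁, e1, map_div₀,
      div_mul_cancel₀ _ ((map_ne_zero (qFrob hF)).2 hκ), div_mul_cancel₀ _ hκ, mul_zero, add_zero,
      zero_add]
    linear_combination hπ
  have had : h a d = h a a₁ := by
    rw [hd, h_add_right hF, h_add_right hF, h_smul_right hF, haa, h_comm_zero hF hza]; ring
  have hda₁ : h d a₁ = π := by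
    rw [hd, h_add_left, h_add_left, h_smul_left, haa₁, hza₁, div_mul_cancel₀ _ hκ]; ring
  obtain ⟨hm, h1, h2⟩ := move a r₀ ha hr₀ hw hww d hdU hdd
  have k1 := key a r₀ ha hr₀ hw hww
  have k2 := key _ r₀ hm hr₀ h1 h2
  rw [h_add_left, h_smul_left, had, hda₁] at k2
  simp only [map_mul, map_add] at k1 k2
  have hne : τ * (h a a₁ * h r₁ r₀) ≠ 0 := mul_ne_zero hτ0 (mul_ne_zero hκ hrs₀)
  have h0 : (τ * (h a a₁ * h r₁ r₀)) * (π + cj π) = 0 := by
    linear_combination k2 - k1 + τ * cj π * k1 + cj π * cj (h a a₁) * cj (h r₁ r₀) * hτ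
  rw [hπ, mul_neg, neg_eq_zero] at h0
  exact mul_ne_zero hne hzz h0

/-- Full centres along a connected spanning sequence generate `SU`. -/
theorem eq_top_of_full (hn : 3 ≤ n) (hnq : ¬ (n = 3 ∧ q = 2)) {x : ℕ → V} (hx : ∀ i, Full K (x i))
    (hxx : ∀ i, h (x i) (x i) = 0) (hb : ∀ i, h (x (i + 1)) (x i) ≠ 0)
    (hspan : Submodule.span F (Set.range x) = ⊤) {U₀ : Submodule F V} (hP₀ : PFull K U₀)
    (hF₀ : Frame q U₀) (hd₀ : 3 ≤ finrank F U₀) (hd₀' : 4 ≤ finrank F U₀ ∨ 3 ≤ q)
    (hx0 : x 0 ∈ U₀) : K = ⊤ := by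
  classical
  have hsp : ∀ y : V, y ≠ 0 → ∃ s, Full K s ∧ h s s = 0 ∧ h y s ≠ 0 := by
    intro y hy
    by_contra hcon
    push Not at hcon
    refine hy (eq_zero_of_h hF fun v => ?_)
    have hv : v ∈ Submodule.span F (Set.range x) := hspan ▸ Submodule.mem_top
    induction hv using Submodule.span_induction with
    | mem v hv => obtain ⟨i, rfl⟩ := hv; exact hcon _ (hx i) (hxx i)
    | zero => exact h_zero_right hF y
    | add a b _ _ iha ihb => rw [h_add_right hF, iha, ihb, add_zero]
    | smul c a _ ih => rw [h_smul_right hF, ih, mul_zero]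
  let T : Set (Submodule F V) := {U | U₀ ≤ U ∧ PFull K U ∧ Frame q U}
  have hTne : T.Nonempty := ⟨U₀, le_rfl, hP₀, hF₀⟩
  obtain ⟨U, hUT⟩ := (Set.toFinite T).exists_maximal hTne
  obtain ⟨⟨h0U, hP, hFr⟩, hmax⟩ := hUT
  have hd3 : 3 ≤ finrank F U := hd₀.trans (Submodule.finrank_mono h0U)
  have hd : 4 ≤ finrank F U ∨ 3 ≤ q :=
    hd₀'.imp (fun e => e.trans (Submodule.finrank_mono h0U)) id
  have hnoext : ∀ a r : V, a ∈ U → (∀ y ∈ U, h r y = 0) → Full K (a + r) →
      h (a + r) (a + r) = 0 → h r r = 0 := by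
    intro a r ha hr hw hww
    by_contra hrr
    have hmem : U ⊔ F ∙ r ∈ T := ⟨h0U.trans le_sup_left,
      pfull_extend hF hP hFr (Or.inr hd) (by omega) ha hr hw hww hrr, frame_sup hF hFr hr hrr⟩
    exact hrr (hr r (hmax hmem le_sup_left
      (Submodule.mem_sup_right (Submodule.mem_span_singleton_self r))))
  have hall : ∀ i, x i ∈ U := by
    intro i
    induction i with
    | zero => exact h0U hx0
    | succ i ih =>
      obtain ⟨a, ha, r, hxe, hr⟩ := frame_split hF hFr (x (i + 1))
      by_contra hi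
      have hr0 : r ≠ 0 := fun e => hi (by rw [hxe, e, add_zero]; exact ha)
      have ha0 : a ≠ 0 := fun e => hb i (by rw [hxe, e, zero_add]; exact hr _ ih)
      obtain ⟨a', r', ha', hr', hw', hww', hrr'⟩ := exists_aniso_residue hF hP hFr hd3 hsp ha hr
        (hxe ▸ hx (i + 1)) (hxe ▸ hxx (i + 1)) ha0 hr0
      exact hrr' (hnoext a' r' ha' hr' hw' hww')
  have htop : U = ⊤ := top_unique (hspan ▸ Submodule.span_le.2 (by rintro _ ⟨i, rfl⟩; exact hall i))
  set S : Set SUn := {s | ∃ v c, EOK (q := q) v 0 c ∧ suVal s = eMat q v 0 c}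
  have hSK : Subgroup.closure S ≤ K := by
    rw [Subgroup.closure_le]
    rintro s ⟨v, c, H, hs⟩
    obtain ⟨t, ht, htx⟩ := hP v (htop ▸ Submodule.mem_top) H.ee c (by
      have := H.cc
      rwa [h_zero_left, add_zero] at this)
    rwa [show s = t from su_ext fun z => by rw [htx, hs, tv_apply' hF]]
  have hS : ∀ (v : V) (c : F) (H : EOK (q := q) v 0 c), eSU hF H ∈ Subgroup.closure S :=
    fun v c H => Subgroup.subset_closure ⟨v, c, H, rfl⟩
  haveI hnor : (Subgroup.closure S).Normal := by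
    refine ⟨fun s hs g => ?_⟩
    induction hs using Subgroup.closure_induction with
    | mem s hs =>
      obtain ⟨v, c, H, hs⟩ := hs
      refine Subgroup.subset_closure ⟨suVal g *ᵥ v, c, ?_, ?_⟩
      · have := H.map (q := q) (su_pres g)
        rwa [Matrix.mulVec_zero] at this
      · refine Matrix.ext_iff_mulVec.2 fun z => ?_
        rw [mulVec_mul, mulVec_mul, hs, tv_apply' hF, tv_apply' hF, Matrix.mulVec_add,
          Matrix.mulVec_smul, (inv_apply g z).2]
        congr 3
        rw [← su_pres g, (inv_apply g z).2]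
    | one => simp
    | mul a b _ _ iha ihb => rw [← conj_mul]; exact mul_mem iha ihb
    | inv a _ iha => rw [← conj_inv]; exact inv_mem iha
  exact top_le_iff.1 ((RepDegSU.eq_top_of_transvections hF hnor hS hn hnq).ge.trans hSK)

end Cfsg.Agent.Lie.SUGen
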