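import Cfsg.Agent.Lib.Lie.UnitRegMain
import Cfsg.Agent.Lib.Lie.RegUnipSL3

/-!
Two opposite regular unipotent elements of `SU₃(q)` generate it as soon as the group they generate
contains an element fixing the first isotropic line and scaling its Heisenberg group by a generator
of the field.
-/

set_option autoImplicit false
set_option linter.unusedSectionVars false

namespace Cfsg.Agent.Lie.SUGen

open Matrix Module Cfsg.Agent.Classical Cfsg.Agent.Classical.PSUAut Cfsg.Agent.Fus.UnitN

variable {F : Type*} [Field F] [Fintype F] {q : ℕ}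

local notation "V" => (Fin 3 → F)
local notation "h" => hermForm 3 F q

/-- A hyperbolic pair with an orthogonal unit vector. -/
structure Frame3 (q : ℕ) (e n f : Fin 3 → F) : Prop where
  P : IsPair (q := q) e f
  ne : hermForm 3 F q n e = 0
  nf : hermForm 3 F q n f = 0
  nn : hermForm 3 F q n n = 1

/-- The vector with the given coordinates. -/
def co (e n f : Fin 3 → F) (x y z : F) : Fin 3 → F := x • e + y • n + z • f

/-- The conclusion: `u` and a conjugate generate. -/
def TwoGen (q : ℕ) : Prop :=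
  ∃ u g : SU 3 F q, (IsNilpotent (suVal u - 1) ∧ (suVal u - 1) ^ (3 - 1) ≠ 0) ∧
    Subgroup.closure ({u, g * u * g⁻¹} : Set (SU 3 F q)) = ⊤

variable (hF : Fintype.card F = q ^ 2)

local notation "cj" => qFrob hF

include hF

variable {e n f : Fin 3 → F}

theorem exists_frame : ∃ e n f : V, Frame3 q e n f := by
  obtain ⟨e, he, hee⟩ := exists_isotropic hF (n := 3) (by omega)
  obtain ⟨f, P⟩ := exists_pair hF he hee
  obtain ⟨u, hue, huf, huu⟩ := exists_aniso_orth hF (n := 3) le_rfl P
  obtain ⟨s, hs⟩ := exists_norm hF (a := (h u u)⁻¹) (by rw [map_inv₀, cj_h_self hF])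
  refine ⟨e, s • u, f, P, by rw [h_smul_left, hue, mul_zero], by rw [h_smul_left, huf, mul_zero], ?_⟩
  rw [h_smul_left, h_smul_right hF, ← mul_assoc, hs, inv_mul_cancel₀ huu]

variable (B : Frame3 q e n f)

include B

theorem Frame3.en : h e n = 0 := h_comm_zero hF B.ne
theorem Frame3.fn : h f n = 0 := h_comm_zero hF B.nf

theorem Frame3.h_co (x y z x' y' z' : F) :
    h (co e n f x y z) (co e n f x' y' z') = x * cj z' + y * cj y' + z * cj x' := by
  simp only [co, h_add_left, h_add_right hF, h_smul_left, h_smul_right hF, B.P.ee, B.P.ff, B.P.ef,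
    B.P.fe hF, B.ne, B.nf, B.nn, B.en hF, B.fn hF]
  ring

theorem Frame3.eok_e {α b : F} (hb : b + cj b + α * cj α = 0) :
    EOK (q := q) e (α • n) b :=
  ⟨B.P.ee, by rw [h_smul_left, B.ne, mul_zero], by
    rw [cj_pow hF, h_smul_left, h_smul_right hF, B.nn]; linear_combination hb⟩

theorem Frame3.eok_f {α d : F} (hd : d + cj d + α * cj α = 0) :
    EOK (q := q) f (α • n) d :=
  ⟨B.P.ff, by rw [h_smul_left, B.nf, mul_zero], by
    rw [cj_pow hF, h_smul_left, h_smul_right hF, B.nn]; linear_combination hd⟩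

theorem Frame3.act_e {α b : F} (H : EOK (q := q) e (α • n) b) (x y z : F) :
    suVal (eSU hF H) *ᵥ co e n f x y z =
      co e n f (x - cj α * y + b * z) (y + α * z) z := by
  rw [suVal_eSU, eMat_mulVec]
  simp only [co, h_add_left, h_smul_left, h_smul_right hF, B.P.ee, B.P.fe hF, B.ne, B.nn, B.en hF,
    B.fn hF]
  module

theorem Frame3.act_f {γ d : F} (H : EOK (q := q) f (γ • n) d) (x y z : F) :
    suVal (eSU hF H) *ᵥ co e n f x y z =
      co e n f x (y + γ * x) (z - cj γ * y + d * x) := by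
  rw [suVal_eSU, eMat_mulVec]
  simp only [co, h_add_left, h_smul_left, h_smul_right hF, B.P.ff, B.P.ef, B.nf, B.nn, B.en hF,
    B.fn hF]
  module

omit hF B in
theorem co_e : co e n f 1 0 0 = e := by simp [co]

omit hF B in
theorem co_n : co e n f 0 1 0 = n := by simp [co]

omit hF B in
theorem co_f : co e n f 0 0 1 = f := by simp [co]

omit hF B in
theorem smul_co (a x y z : F) : a • co e n f x y z = co e n f (a * x) (a * y) (a * z) := by
  simp [co, smul_add, smul_smul]

omit hF B in
theorem co_add (x y z x' y' z' : F) :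
    co e n f x y z + co e n f x' y' z' = co e n f (x + x') (y + y') (z + z') := by
  simp only [co]; module

/-- The commutation of two elements of the Heisenberg group of `e`. -/
theorem Frame3.swap_prod {γ γ' c c' : F} (H : EOK (q := q) e (γ • n) c)
    (H' : EOK (q := q) e (γ' • n) c') (H0 : EOK (q := q) e 0 (γ * cj γ' - γ' * cj γ)) :
    eSU hF H * eSU hF H' = eSU hF H0 * (eSU hF H' * eSU hF H) := by
  rw [eSU_mul hF, eSU_mul hF H' H, eSU_mul hF]
  refine eSU_congr hF _ _ (by rw [zero_add, add_comm]) ?_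
  rw [h_zero_right hF]
  simp only [h_smul_left, h_smul_right hF, B.nn]
  ring

theorem eok_skew {c : F} (hee : h e e = 0) (hc : c + cj c = 0) : EOK (q := q) e 0 c :=
  eOK_transvection hF hee hc

theorem exists_sub_cj {c : F} (hc : c + cj c = 0) : ∃ β : F, β - cj β = c := by
  obtain ⟨τ, hτ0, hτ⟩ := exists_trace_zero hF
  obtain ⟨w, hw⟩ := exists_trace_eq hF (a := c / τ) (by
    rw [map_div₀, show cj c = -c by linear_combination hc,
      show cj τ = -τ by linear_combination hτ, neg_div_neg_eq])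
  exact ⟨τ * w, by
    rw [map_mul, show cj τ = -τ by linear_combination hτ, neg_mul, sub_neg_eq_add, ← mul_add, hw,
      mul_div_cancel₀ _ hτ0]⟩

/-- An element of `SU` carrying `e` to `f` and negating `n`. -/
theorem Frame3.exists_w : ∃ s : SU 3 F q, suVal s *ᵥ e = f ∧ suVal s *ᵥ n = -n := by
  obtain ⟨γ, hγ⟩ := exists_norm hF (a := (-2 : F)) (by rw [map_neg, map_ofNat])
  have He := B.eok_e hF (α := -γ) (b := 1) (by rw [map_one, map_neg]; linear_combination hγ)
  have Hf := B.eok_f hF (α := γ) (d := 1) (by rw [map_one]; linear_combination hγ)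
  refine ⟨eSU hF He * eSU hF Hf * eSU hF He, ?_, ?_⟩
  · rw [mulVec_mul, show suVal (eSU hF He) *ᵥ e = suVal (eSU hF He) *ᵥ co e n f 1 0 0 by rw [co_e],
      ← mulVec_mul, mulVec_mul, mulVec_mul, B.act_e hF, B.act_f hF, B.act_e hF]
    conv_rhs => rw [← co_f (e := e) (n := n) (f := f)]
    simp only [map_neg]
    congr 1
    · linear_combination hγ
    · ring
    · ring
  · rw [mulVec_mul, show suVal (eSU hF He) *ᵥ n = suVal (eSU hF He) *ᵥ co e n f 0 1 0 by rw [co_n],
      ← mulVec_mul, mulVec_mul, mulVec_mul, B.act_e hF, B.act_f hF, B.act_e hF]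
    rw [show (-n : V) = co e n f 0 (-1) 0 by simp [co]]
    simp only [map_neg]
    congr 1
    · linear_combination (cj γ) * hγ
    · linear_combination hγ
    · ring

/-- Opposite elements with the same linear parameter (up to sign) are conjugate. -/
theorem Frame3.exists_conj {α b d : F} (hα : α ≠ 0) (H : EOK (q := q) e (α • n) b)
    (H' : EOK (q := q) f ((-α) • n) d) :
    ∃ g : SU 3 F q, g * eSU hF H * g⁻¹ = eSU hF H' := by
  have hb := H.cc
  have hd := H'.cc
  rw [cj_pow hF, h_smul_left, h_smul_right hF, B.nn] at hb hd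
  rw [map_neg] at hd
  have hα' : α * cj α ≠ 0 := mul_ne_zero hα ((map_ne_zero (qFrob hF)).2 hα)
  obtain ⟨ζ, hζ⟩ := exists_sub_cj hF B (c := (d - b) / (α * cj α)) (by
    rw [map_div₀, map_sub, cj_mul_conj hF, ← add_div]
    exact div_eq_zero_iff.2 (Or.inl (by linear_combination hd - hb)))
  obtain ⟨c, HX⟩ := EOK.exists_c hF (e := e) (w := (ζ * α) • n) B.P.ee
    (by rw [h_smul_left, B.ne, mul_zero])
  have hd1 : EOK (q := q) e (α • n) d := B.eok_e hF (by linear_combination hd)
  have hskew : ζ * α * cj α - α * cj (ζ * α) = d - b := by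
    rw [map_mul]
    linear_combination (α * cj α) * hζ + (mul_div_cancel₀ (d - b) hα')
  have H0 : EOK (q := q) e 0 (ζ * α * cj α - α * cj (ζ * α)) := eok_skew hF B B.P.ee (by
    rw [hskew, map_sub]; linear_combination hd - hb)
  have hX : eSU hF HX * eSU hF H * (eSU hF HX)⁻¹ = eSU hF hd1 := by
    rw [mul_inv_eq_iff_eq_mul, B.swap_prod hF HX H H0, ← mul_assoc, eSU_mul hF H0 H]
    congr 1
    refine eSU_congr hF _ _ (zero_add _) ?_
    rw [h_zero_right hF, hskew]
    ring
  obtain ⟨s, hse, hsn⟩ := B.exists_w hF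
  refine ⟨s * eSU hF HX, ?_⟩
  rw [show s * eSU hF HX * eSU hF H * (s * eSU hF HX)⁻¹ =
    s * (eSU hF HX * eSU hF H * (eSU hF HX)⁻¹) * s⁻¹ by group, hX]
  refine suVal_ext (Matrix.ext_iff_mulVec.2 fun x => ?_)
  rw [mulVec_mul, mulVec_mul, suVal_eSU, suVal_eSU, eMat_mulVec, eMat_mulVec, Matrix.mulVec_add,
    (inv_apply s x).2]
  have e1 : ∀ v : V, h (suVal s⁻¹ *ᵥ x) v = h x (suVal s *ᵥ v) := fun v => by
    conv_lhs => rw [← su_pres s, (inv_apply s x).2]
  simp only [Matrix.mulVec_add, Matrix.mulVec_sub, Matrix.mulVec_smul, e1, hse, hsn,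
    smul_neg, neg_smul]

/-- The conjugate of a Heisenberg element by an element fixing the line of `e`. -/
theorem Frame3.conj_scale {t : SU 3 F q} {μ ν x γ c : F} (hte : suVal t *ᵥ e = μ • e)
    (htn : suVal t *ᵥ n = ν • n + x • e) (H : EOK (q := q) e (γ • n) c) :
    ∃ (c' : F) (H' : EOK (q := q) e ((cj μ * ν * γ) • n) c'),
      t * eSU hF H * t⁻¹ = eSU hF H' := by
  have hμ : μ * cj μ * c + (μ * cj μ * c) ^ q + h ((cj μ * ν * γ) • n) ((cj μ * ν * γ) • n) = 0 := by
    have h1 := H.cc
    have h2 := su_pres t n n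
    rw [htn] at h2
    rw [cj_pow hF] at h1 ⊢
    simp only [h_add_left, h_add_right hF, h_smul_left, h_smul_right hF, B.nn, B.ne, B.en hF, B.P.ee] at h1 h2 ⊢
    simp only [map_mul, cj_cj hF]
    linear_combination (μ * cj μ) * h1 + (μ * cj μ * γ * cj γ) * h2
  have hc' : (μ * cj μ * c + cj μ * γ * x - μ * cj (γ * x)) +
      cj (μ * cj μ * c + cj μ * γ * x - μ * cj (γ * x)) +
      (cj μ * ν * γ) * cj (cj μ * ν * γ) = 0 := by
    rw [cj_pow hF, h_smul_left, h_smul_right hF, B.nn] at hμ
    simp only [map_add, map_sub, map_mul, cj_cj hF] at hμ ⊢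
    linear_combination hμ
  refine ⟨_, B.eok_e hF hc', suVal_ext (Matrix.ext_iff_mulVec.2 fun z => ?_)⟩
  rw [mulVec_mul, mulVec_mul, suVal_eSU, suVal_eSU, eMat_mulVec, eMat_mulVec, Matrix.mulVec_add,
    (inv_apply t z).2]
  have e1 : ∀ v : V, h (suVal t⁻¹ *ᵥ z) v = h z (suVal t *ᵥ v) := fun v => by
    conv_lhs => rw [← su_pres t, (inv_apply t z).2]
  simp only [Matrix.mulVec_add, Matrix.mulVec_sub, Matrix.mulVec_smul, e1, hte, htn, h_add_right hF,
    h_smul_right hF, map_mul, cj_cj hF]
  module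

/-- The parameters occurring in `K`. -/
def linSet (K : Subgroup (SU 3 F q)) (he : hermForm 3 F q n e = 0) (hee : hermForm 3 F q e e = 0) :
    AddSubgroup F where
  carrier := {γ | ∃ (c : F) (H : EOK (q := q) e (γ • n) c), eSU hF H ∈ K}
  zero_mem' := ⟨0, by rw [zero_smul]; exact EOK.zero hF hee, by
    rw [eSU_congr hF _ (EOK.zero hF hee) (zero_smul F n) rfl, eSU_zero hF hee]
    exact one_mem K⟩
  add_mem' := by
    rintro γ γ' ⟨c, H, hm⟩ ⟨c', H', hm'⟩
    have := mul_mem hm hm'
    rw [eSU_mul hF H H'] at this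
    exact ⟨_, by rw [_root_.add_smul]; exact H.mul hF H', by
      rwa [eSU_congr hF _ (H.mul hF H') (_root_.add_smul γ γ' n) rfl]⟩
  neg_mem' := by
    rintro γ ⟨c, H, hm⟩
    have h1 := H.cc
    rw [cj_pow hF] at h1
    have H' : EOK (q := q) e ((-γ) • n) (cj c) := by
      refine ⟨hee, by rw [h_smul_left, he, mul_zero], ?_⟩
      rw [cj_pow hF, cj_cj hF, neg_smul, h_neg_left, h_neg_right hF, neg_neg]
      linear_combination h1
    refine ⟨cj c, H', ?_⟩
    have e1 : eSU hF H * eSU hF H' = 1 := by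
      rw [eSU_mul hF, eSU_congr hF _ (EOK.zero hF hee) (by rw [neg_smul, add_neg_cancel]) ?_,
        eSU_zero hF hee]
      rw [neg_smul, h_neg_left, sub_neg_eq_add]
      linear_combination h1
    rw [← inv_eq_of_mul_eq_one_right e1]
    exact inv_mem hm

/-- The core: full Heisenberg group, hence everything. -/
theorem Frame3.eq_top (hq : 3 ≤ q) {α b d μ ν x : F} (hα : α ≠ 0)
    (H : EOK (q := q) e (α • n) b) (H' : EOK (q := q) f ((-α) • n) d)
    {K : Subgroup (SU 3 F q)} (hu : eSU hF H ∈ K) (hv : eSU hF H' ∈ K)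
    {t : SU 3 F q} (ht : t ∈ K) (hte : suVal t *ᵥ e = μ • e)
    (htn : suVal t *ᵥ n = ν • n + x • e)
    (hgen : ∀ M : Subfield F, cj μ * ν ∈ M → M = ⊤) : K = ⊤ := by
  have hA : ∀ γ, γ ∈ linSet hF K B.ne B.P.ee :=
    RegUnip.forall_mem_of_stable _ hα ⟨b, H, hu⟩ (fun γ hγ => by
      obtain ⟨c, Hc, hm⟩ := hγ
      obtain ⟨c', H'', he⟩ := B.conj_scale hF hte htn Hc
      exact ⟨c', H'', he ▸ mul_mem (mul_mem ht hm) (inv_mem ht)⟩) hgen
  have hfe : Full K e := by
    intro c0 hc0
    rw [skew_iff hF] at hc0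
    obtain ⟨β, hβ⟩ := exists_sub_cj hF B hc0
    obtain ⟨c1, H1, hm1⟩ := hA β
    obtain ⟨c2, H2, hm2⟩ := hA 1
    have e0 : β * cj (1 : F) - 1 * cj β = c0 := by rw [map_one]; linear_combination hβ
    have H0 : EOK (q := q) e 0 (β * cj (1 : F) - 1 * cj β) := eok_skew hF B B.P.ee (e0 ▸ hc0)
    have h1 := B.swap_prod hF H1 H2 H0
    refine ⟨eSU hF H0, ?_, fun z => by rw [suVal_eSU, tv_apply' hF, e0]⟩
    rw [eq_mul_inv_of_mul_eq h1.symm]
    exact mul_mem (mul_mem hm1 hm2) (inv_mem (mul_mem hm2 hm1))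
  have hd0 : d ≠ 0 := fun h0 => by
    have h1 := H'.cc
    rw [h0, zero_pow (by omega), h_smul_left, h_smul_right hF, B.nn, add_zero, zero_add, map_neg] at h1
    exact mul_ne_zero hα ((map_ne_zero (qFrob hF)).2 hα) (by linear_combination h1)
  set v₁ := suVal (eSU hF H') *ᵥ e with hv₁
  set v₂ := suVal (eSU hF H) *ᵥ v₁ with hv₂
  have ev1 : v₁ = co e n f 1 (-α) d := by
    rw [hv₁, show suVal (eSU hF H') *ᵥ e = suVal (eSU hF H') *ᵥ co e n f 1 0 0 by rw [co_e],
      B.act_f hF]; congr 1 <;> ring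
  have ev2 : v₂ = co e n f (1 + cj α * α + b * d) (-α + α * d) d := by
    rw [hv₂, ev1, B.act_e hF]; congr 1; ring
  have hf1 : Full K v₁ := hfe.conj hF hv
  have hf2 : Full K v₂ := hf1.conj hF hu
  have i1 : h v₁ v₁ = 0 := by rw [hv₁, su_pres, B.P.ee]
  have i2 : h v₂ v₂ = 0 := by rw [hv₂, su_pres, i1]
  have ee' : e = co e n f 1 0 0 := co_e.symm
  have p1 : h v₁ e ≠ 0 := by
    rw [ev1]; nth_rw 2 [ee']
    rw [B.h_co hF]; simpa using hd0
  have p2 : h v₂ e ≠ 0 := by
    rw [ev2]; nth_rw 2 [ee']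
    rw [B.h_co hF]; simpa using hd0
  have p1' : h e v₁ ≠ 0 := fun h0 => p1 (h_comm_zero hF h0)
  have p2' : h e v₂ ≠ 0 := fun h0 => p2 (h_comm_zero hF h0)
  have hP := pfull_plane hF hfe hf1 B.P.ee i1 p1'
  have hFr := frame_plane hF B.P.ee i1 p1'
  have hd2 := finrank_plane hF B.P.ee i1 p1'
  -- the orthogonal vector of the plane
  set z := co e n f (cj α / cj d) 1 0 with hz
  have hze : h z e = 0 := by
    rw [hz]; nth_rw 2 [ee']
    rw [B.h_co hF]; simp
  have hzv : h z v₁ = 0 := by
    rw [hz, ev1, B.h_co hF, div_mul_cancel₀ _ ((map_ne_zero (qFrob hF)).2 hd0), map_neg]; ring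
  have hzy : ∀ y ∈ Submodule.span F {e, v₁}, h z y = 0 := fun y hy => by
    obtain ⟨a₁, a₂, rfl⟩ := Submodule.mem_span_pair.1 hy
    rw [h_add_right hF, h_smul_right hF, h_smul_right hF, hze, hzv, mul_zero, mul_zero, add_zero]
  have hzz : h z z = 1 := by rw [hz, B.h_co hF]; simp
  set r := (α * d) • z with hr
  have hrr : h r r ≠ 0 := by
    rw [hr, h_smul_left, h_smul_right hF, hzz, mul_one]
    exact mul_ne_zero (mul_ne_zero hα hd0) ((map_ne_zero (qFrob hF)).2 (mul_ne_zero hα hd0))
  have hry : ∀ y ∈ Submodule.span F {e, v₁}, h r y = 0 := fun y hy => by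
    rw [hr, h_smul_left, hzy y hy, mul_zero]
  set a := (cj α * α + b * d - α * d * (cj α / cj d)) • e + v₁ with ha
  have ham : a ∈ Submodule.span F {e, v₁} :=
    add_mem (Submodule.smul_mem _ _ (Submodule.subset_span (by simp))) (Submodule.subset_span (by simp))
  have har : v₂ = a + r := by
    rw [ha, hr, hz, ev1, ev2, smul_co]
    nth_rw 2 [ee']
    rw [smul_co, co_add, co_add]
    congr 1 <;> ring
  have hP' := pfull_extend hF hP hFr (Or.inr (Or.inr hq)) hd2 ham hry (har ▸ hf2) (har ▸ i2) hrr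
  have hd3 := finrank_sup hF hry hrr
  have hspan : Submodule.span F {e, v₁} ⊔ F ∙ r = ⊤ := by
    refine Submodule.eq_top_of_finrank_eq (le_antisymm (Submodule.finrank_le _) ?_)
    rw [Module.finrank_pi, Fintype.card_fin]; omega
  let xs : ℕ → V := fun i => if i % 2 = 0 then e else if i % 4 = 1 then v₁ else v₂
  refine eq_top_of_full hF le_rfl (by omega) (x := xs) (fun i => ?_) (fun i => ?_) (fun i => ?_) ?_
    hP' (frame_sup hF hFr hry hrr) (by omega) (Or.inr hq)
    (Submodule.mem_sup_left (Submodule.subset_span (by simp [xs])))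
  · simp only [xs]; split_ifs <;> assumption
  · simp only [xs]; split_ifs
    · exact B.P.ee
    · exact i1
    · exact i2
  · simp only [xs]
    by_cases hi : i % 2 = 0
    · rw [if_pos hi, if_neg (by omega)]; split_ifs <;> assumption
    · rw [if_neg hi, if_pos (by omega)]; split_ifs <;> assumption
  · rw [eq_top_iff, ← hspan, sup_le_iff, Submodule.span_le]
    have m0 : e ∈ Submodule.span F (Set.range xs) := Submodule.subset_span ⟨0, rfl⟩
    have m1 : v₁ ∈ Submodule.span F (Set.range xs) := Submodule.subset_span ⟨1, rfl⟩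
    have m2 : v₂ ∈ Submodule.span F (Set.range xs) := Submodule.subset_span ⟨3, rfl⟩
    refine ⟨?_, ?_⟩
    · rintro y (rfl | rfl) <;> assumption
    · rw [Submodule.span_singleton_le_iff_mem, show r = v₂ - a by rw [har]; abel]
      exact sub_mem m2 (add_mem (Submodule.smul_mem _ _ m0) m1)

/-- From data to the conclusion. -/
theorem Frame3.twoGen (hq : 3 ≤ q) {α b d μ ν x : F} (hα : α ≠ 0)
    (H : EOK (q := q) e (α • n) b) (H' : EOK (q := q) f ((-α) • n) d)
    {t : SU 3 F q} (ht : t ∈ Subgroup.closure ({eSU hF H, eSU hF H'} : Set (SU 3 F q)))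
    (hte : suVal t *ᵥ e = μ • e) (htn : suVal t *ᵥ n = ν • n + x • e)
    (hgen : ∀ M : Subfield F, cj μ * ν ∈ M → M = ⊤) : TwoGen (F := F) q := by
  obtain ⟨g, hg⟩ := B.exists_conj hF hα H H'
  have hnu : ∀ x y z : F, (suVal (eSU hF H) - 1) *ᵥ co e n f x y z =
      co e n f (-(cj α * y) + b * z) (α * z) 0 := fun x y z => by
    rw [Matrix.sub_mulVec, Matrix.one_mulVec, B.act_e hF]
    simp only [co]; module
  refine ⟨eSU hF H, g, ⟨⟨3, ?_⟩, ?_⟩, ?_⟩
  · refine Matrix.ext_iff_mulVec.2 fun y => ?_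
    rw [Matrix.zero_mulVec]
    have hy : ∃ a b c, y = co e n f a b c := by
      have hw : wPart (q := q) e f y - h y n • n = 0 := by
        obtain ⟨hwe, hwf⟩ := wPart_orth hF B.P y
        have hwn : h (wPart (q := q) e f y) n = h y n := by
          rw [wPart, h_sub_left, h_add_left, h_smul_left, h_smul_left, B.en hF, B.fn hF]; ring
        set r := wPart (q := q) e f y - h y n • n
        have hre : h r e = 0 := by rw [h_sub_left, h_smul_left, hwe, B.ne]; ring
        have hrf : h r f = 0 := by rw [h_sub_left, h_smul_left, hwf, B.nf]; ring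
        have hrn : h r n = 0 := by rw [h_sub_left, h_smul_left, hwn, B.nn]; ring
        have hli : LinearIndependent F ![e, n, f] := by
          rw [Fintype.linearIndependent_iff]
          intro g hg
          have h0 : co e n f (g 0) (g 1) (g 2) = 0 := by
            simpa [Fin.sum_univ_three, co] using hg
          have k0 := congrArg (fun v => h v f) h0
          have k1 := congrArg (fun v => h v n) h0
          have k2 := congrArg (fun v => h v e) h0
          simp only [co, h_add_left, h_smul_left, h_zero_left, B.P.ee, B.P.ef, B.P.ff, B.P.fe hF,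
            B.ne, B.nf, B.nn, B.en hF, B.fn hF, mul_zero, mul_one, add_zero, zero_add] at k0 k1 k2
          exact fun i => by fin_cases i <;> assumption
        have hsp := hli.span_eq_top_of_card_eq_finrank (by simp)
        refine eq_zero_of_h hF fun v => ?_
        have hv : v ∈ Submodule.span F (Set.range ![e, n, f]) := hsp ▸ Submodule.mem_top
        induction hv using Submodule.span_induction with
        | mem v hv => obtain ⟨i, rfl⟩ := hv; fin_cases i <;> assumption
        | zero => exact h_zero_right hF r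
        | add a b _ _ iha ihb => rw [h_add_right hF, iha, ihb, add_zero]
        | smul c a _ ih => rw [h_smul_right hF, ih, mul_zero]
      refine ⟨h y f, h y n, h y e, ?_⟩
      conv_lhs => rw [wPart_eq (q := q) e f y, sub_eq_zero.1 hw]
      simp only [co]; module
    obtain ⟨a, b', c, rfl⟩ := hy
    rw [pow_succ, pow_two, ← Matrix.mulVec_mulVec, ← Matrix.mulVec_mulVec, hnu, hnu, hnu]
    simp [co]
  · intro h0
    have h1 := congrArg (· *ᵥ co e n f 0 0 1) h0
    simp only [Matrix.zero_mulVec, show (3 - 1 : ℕ) = 2 from rfl, pow_two] at h1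
    rw [← Matrix.mulVec_mulVec, hnu, hnu] at h1
    have h2 := congrArg (fun v => h v f) h1
    simp only [co, h_add_left, h_smul_left, h_zero_left, B.P.ef, B.nf, B.P.ff] at h2
    exact mul_ne_zero hα ((map_ne_zero (qFrob hF)).2 hα) (by linear_combination -h2)
  · refine B.eq_top hF hq hα H H' (Subgroup.subset_closure (by simp)) ?_ ?_ hte htn hgen
    · rw [← hg]; exact Subgroup.subset_closure (by simp)
    · rw [hg]; exact ht

end Cfsg.Agent.Lie.SUGen
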