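import Cfsg.Agent.Lib.Lie.UnitTwoGenCore

/-!
`SU₃(5)` and `SU₃(8)` are generated by two conjugate regular unipotent elements: certificates for a
word in the two generators fixing an isotropic line and scaling its Heisenberg group by a generator
of the field.
-/

set_option autoImplicit false
set_option linter.unusedSectionVars false

namespace Cfsg.Agent.Lie.SUGen

open Matrix Module Cfsg.Agent.Classical Cfsg.Agent.Classical.PSUAut Cfsg.Agent.Fus.UnitN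

variable {F : Type*} [Field F] [Fintype F] {q : ℕ}

local notation "h" => hermForm 3 F q

variable (hF : Fintype.card F = q ^ 2)

local notation "cj" => qFrob hF

include hF

variable {e n f : Fin 3 → F}

omit hF in
theorem img_e {g : SU 3 F q} : suVal g *ᵥ e = suVal g *ᵥ co e n f 1 0 0 := by rw [co_e]

omit hF in
theorem img_n {g : SU 3 F q} : suVal g *ᵥ n = suVal g *ᵥ co e n f 0 1 0 := by rw [co_n]

section steps
variable (B : Frame3 q e n f) {α b ca cb : F}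

include B

theorem Frame3.step_u (H : EOK (q := q) e (α • n) b) (hα : cj α = ca) (_hb : cj b = cb)
    (x y z x' y' z' : F) (h1 : x - ca * y + b * z = x') (h2 : y + α * z = y') (h3 : z = z') :
    suVal (eSU hF H) *ᵥ co e n f x y z = co e n f x' y' z' := by
  rw [B.act_e hF, hα, h1, h2, h3]

theorem Frame3.step_v (H : EOK (q := q) f ((-α) • n) b) (hα : cj α = ca) (_hb : cj b = cb)
    (x y z x' y' z' : F) (h1 : x = x') (h2 : y - α * x = y') (h3 : z + ca * y + b * x = z') :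
    suVal (eSU hF H) *ᵥ co e n f x y z = co e n f x' y' z' := by
  rw [B.act_f hF, map_neg, hα, ← h1, ← h2, ← h3]
  congr 1 <;> ring

theorem Frame3.trace_rel (H : EOK (q := q) e (α • n) b) (hα : cj α = ca) (hb : cj b = cb) :
    b + cb + α * ca = 0 := by
  have := H.cc
  rw [cj_pow hF, h_smul_left, h_smul_right hF, B.nn, hb, hα] at this
  linear_combination this

theorem Frame3.step_u_inv (H : EOK (q := q) e (α • n) b) (hα : cj α = ca) (hb : cj b = cb)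
    (x y z x' y' z' : F) (h1 : x + ca * y + cb * z = x') (h2 : y - α * z = y') (h3 : z = z') :
    suVal (eSU hF H)⁻¹ *ᵥ co e n f x y z = co e n f x' y' z' := by
  have h0 := B.trace_rel hF H hα hb
  have e1 : suVal (eSU hF H) *ᵥ co e n f x' y' z' = co e n f x y z := by
    rw [B.act_e hF, hα, ← h1, ← h2, ← h3]
    congr 1
    · linear_combination z * h0
    · ring
  rw [← e1, (inv_apply _ _).1]

theorem Frame3.step_v_inv (H : EOK (q := q) f ((-α) • n) b) (hα : cj α = ca) (hb : cj b = cb)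
    (x y z x' y' z' : F) (h1 : x = x') (h2 : y + α * x = y') (h3 : z - ca * y + cb * x = z') :
    suVal (eSU hF H)⁻¹ *ᵥ co e n f x y z = co e n f x' y' z' := by
  have h0 : b + cb + α * ca = 0 := by
    have := H.cc
    rw [cj_pow hF, h_smul_left, h_smul_right hF, B.nn, map_neg, hb, hα] at this
    linear_combination this
  have e1 : suVal (eSU hF H) *ᵥ co e n f x' y' z' = co e n f x y z := by
    rw [B.act_f hF, map_neg, hα, ← h1, ← h2, ← h3]
    congr 1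
    · ring
    · linear_combination x * h0
  rw [← e1, (inv_apply _ _).1]

end steps

theorem pow_card_self (M : Subfield F) {x : F} (hx : x ∈ M) : x ^ Nat.card M = x := by
  haveI : Fintype M := Fintype.ofFinite M
  rw [Nat.card_eq_fintype_card]
  exact congrArg Subtype.val (FiniteField.pow_card (⟨x, hx⟩ : M))

theorem card_pow_eq (M : Subfield F) : (∃ k, Nat.card M ^ k = q ^ 2) ∧
    (Nat.card M = q ^ 2 → M = ⊤) := by
  constructor
  · exact ⟨_, by rw [← hF, ← Nat.card_eq_fintype_card]; exact (Module.natCard_eq_pow_finrank (K := M)).symm⟩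
  · intro hc
    refine SetLike.ext fun x => iff_of_true ?_ (Subfield.mem_top x)
    have hbij := (Nat.bijective_iff_injective_and_card (Subtype.val : M → F)).2
      ⟨Subtype.val_injective, by rw [hc, Nat.card_eq_fintype_card, hF]⟩
    obtain ⟨y, rfl⟩ := hbij.2 x
    exact y.2

theorem eq_top_of_small5 (hq : q = 5) (M : Subfield F) {x : F} (hx : x ∈ M)
    (h1 : x ^ 5 ≠ x) : M = ⊤ := by
  obtain ⟨⟨k, hk⟩, ht⟩ := card_pow_eq hF M
  subst hq
  obtain ⟨i, hi, he⟩ := (Nat.dvd_prime_pow (by norm_num : Nat.Prime 5)).1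
    (hk ▸ dvd_pow_self (Nat.card M) (by rintro rfl; norm_num at hk) : Nat.card M ∣ 5 ^ 2)
  have h2 : 1 < Nat.card M := Finite.one_lt_card
  have hp := pow_card_self hF M hx
  interval_cases i
  · omega
  · rw [he] at hp; exact absurd (by simpa using hp) h1
  · exact ht he

theorem eq_top_of_small8 (hq : q = 8) (M : Subfield F) {x : F} (hx : x ∈ M)
    (h1 : x ^ 4 ≠ x) (h2 : x ^ 8 ≠ x) : M = ⊤ := by
  obtain ⟨⟨k, hk⟩, ht⟩ := card_pow_eq hF M
  subst hq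
  have hd : Nat.card M ∣ 2 ^ 6 := by
    have := dvd_pow_self (Nat.card M) (n := k) (by rintro rfl; norm_num at hk)
    rw [hk] at this; simpa using this
  obtain ⟨i, hi, he⟩ := (Nat.dvd_prime_pow Nat.prime_two).1 hd
  have h3 : 1 < Nat.card M := Finite.one_lt_card
  have hp := pow_card_self hF M hx
  rw [he] at hp h3
  interval_cases i
  · omega
  · norm_num at hp
    exact absurd (by rw [show x ^ 4 = (x ^ 2) ^ 2 by ring, hp, hp]) h1
  · exact absurd (by simpa using hp) h1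
  · exact absurd (by simpa using hp) h2
  · norm_num at hk; rw [he] at hk
    rcases k with _ | _ | k <;> simp [pow_succ] at hk
    have : 16 * 16 ≤ 64 := by
      calc 16 * 16 ≤ 16 ^ k * 16 * 16 := by
            rw [mul_assoc]; exact Nat.le_mul_of_pos_left _ (by positivity)
        _ = 64 := hk
    omega
  · norm_num at hk; rw [he] at hk
    rcases k with _ | _ | k <;> simp [pow_succ] at hk
    have : 32 * 32 ≤ 64 := by
      calc 32 * 32 ≤ 32 ^ k * 32 * 32 := by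
            rw [mul_assoc]; exact Nat.le_mul_of_pos_left _ (by positivity)
        _ = 64 := hk
    omega
  · exact ht (by rw [he]; norm_num)

set_option maxHeartbeats 1000000 in
/-- The case `q = 5`. -/
theorem twoGen_five (hq : q = 5) : TwoGen (F := F) q := by
  obtain ⟨e, n, f, B⟩ := exists_frame hF
  obtain ⟨p, hchar⟩ := CharP.exists F
  have h25 : Fintype.card F = 25 := by rw [hF, hq]; norm_num
  have h5 : (5 : F) = 0 := by
    have hh := FiniteField.cast_card_eq_zero F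
    rw [h25] at hh
    push_cast at hh
    exact pow_eq_zero_iff two_ne_zero |>.1 (by linear_combination hh : (5 : F) ^ 2 = 0)
  obtain ⟨ω, hω, hcω⟩ : ∃ ω : F, ω ^ 2 - ω - 3 = 0 ∧ cj ω = 1 - ω := by
    have h2 : ringChar F ≠ 2 := fun hc => by
      have := FiniteField.even_card_iff_char_two.1 hc
      omega
    have h30 : (3 : F) ≠ 0 := fun h0 => one_ne_zero (α := F) (by linear_combination 2 * h0 - h5)
    obtain ⟨s, hs⟩ := (FiniteField.isSquare_iff h2 h30).2 (by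
      rw [h25]; show (3 : F) ^ 12 = 1
      linear_combination (106288 : F) * h5)
    refine ⟨3 * (1 + s), ?_, ?_⟩
    · linear_combination -9 * hs + (6 + 3 * s) * h5
    · rw [map_mul, map_add, map_one, map_ofNat, ← cj_pow hF, hq]
      linear_combination (-(3 * s ^ 3) - 9 * s) * hs + (1 + 6 * s) * h5
  have hcα : cj (ω : F) = (1 + 4 * ω : F) := by
    simp only [map_add, map_mul, map_pow, map_ofNat, map_one, hcω]
    linear_combination (-ω : F) * h5
  have hcb : cj (3 * ω : F) = (3 + 2 * ω : F) := by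
    simp only [map_add, map_mul, map_pow, map_ofNat, map_one, hcω]
    linear_combination (-ω : F) * h5
  have hb : (3 * ω : F) + cj (3 * ω : F) + (ω : F) * cj (ω : F) = 0 := by
    rw [hcb, hcα]; linear_combination (4 : F) * hω + (3 + 2 * ω : F) * h5
  have H := B.eok_e hF hb
  have H' := B.eok_f hF (α := -(ω : F)) (d := (3 * ω : F)) (by rw [map_neg]; linear_combination hb)
  have se0 := B.step_v hF H' hcα hcb (1 : F) (0 : F) (0 : F) (1 : F) (4 * ω : F) (3 * ω : F)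
    (by ring)
    (by linear_combination (-ω : F) * h5)
    (by ring)
  have se1 := B.step_u_inv hF H hcα hcb (1 : F) (4 * ω : F) (3 * ω : F) (2 : F) (1 + ω : F) (3 * ω : F)
    (by linear_combination (22 : F) * hω + (13 + 7 * ω : F) * h5)
    (by linear_combination (-3 : F) * hω + (-2 : F) * h5)
    (by ring)
  have se2 := B.step_v hF H' hcα hcb (2 : F) (1 + ω : F) (3 * ω : F) (2 : F) (1 + 4 * ω : F) (3 + 3 * ω : F)
    (by ring)
    (by linear_combination (-ω : F) * h5)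
    (by linear_combination (4 : F) * hω + (2 + 3 * ω : F) * h5)
  have se3 := B.step_v hF H' hcα hcb (2 : F) (1 + 4 * ω : F) (3 + 3 * ω : F) (2 : F) (1 + 2 * ω : F) (2 + 3 * ω : F)
    (by ring)
    (by ring)
    (by linear_combination (16 : F) * hω + (10 + 6 * ω : F) * h5)
  have se4 := B.step_u_inv hF H hcα hcb (2 : F) (1 + 2 * ω : F) (2 + 3 * ω : F) (1 + 3 * ω : F) (2 + 2 * ω : F) (2 + 3 * ω : F)
    (by linear_combination (14 : F) * hω + (10 + 6 * ω : F) * h5)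
    (by linear_combination (-3 : F) * hω + (-2 - ω : F) * h5)
    (by ring)
  have se5 := B.step_v_inv hF H' hcα hcb (1 + 3 * ω : F) (2 + 2 * ω : F) (2 + 3 * ω : F) (1 + 3 * ω : F) (1 + ω : F) (2 + 2 * ω : F)
    (by ring)
    (by linear_combination (3 : F) * hω + (2 + ω : F) * h5)
    (by linear_combination (-2 : F) * hω + (-1 : F) * h5)
  have se6 := B.step_v_inv hF H' hcα hcb (1 + 3 * ω : F) (1 + ω : F) (2 + 2 * ω : F) (1 + 3 * ω : F) (0 : F) (0 : F)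
    (by ring)
    (by linear_combination (3 : F) * hω + (2 + ω : F) * h5)
    (by linear_combination (2 : F) * hω + (2 + 2 * ω : F) * h5)
  have sn0 := B.step_v hF H' hcα hcb (0 : F) (1 : F) (0 : F) (0 : F) (1 : F) (1 + 4 * ω : F)
    (by ring)
    (by ring)
    (by ring)
  have sn1 := B.step_u_inv hF H hcα hcb (0 : F) (1 : F) (1 + 4 * ω : F) (3 + ω : F) (4 : F) (1 + 4 * ω : F)
    (by linear_combination (8 : F) * hω + (5 + 5 * ω : F) * h5)
    (by linear_combination (-4 : F) * hω + (-3 - ω : F) * h5)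
    (by ring)
  have sn2 := B.step_v hF H' hcα hcb (3 + ω : F) (4 : F) (1 + 4 * ω : F) (3 + ω : F) (1 + ω : F) (4 + 2 * ω : F)
    (by ring)
    (by linear_combination (-1 : F) * hω + (-ω : F) * h5)
    (by linear_combination (3 : F) * hω + (2 + 6 * ω : F) * h5)
  have sn3 := B.step_v hF H' hcα hcb (3 + ω : F) (1 + ω : F) (4 + 2 * ω : F) (3 + ω : F) (3 + 2 * ω : F) (1 + 3 * ω : F)
    (by ring)
    (by linear_combination (-1 : F) * hω + (-1 - ω : F) * h5)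
    (by linear_combination (7 : F) * hω + (5 + 4 * ω : F) * h5)
  have sn4 := B.step_u_inv hF H hcα hcb (3 + ω : F) (3 + 2 * ω : F) (1 + 3 * ω : F) (1 : F) (4 + 3 * ω : F) (1 + 3 * ω : F)
    (by linear_combination (14 : F) * hω + (10 + 8 * ω : F) * h5)
    (by linear_combination (-3 : F) * hω + (-2 - ω : F) * h5)
    (by ring)
  have sn5 := B.step_v_inv hF H' hcα hcb (1 : F) (4 + 3 * ω : F) (1 + 3 * ω : F) (1 : F) (4 + 4 * ω : F) (4 + 4 * ω : F)
    (by ring)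
    (by ring)
    (by linear_combination (-12 : F) * hω + (-8 - 6 * ω : F) * h5)
  have sn6 := B.step_v_inv hF H' hcα hcb (1 : F) (4 + 4 * ω : F) (4 + 4 * ω : F) (1 : F) (4 : F) (0 : F)
    (by ring)
    (by linear_combination (ω : F) * h5)
    (by linear_combination (-16 : F) * hω + (-9 - 6 * ω : F) * h5)
  refine B.twoGen hF (by omega) (μ := (1 + 3 * ω : F)) (ν := (4 : F)) (x := (1 : F)) ?_ H H'
    (t := (eSU hF H')⁻¹ * (eSU hF H')⁻¹ * (eSU hF H)⁻¹ * eSU hF H' * eSU hF H' * (eSU hF H)⁻¹ * eSU hF H') ?_ ?_ ?_ ?_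
  · intro h0
    refine one_ne_zero (α := F) ?_
    have h1 : (ω : F) * (3 + 2 * ω : F) = 1 := by linear_combination (2 : F) * hω + (1 + ω : F) * h5
    rw [← h1, h0, zero_mul]
  · have hu := Subgroup.subset_closure (G := SU 3 F q) (Set.mem_insert (eSU hF H) {eSU hF H'})
    have hv := Subgroup.subset_closure (G := SU 3 F q) (Set.mem_insert_of_mem (eSU hF H) (Set.mem_singleton (eSU hF H')))
    repeat' apply Subgroup.mul_mem
    all_goals first | exact hu | exact hv | exact Subgroup.inv_mem _ hu | exact Subgroup.inv_mem _ hv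
  · refine (img_e (n := n) (f := f)).trans ?_
    simp only [mulVec_mul]
    rw [se0, se1, se2, se3, se4, se5, se6]
    simp only [co]; module
  · refine (img_n (e := e) (f := f)).trans ?_
    simp only [mulVec_mul]
    rw [sn0, sn1, sn2, sn3, sn4, sn5, sn6]
    simp only [co]; module
  · intro M hM
    have hφ : cj (1 + 3 * ω : F) * (4 : F) = (1 + 3 * ω : F) := by
      simp only [map_add, map_mul, map_pow, map_ofNat, map_one, hcω]
      linear_combination (3 - 3 * ω : F) * h5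
    rw [hφ] at hM
    refine eq_top_of_small5 hF hq M hM ?_
    · intro h0
      refine one_ne_zero (α := F) ?_
      have h1 : ((1 + 3 * ω : F) ^ 5 - (1 + 3 * ω : F)) * (4 + 2 * ω : F) = 1 := by linear_combination (31992 + 13950 * ω + 5886 * ω ^ 2 + 2268 * ω ^ 3 + 486 * ω ^ 4 : F) * hω + (19195 + 14778 * ω : F) * h5
      rw [← h1, h0, sub_self, zero_mul]

set_option maxHeartbeats 1000000 in
/-- The case `q = 8`. -/
theorem twoGen_eight (hq : q = 8) : TwoGen (F := F) q := by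
  obtain ⟨e, n, f, B⟩ := exists_frame hF
  have h2 : (2 : F) = 0 := by
    have hh := FiniteField.cast_card_eq_zero F
    rw [show Fintype.card F = 2 ^ 6 by rw [hF, hq]; norm_num] at hh
    push_cast at hh
    exact (pow_eq_zero_iff (n := 6) (by norm_num)).1 (by linear_combination hh : (2 : F) ^ 6 = 0)
  obtain ⟨g, hg0, hord, -⟩ := exists_prim hF
  have h63 : g ^ 63 = 1 := by
    have := FiniteField.pow_card_sub_one_eq_one g hg0
    rwa [hF, hq] at this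
  obtain ⟨ω, hω, hcω⟩ : ∃ ω : F, ω ^ 2 + ω + 1 = 0 ∧ cj ω = -1 - ω := by
    have h3 : g ^ 21 - 1 ≠ 0 := fun h0 => by
      have := Nat.le_of_dvd (by omega) (hord 21 (sub_eq_zero.1 h0))
      rw [hq] at this; omega
    have hω : (g ^ 21) ^ 2 + g ^ 21 + 1 = 0 :=
      (mul_eq_zero.1 (by linear_combination h63 : (g ^ 21 - 1) * ((g ^ 21) ^ 2 + g ^ 21 + 1) = 0)).resolve_left h3
    refine ⟨_, hω, ?_⟩
    rw [← cj_pow hF, hq]
    linear_combination ((g ^ 21) ^ 2 * (g ^ 21 - 1) * ((g ^ 21) ^ 3 + 1) + 1) * hω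
  obtain ⟨η, hη, hcη⟩ : ∃ η : F, η ^ 3 + η + 1 = 0 ∧ cj η = η := by
    have h9 : g ^ 9 - 1 ≠ 0 := fun h0 => by
      have := Nat.le_of_dvd (by omega) (hord 9 (sub_eq_zero.1 h0))
      rw [hq] at this; omega
    have h6 := (mul_eq_zero.1 (by linear_combination h63 :
      (g ^ 9 - 1) * ((g ^ 9) ^ 6 + (g ^ 9) ^ 5 + (g ^ 9) ^ 4 + (g ^ 9) ^ 3 + (g ^ 9) ^ 2 + g ^ 9 + 1) = 0)).resolve_left h9
    have hc : cj (g ^ 9) = g ^ 9 := by
      rw [← cj_pow hF, hq]; linear_combination g ^ 9 * h63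
    have hp : ((g ^ 9) ^ 3 + g ^ 9 + 1) * ((g ^ 9) ^ 3 + (g ^ 9) ^ 2 + 1) = 0 := by
      linear_combination h6 + (g ^ 9) ^ 3 * h2
    rcases mul_eq_zero.1 hp with h0 | h0
    · exact ⟨_, h0, hc⟩
    · exact ⟨g ^ 9 + 1, by linear_combination h0 + ((g ^ 9) ^ 2 + 2 * g ^ 9 + 1) * h2,
        by rw [map_add, map_one, hc]⟩
  have hcα : cj (ω * η ^ 2 : F) = (η ^ 2 + ω * η ^ 2 : F) := by
    simp only [map_add, map_mul, map_pow, map_ofNat, map_one, hcω, hcη]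
    linear_combination (-η ^ 2 - ω * η ^ 2 : F) * h2
  have hcb : cj (1 + ω * η + ω * η ^ 2 : F) = (1 + η + η ^ 2 + ω * η + ω * η ^ 2 : F) := by
    simp only [map_add, map_mul, map_pow, map_ofNat, map_one, hcω, hcη]
    linear_combination (-η - η ^ 2 - ω * η - ω * η ^ 2 : F) * h2
  have hb : (1 + ω * η + ω * η ^ 2 : F) + cj (1 + ω * η + ω * η ^ 2 : F) + (ω * η ^ 2 : F) * cj (ω * η ^ 2 : F) = 0 := by
    rw [hcb, hcα]; linear_combination (η ^ 4 : F) * hω + (-η : F) * hη + (1 + η + η ^ 2 + ω * η + ω * η ^ 2 : F) * h2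
  have H := B.eok_e hF hb
  have H' := B.eok_f hF (α := -(ω * η ^ 2 : F)) (d := (1 + ω * η + ω * η ^ 2 : F)) (by rw [map_neg]; linear_combination hb)
  have se0 := B.step_v hF H' hcα hcb (1 : F) (0 : F) (0 : F) (1 : F) (ω * η ^ 2 : F) (1 + ω * η + ω * η ^ 2 : F)
    (by ring)
    (by linear_combination (-ω * η ^ 2 : F) * h2)
    (by ring)
  have se1 := B.step_u hF H hcα hcb (1 : F) (ω * η ^ 2 : F) (1 + ω * η + ω * η ^ 2 : F) (η ^ 2 + ω * η : F) (1 + η ^ 2 + ω + ω * η ^ 2 : F) (1 + ω * η + ω * η ^ 2 : F)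
    (by linear_combination (η ^ 2 + 2 * η ^ 3 : F) * hω + (-2 - 2 * ω - ω * η : F) * hη + (2 + η - η ^ 2 + ω + 2 * ω * η + ω * η ^ 2 : F) * h2)
    (by linear_combination (η ^ 3 + η ^ 4 : F) * hω + (-1 - η - ω - ω * η : F) * hη + (η + ω * η + ω * η ^ 2 : F) * h2)
    (by ring)
  have se2 := B.step_v hF H' hcα hcb (η ^ 2 + ω * η : F) (1 + η ^ 2 + ω + ω * η ^ 2 : F) (1 + ω * η + ω * η ^ 2 : F) (η ^ 2 + ω * η : F) (η + η ^ 2 : F) (η + ω * η ^ 2 : F)
    (by ring)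
    (by linear_combination (-η ^ 3 : F) * hω + (1 + ω - ω * η : F) * hη + (-η + ω * η ^ 2 : F) * h2)
    (by linear_combination (2 * η ^ 2 + η ^ 3 + η ^ 4 : F) * hω + (-1 + 2 * ω * η : F) * hη + (1 - ω * η ^ 2 : F) * h2)
  have se3 := B.step_u_inv hF H hcα hcb (η ^ 2 + ω * η : F) (η + η ^ 2 : F) (η + ω * η ^ 2 : F) (1 + ω * η ^ 2 : F) (ω + ω * η ^ 2 : F) (η + ω * η ^ 2 : F)
    (by linear_combination (η ^ 3 + η ^ 4 : F) * hω + (1 + 2 * ω + ω * η : F) * hη + (-1 + η ^ 2 - ω - ω * η : F) * h2)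
    (by linear_combination (-η ^ 4 : F) * hω + (η - ω + ω * η : F) * hη + (-ω * η ^ 2 : F) * h2)
    (by ring)
  have se4 := B.step_v_inv hF H' hcα hcb (1 + ω * η ^ 2 : F) (ω + ω * η ^ 2 : F) (η + ω * η ^ 2 : F) (1 + ω * η ^ 2 : F) (η + η ^ 2 + ω + ω * η + ω * η ^ 2 : F) (η + ω * η + ω * η ^ 2 : F)
    (by ring)
    (by linear_combination (η ^ 4 : F) * hω + (-η - ω * η : F) * hη + (ω * η ^ 2 : F) * h2)
    (by linear_combination (-η ^ 2 + η ^ 3 : F) * hω + (-1 : F) * hη + (1 + η + η ^ 2 + ω * η ^ 2 : F) * h2)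
  have se5 := B.step_u hF H hcα hcb (1 + ω * η ^ 2 : F) (η + η ^ 2 + ω + ω * η + ω * η ^ 2 : F) (η + ω * η + ω * η ^ 2 : F) (1 + η ^ 2 + ω * η : F) (1 + η + ω : F) (η + ω * η + ω * η ^ 2 : F)
    (by linear_combination (η ^ 3 : F) * hω + (-2 - η - 2 * ω - 2 * ω * η : F) * hη + (1 + 2 * η + ω + 2 * ω * η + 2 * ω * η ^ 2 : F) * h2)
    (by linear_combination (η ^ 3 + η ^ 4 : F) * hω + (-1 - η - ω * η : F) * hη + (η + η ^ 2 + ω * η + ω * η ^ 2 : F) * h2)
    (by ring)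
  have se6 := B.step_v_inv hF H' hcα hcb (1 + η ^ 2 + ω * η : F) (1 + η + ω : F) (η + ω * η + ω * η ^ 2 : F) (1 + η ^ 2 + ω * η : F) (0 : F) (0 : F)
    (by ring)
    (by linear_combination (η ^ 3 : F) * hω + (-1 - ω + ω * η : F) * hη + (1 + η + ω : F) * h2)
    (by linear_combination (η ^ 3 : F) * hω + (-1 + η + ω * η : F) * hη + (1 + η + ω * η : F) * h2)
  have sn0 := B.step_v hF H' hcα hcb (0 : F) (1 : F) (0 : F) (0 : F) (1 : F) (η ^ 2 + ω * η ^ 2 : F)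
    (by ring)
    (by ring)
    (by ring)
  have sn1 := B.step_u hF H hcα hcb (0 : F) (1 : F) (η ^ 2 + ω * η ^ 2 : F) (1 + η ^ 2 : F) (1 + η + η ^ 2 : F) (η ^ 2 + ω * η ^ 2 : F)
    (by linear_combination (η ^ 3 + η ^ 4 : F) * hω + (-1 - η : F) * hη + (η : F) * h2)
    (by linear_combination (η ^ 4 : F) * hω + (-η : F) * hη)
    (by ring)
  have sn2 := B.step_v hF H' hcα hcb (1 + η ^ 2 : F) (1 + η + η ^ 2 : F) (η ^ 2 + ω * η ^ 2 : F) (1 + η ^ 2 : F) (1 + η + η ^ 2 + ω * η : F) (ω * η + ω * η ^ 2 : F)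
    (by ring)
    (by linear_combination (-ω * η : F) * hη)
    (by linear_combination (1 + η + 2 * ω + 2 * ω * η : F) * hη + (-η + η ^ 2 - ω - 2 * ω * η : F) * h2)
  have sn3 := B.step_u_inv hF H hcα hcb (1 + η ^ 2 : F) (1 + η + η ^ 2 + ω * η : F) (ω * η + ω * η ^ 2 : F) (1 + η ^ 2 + ω + ω * η + ω * η ^ 2 : F) (η + ω + ω * η + ω * η ^ 2 : F) (ω * η + ω * η ^ 2 : F)
    (by linear_combination (η ^ 2 + 3 * η ^ 3 + η ^ 4 : F) * hω + (-2 + ω + ω * η : F) * hη + (1 + η - ω - ω * η : F) * h2)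
    (by linear_combination (-η ^ 3 - η ^ 4 : F) * hω + (1 + η + ω + ω * η : F) * hη + (-η - ω - ω * η - ω * η ^ 2 : F) * h2)
    (by ring)
  have sn4 := B.step_v_inv hF H' hcα hcb (1 + η ^ 2 + ω + ω * η + ω * η ^ 2 : F) (η + ω + ω * η + ω * η ^ 2 : F) (ω * η + ω * η ^ 2 : F) (1 + η ^ 2 + ω + ω * η + ω * η ^ 2 : F) (1 + η + ω * η ^ 2 : F) (ω : F)
    (by ring)
    (by linear_combination (η ^ 2 + η ^ 3 + η ^ 4 : F) * hω + (-1 - η - ω : F) * hη + (η + ω + ω * η : F) * h2)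
    (by linear_combination (η + η ^ 2 + η ^ 3 : F) * hω + (-1 + η + ω * η : F) * hη + (1 + ω * η + ω * η ^ 2 : F) * h2)
  have sn5 := B.step_u hF H hcα hcb (1 + η ^ 2 + ω + ω * η + ω * η ^ 2 : F) (1 + η + ω * η ^ 2 : F) (ω : F) (η + ω + ω * η + ω * η ^ 2 : F) (1 + η + η ^ 2 : F) (ω : F)
    (by linear_combination (η + η ^ 2 - η ^ 4 : F) * hω + (-1 + η - ω : F) * hη + (1 - η - η ^ 2 + ω - ω * η ^ 2 : F) * h2)
    (by linear_combination (η ^ 2 : F) * hω + (-η ^ 2 : F) * h2)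
    (by ring)
  have sn6 := B.step_v_inv hF H' hcα hcb (η + ω + ω * η + ω * η ^ 2 : F) (1 + η + η ^ 2 : F) (ω : F) (η + ω + ω * η + ω * η ^ 2 : F) (η + η ^ 2 + ω * η : F) (0 : F)
    (by ring)
    (by linear_combination (η ^ 2 + η ^ 3 + η ^ 4 : F) * hω + (-1 - η - ω * η : F) * hη + (1 + η : F) * h2)
    (by linear_combination (η + 2 * η ^ 2 + 2 * η ^ 3 + η ^ 4 : F) * hω + (-2 - 2 * η - ω * η : F) * hη + (1 + 2 * η + ω + ω * η + ω * η ^ 2 : F) * h2)
  refine B.twoGen hF (by omega) (μ := (1 + η ^ 2 + ω * η : F)) (ν := (η + η ^ 2 + ω * η : F)) (x := (η + ω + ω * η + ω * η ^ 2 : F)) ?_ H H'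
    (t := (eSU hF H')⁻¹ * eSU hF H * (eSU hF H')⁻¹ * (eSU hF H)⁻¹ * eSU hF H' * eSU hF H * eSU hF H') ?_ ?_ ?_ ?_
  · intro h0
    refine one_ne_zero (α := F) ?_
    have h1 : (ω * η ^ 2 : F) * (1 + η + η ^ 2 + ω + ω * η + ω * η ^ 2 : F) = 1 := by linear_combination (η ^ 2 + η ^ 3 + η ^ 4 : F) * hω + (-1 - η : F) * hη + (η : F) * h2
    rw [← h1, h0, zero_mul]
  · have hu := Subgroup.subset_closure (G := SU 3 F q) (Set.mem_insert (eSU hF H) {eSU hF H'})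
    have hv := Subgroup.subset_closure (G := SU 3 F q) (Set.mem_insert_of_mem (eSU hF H) (Set.mem_singleton (eSU hF H')))
    repeat' apply Subgroup.mul_mem
    all_goals first | exact hu | exact hv | exact Subgroup.inv_mem _ hu | exact Subgroup.inv_mem _ hv
  · refine (img_e (n := n) (f := f)).trans ?_
    simp only [mulVec_mul]
    rw [se0, se1, se2, se3, se4, se5, se6]
    simp only [co]; module
  · refine (img_n (e := e) (f := f)).trans ?_
    simp only [mulVec_mul]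
    rw [sn0, sn1, sn2, sn3, sn4, sn5, sn6]
    simp only [co]; module
  · intro M hM
    have hφ : cj (1 + η ^ 2 + ω * η : F) * (η + η ^ 2 + ω * η : F) = (ω * η + ω * η ^ 2 : F) := by
      simp only [map_add, map_mul, map_pow, map_ofNat, map_one, hcω, hcη]
      linear_combination (-η ^ 2 : F) * hω + (η : F) * hη + (-ω * η ^ 2 : F) * h2
    rw [hφ] at hM
    refine eq_top_of_small8 hF hq M hM ?_ ?_
    · intro h0
      refine one_ne_zero (α := F) ?_
      have h1 : ((ω * η + ω * η ^ 2 : F) ^ 4 - (ω * η + ω * η ^ 2 : F)) * (1 + η ^ 2 + ω + ω * η ^ 2 : F) = 1 := by linear_combination (-η - η ^ 2 - η ^ 3 + 4 * η ^ 5 + 7 * η ^ 6 + 8 * η ^ 7 + 7 * η ^ 8 + 4 * η ^ 9 + η ^ 10 - ω * η ^ 4 - 4 * ω * η ^ 5 - 7 * ω * η ^ 6 - 8 * ω * η ^ 7 - 7 * ω * η ^ 8 - 4 * ω * η ^ 9 - ω * η ^ 10 + ω ^ 3 * η ^ 4 + 4 * ω ^ 3 * η ^ 5 + 7 * ω ^ 3 * η ^ 6 + 8 * ω ^ 3 * η ^ 7 + 7 * ω ^ 3 * η ^ 8 + 4 * ω ^ 3 * η ^ 9 + ω ^ 3 * η ^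 10 : F) * hω + (-7 + 5 * η ^ 2 + 3 * η ^ 3 - 3 * η ^ 4 - 6 * η ^ 5 - 4 * η ^ 6 - η ^ 7 : F) * hη + (3 + 4 * η - 2 * η ^ 2 : F) * h2
      rw [← h1, h0, sub_self, zero_mul]
    · intro h0
      refine one_ne_zero (α := F) ?_
      have h1 : ((ω * η + ω * η ^ 2 : F) ^ 8 - (ω * η + ω * η ^ 2 : F)) * (1 + η : F) = 1 := by linear_combination (η ^ 8 + 9 * η ^ 9 + 36 * η ^ 10 + 84 * η ^ 11 + 126 * η ^ 12 + 126 * η ^ 13 + 84 * η ^ 14 + 36 * η ^ 15 + 9 * η ^ 16 + η ^ 17 - ω ^ 2 * η ^ 8 - 9 * ω ^ 2 * η ^ 9 - 36 * ω ^ 2 * η ^ 10 - 84 * ω ^ 2 * η ^ 11 - 126 * ω ^ 2 * η ^ 12 - 126 * ω ^ 2 * η ^ 13 - 84 * ω ^ 2 * η ^ 14 - 36 * ω ^ 2 * η ^ 15 - 9 * ω ^ 2 * η ^ 16 - ω ^ 2 * η ^ 17 + ω ^ 3 * η ^ 8 + 9 * ω ^ 3 * η ^ 9 + 36 * ω ^ 3 * η ^ 10 + 84 * ω ^ 3 * η ^ 11 + 126 * ω ^ 3 * η ^ 12 + 126 * ω ^ 3 * η ^ 13 + 84 * ω ^ 3 * η ^ 14 + 36 * ω ^ 3 * η ^ 15 + 9 * ω ^ 3 * η ^ 16 + ω ^ 3 * η ^ 17 - ω ^ 5 * η ^ 8 - 9 * ω ^ 5 * η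 ^ 9 - 36 * ω ^ 5 * η ^ 10 - 84 * ω ^ 5 * η ^ 11 - 126 * ω ^ 5 * η ^ 12 - 126 * ω ^ 5 * η ^ 13 - 84 * ω ^ 5 * η ^ 14 - 36 * ω ^ 5 * η ^ 15 - 9 * ω ^ 5 * η ^ 16 - ω ^ 5 * η ^ 17 + ω ^ 6 * η ^ 8 + 9 * ω ^ 6 * η ^ 9 + 36 * ω ^ 6 * η ^ 10 + 84 * ω ^ 6 * η ^ 11 + 126 * ω ^ 6 * η ^ 12 + 126 * ω ^ 6 * η ^ 13 + 84 * ω ^ 6 * η ^ 14 + 36 * ω ^ 6 * η ^ 15 + 9 * ω ^ 6 * η ^ 16 + ω ^ 6 * η ^ 17 : F) * hω + (-335 - 201 * η + 135 * η ^ 2 + 200 * η ^ 3 + η ^ 4 - 136 * η ^ 5 - 64 * η ^ 6 + 63 * η ^ 7 + 72 * η ^ 8 - 17 * η ^ 9 - 82 * η ^ 10 - 74 * η ^ 11 - 35 * η ^ 12 - 9 * η ^ 13 - η ^ 14 - 336 * ω - 201 * ω * η + 135 * ω * η ^ 2 + 200 * ω * η ^ 3 + ω * η ^ 4 - 136 * ω * η ^ 5 - 64 * ω * η ^ 6 + 63 * ω * η ^ 7 + 72 * ω * η ^ 8 - 17 * ω * η ^ 9 - 82 * ω * η ^ 10 - 74 * ω * η ^ 11 - 35 * ω * η ^ 12 - 9 * ω * η ^ 13 - ω * η ^ 14 : F) * hη + (167 + 268 * η + 33 * η ^ 2 + 168 * ω + 268 * ω * η + 32 * ω * η ^ 2 : F) * h2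
      rw [← h1, h0, sub_self, zero_mul]

end Cfsg.Agent.Lie.SUGen
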