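import Cfsg.Agent.Lib.Lie.UnitTwoGenCore

/-!
The product of the two regular unipotent elements as an element of a maximal torus of order
`q² - 1`: its `(q-1)`-st power scales the Heisenberg group by an element generating the field,
unless `q = 5` or `q = 8`.
-/

set_option autoImplicit false
set_option linter.unusedSectionVars false

namespace Cfsg.Agent.Lie.SUGen

open Matrix Module Cfsg.Agent.Classical Cfsg.Agent.Classical.PSUAut Cfsg.Agent.Fus.UnitN

variable {F : Type*} [Field F] [Fintype F] {q : ℕ}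

variable (hF : Fintype.card F = q ^ 2)

local notation "cj" => qFrob hF

include hF

/-- The arithmetic: the cube of `g ^ (q - 1)` generates the field. -/
theorem cube_generates (hq : 3 ≤ q) (h5 : q ≠ 5) (h8 : q ≠ 8) {g : F} (hg0 : g ≠ 0)
    (hord : ∀ k : ℕ, g ^ k = 1 → (q - 1) * (q + 1) ∣ k) (M : Subfield F)
    (hM : (g ^ (q - 1)) ^ 3 ∈ M) : M = ⊤ := by
  haveI : Fintype M := Fintype.ofFinite M
  obtain ⟨p, hchar⟩ := CharP.exists F
  have hp : p.Prime := CharP.char_is_prime F p
  haveI : Fact p.Prime := ⟨hp⟩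
  haveI : CharP M p := RingHom.charP M.subtype M.subtype_injective p
  obtain ⟨f2, -, hf2⟩ := FiniteField.card F p
  obtain ⟨e, -, he⟩ := FiniteField.card M p
  obtain ⟨k, hk⟩ : ∃ k, Fintype.card F = Fintype.card M ^ k :=
    ⟨_, Module.card_eq_pow_finrank (K := M) (V := F)⟩
  have hM1 : 1 < Fintype.card M := Fintype.one_lt_card
  -- the divisibility
  have hx0 : (g ^ (q - 1)) ^ 3 ≠ 0 := pow_ne_zero _ (pow_ne_zero _ hg0)
  have hpow : ((⟨_, hM⟩ : M) : M) ^ (Fintype.card M - 1) = 1 :=
    FiniteField.pow_card_sub_one_eq_one _ fun h => hx0 (congrArg Subtype.val h)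
  have h1 : ((g ^ (q - 1)) ^ 3) ^ (Fintype.card M - 1) = 1 := by
    simpa using congrArg Subtype.val hpow
  rw [← pow_mul, ← pow_mul] at h1
  have hdvd : q + 1 ∣ 3 * (Fintype.card M - 1) :=
    Nat.dvd_of_mul_dvd_mul_left (by omega : 0 < q - 1) (hord _ h1)
  have hle := Nat.le_of_dvd (by omega) hdvd
  by_contra hne
  have hk2 : 2 ≤ k := by
    by_contra hk2
    refine hne (SetLike.ext' (Set.eq_univ_of_forall fun x => ?_) |>.trans rfl)
    have hbij : Function.Bijective (Subtype.val : M → F) := by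
      refine (Fintype.bijective_iff_injective_and_card _).2 ⟨Subtype.val_injective, ?_⟩
      refine le_antisymm (Fintype.card_le_of_injective _ Subtype.val_injective) ?_
      rw [hk]
      calc Fintype.card M ^ k ≤ Fintype.card M ^ 1 := Nat.pow_le_pow_right (by omega) (by omega)
        _ = _ := pow_one _
    obtain ⟨y, rfl⟩ := hbij.2 x
    exact y.2
  rw [hF] at hk
  rcases Nat.even_or_odd k with ⟨l, hl⟩ | hodd
  · -- an even degree: the subfield is real
    have hql : q = Fintype.card M ^ l := Nat.pow_left_injective two_ne_zero <| by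
      show q ^ 2 = (Fintype.card M ^ l) ^ 2
      rw [hk, ← pow_mul]; congr 1; omega
    have h2 : Fintype.card M - 1 ∣ q - 1 := hql ▸ Nat.sub_one_dvd_pow_sub_one _ l
    have h3 : q + 1 ∣ 3 * (q - 1) := hdvd.trans (Nat.mul_dvd_mul_left 3 h2)
    have h4 : q + 1 ∣ 6 := by
      have h := Nat.dvd_sub (Dvd.intro_left 3 rfl : q + 1 ∣ 3 * (q + 1)) h3
      rwa [show 3 * (q + 1) - 3 * (q - 1) = 6 by omega] at h
    have := Nat.le_of_dvd (by omega) h4
    rcases (show q = 3 ∨ q = 4 by omega) with rfl | rfl <;> omega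
  · -- an odd degree: a square order
    have hexp : (f2 : ℕ) = e * k := by
      refine Nat.pow_right_injective hp.two_le ?_
      show p ^ (f2 : ℕ) = p ^ ((e : ℕ) * k)
      rw [pow_mul, ← he, ← hk, ← hF, hf2]
    have hq2 : p ^ (f2 : ℕ) = q * q := by rw [← hf2, hF, pow_two]
    obtain ⟨f, -, hqf⟩ := (Nat.dvd_prime_pow hp).1 (Dvd.intro q hq2.symm : q ∣ p ^ (f2 : ℕ))
    have hf2' : (f2 : ℕ) = 2 * f := by
      refine Nat.pow_right_injective hp.two_le ?_
      show p ^ (f2 : ℕ) = p ^ (2 * f)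
      rw [hq2, hqf, ← pow_add]; congr 1; omega
    obtain ⟨g2, hg2⟩ : 2 ∣ (e : ℕ) := by
      have h2 : 2 ∣ (e : ℕ) * k := ⟨f, by omega⟩
      exact ((Nat.prime_two.dvd_mul).1 h2).resolve_right fun h => by
        rcases hodd with ⟨l, rfl⟩; omega
    set Q := p ^ g2 with hQ
    have hg2pos : 0 < g2 := by have := e.pos; omega
    have hQ2 : 2 ≤ Q := le_trans hp.two_le (Nat.le_self_pow (by omega) p)
    have hcM : Fintype.card M = Q ^ 2 := by
      rw [he, hg2, hQ, ← pow_mul, mul_comm]
    have hqQ : q = Q ^ k := by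
      rw [hqf, hQ, ← pow_mul]; congr 1
      have : 2 * f = 2 * g2 * k := by rw [← hf2', hexp, hg2]
      nlinarith
    have hk3 : 3 ≤ k := by rcases hodd with ⟨l, rfl⟩; omega
    rw [hcM, hqQ] at hle
    have hQ3 : Q ^ 3 ≤ Q ^ k := Nat.pow_le_pow_right (by omega) hk3
    have hQ1 : 1 ≤ Q ^ 2 := Nat.one_le_pow _ _ (by omega)
    have hQlt : Q = 2 := by
      by_contra hQne
      have : 3 * Q ^ 2 ≤ Q ^ 3 := by
        rw [pow_succ' Q 2]; exact Nat.mul_le_mul_right _ (by omega)
      omega
    rw [hQlt] at hle hqQ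
    have hk4 : k < 4 := by
      by_contra hk4
      have : 2 ^ 4 ≤ 2 ^ k := Nat.pow_le_pow_right (by norm_num) (by omega)
      omega
    rw [show k = 3 by omega] at hqQ
    exact h8 hqQ

set_option maxHeartbeats 1000000 in
/-- The general case. -/
theorem twoGen_big (hq : 3 ≤ q) (h5 : q ≠ 5) (h8 : q ≠ 8) : TwoGen (F := F) q := by
  obtain ⟨e, n, f, B⟩ := exists_frame hF
  obtain ⟨g, hg0, hord, -⟩ := exists_prim hF
  set κ := g ^ (q - 1) with hκ
  have hκ0 : κ ≠ 0 := pow_ne_zero _ hg0
  obtain ⟨m, hm⟩ : ∃ m, m = cj g := ⟨_, rfl⟩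
  have hm0 : m ≠ 0 := hm ▸ (map_ne_zero (qFrob hF)).2 hg0
  have hcm : cj m = g := by rw [hm, cj_cj hF]
  have hκg : κ * g = m := by
    rw [hκ, hm, ← cj_pow hF, ← pow_succ]; congr 1; omega
  have hne : g ≠ m := fun e0 => by
    have h1 : g ^ (q - 1) = 1 := mul_right_cancel₀ hg0 (by rw [one_mul, ← hκ, hκg, e0])
    have h2 := Nat.le_of_dvd (by omega) (hord _ h1)
    nlinarith [Nat.sub_add_cancel (show 1 ≤ q by omega)]
  -- the parameters
  obtain ⟨α, hαN⟩ := exists_norm hF (a := (g - m) * (g - m) / (g * m)) (by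
    rw [map_div₀, map_mul, map_mul, map_sub, hcm, ← hm]
    ring)
  have hgm : g * m ≠ 0 := mul_ne_zero hg0 hm0
  have hgm1 : g - m ≠ 0 := sub_ne_zero.2 hne
  have hα : α ≠ 0 := fun h0 => by
    rw [h0, zero_mul] at hαN
    exact div_ne_zero (mul_ne_zero hgm1 hgm1) hgm hαN.symm
  obtain ⟨d, hd⟩ : ∃ d, d = 1 - g / m := ⟨_, rfl⟩
  have hd0 : d ≠ 0 := by
    rw [hd, one_sub_div hm0]; exact div_ne_zero (sub_ne_zero.2 hne.symm) hm0
  obtain ⟨X, hX⟩ : ∃ X, X = g + 1 / m - g / m := ⟨_, rfl⟩
  obtain ⟨b, hb⟩ : ∃ b, b = (X - 1 - (g - m) * (g - m) / (g * m)) / d := ⟨_, rfl⟩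
  have hcX : cj X = m + 1 / g - m / g := by
    rw [hX, map_sub, map_add, map_div₀, map_div₀, map_one, hcm, ← hm]
  have hcd : cj d = 1 - m / g := by rw [hd, map_sub, map_one, map_div₀, hcm, ← hm]
  have hbt : b + cj b + α * cj α = 0 := by
    rw [hαN, hb, map_div₀, map_sub, map_sub, map_one, map_div₀, map_mul, map_mul, map_sub, hcX, hcd,
      hcm, ← hm, hX, hd]
    field_simp
    ring
  have hdt : d + cj d + α * cj α = 0 := by
    rw [hαN, hcd, hd]; field_simp; ring
  have H := B.eok_e hF hbt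
  have H' := B.eok_f hF (α := -α) (d := d) (by rw [map_neg]; linear_combination hdt)
  set u := eSU hF H
  set v := eSU hF H'
  set r := u * v
  have hr : ∀ x y z, suVal r *ᵥ co e n f x y z =
      co e n f (x - cj α * (y - α * x) + b * (z + cj α * y + d * x))
        (y - α * x + α * (z + cj α * y + d * x)) (z + cj α * y + d * x) := fun x y z => by
    rw [mulVec_mul, B.act_f hF, B.act_e hF, map_neg]
    congr 1 <;> ring
  -- two eigenvectors in the plane
  obtain ⟨re, hre⟩ : ∃ re, re = co e n f X (-(α * (g / m))) d := ⟨_, rfl⟩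
  have hbd : b * d = X - 1 - α * cj α := by rw [hαN, hb, div_mul_cancel₀ _ hd0]
  have hre1 : suVal r *ᵥ co e n f 1 0 0 = re := by
    rw [hr, hre]
    congr 1
    · linear_combination hbd
    · rw [hd]; ring
    · ring
  have hre2 : suVal r *ᵥ re = (g + 1 / m) • re + (-(g / m)) • co e n f 1 0 0 := by
    rw [hre, hr, smul_co, smul_co, co_add]
    have hz : d + cj α * (-(α * (g / m))) + d * X = (g + 1 / m) * d := by
      have hN : α * cj α = (g - m) * (g - m) / (g * m) := hαN
      linear_combination (norm := (rw [hd, hX]; field_simp; ring)) -(g / m) * hN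
    congr 1
    · rw [hz]
      linear_combination (norm := (rw [hX]; ring)) (g + 1 / m) * hbd
    · rw [hz]
      linear_combination (norm := (rw [hX, hd]; ring)) (0 : F) * hbd
    · rw [hz]; ring
  have hpow : ∀ (y : Fin 3 → F) (l : F), suVal r *ᵥ y = l • y → ∀ j : ℕ,
      suVal (r ^ j) *ᵥ y = l ^ j • y := fun y l hy j => by
    induction j with
    | zero => rw [pow_zero, suVal_one', Matrix.one_mulVec, pow_zero, _root_.one_smul]
    | succ j ih => rw [pow_succ, mulVec_mul, hy, Matrix.mulVec_smul, ih, smul_smul, pow_succ, mul_comm]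
  set ee := co e n f 1 0 0 with hee
  have hP1 : suVal r *ᵥ (re + (-(1 / m)) • ee) = g • (re + (-(1 / m)) • ee) := by
    rw [Matrix.mulVec_add, Matrix.mulVec_smul, hre2, hre1]
    module
  have hP2 : suVal r *ᵥ (re + (-g) • ee) = (1 / m) • (re + (-g) • ee) := by
    rw [Matrix.mulVec_add, Matrix.mulVec_smul, hre2, hre1]
    module
  have hκ' : (1 / m) ^ (q - 1) = κ := by
    have h1 : cj κ * m = g := by rw [← hκg, map_mul, ← hm, mul_comm] at hcm; linear_combination hcm
    have h2 : cj κ = g / m := by rw [eq_div_iff hm0, h1]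
    rw [one_div, inv_pow, hm, ← map_pow, ← hκ, h2, inv_div, div_eq_iff hg0, hκg]
  set t := r ^ (q - 1)
  have hte : suVal t *ᵥ e = κ • e := by
    have hgl : g - 1 / m ≠ 0 := fun h0 => by
      have h1 : g ^ (q + 1) = 1 := by
        rw [pow_succ, cj_pow hF, ← hm]
        rw [sub_eq_zero, eq_div_iff hm0] at h0
        linear_combination h0
      have h2 := Nat.le_of_dvd (by omega) (hord _ h1)
      have : 2 * (q + 1) ≤ (q - 1) * (q + 1) := Nat.mul_le_mul_right _ (by omega)
      omega
    have h1 : suVal t *ᵥ ((g - 1 / m) • ee) = κ • ((g - 1 / m) • ee) := by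
      rw [show (g - 1 / m) • ee = (re + (-(1 / m)) • ee) - (re + (-g) • ee) by module,
        Matrix.mulVec_sub, hpow _ _ hP1, hpow _ _ hP2, hκ', ← hκ, ← smul_sub]
    rw [Matrix.mulVec_smul, smul_comm] at h1
    have h2 := smul_right_injective (Fin 3 → F) hgl h1
    rwa [hee, co_e] at h2
  have hmm : suVal r *ᵥ co e n f (-cj α) d 0 = κ • co e n f (-cj α) d 0 := by
    rw [hr, smul_co]
    have hz : 0 + cj α * d + d * -cj α = 0 := by ring
    rw [hz]
    have h1 : d + α * cj α = κ * d := by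
      have h3 : κ = m / g := by rw [eq_div_iff hg0, hκg]
      rw [hαN, h3, hd]; field_simp; ring
    have h2 : κ * d = κ - 1 := by
      have h3 : κ = m / g := by rw [eq_div_iff hg0, hκg]
      rw [h3, hd]; field_simp
    congr 1
    · linear_combination -(cj α) * h1 - cj α * h2
    · linear_combination h1
    · ring
  have htm := hpow _ _ hmm (q - 1)
  have htn : suVal t *ᵥ n = κ ^ (q - 1) • n + (cj α * (κ - κ ^ (q - 1)) / d) • e := by
    have en : n = (1 / d) • co e n f (-cj α) d 0 + (cj α / d) • e := by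
      have : (cj α / d) • e = co e n f (cj α / d) 0 0 := by simp [co]
      rw [this, smul_co, co_add]
      conv_lhs => rw [← co_n (e := e) (n := n) (f := f)]
      congr 1 <;> field_simp <;> ring
    conv_lhs => rw [en]
    rw [Matrix.mulVec_add, Matrix.mulVec_smul, Matrix.mulVec_smul, htm, hte]
    simp only [co, smul_add, smul_smul]
    match_scalars <;> field_simp <;> ring
  refine B.twoGen hF hq hα H H' (t := t) ?_ hte htn fun M hM => ?_
  · have hu : u ∈ Subgroup.closure ({u, v} : Set (SU 3 F q)) :=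
      Subgroup.subset_closure (Set.mem_insert u {v})
    have hv : v ∈ Subgroup.closure ({u, v} : Set (SU 3 F q)) :=
      Subgroup.subset_closure (Set.mem_insert_of_mem u (Set.mem_singleton v))
    show (u * v) ^ (q - 1) ∈ Subgroup.closure ({u, v} : Set (SU 3 F q))
    exact Subgroup.pow_mem _ (Subgroup.mul_mem _ hu hv) (q - 1)
  · refine cube_generates hF hq h5 h8 hg0 hord M ?_
    have hnorm : κ * cj κ = 1 := by
      rw [← mul_left_inj' hgm]
      calc κ * cj κ * (g * m) = (κ * g) * (cj κ * cj g) := by rw [← hm]; ring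
        _ = m * cj m := by rw [hκg, ← map_mul, hκg]
        _ = _ := by rw [hcm]; ring
    have hκq : κ ^ (q - 1) * (κ * κ) = 1 := by
      have h1 : κ ^ q = cj κ := cj_pow hF κ
      have h2 : κ ^ q = κ ^ (q - 1) * κ := by
        rw [← pow_succ, show q - 1 + 1 = q by omega]
      rw [h2] at h1
      linear_combination κ * h1 + hnorm
    have h3 : (cj κ * κ ^ (q - 1))⁻¹ = κ ^ 3 := by
      refine inv_eq_of_mul_eq_one_right ?_
      linear_combination (κ * cj κ) * hκq + hnorm
    rw [← h3]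
    exact inv_mem hM

end Cfsg.Agent.Lie.SUGen
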