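import Cfsg.Agent.Lib.Lie.UnitaryConj
import Cfsg.Agent.Lib.Lie.SLSemisimpleClasses
import Cfsg.Agent.Lib.Classical.UnitElements
import Cfsg.Agent.Lib.Classical.UnitDichotomy

/-! Semisimple elements of unitary groups: a model for every self-conjugate-reciprocal polynomial. -/

set_option autoImplicit false
set_option linter.unusedSectionVars false

namespace Cfsg.Agent.Lie.UnitarySemisimple

open Matrix Polynomial Module Cfsg.Agent.Classical Cfsg.Agent.Lie.UnitaryConj Cfsg.Agent.Lie.Semisimple

variable {F : Type*} [Field F] [Fintype F] {q : ℕ} (hF : Fintype.card F = q ^ 2)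

/-- The condition on characteristic polynomials of unitary matrices. -/
def Stable (P : F[X]) : Prop := P.reverse = C (P.coeff 0) * P.map (qFrob hF)

theorem reverse_map {R S : Type*} [Field R] [Field S] (f : R →+* S) (P : R[X]) :
    (P.map f).reverse = P.reverse.map f := by
  ext i
  simp [Polynomial.reverse, Polynomial.coeff_reflect, Polynomial.coeff_map]

theorem map_frob_map_frob (P : F[X]) : (P.map (qFrob hF)).map (qFrob hF) = P := by
  ext i; simp [qFrob_qFrob]

theorem Stable.map_reverse {P : F[X]} (hP : Stable hF P) :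
    (P.map (qFrob hF)).reverse = C (qFrob hF (P.coeff 0)) * P := by
  rw [reverse_map, hP, Polynomial.map_mul, map_C, map_frob_map_frob]

/-- Stable factors split off. -/
theorem Stable.of_mul {P R : F[X]} (hR : R ≠ 0) (h0 : R.coeff 0 ≠ 0) (hRs : Stable hF R)
    (hs : Stable hF (R * P)) : Stable hF P := by
  refine mul_left_cancel₀ (b := P.reverse) (a := C (R.coeff 0) * R.map (qFrob hF))
    (mul_ne_zero (C_ne_zero.2 h0) ((Polynomial.map_ne_zero_iff (qFrob hF).injective).2 hR)) ?_
  have h := hs
  rw [Stable, reverse_mul_of_domain, hRs, mul_coeff_zero, Polynomial.map_mul, C_mul] at h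
  rw [h]; ring

/-- A stable, monic, separable divisor of positive degree. -/
theorem exists_stable_factor {N : ℕ} (hN : 0 < N) {P : F[X]} (hP : P.Monic) (hs : Stable hF P)
    (hP0 : P.coeff 0 ≠ 0) {f : F[X]} (hf : 0 < f.natDegree) (hfP : f ∣ P) (hfN : f ∣ X ^ N - 1) :
    ∃ R : F[X], R.Monic ∧ 0 < R.natDegree ∧ R ∣ P ∧ R ∣ X ^ N - 1 ∧ Stable hF R ∧ R.coeff 0 ≠ 0 := by
  classical
  set T : F[X] := X ^ N - 1 with hT
  have hTne : T ≠ 0 := by simpa [hT] using (monic_X_pow_sub_C (1 : F) hN.ne').ne_zero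
  set G := EuclideanDomain.gcd P T
  have hGne : G ≠ 0 := fun h => hTne ((EuclideanDomain.gcd_eq_zero_iff.1 h).2)
  set R := G * C G.leadingCoeff⁻¹ with hR
  have hRm : R.Monic := monic_mul_leadingCoeff_inv hGne
  have hGR : ∀ D, D ∣ P → D ∣ T → D ∣ R := fun D h1 h2 =>
    dvd_mul_of_dvd_left (EuclideanDomain.dvd_gcd h1 h2) _
  have hu : IsUnit (C G.leadingCoeff⁻¹) := isUnit_C.2 (IsUnit.mk0 _ (inv_ne_zero (leadingCoeff_ne_zero.2 hGne)))
  have hRP : R ∣ P := hu.mul_right_dvd.2 (EuclideanDomain.gcd_dvd_left P T)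
  have hRT : R ∣ T := hu.mul_right_dvd.2 (EuclideanDomain.gcd_dvd_right P T)
  have hR0 : R.coeff 0 ≠ 0 := by
    intro h
    apply hP0
    obtain ⟨D, hD⟩ := hRP
    rw [hD, mul_coeff_zero, h, zero_mul]
  have hdeg : (R.map (qFrob hF)).reverse.natDegree = R.natDegree := by
    rw [reverse_natDegree, natDegree_map, natTrailingDegree_eq_zero.2 (Or.inr ?_), Nat.sub_zero]
    rw [coeff_map]
    exact (_root_.map_ne_zero _).2 hR0
  have hRR : R = (R.map (qFrob hF)).reverse * C (qFrob hF (R.coeff 0))⁻¹ := by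
    have hne : (R.map (qFrob hF)).reverse ≠ 0 := by
      rw [Ne, Polynomial.reverse_eq_zero, Polynomial.map_eq_zero_iff (qFrob hF).injective]; exact hRm.ne_zero
    have hdvd : (R.map (qFrob hF)).reverse ∣ R := by
      refine hGR _ ?_ ?_
      · obtain ⟨D, hD⟩ := hRP
        have h := hs.map_reverse
        rw [hD, Polynomial.map_mul, reverse_mul_of_domain] at h
        exact (isUnit_C.2 (IsUnit.mk0 _ ((_root_.map_ne_zero (qFrob hF)).2 (by rw [← hD]; exact hP0)))).dvd_mul_left.1
          (h ▸ dvd_mul_right _ _) |>.trans (dvd_of_eq hD.symm)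
      · obtain ⟨D, hD⟩ := hRT
        have h : (T.map (qFrob hF)).reverse = C (-1) * T := by
          rw [hT, Polynomial.map_sub, Polynomial.map_pow, map_X, Polynomial.map_one]
          rw [sub_eq_add_neg, ← map_one C, ← C_neg, Polynomial.reverse, natDegree_X_pow_add_C, reflect_add,
            reflect_C, reflect_monomial,
            revAt_le le_rfl, Nat.sub_self, pow_zero]
          simp only [C_neg, C_1]
          ring
        have h' := congrArg (fun D => (D.map (qFrob hF)).reverse) hD
        simp only [Polynomial.map_mul, reverse_mul_of_domain] at h'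
        rw [h] at h'
        exact (isUnit_C.2 (IsUnit.mk0 _ (neg_ne_zero.2 (one_ne_zero (α := F))))).dvd_mul_left.1
          (h' ▸ dvd_mul_right _ _)
    refine Polynomial.eq_of_monic_of_associated hRm ?_ ?_
    · have hlc : (R.map (qFrob hF)).reverse.leadingCoeff = qFrob hF (R.coeff 0) := by
        rw [reverse_leadingCoeff, trailingCoeff_eq_coeff_zero (by rw [coeff_map]; exact (_root_.map_ne_zero _).2 hR0),
          coeff_map]
      exact hlc ▸ monic_mul_leadingCoeff_inv hne
    · refine (associated_mul_unit_right _ _ (isUnit_C.2 (IsUnit.mk0 _ (inv_ne_zero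
        ((_root_.map_ne_zero (qFrob hF)).2 hR0))))).symm.trans ?_ |>.symm
      exact Polynomial.associated_of_dvd_of_natDegree_le hdvd hRm.ne_zero hdeg.ge
  refine ⟨R, hRm, ?_, hRP, hRT, ?_, hR0⟩
  · exact hf.trans_le (natDegree_le_of_dvd (hGR f hfP hfN) hRm.ne_zero)
  · have h1 : (R.map (qFrob hF)).reverse = C (qFrob hF (R.coeff 0)) * R := by
      have h0 := congrArg (fun X' => C (qFrob hF (R.coeff 0)) * X') hRR
      rw [h0, mul_left_comm, ← C_mul, mul_inv_cancel₀ ((_root_.map_ne_zero (qFrob hF)).2 hR0), C_1, mul_one]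
    have h2 := congrArg (Polynomial.map (qFrob hF)) h1
    rw [reverse_map, map_frob_map_frob, Polynomial.map_mul, map_C, qFrob_qFrob] at h2
    exact h2

/-- The Hermitian form `∑ a(λ)` on a separable quotient of `F[X]`. -/
theorem exists_block {N : ℕ} (hN : (N : F) ≠ 0) {R : F[X]} (hm : R.Monic) (hd : 0 < R.natDegree)
    (hRN : R ∣ X ^ N - 1) (hs : Stable hF R) :
    ∃ g : Matrix (Fin R.natDegree) (Fin R.natDegree) F, hstar hF g * g = 1 ∧ g ^ N = 1 ∧ g.charpoly = R ∧
      ∀ c : F, c ^ (q + 1) = 1 →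
        ∃ z : Matrix (Fin R.natDegree) (Fin R.natDegree) F, hstar hF z * z = 1 ∧ Commute z g ∧ z.det = c := by
  classical
  set L := AlgebraicClosure F
  obtain ⟨p, hp⟩ := CharP.exists F
  haveI := hp
  haveI : Fact p.Prime := ⟨CharP.char_is_prime F p⟩
  haveI : CharP L p := charP_of_injective_algebraMap (algebraMap F L).injective p
  have hN0 : N ≠ 0 := fun h => hN (by rw [h, Nat.cast_zero])
  obtain ⟨a, ha⟩ : ∃ a, q = p ^ a := by
    obtain ⟨k, -, hk⟩ := FiniteField.card F p
    rw [hF] at hk
    obtain ⟨a, -, ha⟩ := (Nat.dvd_prime_pow (Fact.out : p.Prime)).1 ((dvd_pow_self q two_ne_zero).trans hk.dvd)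
    exact ⟨a, ha⟩
  let Q : L →+* L := iterateFrobenius L p a
  have hQ : ∀ y, Q y = y ^ q := fun y => by rw [ha]; exact iterateFrobenius_def p a y
  have hQalg : ∀ c, Q (algebraMap F L c) = algebraMap F L (qFrob hF c) := fun c => by
    rw [hQ, qFrob_apply, map_pow]
  let A := AdjoinRoot R
  set r : A := AdjoinRoot.root R
  let pb := AdjoinRoot.powerBasis hm.ne_zero
  haveI : Module.Finite F A := pb.finite
  have hrN : r ^ N = 1 := by
    have h : AdjoinRoot.mk R (X ^ N - 1) = 0 := AdjoinRoot.mk_eq_zero.2 hRN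
    rwa [map_sub, map_pow, AdjoinRoot.mk_X, map_one, sub_eq_zero] at h
  have hNsplit : N - 1 + 1 = N := by omega
  letI hinvr : Invertible r := ⟨r ^ (N - 1), by rw [← pow_succ, hNsplit, hrN], by rw [← pow_succ', hNsplit, hrN]⟩
  -- the semilinear involution
  have hσ0 : R.eval₂ ((AdjoinRoot.of R).comp (qFrob hF)) (r ^ (N - 1)) = 0 := by
    have h1 : R.reverse.eval₂ (AdjoinRoot.of R) (⅟r) = 0 :=
      (eval₂_reverse_eq_zero_iff _ _ _).2 (AdjoinRoot.eval₂_root R)
    rw [hs, eval₂_mul, eval₂_C, eval₂_map] at h1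
    have hu : IsUnit (AdjoinRoot.of R (R.coeff 0)) := by
      refine (IsUnit.mk0 _ ?_).map _
      intro h
      obtain ⟨D, hD⟩ := hRN
      have h' := congrArg (fun P => Polynomial.coeff P 0) hD
      simp [mul_coeff_zero, h, hN0.symm] at h'
    exact hu.mul_right_eq_zero.1 h1
  let σ : A →+* A := AdjoinRoot.lift ((AdjoinRoot.of R).comp (qFrob hF)) (r ^ (N - 1)) hσ0
  have hσr : σ r = r ^ (N - 1) := AdjoinRoot.lift_root hσ0
  have hσc : ∀ c, σ (algebraMap F A c) = algebraMap F A (qFrob hF c) := fun c => AdjoinRoot.lift_of hσ0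
  have hσσ : ∀ x, σ (σ x) = x := by
    intro x
    induction x using AdjoinRoot.induction_on with
    | _ P =>
      induction P using Polynomial.induction_on' with
      | add P Q hP hQ => simp only [map_add, hP, hQ]
      | monomial k c =>
        rw [← C_mul_X_pow_eq_monomial, map_mul, map_pow, AdjoinRoot.mk_C, AdjoinRoot.mk_X, map_mul, map_mul,
          map_pow, map_pow, hσr, map_pow, hσr, show (AdjoinRoot.of R) c = algebraMap F A c from rfl, hσc, hσc,
          qFrob_qFrob]
        congr 2
        rw [← pow_mul]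
        obtain ⟨M, rfl⟩ : ∃ M, N = M + 1 := ⟨N - 1, by omega⟩
        rw [Nat.add_sub_cancel]
        rcases M with _ | M
        · simpa using hrN.symm
        · rw [show (M + 1) * (M + 1) = (M + 1 + 1) * M + 1 by ring, pow_add, pow_mul, hrN, one_pow, one_mul, pow_one]
  -- evaluations at the roots
  set S := (R.map (algebraMap F L)).roots.toFinset with hS
  have hmemS : ∀ {x : L}, x ∈ S ↔ aeval x R = 0 := by
    intro x
    rw [hS, Multiset.mem_toFinset, mem_roots ((Polynomial.map_ne_zero_iff (algebraMap F L).injective).2 hm.ne_zero),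
      IsRoot, eval_map_algebraMap]
  have hsep : (R.map (algebraMap F L)).Separable :=
    ((Polynomial.separable_X_pow_sub_C (1 : F) hN one_ne_zero).of_dvd (by rw [C_1]; exact hRN)).map
  have hcardS : S.card = R.natDegree := by
    rw [hS, Multiset.toFinset_card_of_nodup (nodup_roots hsep), ← (IsAlgClosed.splits _).natDegree_eq_card_roots,
      natDegree_map]
  let ev : ∀ x : S, A →ₐ[F] L := fun x => AdjoinRoot.liftAlgHom R (Algebra.ofId F L) (x : L) (hmemS.1 x.2)
  have hevr : ∀ x : S, ev x r = x := fun x => AdjoinRoot.liftAlgHom_root R _ _ _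
  have hrootN : ∀ x : S, (x : L) ^ N = 1 := fun x => by rw [← hevr, ← map_pow, hrN, map_one]
  -- the permutation `x ↦ x⁻¹ ^ q` of the roots
  have hψ : ∀ x : S, (((x : L) ^ (N - 1)) ^ q) ∈ S := by
    intro x
    rw [hmemS]
    let h : A →+* L := Q.comp ((ev x).toRingHom.comp σ)
    have h0 : h (AdjoinRoot.mk R R) = 0 := by rw [AdjoinRoot.mk_self, map_zero]
    rw [← AdjoinRoot.aeval_eq] at h0
    have hh : ∀ c, h (algebraMap F A c) = algebraMap F L c := fun c => by
      show Q (ev x (σ (algebraMap F A c))) = _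
      rw [hσc, AlgHom.commutes, hQalg, qFrob_qFrob]
    rw [aeval_def, hom_eval₂, show h.comp (algebraMap F A) = algebraMap F L from RingHom.ext hh] at h0
    have hr' : h r = ((x : L) ^ (N - 1)) ^ q := by
      show Q (ev x (σ r)) = _
      rw [hσr, map_pow, hevr, hQ]
    rw [hr'] at h0
    exact h0
  let ψ : S → S := fun x => ⟨_, hψ x⟩
  have hψinj : Function.Injective ψ := by
    intro x y h
    have h1 : ((x : L) ^ (N - 1)) ^ q = ((y : L) ^ (N - 1)) ^ q := congrArg Subtype.val h
    rw [← hQ, ← hQ] at h1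
    have h2 := Q.injective h1
    apply Subtype.ext
    calc (x : L) = x * ((y : L) * y ^ (N - 1)) := by rw [← pow_succ', hNsplit, hrootN, mul_one]
      _ = (x : L) ^ (N - 1) * x * y := by rw [h2]; ring
      _ = y := by rw [← pow_succ, hNsplit, hrootN, one_mul]
  have hψbij : Function.Bijective ψ := Finite.injective_iff_bijective.1 hψinj
  have hevσ : ∀ (x : S) (u : A), ev (ψ x) u = (ev x (σ u)) ^ q := by
    intro x u
    induction u using AdjoinRoot.induction_on with
    | _ P =>
      induction P using Polynomial.induction_on' with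
      | add P Q' hP hQ' => simp only [map_add, hP, hQ', ← hQ]
      | monomial k c =>
        rw [← C_mul_X_pow_eq_monomial, map_mul, map_pow, AdjoinRoot.mk_C, AdjoinRoot.mk_X,
          show (AdjoinRoot.of R) c = algebraMap F A c from rfl, map_mul, map_mul, map_pow, map_pow, hevr,
          AlgHom.commutes, hσc, hσr, map_mul, map_pow, map_pow, hevr, AlgHom.commutes, mul_pow, ← map_pow,
          ← qFrob_apply hF, qFrob_qFrob]
        show _ * (((x : L) ^ (N - 1)) ^ q) ^ k = _
        rw [← pow_mul _ q k, ← pow_mul _ k q, mul_comm q k]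
  -- the functional
  let lL : A →ₗ[F] L := ∑ x : S, (ev x).toLinearMap
  have hlL : ∀ u, lL u = ∑ x : S, ev x u := fun u => by simp [lL]
  have hlσ : ∀ u, Q (lL (σ u)) = lL u := fun u => by
    rw [hlL, hlL, map_sum]
    conv_rhs => rw [← hψbij.sum_comp]
    exact Finset.sum_congr rfl fun x _ => by rw [hQ, ← hevσ]
  have hrange : ∀ u, ∃ c : F, algebraMap F L c = lL u := fun u => exists_algebraMap_of_pow_card (by
    rw [hF, sq, pow_mul, ← hQ, ← hQ]
    conv_rhs => rw [← hlσ u, ← hlσ (σ u), hσσ])
  choose l hl using hrange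
  have hl_add : ∀ u v, l (u + v) = l u + l v := fun u v => (algebraMap F L).injective (by
    rw [hl, map_add (algebraMap F L), hl, hl, map_add])
  have hl_smul : ∀ (c : F) u, l (c • u) = c * l u := fun c u => (algebraMap F L).injective (by
    rw [hl, map_mul, hl, map_smul, Algebra.smul_def])
  have hl_σ : ∀ u, qFrob hF (l u) = l (σ u) := fun u => (algebraMap F L).injective (by
    rw [← hQalg, hl, hl]
    conv_lhs => rw [← hσσ u]
    exact hlσ (σ u))
  have hσsmul : ∀ (c : F) u, σ (c • u) = qFrob hF c • σ u := fun c u => by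
    rw [Algebra.smul_def, map_mul, hσc, ← Algebra.smul_def]
  let B : A →ₛₗ[qFrob hF] A →ₗ[F] F :=
    LinearMap.mk₂'ₛₗ (qFrob hF) (RingHom.id F) (fun u v => l (σ u * v))
      (fun u u' v => by rw [map_add, add_mul, hl_add])
      (fun c u v => by rw [hσsmul, smul_mul_assoc, hl_smul, smul_eq_mul])
      (fun u v v' => by rw [mul_add, hl_add])
      (fun c u v => by rw [mul_smul_comm, hl_smul, RingHom.id_apply, smul_eq_mul])
  have hBapp : ∀ u v, B u v = l (σ u * v) := fun u v => rfl
  have hBsymm : ∀ u v, qFrob hF (B u v) = B v u := fun u v => by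
    rw [hBapp, hBapp, hl_σ, map_mul, hσσ, mul_comm]
  have hnd : ∀ u, (∀ v, B u v = 0) → u = 0 := by
    intro u hu
    suffices hw : σ u = 0 by rw [← hσσ u, hw, map_zero]
    have hz : ∀ v, l (σ u * v) = 0 := fun v => hu v
    obtain ⟨P, hP⟩ := AdjoinRoot.mk_surjective (σ u)
    have heach : ∀ x : S, ev x (σ u) = 0 := by
      intro x
      let f : L[X] := ∏ y ∈ Finset.univ.erase x, (X - C (y : L))
      have hsum : ∑ y : S, ev y (σ u) * f.eval (y : L) = 0 := by
        simp only [Polynomial.eval_eq_sum, Polynomial.sum, Finset.mul_sum]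
        rw [Finset.sum_comm]
        refine Finset.sum_eq_zero fun k _ => ?_
        have h1 : (∑ y : S, ev y (σ u * r ^ k)) = 0 := by rw [← hlL, ← hl, hz, map_zero]
        rw [show (∑ y : S, ev y (σ u) * (f.coeff k * (y : L) ^ k)) =
          f.coeff k * ∑ y : S, ev y (σ u * r ^ k) by
            rw [Finset.mul_sum]
            exact Finset.sum_congr rfl fun y _ => by rw [map_mul, map_pow, hevr]; ring, h1, mul_zero]
      rw [Finset.sum_eq_single x (fun y _ hy => ?_) (by simp)] at hsum
      · refine (mul_eq_zero.1 hsum).resolve_right ?_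
        simp only [f, eval_prod, eval_sub, eval_X, eval_C]
        exact Finset.prod_ne_zero_iff.2 fun y hy => sub_ne_zero.2 fun e =>
          (Finset.mem_erase.1 hy).1 (Subtype.ext e.symm)
      · rw [show f.eval (y : L) = 0 from by
          simp only [f, eval_prod]
          exact Finset.prod_eq_zero (Finset.mem_erase.2 ⟨hy, Finset.mem_univ _⟩) (by simp), mul_zero]
    rw [← hP, AdjoinRoot.mk_eq_zero]
    have h2 : R.map (algebraMap F L) ∣ P.map (algebraMap F L) := by
      rw [(IsAlgClosed.splits (R.map (algebraMap F L))).eq_prod_roots_of_monic (hm.map _)]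
      by_cases hP0 : P.map (algebraMap F L) = 0
      · rw [hP0]; exact dvd_zero _
      refine (Multiset.prod_X_sub_C_dvd_iff_le_roots hP0 _).2 ((Multiset.le_iff_subset (nodup_roots hsep)).2 ?_)
      intro x hx
      rw [mem_roots hP0, IsRoot, eval_map_algebraMap]
      have hxS : x ∈ S := by rw [hS, Multiset.mem_toFinset]; exact hx
      have h3 := heach ⟨x, hxS⟩
      rw [← hP] at h3
      simp only [ev, AdjoinRoot.liftAlgHom_mk] at h3
      exact h3
    exact (map_dvd_map (algebraMap F L) (algebraMap F L).injective hm).1 h2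
  have hfin : finrank F A = R.natDegree := finrank_adjoinRoot hm
  obtain ⟨b, -, hb⟩ := exists_orthonormal_family_herm B (qFrob_ne_id hF) (qFrob_qFrob hF) ⟨hBsymm⟩ R.natDegree ⊤
    (fun w _ hw => by
      by_contra h
      push Not at h
      exact hw (hnd w fun y => h y trivial))
    (finrank_top F A ▸ hfin)
  have hli : LinearIndependent F b := by
    refine Fintype.linearIndependent_iff.2 fun g hg i => ?_
    have h := congrArg (B (b i)) hg
    simpa [map_sum, hb] using h
  let bs : Module.Basis (Fin R.natDegree) F A :=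
    Module.Basis.mk hli (top_le_iff.2 (hli.span_eq_top_of_card_eq_finrank' (by simp [hfin])))
  have hbs : ∀ i, bs i = b i := fun i => by simp [bs]
  have hrepr : ∀ (u : A) i, bs.repr u i = B (b i) u := by
    intro u i
    conv_rhs => rw [← bs.sum_repr u]
    simp [map_sum, hbs, hb]
  let Λ := Algebra.leftMulMatrix bs
  have hadj : ∀ v, hstar hF (Λ v) = Λ (σ v) := by
    intro v
    ext i j
    simp only [hstar, Matrix.transpose_apply, Matrix.map_apply, Λ, Algebra.leftMulMatrix_eq_repr_mul, hrepr, hbs,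
      hBapp, hl_σ, map_mul, hσσ]
    congr 1
    ring
  have hunit : ∀ v, σ v * v = 1 → hstar hF (Λ v) * Λ v = 1 := fun v hv => by rw [hadj, ← map_mul, hv, map_one]
  have hr1 : σ r * r = 1 := by rw [hσr, ← pow_succ, hNsplit, hrN]
  refine ⟨Λ r, hunit r hr1, by rw [← map_pow, hrN, map_one], ?_, fun c hc => ?_⟩
  · have h1 : (Λ r).charpoly = (LinearMap.mulLeft F r).charpoly := by
      rw [← LinearMap.charpoly_toMatrix _ bs]; rfl
    rw [h1, ← LinearMap.charpoly_toMatrix _ pb.basis, Algebra.toMatrix_lmul_eq]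
    have h := charpoly_leftMulMatrix pb
    rw [AdjoinRoot.powerBasis_gen] at h
    rw [h, AdjoinRoot.minpoly_root hm.ne_zero, hm.leadingCoeff, inv_one, map_one, mul_one]
  · obtain ⟨d, hd0, hdc⟩ : ∃ d : F, d ≠ 0 ∧ d / qFrob hF d = c := by
      have hcc : qFrob hF c * c = 1 := by rw [qFrob_apply, ← pow_succ, hc]
      obtain ⟨b0, hb0⟩ : ∃ b0 : F, b0 + c * qFrob hF b0 ≠ 0 := by
        by_contra h
        push Not at h
        apply qFrob_ne_id hF
        have h1 := h 1
        rw [map_one, mul_one] at h1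
        refine RingHom.ext fun x => ?_
        rw [RingHom.id_apply]
        have h2 : c = -1 := by linear_combination h1
        have h3 := h x
        rw [h2] at h3
        linear_combination -h3
      refine ⟨_, hb0, ?_⟩
      have hne : qFrob hF (b0 + c * qFrob hF b0) ≠ 0 := (_root_.map_ne_zero _).2 hb0
      rw [div_eq_iff hne, map_add, map_mul, qFrob_qFrob]
      linear_combination -b0 * hcc
    let φm := LinearMap.mulLeft F r
    have hφN : φm ^ N = 1 := by rw [LinearMap.pow_mulLeft, hrN, LinearMap.mulLeft_one]; rfl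
    let eA : A ≃ₗ[F] (Fin R.natDegree → F) := bs.equivFun
    obtain ⟨z, hz, hzd⟩ := exists_commute_det hd (eA.conj φm) hN (by
      rw [show eA.conj φm = eA.conjAlgEquiv F φm from rfl, ← map_pow, hφN, map_one]) d hd0
    let z' : A →ₗ[F] A := eA.symm.conj z
    have hz' : ∀ u, z' (r * u) = r * z' u := by
      intro u
      have h := congrArg eA.symm (hz (eA u))
      simpa [z', φm, LinearEquiv.conj_apply] using h
    have hzlin : ∀ u, z' u = z' 1 * u := by
      intro u
      induction u using AdjoinRoot.induction_on with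
      | _ P =>
        induction P using Polynomial.induction_on' with
        | add P Q hP hQ => simp only [map_add, hP, hQ, mul_add]
        | monomial k e =>
          have hk : ∀ k : ℕ, z' (r ^ k) = z' 1 * r ^ k := fun k => by
            induction k with
            | zero => simp
            | succ k ih => rw [pow_succ', hz', ih]; ring
          rw [← C_mul_X_pow_eq_monomial, map_mul, map_pow, AdjoinRoot.mk_C, AdjoinRoot.mk_X,
            show (AdjoinRoot.of R) e = algebraMap F A e from rfl, ← Algebra.smul_def, map_smul, hk, mul_smul_comm]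
    set v := z' 1
    have hnorm : (Λ v).det = d := by
      rw [← hzd, ← LinearMap.det_conj z eA.symm, ← LinearMap.det_toMatrix bs]
      congr 1
      show LinearMap.toMatrix bs bs (LinearMap.mulLeft F v) = LinearMap.toMatrix bs bs z'
      congr 1
      exact LinearMap.ext fun u => (hzlin u).symm
    have hσd : (Λ (σ v)).det = qFrob hF d := by
      rw [← hadj, det_hstar, hnorm, qFrob_apply]
    have hσu : IsUnit (Λ (σ v)) := (Matrix.isUnit_iff_isUnit_det _).2 (by
      rw [hσd]; exact IsUnit.mk0 _ ((_root_.map_ne_zero _).2 hd0))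
    have hσv : IsUnit (σ v) := by
      rw [IsUnit.isUnit_iff_mulLeft_bijective]
      haveI : Finite A := Module.finite_of_finite F
      refine Finite.injective_iff_bijective.1 fun x y h => Algebra.leftMulMatrix_injective bs ?_
      exact hσu.mul_left_cancel (by rw [← map_mul, ← map_mul]; exact congrArg Λ h)
    obtain ⟨w, hw⟩ := isUnit_iff_exists_inv.1 hσv
    refine ⟨Λ (v * w), hunit _ ?_, by rw [Commute, SemiconjBy, ← map_mul, ← map_mul, mul_comm], ?_⟩
    · rw [map_mul]
      have h2 : σ (σ v) * σ w = 1 := by rw [← map_mul, hw, map_one]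
      rw [hσσ] at h2
      calc σ v * σ w * (v * w) = (σ v * w) * (v * σ w) := by ring
        _ = 1 := by rw [hw, h2, one_mul]
    · have h3 : (Λ (σ v)).det * (Λ w).det = 1 := by rw [← Matrix.det_mul, ← map_mul, hw, map_one, Matrix.det_one]
      rw [map_mul, Matrix.det_mul, hnorm, ← hdc, div_eq_mul_inv, eq_inv_of_mul_eq_one_right h3, hσd]

/-- A semisimple unitary matrix with given characteristic polynomial. -/
theorem exists_model {N : ℕ} (hN : (N : F) ≠ 0) (n₀ : ℕ)
    (hirr : ∀ f : F[X], Irreducible f → f.natDegree ≤ n₀ → f.coeff 0 ≠ 0 → f ∣ X ^ N - 1) :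
    ∀ (n : ℕ) (P : F[X]), n ≤ n₀ → P.Monic → P.natDegree = n → P.coeff 0 ≠ 0 → Stable hF P →
    ∃ g : Matrix (Fin n) (Fin n) F, hstar hF g * g = 1 ∧ g ^ N = 1 ∧ g.charpoly = P ∧
      (1 ≤ n → ∀ c : F, c ^ (q + 1) = 1 →
        ∃ z : Matrix (Fin n) (Fin n) F, hstar hF z * z = 1 ∧ Commute z g ∧ z.det = c) := by
  classical
  have hN0 : 0 < N := Nat.pos_of_ne_zero fun h => hN (by rw [h, Nat.cast_zero])
  intro n
  induction n using Nat.strong_induction_on with
  | _ n ih =>
  intro P hn hP hd h0 hs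
  rcases Nat.eq_zero_or_pos n with rfl | hn0
  · refine ⟨1, by rw [hstar_one, one_mul], one_pow N, ?_, fun h => absurd h (by omega)⟩
    rw [hP.natDegree_eq_zero.1 hd, Matrix.charpoly, Matrix.det_isEmpty]
  obtain ⟨f, hfm, hfi, hfP⟩ := Polynomial.exists_monic_irreducible_factor P
    (fun hu => by rw [Polynomial.natDegree_eq_zero_of_isUnit hu] at hd; omega)
  have hf0 : f.coeff 0 ≠ 0 := fun h => h0 (by
    obtain ⟨D, hD⟩ := hfP; rw [hD, mul_coeff_zero, h, zero_mul])
  obtain ⟨R, hRm, hRd, hRP, hRN, hRs, hR0⟩ := exists_stable_factor hF hN0 hP hs h0 hfi.natDegree_pos hfP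
    (hirr f hfi ((natDegree_le_of_dvd hfP hP.ne_zero).trans (hd.le.trans hn)) hf0)
  obtain ⟨P', hP'⟩ := hRP
  have hP'm : P'.Monic := hRm.of_mul_monic_left (hP' ▸ hP)
  have hdeg : R.natDegree + P'.natDegree = n := by rw [← hRm.natDegree_mul hP'm, ← hP', hd]
  have hP'0 : P'.coeff 0 ≠ 0 := fun h => h0 (by rw [hP', mul_coeff_zero, h, mul_zero])
  obtain ⟨g, hg, hgN, hgc, hgz⟩ := exists_block hF hN hRm hRd hRN hRs
  obtain ⟨g', hg', hgN', hgc', -⟩ := ih P'.natDegree (by omega) P' (by omega) hP'm rfl hP'0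
    (Stable.of_mul hF hRm.ne_zero hR0 hRs (hP' ▸ hs))
  let e : Fin R.natDegree ⊕ Fin P'.natDegree ≃ Fin n := finSumFinEquiv.trans (finCongr hdeg)
  let Ψ := Matrix.reindexAlgEquiv F F e
  have hΨu : ∀ {a : Matrix (Fin R.natDegree) (Fin R.natDegree) F} {b : Matrix (Fin P'.natDegree) (Fin P'.natDegree) F},
      hstar hF a * a = 1 → hstar hF b * b = 1 →
      hstar hF (Ψ (Matrix.fromBlocks a 0 0 b)) * Ψ (Matrix.fromBlocks a 0 0 b) = 1 := by
    intro a b ha hb
    have : hstar hF (Ψ (Matrix.fromBlocks a 0 0 b)) = Ψ (Matrix.fromBlocks (hstar hF a) 0 0 (hstar hF b)) := by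
      simp only [hstar, Ψ, Matrix.reindexAlgEquiv_apply, Matrix.reindex_apply]
      rw [← Matrix.submatrix_map, Matrix.transpose_submatrix, Matrix.fromBlocks_map, Matrix.fromBlocks_transpose]
      simp
    rw [this, ← map_mul, Matrix.fromBlocks_multiply]
    simp [ha, hb]
  refine ⟨Ψ (Matrix.fromBlocks g 0 0 g'), hΨu hg hg', ?_, ?_, fun _ c hc => ?_⟩
  · have hk : ∀ k, (Matrix.fromBlocks g 0 0 g') ^ k = Matrix.fromBlocks (g ^ k) 0 0 (g' ^ k) := fun k => by
      induction k with
      | zero => simp [Matrix.fromBlocks_one]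
      | succ k ih' => rw [pow_succ, ih', Matrix.fromBlocks_multiply]; simp [pow_succ]
    rw [← map_pow, hk, hgN, hgN', Matrix.fromBlocks_one, map_one]
  · rw [Matrix.reindexAlgEquiv_apply, Matrix.charpoly_reindex, Matrix.charpoly_fromBlocks_zero₂₁, hgc, hgc', ← hP']
  · obtain ⟨z, hz, hzg, hzd⟩ := hgz c hc
    refine ⟨Ψ (Matrix.fromBlocks z 0 0 1), hΨu hz (by rw [hstar_one, one_mul]), ?_, ?_⟩
    · rw [Commute, SemiconjBy, ← map_mul, ← map_mul, Matrix.fromBlocks_multiply, Matrix.fromBlocks_multiply]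
      simp [hzg.eq]
    · rw [Matrix.reindexAlgEquiv_apply, Matrix.det_reindex_self, Matrix.det_fromBlocks_zero₂₁, hzd, Matrix.det_one,
        mul_one]

/-- An exponent killing every irreducible polynomial of degree at most `n`. -/
theorem exists_exponent (n : ℕ) : ∃ N : ℕ, (N : F) ≠ 0 ∧
    ∀ f : F[X], Irreducible f → f.natDegree ≤ n → f.coeff 0 ≠ 0 → f ∣ X ^ N - 1 := by
  classical
  refine ⟨Fintype.card F ^ n.factorial - 1, ?_, fun f hf hfd hf0 => ?_⟩
  · rw [Nat.cast_sub (Nat.one_le_pow _ _ Fintype.card_pos), Nat.cast_pow, FiniteField.cast_card_eq_zero,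
      zero_pow (Nat.factorial_ne_zero n), Nat.cast_one, zero_sub]
    exact neg_ne_zero.2 one_ne_zero
  haveI := Fact.mk hf
  haveI : Module.Finite F (AdjoinRoot f) := (AdjoinRoot.powerBasis hf.ne_zero).finite
  haveI : Finite (AdjoinRoot f) := Module.finite_of_finite F
  letI := Fintype.ofFinite (AdjoinRoot f)
  have hcard : Fintype.card (AdjoinRoot f) = Fintype.card F ^ f.natDegree := by
    rw [Module.card_eq_pow_finrank (K := F), (AdjoinRoot.powerBasis hf.ne_zero).finrank, AdjoinRoot.powerBasis_dim]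
  have hr0 : AdjoinRoot.root f ≠ 0 := fun h => by
    rw [← AdjoinRoot.mk_X, AdjoinRoot.mk_eq_zero] at h
    obtain ⟨D, hD⟩ := (hf.associated_of_dvd irreducible_X h).symm
    apply hf0
    rw [← hD, mul_coeff_zero, coeff_X_zero, zero_mul]
  rw [← AdjoinRoot.mk_eq_zero, map_sub, map_pow, AdjoinRoot.mk_X, map_one, sub_eq_zero]
  obtain ⟨k, hk⟩ := Nat.pow_sub_one_dvd_pow_sub_one (Fintype.card F) (Nat.dvd_factorial hf.natDegree_pos hfd)
  rw [hk, pow_mul, ← hcard, FiniteField.pow_card_sub_one_eq_one _ hr0, one_pow]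

variable {n : ℕ}

theorem stable_charpoly {g : Matrix (Fin n) (Fin n) F} (hg : hstar hF g * g = 1) : Stable hF g.charpoly := by
  classical
  have hgg : g * hstar hF g = 1 := mul_eq_one_comm.1 hg
  have h1 : g.charpoly.reverse = C ((-1 : F) ^ n * g.det) * (hstar hF g).charpoly := by
    rw [Matrix.reverse_charpoly, Matrix.charpolyRev, Matrix.charpoly, map_mul, map_pow, map_neg, map_one,
      mul_assoc, RingHom.map_det, ← Matrix.det_mul]
    rw [show (-1 : F[X]) ^ n = (-1) ^ Fintype.card (Fin n) by rw [Fintype.card_fin], ← Matrix.det_neg]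
    congr 1
    rw [Matrix.charmatrix, mul_sub, RingHom.mapMatrix_apply, RingHom.mapMatrix_apply, ← Matrix.map_mul, hgg,
      Matrix.map_one C (map_zero _) (map_one _), neg_sub, Matrix.scalar_apply]
    congr 1
    ext i j
    simp [Matrix.mul_diagonal]
  rw [Stable, h1, hstar, Matrix.charpoly_transpose, Matrix.charpoly_map]
  congr 2
  rw [Matrix.det_eq_sign_charpoly_coeff, Fintype.card_fin, ← mul_assoc, ← mul_pow, neg_one_mul, neg_neg, one_pow,
    one_mul]

/-- The polynomials in question are counted by `q ^ k`. -/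
theorem card_stable (k : ℕ) :
    Nat.card {P : F[X] // (P.Monic ∧ P.natDegree = k + 1 ∧ P.coeff 0 = (-1) ^ (k + 1)) ∧ Stable hF P} = q ^ k := by
  classical
  set ε : F := (-1) ^ (k + 1) with hε
  have hε2 : ε * ε = 1 := by rw [hε, ← mul_pow]; simp
  have hεf : qFrob hF ε = ε := by rw [hε, map_pow, map_neg, map_one]
  obtain ⟨a, -, ha⟩ := exists_trace_one hF
  let τ : (Fin k → F) → (Fin k → F) := fun v i => ε * qFrob hF (v i.rev)
  have hττ : ∀ v, τ (τ v) = v := fun v => funext fun i => by
    simp only [τ, map_mul, hεf, Fin.rev_rev, qFrob_qFrob]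
    rw [← mul_assoc, hε2, one_mul]
  let T := {v : Fin k → F // τ v = v}
  have hT : Nat.card T = q ^ k := by
    have hbij : Nat.card (T × T) = Nat.card (Fin k → F) := by
      refine Nat.card_congr (Equiv.ofBijective (fun p : T × T => p.1.1 + a • p.2.1) ⟨?_, ?_⟩)
      · intro p p' h
        have h' : ∀ i, p.1.1 i + a * p.2.1 i = p'.1.1 i + a * p'.2.1 i := fun i => by simpa using congrFun h i
        have hτ : ∀ i, p.1.1 i + qFrob hF a * p.2.1 i = p'.1.1 i + qFrob hF a * p'.2.1 i := fun i => by
          have h2 : ∀ w : T, ∀ i, ε * qFrob hF (w.1 i.rev) = w.1 i := fun w i => congrFun w.2 i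
          have := congrArg (fun x => ε * qFrob hF x) (h' i.rev)
          simp only [map_add, map_mul] at this
          rw [← h2 p.1 i, ← h2 p.2 i, ← h2 p'.1 i, ← h2 p'.2 i]
          linear_combination this
        have h2 : ∀ i, p.2.1 i = p'.2.1 i := fun i =>
          mul_left_cancel₀ (sub_ne_zero.2 ha.symm) (by linear_combination h' i - hτ i)
        refine Prod.ext (Subtype.ext (funext fun i => ?_)) (Subtype.ext (funext h2))
        linear_combination h' i - a * h2 i
      · intro v
        let w : Fin k → F := fun i => (a - qFrob hF a)⁻¹ * (v i - τ v i)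
        have hw : τ w = w := funext fun i => by
          have hvv := congrFun (hττ v) i
          simp only [τ] at hvv
          simp only [w, τ, map_mul, map_inv₀, map_sub, qFrob_qFrob, hεf]
          rw [← neg_sub a (qFrob hF a), inv_neg, Fin.rev_rev]
          linear_combination ε * 0 + (a - qFrob hF a)⁻¹ * (v i) * hε2
        have hu : τ (v - a • w) = v - a • w := funext fun i => by
          have h1 := congrFun hw i
          simp only [τ] at h1
          have hne := sub_ne_zero.2 ha.symm
          have h3 : (a - qFrob hF a) * w i = v i - τ v i := by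
            simp only [w]; rw [← mul_assoc, mul_inv_cancel₀ hne, one_mul]
          simp only [τ, Pi.sub_apply, Pi.smul_apply, smul_eq_mul, map_sub, map_mul] at h3 ⊢
          linear_combination h3 - qFrob hF a * h1
        exact ⟨(⟨_, hu⟩, ⟨w, hw⟩), by simp⟩
    rw [Nat.card_prod, Nat.card_fun, Nat.card_eq_fintype_card (α := F), hF, Nat.card_eq_fintype_card (α := Fin k),
      Fintype.card_fin, ← pow_mul, mul_comm 2 k, pow_mul, sq] at hbij
    exact Nat.mul_self_inj.1 hbij
  rw [← hT]
  have hlt : ∀ v : Fin k → F, ((degreeLTEquiv F (k + 1)).symm (Fin.cons ε v) : F[X]).degree < (k + 1 : ℕ) :=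
    fun v => mem_degreeLT.1 ((degreeLTEquiv F (k + 1)).symm (Fin.cons ε v)).2
  let mkP : (Fin k → F) → F[X] := fun v => X ^ (k + 1) + ((degreeLTEquiv F (k + 1)).symm (Fin.cons ε v) : F[X])
  have hco : ∀ (v : Fin k → F) (i : Fin (k + 1)), (mkP v).coeff i = (Fin.cons ε v : Fin (k + 1) → F) i :=
    fun v i => by
      rw [coeff_add, coeff_X_pow, if_neg i.2.ne, zero_add]
      exact congrFun ((degreeLTEquiv F (k + 1)).apply_symm_apply (Fin.cons ε v)) i
  have hmon : ∀ v, (mkP v).Monic := fun v => monic_X_pow_add (hlt v)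
  have hdeg : ∀ v, (mkP v).natDegree = k + 1 := fun v => natDegree_eq_of_degree_eq_some (by
    rw [degree_add_eq_left_of_degree_lt] <;> rw [degree_X_pow]
    exact hlt v)
  have hc0 : ∀ v, (mkP v).coeff 0 = ε := fun v => by simpa using hco v 0
  have hcs : ∀ v (i : Fin k), (mkP v).coeff ((i : ℕ) + 1) = v i := fun v i => by simpa using hco v i.succ
  have hstab : ∀ v, Stable hF (mkP v) ↔ τ v = v := by
    intro v
    constructor
    · intro h
      funext i
      have h1 := congrArg (fun P : F[X] => P.coeff ((i : ℕ) + 1)) h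
      simp only [coeff_C_mul, coeff_map, hc0, hcs, Polynomial.reverse, coeff_reflect, hdeg] at h1
      have hi := i.2
      rw [revAt_le (by omega), show k + 1 - ((i : ℕ) + 1) = ((i.rev : Fin k) : ℕ) + 1 by
        rw [Fin.val_rev]; omega, hcs] at h1
      show ε * qFrob hF (v i.rev) = v i
      rw [h1, map_mul, hεf, qFrob_qFrob, ← mul_assoc, hε2, one_mul]
    · intro h
      show (mkP v).reverse = _
      ext j
      rw [Polynomial.reverse, coeff_reflect, hdeg, coeff_C_mul, coeff_map, hc0]
      rcases Nat.lt_or_ge (k + 1) j with hj | hj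
      · rw [revAt_eq_self_of_lt hj, coeff_eq_zero_of_natDegree_lt (by rw [hdeg]; exact hj), map_zero, mul_zero]
      rw [revAt_le hj]
      rcases Nat.eq_zero_or_pos j with rfl | hj0
      · rw [Nat.sub_zero, hc0, hεf, hε2, ← hdeg v]; exact (hmon v)
      rcases eq_or_lt_of_le hj with rfl | hjk
      · rw [Nat.sub_self, hc0, show (mkP v).coeff (k + 1) = 1 by rw [← hdeg v]; exact hmon v, map_one, mul_one]
      obtain ⟨i, rfl⟩ : ∃ i : Fin k, j = (i : ℕ) + 1 := ⟨⟨j - 1, by omega⟩, by simp; omega⟩
      have hi := i.2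
      rw [show k + 1 - ((i : ℕ) + 1) = ((i.rev : Fin k) : ℕ) + 1 by rw [Fin.val_rev]; omega, hcs, hcs]
      have h2 := congrFun h i.rev
      simp only [τ, Fin.rev_rev] at h2
      exact h2.symm
  symm
  refine Nat.card_congr (Equiv.ofBijective (fun v : T => ⟨mkP v.1, ⟨hmon _, hdeg _, hc0 _⟩, (hstab _).2 v.2⟩) ⟨?_, ?_⟩)
  · intro v w h
    refine Subtype.ext (funext fun i => ?_)
    have h' : mkP v.1 = mkP w.1 := congrArg Subtype.val h
    rw [← hcs v.1 i, h', hcs]
  · rintro ⟨P, ⟨hm, hd, h0⟩, hs⟩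
    have hP : mkP (fun i : Fin k => P.coeff ((i : ℕ) + 1)) = P := by
      refine Polynomial.ext fun j => ?_
      rcases lt_trichotomy j (k + 1) with hj | rfl | hj
      · refine (hco _ ⟨j, hj⟩).trans ?_
        cases j with
        | zero => simpa using h0.symm
        | succ j => exact Fin.cons_succ (α := fun _ => F) ε (fun i : Fin k => P.coeff ((i : ℕ) + 1)) ⟨j, by omega⟩
      · conv_lhs => rw [← hdeg (fun i : Fin k => P.coeff ((i : ℕ) + 1))]
        rw [(hmon _).coeff_natDegree, ← hd, hm.coeff_natDegree]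
      · rw [coeff_eq_zero_of_natDegree_lt (by rw [hdeg]; exact hj),
          coeff_eq_zero_of_natDegree_lt (p := P) (by omega)]
    exact ⟨⟨_, (hstab _).1 (hP.symm ▸ hs)⟩, Subtype.ext hP⟩

end Cfsg.Agent.Lie.UnitarySemisimple
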