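import Cfsg.Agent.Lib.Block.PermChar
import Cfsg.Agent.Lib.Char.TwoTransConstituent

/-! The permutation character of `SL_n` on the non-zero vectors is multiplicity free. -/

set_option autoImplicit false

namespace Cfsg.Agent.Lie.Weil

open Cfsg Cfsg.Agent.Block.PermChar Module Matrix

variable {F : Type*} [Field F] {n : ℕ}

/-- The non-zero vectors. -/
abbrev Vec (F : Type*) [Field F] (n : ℕ) : Type _ := {v : Fin n → F // v ≠ 0}

instance : MulAction (SpecialLinearGroup (Fin n) F) (Vec F n) where
  smul g v := ⟨(g : Matrix (Fin n) (Fin n) F) *ᵥ v.1, fun h => v.2 (by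
    have := congrArg (((g⁻¹ : SpecialLinearGroup (Fin n) F) : Matrix (Fin n) (Fin n) F) *ᵥ ·) h
    simpa [Matrix.mulVec_mulVec, Matrix.adjugate_mul, SpecialLinearGroup.det_coe] using this)⟩
  one_smul v := Subtype.ext (by
    show ((1 : SpecialLinearGroup (Fin n) F) : Matrix (Fin n) (Fin n) F) *ᵥ v.1 = v.1
    simp)
  mul_smul g h v := Subtype.ext (by
    show ((g * h : SpecialLinearGroup (Fin n) F) : Matrix (Fin n) (Fin n) F) *ᵥ v.1 =
      (g : Matrix (Fin n) (Fin n) F) *ᵥ ((h : Matrix (Fin n) (Fin n) F) *ᵥ v.1)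
    exact (Matrix.mulVec_mulVec _ _ _).symm)

theorem coe_smul (g : SpecialLinearGroup (Fin n) F) (v : Vec F n) :
    (g • v).1 = (g : Matrix (Fin n) (Fin n) F) *ᵥ v.1 := rfl

/-- `SL_n` is transitive on tuples that do not span. -/
theorem exists_map {k : ℕ} (hk : k < n) {x y : Fin k → (Fin n → F)} (hx : LinearIndependent F x)
    (hy : LinearIndependent F y) :
    ∃ g : SpecialLinearGroup (Fin n) F, ∀ i, (g : Matrix (Fin n) (Fin n) F) *ᵥ x i = y i := by
  classical
  obtain ⟨C, hC⟩ := Submodule.exists_isCompl (Submodule.span F (Set.range x))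
  obtain ⟨C', hC'⟩ := Submodule.exists_isCompl (Submodule.span F (Set.range y))
  have hd := Submodule.finrank_add_eq_of_isCompl hC
  have hd' := Submodule.finrank_add_eq_of_isCompl hC'
  rw [finrank_span_eq_card hx, Module.finrank_fin_fun] at hd
  rw [finrank_span_eq_card hy, Module.finrank_fin_fun] at hd'
  let e₁ := (Basis.span hx).equiv (Basis.span hy) (Equiv.refl _)
  let e₂ : C ≃ₗ[F] C' := LinearEquiv.ofFinrankEq _ _ (by omega)
  let L : (Fin n → F) ≃ₗ[F] (Fin n → F) := ((Submodule.prodEquivOfIsCompl _ _ hC).symm.trans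
    (e₁.prodCongr e₂)).trans (Submodule.prodEquivOfIsCompl _ _ hC')
  have hL : ∀ i, L (x i) = y i := by
    intro i
    have e1 : (Submodule.prodEquivOfIsCompl _ _ hC).symm (x i) = (Basis.span hx i, 0) := by
      rw [LinearEquiv.symm_apply_eq, Submodule.coe_prodEquivOfIsCompl']
      simp
    simp only [L, LinearEquiv.trans_apply, e1, LinearEquiv.prodCongr_apply, map_zero, e₁,
      Basis.equiv_apply, Equiv.refl_apply, Submodule.coe_prodEquivOfIsCompl']
    simp
  set M := LinearMap.toMatrix' L.toLinearMap with hM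
  have hMv : ∀ v, M *ᵥ v = L v := fun v => by
    rw [hM, LinearMap.toMatrix'_mulVec]
    rfl
  have hdet : M.det ≠ 0 := by
    rw [hM, LinearMap.det_toMatrix']
    exact L.isUnit_det'.ne_zero
  -- adjust the determinant outside the span of the images
  obtain ⟨w, hw⟩ : ∃ w, w ∉ Submodule.span F (Set.range y) := by
    by_contra h
    push Not at h
    have h' := Submodule.eq_top_iff'.2 h
    have := finrank_span_eq_card hy
    rw [h', finrank_top, Module.finrank_fin_fun, Fintype.card_fin] at this
    omega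
  obtain ⟨f, hfw, hf⟩ := Submodule.exists_dual_map_eq_bot_of_notMem hw inferInstance
  have hfy : ∀ i, f (y i) = 0 := fun i => by
    have h : f (y i) ∈ (Submodule.span F (Set.range y)).map f :=
      ⟨_, Submodule.subset_span ⟨i, rfl⟩, rfl⟩
    rwa [hf, Submodule.mem_bot] at h
  set φ : Fin n → F := fun j => f (Pi.single j 1) with hφ
  have hdot : ∀ v, φ ⬝ᵥ v = f v := by
    intro v
    conv_rhs => rw [pi_eq_sum_univ' v]
    rw [map_sum, dotProduct]
    exact Finset.sum_congr rfl fun j _ => by rw [map_smul, smul_eq_mul, hφ, mul_comm]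
  set δ := (M.det)⁻¹
  set T : Matrix (Fin n) (Fin n) F :=
    1 + replicateCol Unit (((δ - 1) / f w) • w) * replicateRow Unit φ with hT
  have hTdet : T.det = δ := by
    rw [hT, det_one_add_replicateCol_mul_replicateRow, dotProduct_smul, hdot, smul_eq_mul,
      div_mul_cancel₀ _ hfw]
    ring
  refine ⟨⟨T * M, by rw [det_mul, hTdet, inv_mul_cancel₀ hdet]⟩, fun i => ?_⟩
  show (T * M) *ᵥ x i = y i
  rw [← mulVec_mulVec, hMv, hL, hT, add_mulVec, one_mulVec, ← mulVec_mulVec]
  have : replicateRow Unit φ *ᵥ y i = 0 := by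
    funext u
    show φ ⬝ᵥ y i = 0
    rw [hdot, hfy]
  rw [this, mulVec_zero, add_zero]

variable [Fintype F] [DecidableEq F]

/-- Scalar multiple of a non-zero vector. -/
def sc (l : Fˣ) (v : Vec F n) : Vec F n :=
  ⟨(l : F) • v.1, smul_ne_zero l.ne_zero v.2⟩

theorem pretrans (hn : 2 ≤ n) : MulAction.IsPretransitive (SpecialLinearGroup (Fin n) F) (Vec F n) := by
  refine ⟨fun v w => ?_⟩
  obtain ⟨g, hg⟩ := exists_map (F := F) (k := 1) (x := ![v.1]) (y := ![w.1]) (by omega)
    (LinearIndependent.of_subsingleton (i := 0) (by simpa using v.2))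
    (LinearIndependent.of_subsingleton (i := 0) (by simpa using w.2))
  exact ⟨g, Subtype.ext (by simpa [coe_smul] using hg 0)⟩

theorem indep {x y : Vec F n} (h : ∀ l : Fˣ, y ≠ sc l x) : LinearIndependent F ![x.1, y.1] := by
  rw [LinearIndependent.pair_iff' x.2]
  intro a ha
  have ha0 : a ≠ 0 := fun e => y.2 (by rw [← ha, e, zero_smul])
  exact h (Units.mk0 a ha0) (Subtype.ext ha.symm)

/-- The matrix of multiplication by a scalar. -/
def scMat (l : Fˣ) : Matrix (Vec F n) (Vec F n) ℂ := Matrix.of fun x y => if y = sc l x then 1 else 0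

/-- The matrix with all entries one. -/
def allOne : Matrix (Vec F n) (Vec F n) ℂ := Matrix.of fun _ _ => 1

theorem sc_inj (x : Vec F n) {l m : Fˣ} (h : sc l x = sc m x) : l = m :=
  Units.ext (smul_left_injective F x.2 (congrArg Subtype.val h))

theorem mul_scMat (l : Fˣ) (M : Matrix (Vec F n) (Vec F n) ℂ) (x y : Vec F n) :
    (scMat (n := n) l * M) x y = M (sc l x) y := by
  rw [Matrix.mul_apply, Finset.sum_eq_single (sc l x)]
  · simp [scMat]
  · intro b _ hb; simp [scMat, hb]
  · simp

theorem scMat_comm (l m : Fˣ) : scMat (n := n) l * scMat m = scMat m * scMat l := by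
  ext x y
  rw [mul_scMat, mul_scMat]
  have : sc m (sc l x) = sc l (sc m x) := Subtype.ext (smul_comm (m : F) (l : F) x.1)
  simp [scMat, this]

theorem scMat_allOne (l : Fˣ) : scMat (n := n) l * allOne = allOne * scMat l := by
  ext x y
  rw [mul_scMat, Matrix.mul_apply, Finset.sum_eq_single (sc l⁻¹ y)]
  · have : sc l (sc l⁻¹ y) = y := Subtype.ext (by simp [sc, smul_smul])
    simp [scMat, allOne, this]
  · intro b _ hb
    have : y ≠ sc l b := fun e => hb (by rw [e]; exact Subtype.ext (by simp [sc, smul_smul]))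
    simp [scMat, this]
  · simp

/-- The form of an invariant matrix. -/
theorem inv_form (hn : 3 ≤ n) {M : Matrix (Vec F n) (Vec F n) ℂ}
    (hM : Inv (SpecialLinearGroup (Fin n) F) (Vec F n) M) :
    ∃ (m : Fˣ → ℂ) (c : ℂ), M = (∑ l : Fˣ, m l • scMat l) + c • allOne := by
  have hpre := pretrans (F := F) (n := n) (by omega)
  let e0 : Vec F n := ⟨Pi.single ⟨0, by omega⟩ 1, by simp [Pi.single_eq_zero_iff]⟩
  let e1 : Vec F n := ⟨Pi.single ⟨1, by omega⟩ 1, by simp [Pi.single_eq_zero_iff]⟩
  have he : ∀ l : Fˣ, e1 ≠ sc l e0 := by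
    intro l h
    have := congrFun (congrArg Subtype.val h) ⟨1, by omega⟩
    simp [e0, e1, sc] at this
  refine ⟨fun l => M e0 (sc l e0) - M e0 e1, M e0 e1, Matrix.ext fun x y => ?_⟩
  simp only [Matrix.add_apply, Matrix.sum_apply, Matrix.smul_apply, scMat, allOne, Matrix.of_apply,
    smul_eq_mul, mul_one]
  by_cases hl : ∃ l, y = sc l x
  · obtain ⟨l, rfl⟩ := hl
    rw [Finset.sum_eq_single l (fun b _ hb => by
      rw [if_neg fun e => hb (sc_inj x e).symm, mul_zero]) (by simp), if_pos rfl, mul_one,
      sub_add_cancel]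
    obtain ⟨g, rfl⟩ := hpre.exists_smul_eq e0 x
    have e : sc l (g • e0) = g • sc l e0 := Subtype.ext (by
      simp [sc, coe_smul, Matrix.mulVec_smul])
    rw [e, hM]
  · push Not at hl
    rw [Finset.sum_eq_zero (fun b _ => by rw [if_neg (hl b), mul_zero]), zero_add]
    obtain ⟨g, hg⟩ := exists_map (F := F) (k := 2) (by omega) (indep he) (indep hl)
    have h0 : g • e0 = x := Subtype.ext (hg 0)
    have h1 : g • e1 = y := Subtype.ext (hg 1)
    rw [← h0, ← h1, hM]

theorem inv_comm (hn : 3 ≤ n) (M N : Matrix (Vec F n) (Vec F n) ℂ)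
    (hM : Inv (SpecialLinearGroup (Fin n) F) (Vec F n) M)
    (hN : Inv (SpecialLinearGroup (Fin n) F) (Vec F n) N) : M * N = N * M := by
  obtain ⟨a, c, rfl⟩ := inv_form hn hM
  obtain ⟨b, d, rfl⟩ := inv_form hn hN
  have h1 : ∀ (a : Fˣ → ℂ) (c : ℂ) (l : Fˣ),
      Commute ((∑ l : Fˣ, a l • scMat (n := n) l) + c • allOne) (scMat l) := fun a c l =>
    ((Commute.sum_left _ _ _ fun i _ => Commute.smul_left (scMat_comm i l) _)).add_left
      (Commute.smul_left (scMat_allOne l).symm _)
  have h2 : Commute ((∑ l : Fˣ, a l • scMat (n := n) l) + c • allOne) allOne :=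
    ((Commute.sum_left _ _ _ fun i _ => Commute.smul_left (scMat_allOne i) _)).add_left
      (Commute.smul_left (Commute.refl _) _)
  exact ((Commute.sum_right _ _ _ fun i _ => Commute.smul_right (h1 a c i) _).add_right
    (Commute.smul_right h2 _)).eq

theorem card_orbitals (hn : 3 ≤ n) :
    Nat.card (MulAction.orbitRel.Quotient (SpecialLinearGroup (Fin n) F) (Vec F n × Vec F n)) =
      Fintype.card F := by
  classical
  have hpre := pretrans (F := F) (n := n) (by omega)
  let e0 : Vec F n := ⟨Pi.single ⟨0, by omega⟩ 1, by simp [Pi.single_eq_zero_iff]⟩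
  let e1 : Vec F n := ⟨Pi.single ⟨1, by omega⟩ 1, by simp [Pi.single_eq_zero_iff]⟩
  have he : ∀ l : Fˣ, e1 ≠ sc l e0 := by
    intro l h
    have := congrFun (congrArg Subtype.val h) ⟨1, by omega⟩
    simp [e0, e1, sc] at this
  have hgs : ∀ (g : SpecialLinearGroup (Fin n) F) (l : Fˣ) (v : Vec F n),
      g • sc l v = sc l (g • v) := fun g l v =>
    Subtype.ext (by simp [sc, coe_smul, Matrix.mulVec_smul])
  let rep : Option Fˣ → Vec F n × Vec F n := fun o => o.elim (e0, e1) fun l => (e0, sc l e0)
  have hb : Function.Bijective fun o =>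
      (Quotient.mk'' (rep o) :
        MulAction.orbitRel.Quotient (SpecialLinearGroup (Fin n) F) (Vec F n × Vec F n)) := by
    constructor
    · intro o o' h
      obtain ⟨g, hg⟩ := Quotient.exact' h
      have hg1 := congrArg Prod.fst hg
      have hg2 := congrArg Prod.snd hg
      cases o with
      | none =>
        cases o' with
        | none => rfl
        | some l =>
          simp only [rep, Option.elim, Prod.smul_fst, Prod.smul_snd, hgs] at hg1 hg2
          rw [hg1] at hg2
          exact absurd hg2.symm (he l)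
      | some l =>
        cases o' with
        | none =>
          exfalso
          simp only [rep, Option.elim, Prod.smul_fst, Prod.smul_snd] at hg1 hg2
          have h1 : g • e1 = g • sc l e0 := by rw [hgs, hg1]; exact hg2
          exact he l (smul_left_cancel g h1)
        | some m =>
          simp only [rep, Option.elim, Prod.smul_fst, Prod.smul_snd, hgs] at hg1 hg2
          rw [hg1] at hg2
          rw [sc_inj e0 hg2]
    · intro q
      induction q using Quotient.inductionOn' with
      | h p =>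
        obtain ⟨x, y⟩ := p
        by_cases hl : ∃ l, y = sc l x
        · obtain ⟨l, rfl⟩ := hl
          obtain ⟨g, hg⟩ := hpre.exists_smul_eq x e0
          exact ⟨some l, Quotient.sound' ⟨g, Prod.ext hg (by
            show g • sc l x = sc l e0
            rw [hgs, hg])⟩⟩
        · push Not at hl
          obtain ⟨g, hg⟩ := exists_map (F := F) (k := 2) (by omega) (indep hl) (indep he)
          exact ⟨none, Quotient.sound' ⟨g, Prod.ext (Subtype.ext (hg 0)) (Subtype.ext (hg 1))⟩⟩
  rw [← Nat.card_congr (Equiv.ofBijective _ hb), Finite.card_option, Nat.card_units,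
    Nat.card_eq_fintype_card]
  have := Fintype.card_pos (α := F)
  omega

/-- The principal character and `q - 1` further distinct irreducible characters. -/
theorem perm_decomp (hn : 3 ≤ n) :
    ∃ χ : Fin (Fintype.card F - 1) → (SpecialLinearGroup (Fin n) F → ℂ),
      (∀ i, IsIrrCharacter (SpecialLinearGroup (Fin n) F) (χ i)) ∧ Function.Injective χ ∧
      ∀ g : SpecialLinearGroup (Fin n) F,
        piFun (SpecialLinearGroup (Fin n) F) (Vec F n) g = 1 + ∑ i, χ i g := by
  classical
  have hne : Nonempty (Vec F n) := ⟨⟨Pi.single ⟨0, by omega⟩ 1, by simp [Pi.single_eq_zero_iff]⟩⟩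
  let S : Finset (IrrCharacter (SpecialLinearGroup (Fin n) F)) := Finset.univ.filter fun χ =>
    mult (SpecialLinearGroup (Fin n) F) (Vec F n) (χ : SpecialLinearGroup (Fin n) F → ℂ) ≠ 0
  have hfree := free_of_comm (inv_comm (F := F) (n := n) hn)
  have hS : S.card = Fintype.card F := by
    have h1 := sum_mult_sq (G := SpecialLinearGroup (Fin n) F) (Ω := Vec F n)
    rw [card_orbitals hn, Finset.sum_congr rfl (fun (χ : IrrCharacter (SpecialLinearGroup (Fin n) F)) _ => show
      mult (SpecialLinearGroup (Fin n) F) (Vec F n) (χ : SpecialLinearGroup (Fin n) F → ℂ) *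
        (starRingEnd ℂ) (mult (SpecialLinearGroup (Fin n) F) (Vec F n)
          (χ : SpecialLinearGroup (Fin n) F → ℂ)) =
        if mult (SpecialLinearGroup (Fin n) F) (Vec F n)
          (χ : SpecialLinearGroup (Fin n) F → ℂ) ≠ 0 then 1 else 0 by
        rcases hfree χ with e | e <;> simp [e]), Finset.sum_boole] at h1
    exact_mod_cast h1
  let one' : IrrCharacter (SpecialLinearGroup (Fin n) F) := ⟨fun _ => 1, Char.isIrr_one⟩
  have hone : one' ∈ S := Finset.mem_filter.2 ⟨Finset.mem_univ _, by
    rw [Char.mult_one (pretrans (by omega)) hne]; exact one_ne_zero⟩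
  have hcard : (S.erase one').card = Fintype.card F - 1 := by
    rw [Finset.card_erase_of_mem hone, hS]
  let e : Fin (Fintype.card F - 1) ≃ ↥(S.erase one') := (Finset.equivFinOfCardEq hcard).symm
  refine ⟨fun i => ((e i).1 : SpecialLinearGroup (Fin n) F → ℂ), fun i => (e i).1.2,
    fun i j h => e.injective (Subtype.ext (Subtype.ext h)), fun g => ?_⟩
  have hd := congrFun (piFun_decomp (G := SpecialLinearGroup (Fin n) F) (Ω := Vec F n)) g
  rw [Finset.sum_apply] at hd
  rw [hd, ← Finset.sum_subset (Finset.subset_univ S) (fun χ _ hχ => by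
      have h0 : mult (SpecialLinearGroup (Fin n) F) (Vec F n)
          (χ : SpecialLinearGroup (Fin n) F → ℂ) = 0 := by
        by_contra h
        exact hχ (Finset.mem_filter.2 ⟨Finset.mem_univ _, h⟩)
      simp [h0]), ← Finset.add_sum_erase _ _ hone]
  congr 1
  · rw [Pi.smul_apply, Char.mult_one (pretrans (by omega)) hne, one_smul]
  · rw [← Finset.sum_coe_sort (S.erase one')]
    symm
    refine Fintype.sum_equiv e _ _ fun i => ?_
    have hm := (Finset.mem_filter.1 (Finset.mem_of_mem_erase (e i).2)).2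
    rcases hfree (e i).1 with h | h
    · exact absurd h hm
    · rw [Pi.smul_apply, h, one_smul]

end Cfsg.Agent.Lie.Weil
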